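import Cfsg.Agent.Lib.CharTheory.Galois
import Mathlib.FieldTheory.IsAlgClosed.Classification

/-!
# Field automorphisms of the complex numbers and power maps on character values
-/

namespace CfsgLib.Blocks.ComplexAut

open Cfsg CfsgLib.CharTheory
open scoped IntermediateField

set_option linter.style.haveILetI false

/-- An automorphism of a subfield extends. -/
theorem exists_extend (K : IntermediateField ℚ ℂ) (τ : K ≃+* K) :
    ∃ σ : ℂ ≃+* ℂ, ∀ a : K, σ (a : ℂ) = (τ a : ℂ) := by
  obtain ⟨s, hs⟩ := exists_isTranscendenceBasis K ℂ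
  let v : s → ℂ := fun i => (i : ℂ)
  have hv : IsTranscendenceBasis K v := hs
  letI := IsAlgClosed.isAlgClosure_of_transcendence_basis v hv
  let A := Algebra.adjoin K (Set.range v)
  let e : A ≃+* A := hv.1.aevalEquiv.symm.toRingEquiv.trans
    ((MvPolynomial.mapEquiv s τ).trans hv.1.aevalEquiv.toRingEquiv)
  refine ⟨IsAlgClosure.equivOfEquiv ℂ ℂ e, fun a => ?_⟩
  have h1 : e (algebraMap K A a) = algebraMap K A (τ a) := by
    show hv.1.aevalEquiv ((MvPolynomial.mapEquiv s τ) (hv.1.aevalEquiv.symm (algebraMap K A a))) = _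
    rw [AlgEquiv.commutes, MvPolynomial.algebraMap_eq,
      show MvPolynomial.mapEquiv s τ (MvPolynomial.C a) = MvPolynomial.C (τ a) from
        MvPolynomial.map_C (τ : K →+* K) a, ← MvPolynomial.algebraMap_eq, AlgEquiv.commutes]
  show IsAlgClosure.equivOfEquiv ℂ ℂ e (algebraMap A ℂ (algebraMap K A a)) = _
  rw [IsAlgClosure.equivOfEquiv_algebraMap, h1]
  rfl

/-- Exponents prime to the order are realised by field automorphisms. -/
theorem exists_aut_pow {n m : ℕ} (hn : n ≠ 0) (hm : m.Coprime n) :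
    ∃ σ : ℂ ≃+* ℂ, ∀ x : ℂ, x ^ n = 1 → σ x = x ^ m := by
  obtain ⟨f, hf⟩ := exists_galois_hom hn hm
  haveI : FiniteDimensional ℚ (rootField n) :=
    IntermediateField.adjoin.finiteDimensional (isIntegral_exp hn)
  haveI : NeZero n := ⟨hn⟩
  have hζ := isPrimitiveRoot_exp' hn
  set ζ := Complex.exp (2 * Real.pi * Complex.I / n)
  have hmem : ∀ a : rootField n, f a ∈ rootField n := by
    rintro ⟨z, hz⟩
    induction hz using IntermediateField.adjoin_induction with
    | mem z hz =>
      rw [Set.mem_singleton_iff] at hz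
      subst hz
      have h1 := hf ⟨ζ, IntermediateField.mem_adjoin_simple_self ℚ _⟩ hζ.pow_eq_one
      exact (Eq.symm h1 : _ = f _) ▸ pow_mem (IntermediateField.mem_adjoin_simple_self ℚ ζ) m
    | algebraMap q =>
      exact (f.commutes q).symm ▸ (rootField n).algebraMap_mem q
    | add x y hx hy h1 h2 =>
      rw [show (⟨x + y, _⟩ : rootField n) = ⟨x, hx⟩ + ⟨y, hy⟩ from rfl, map_add]
      exact add_mem h1 h2
    | inv x hx h1 =>
      rw [show (⟨x⁻¹, _⟩ : rootField n) = (⟨x, hx⟩ : rootField n)⁻¹ from rfl, map_inv₀]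
      exact inv_mem h1
    | mul x y hx hy h1 h2 =>
      rw [show (⟨x * y, _⟩ : rootField n) = ⟨x, hx⟩ * ⟨y, hy⟩ from rfl, map_mul]
      exact mul_mem h1 h2
  let g : rootField n →ₐ[ℚ] rootField n :=
    { toFun := fun a => ⟨f a, hmem a⟩
      map_one' := Subtype.ext (map_one f)
      map_mul' := fun a b => Subtype.ext (map_mul f a b)
      map_zero' := Subtype.ext (map_zero f)
      map_add' := fun a b => Subtype.ext (map_add f a b)
      commutes' := fun q => Subtype.ext (f.commutes q) }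
  let τ : rootField n ≃+* rootField n := RingEquiv.ofBijective g.toRingHom
    ⟨g.toRingHom.injective, LinearMap.injective_iff_surjective.1
      (show Function.Injective g.toLinearMap from g.toRingHom.injective)⟩
  obtain ⟨σ, hσ⟩ := exists_extend (rootField n) τ
  exact ⟨σ, fun x hx => (hσ ⟨x, mem_rootField hn hx⟩).trans (hf _ hx)⟩

/-- An automorphism raises the roots of unity to a power. -/
theorem exists_pow_of_aut {n : ℕ} (hn : n ≠ 0) (σ : ℂ ≃+* ℂ) :
    ∃ m : ℕ, m.Coprime n ∧ ∀ x : ℂ, x ^ n = 1 → σ x = x ^ m := by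
  haveI : NeZero n := ⟨hn⟩
  have hζ := isPrimitiveRoot_exp' hn
  set ζ := Complex.exp (2 * Real.pi * Complex.I / n)
  obtain ⟨m, -, hm, hmσ⟩ := hζ.isPrimitiveRoot_iff.mp (hζ.map_of_injective (f := σ) σ.injective)
  refine ⟨m, hm, fun x hx => ?_⟩
  obtain ⟨i, -, rfl⟩ := hζ.eq_pow_of_pow_eq_one hx
  rw [map_pow, ← hmσ, ← pow_mul, ← pow_mul, mul_comm]

universe u

variable {G : Type u} [Group G] [Finite G]

theorem aut_apply_char {χ : G → ℂ} (hχ : IsCharacter G χ) (σ : ℂ ≃+* ℂ) {m : ℕ}
    (hσ : ∀ x : ℂ, x ^ Nat.card G = 1 → σ x = x ^ m) (g : G) : σ (χ g) = χ (g ^ m) := by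
  obtain ⟨s, hs, hpow⟩ := exists_roots_pow hχ g
  have h1 := hpow 1
  simp only [pow_one, Multiset.map_id'] at h1
  rw [h1, hpow m, map_multiset_sum]
  exact congrArg Multiset.sum (Multiset.map_congr rfl fun x hx => hσ x (hs x hx))

end CfsgLib.Blocks.ComplexAut
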