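import Cfsg.Agent.Lib.Blocks.Orth

/-!
# Defect classes, defect and characters of height zero
-/

namespace CfsgLib.Blocks

open Cfsg CfsgLib.CharTheory Matrix
open scoped ComplexConjugate

set_option linter.unusedVariables false
set_option linter.unusedSimpArgs false
set_option linter.style.haveILetI false
set_option linter.unusedSectionVars false

universe u

variable {p : ℕ} {M : Ideal AlgInt}

section numbers

theorem natDiv_mem_loc (hM : IsPModular p M) {n m : ℕ} (hn : n ≠ 0) (hm : m ≠ 0)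
    (h : m.factorization p ≤ n.factorization p) :
    MemLocalRing M ((n : ℂ) / (m : ℂ)) ∧
      (m.factorization p < n.factorization p → MemLocalIdeal M ((n : ℂ) / (m : ℂ))) ∧
      (m.factorization p = n.factorization p → ¬ MemLocalIdeal M ((n : ℂ) / (m : ℂ))) := by
  haveI := res_charP hM
  haveI := res_isDomain hM
  set m' := m / p ^ m.factorization p with hm'
  set n' := n / p ^ n.factorization p with hn'
  have hmd : ¬ p ∣ m' := Nat.not_dvd_ordCompl hM.1 hm
  have hnd : ¬ p ∣ n' := Nat.not_dvd_ordCompl hM.1 hn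
  have em : (m : ℂ) = (p : ℂ) ^ m.factorization p * (m' : ℂ) := by
    exact_mod_cast (Nat.ordProj_mul_ordCompl_eq_self m p).symm
  have en : (n : ℂ) = (p : ℂ) ^ n.factorization p * (n' : ℂ) := by
    exact_mod_cast (Nat.ordProj_mul_ordCompl_eq_self n p).symm
  have hp0 : (p : ℂ) ≠ 0 := Nat.cast_ne_zero.2 hM.1.ne_zero
  obtain ⟨e, he⟩ := Nat.le.dest h
  have heq : (n : ℂ) / (m : ℂ) = (p : ℂ) ^ e * (n' : ℂ) * (m' : ℂ)⁻¹ := by
    rw [em, en, ← he, pow_add]
    field_simp
  have hinv := natCast_inv_mem hM hmd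
  have hmem : MemLocalRing M ((p : ℂ) ^ e * (n' : ℂ) * (m' : ℂ)⁻¹) :=
    (loc hM).mul_mem ((loc hM).mul_mem ((loc hM).pow_mem (memRing_natCast hM p) e)
      (memRing_natCast hM n')) hinv
  have hres : res hM ((p : ℂ) ^ e * (n' : ℂ) * (m' : ℂ)⁻¹) =
      (p : AlgInt ⧸ M) ^ e * (n' : AlgInt ⧸ M) * res hM (m' : ℂ)⁻¹ := by
    rw [res_mul hM ((loc hM).mul_mem ((loc hM).pow_mem (memRing_natCast hM p) e)
      (memRing_natCast hM n')) hinv,
      res_mul hM ((loc hM).pow_mem (memRing_natCast hM p) e) (memRing_natCast hM n'),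
      res_pow hM (memRing_natCast hM p), res_natCast, res_natCast]
  rw [heq]
  refine ⟨hmem, fun hlt => ?_, fun hle => ?_⟩
  · rw [← res_eq_zero_iff hM hmem, hres, CharP.cast_eq_zero,
      zero_pow (by omega : e ≠ 0), zero_mul, zero_mul]
  · rw [← res_eq_zero_iff hM hmem, hres, show e = 0 by omega, pow_zero, one_mul]
    have h1 : res hM (m' : ℂ) * res hM (m' : ℂ)⁻¹ = 1 := by
      rw [← res_mul hM (memRing_natCast hM m') hinv,
        mul_inv_cancel₀ (Nat.cast_ne_zero.2 fun h => hmd (by rw [h]; exact dvd_zero p)), res_one]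
    refine mul_ne_zero ?_ (right_ne_zero_of_mul_eq_one h1)
    rw [Ne, CharP.cast_eq_zero_iff (AlgInt ⧸ M) p]
    exact hnd

/-- Trace of a matrix with `A ^ (n + 1) = A` is an algebraic integer. -/
theorem isIntegral_trace_of_pow_succ {ι : Type*} [Fintype ι] [DecidableEq ι]
    {A : Matrix ι ι ℂ} {n : ℕ} (hn : 0 < n) (h : A ^ (n + 1) = A) : IsIntegral ℤ A.trace := by
  rw [Matrix.trace_eq_sum_roots_charpoly]
  refine IsIntegral.multiset_sum fun μ hμ => ?_
  rw [Polynomial.mem_roots A.charpoly_monic.ne_zero, ← Matrix.mem_spectrum_iff_isRoot_charpoly]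
    at hμ
  have hev := spectrum.subset_polynomial_aeval A (Polynomial.X ^ (n + 1) - Polynomial.X)
    ⟨μ, hμ, rfl⟩
  have hμ' : μ ^ (n + 1) - μ ∈ spectrum ℂ (0 : Matrix ι ι ℂ) := by simpa [h] using hev
  rcases isEmpty_or_nonempty ι with hι | hι
  · simp [spectrum.of_subsingleton] at hμ'
  rw [spectrum.zero_eq, Set.mem_singleton_iff, sub_eq_zero] at hμ'
  by_cases h0 : μ = 0
  · subst h0; exact isIntegral_zero
  · refine IsIntegral.of_pow hn ?_
    have : μ ^ n = 1 := mul_right_cancel₀ h0 (by rw [one_mul, ← pow_succ, hμ'])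
    rw [this]; exact isIntegral_one

end numbers

variable {G : Type u} [Group G] [Fintype G]

/-- The average of a character over `x P`, for a subgroup `P` centralizing `x`, is an algebraic
integer. -/
theorem isIntegral_average {χ : G → ℂ} (hχ : IsCharacter G χ) (P : Subgroup G) [Fintype P] {x : G}
    (hx : x ∈ Subgroup.centralizer (P : Set G)) :
    IsIntegral ℤ ((Fintype.card P : ℂ)⁻¹ * ∑ u : P, χ (x * u)) := by
  classical
  obtain ⟨n, ρ, rfl⟩ := hχ
  set R : G → Matrix (Fin n) (Fin n) ℂ := fun g => LinearMap.toMatrix' (ρ g) with hR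
  have hmul : ∀ a b, R (a * b) = R a * R b := fun a b => by
    simp [hR, map_mul, Module.End.mul_eq_comp, LinearMap.toMatrix'_comp]
  have hone : R 1 = 1 := by simp [hR, Module.End.one_eq_id, LinearMap.toMatrix'_id]
  have htr : ∀ g, (R g).trace = ρ.character g := fun g => by
    simp only [hR, Representation.character]
    exact (LinearMap.trace_eq_matrix_trace ℂ (Pi.basisFun ℂ (Fin n)) (ρ g)).symm.trans rfl
  set E : Matrix (Fin n) (Fin n) ℂ := (Fintype.card P : ℂ)⁻¹ • ∑ u : P, R u with hE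
  have hc : (Fintype.card P : ℂ) ≠ 0 := Nat.cast_ne_zero.2 Fintype.card_ne_zero
  have hEu : ∀ v : P, R v * E = E := fun v => by
    rw [hE, Matrix.mul_smul, Matrix.mul_sum]
    congr 1
    exact Fintype.sum_equiv (Equiv.mulLeft v) _ _ fun u => by simp [← hmul]
  have hEE : E * E = E := by
    conv_lhs => arg 1; rw [hE]
    rw [Matrix.smul_mul, Matrix.sum_mul, Finset.sum_congr rfl fun u _ => hEu u, Finset.sum_const,
      Finset.card_univ, ← Nat.cast_smul_eq_nsmul ℂ, smul_smul, inv_mul_cancel₀ hc, one_smul]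
  have hxE : Commute (R x) E := by
    refine Commute.smul_right (Commute.sum_right _ _ _ fun u _ => ?_) _
    show R x * R u = R u * R x
    rw [← hmul, ← hmul, hx u u.2]
  have hpow : ∀ m, R x ^ m = R (x ^ m) := fun m => by
    induction m with
    | zero => simp [hone]
    | succ m ih => rw [pow_succ, pow_succ, ih, hmul]
  have hA : (R x * E) ^ (orderOf x + 1) = R x * E := by
    rw [hxE.mul_pow, pow_succ (R x), hpow, pow_orderOf_eq_one, hone, one_mul,
      (show IsIdempotentElem E from hEE).pow_succ_eq]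
  have h := isIntegral_trace_of_pow_succ (orderOf_pos x) hA
  convert h using 1
  rw [hE, Matrix.mul_smul, Matrix.trace_smul, smul_eq_mul, Matrix.mul_sum, Matrix.trace_sum]
  exact congrArg _ (Finset.sum_congr rfl fun u _ => by rw [← hmul, htr])

theorem orderOf_mul_pPart {x u : G} (hc : Commute x u) (hx : ¬ p ∣ orderOf x) {k : ℕ}
    (hu : orderOf u = p ^ k) (hp : p.Prime) (hu1 : u ≠ 1) : p ∣ orderOf (x * u) := by
  rw [hc.orderOf_mul_eq_mul_orderOf_of_coprime
    (by rw [hu]; exact ((hp.coprime_iff_not_dvd.2 hx).symm).pow_right k), hu]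
  rcases k with _ | k
  · exact absurd (orderOf_eq_one_iff.1 (by simpa using hu)) hu1
  · exact Dvd.dvd.mul_left (dvd_pow_self p (Nat.succ_ne_zero k)) _

/-- A combination of irreducible characters vanishing on `p`-singular elements, with coefficients in
the local ideal, has value at a `p`-regular `x` in `|P|` times the local ideal. -/
theorem vanishing_value (hM : IsPModular p M) (P : Subgroup G) [Fintype P] (hP : IsPGroup p P)
    {x : G} (hx : x ∈ Subgroup.centralizer (P : Set G)) (hxr : ¬ p ∣ orderOf x)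
    (s : Finset (IrrCharacter G)) (c : IrrCharacter G → ℂ)
    (hc : ∀ χ ∈ s, MemLocalIdeal M (c χ))
    (hvan : ∀ y, p ∣ orderOf y → ∑ χ ∈ s, c χ * (χ : G → ℂ) y = 0) :
    MemLocalIdeal M ((∑ χ ∈ s, c χ * (χ : G → ℂ) x) / (Fintype.card P : ℂ)) := by
  classical
  have h1 : ∑ u : P, ∑ χ ∈ s, c χ * (χ : G → ℂ) (x * u) = ∑ χ ∈ s, c χ * (χ : G → ℂ) x := by
    rw [Finset.sum_eq_single (1 : P) (fun u _ hu => ?_) (by simp), Subgroup.coe_one, mul_one]
    refine hvan _ ?_
    haveI : Fact p.Prime := ⟨hM.1⟩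
    obtain ⟨k, hk⟩ := IsPGroup.iff_orderOf.1 hP u
    exact orderOf_mul_pPart (hx u u.2).symm hxr (by rw [Subgroup.orderOf_coe, hk]) hM.1
      (fun h => hu (Subtype.ext h))
  rw [← h1, Finset.sum_comm, div_eq_inv_mul, Finset.mul_sum]
  refine memIdeal_sum hM fun χ hχ => ?_
  rw [← Finset.mul_sum, mul_left_comm, mul_comm]
  exact memIdeal_mul_left hM
    (memRing_of_isIntegral hM (isIntegral_average (isCharacter_of_irr χ.2) P hx)) (hc χ hχ)

/-- The reversed character on `p`-regular elements. -/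
noncomputable def regFn (p : ℕ) (χ : G → ℂ) : G → ℂ := fun g =>
  if p ∣ orderOf g then 0 else χ g⁻¹

theorem regFn_isClassFunction (χ : IrrCharacter G) :
    IsClassFunction G (regFn p (χ : G → ℂ)) := fun g h => by
  have : orderOf (h * g * h⁻¹) = orderOf g := by
    simpa using orderOf_injective (MulAut.conj h).toMonoidHom (MulAut.conj h).injective g
  simp only [regFn, this, _root_.mul_inv_rev, inv_inv, ← mul_assoc]
  rw [irr_isClassFun χ]

theorem regFn_mem (hM : IsPModular p M) (χ : IrrCharacter G) (g : G) :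
    MemLocalRing M (regFn p (χ : G → ℂ) g) := by
  unfold regFn; split_ifs
  · exact (loc hM).zero_mem
  · exact memRing_irr hM χ _

/-- `∑` over `p`-regular `x` of `φ x * ψ x⁻¹`. -/
noncomputable def regS (p : ℕ) (φ ψ : G → ℂ) : ℂ := ∑ g, regFn p ψ g * φ g

theorem regS_comm (φ ψ : G → ℂ) : regS p φ ψ = regS p ψ φ := by
  refine Fintype.sum_equiv (Equiv.inv G) _ _ fun g => ?_
  simp only [regFn, Equiv.inv_apply, orderOf_inv, inv_inv]
  split_ifs <;> ring

theorem omega_regFn (φ ψ : G → ℂ) : omega φ (regFn p ψ) = regS p φ ψ / φ 1 := rfl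

theorem memRing_omega_regFn (hM : IsPModular p M) (φ ψ : IrrCharacter G) :
    MemLocalRing M (omega (φ : G → ℂ) (regFn p (ψ : G → ℂ))) := by
  have h : (fun χ : IrrCharacter G => omega (χ : G → ℂ) (regFn p (ψ : G → ℂ))) ∈ Zloc G hM :=
    fun x => by rw [cf_omega (regFn_isClassFunction ψ)]; exact regFn_mem hM ψ x
  exact Zloc_apply_mem hM h φ

theorem res_omega_regFn_congr (hM : IsPModular p M) {φ φ' : IrrCharacter G}
    (h : SameBlock M (φ : G → ℂ) (φ' : G → ℂ)) (ψ : IrrCharacter G) :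
    res hM (omega (φ : G → ℂ) (regFn p (ψ : G → ℂ))) =
      res hM (omega (φ' : G → ℂ) (regFn p (ψ : G → ℂ))) :=
  Zloc_res_congr hM (v := fun χ : IrrCharacter G => omega (χ : G → ℂ) (regFn p (ψ : G → ℂ)))
    (fun x => by rw [cf_omega (regFn_isClassFunction ψ)]; exact regFn_mem hM ψ x) h

/-- Weak orthogonality extended: block sums `φ g φ h` vanish if exactly one of `g`, `h` is
`p`-regular. -/
theorem weak_orth' (hM : IsPModular p M) {B : Set (IrrCharacter G)} (hB : IsPBlock M B)
    {g h : G} (hne : ¬ (p ∣ orderOf g ↔ p ∣ orderOf h)) :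
    ∑ χ ∈ bset B, (χ : G → ℂ) g * (χ : G → ℂ) h = 0 := by
  by_cases hg : p ∣ orderOf g
  · rw [Finset.sum_congr rfl fun χ _ => mul_comm _ _]
    exact weak_orth hM hB (fun hh => hne (by simp [hg, hh])) hg
  · exact weak_orth hM hB hg (by_contra fun hh => hne (by simp [hg, hh]))

/-- The block part of a character on regular elements. -/
theorem sum_regS_mul (hM : IsPModular p M) {B : Set (IrrCharacter G)} (hB : IsPBlock M B)
    (χ : IrrCharacter G) (g : G) :
    ∑ ψ ∈ bset B, regS p (χ : G → ℂ) (ψ : G → ℂ) * (ψ : G → ℂ) g =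
      if p ∣ orderOf g then 0 else ind B χ * (Nat.card G : ℂ) * (χ : G → ℂ) g := by
  classical
  by_cases hg : p ∣ orderOf g
  · rw [if_pos hg]
    simp only [regS, Finset.sum_mul]
    rw [Finset.sum_comm]
    refine Finset.sum_eq_zero fun y _ => ?_
    by_cases hy : p ∣ orderOf y
    · simp [regFn, hy]
    · simp only [regFn, if_neg hy]
      rw [Finset.sum_congr (s₁ := bset B) rfl fun ψ _ => show (ψ : G → ℂ) y⁻¹ * (χ : G → ℂ) y * (ψ : G → ℂ) g =
        (χ : G → ℂ) y * ((ψ : G → ℂ) y⁻¹ * (ψ : G → ℂ) g) by ring, ← Finset.mul_sum,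
        weak_orth hM hB (by rwa [orderOf_inv]) hg, mul_zero]
  · rw [if_neg hg]
    have h1 : ∀ ψ : IrrCharacter G, regS p (χ : G → ℂ) (ψ : G → ℂ) * (ψ : G → ℂ) g =
        ∑ y, regFn p (ψ : G → ℂ) y * (χ : G → ℂ) y * (ψ : G → ℂ) g := fun ψ => by
      rw [regS, Finset.sum_mul]
    rw [Finset.sum_congr rfl fun ψ _ => h1 ψ, Finset.sum_comm]
    have h2 : ∀ y, ∑ ψ ∈ bset B, regFn p (ψ : G → ℂ) y * (χ : G → ℂ) y * (ψ : G → ℂ) g =
        ∑ ψ ∈ bset B, (ψ : G → ℂ) g * ((χ : G → ℂ) y * conj ((ψ : G → ℂ) y)) := by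
      intro y
      by_cases hy : p ∣ orderOf y
      · simp only [regFn, if_pos hy, zero_mul, Finset.sum_const_zero, irr_conjInv]
        rw [Finset.sum_congr (s₁ := bset B) rfl fun ψ _ => show (ψ : G → ℂ) g * ((χ : G → ℂ) y * (ψ : G → ℂ) y⁻¹) =
          (χ : G → ℂ) y * ((ψ : G → ℂ) g * (ψ : G → ℂ) y⁻¹) by ring, ← Finset.mul_sum,
          weak_orth hM hB hg (by rwa [orderOf_inv]), mul_zero]
      · simp only [regFn, if_neg hy, irr_conjInv]
        exact Finset.sum_congr rfl fun ψ _ => by ring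
    rw [Finset.sum_congr rfl fun y _ => h2 y, Finset.sum_comm]
    simp only [← Finset.mul_sum]
    have h3 : ∀ ψ : IrrCharacter G, ∑ y, (χ : G → ℂ) y * conj ((ψ : G → ℂ) y) =
        if χ = ψ then (Nat.card G : ℂ) else 0 := by
      intro ψ
      have h0 : (Nat.card G : ℂ) ≠ 0 := Nat.cast_ne_zero.2 Nat.card_pos.ne'
      have e : ∑ y, (χ : G → ℂ) y * conj ((ψ : G → ℂ) y) =
          (Nat.card G : ℂ) * classInner (χ : G → ℂ) (ψ : G → ℂ) := by
        rw [classInner, ← mul_assoc, mul_inv_cancel₀ h0, one_mul]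
      rw [e]
      split_ifs with h
      · subst h; rw [classInner_irr_self χ.2, mul_one]
      · rw [classInner_irr_ne χ.2 ψ.2 (fun h' => h (Subtype.ext h')), mul_zero]
    simp only [h3, mul_ite, mul_zero, Finset.sum_ite_eq, mem_bset]
    by_cases hχ : χ ∈ B
    · rw [if_pos hχ, ind_of_mem hχ]; ring
    · rw [if_neg hχ, ind_of_notMem hχ]; ring

/-- Characters in different blocks are orthogonal on regular elements. -/
theorem regS_eq_zero (hM : IsPModular p M) {χ ψ : IrrCharacter G}
    (h : ¬ SameBlock M (χ : G → ℂ) (ψ : G → ℂ)) : regS p (χ : G → ℂ) (ψ : G → ℂ) = 0 := by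
  classical
  set B := blockOf M (ψ : G → ℂ) with hBdef
  have hψ : ψ ∈ B := mem_blockOf_self hM ψ
  have hχ : χ ∉ B := fun h' => h (sameBlock_symm hM h')
  have h0 : ∑ φ ∈ bset B, regS p (χ : G → ℂ) (φ : G → ℂ) •
      (fun g : G => (φ : G → ℂ) g) = 0 := by
    funext g
    have := sum_regS_mul hM (blockOf_isPBlock ψ) χ g
    rw [ind_of_notMem hχ] at this
    simpa using this
  have h1 := congrArg (fun f => classInner f (ψ : G → ℂ)) h0
  simp only [classInner_sum_left, classInner_smul_left] at h1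
  rw [Finset.sum_eq_single ψ] at h1
  · rw [show classInner (fun g : G => (ψ : G → ℂ) g) (ψ : G → ℂ) = 1 from
      classInner_irr_self ψ.2, mul_one] at h1
    rw [h1]; simp [classInner]
  · intro φ _ hφ
    rw [show classInner (fun g : G => (φ : G → ℂ) g) (ψ : G → ℂ) = 0 from
      classInner_irr_ne φ.2 ψ.2 (fun h' => hφ (Subtype.ext h')), mul_zero]
  · exact fun h' => absurd (mem_bset.2 hψ) h'

/-- The exponent of `p` in the degree. -/
noncomputable def dv (p : ℕ) (χ : G → ℂ) : ℕ := (charDegree χ).factorization p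

/-- The value of a defect class. -/
theorem isDefectClass_regular (hM : IsPModular p M) {B : Set (IrrCharacter G)} (hB : IsPBlock M B)
    {x : G} (hx : IsDefectClass M B x) : ¬ p ∣ orderOf x := by
  intro h
  apply hx.2.1
  have h1 : blockCoeff B x = 0 := by
    simp only [blockCoeff, finsum_mem_bset]
    rw [weak_orth_conj hM hB (x := 1) (by simpa using hM.1.not_dvd_one) h, mul_zero]
  rw [h1]; exact memIdeal_zero hM

/-- Every block has a defect class (S0906). -/
theorem exists_defectClass (hM : IsPModular p M) {B : Set (IrrCharacter G)} (hB : IsPBlock M B) :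
    ∃ g, IsDefectClass M B g := by
  classical
  obtain ⟨χ, hχ⟩ := block_nonempty hM hB
  by_contra hc
  push Not at hc
  have h1 : omega (χ : G → ℂ) (blockCoeff B) = 1 := by
    rw [← cf_ind, omega_cf, ind_of_mem hχ]
  apply not_memIdeal_one hM
  rw [← h1, omega_eq_sum_classes (blockCoeff_isClassFunction B)]
  refine memIdeal_sum hM fun C _ => ?_
  have hcC : MemLocalRing M (centralChar (χ : G → ℂ) (crep C)) := memRing_clv hM (crep C) χ
  by_cases h : MemLocalIdeal M (blockCoeff B (crep C))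
  · rw [mul_comm]; exact memIdeal_mul_left hM hcC h
  · refine memIdeal_mul_left hM (memRing_blockCoeff hM hB _) ?_
    by_contra h'
    refine hc (crep C) ⟨memRing_blockCoeff hM hB _, h, fun φ hφ hφ' => h' ?_⟩
    have := (sameBlock_iff_res hM φ χ).1 (sameBlock_of_mem hM hB hφ hχ) (crep C)
    rw [← res_eq_zero_iff hM hcC]
    exact this.symm.trans ((res_eq_zero_iff hM (memRing_clv hM (crep C) φ)).2 hφ')

theorem mul_dv_le (hM : IsPModular p M) {x : G} {χ : IrrCharacter G}
    (h : ¬ MemLocalIdeal M (centralChar (χ : G → ℂ) x)) :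
    ((Subgroup.centralizer ({x} : Set G)).index).factorization p ≤ dv p (χ : G → ℂ) := by
  by_contra hlt
  push Not at hlt
  apply h
  have hd := natDiv_mem_loc hM (p := p) Subgroup.index_ne_zero_of_finite
    (irr_charDegree_pos χ).ne' hlt.le
  have e : centralChar (χ : G → ℂ) x = (χ : G → ℂ) x *
      (((Subgroup.centralizer ({x} : Set G)).index : ℂ) / (charDegree (χ : G → ℂ) : ℂ)) := by
    rw [centralChar, irr_charDegree_cast χ]; ring
  rw [e]
  exact memIdeal_mul_left hM (memRing_irr hM χ x) (hd.2.1 hlt)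

theorem factorization_index_add (p : ℕ) (H : Subgroup G) :
    H.index.factorization p + (Nat.card H).factorization p = (Nat.card G).factorization p := by
  rw [← H.index_mul_card, Nat.factorization_mul Subgroup.index_ne_zero_of_finite
    Nat.card_pos.ne', Finsupp.add_apply]

/-- A defect class computes the least degree exponent in the block. -/
theorem exists_dv_eq (hM : IsPModular p M) {B : Set (IrrCharacter G)} (hB : IsPBlock M B)
    {x : G} (hx : IsDefectClass M B x) :
    ∃ χ ∈ B, dv p (χ : G → ℂ) = ((Subgroup.centralizer ({x} : Set G)).index).factorization p := by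
  classical
  haveI : Fact p.Prime := ⟨hM.1⟩
  by_contra hcon
  push Not at hcon
  set C := Subgroup.centralizer ({x} : Set G) with hCdef
  set t := C.index.factorization p with ht
  set d := (Nat.card C).factorization p with hd
  obtain ⟨P, hPC⟩ : ∃ P : Sylow p C, True := ⟨Classical.choice inferInstance, trivial⟩
  set D : Subgroup G := (P : Subgroup C).map C.subtype with hD
  have hDp : IsPGroup p D := P.isPGroup'.map _
  have hDcard : Nat.card D = p ^ d := by
    rw [hD, Subgroup.card_map_of_injective C.subtype_injective, P.card_eq_multiplicity]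
  haveI : Fintype D := Fintype.ofFinite D
  have hxD : x ∈ Subgroup.centralizer (D : Set G) := by
    intro y hy
    obtain ⟨z, -, rfl⟩ := hy
    exact Subgroup.mem_centralizer_singleton_iff.1 z.2
  have hxi : x⁻¹ ∈ Subgroup.centralizer (D : Set G) := Subgroup.inv_mem _ hxD
  have hreg := isDefectClass_regular hM hB hx
  have hp0 : (p : ℂ) ^ t ≠ 0 := pow_ne_zero _ (Nat.cast_ne_zero.2 hM.1.ne_zero)
  set c : IrrCharacter G → ℂ := fun χ => (χ : G → ℂ) 1 / (p : ℂ) ^ t with hc
  have hcI : ∀ χ ∈ bset B, MemLocalIdeal M (c χ) := by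
    intro χ hχ
    have hlt : t < dv p (χ : G → ℂ) :=
      lt_of_le_of_ne (mul_dv_le hM (hx.2.2 χ (mem_bset.1 hχ))) (hcon χ (mem_bset.1 hχ)).symm
    have hdiv := natDiv_mem_loc hM (p := p) (n := charDegree (χ : G → ℂ)) (m := p ^ t)
      (irr_charDegree_pos χ).ne' (pow_ne_zero _ hM.1.ne_zero)
      (by rw [Nat.Prime.factorization_pow hM.1, Finsupp.single_eq_same]; exact hlt.le)
    have := hdiv.2.1 (by rw [Nat.Prime.factorization_pow hM.1, Finsupp.single_eq_same]; exact hlt)
    rw [hc]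
    simpa [irr_charDegree_cast χ] using this
  have hvan : ∀ y, p ∣ orderOf y → ∑ χ ∈ bset B, c χ * (χ : G → ℂ) y = 0 := by
    intro y hy
    have := weak_orth hM hB (x := 1) (by simpa using hM.1.not_dvd_one) hy
    simp only [hc, div_mul_eq_mul_div, ← Finset.sum_div, this, zero_div]
  have h1 := vanishing_value hM D hDp hxi (by rwa [orderOf_inv]) (bset B) c hcI hvan
  apply hx.2.1
  have hG : Nat.card G = p ^ (t + d) * (Nat.card G / p ^ (Nat.card G).factorization p) := by
    rw [ht, hd, factorization_index_add p C]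
    exact (Nat.ordProj_mul_ordCompl_eq_self _ p).symm
  have hu : MemLocalRing M (((Nat.card G / p ^ (Nat.card G).factorization p : ℕ) : ℂ))⁻¹ :=
    natCast_inv_mem hM (Nat.not_dvd_ordCompl hM.1 Nat.card_pos.ne')
  have e : blockCoeff B x = (((Nat.card G / p ^ (Nat.card G).factorization p : ℕ) : ℂ))⁻¹ *
      ((∑ χ ∈ bset B, c χ * (χ : G → ℂ) x⁻¹) / (Fintype.card D : ℂ)) := by
    rw [blockCoeff, finsum_mem_bset, ← Nat.card_eq_fintype_card (α := D), hDcard]
    conv_lhs => rw [hG]
    simp only [hc, irr_conjInv, div_mul_eq_mul_div, ← Finset.sum_div]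
    push_cast
    rw [pow_add]
    field_simp
  rw [e]
  exact memIdeal_mul_left hM hu h1

/-- The least degree exponent of a block. -/
noncomputable def minDv (p : ℕ) (B : Set (IrrCharacter G)) : ℕ :=
  sInf ((fun χ : IrrCharacter G => dv p (χ : G → ℂ)) '' B)

theorem blockDefect_eq (p : ℕ) (B : Set (IrrCharacter G)) :
    blockDefect p B = (Nat.card G).factorization p - minDv p B := rfl

theorem blockHeight_eq (p : ℕ) (B : Set (IrrCharacter G)) (χ : G → ℂ) :
    blockHeight p B χ = dv p χ - minDv p B := rfl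

theorem minDv_le {B : Set (IrrCharacter G)} {χ : IrrCharacter G} (hχ : χ ∈ B) :
    minDv p B ≤ dv p (χ : G → ℂ) := Nat.sInf_le ⟨χ, hχ, rfl⟩

theorem height_zero_iff {B : Set (IrrCharacter G)} {χ : IrrCharacter G} (hχ : χ ∈ B) :
    blockHeight p B (χ : G → ℂ) = 0 ↔ dv p (χ : G → ℂ) = minDv p B := by
  rw [blockHeight_eq]
  have := minDv_le (p := p) hχ
  omega

theorem minDv_eq (hM : IsPModular p M) {B : Set (IrrCharacter G)} (hB : IsPBlock M B)
    {x : G} (hx : IsDefectClass M B x) :
    minDv p B = ((Subgroup.centralizer ({x} : Set G)).index).factorization p := by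
  obtain ⟨χ, hχ, he⟩ := exists_dv_eq hM hB hx
  refine le_antisymm (he ▸ minDv_le hχ) (le_csInf ⟨_, χ, hχ, rfl⟩ ?_)
  rintro _ ⟨φ, hφ, rfl⟩
  exact mul_dv_le hM (hx.2.2 φ hφ)

theorem blockDefect_eq_centralizer (hM : IsPModular p M) {B : Set (IrrCharacter G)}
    (hB : IsPBlock M B) {x : G} (hx : IsDefectClass M B x) :
    blockDefect p B = (Nat.card (Subgroup.centralizer ({x} : Set G))).factorization p := by
  rw [blockDefect_eq, minDv_eq hM hB hx]
  have := factorization_index_add p (Subgroup.centralizer ({x} : Set G))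
  omega

theorem exists_height_zero (hM : IsPModular p M) {B : Set (IrrCharacter G)} (hB : IsPBlock M B) :
    ∃ χ ∈ B, dv p (χ : G → ℂ) = minDv p B := by
  obtain ⟨x, hx⟩ := exists_defectClass hM hB
  obtain ⟨χ, hχ, he⟩ := exists_dv_eq hM hB hx
  exact ⟨χ, hχ, he.trans (minDv_eq hM hB hx).symm⟩

theorem minDv_le_card (hM : IsPModular p M) {B : Set (IrrCharacter G)} (hB : IsPBlock M B) :
    minDv p B ≤ (Nat.card G).factorization p := by
  obtain ⟨x, hx⟩ := exists_defectClass hM hB
  rw [minDv_eq hM hB hx, ← factorization_index_add p (Subgroup.centralizer ({x} : Set G))]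
  exact Nat.le_add_right _ _

/-- A height zero character takes a unit value on a defect class. -/
theorem not_memIdeal_defectClass (hM : IsPModular p M) {B : Set (IrrCharacter G)}
    (hB : IsPBlock M B) {x : G} (hx : IsDefectClass M B x) {χ : IrrCharacter G} (hχ : χ ∈ B)
    (h0 : dv p (χ : G → ℂ) = minDv p B) : ¬ MemLocalIdeal M ((χ : G → ℂ) x) := by
  intro h
  apply hx.2.2 χ hχ
  have hd := natDiv_mem_loc hM (p := p)
    (Subgroup.index_ne_zero_of_finite (H := Subgroup.centralizer ({x} : Set G)))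
    (irr_charDegree_pos χ).ne' (le_of_eq (h0.trans (minDv_eq hM hB hx)))
  have e : centralChar (χ : G → ℂ) x =
      (((Subgroup.centralizer ({x} : Set G)).index : ℂ) / (charDegree (χ : G → ℂ) : ℂ)) *
      (χ : G → ℂ) x := by
    rw [centralChar, irr_charDegree_cast χ]; ring
  rw [e]
  exact memIdeal_mul_left hM hd.1 h

theorem degree_div_mem (hM : IsPModular p M) {φ χ : IrrCharacter G}
    (h : dv p (χ : G → ℂ) ≤ dv p (φ : G → ℂ)) :
    MemLocalRing M ((φ : G → ℂ) 1 / (χ : G → ℂ) 1) ∧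
      (dv p (χ : G → ℂ) < dv p (φ : G → ℂ) →
        MemLocalIdeal M ((φ : G → ℂ) 1 / (χ : G → ℂ) 1)) := by
  have hd := natDiv_mem_loc hM (p := p) (irr_charDegree_pos φ).ne' (irr_charDegree_pos χ).ne' h
  rw [irr_charDegree_cast φ, irr_charDegree_cast χ] at hd
  exact ⟨hd.1, hd.2.1⟩

/-- The key congruence: for `χ` of height zero, `omega_φ (regFn χ)` is a unit on the block. -/
theorem not_memIdeal_omega_regFn (hM : IsPModular p M) {B : Set (IrrCharacter G)}
    (hB : IsPBlock M B) {χ φ : IrrCharacter G} (hχ : χ ∈ B) (hφ : φ ∈ B)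
    (h0 : dv p (χ : G → ℂ) = minDv p B) :
    ¬ MemLocalIdeal M (omega (φ : G → ℂ) (regFn p (χ : G → ℂ))) := by
  classical
  intro hφI
  haveI : Fact p.Prime := ⟨hM.1⟩
  have hall : ∀ ψ ∈ bset B, MemLocalIdeal M (regS p (χ : G → ℂ) (ψ : G → ℂ) / (χ : G → ℂ) 1) := by
    intro ψ hψ
    have hψ' := mem_bset.1 hψ
    have hI : MemLocalIdeal M (omega (ψ : G → ℂ) (regFn p (χ : G → ℂ))) := by
      rw [← res_eq_zero_iff hM (memRing_omega_regFn hM ψ χ),
        res_omega_regFn_congr hM (sameBlock_of_mem hM hB hψ' hφ) χ,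
        res_eq_zero_iff hM (memRing_omega_regFn hM φ χ)]
      exact hφI
    have hle : dv p (χ : G → ℂ) ≤ dv p (ψ : G → ℂ) := h0 ▸ minDv_le hψ'
    have e : regS p (χ : G → ℂ) (ψ : G → ℂ) / (χ : G → ℂ) 1 =
        (ψ : G → ℂ) 1 / (χ : G → ℂ) 1 * omega (ψ : G → ℂ) (regFn p (χ : G → ℂ)) := by
      rw [omega_regFn, regS_comm (χ : G → ℂ)]
      field_simp [irr_one_ne_zero ψ, irr_one_ne_zero χ]
    rw [e]
    exact memIdeal_mul_left hM (degree_div_mem hM hle).1 hI
  obtain ⟨x, hx⟩ := exists_defectClass hM hB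
  set C := Subgroup.centralizer ({x} : Set G) with hCdef
  obtain ⟨P, hPC⟩ : ∃ P : Sylow p C, True := ⟨Classical.choice inferInstance, trivial⟩
  set D : Subgroup G := (P : Subgroup C).map C.subtype with hD
  have hDcard : Nat.card D = p ^ (Nat.card C).factorization p := by
    rw [hD, Subgroup.card_map_of_injective C.subtype_injective, P.card_eq_multiplicity]
  haveI : Fintype D := Fintype.ofFinite D
  have hxD : x ∈ Subgroup.centralizer (D : Set G) := by
    intro y hy
    obtain ⟨z, -, rfl⟩ := hy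
    exact Subgroup.mem_centralizer_singleton_iff.1 z.2
  have hreg := isDefectClass_regular hM hB hx
  have hvan : ∀ y, p ∣ orderOf y →
      ∑ ψ ∈ bset B, regS p (χ : G → ℂ) (ψ : G → ℂ) / (χ : G → ℂ) 1 * (ψ : G → ℂ) y = 0 := by
    intro y hy
    simp only [div_mul_eq_mul_div, ← Finset.sum_div, sum_regS_mul hM hB χ y, if_pos hy, zero_div]
  have h1 := vanishing_value hM D (P.isPGroup'.map _) hxD hreg (bset B) _ hall hvan
  simp only [div_mul_eq_mul_div, ← Finset.sum_div, sum_regS_mul hM hB χ x, if_neg hreg,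
    ind_of_mem hχ, one_mul] at h1
  rw [← Nat.card_eq_fintype_card, hDcard] at h1
  -- but this quotient is a unit
  have hd := natDiv_mem_loc hM (p := p) (n := Nat.card G)
    (m := charDegree (χ : G → ℂ) * p ^ (Nat.card C).factorization p) Nat.card_pos.ne'
    (mul_ne_zero (irr_charDegree_pos χ).ne' (pow_ne_zero _ hM.1.ne_zero))
  have hv : (charDegree (χ : G → ℂ) * p ^ (Nat.card C).factorization p).factorization p =
      (Nat.card G).factorization p := by
    rw [Nat.factorization_mul (irr_charDegree_pos χ).ne' (pow_ne_zero _ hM.1.ne_zero),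
      Finsupp.add_apply, Nat.Prime.factorization_pow hM.1, Finsupp.single_eq_same,
      show (charDegree (χ : G → ℂ)).factorization p = dv p (χ : G → ℂ) from rfl, h0,
      minDv_eq hM hB hx, factorization_index_add p C]
  obtain ⟨hq, -, hqu⟩ := hd hv.le
  push_cast [irr_charDegree_cast χ] at hq hqu h1
  rw [show (Nat.card G : ℂ) * (χ : G → ℂ) x / (χ : G → ℂ) 1 /
      ((p : ℂ) ^ (Nat.card C).factorization p) = (Nat.card G : ℂ) /
      ((χ : G → ℂ) 1 * (p : ℂ) ^ (Nat.card C).factorization p) * (χ : G → ℂ) x by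
    field_simp] at h1
  haveI := res_isDomain hM
  rw [← res_eq_zero_iff hM ((loc hM).mul_mem hq (memRing_irr hM χ x)),
    res_mul hM hq (memRing_irr hM χ x), mul_eq_zero] at h1
  rcases h1 with h1 | h1
  · exact hqu hv ((res_eq_zero_iff hM hq).1 h1)
  · exact not_memIdeal_defectClass hM hB hx hχ h0
      ((res_eq_zero_iff hM (memRing_irr hM χ x)).1 h1)

/-- For `ψ` of positive height all `omega_φ (regFn ψ)` vanish mod `M`. -/
theorem memIdeal_omega_regFn (hM : IsPModular p M) {B : Set (IrrCharacter G)}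
    (hB : IsPBlock M B) {ψ φ : IrrCharacter G} (hψ : ψ ∈ B) (hφ : φ ∈ B)
    (h : minDv p B < dv p (ψ : G → ℂ)) :
    MemLocalIdeal M (omega (φ : G → ℂ) (regFn p (ψ : G → ℂ))) := by
  obtain ⟨χ, hχ, h0⟩ := exists_height_zero hM hB
  rw [← res_eq_zero_iff hM (memRing_omega_regFn hM φ ψ),
    res_omega_regFn_congr hM (sameBlock_of_mem hM hB hφ hχ) ψ,
    res_eq_zero_iff hM (memRing_omega_regFn hM χ ψ)]
  have e : omega (χ : G → ℂ) (regFn p (ψ : G → ℂ)) =
      omega (ψ : G → ℂ) (regFn p (χ : G → ℂ)) * ((ψ : G → ℂ) 1 / (χ : G → ℂ) 1) := by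
    rw [omega_regFn, omega_regFn, regS_comm (χ : G → ℂ)]
    field_simp [irr_one_ne_zero ψ, irr_one_ne_zero χ]
  rw [e]
  exact memIdeal_mul_left hM (memRing_omega_regFn hM ψ χ)
    ((degree_div_mem hM (h0 ▸ minDv_le hψ)).2 (h0 ▸ h))

end CfsgLib.Blocks
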