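import Cfsg.Agent.Lib.Blocks.Brauer
import Cfsg.Agent.Lib.Blocks.Heights

/-!
# Induced blocks: second main theorem, Okuyama and Blau
-/

namespace CfsgLib.Blocks

open Cfsg CfsgLib.CharTheory
open scoped ComplexConjugate

set_option linter.unusedVariables false
set_option linter.unusedSimpArgs false
set_option linter.style.haveILetI false
set_option linter.unusedSectionVars false

universe u

variable {p : ℕ} {M : Ideal AlgInt} {G : Type u} [Group G] [Fintype G]

/-- The block part is multiplication by the block idempotent. -/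
theorem blockPart_eq_sum (b : Set (IrrCharacter G)) {ϑ : G → ℂ} (hϑ : IsClassFunction G ϑ)
    (y : G) : blockPart b ϑ y = ∑ k, blockCoeff b k * ϑ (k * y) := by
  classical
  have hconv : ∀ ψ : IrrCharacter G, ∑ k, blockCoeff b k * (ψ : G → ℂ) (k * y) =
      ind b ψ * (ψ : G → ℂ) y := fun ψ => by
    rw [sum_classFun_mul_shift (blockCoeff_isClassFunction b) ψ y, ← cf_ind, omega_cf]
  conv_rhs => enter [2, k]; rw [congrFun (eq_sum_irr hϑ) (k * y), Finset.sum_apply, Finset.mul_sum]
  rw [Finset.sum_comm]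
  simp only [Pi.smul_apply, smul_eq_mul, mul_left_comm (blockCoeff b _), ← Finset.mul_sum, hconv]
  rw [blockPart, finsum_mem_bset, ← sum_ind_mul]
  refine Finset.sum_congr rfl fun ψ _ => ?_
  rw [classInner_congr_inst (Fintype.ofFinite G) inferInstance]
  ring

/-- Second main theorem for characters outside the induced block. -/
theorem second_main_induced (hM : IsPModular p M) (H : Subgroup G) [Fintype H]
    {b : Set (IrrCharacter H)} (hb : IsPBlock M b) {χ : IrrCharacter G}
    (hne : ¬ IsInducedBlock M H b (blockOf M (χ : G → ℂ)))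
    (hdef : ∀ ξ ∈ b, ∃ φ : IrrCharacter G, ∀ g, MemLocalIdeal M
      (inducedCentralChar H (ξ : H → ℂ) g - centralChar (φ : G → ℂ) g))
    {z w : G} (hc : Commute z w) (hz : ∃ k : ℕ, orderOf z = p ^ k) (hw : ¬ p ∣ orderOf w)
    (hC : Subgroup.centralizer ({z} : Set G) ≤ H) :
    ∑ k : H, blockCoeff b k * (χ : G → ℂ) ((k : G) * (z * w)) = 0 := by
  have hB := blockOf_isPBlock (M := M) χ
  refine second_main hM H hb hB (fun ξ hξ => ?_) hc hz hw hC (mem_blockOf_self hM χ)
  obtain ⟨φ, hφ⟩ := hdef ξ hξ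
  have hφB : φ ∉ blockOf M (χ : G → ℂ) := fun h => hne (isInducedBlock_of_congr H hM hb hB hξ h hφ)
  have hres : IsClassFunction H (fun k : H => blockCoeff (blockOf M (χ : G → ℂ)) k) :=
    fun x y => blockCoeff_isClassFunction _ (x : G) (y : G)
  rw [← res_eq_zero_iff hM (memRing_omega hM hres (fun k => memRing_blockCoeff hM hB _) ξ),
    res_omega_of_induced H hM ξ φ hφ (blockCoeff_isClassFunction _) (memRing_blockCoeff hM hB),
    ← cf_ind, omega_cf, ind_of_notMem hφB, res_zero]

/-- Height zero characters detect induction (the key step of Okuyama's theorem). -/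
theorem res_induced_regFn (hM : IsPModular p M) (H : Subgroup G) [Fintype H]
    {b : Set (IrrCharacter H)} {B : Set (IrrCharacter G)} (hind : IsInducedBlock M H b B)
    {ξ : IrrCharacter H} (hξ : ξ ∈ b) {φ : IrrCharacter G} (hφ : φ ∈ B) (χ : IrrCharacter G) :
    res hM (omega (ξ : H → ℂ) (regFn p fun h : H => (χ : G → ℂ) h)) =
      res hM (omega (φ : G → ℂ) (regFn p (χ : G → ℂ))) := by
  have h := res_omega_of_induced H hM ξ φ (hind.2.2 ξ hξ φ hφ) (regFn_isClassFunction χ)
    (regFn_mem hM χ)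
  rw [← h]
  congr 2
  funext k
  simp only [regFn, Subgroup.orderOf_coe, Subgroup.coe_inv]

theorem okuyama (hM : IsPModular p M) (H : Subgroup G) [Fintype H] (χ : IrrCharacter G)
    (ψ : IrrCharacter H) (hres : (ψ : H → ℂ) = fun h : H => (χ : G → ℂ) h)
    (hχ0 : blockHeight p (blockOf M (χ : G → ℂ)) (χ : G → ℂ) = 0)
    (hψ0 : blockHeight p (blockOf M (ψ : H → ℂ)) (ψ : H → ℂ) = 0)
    {e : Set (IrrCharacter H)} (he : InducedBlockDefined M H e) :
    IsInducedBlock M H e (blockOf M (χ : G → ℂ)) ↔ e = blockOf M (ψ : H → ℂ) := by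
  have hχm := mem_blockOf_self hM χ
  have hψm := mem_blockOf_self hM ψ
  rw [height_zero_iff hχm] at hχ0
  rw [height_zero_iff hψm] at hψ0
  constructor
  · intro hind
    obtain ⟨ξ, hξ⟩ := block_nonempty hM hind.1
    have h := res_induced_regFn hM H hind hξ hχm χ
    rw [← hres] at h
    by_contra hne
    apply not_memIdeal_omega_regFn hM (blockOf_isPBlock χ) hχm hχm hχ0
    rw [← res_eq_zero_iff hM (memRing_omega_regFn hM χ χ), ← h, omega_regFn, regS_eq_zero hM,
      zero_div, res_zero]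
    intro hs
    apply hne
    rw [eq_blockOf hM hind.1 hξ]
    exact blockOf_eq_of_mem hM (sameBlock_symm hM hs)
  · rintro rfl
    obtain ⟨B', hind⟩ := he
    obtain ⟨φ, hφ⟩ := block_nonempty hM hind.2.1
    have h := res_induced_regFn hM H hind hψm hφ χ
    rw [← hres] at h
    suffices e : B' = blockOf M (χ : G → ℂ) by rwa [← e]
    by_contra hne
    apply not_memIdeal_omega_regFn hM (blockOf_isPBlock ψ) hψm hψm hψ0
    rw [← res_eq_zero_iff hM (memRing_omega_regFn hM ψ ψ), h, omega_regFn, regS_eq_zero hM,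
      zero_div, res_zero]
    intro hs
    apply hne
    rw [eq_blockOf hM hind.2.1 hφ]
    exact blockOf_eq_of_mem hM (sameBlock_symm hM hs)

theorem isCharacter_restrict_irr (H : Subgroup G) (χ : IrrCharacter G) :
    IsCharacter H (fun h : H => (χ : G → ℂ) h) :=
  isCharacter_restrict (isCharacter_of_irr χ.2) H

theorem blau (hM : IsPModular p M) (H : Subgroup G) [Fintype H] {b : Set (IrrCharacter H)}
    {B : Set (IrrCharacter G)} (hind : IsInducedBlock M H b B) {χ : IrrCharacter G} (hχ : χ ∈ B)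
    (h0 : blockHeight p B (χ : G → ℂ) = 0) :
    ∃ ξ ∈ b, blockHeight p b (ξ : H → ℂ) = 0 ∧ ∃ n : ℕ,
      classInner (fun h : H => (χ : G → ℂ) h) (ξ : H → ℂ) = (n : ℂ) ∧ ¬ p ∣ n := by
  classical
  haveI := res_charP hM
  obtain ⟨ξ, hξ⟩ := block_nonempty hM hind.1
  have h := res_induced_regFn hM H hind hξ hχ χ
  rw [height_zero_iff hχ] at h0
  have hne : res hM (omega (χ : G → ℂ) (regFn p (χ : G → ℂ))) ≠ 0 := fun hc =>
    not_memIdeal_omega_regFn hM hind.2.1 hχ hχ h0
      ((res_eq_zero_iff hM (memRing_omega_regFn hM χ χ)).1 hc)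
  choose n hn using fun ψ : IrrCharacter H =>
    classInner_char_nat (isCharacter_restrict_irr H χ) (isCharacter_of_irr ψ.2)
  have hexp : ∀ k : H, regFn p (fun h : H => (χ : G → ℂ) h) k =
      ∑ ψ : IrrCharacter H, (n ψ : ℂ) * regFn p (ψ : H → ℂ) k := by
    intro k
    by_cases hk : p ∣ orderOf k
    · simp [regFn, hk]
    · simp only [regFn, if_neg hk]
      have := congrFun (eq_sum_irr (isClassFunction_char (isCharacter_restrict_irr H χ))) k⁻¹
      simpa [hn] using this
  have homega : omega (ξ : H → ℂ) (regFn p fun h : H => (χ : G → ℂ) h) =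
      ∑ ψ : IrrCharacter H, (n ψ : ℂ) * omega (ξ : H → ℂ) (regFn p (ψ : H → ℂ)) := by
    simp only [omega, hexp, Finset.sum_mul, Finset.mul_sum, Finset.sum_div, mul_div_assoc]
    rw [Finset.sum_comm]
    exact Finset.sum_congr rfl fun ψ _ => Finset.sum_congr rfl fun k _ => by ring
  rw [← h, homega, res_sum hM fun ψ _ =>
    (loc hM).mul_mem (memRing_natCast hM _) (memRing_omega_regFn hM ξ ψ)] at hne
  obtain ⟨ψ, -, hψ⟩ := Finset.exists_ne_zero_of_sum_ne_zero hne
  rw [res_mul hM (memRing_natCast hM _) (memRing_omega_regFn hM ξ ψ), res_natCast] at hψ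
  have hn' : ¬ p ∣ n ψ := fun hd => left_ne_zero_of_mul hψ
    ((CharP.cast_eq_zero_iff (AlgInt ⧸ M) p _).2 hd)
  have hu : ¬ MemLocalIdeal M (omega (ξ : H → ℂ) (regFn p (ψ : H → ℂ))) := fun hc =>
    right_ne_zero_of_mul hψ ((res_eq_zero_iff hM (memRing_omega_regFn hM ξ ψ)).2 hc)
  have hψb : ψ ∈ b := by
    rw [eq_blockOf hM hind.1 hξ]
    by_contra hc
    refine hu ?_
    rw [omega_regFn, regS_eq_zero hM hc, zero_div]
    exact memIdeal_zero hM
  refine ⟨ψ, hψb, ?_, n ψ, hn ψ, hn'⟩
  rw [height_zero_iff hψb]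
  by_contra hpos
  exact hu (memIdeal_omega_regFn hM hind.1 hψb hξ
    (lt_of_le_of_ne (minDv_le hψb) (Ne.symm hpos)))

theorem isIrrCharacter_trivial : IsIrrCharacter G (fun _ : G => (1 : ℂ)) := isIrrCharacter_one

/-- The trivial character has height zero. -/
theorem height_trivial (B : Set (IrrCharacter G)) :
    blockHeight p B (fun _ : G => (1 : ℂ)) = 0 := by
  rw [blockHeight_eq]
  simp [dv, charDegree]

end CfsgLib.Blocks
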