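import Cfsg.Agent.Lib.Blocks.BlockSat
import Cfsg.Agent.Lib.Fusion.Inner

/-!
# Nilpotent blocks and their fusion systems
-/

namespace CfsgLib.Blocks

open Cfsg CfsgLib.CharTheory

set_option linter.unusedVariables false
set_option linter.unusedSimpArgs false
set_option linter.style.haveILetI false
set_option linter.unusedSectionVars false

universe u

variable {p : ℕ} {M : Ideal AlgInt} {G : Type u} [Group G] [Fintype G]

theorem exists_pParts (hp : p.Prime) (x : G) :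
    ∃ a b : ℕ, x ^ a * x ^ b = x ∧ (∃ k : ℕ, orderOf (x ^ a) ∣ p ^ k) ∧ IsPRegular p (x ^ b) := by
  set n := orderOf x with hn
  have hn0 : n ≠ 0 := (orderOf_pos x).ne'
  set q := p ^ n.factorization p with hq
  set m := n / q with hm
  have hqm : q * m = n := Nat.ordProj_mul_ordCompl_eq_self n p
  have hcop : Nat.Coprime q m :=
    (Nat.Prime.coprime_iff_not_dvd hp).2 (Nat.not_dvd_ordCompl hp hn0) |>.pow_left _
  obtain ⟨a, ha1, ha2⟩ := Nat.chineseRemainder hcop 1 0
  obtain ⟨b, hb1, hb2⟩ := Nat.chineseRemainder hcop 0 1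
  refine ⟨a, b, ?_, ⟨n.factorization p, ?_⟩, ?_⟩
  · have h : a + b ≡ 1 [MOD n] := by
      rw [← hqm]
      exact (Nat.modEq_and_modEq_iff_modEq_mul hcop).1
        ⟨by simpa using ha1.add hb1, by simpa using ha2.add hb2⟩
    rw [← pow_add]
    conv_rhs => rw [← pow_one x]
    exact pow_eq_pow_iff_modEq.2 h
  · rw [← hq, orderOf_dvd_iff_pow_eq_one, ← pow_mul, ← orderOf_dvd_iff_pow_eq_one, ← hn]
    obtain ⟨c, hc⟩ := Nat.modEq_zero_iff_dvd.1 ha2
    exact ⟨c, by rw [hc, ← hqm]; ring⟩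
  · intro hdvd
    have hd : orderOf (x ^ b) ∣ m := by
      rw [orderOf_dvd_iff_pow_eq_one, ← pow_mul, ← orderOf_dvd_iff_pow_eq_one, ← hn]
      obtain ⟨c, hc⟩ := Nat.modEq_zero_iff_dvd.1 hb1
      exact ⟨c, by rw [hc, ← hqm]; ring⟩
    exact Nat.not_dvd_ordCompl hp hn0 (hdvd.trans hd)

section

variable {B : Set (IrrCharacter G)} {P : Subgroup G}
  {e : Set (IrrCharacter (Subgroup.centralizer (P : Set G)))} {F : FusionSystem P}

theorem autGroup_isPGroup_of_nilpotent (hM : IsPModular p M)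
    (hF : IsBlockFusionSystemOn p M B P e F) (hnil : IsNilpotentBlock p M B) (Q : Subgroup G)
    (hQ : Q ≤ P) : IsPGroup p (F.autGroup Q) := by
  obtain ⟨f, ⟨hf, hle⟩, -⟩ := existsUnique_subpair hM hF.1.1.1.1 hF.1.1.1.2 Q hQ
  rw [autGroup_block hM hF hf hle]
  rintro ⟨α, hα⟩
  obtain ⟨g, hgT, hgN, hg⟩ := mem_autInducedBy_iff.1 hα
  obtain ⟨a, b, hab, ⟨k, hk⟩, hreg⟩ := exists_pParts hM.1 g
  have hbT : g ^ b ∈ pairStab Q f := (pairStab Q f).pow_mem hgT b
  have hcen : g ^ b ∈ Subgroup.centralizer (Q : Set G) :=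
    hnil.2 Q f ((pairOf_subpair_iff hM (a := ⟨Q, f⟩) (b := ⟨P, e⟩) hle B).2 hF.1.1) _
      ((mem_pairStab _).1 hbT).1 ((mem_pairStab _).1 hbT).2 hreg
  have hga : ∀ x : Q, ((α x : Q) : G) = g ^ a * x * (g ^ a)⁻¹ := by
    intro x
    rw [hg x]
    have h := hcen (x : G) x.2
    conv_lhs => rw [← hab]
    calc g ^ a * g ^ b * (x : G) * (g ^ a * g ^ b)⁻¹
        = g ^ a * (g ^ b * x) * (g ^ b)⁻¹ * (g ^ a)⁻¹ := by group
      _ = g ^ a * ((x : G) * g ^ b) * (g ^ b)⁻¹ * (g ^ a)⁻¹ := by rw [h]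
      _ = g ^ a * x * (g ^ a)⁻¹ := by group
  refine ⟨k, Subtype.ext ?_⟩
  have hiter : ∀ (m : ℕ) (x : Q), (((α ^ m) x : Q) : G) = (g ^ a) ^ m * x * ((g ^ a) ^ m)⁻¹ := by
    intro m
    induction m with
    | zero => intro x; simp
    | succ m ih =>
      intro x
      rw [pow_succ' α, MulAut.mul_apply, hga, ih]
      rw [show (g ^ a) ^ (m + 1) = g ^ a * (g ^ a) ^ m from pow_succ' _ _]
      group
  show α ^ p ^ k = 1
  refine MulEquiv.ext fun x => Subtype.ext ?_
  rw [hiter, orderOf_dvd_iff_pow_eq_one.1 hk]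
  simp

theorem hom_eq_inner_of_nilpotent (hM : IsPModular p M)
    (hF : IsBlockFusionSystemOn p M B P e F) (hnil : IsNilpotentBlock p M B) (Q : Subgroup G) :
    F.Hom Q = (innerFusionSystem P).Hom Q := by
  haveI : Fact p.Prime := ⟨hM.1⟩
  exact (blockFusion_isSaturated hM hF).eq_inner_of_isPGroup hF.1.1.1.1
    (autGroup_isPGroup_of_nilpotent hM hF hnil) Q

theorem nilpotent_of_hom_eq_inner (hM : IsPModular p M)
    (hF : IsBlockFusionSystemOn p M B P e F)
    (h : ∀ Q : Subgroup G, F.Hom Q = (innerFusionSystem P).Hom Q) : IsNilpotentBlock p M B := by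
  refine ⟨hF.1.1.2.1, fun Q f hQf x hxN hst hreg => ?_⟩
  obtain ⟨y, hy⟩ := exists_conj_subpair hM (a := ⟨Q, f⟩) (m := ⟨P, e⟩) hF.1 hQf
  set Q' := Q.map (MulAut.conj y).toMonoidHom with hQ'
  set f' := conjBlock Q y f with hf'
  have hz : y * x * y⁻¹ ∈ pairStab Q' f' := by
    rw [mem_pairStab_conj]
    simpa [mul_assoc] using (mem_pairStab x).2 ⟨hxN, hst⟩
  have hQ'P : Q' ≤ P := subpairLE_le (a := ⟨Q', f'⟩) (b := ⟨P, e⟩) hy
  have hzN := ((mem_pairStab _).1 hz).1
  have hmem : conjHom Q' (y * x * y⁻¹) ∈ F.Hom Q' := by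
    refine (hF.2 Q' _).2 ⟨hQ'P, y * x * y⁻¹, fun _ => rfl,
      (map_conj_normalizer hzN).le.trans hQ'P, f', hy, ?_⟩
    show Relation.ReflTransGen (NormalSubpairRel p M) (conjIdx (y * x * y⁻¹) ⟨Q', f'⟩) ⟨P, e⟩
    rw [(stab_iff_idx _).1 ((mem_pairStab _).1 hz)]
    exact hy
  rw [h Q'] at hmem
  obtain ⟨-, u, hu, hux⟩ := hmem
  -- conjugation by `z` agrees on `Q'` with conjugation by a `p`-element
  have hz' : ∀ q ∈ Q', y * x * y⁻¹ * q * (y * x * y⁻¹)⁻¹ = u * q * u⁻¹ := fun q hq => hux ⟨q, hq⟩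
  have huN : u ∈ Subgroup.normalizer (Q' : Set G) := mem_normalizer_of_forall_mem fun q hq => by
    rw [← hz' q hq]; exact (Subgroup.mem_normalizer_iff.1 hzN q).1 hq
  set ρ := autHom Q' (le_refl (Subgroup.normalizer (Q' : Set G))) with hρ
  have hρe : ρ ⟨_, hzN⟩ = ρ ⟨u, huN⟩ := MulEquiv.ext fun q => Subtype.ext (hz' q q.2)
  obtain ⟨k, hk⟩ := hF.1.1.1.1 ⟨u, hu⟩
  have h1 : orderOf (ρ ⟨_, hzN⟩) ∣ p ^ k := by
    rw [hρe]
    refine (orderOf_map_dvd ρ _).trans ?_
    rw [← Subgroup.orderOf_coe]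
    exact orderOf_dvd_of_pow_eq_one (congrArg Subtype.val hk)
  have h2 : orderOf (ρ ⟨_, hzN⟩) ∣ orderOf x := by
    refine (orderOf_map_dvd ρ _).trans (dvd_of_eq ?_)
    rw [← Subgroup.orderOf_coe]
    exact MulEquiv.orderOf_eq (MulAut.conj y) x
  have h3 : ρ ⟨_, hzN⟩ = 1 := orderOf_eq_one_iff.1 (Nat.eq_one_of_dvd_coprimes
    ((hM.1.coprime_iff_not_dvd.2 hreg).pow_left k) h1 h2)
  intro q hq
  have h4 := congrArg Subtype.val (DFunLike.congr_fun h3 ⟨y * q * y⁻¹, q, hq, rfl⟩)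
  change y * x * y⁻¹ * (y * q * y⁻¹) * (y * x * y⁻¹)⁻¹ = y * q * y⁻¹ at h4
  have h5 : x * q * x⁻¹ = q := by
    have := congrArg (fun w => y⁻¹ * w * y) h4
    calc x * q * x⁻¹ = y⁻¹ * (y * x * y⁻¹ * (y * q * y⁻¹) * (y * x * y⁻¹)⁻¹) * y := by group
      _ = y⁻¹ * (y * q * y⁻¹) * y := this
      _ = q := by group
  exact (mul_inv_eq_iff_eq_mul.1 h5).symm

theorem fullyCentralized_of_inner (hM : IsPModular p M) (hF : IsBlockFusionSystemOn p M B P e F)
    (hnil : IsNilpotentBlock p M B) {Q : Subgroup G} (hQ : Q ≤ P) : F.IsFullyCentralized Q := by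
  refine ⟨hQ, fun R hR => ?_⟩
  obtain ⟨φ, hφ, rfl⟩ := hR
  rw [hom_eq_inner_of_nilpotent hM hF hnil Q] at hφ
  obtain ⟨-, u, hu, hux⟩ := hφ
  refine le_trans (le_of_eq ?_) (le_of_eq (card_map_conj (FusionSystem.centralizerIn P Q) u))
  congr 2
  have hr : φ.range = Q.map (MulAut.conj u).toMonoidHom := by
    ext z
    constructor
    · rintro ⟨x, rfl⟩; exact ⟨x, x.2, (hux x).symm⟩
    · rintro ⟨x, hx, rfl⟩; exact ⟨⟨x, hx⟩, hux _⟩
  ext z
  rw [hr, conjMap_mem_iff]
  show z ∈ P ∧ _ ↔ u⁻¹ * z * u ∈ P ∧ _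
  refine and_congr ?_ (conj_mem_cent_iff Q u z)
  constructor
  · exact fun h => P.mul_mem (P.mul_mem (P.inv_mem hu) h) hu
  · intro h
    have := P.mul_mem (P.mul_mem hu h) (P.inv_mem hu)
    simpa [mul_assoc] using this

theorem centP_eq_of_comm (hab : ∀ x ∈ P, ∀ y ∈ P, x * y = y * x) {R : Subgroup G} (hR : R ≤ P) :
    P ⊓ Subgroup.centralizer (R : Set G) = P :=
  inf_eq_left.2 fun x hx r hr => hab r (hR hr) x hx

/-- With abelian defect group every map extends to the defect group. -/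
theorem exists_extend_abelian (hM : IsPModular p M) (hF : IsBlockFusionSystemOn p M B P e F)
    (hab : ∀ x ∈ P, ∀ y ∈ P, x * y = y * x) {Q : Subgroup G} {φ : Q →* G} (hφ : φ ∈ F.Hom Q) :
    ∃ y ∈ pairStab P e, ∀ q : Q, φ q = y * q * y⁻¹ := by
  haveI : Fact p.Prime := ⟨hM.1⟩
  have hP : IsPGroup p P := hF.1.1.1.1
  have hQ := F.source_le hφ
  have hR : φ.range ≤ P := F.range_le hφ
  obtain ⟨f', ⟨hf', hle'⟩, -⟩ := existsUnique_subpair hM hP hF.1.1.1.2 φ.range hR
  have hfc : F.IsFullyCentralized φ.range := by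
    refine ⟨hR, fun T hT => ?_⟩
    show Nat.card (P ⊓ Subgroup.centralizer (T : Set G) : Subgroup G) ≤
      Nat.card (P ⊓ Subgroup.centralizer (φ.range : Set G) : Subgroup G)
    rw [centP_eq_of_comm hab hR, centP_eq_of_comm hab hT.le_right]
  obtain ⟨ψ, hψ, hext⟩ := (isReceptive_block hM hF hf' hle'
    ((fullyCentralized_iff hM hF hf' hle').1 hfc)).2 Q φ hφ rfl
  obtain ⟨hsrc, g, hg, hgP, k, hk, hkg⟩ := (hF.2 _ ψ).1 hψ
  have hPx : P ≤ FusionSystem.extender P Q φ := by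
    refine le_trans (le_of_eq ?_) (FusionSystem.centralizerIn_le_extender (F.apply_mem hφ))
    exact (centP_eq_of_comm hab hQ).symm
  have heq : FusionSystem.extender P Q φ = P := le_antisymm hsrc hPx
  suffices key : ∀ R : Subgroup G, R = P → R.map (MulAut.conj g).toMonoidHom ≤ P →
      ∀ k : Set (IrrCharacter (Subgroup.centralizer (R : Set G))), SubpairLE p M R k P e →
      SubpairLE p M (R.map (MulAut.conj g).toMonoidHom) (conjBlock R g k) P e →
      g ∈ pairStab P e by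
    refine ⟨g, key _ heq hgP k hk hkg, fun q => ?_⟩
    rw [← hext (q : G) q.2 (hPx (hQ q.2)), hg]
  rintro R rfl hgR k hk hkg
  have he := hF.1.1.1.2
  have hke : k = e := subpair_unique hM hP he (subpairLE_left_block he hk) he hk
    Relation.ReflTransGen.refl
  subst hke
  have hgR' : R.map (MulAut.conj g).toMonoidHom = R :=
    Subgroup.eq_of_le_of_card_ge hgR (card_map_conj R g).ge
  have hgN : g ∈ Subgroup.normalizer (R : Set G) := mem_normalizer_of_forall_mem fun y hy =>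
    hgR ⟨y, hy, rfl⟩
  refine (mem_pairStab g).2 ⟨hgN,
    (stabilizesBlock_iff (normalizer_le_normalizer_cent R hgN)).2 ?_⟩
  have h2 : Relation.ReflTransGen (NormalSubpairRel p M) ⟨R, rot hgN k⟩ ⟨R, k⟩ :=
    conjIdx_normalizer hgN k ▸ hkg
  exact subpair_unique hM hP he (isPBlock_image _ he) he h2 Relation.ReflTransGen.refl

theorem conjHom_mem_block (hF : IsBlockFusionSystemOn p M B P e F) {Q : Subgroup G}
    {f : Set (IrrCharacter (Subgroup.centralizer (Q : Set G)))}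
    (hle : SubpairLE p M Q f P e) {x : G} (hx : x ∈ pairStab Q f) :
    conjHom Q x ∈ F.Hom Q := by
  have hQ : Q ≤ P := subpairLE_le (a := ⟨Q, f⟩) (b := ⟨P, e⟩) hle
  have hxN := ((mem_pairStab x).1 hx).1
  refine (hF.2 Q _).2 ⟨hQ, x, fun _ => rfl, (map_conj_normalizer hxN).le.trans hQ, f, hle, ?_⟩
  show Relation.ReflTransGen (NormalSubpairRel p M) (conjIdx x ⟨Q, f⟩) ⟨P, e⟩
  rw [(stab_iff_idx _).1 ((mem_pairStab _).1 hx)]
  exact hle

end

theorem card_autInducedBy_eq_index {T Q : Subgroup G} (hT : T ≤ Subgroup.normalizer (Q : Set G)) :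
    ((Subgroup.centralizer (Q : Set G)).subgroupOf T).index = Nat.card (autInducedBy T Q) := by
  have h1 := card_normalizerIn_split hT
  have h2 := Subgroup.card_mul_index ((Subgroup.centralizer (Q : Set G)).subgroupOf T)
  have h3 : Nat.card ((Subgroup.centralizer (Q : Set G)).subgroupOf T) =
      Nat.card (T ⊓ Subgroup.centralizer (Q : Set G) : Subgroup G) := by
    rw [← Subgroup.inf_subgroupOf_left]
    exact Nat.card_congr (Subgroup.subgroupOfEquivOfLe inf_le_left).toEquiv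
  rw [h3, ← h1, mul_comm (Nat.card (autInducedBy T Q))] at h2
  exact Nat.eq_of_mul_eq_mul_left Nat.card_pos h2

/-- The regular rank one criterion for a normal `p`-complement. -/
theorem normal_of_rank_one (hM : IsPModular p M)
    (h : ∀ χ ∈ principalBlock M G, ∀ x : G, ¬ p ∣ orderOf x → (χ : G → ℂ) x = (χ : G → ℂ) 1) :
    ∃ N : Subgroup G, N.Normal ∧ ∀ x : G, x ∈ N ↔ ¬ p ∣ orderOf x := by
  classical
  set B := principalBlock M G with hB
  have hBb : IsPBlock M B := principalBlock_isPBlock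
  set c := blockCoeff B 1 with hc
  have hreg : ∀ x : G, ¬ p ∣ orderOf x → blockCoeff B x = c := by
    intro x hx
    simp only [hc, blockCoeff, finsum_mem_bset]
    congr 1
    exact Finset.sum_congr rfl fun χ hχ => by rw [h χ (mem_bset.1 hχ) x hx]
  have hsing : ∀ x : G, p ∣ orderOf x → blockCoeff B x = 0 := by
    intro x hx
    simp only [blockCoeff, finsum_mem_bset]
    rw [mul_eq_zero]
    right
    have hx' : p ∣ orderOf x⁻¹ := by rwa [orderOf_inv]
    refine Eq.trans (Finset.sum_congr rfl fun χ _ => ?_)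
      (weak_orth hM hBb (x := 1) (y := x⁻¹) (by simpa using hM.1.ne_one) hx')
    rw [irr_conjInv]
  set S : Finset G := Finset.univ.filter fun y => ¬ p ∣ orderOf y with hS
  have hsum : ∀ g : G, blockCoeff B g =
      ((S.filter fun y => ¬ p ∣ orderOf (y⁻¹ * g)).card : ℂ) * (c * c) := by
    intro g
    conv_lhs => rw [← conv_blockCoeff B]
    rw [conv, ← Finset.sum_filter_of_ne (s := Finset.univ)
      (p := fun y => ¬ p ∣ orderOf y ∧ ¬ p ∣ orderOf (y⁻¹ * g)) (fun y _ hy => by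
        refine ⟨fun h' => hy (by rw [hsing y h', zero_mul]),
          fun h' => hy (by rw [hsing _ h', mul_zero])⟩), hS, Finset.filter_filter]
    rw [Finset.sum_congr rfl fun y hy => by
      rw [hreg y (Finset.mem_filter.1 hy).2.1, hreg _ (Finset.mem_filter.1 hy).2.2],
      Finset.sum_const, nsmul_eq_mul]
  have hfull : (S.filter fun y => ¬ p ∣ orderOf (y⁻¹ * (1 : G))) = S := by
    refine Finset.filter_true_of_mem fun y hy => ?_
    simpa using (Finset.mem_filter.1 hy).2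
  have hc0 : c ≠ 0 := by
    intro hc0
    have hz : ∀ x : G, blockCoeff B x = 0 := fun x => by
      by_cases hx : p ∣ orderOf x
      · exact hsing x hx
      · rw [hreg x hx, hc0]
    have h1 : omega ((oneIrr G : IrrCharacter G) : G → ℂ) (blockCoeff B) = 1 := by
      rw [← cf_ind, omega_cf, ind_of_mem (oneIrr_mem hM)]
    simp [omega, hz] at h1
  have hclosed : ∀ y g : G, ¬ p ∣ orderOf y → ¬ p ∣ orderOf g → ¬ p ∣ orderOf (y⁻¹ * g) := by
    intro y g hy hg
    have h1 := (hreg g hg).symm.trans (hsum g)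
    have h2 := (hreg 1 (by simpa using hM.1.ne_one)).symm.trans (hsum 1)
    rw [hfull] at h2
    have h3 : (S.filter fun y => ¬ p ∣ orderOf (y⁻¹ * g)).card = S.card := by
      have h4 := h1.symm.trans h2
      exact_mod_cast mul_right_cancel₀ (mul_ne_zero hc0 hc0) h4
    have h5 := Finset.eq_of_subset_of_card_le (Finset.filter_subset _ _) h3.ge
    have h6 : y ∈ S := Finset.mem_filter.2 ⟨Finset.mem_univ y, hy⟩
    rw [← h5] at h6
    exact (Finset.mem_filter.1 h6).2
  refine ⟨{ carrier := {x | ¬ p ∣ orderOf x}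
            one_mem' := by simpa using hM.1.ne_one
            mul_mem' := fun {a b} ha hb => by
              have := hclosed a⁻¹ b (by simpa using ha) hb
              simpa using this
            inv_mem' := fun {a} ha => by simpa using ha }, ⟨fun n hn g => ?_⟩, fun x => Iff.rfl⟩
  show ¬ p ∣ orderOf (g * n * g⁻¹)
  have h' : orderOf (g * n * g⁻¹) = orderOf n := MulEquiv.orderOf_eq (MulAut.conj g) n
  rw [h']; exact hn

end CfsgLib.Blocks
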