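import Cfsg.Agent.Lib.Blocks.SecondMain
import Cfsg.Agent.Lib.Basic

/-!
# Principal block, existence of inducing blocks
-/

namespace CfsgLib.Blocks

open Cfsg CfsgLib.CharTheory
open scoped ComplexConjugate

set_option linter.unusedVariables false
set_option linter.unusedSimpArgs false
set_option linter.style.haveILetI false
set_option linter.unusedSectionVars false

universe u

variable {p : ℕ} {M : Ideal AlgInt} {G : Type u} [Group G] [Fintype G]

/-- The principal character. -/
noncomputable def oneIrr (G : Type u) [Group G] [Fintype G] : IrrCharacter G :=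
  ⟨fun _ => 1, isIrrCharacter_trivial⟩

theorem oneIrr_mem (hM : IsPModular p M) : oneIrr G ∈ principalBlock M G :=
  mem_blockOf_self hM (oneIrr G)

theorem principalBlock_isPBlock : IsPBlock M (principalBlock M G) := ⟨oneIrr G, rfl⟩

/-- The averaging function of a normal subgroup. -/
noncomputable def avgFn (N : Subgroup G) : G → ℂ :=
  open Classical in fun x => if x ∈ N then (Nat.card N : ℂ)⁻¹ else 0

theorem avgFn_isClassFunction (N : Subgroup G) [hN : N.Normal] :
    IsClassFunction G (avgFn N) := by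
  intro x y
  have : y * x * y⁻¹ ∈ N ↔ x ∈ N :=
    ⟨fun h => by simpa [mul_assoc] using hN.conj_mem _ h y⁻¹, fun h => hN.conj_mem _ h y⟩
  by_cases h : x ∈ N
  · simp only [avgFn, if_pos h, if_pos (this.2 h)]
  · simp only [avgFn, if_neg h, if_neg (mt this.1 h)]

theorem conv_avgFn (N : Subgroup G) : conv (avgFn N) (avgFn N) = avgFn N := by
  classical
  funext g
  simp only [conv, avgFn, ite_mul, zero_mul]
  rw [← Finset.sum_filter]
  have h : ∀ x ∈ Finset.univ.filter (fun x => x ∈ N),
      (Nat.card N : ℂ)⁻¹ * (if x⁻¹ * g ∈ N then (Nat.card N : ℂ)⁻¹ else 0) =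
      (Nat.card N : ℂ)⁻¹ * (if g ∈ N then (Nat.card N : ℂ)⁻¹ else 0) := by
    intro x hx
    have : x⁻¹ * g ∈ N ↔ g ∈ N := N.mul_mem_cancel_left (N.inv_mem (Finset.mem_filter.1 hx).2)
    simp only [this]
  rw [Finset.sum_congr rfl h, Finset.sum_const, nsmul_eq_mul, ← mul_assoc,
    show ((Finset.univ.filter fun x => x ∈ N).card : ℂ) = (Nat.card N : ℂ) by
      rw [Nat.card_eq_fintype_card, Fintype.card_subtype],
    mul_inv_cancel₀ (Nat.cast_ne_zero.2 Nat.card_pos.ne'), one_mul]

/-- On the average, a central character is `0` or `1`, and `1` exactly on characters trivial on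
the subgroup. -/
theorem omega_avgFn (N : Subgroup G) [N.Normal] (χ : IrrCharacter G) :
    (omega (χ : G → ℂ) (avgFn N) = 0 ∨ omega (χ : G → ℂ) (avgFn N) = 1) ∧
      (omega (χ : G → ℂ) (avgFn N) = 1 ↔ ∀ n ∈ N, (χ : G → ℂ) n = (χ : G → ℂ) 1) := by
  classical
  have hcl := avgFn_isClassFunction N
  refine ⟨?_, ?_⟩
  · have h := omega_conv (h := avgFn N) hcl χ
    rw [conv_avgFn] at h
    rcases eq_or_ne (omega (χ : G → ℂ) (avgFn N)) 0 with h0 | h0
    · exact Or.inl h0
    · exact Or.inr (mul_right_cancel₀ h0 (h.symm.trans (one_mul _).symm))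
  · have hsum : ∀ y : G, ∑ g, avgFn N g * (χ : G → ℂ) (g * y) =
        (Nat.card N : ℂ)⁻¹ * ∑ g ∈ Finset.univ.filter (fun g => g ∈ N), (χ : G → ℂ) (g * y) := by
      intro y
      rw [Finset.sum_filter, Finset.mul_sum]
      refine Finset.sum_congr rfl fun g _ => ?_
      simp only [avgFn]
      split_ifs <;> simp
    constructor
    · intro h n hn
      have h1 := sum_classFun_mul_shift hcl χ n
      have h2 := sum_classFun_mul_shift hcl χ 1
      rw [h, one_mul, hsum] at h1 h2
      rw [← h1, ← h2]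
      congr 1
      refine Finset.sum_equiv (Equiv.mulRight n) (fun g => ?_) (fun g _ => ?_)
      · simp only [Finset.mem_filter, Finset.mem_univ, true_and, Equiv.coe_mulRight]
        exact (N.mul_mem_cancel_right hn).symm
      · simp
    · intro h
      rw [omega, div_eq_one_iff_eq (irr_one_ne_zero χ)]
      have h1 := hsum 1
      simp only [mul_one] at h1
      rw [h1, Finset.sum_congr rfl fun g hg => h g (Finset.mem_filter.1 hg).2, Finset.sum_const,
        nsmul_eq_mul, ← mul_assoc,
        show ((Finset.univ.filter fun x => x ∈ N).card : ℂ) = (Nat.card N : ℂ) by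
          rw [Nat.card_eq_fintype_card, Fintype.card_subtype],
        inv_mul_cancel₀ (Nat.cast_ne_zero.2 Nat.card_pos.ne'), one_mul]

theorem avgFn_mem (hM : IsPModular p M) {N : Subgroup G} (hN : ¬ p ∣ Nat.card N) (x : G) :
    MemLocalRing M (avgFn N x) := by
  simp only [avgFn]; split_ifs
  · exact natCast_inv_mem hM hN
  · exact (loc hM).zero_mem

/-- A normal subgroup of order prime to `p` is in the kernel of the principal block. -/
theorem principal_kernel (hM : IsPModular p M) {N : Subgroup G} [N.Normal]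
    (hN : ¬ p ∣ Nat.card N) {χ : IrrCharacter G} (hχ : χ ∈ principalBlock M G) {n : G}
    (hn : n ∈ N) : (χ : G → ℂ) n = (χ : G → ℂ) 1 := by
  haveI := res_isDomain hM
  have h1 : omega ((oneIrr G : IrrCharacter G) : G → ℂ) (avgFn N) = 1 :=
    (omega_avgFn N (oneIrr G)).2.2 fun _ _ => rfl
  have h := Zloc_res_congr hM
    (v := fun ψ : IrrCharacter G => omega (ψ : G → ℂ) (avgFn N))
    (omega_mem_Zloc hM (avgFn_isClassFunction N) (avgFn_mem hM hN))
    (χ := oneIrr G) (ψ := χ) hχ
  rw [h1, res_one] at h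
  refine (omega_avgFn N χ).2.1 ?_ n hn
  rcases (omega_avgFn N χ).1 with h0 | h0
  · rw [h0, res_zero] at h; exact absurd h one_ne_zero
  · exact h0

/-- In a group with normal `p`-complement the principal block is the set of characters trivial on
it. -/
theorem principalBlock_of_complement (hM : IsPModular p M) {N : Subgroup G} [N.Normal]
    (hN : ¬ p ∣ Nat.card N) (hidx : ∃ k : ℕ, N.index = p ^ k) :
    principalBlock M G = {χ : IrrCharacter G | ∀ n ∈ N, (χ : G → ℂ) n = (χ : G → ℂ) 1} := by
  classical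
  haveI : Fact p.Prime := ⟨hM.1⟩
  ext χ
  refine ⟨fun h n hn => principal_kernel hM hN h hn, fun h => ?_⟩
  show SameBlock M ((oneIrr G : IrrCharacter G) : G → ℂ) (χ : G → ℂ)
  by_contra hc
  have h0 := regS_eq_zero hM hc
  obtain ⟨k, hk⟩ := hidx
  have hreg : ∀ g : G, ¬ p ∣ orderOf g ↔ g ∈ N := by
    intro g
    constructor
    · intro hg
      rw [← QuotientGroup.eq_one_iff, ← orderOf_eq_one_iff]
      refine Nat.eq_one_of_dvd_coprimes ((hM.1.coprime_iff_not_dvd.2 hg).pow_left k) ?_
        (orderOf_map_dvd (QuotientGroup.mk' N) g)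
      rw [← hk]
      exact orderOf_dvd_natCard _
    · intro hg hd
      exact hN (hd.trans (Subgroup.orderOf_dvd_natCard N hg))
  rw [regS_eq_sum, Finset.sum_congr (s₂ := Finset.univ.filter fun g => g ∈ N)
    (Finset.filter_congr fun g _ => hreg g) fun g hg => show
      ((oneIrr G : IrrCharacter G) : G → ℂ) g * (χ : G → ℂ) g⁻¹ = (χ : G → ℂ) 1 by
        rw [h _ (N.inv_mem (Finset.mem_filter.1 hg).2)]; exact one_mul _,
    Finset.sum_const, nsmul_eq_mul, mul_eq_zero] at h0
  rcases h0 with h0 | h0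
  · rw [Nat.cast_eq_zero, Finset.card_eq_zero] at h0
    exact Finset.ne_empty_of_mem (Finset.mem_filter.2 ⟨Finset.mem_univ _, N.one_mem⟩) h0
  · exact irr_one_ne_zero χ h0

/-- Sum of squared degrees of the characters trivial on a normal subgroup. -/
theorem sum_sq_kernel (N : Subgroup G) [N.Normal] :
    ∑ χ ∈ bset {χ : IrrCharacter G | ∀ n ∈ N, (χ : G → ℂ) n = (χ : G → ℂ) 1},
      (χ : G → ℂ) 1 * (χ : G → ℂ) 1 = (N.index : ℂ) := by
  classical
  set A := {χ : IrrCharacter G | ∀ n ∈ N, (χ : G → ℂ) n = (χ : G → ℂ) 1}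
  have he : cf (ind A) = avgFn N := by
    rw [← cf_omega (avgFn_isClassFunction N)]
    congr 1
    funext χ
    by_cases h : χ ∈ A
    · rw [ind_of_mem h, (omega_avgFn N χ).2.2 h]
    · rw [ind_of_notMem h]
      exact ((omega_avgFn N χ).1.resolve_right fun h1 => h ((omega_avgFn N χ).2.1 h1)).symm
  have h1 := congrFun he 1
  rw [cf_ind, blockCoeff, finsum_mem_bset] at h1
  simp only [avgFn, if_pos N.one_mem, irr_one_conj] at h1
  have hG : (Nat.card G : ℂ) ≠ 0 := Nat.cast_ne_zero.2 Nat.card_pos.ne'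
  have hN : (Nat.card N : ℂ) ≠ 0 := Nat.cast_ne_zero.2 Nat.card_pos.ne'
  rw [inv_mul_eq_iff_eq_mul₀ hG] at h1
  rw [h1, ← N.index_mul_card, Nat.cast_mul, mul_inv_cancel_right₀ hN]

/-- An induced block has a unit idempotent coefficient inside the subgroup. -/
theorem exists_unit_of_induced (hM : IsPModular p M) (H : Subgroup G) [Fintype H]
    {b : Set (IrrCharacter H)} {B : Set (IrrCharacter G)} (hind : IsInducedBlock M H b B) :
    ∃ k : H, ¬ MemLocalIdeal M (blockCoeff B k) := by
  haveI := res_isDomain hM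
  obtain ⟨ξ, hξ⟩ := block_nonempty hM hind.1
  obtain ⟨φ, hφ⟩ := block_nonempty hM hind.2.1
  by_contra hc
  push Not at hc
  have h := res_omega_of_induced H hM ξ φ (hind.2.2 ξ hξ φ hφ)
    (blockCoeff_isClassFunction B) (memRing_blockCoeff hM hind.2.1)
  have h2 : omega (φ : G → ℂ) (blockCoeff B) = 1 := by
    rw [← cf_ind, omega_cf, ind_of_mem hφ]
  have hres : IsClassFunction H (fun k : H => blockCoeff B k) :=
    fun x y => blockCoeff_isClassFunction _ (x : G) (y : G)
  rw [h2, res_one, res_omega_congr hM hres (f' := fun _ => 0) (fun _ _ => rfl)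
    (fun k => memRing_blockCoeff hM hind.2.1 _) (fun _ => (loc hM).zero_mem)
    (fun k => by rw [res_zero, res_eq_zero_iff hM (memRing_blockCoeff hM hind.2.1 _)]; exact hc k)
    ξ] at h
  simp [omega, res_zero hM] at h

/-- For `P C(P) ≤ H ≤ N(P)`, a block with a unit coefficient on `C(P)` is induced from `H`. -/
theorem exists_inducing (hM : IsPModular p M) (P H : Subgroup G) [Fintype H] (hP : IsPGroup p P)
    (hPH : P ≤ H) (hC : Subgroup.centralizer (P : Set G) ≤ H)
    (hN : H ≤ Subgroup.normalizer (P : Set G)) {B : Set (IrrCharacter G)} (hB : IsPBlock M B)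
    {k : G} (hk : k ∈ Subgroup.centralizer (P : Set G))
    (hu : ¬ MemLocalIdeal M (blockCoeff B k)) :
    ∃ b : Set (IrrCharacter H), IsInducedBlock M H b B := by
  classical
  haveI := res_isDomain hM
  have hBcl := blockCoeff_isClassFunction B
  have hBm := memRing_blockCoeff hM hB
  by_contra hc
  push Not at hc
  have hcl := brFun_isClassFunction P H hN hBcl
  have hm := brFun_mem P H hM hBm
  set w : Zloc H hM := ⟨_, omega_mem_Zloc hM hcl hm⟩ with hw
  have hval : ∀ ξ, MemLocalIdeal M ((w : IrrCharacter H → ℂ) ξ) := by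
    intro ξ
    show MemLocalIdeal M (omega (ξ : H → ℂ) (brFun P H (blockCoeff B)))
    rw [← res_eq_zero_iff hM (memRing_omega hM hcl hm ξ)]
    obtain ⟨φ, hφ⟩ := exists_irr_brauer P H hM hP hC hN ξ
    rw [hφ _ hBcl hBm, ← cf_ind, omega_cf]
    by_cases hφB : φ ∈ B
    · refine absurd ?_ (hc (blockOf M (ξ : H → ℂ)))
      refine isInducedBlock_of_congr H hM (blockOf_isPBlock ξ) hB (mem_blockOf_self hM ξ) hφB
        fun g => ?_
      rw [memIdeal_sub_iff hM (memRing_inducedCentralChar H hM ξ g)
        (show MemLocalRing M (centralChar (φ : G → ℂ) g) from memRing_clv hM g φ),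
        ← omega_classInd g φ, ← omega_restrict_classInd H g,
        res_omega_restrict P H hM hP hPH hN (isClassFunction_classInd g)
          (memRing_classInd hM g) ξ]
      exact hφ _ (isClassFunction_classInd g) (memRing_classInd hM g)
    · rw [ind_of_notMem hφB, res_zero]
  have hcfw : cf ((w : Zloc H hM) : IrrCharacter H → ℂ) = brFun P H (blockCoeff B) :=
    cf_omega hcl
  have hidem : w * w - w ∈ Jloc H hM := by
    intro x
    rw [AddSubgroupClass.coe_sub, sub_eq_add_neg, cf_add, cf_neg, Subring.coe_mul, cf_mul, hcfw,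
      Pi.add_apply, Pi.neg_apply, ← sub_eq_add_neg]
    have hcm : MemLocalRing M (conv (brFun P H (blockCoeff B)) (brFun P H (blockCoeff B)) x) :=
      memRing_sum hM fun l _ => (loc hM).mul_mem (hm l) (hm _)
    rw [memIdeal_sub_iff hM hcm (hm x),
      ← res_brFun_conv P H hM hP hC hBcl hBcl hBm hBm x, conv_blockCoeff_self]
  have hn := pow_mem_Jloc hM w hval
  have hwJ : w ∈ Jloc H hM := by
    rw [← Ideal.Quotient.eq_zero_iff_mem] at hn ⊢
    rw [← Ideal.Quotient.eq_zero_iff_mem, map_sub, map_mul, sub_eq_zero] at hidem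
    rw [map_pow, (show IsIdempotentElem _ from hidem).pow_eq
      (Fintype.card_pos_iff.2 ⟨oneIrr H⟩).ne'] at hn
    exact hn
  apply hu
  have h := hwJ ⟨k, hC hk⟩
  rw [hcfw, show brFun P H (blockCoeff B) ⟨k, hC hk⟩ = blockCoeff B k from if_pos hk] at h
  exact h

/-- The blocks of `C(x)` inducing the principal block: only the principal one. -/
theorem overBlocks_principal (hM : IsPModular p M) {x : G} {H : Subgroup G} [Fintype H]
    (hH : IsCentr x H) (hx : ∃ k : ℕ, orderOf x = p ^ k) :
    overBlocks M H (principalBlock M G) = principalBlock M H := by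
  have key : ∀ ψ : IrrCharacter H, IsInducedBlock M H (blockOf M (ψ : H → ℂ)) (principalBlock M G) ↔
      blockOf M (ψ : H → ℂ) = principalBlock M H := by
    intro ψ
    obtain ⟨φ, hφ⟩ := exists_induced_centr hM hH hx ψ
    exact okuyama hM H (oneIrr G) (oneIrr H) rfl (height_trivial _) (height_trivial _)
      ⟨_, isInducedBlock_of_congr H hM (blockOf_isPBlock ψ) (blockOf_isPBlock φ)
        (mem_blockOf_self hM ψ) (mem_blockOf_self hM φ) hφ⟩
  ext ψ
  show IsInducedBlock M H (blockOf M (ψ : H → ℂ)) (principalBlock M G) ↔ _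
  rw [key ψ]
  exact ⟨fun h => h ▸ mem_blockOf_self hM ψ,
    fun h => (eq_blockOf hM principalBlock_isPBlock h).symm⟩

end CfsgLib.Blocks
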