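import Cfsg.Agent.Lib.Blocks.Brauer
import Cfsg.Agent.Lib.Blocks.Heights

/-!
# Min–max for defect classes, defect groups
-/

namespace CfsgLib.Blocks

open Cfsg CfsgLib.CharTheory

set_option linter.unusedVariables false
set_option linter.unusedSimpArgs false
set_option linter.style.haveILetI false
set_option linter.unusedSectionVars false

universe u

variable {p : ℕ} {M : Ideal AlgInt} {G : Type u} [Group G] [Fintype G]

/-- Elements of `Z(OG)` killed by the Brauer map at `P`. -/
noncomputable def brKer (hM : IsPModular p M) (P : Subgroup G) (hP : IsPGroup p P) :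
    Ideal (Zloc G hM) where
  carrier := {v | ∀ x ∈ Subgroup.centralizer (P : Set G),
    res hM (cf (v : IrrCharacter G → ℂ) x) = 0}
  zero_mem' := fun x _ => by simp [cf, res_zero hM]
  add_mem' := fun {v w} hv hw x hx => by
    rw [Subring.coe_add, cf_add]
    show res hM (cf (v : IrrCharacter G → ℂ) x + cf (w : IrrCharacter G → ℂ) x) = 0
    rw [res_add hM (v.2 x) (w.2 x), hv x hx, hw x hx, add_zero]
  smul_mem' := fun c v hv x hx => by
    classical
    haveI : Fintype (Subgroup.centralizer (P : Set G)) := Fintype.ofFinite _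
    simp only [smul_eq_mul, Subring.coe_mul, cf_mul]
    have h := res_brFun_conv P (Subgroup.centralizer (P : Set G)) hM hP le_rfl
      (cf_isClassFunction (c : IrrCharacter G → ℂ)) (cf_isClassFunction (v : IrrCharacter G → ℂ))
      c.2 v.2 ⟨x, hx⟩
    rw [show brFun P _ (conv (cf (c : IrrCharacter G → ℂ)) (cf (v : IrrCharacter G → ℂ))) ⟨x, hx⟩ =
      conv (cf (c : IrrCharacter G → ℂ)) (cf (v : IrrCharacter G → ℂ)) x from if_pos hx] at h
    rw [h]
    simp only [conv]
    rw [res_sum hM fun l _ => (loc hM).mul_mem (brFun_mem P _ hM c.2 _) (brFun_mem P _ hM v.2 _)]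
    refine Finset.sum_eq_zero fun l _ => ?_
    rw [res_mul hM (brFun_mem P _ hM c.2 _) (brFun_mem P _ hM v.2 _)]
    refine mul_eq_zero_of_right _ ?_
    have hlx : ((l⁻¹ * ⟨x, hx⟩ : Subgroup.centralizer (P : Set G)) : G) ∈
        Subgroup.centralizer (P : Set G) := Subtype.mem _
    rw [show brFun P _ (cf (v : IrrCharacter G → ℂ)) (l⁻¹ * ⟨x, hx⟩) =
      cf (v : IrrCharacter G → ℂ) ((l⁻¹ * ⟨x, hx⟩ : Subgroup.centralizer (P : Set G)) : G)
        from if_pos hlx]
    exact hv _ hlx

theorem Jloc_le_brKer (hM : IsPModular p M) (P : Subgroup G) (hP : IsPGroup p P) :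
    Jloc G hM ≤ brKer hM P hP := fun v hv x _ => (res_eq_zero_iff hM (v.2 x)).2 (hv x)

/-- If a class has unit central character on `B` and the idempotent has unit coefficient at `l`,
then every `p`-subgroup of `C(l)` centralizes a conjugate of the class representative. -/
theorem exists_conj_centralizing (hM : IsPModular p M) {B : Set (IrrCharacter G)}
    (hB : IsPBlock M B) {χ : IrrCharacter G} (hχ : χ ∈ B) {h l : G}
    (hh : ¬ MemLocalIdeal M (centralChar (χ : G → ℂ) h))
    (hl : ¬ MemLocalIdeal M (blockCoeff B l)) {P : Subgroup G} (hP : IsPGroup p P)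
    (hPl : P ≤ Subgroup.centralizer ({l} : Set G)) :
    ∃ h', IsConj h h' ∧ h' ∈ Subgroup.centralizer (P : Set G) := by
  classical
  haveI := res_isDomain hM
  by_contra hc
  push Not at hc
  set c : ℂ := clv h χ with hcdef
  have hcm : MemLocalRing M c := memRing_clv hM h χ
  set v : Zloc G hM := ⟨clv h, clv_mem_Zloc hM h⟩ with hv
  set e : Zloc G hM := ⟨ind B, ind_mem_Zloc hM hB⟩ with he
  set cc : Zloc G hM := ⟨fun _ => c, const_mem_Zloc hM hcm⟩ with hcc
  have hee : e * e = e := Subtype.ext (funext fun ψ => by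
    by_cases hψ : ψ ∈ B <;> simp [he, ind_of_mem, ind_of_notMem, hψ])
  have hvI : v ∈ brKer hM P hP := fun x hx => by
    show res hM (cf (clv h) x) = 0
    rw [cf_clv]
    dsimp only
    rw [if_neg fun hcon => hc x hcon hx, res_zero]
  have hval : ∀ ψ, MemLocalIdeal M ((((v - cc) * e : Zloc G hM) : IrrCharacter G → ℂ) ψ) := by
    intro ψ
    show MemLocalIdeal M ((clv h ψ - c) * ind B ψ)
    by_cases hψ : ψ ∈ B
    · rw [ind_of_mem hψ, mul_one, memIdeal_sub_iff hM (memRing_clv hM h ψ) hcm]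
      exact (sameBlock_iff_res hM ψ χ).1 (sameBlock_of_mem hM hB hψ hχ) h
    · rw [ind_of_notMem hψ, mul_zero]; exact memIdeal_zero hM
  set N := Fintype.card (IrrCharacter G) with hN
  have hN0 : 0 < N := Fintype.card_pos_iff.2 ⟨χ⟩
  have h1 := Jloc_le_brKer hM P hP (pow_mem_Jloc hM _ hval)
  rw [← hN, ← Ideal.Quotient.eq_zero_iff_mem, map_pow, map_mul, map_sub,
    Ideal.Quotient.eq_zero_iff_mem.2 hvI, zero_sub, mul_pow, neg_pow, mul_assoc, ← map_pow,
    ← map_pow, (show IsIdempotentElem e from hee).pow_eq hN0.ne', ← map_mul] at h1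
  have h2 : cc ^ N * e ∈ brKer hM P hP := by
    rw [← Ideal.Quotient.eq_zero_iff_mem]
    rcases neg_one_pow_eq_or (Zloc G hM ⧸ brKer hM P hP) N with h' | h' <;> rw [h'] at h1
    · simpa using h1
    · simpa using h1
  have hlC : l ∈ Subgroup.centralizer (P : Set G) := fun r hr =>
    Subgroup.mem_centralizer_singleton_iff.1 (hPl hr)
  have h3 := h2 l hlC
  have e3 : cf ((cc ^ N * e : Zloc G hM) : IrrCharacter G → ℂ) = c ^ N • blockCoeff B := by
    rw [← cf_ind, ← cf_smul]
    rfl
  rw [e3, Pi.smul_apply, smul_eq_mul, res_mul hM ((loc hM).pow_mem hcm N)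
    (memRing_blockCoeff hM hB l), res_pow hM hcm, mul_eq_zero] at h3
  rcases h3 with h3 | h3
  · exact hh ((res_eq_zero_iff hM hcm).1 (eq_zero_of_pow_eq_zero h3))
  · exact hl ((res_eq_zero_iff hM (memRing_blockCoeff hM hB l)).1 h3)

theorem conjMap_mem_iff {P : Subgroup G} {x y : G} :
    y ∈ P.map (MulAut.conj x).toMonoidHom ↔ x⁻¹ * y * x ∈ P := by
  rw [Subgroup.mem_map]
  constructor
  · rintro ⟨z, hz, rfl⟩; simpa [mul_assoc] using hz
  · intro h; exact ⟨_, h, by simp [mul_assoc]⟩

theorem conjMap_mul (P : Subgroup G) (x y : G) :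
    (P.map (MulAut.conj y).toMonoidHom).map (MulAut.conj x).toMonoidHom =
      P.map (MulAut.conj (x * y)).toMonoidHom := by
  rw [Subgroup.map_map]; congr 1; ext; simp [mul_assoc]

theorem conjMap_one (P : Subgroup G) : P.map (MulAut.conj (1 : G)).toMonoidHom = P := by
  ext; simp [conjMap_mem_iff]

/-- Sylow subgroups of a subgroup, inside the ambient group, absorb `p`-subgroups up to
conjugation. -/
theorem exists_conj_le_sylow [Fact p.Prime] (C : Subgroup G) (S : Sylow p C) {P : Subgroup G}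
    (hP : IsPGroup p P) (hPC : P ≤ C) :
    ∃ c ∈ C, P.map (MulAut.conj c).toMonoidHom ≤ (S : Subgroup C).map C.subtype := by
  obtain ⟨Q, hQ⟩ := (hP.comap_of_injective C.subtype C.subtype_injective).exists_le_sylow
  obtain ⟨c, hc⟩ := MulAction.exists_smul_eq C Q S
  refine ⟨c, c.2, fun y hy => ?_⟩
  rw [conjMap_mem_iff] at hy
  refine ⟨c * ⟨(c : G)⁻¹ * y * c, hPC hy⟩ * c⁻¹, ?_, by simp [mul_assoc]⟩
  rw [← hc]
  have h1 : (⟨(c : G)⁻¹ * y * c, hPC hy⟩ : C) ∈ Q := hQ hy
  show c * _ * c⁻¹ ∈ ((c • Q : Sylow p C) : Subgroup C)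
  rw [Sylow.coe_subgroup_smul]
  exact Subgroup.smul_mem_pointwise_smul _ (MulAut.conj c) _ h1

theorem mem_centralizer_conj {P : Subgroup G} {a : G} (x : G)
    (h : a ∈ Subgroup.centralizer (P : Set G)) :
    P.map (MulAut.conj x).toMonoidHom ≤ Subgroup.centralizer ({x * a * x⁻¹} : Set G) := by
  rintro _ ⟨r, hr, rfl⟩
  rw [Subgroup.mem_centralizer_singleton_iff]
  have := h r hr
  simp only [MulEquiv.coe_toMonoidHom, MulAut.conj_apply]
  calc x * r * x⁻¹ * (x * a * x⁻¹) = x * (r * a) * x⁻¹ := by group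
    _ = x * (a * r) * x⁻¹ := by rw [this]
    _ = x * a * x⁻¹ * (x * r * x⁻¹) := by group

/-- The min–max inclusion. -/
theorem sylow_le_conj (hM : IsPModular p M) {B : Set (IrrCharacter G)} (hB : IsPBlock M B)
    {χ : IrrCharacter G} (hχ : χ ∈ B) {h l : G}
    (hh : ¬ MemLocalIdeal M (centralChar (χ : G → ℂ) h))
    (hl : ¬ MemLocalIdeal M (blockCoeff B l)) {P : Subgroup G} (hP : IsPGroup p P)
    (hPl : P ≤ Subgroup.centralizer ({l} : Set G))
    (S : Sylow p (Subgroup.centralizer ({h} : Set G))) :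
    ∃ x : G, P.map (MulAut.conj x).toMonoidHom ≤
      (S : Subgroup (Subgroup.centralizer ({h} : Set G))).map
        (Subgroup.centralizer ({h} : Set G)).subtype := by
  haveI : Fact p.Prime := ⟨hM.1⟩
  obtain ⟨h', hc, hh'⟩ := exists_conj_centralizing hM hB hχ hh hl hP hPl
  obtain ⟨a, ha⟩ := isConj_iff.1 hc
  have h1 := mem_centralizer_conj a⁻¹ hh'
  rw [← ha, inv_inv, show a⁻¹ * (a * h * a⁻¹) * a = h by group] at h1
  obtain ⟨c, -, hc'⟩ := exists_conj_le_sylow _ S (hP.map _) h1
  exact ⟨c * a⁻¹, by rwa [conjMap_mul] at hc'⟩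

theorem isDefectClass_conj {B : Set (IrrCharacter G)} {g : G} (hg : IsDefectClass M B g) (x : G) :
    IsDefectClass M B (x * g * x⁻¹) := by
  have h1 : blockCoeff B (x * g * x⁻¹) = blockCoeff B g := blockCoeff_isClassFunction B g x
  refine ⟨h1.symm ▸ hg.1, h1.symm ▸ hg.2.1, fun χ hχ => ?_⟩
  have h2 : centralChar (χ : G → ℂ) (x * g * x⁻¹) = centralChar (χ : G → ℂ) g := by
    classical
    rw [centralChar_eq_sum, centralChar_eq_sum]
    congr 1
    refine Finset.sum_congr (Finset.filter_congr fun y _ => ?_) fun _ _ => rfl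
    exact ⟨fun h => (isConj_iff.2 ⟨x, rfl⟩).trans h,
      fun h => (isConj_iff.2 ⟨x, rfl⟩).symm.trans h⟩
  rw [h2]; exact hg.2.2 χ hχ

theorem isDefectGroup_conj [Fact p.Prime] {B : Set (IrrCharacter G)} {D : Subgroup G}
    (hD : IsDefectGroup p M B D) (x : G) :
    IsDefectGroup p M B (D.map (MulAut.conj x).toMonoidHom) := by
  obtain ⟨g, hg, S, rfl⟩ := hD
  set C' := Subgroup.centralizer ({x * g * x⁻¹} : Set G)
  set D' := ((S : Subgroup (Subgroup.centralizer ({g} : Set G))).map (Subgroup.centralizer ({g} : Set G)).subtype).map (MulAut.conj x).toMonoidHom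
  have hle : D' ≤ C' := by
    refine mem_centralizer_conj x ?_
    rintro _ ⟨r, -, rfl⟩
    exact Subgroup.mem_centralizer_singleton_iff.1 r.2
  have hcard : Nat.card D' = Nat.card (S : Subgroup (Subgroup.centralizer ({g} : Set G))) := by
    rw [Subgroup.card_map_of_injective (MulAut.conj x).injective,
      Subgroup.card_map_of_injective (Subgroup.centralizer ({g} : Set G)).subtype_injective]
  have hCC : Nat.card C' = Nat.card (Subgroup.centralizer ({g} : Set G)) := by
    refine Nat.card_congr (Equiv.subtypeEquiv (MulAut.conj x⁻¹).toEquiv fun y => ?_)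
    show y ∈ C' ↔ MulAut.conj x⁻¹ y ∈ (Subgroup.centralizer ({g} : Set G))
    simp only [C', Subgroup.mem_centralizer_singleton_iff, MulAut.conj_apply, inv_inv]
    constructor
    · intro h
      calc x⁻¹ * y * x * g = x⁻¹ * (y * (x * g * x⁻¹)) * x := by group
        _ = x⁻¹ * ((x * g * x⁻¹) * y) * x := by rw [h]
        _ = g * (x⁻¹ * y * x) := by group
    · intro h
      calc y * (x * g * x⁻¹) = x * (x⁻¹ * y * x * g) * x⁻¹ := by group
        _ = x * (g * (x⁻¹ * y * x)) * x⁻¹ := by rw [h]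
        _ = x * g * x⁻¹ * y := by group
  refine ⟨x * g * x⁻¹, isDefectClass_conj hg x, Sylow.ofCard (D'.subgroupOf C') ?_, ?_⟩
  · rw [Nat.card_congr (Subgroup.subgroupOfEquivOfLe hle).toEquiv, hcard, hCC]
    exact S.card_eq_multiplicity
  · rw [Sylow.coe_ofCard, Subgroup.map_subgroupOf_eq_of_le hle]
    all_goals rfl

/-- A `p`-subgroup centralizing an element with unit idempotent coefficient lies in a defect group. -/
theorem exists_defectGroup_ge (hM : IsPModular p M) {B : Set (IrrCharacter G)}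
    (hB : IsPBlock M B) {l : G} (hl : ¬ MemLocalIdeal M (blockCoeff B l)) {P : Subgroup G}
    (hP : IsPGroup p P) (hPl : P ≤ Subgroup.centralizer ({l} : Set G)) :
    ∃ D : Subgroup G, IsDefectGroup p M B D ∧ P ≤ D := by
  haveI : Fact p.Prime := ⟨hM.1⟩
  obtain ⟨g, hg⟩ := exists_defectClass hM hB
  obtain ⟨χ, hχ⟩ := block_nonempty hM hB
  obtain ⟨S⟩ : Nonempty (Sylow p (Subgroup.centralizer ({g} : Set G))) := inferInstance
  obtain ⟨x, hx⟩ := sylow_le_conj hM hB hχ (hg.2.2 χ hχ) hl hP hPl S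
  refine ⟨_, isDefectGroup_conj ⟨g, hg, S, rfl⟩ x⁻¹, fun y hy => ?_⟩
  rw [conjMap_mem_iff, inv_inv]
  exact hx (conjMap_mem_iff.2 (by simpa [mul_assoc] using hy))

theorem card_defectGroup (hM : IsPModular p M) {B : Set (IrrCharacter G)} (hB : IsPBlock M B)
    {D : Subgroup G} (hD : IsDefectGroup p M B D) : Nat.card D = p ^ blockDefect p B := by
  haveI : Fact p.Prime := ⟨hM.1⟩
  obtain ⟨g, hg, P, rfl⟩ := hD
  rw [Subgroup.card_map_of_injective (Subgroup.subtype_injective _), P.card_eq_multiplicity,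
    blockDefect_eq_centralizer hM hB hg]

theorem defectGroup_isPGroup {B : Set (IrrCharacter G)} {D : Subgroup G}
    (hD : IsDefectGroup p M B D) : IsPGroup p D := by
  obtain ⟨g, hg, P, rfl⟩ := hD
  exact P.isPGroup'.map _

/-- Defect groups are conjugate. -/
theorem defectGroup_conjugate (hM : IsPModular p M) {B : Set (IrrCharacter G)}
    (hB : IsPBlock M B) {D E : Subgroup G} (hD : IsDefectGroup p M B D)
    (hE : IsDefectGroup p M B E) : ∃ x : G, D.map (MulAut.conj x).toMonoidHom = E := by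
  have hc : Nat.card D = Nat.card E := (card_defectGroup hM hB hD).trans (card_defectGroup hM hB hE).symm
  obtain ⟨χ, hχ⟩ := block_nonempty hM hB
  have hDp := defectGroup_isPGroup hD
  obtain ⟨g, hg, P, rfl⟩ := hD
  obtain ⟨h, hh, Q, rfl⟩ := hE
  obtain ⟨x, hx⟩ := sylow_le_conj hM hB hχ (hh.2.2 χ hχ) hg.2.1 hDp
    (by rintro _ ⟨r, -, rfl⟩; exact r.2) Q
  refine ⟨x, Subgroup.eq_of_le_of_card_ge hx (le_of_eq ?_)⟩
  exact hc.symm.trans (Subgroup.card_map_of_injective (MulAut.conj x).injective).symm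

/-- A normal `p`-subgroup centralizes every class with unit idempotent coefficient. -/
theorem mem_centralizer_normal (hM : IsPModular p M) {B : Set (IrrCharacter G)}
    (hB : IsPBlock M B) {P : Subgroup G} [P.Normal] (hP : IsPGroup p P) {g : G}
    (hg : ¬ MemLocalIdeal M (blockCoeff B g)) : g ∈ Subgroup.centralizer (P : Set G) := by
  classical
  by_contra hgC
  haveI hCn : (Subgroup.centralizer (P : Set G)).Normal := inferInstance
  set f : G → ℂ := fun x => if x ∈ Subgroup.centralizer (P : Set G) then 0 else blockCoeff B x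
    with hf
  have hfcl : IsClassFunction G f := by
    intro x y
    simp only [hf]
    have : y * x * y⁻¹ ∈ Subgroup.centralizer (P : Set G) ↔
        x ∈ Subgroup.centralizer (P : Set G) :=
      ⟨fun h => by simpa [mul_assoc] using hCn.conj_mem _ h y⁻¹, fun h => hCn.conj_mem _ h y⟩
    simp only [this, blockCoeff_isClassFunction B x y]
  have hfM : ∀ x, MemLocalRing M (f x) := fun x => by
    simp only [hf]; split_ifs
    · exact (loc hM).zero_mem
    · exact memRing_blockCoeff hM hB x
  set w : Zloc G hM := ⟨_, omega_mem_Zloc hM hfcl hfM⟩ with hw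
  set e : Zloc G hM := ⟨ind B, ind_mem_Zloc hM hB⟩ with he
  have hee : e * e = e := Subtype.ext (funext fun ψ => by
    by_cases hψ : ψ ∈ B <;> simp [he, ind_of_mem, ind_of_notMem, hψ])
  have hwI : w ∈ brKer hM P hP := fun x hx => by
    show res hM (cf (fun χ : IrrCharacter G => omega (χ : G → ℂ) f) x) = 0
    rw [cf_omega hfcl]
    simp only [hf, if_pos hx, res_zero]
  have hwn : ∀ ψ, MemLocalIdeal M ((w : IrrCharacter G → ℂ) ψ) := fun ψ =>
    omega_vanish_off_centralizer hM P hP hfcl hfM (fun x hx => by simp [hf, hx]) ψ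
  set e' : Zloc G hM := e - w with he'
  -- `e'` is idempotent modulo `Jloc`
  have he'cf : cf ((e' : Zloc G hM) : IrrCharacter G → ℂ) =
      fun x => if x ∈ Subgroup.centralizer (P : Set G) then blockCoeff B x else 0 := by
    show cf (ind B + -(fun χ : IrrCharacter G => omega (χ : G → ℂ) f)) = _
    rw [cf_add, cf_neg, cf_ind, cf_omega hfcl]
    funext x
    simp only [Pi.add_apply, Pi.neg_apply, hf]
    split_ifs <;> ring
  have hidem : e' * e' - e' ∈ Jloc G hM := by
    have hsupp : ∀ x, x ∉ Subgroup.centralizer (P : Set G) →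
        cf ((e' * e' - e' : Zloc G hM) : IrrCharacter G → ℂ) x = 0 := by
      intro x hx
      rw [AddSubgroupClass.coe_sub, sub_eq_add_neg, cf_add, cf_neg, Subring.coe_mul, cf_mul, he'cf]
      simp only [Pi.add_apply, Pi.neg_apply, conv, if_neg hx, neg_zero, add_zero]
      refine Finset.sum_eq_zero fun l _ => ?_
      by_cases hl : l ∈ Subgroup.centralizer (P : Set G)
      · rw [if_neg (fun hc : l⁻¹ * x ∈ _ => hx (by
          simpa using Subgroup.mul_mem _ hl hc)), mul_zero]
      · rw [if_neg hl, zero_mul]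
    have hker : e' * e' - e' ∈ brKer hM P hP := by
      rw [← Ideal.Quotient.eq_zero_iff_mem, map_sub, map_mul, he', map_sub,
        Ideal.Quotient.eq_zero_iff_mem.2 hwI, sub_zero, ← map_mul, hee, sub_self]
    intro x
    by_cases hx : x ∈ Subgroup.centralizer (P : Set G)
    · exact (res_eq_zero_iff hM ((e' * e' - e').2 x)).1 (hker x hx)
    · rw [hsupp x hx]; exact memIdeal_zero hM
  have hwJ : w ∈ Jloc G hM := by
    have hn := pow_mem_Jloc hM w hwn
    rw [← Ideal.Quotient.eq_zero_iff_mem] at hn ⊢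
    rw [← Ideal.Quotient.eq_zero_iff_mem, map_sub, map_mul, he', map_sub, sub_eq_zero] at hidem
    set E := Ideal.Quotient.mk (Jloc G hM) e
    set W := Ideal.Quotient.mk (Jloc G hM) w
    have hE : E * E = E := by rw [← map_mul, hee]
    rw [map_pow] at hn
    change W ^ _ = 0 at hn
    have h3 : W ^ 3 = W := by
      linear_combination (2 * E + W - 1) * hidem + (-2 * E + 3 * W + 1) * hE
    have hiter : ∀ k : ℕ, W ^ (2 * k + 1) = W := by
      intro k
      induction k with
      | zero => simp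
      | succ k ih =>
        calc W ^ (2 * (k + 1) + 1) = W ^ (2 * k + 1) * W ^ 2 := by rw [← pow_add]; ring_nf
          _ = W * W ^ 2 := by rw [ih]
          _ = W ^ 3 := by ring
          _ = W := h3
    rw [← hiter (Fintype.card (IrrCharacter G))]
    exact pow_eq_zero_of_le (by omega) hn
  apply hg
  have h := hwJ g
  rw [show cf ((w : Zloc G hM) : IrrCharacter G → ℂ) g = f g from congrFun (cf_omega hfcl) g] at h
  simpa [hf, hgC] using h

end CfsgLib.Blocks
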