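import Cfsg.Agent.Lib.Blocks.Sections

/-!
# Rationality and integrality of sums over regular elements; the Brauer–Feit bound
-/

namespace CfsgLib.Blocks

open Cfsg CfsgLib.CharTheory
open scoped ComplexConjugate

set_option linter.unusedVariables false
set_option linter.unusedSimpArgs false
set_option linter.style.haveILetI false
set_option linter.unusedSectionVars false

universe u

variable {p : ℕ} {M : Ideal AlgInt} {G : Type u} [Group G] [Fintype G]

/-- Generators of the cyclic subgroup of `g`. -/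
noncomputable def gens (g : G) : Finset G :=
  open Classical in Finset.univ.filter fun y => Subgroup.zpowers y = Subgroup.zpowers g

/-- Average over the generators of a cyclic subgroup. -/
noncomputable def genAvg (θ : G → ℂ) (g : G) : ℂ := ((gens g).card : ℂ)⁻¹ * ∑ y ∈ gens g, θ y

theorem self_mem_gens (g : G) : g ∈ gens g := by simp [gens]

theorem gens_eq {g y : G} (h : y ∈ gens g) : gens y = gens g := by
  classical
  simp only [gens, Finset.mem_filter, Finset.mem_univ, true_and] at h ⊢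
  simp [h]

theorem sum_eq_sum_genAvg (θ : G → ℂ) {s : Finset G} (hs : ∀ g ∈ s, gens g ⊆ s) :
    ∑ g ∈ s, θ g = ∑ g ∈ s, genAvg θ g := by
  classical
  rw [← Finset.sum_fiberwise_of_maps_to (t := s.image gens) (g := gens)
      (fun g hg => Finset.mem_image_of_mem gens hg) θ,
    ← Finset.sum_fiberwise_of_maps_to (t := s.image gens) (g := gens)
      (fun g hg => Finset.mem_image_of_mem gens hg) (genAvg θ)]
  refine Finset.sum_congr rfl fun T hT => ?_
  obtain ⟨g, hg, rfl⟩ := Finset.mem_image.1 hT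
  have e : s.filter (fun y => gens y = gens g) = gens g := by
    ext y
    refine ⟨fun h => (Finset.mem_filter.1 h).2 ▸ self_mem_gens y,
      fun h => Finset.mem_filter.2 ⟨hs g hg h, gens_eq h⟩⟩
  rw [e, Finset.sum_congr rfl fun y hy => show genAvg θ y = genAvg θ g by
    simp [genAvg, gens_eq hy], Finset.sum_const, nsmul_eq_mul, genAvg, ← mul_assoc,
    mul_inv_cancel₀ (Nat.cast_ne_zero.2
      (Finset.card_pos.2 ⟨g, self_mem_gens g⟩).ne' : ((gens g).card : ℂ) ≠ 0), one_mul]

/-- The rational numbers inside `ℂ`. -/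
noncomputable def ratC : Subfield ℂ := (algebraMap ℚ ℂ).fieldRange

theorem natCast_mem_ratC (n : ℕ) : (n : ℂ) ∈ ratC := ⟨(n : ℚ), map_natCast _ n⟩

theorem sum_zpowers_rational {θ : G → ℂ} (hθ : IsCharacter G θ) (g : G) :
    ∑ y ∈ (Finset.univ.filter fun y => y ∈ Subgroup.zpowers g), θ y ∈ ratC := by
  classical
  haveI : Fintype (Subgroup.zpowers g) := Fintype.ofFinite _
  obtain ⟨n, hn⟩ := classInner_char_nat (isCharacter_restrict hθ (Subgroup.zpowers g))
    (isCharacter_one (G := Subgroup.zpowers g))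
  simp only [classInner, map_one, mul_one] at hn
  rw [Finset.sum_subtype _ (p := fun y => y ∈ Subgroup.zpowers g) (by simp)]
  have h : ∑ y : Subgroup.zpowers g, θ y = (Nat.card (Subgroup.zpowers g) : ℂ) * n := by
    rw [← hn, ← mul_assoc, mul_inv_cancel₀ (Nat.cast_ne_zero.2 Nat.card_pos.ne'), one_mul]
  rw [h]
  exact ratC.mul_mem (natCast_mem_ratC _) (natCast_mem_ratC _)

theorem genAvg_rational {θ : G → ℂ} (hθ : IsCharacter G θ) (g : G) : genAvg θ g ∈ ratC := by
  classical
  induction hn : orderOf g using Nat.strong_induction_on generalizing g with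
  | _ n ih =>
    subst hn
    set Z := Finset.univ.filter fun y => y ∈ Subgroup.zpowers g with hZ
    have hsub : gens g ⊆ Z := fun y hy => by
      simp only [gens, Finset.mem_filter, Finset.mem_univ, true_and] at hy
      simp [hZ, ← hy]
    have hclosed : ∀ y ∈ Z \ gens g, gens y ⊆ Z \ gens g := by
      intro y hy z hz
      rw [Finset.mem_sdiff] at hy ⊢
      have hz' : Subgroup.zpowers z = Subgroup.zpowers y := by simpa [gens] using hz
      refine ⟨?_, fun h => hy.2 ?_⟩
      · have h1 : y ∈ Subgroup.zpowers g := by simpa [hZ] using hy.1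
        simp only [hZ, Finset.mem_filter, Finset.mem_univ, true_and]
        exact Subgroup.zpowers_le.2 h1 (hz' ▸ Subgroup.mem_zpowers z)
      · rw [← gens_eq h, gens_eq hz]; exact self_mem_gens y
    have hsmall : ∀ y ∈ Z \ gens g, genAvg θ y ∈ ratC := by
      intro y hy
      rw [Finset.mem_sdiff] at hy
      refine ih (orderOf y) ?_ y rfl
      have h1 : y ∈ Subgroup.zpowers g := by simpa [hZ] using hy.1
      refine lt_of_le_of_ne (Nat.le_of_dvd (orderOf_pos g) (orderOf_dvd_of_mem_zpowers h1))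
        fun h => hy.2 ?_
      simp only [gens, Finset.mem_filter, Finset.mem_univ, true_and]
      exact Subgroup.eq_of_le_of_card_ge (Subgroup.zpowers_le.2 h1)
        (by rw [Nat.card_zpowers, Nat.card_zpowers, h])
    have h1 := sum_zpowers_rational hθ g
    rw [← Finset.sum_sdiff hsub, sum_eq_sum_genAvg θ hclosed] at h1
    have h2 : ∑ y ∈ gens g, θ y ∈ ratC := by
      have := ratC.sub_mem h1 (ratC.sum_mem hsmall)
      simpa using this
    exact ratC.mul_mem (ratC.inv_mem (natCast_mem_ratC _)) h2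

theorem regS_eq_sum (p : ℕ) (φ ψ : G → ℂ) : regS p φ ψ =
    ∑ g ∈ Finset.univ.filter (fun g => ¬ p ∣ orderOf g), φ g * ψ g⁻¹ := by
  rw [regS, Finset.sum_filter]
  refine Finset.sum_congr rfl fun g _ => ?_
  simp only [regFn]
  split_ifs <;> ring

theorem isCharacter_mul_inv (φ ψ : IrrCharacter G) :
    IsCharacter G (fun g => (φ : G → ℂ) g * (ψ : G → ℂ) g⁻¹) := by
  simp only [← irr_conjInv]
  exact isCharacter_mul (isCharacter_of_irr φ.2) (isCharacter_conj (isCharacter_of_irr ψ.2))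

theorem regS_rational (p : ℕ) (φ ψ : IrrCharacter G) :
    regS p (φ : G → ℂ) (ψ : G → ℂ) ∈ ratC := by
  classical
  rw [regS_eq_sum, sum_eq_sum_genAvg]
  · exact ratC.sum_mem fun g _ => genAvg_rational (isCharacter_mul_inv φ ψ) g
  · intro g hg y hy
    simp only [gens, Finset.mem_filter, Finset.mem_univ, true_and] at hy hg ⊢
    rwa [← Nat.card_zpowers, hy, Nat.card_zpowers]

/-- `regS` divided by the `p'`-part of the group order is a rational integer. -/
theorem exists_int_regS (hp : p.Prime) (φ ψ : IrrCharacter G) :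
    ∃ n : ℤ, regS p (φ : G → ℂ) (ψ : G → ℂ) =
      ((Nat.card G / p ^ (Nat.card G).factorization p : ℕ) : ℂ) * n := by
  classical
  set K := Nat.card G / p ^ (Nat.card G).factorization p with hK
  have hK0 : K ≠ 0 := (Nat.ordCompl_pos p Nat.card_pos.ne').ne'
  set z : ℂ := regS p (φ : G → ℂ) (ψ : G → ℂ) / (K : ℂ) with hz
  have hint0 : IsIntegral ℤ (regS p (φ : G → ℂ) (ψ : G → ℂ)) := by
    rw [regS_eq_sum]
    exact IsIntegral.sum _ fun g _ => isIntegral_of_char (isCharacter_mul_inv φ ψ) g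
  let I : Ideal ℤ :=
    { carrier := {m : ℤ | IsIntegral ℤ ((m : ℂ) * z)}
      zero_mem' := by simp [isIntegral_zero]
      add_mem' := fun {a b} ha hb => by
        show IsIntegral ℤ (((a + b : ℤ) : ℂ) * z)
        rw [Int.cast_add, add_mul]; exact IsIntegral.add ha hb
      smul_mem' := fun c a ha => by
        show IsIntegral ℤ (((c • a : ℤ) : ℂ) * z)
        rw [smul_eq_mul, Int.cast_mul, mul_assoc]; exact (isIntegral_intCast c).mul ha }
  have hI : (1 : ℤ) ∈ I := by
    obtain ⟨m, hm⟩ := (IsPrincipalIdealRing.principal I).principal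
    have hmK : m ∣ (K : ℤ) := by
      have : (K : ℤ) ∈ I := by
        show IsIntegral ℤ (((K : ℤ) : ℂ) * z)
        rw [hz, Int.cast_natCast, mul_div_cancel₀ _ (Nat.cast_ne_zero.2 hK0)]; exact hint0
      rw [hm] at this
      exact Ideal.mem_span_singleton.1 this
    suffices h : m.natAbs = 1 by
      rw [hm]; exact Ideal.mem_span_singleton.2 (Int.isUnit_iff_natAbs_eq.2 h).dvd
    by_contra hne
    obtain ⟨l, hl, hlm⟩ := Nat.exists_prime_and_dvd hne
    have hlK : l ∣ K := hlm.trans (Int.natAbs_dvd_natAbs.2 hmK)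
    have hlp : l ≠ p := fun h => Nat.not_dvd_ordCompl hp Nat.card_pos.ne' (h ▸ hlK)
    have hX : IsSectionClosed l (fun g : G => ¬ p ∣ orderOf g) := by
      refine ⟨fun h x hx => by show ¬ p ∣ orderOf _; rwa [conj_orderOf],
        fun u w hc ⟨k, hk⟩ hw => ?_⟩
      show ¬ p ∣ orderOf (u * w) ↔ ¬ p ∣ orderOf w
      rw [hc.orderOf_mul_eq_mul_orderOf_of_coprime
        (by rw [hk]; exact (hl.coprime_iff_not_dvd.2 hw).pow_left k), hk, hp.dvd_mul]
      refine not_congr ⟨fun h => h.resolve_left fun h' => hlp ?_, Or.inr⟩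
      exact ((Nat.prime_dvd_prime_iff_eq hp hl).1 (hp.dvd_of_dvd_pow h')).symm
    obtain ⟨N, hN, hNi⟩ := exists_isIntegral_section_sum hl (isCharacter_mul_inv φ ψ) hX
    rw [← regS_eq_sum] at hNi
    obtain ⟨K', hK'⟩ : l ^ K.factorization l ∣ K := Nat.ordProj_dvd _ _
    have hmem : N * (K' : ℤ) ∈ I := by
      show IsIntegral ℤ (((N * (K' : ℤ) : ℤ) : ℂ) * z)
      have hv : K.factorization l = (Nat.card G).factorization l := by
        rw [hK, Nat.factorization_ordCompl]; simp [Finsupp.erase_ne hlp]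
      have e : ((N * (K' : ℤ) : ℤ) : ℂ) * z =
          (N : ℂ) * regS p (φ : G → ℂ) (ψ : G → ℂ) / (l : ℂ) ^ (Nat.card G).factorization l := by
        rw [hz, ← hv]
        have hK'0 : (K' : ℂ) ≠ 0 := Nat.cast_ne_zero.2 fun h => hK0 (by rw [hK', h, mul_zero])
        have hl0 : (l : ℂ) ≠ 0 := Nat.cast_ne_zero.2 hl.ne_zero
        have hKc : (K : ℂ) = (l : ℂ) ^ K.factorization l * K' := by exact_mod_cast hK'
        push_cast
        rw [hKc]
        field_simp
      rw [e]; exact hNi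
    rw [hm] at hmem
    have h2 : l ∣ N.natAbs * K' := by
      have := hlm.trans (Int.natAbs_dvd_natAbs.2 (Ideal.mem_span_singleton.1 hmem))
      simpa [Int.natAbs_mul] using this
    rcases hl.dvd_mul.1 h2 with h | h
    · exact hN (Int.natCast_dvd.2 h)
    · have h3 : K' = K / l ^ K.factorization l := by
        rw [Nat.div_eq_of_eq_mul_right (pow_pos hl.pos _) hK']
      exact Nat.not_dvd_ordCompl hl hK0 (h3 ▸ h)
  have hzi : IsIntegral ℤ z := by
    have : IsIntegral ℤ (((1 : ℤ) : ℂ) * z) := hI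
    simpa using this
  obtain ⟨q, hq⟩ : z ∈ ratC := ratC.div_mem (regS_rational p φ ψ) (natCast_mem_ratC K)
  rw [show algebraMap ℚ ℂ q = (q : ℂ) from eq_ratCast _ q] at hq
  rw [← hq] at hzi
  obtain ⟨n, hn⟩ := exists_int_of_isIntegral_ratCast hzi
  refine ⟨n, ?_⟩
  have : (q : ℂ) = (n : ℂ) := by rw [hn]; norm_num
  rw [← this, hq, hz, mul_div_cancel₀ _ (Nat.cast_ne_zero.2 hK0)]

/-- The scaled projection coefficients are integers. -/
theorem exists_int_proj (hM : IsPModular p M) {B : Set (IrrCharacter G)} (hB : IsPBlock M B)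
    {φ ψ : IrrCharacter G} (hφ : φ ∈ B) (hψ : ψ ∈ B) :
    ∃ q : ℤ, (p : ℂ) ^ blockDefect p B * regS p (φ : G → ℂ) (ψ : G → ℂ) =
      (Nat.card G : ℂ) * q ∧
      ((p : ℤ) ^ (dv p (φ : G → ℂ) - minDv p B) ∣ q) ∧
      (dv p (φ : G → ℂ) = minDv p B → dv p (ψ : G → ℂ) = minDv p B → ¬ (p : ℤ) ∣ q) ∧
      (dv p (φ : G → ℂ) = minDv p B → minDv p B < dv p (ψ : G → ℂ) → q ≠ 0 ∧
        ¬ (p : ℤ) ^ (dv p (ψ : G → ℂ) - minDv p B + 1) ∣ q) ∧
      (minDv p B < dv p (ψ : G → ℂ) → (p : ℤ) ^ (dv p (φ : G → ℂ) - minDv p B + 1) ∣ q) := by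
  classical
  haveI := res_isDomain hM
  haveI := res_charP hM
  obtain ⟨n, hn⟩ := exists_int_regS hM.1 φ ψ
  set K := Nat.card G / p ^ (Nat.card G).factorization p with hK
  set v := minDv p B with hv
  set a := (Nat.card G).factorization p with ha
  have hva : v ≤ a := minDv_le_card hM hB
  have hKp : ¬ p ∣ K := Nat.not_dvd_ordCompl hM.1 Nat.card_pos.ne'
  have hp0 : (p : ℂ) ≠ 0 := Nat.cast_ne_zero.2 hM.1.ne_zero
  have hG : (Nat.card G : ℂ) = (p : ℂ) ^ a * (K : ℂ) := by
    exact_mod_cast (Nat.ordProj_mul_ordCompl_eq_self (Nat.card G) p).symm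
  -- residues of `n / p ^ dv φ`
  have hdvd : ∀ {χ : IrrCharacter G}, ∀ {m : ℤ} {x : ℂ}, MemLocalRing M x →
      (K : ℂ) * m = (χ : G → ℂ) 1 * x →
      ((p : ℤ) ^ dv p (χ : G → ℂ) ∣ m) ∧
      (¬ MemLocalIdeal M x → ¬ (p : ℤ) ^ (dv p (χ : G → ℂ) + 1) ∣ m) ∧
      (MemLocalIdeal M x → (p : ℤ) ^ (dv p (χ : G → ℂ) + 1) ∣ m) := by
    intro χ m x hx he
    set d := dv p (χ : G → ℂ) with hd
    set u := charDegree (χ : G → ℂ) / p ^ d with hu
    have hu' : ¬ p ∣ u := Nat.not_dvd_ordCompl hM.1 (irr_charDegree_pos χ).ne'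
    have hdeg : (χ : G → ℂ) 1 = (p : ℂ) ^ d * (u : ℂ) := by
      rw [← irr_charDegree_cast χ]
      exact_mod_cast (Nat.ordProj_mul_ordCompl_eq_self (charDegree (χ : G → ℂ)) p).symm
    rw [hdeg] at he
    have hKr : (K : AlgInt ⧸ M) ≠ 0 := by rwa [Ne, CharP.cast_eq_zero_iff (AlgInt ⧸ M) p]
    have key : ∀ (i : ℕ) (m' : ℤ), i ≤ d → (K : ℂ) * m' = (p : ℂ) ^ i * (u : ℂ) * x →
        (p : ℤ) ^ i ∣ m' := by
      intro i
      induction i with
      | zero => intros; simp
      | succ i ih =>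
        intro m' hi he'
        have h0 : (p : ℤ) ∣ m' := by
          rw [← CharP.intCast_eq_zero_iff (AlgInt ⧸ M) p]
          have h1 : res hM ((K : ℂ) * m') = res hM ((p : ℂ) ^ (i + 1) * (u : ℂ) * x) := by rw [he']
          have hm' : MemLocalRing M (m' : ℂ) := memRing_intCast hM m'
          rw [res_mul hM (memRing_natCast hM K) hm',
            res_mul hM ((loc hM).mul_mem ((loc hM).pow_mem (memRing_natCast hM p) _)
              (memRing_natCast hM u)) hx,
            res_mul hM ((loc hM).pow_mem (memRing_natCast hM p) _) (memRing_natCast hM u),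
            res_pow hM (memRing_natCast hM p), natCast_p_mem hM, res_natCast,
            zero_pow (Nat.succ_ne_zero i), zero_mul, zero_mul, mul_eq_zero] at h1
          have h2 := h1.resolve_left hKr
          rwa [show res hM (m' : ℂ) = ((m' : ℤ) : AlgInt ⧸ M) from
            map_intCast (resHom hM) m'] at h2
        obtain ⟨c, rfl⟩ := h0
        rw [pow_succ']
        refine mul_dvd_mul_left _ (ih c (by omega) ?_)
        refine mul_left_cancel₀ hp0 ?_
        push_cast at he'
        linear_combination he'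
    refine ⟨key d m le_rfl he, fun hxu hc => hxu ?_, fun hxI => ?_⟩
    swap
    · obtain ⟨c, hc⟩ := key d m le_rfl he
      have h0 : (p : ℤ) ∣ c := by
        rw [← CharP.intCast_eq_zero_iff (AlgInt ⧸ M) p]
        subst hc
        push_cast at he
        have he' : (K : ℂ) * c = (u : ℂ) * x := by
          refine mul_left_cancel₀ (pow_ne_zero d hp0) ?_
          linear_combination he
        have h1 : res hM ((K : ℂ) * c) = res hM ((u : ℂ) * x) := by rw [he']
        rw [res_mul hM (memRing_natCast hM K) (memRing_intCast hM c),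
          res_mul hM (memRing_natCast hM u) hx, (res_eq_zero_iff hM hx).2 hxI, mul_zero,
          res_natCast, mul_eq_zero] at h1
        rw [show ((c : ℤ) : AlgInt ⧸ M) = res hM (c : ℂ) from (map_intCast (resHom hM) c).symm]
        exact h1.resolve_left hKr
      obtain ⟨e, rfl⟩ := h0
      exact ⟨e, by rw [hc, pow_succ, mul_assoc]⟩
    obtain ⟨c, hc⟩ := hc
    have hu0 : (u : ℂ) ≠ 0 := Nat.cast_ne_zero.2 fun h => hu' (h ▸ dvd_zero p)
    have hx' : x = (u : ℂ)⁻¹ * (K : ℂ) * c * (p : ℂ) := by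
      subst hc
      push_cast at he
      field_simp
      refine mul_left_cancel₀ (pow_ne_zero d hp0) ?_
      linear_combination -he
    rw [hx']
    refine memIdeal_mul_left hM ((loc hM).mul_mem ((loc hM).mul_mem (natCast_inv_mem hM hu')
      (memRing_natCast hM K)) (memRing_intCast hM c)) ?_
    exact (res_eq_zero_iff hM (memRing_natCast hM p)).1 (natCast_p_mem hM)
  have e1 : (K : ℂ) * n = (φ : G → ℂ) 1 * omega (φ : G → ℂ) (regFn p (ψ : G → ℂ)) := by
    rw [omega_regFn, mul_div_cancel₀ _ (irr_one_ne_zero φ), hn]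
  have e2 : (K : ℂ) * n = (ψ : G → ℂ) 1 * omega (ψ : G → ℂ) (regFn p (φ : G → ℂ)) := by
    rw [omega_regFn, mul_div_cancel₀ _ (irr_one_ne_zero ψ), regS_comm, hn]
  obtain ⟨h1, h1', h1''⟩ := hdvd (memRing_omega_regFn hM φ ψ) e1
  obtain ⟨h2, h2', h2''⟩ := hdvd (memRing_omega_regFn hM ψ φ) e2
  have hvn : (p : ℤ) ^ v ∣ n := (pow_dvd_pow _ (minDv_le hφ)).trans h1
  obtain ⟨q, hq⟩ := hvn
  have hpz : (p : ℤ) ^ v ≠ 0 := pow_ne_zero _ (Int.natCast_ne_zero.2 hM.1.ne_zero)
  refine ⟨q, ?_, ?_, fun hφ0 hψ0 hd => ?_, fun hφ0 hψ0 => ?_, fun hψ0 => ?_⟩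
  · rw [hn, hG, blockDefect_eq, hq]
    push_cast
    rw [show (p : ℂ) ^ a = (p : ℂ) ^ (a - v) * (p : ℂ) ^ v by
      rw [← pow_add, Nat.sub_add_cancel hva]]
    ring
  · rw [← mul_dvd_mul_iff_left hpz, ← pow_add, ← hq,
      Nat.add_sub_cancel' (minDv_le hφ)]
    exact h1
  · refine h1' (not_memIdeal_omega_regFn hM hB hψ hφ hψ0) ?_
    rw [hφ0, hq, pow_succ]
    exact mul_dvd_mul_left _ hd
  · have hu := h2' (not_memIdeal_omega_regFn hM hB hφ hψ hφ0)
    refine ⟨fun h => hu (by rw [hq, h, mul_zero]; exact dvd_zero _), fun hd => hu ?_⟩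
    have e : dv p (ψ : G → ℂ) + 1 = v + (dv p (ψ : G → ℂ) - v + 1) := by omega
    rw [hq, e, pow_add]
    exact mul_dvd_mul_left _ hd
  · have h := h1'' (memIdeal_omega_regFn hM hB hψ hφ hψ0)
    have e : dv p (φ : G → ℂ) + 1 = v + (dv p (φ : G → ℂ) - v + 1) := by
      have : v ≤ dv p (φ : G → ℂ) := minDv_le hφ
      omega
    rw [hq, e, pow_add] at h
    exact (mul_dvd_mul_iff_left hpz).1 h

end CfsgLib.Blocks
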