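import Cfsg.Agent.Lib.Blocks.Apply
import Cfsg.Agent.Lib.Blocks.RegInt
import Cfsg.Agent.Lib.Blocks.MinMax
import Cfsg.Agent.Lib.CharTheory.Linear

/-!
# Sections, block orthogonality, second main theorem consequences
-/

namespace CfsgLib.Blocks

open Cfsg CfsgLib.CharTheory
open scoped ComplexConjugate

set_option linter.unusedVariables false
set_option linter.unusedSimpArgs false
set_option linter.style.haveILetI false
set_option linter.unusedSectionVars false

universe u

variable {p : ℕ} {M : Ideal AlgInt} {G : Type u} [Group G] [Fintype G]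

/-- Block orthogonality for elements in different sections. -/
theorem block_orth (hM : IsPModular p M) {B : Set (IrrCharacter G)} (hB : IsPBlock M B)
    {g h x y : G} (hx : IsPPart p g x) (hy : IsPPart p h y) (hne : ¬ IsConj x y) :
    ∑ χ ∈ bset B, (χ : G → ℂ) g * (χ : G → ℂ) h⁻¹ = 0 := by
  classical
  haveI : Fact p.Prime := ⟨hM.1⟩
  obtain ⟨w, rfl, hcxw, ⟨k, hk⟩, hw⟩ := hx
  obtain ⟨w', rfl, hcyw, ⟨l, hl⟩, hw'⟩ := hy
  set σ : Equiv.Perm G := (Equiv.mulLeft x).trans (Equiv.mulRight y⁻¹) with hσdef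
  set π : Equiv.Perm G := (Equiv.mulLeft w⁻¹).trans (Equiv.mulRight w') with hπdef
  have hσa : ∀ j, σ j = x * j * y⁻¹ := fun j => rfl
  have hπa : ∀ j, π j = w⁻¹ * j * w' := fun j => rfl
  have hσpow : ∀ n : ℕ, ∀ j, (σ ^ n) j = x ^ n * j * y⁻¹ ^ n := by
    intro n
    induction n with
    | zero => simp
    | succ n ih =>
      intro j
      rw [pow_succ', Equiv.Perm.mul_apply, ih, hσa, pow_succ' x, pow_succ y⁻¹]
      simp only [mul_assoc]
  have hπpow : ∀ n : ℕ, ∀ j, (π ^ n) j = w⁻¹ ^ n * j * w' ^ n := by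
    intro n
    induction n with
    | zero => simp
    | succ n ih =>
      intro j
      rw [pow_succ', Equiv.Perm.mul_apply, ih, hπa, pow_succ' w⁻¹, pow_succ w']
      simp only [mul_assoc]
  have hσ : σ ^ p ^ (k + l) = 1 := by
    ext j
    rw [hσpow, pow_eq_one_of_dvd_orderOf (by rw [hk, pow_add]; exact dvd_mul_right _ _),
      pow_eq_one_of_dvd_orderOf (by rw [orderOf_inv, hl, pow_add]; exact dvd_mul_left _ _)]
    simp
  have hn : ¬ p ∣ orderOf w * orderOf w' := fun h => (hM.1.dvd_mul.1 h).elim hw hw'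
  have hcp : Commute π σ := by
    ext j
    simp only [Equiv.Perm.mul_apply, hσa, hπa]
    calc w⁻¹ * (x * j * y⁻¹) * w' = (w⁻¹ * x) * j * (y⁻¹ * w') := by group
      _ = (x * w⁻¹) * j * (w' * y⁻¹) := by
          rw [hcxw.inv_right.eq, hcyw.inv_left.eq]
      _ = x * (w⁻¹ * j * w') * y⁻¹ := by group
  have h0 := sum_perm_idem_twisted hM hσ hn (E := Lmat (blockCoeff B)) (Y := Pmat π)
    (Lmat_mem hM (memRing_blockCoeff hM hB)) (by rw [Lmat_mul, conv_blockCoeff_self])
    (fun i j => by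
      simp only [Lmat, Matrix.of_apply, hσa]
      rw [← blockCoeff_isClassFunction B (i * j⁻¹) x]
      congr 1; group)
    (Pmat_mem hM π) (Pmat_equivariant hcp)
    (commute_Pmat fun i j => by
      simp only [Lmat, Matrix.of_apply, hπa]
      rw [← blockCoeff_isClassFunction B (i * j⁻¹) w⁻¹]
      congr 1; group)
    (by
      rw [Pmat_pow]
      have : π ^ (orderOf w * orderOf w') = 1 := by
        ext j
        rw [hπpow, pow_eq_one_of_dvd_orderOf (by rw [orderOf_inv]; exact dvd_mul_right _ _),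
          pow_eq_one_of_dvd_orderOf (dvd_mul_left _ _)]
        simp
      rw [this]; ext a c; simp [Pmat, Matrix.one_apply] <;> congr)
    (fun i j hi _ => absurd (isConj_iff.2 ⟨i⁻¹, by
      rw [hσa, mul_inv_eq_iff_eq_mul] at hi
      rw [inv_inv, mul_assoc, hi, inv_mul_cancel_left]⟩) hne)
  simp only [mul_Pmat_apply] at h0
  have h2 := sum_blockCoeff_twosided B (y⁻¹ * w'⁻¹) (w * x)
  rw [Finset.sum_congr rfl fun j _ => show blockCoeff B (j * (y⁻¹ * w'⁻¹) * j⁻¹ * (w * x)) =
    Lmat (blockCoeff B) (σ j) (π j) by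
      simp only [Lmat, Matrix.of_apply, hσa, hπa]
      rw [← blockCoeff_isClassFunction B _ x]
      congr 1; group] at h2
  rw [h0] at h2
  have h3 : ∑ χ ∈ bset B, (χ : G → ℂ) (x⁻¹ * w⁻¹) * (χ : G → ℂ) (w' * y) = 0 := by
    rw [h2]
    exact Finset.sum_congr rfl fun χ _ => by simp only [_root_.mul_inv_rev, inv_inv]
  have h4 := congrArg (starRingEnd ℂ) h3
  rw [map_sum, map_zero] at h4
  rw [← h4]
  refine Finset.sum_congr rfl fun χ _ => ?_
  rw [map_mul, irr_conjInv, irr_conjInv]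
  simp only [_root_.mul_inv_rev, inv_inv]
  rw [hcxw.eq, hcyw.inv_inv.eq]

theorem irr_res_pPart (hM : IsPModular p M) (χ : IrrCharacter G) {z w : G} (hc : Commute z w)
    {k : ℕ} (hz : orderOf z = p ^ k) :
    res hM ((χ : G → ℂ) (z * w)) = res hM ((χ : G → ℂ) w) := by
  classical
  set A : Subgroup G := Subgroup.closure {z, w} with hA
  haveI : IsMulCommutative A := Subgroup.isMulCommutative_closure (by
    rintro a (rfl | rfl) b (rfl | rfl)
    · rfl
    · exact hc
    · exact hc.symm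
    · rfl)
  haveI : Fintype A := Fintype.ofFinite _
  have hcomm : ∀ a b : A, a * b = b * a := fun a b => mul_comm' a b
  have hzA : z ∈ A := Subgroup.subset_closure (Set.mem_insert z _)
  have hwA : w ∈ A := Subgroup.subset_closure (Set.mem_insert_of_mem _ rfl)
  have hχA := isCharacter_restrict_irr A χ
  have hexp := eq_sum_irr (isClassFunction_char hχA)
  choose n hn using fun ψ : IrrCharacter A =>
    classInner_char_nat hχA (isCharacter_of_irr ψ.2)
  have hval : ∀ a : A, (χ : G → ℂ) (a : G) = ∑ ψ : IrrCharacter A, (n ψ : ℂ) * (ψ : A → ℂ) a :=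
    fun a => by
      have := congrFun hexp a
      simpa [hn] using this
  have hm : ∀ (ψ : IrrCharacter A) (a : A), MemLocalRing M ((n ψ : ℂ) * (ψ : A → ℂ) a) :=
    fun ψ a => (loc hM).mul_mem (memRing_natCast hM _) (memRing_irr hM ψ a)
  rw [show (χ : G → ℂ) (z * w) = _ from hval (⟨z, hzA⟩ * ⟨w, hwA⟩),
    show (χ : G → ℂ) w = _ from hval ⟨w, hwA⟩, res_sum hM fun ψ _ => hm ψ _,
    res_sum hM fun ψ _ => hm ψ _]
  refine Finset.sum_congr rfl fun ψ _ => ?_
  rw [res_mul hM (memRing_natCast hM _) (memRing_irr hM ψ _),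
    res_mul hM (memRing_natCast hM _) (memRing_irr hM ψ _)]
  congr 1
  obtain ⟨φ, hφ⟩ := exists_hom_of_degree_one (isCharacter_of_irr ψ.2)
    (degree_one_of_commutative hcomm ψ.2)
  have hp : ∀ a : A, (ψ : A → ℂ) a = ((φ a : ℂˣ) : ℂ) := fun a => congrFun hφ a
  have hmul : (ψ : A → ℂ) (⟨z, hzA⟩ * ⟨w, hwA⟩) = (ψ : A → ℂ) ⟨z, hzA⟩ * (ψ : A → ℂ) ⟨w, hwA⟩ := by
    rw [hp, hp, hp, map_mul, Units.val_mul]
  have hz1 : ((φ ⟨z, hzA⟩ : ℂˣ) : ℂ) ^ p ^ k = 1 := by
    rw [← Units.val_pow_eq_pow_val, ← map_pow,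
      show (⟨z, hzA⟩ : A) ^ p ^ k = 1 from Subtype.ext (by
        rw [← hz]; exact pow_orderOf_eq_one z), map_one, Units.val_one]
  rw [hmul, res_mul hM (memRing_irr hM ψ _) (memRing_irr hM ψ _), hp ⟨z, hzA⟩,
    (res_eq_one_of_pow hM hz1).2, one_mul]

/-- The section function of `χ` at `x`, on a subgroup commuting with `x`. -/
def sec (x : G) (H : Subgroup G) (χ : G → ℂ) : H → ℂ := fun c => χ (x * (c : G))

/-- `H` is the centralizer of `x`. -/
def IsCentr (x : G) (H : Subgroup G) : Prop := ∀ g, g ∈ H ↔ Commute g x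

theorem isCentr_singleton (x : G) : IsCentr x (Subgroup.centralizer ({x} : Set G)) :=
  fun g => Subgroup.mem_centralizer_singleton_iff

theorem isCentr_zpowers (x : G) :
    IsCentr x (Subgroup.centralizer ((Subgroup.zpowers x : Subgroup G) : Set G)) := by
  intro g
  constructor
  · intro h; exact (h x (Subgroup.mem_zpowers x)).symm
  · rintro h _ ⟨m, rfl⟩
    exact ((h.zpow_right m).eq).symm

variable {x : G} {H : Subgroup G}

theorem IsCentr.self_mem (hH : IsCentr x H) : x ∈ H := (hH x).2 (Commute.refl x)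

theorem IsCentr.centralizer_le (hH : IsCentr x H) :
    Subgroup.centralizer ({x} : Set G) ≤ H := fun g hg =>
  (hH g).2 (Subgroup.mem_centralizer_singleton_iff.1 hg)

theorem sec_isClassFunction (hH : IsCentr x H) (χ : IrrCharacter G) :
    IsClassFunction H (sec x H (χ : G → ℂ)) := by
  intro a c
  show (χ : G → ℂ) (x * ((c * a * c⁻¹ : H) : G)) = (χ : G → ℂ) (x * (a : G))
  rw [← irr_isClassFun χ (x * (a : G)) (c : G)]
  congr 1
  have hcx : Commute (c : G) x := (hH c).1 c.2
  simp only [Subgroup.coe_mul, Subgroup.coe_inv]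
  rw [← mul_assoc (c : G) x, hcx.eq]
  simp only [mul_assoc]

theorem isPGroup_zpowers (hp : p.Prime) {x : G} (hx : ∃ k : ℕ, orderOf x = p ^ k) :
    IsPGroup p (Subgroup.zpowers x) := by
  haveI : Fact p.Prime := ⟨hp⟩
  obtain ⟨k, hk⟩ := hx
  exact IsPGroup.iff_card.2 ⟨k, by rw [Nat.card_zpowers, hk]⟩

theorem IsCentr.le_normalizer (hH : IsCentr x H) :
    H ≤ Subgroup.normalizer ((Subgroup.zpowers x : Subgroup G) : Set G) := by
  intro u hu
  have hu' : Commute u x := (hH u).1 hu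
  rw [Subgroup.mem_normalizer_iff]
  intro h
  refine ⟨fun hh => ?_, fun hh => ?_⟩
  · obtain ⟨m, rfl⟩ := hh
    rw [(hu'.zpow_right m).eq, mul_inv_cancel_right]
    exact ⟨m, rfl⟩
  · obtain ⟨m, hm⟩ := hh
    refine ⟨m, ?_⟩
    have : h = u⁻¹ * x ^ m * u := by
      show h = u⁻¹ * (fun n : ℤ => x ^ n) m * u
      rw [hm]; group
    rw [this, mul_assoc, ← (hu'.zpow_right m).eq, inv_mul_cancel_left]

theorem IsCentr.centralizer_zpowers_le (hH : IsCentr x H) :
    Subgroup.centralizer ((Subgroup.zpowers x : Subgroup G) : Set G) ≤ H := fun g hg =>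
  (hH g).2 ((hg x (Subgroup.mem_zpowers x)).symm)

variable [Fintype H]

/-- Blocks of `C(x)` always induce. -/
theorem exists_induced_centr (hM : IsPModular p M) (hH : IsCentr x H)
    (hx : ∃ k : ℕ, orderOf x = p ^ k) (ξ : IrrCharacter H) :
    ∃ χ : IrrCharacter G, ∀ g, MemLocalIdeal M
      (inducedCentralChar H (ξ : H → ℂ) g - centralChar (χ : G → ℂ) g) :=
  exists_induced_brauer (Subgroup.zpowers x) H hM (isPGroup_zpowers hM.1 hx)
    hH.centralizer_zpowers_le (Subgroup.zpowers_le.2 hH.self_mem) hH.le_normalizer ξ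

/-- Second main theorem. -/
theorem blockPart_sec_eq_zero (hM : IsPModular p M) (hH : IsCentr x H)
    (hx : ∃ k : ℕ, orderOf x = p ^ k) {b : Set (IrrCharacter H)} (hb : IsPBlock M b)
    {B : Set (IrrCharacter G)} (hB : IsPBlock M B) {χ : IrrCharacter G} (hχ : χ ∈ B)
    (hnot : ¬ IsInducedBlock M H b B) {y : H} (hy : ¬ p ∣ orderOf y) :
    blockPart b (sec x H (χ : G → ℂ)) y = 0 := by
  rw [eq_blockOf hM hB hχ] at hnot
  have h := second_main_induced hM H hb hnot (fun ξ _ => exists_induced_centr hM hH hx ξ)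
    (z := x) (w := (y : G)) ((hH y).1 y.2).symm hx (by rwa [Subgroup.orderOf_coe])
    hH.centralizer_le
  rw [blockPart_eq_sum b (sec_isClassFunction hH χ) y, ← h]
  refine Finset.sum_congr rfl fun k _ => ?_
  congr 1
  show (χ : G → ℂ) (x * ((k * y : H) : G)) = _
  rw [Subgroup.coe_mul, ← mul_assoc, ← mul_assoc, ((hH k).1 k.2).eq]

/-- The induced block of a character of `C(x)` is unique. -/
theorem isInducedBlock_unique (hM : IsPModular p M) {b : Set (IrrCharacter H)}
    {B B' : Set (IrrCharacter G)} (h : IsInducedBlock M H b B) (h' : IsInducedBlock M H b B') :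
    B = B' := by
  obtain ⟨ξ, hξ⟩ := block_nonempty hM h.1
  obtain ⟨φ, hφ⟩ := block_nonempty hM h.2.1
  obtain ⟨χ, hχ⟩ := block_nonempty hM h'.2.1
  rw [eq_blockOf hM h.2.1 hφ, eq_blockOf hM h'.2.1 hχ]
  refine (blockOf_eq_of_mem hM ?_).symm
  show SameBlock M (φ : G → ℂ) (χ : G → ℂ)
  rw [sameBlock_iff_res hM]
  intro g
  have h1 := h.2.2 ξ hξ φ hφ g
  have h2 := h'.2.2 ξ hξ χ hχ g
  rw [memIdeal_sub_iff hM (memRing_inducedCentralChar H hM ξ g)
    (show MemLocalRing M (centralChar (φ : G → ℂ) g) from memRing_clv hM g φ)] at h1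
  rw [memIdeal_sub_iff hM (memRing_inducedCentralChar H hM ξ g)
    (show MemLocalRing M (centralChar (χ : G → ℂ) g) from memRing_clv hM g χ)] at h2
  exact h1.symm.trans h2

/-- The members of the blocks of `H` inducing `B`. -/
def overBlocks (M : Ideal AlgInt) (H : Subgroup G) (B : Set (IrrCharacter G)) : Set (IrrCharacter H) :=
  {ψ | IsInducedBlock M H (blockOf M (ψ : H → ℂ)) B}

theorem blockPart_apply (b : Set (IrrCharacter H)) (ϑ : H → ℂ) (y : H) :
    blockPart b ϑ y = ∑ ψ ∈ bset b, classInner ϑ (ψ : H → ℂ) * (ψ : H → ℂ) y := by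
  rw [blockPart, finsum_mem_bset]
  exact Finset.sum_congr rfl fun ψ _ => by
    rw [classInner_congr_inst (Fintype.ofFinite H) inferInstance]

theorem sum_blockPart_eq (hM : IsPModular p M) (U : Set (IrrCharacter H))
    (hU : ∀ ψ ∈ U, blockOf M (ψ : H → ℂ) ⊆ U) (ϑ : H → ℂ) (y : H)
    [DecidablePred fun b : Set (IrrCharacter H) => IsPBlock M b ∧ b ⊆ U] :
    blockPart U ϑ y = ∑ b ∈ Finset.univ.filter (fun b => IsPBlock M b ∧ b ⊆ U),
      blockPart b ϑ y := by
  classical
  rw [blockPart_apply, ← Finset.sum_fiberwise_of_maps_to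
    (t := Finset.univ.filter (fun b => IsPBlock M b ∧ b ⊆ U))
    (g := fun ψ : IrrCharacter H => blockOf M (ψ : H → ℂ))
    (fun ψ hψ => Finset.mem_filter.2
      ⟨Finset.mem_univ _, blockOf_isPBlock ψ, hU ψ (mem_bset.1 hψ)⟩)]
  refine Finset.sum_congr rfl fun b hb => ?_
  obtain ⟨-, hbB, hbU⟩ := Finset.mem_filter.1 hb
  rw [blockPart_apply]
  refine Finset.sum_congr ?_ fun _ _ => rfl
  ext ψ
  simp only [Finset.mem_filter, mem_bset]
  exact ⟨fun h => h.2 ▸ mem_blockOf_self hM ψ, fun h => ⟨hbU h, (eq_blockOf hM hbB h).symm⟩⟩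

/-- The section function of `χ ∈ B` only involves the blocks inducing `B`. -/
theorem sec_eq_overBlocks (hM : IsPModular p M) (hH : IsCentr x H)
    (hx : ∃ k : ℕ, orderOf x = p ^ k) {B : Set (IrrCharacter G)} (hB : IsPBlock M B)
    (χ : IrrCharacter G) {y : H} (hy : ¬ p ∣ orderOf y) :
    blockPart (overBlocks M H B) (sec x H (χ : G → ℂ)) y = ind B χ * (χ : G → ℂ) (x * (y : G)) := by
  classical
  by_cases hχ : χ ∈ B
  · rw [ind_of_mem hχ, one_mul]
    have h0 : blockPart (overBlocks M H B)ᶜ (sec x H (χ : G → ℂ)) y = 0 := by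
      rw [sum_blockPart_eq hM (overBlocks M H B)ᶜ (fun ψ hψ φ hφ hc => hψ (by
        show IsInducedBlock M H (blockOf M (ψ : H → ℂ)) B
        rw [← blockOf_eq_of_mem hM hφ]; exact hc))]
      refine Finset.sum_eq_zero fun b hb => ?_
      obtain ⟨-, hbB, hbU⟩ := Finset.mem_filter.1 hb
      refine blockPart_sec_eq_zero hM hH hx hbB hB hχ (fun hind => ?_) hy
      obtain ⟨ψ, hψ⟩ := block_nonempty hM hbB
      exact hbU hψ (show IsInducedBlock M H (blockOf M (ψ : H → ℂ)) B by
        rwa [← eq_blockOf hM hbB hψ])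
    have h1 := congrFun (eq_sum_irr (sec_isClassFunction hH χ)) y
    simp only [Finset.sum_apply, Pi.smul_apply, smul_eq_mul] at h1
    show _ = sec x H (χ : G → ℂ) y
    rw [h1, blockPart_apply]
    rw [blockPart_apply] at h0
    rw [← Finset.sum_add_sum_compl (bset (overBlocks M H B))]
    have e : (bset (overBlocks M H B))ᶜ = bset (overBlocks M H B)ᶜ := by ext; simp [mem_bset]
    rw [e, h0, add_zero]
  · rw [ind_of_notMem hχ, zero_mul, sum_blockPart_eq hM _ (fun ψ hψ φ hφ => by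
      show IsInducedBlock M H (blockOf M (φ : H → ℂ)) B
      rw [blockOf_eq_of_mem hM hφ]; exact hψ)]
    refine Finset.sum_eq_zero fun b hb => ?_
    obtain ⟨-, hbB, hbU⟩ := Finset.mem_filter.1 hb
    refine blockPart_sec_eq_zero hM hH hx hbB (blockOf_isPBlock χ) (mem_blockOf_self hM χ)
      (fun hind => hχ ?_) hy
    obtain ⟨ψ, hψ⟩ := block_nonempty hM hbB
    have h2 : IsInducedBlock M H (blockOf M (ψ : H → ℂ)) B := hbU hψ
    rw [← eq_blockOf hM hbB hψ] at h2
    rw [isInducedBlock_unique hM h2 hind]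
    exact mem_blockOf_self hM χ

/-- The block part at a regular element only depends on values at regular elements. -/
theorem blockPart_regular (hM : IsPModular p M) {U : Set (IrrCharacter H)}
    (hU : ∀ ψ ∈ U, blockOf M (ψ : H → ℂ) ⊆ U) (ϑ : H → ℂ) {y : H} (hy : ¬ p ∣ orderOf y) :
    blockPart U ϑ y = (Nat.card H : ℂ)⁻¹ * ∑ c ∈ Finset.univ.filter (fun c : H => ¬ p ∣ orderOf c),
      ϑ c * ∑ ψ ∈ bset U, (ψ : H → ℂ) y * (ψ : H → ℂ) c⁻¹ := by
  classical
  have hsing : ∀ c : H, p ∣ orderOf c →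
      ∑ ψ ∈ bset U, (ψ : H → ℂ) y * (ψ : H → ℂ) c⁻¹ = 0 := by
    intro c hc
    rw [← Finset.sum_fiberwise_of_maps_to
      (t := Finset.univ.filter (fun b : Set (IrrCharacter H) => IsPBlock M b ∧ b ⊆ U))
      (g := fun ψ : IrrCharacter H => blockOf M (ψ : H → ℂ))
      (fun ψ hψ => Finset.mem_filter.2
        ⟨Finset.mem_univ _, blockOf_isPBlock ψ, hU ψ (mem_bset.1 hψ)⟩)]
    refine Finset.sum_eq_zero fun b hb => ?_
    obtain ⟨-, hbB, hbU⟩ := Finset.mem_filter.1 hb
    refine Eq.trans ?_ (weak_orth hM hbB hy (show p ∣ orderOf c⁻¹ by rwa [orderOf_inv]))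
    refine Finset.sum_congr ?_ fun _ _ => rfl
    ext ψ
    simp only [Finset.mem_filter, mem_bset]
    exact ⟨fun h => h.2 ▸ mem_blockOf_self hM ψ, fun h => ⟨hbU h, (eq_blockOf hM hbB h).symm⟩⟩
  rw [blockPart_apply]
  simp only [classInner, irr_conjInv, Finset.mul_sum, Finset.sum_mul]
  rw [Finset.sum_comm, Finset.sum_filter]
  refine Finset.sum_congr rfl fun c _ => ?_
  by_cases hc : p ∣ orderOf c
  · rw [if_neg (not_not.2 hc)]
    rw [Finset.sum_congr (s₁ := bset U) rfl fun ψ _ =>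
      show (Nat.card H : ℂ)⁻¹ * (ϑ c * (ψ : H → ℂ) c⁻¹) * (ψ : H → ℂ) y =
      (Nat.card H : ℂ)⁻¹ * ϑ c * ((ψ : H → ℂ) y * (ψ : H → ℂ) c⁻¹) by ring,
      ← Finset.mul_sum, hsing c hc, mul_zero]
  · rw [if_pos hc]
    exact Finset.sum_congr rfl fun ψ _ => by ring

/-- Products of section functions over all irreducible characters. -/
theorem sum_sec_mul_conj (hM : IsPModular p M) (hH : IsCentr x H)
    (hx : ∃ k : ℕ, orderOf x = p ^ k) {c c' : H} (hc : ¬ p ∣ orderOf c) (hc' : ¬ p ∣ orderOf c') :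
    ∑ χ : IrrCharacter G, sec x H (χ : G → ℂ) c * conj (sec x H (χ : G → ℂ) c') =
      ∑ ψ : IrrCharacter H, (ψ : H → ℂ) c * conj ((ψ : H → ℂ) c') := by
  classical
  have hcx : Commute (c : G) x := (hH c).1 c.2
  have hc'x : Commute (c' : G) x := (hH c').1 c'.2
  have hcc : ¬ p ∣ orderOf (c : G) := by rwa [Subgroup.orderOf_coe]
  have hcc' : ¬ p ∣ orderOf (c' : G) := by rwa [Subgroup.orderOf_coe]
  have hkey : ∀ h : G, h * (x * c) * h⁻¹ = x * c' → Commute h x ∧ h * (c : G) * h⁻¹ = c' := by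
    intro h he
    have h1 : Commute (h * x * h⁻¹) (h * c * h⁻¹) := hcx.symm.map (MulAut.conj h).toMonoidHom
    obtain ⟨e1, e2⟩ := pPart_unique hM.1 h1 hc'x.symm
      (hx.imp fun k hk => by rw [conj_orderOf, hk]) hx (by rwa [conj_orderOf]) hcc'
      (by rw [← he]; group)
    exact ⟨mul_inv_eq_iff_eq_mul.1 e1, e2⟩
  have hiff : IsConj (x * (c : G)) (x * c') ↔ IsConj c c' := by
    rw [isConj_iff, isConj_iff]
    constructor
    · rintro ⟨h, he⟩
      obtain ⟨h1, h2⟩ := hkey h he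
      exact ⟨⟨h, (hH h).2 h1⟩, Subtype.ext h2⟩
    · rintro ⟨h, he⟩
      refine ⟨h, ?_⟩
      have h2 : (h : G) * c * (h : G)⁻¹ = c' := congrArg Subtype.val he
      have h1 : Commute (h : G) x := (hH h).1 h.2
      calc (h : G) * (x * c) * (h : G)⁻¹ = (h * x) * (c * (h : G)⁻¹) := by group
        _ = (x * h) * (c * (h : G)⁻¹) := by rw [h1.eq]
        _ = x * ((h : G) * c * (h : G)⁻¹) := by group
        _ = x * c' := by rw [h2]
  simp only [sec]
  rw [sum_irr_mul_conj, sum_irr_mul_conj]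
  simp only [hiff]
  split_ifs
  · congr 1
    refine Nat.card_congr
      { toFun := fun u => ⟨⟨u.1, ?_⟩, ?_⟩
        invFun := fun u => ⟨u.1.1, ?_⟩
        left_inv := fun u => rfl
        right_inv := fun u => rfl }
    · obtain ⟨z, w, hzw, hcz, hz, hw, hzm, hwm⟩ := exists_pPart hM.1 (x * (c : G))
      obtain ⟨e1, -⟩ := pPart_unique hM.1 hcz hcx.symm hz hx hw hcc hzw
      subst e1
      have hu : Commute u.1 (z * (c : G)) := Subgroup.mem_centralizer_singleton_iff.1 u.2
      obtain ⟨m, hm⟩ := hzm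
      refine (hH _).2 ?_
      have h' := hu.zpow_right m
      rw [show (z * (c : G)) ^ m = z from hm] at h'
      exact h'
    · rw [Subgroup.mem_centralizer_singleton_iff]
      obtain ⟨z, w, hzw, hcz, hz, hw, hzm, hwm⟩ := exists_pPart hM.1 (x * (c : G))
      obtain ⟨-, e2⟩ := pPart_unique hM.1 hcz hcx.symm hz hx hw hcc hzw
      have hu : Commute u.1 (x * (c : G)) := Subgroup.mem_centralizer_singleton_iff.1 u.2
      obtain ⟨m, hm⟩ := hwm
      refine Subtype.ext ?_
      show u.1 * (c : G) = (c : G) * u.1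
      have h' := hu.zpow_right m
      rw [show (x * (c : G)) ^ m = w from hm, e2] at h'
      exact h'.eq
    · rw [Subgroup.mem_centralizer_singleton_iff]
      have h1 : Commute (u.1 : G) x := (hH _).1 u.1.2
      have h2 : Commute (u.1 : G) (c : G) :=
        congrArg Subtype.val (Subgroup.mem_centralizer_singleton_iff.1 u.2)
      exact h1.mul_right h2
  · rfl

theorem blockPart_linear (U : Set (IrrCharacter H)) (ψ : IrrCharacter H) (y : H) :
    blockPart U (ψ : H → ℂ) y = ind U ψ * (ψ : H → ℂ) y := by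
  classical
  rw [blockPart_apply, ← sum_ind_mul, Finset.sum_eq_single ψ]
  · rw [classInner_irr_self ψ.2, one_mul]
  · intro φ _ hφ
    rw [classInner_irr_ne ψ.2 φ.2 (fun h => hφ (Subtype.ext h.symm)), zero_mul, mul_zero]
  · simp

/-- The fundamental orthogonality for block parts of section functions. -/
theorem section_inner (hM : IsPModular p M) (hH : IsCentr x H)
    (hx : ∃ k : ℕ, orderOf x = p ^ k) {U V : Set (IrrCharacter H)}
    (hU : ∀ ψ ∈ U, blockOf M (ψ : H → ℂ) ⊆ U) (hV : ∀ ψ ∈ V, blockOf M (ψ : H → ℂ) ⊆ V)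
    {y y' : H} (hy : ¬ p ∣ orderOf y) (hy' : ¬ p ∣ orderOf y') :
    ∑ χ : IrrCharacter G, blockPart U (sec x H (χ : G → ℂ)) y *
        conj (blockPart V (sec x H (χ : G → ℂ)) y') =
      ∑ ψ : IrrCharacter H, ind U ψ * ind V ψ * ((ψ : H → ℂ) y * conj ((ψ : H → ℂ) y')) := by
  classical
  have key : ∀ ϑ : IrrCharacter G → H → ℂ, ∑ χ : IrrCharacter G,
      blockPart U (ϑ χ) y * conj (blockPart V (ϑ χ) y') =
      ∑ c ∈ Finset.univ.filter (fun c : H => ¬ p ∣ orderOf c),
        ∑ c' ∈ Finset.univ.filter (fun c : H => ¬ p ∣ orderOf c),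
          ((Nat.card H : ℂ)⁻¹ * (∑ ψ ∈ bset U, (ψ : H → ℂ) y * (ψ : H → ℂ) c⁻¹)) *
          conj ((Nat.card H : ℂ)⁻¹ * (∑ ψ ∈ bset V, (ψ : H → ℂ) y' * (ψ : H → ℂ) c'⁻¹)) *
          ∑ χ : IrrCharacter G, ϑ χ c * conj (ϑ χ c') := by
    intro ϑ
    simp only [blockPart_regular hM hU _ hy, blockPart_regular hM hV _ hy']
    have e : ∀ (A : ℂ) (S : Finset H) (f g : H → ℂ),
        A * ∑ c ∈ S, f c * g c = ∑ c ∈ S, f c * (A * g c) := fun A S f g => by
      rw [Finset.mul_sum]; exact Finset.sum_congr rfl fun c _ => by ring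
    simp only [e, map_sum, Finset.sum_mul_sum]
    rw [Finset.sum_comm]
    refine Finset.sum_congr rfl fun c _ => ?_
    rw [Finset.sum_comm]
    refine Finset.sum_congr rfl fun c' _ => ?_
    simp only [Finset.mul_sum (s := (Finset.univ : Finset (IrrCharacter G))), map_mul]
    exact Finset.sum_congr rfl fun χ _ => by ring
  have key2 : ∑ ψ : IrrCharacter H, blockPart U (ψ : H → ℂ) y * conj (blockPart V (ψ : H → ℂ) y') =
      ∑ c ∈ Finset.univ.filter (fun c : H => ¬ p ∣ orderOf c),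
        ∑ c' ∈ Finset.univ.filter (fun c : H => ¬ p ∣ orderOf c),
          ((Nat.card H : ℂ)⁻¹ * (∑ ψ ∈ bset U, (ψ : H → ℂ) y * (ψ : H → ℂ) c⁻¹)) *
          conj ((Nat.card H : ℂ)⁻¹ * (∑ ψ ∈ bset V, (ψ : H → ℂ) y' * (ψ : H → ℂ) c'⁻¹)) *
          ∑ ψ : IrrCharacter H, (ψ : H → ℂ) c * conj ((ψ : H → ℂ) c') := by
    simp only [blockPart_regular hM hU _ hy, blockPart_regular hM hV _ hy']
    have e : ∀ (A : ℂ) (S : Finset H) (f g : H → ℂ),
        A * ∑ c ∈ S, f c * g c = ∑ c ∈ S, f c * (A * g c) := fun A S f g => by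
      rw [Finset.mul_sum]; exact Finset.sum_congr rfl fun c _ => by ring
    simp only [e, map_sum, Finset.sum_mul_sum]
    rw [Finset.sum_comm]
    refine Finset.sum_congr rfl fun c _ => ?_
    rw [Finset.sum_comm]
    refine Finset.sum_congr rfl fun c' _ => ?_
    simp only [Finset.mul_sum (s := (Finset.univ : Finset (IrrCharacter H))), map_mul]
    exact Finset.sum_congr rfl fun ψ _ => by ring
  have hind : ∀ (V : Set (IrrCharacter H)) (ψ : IrrCharacter H), conj (ind V ψ) = ind V ψ := by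
    intro V ψ
    by_cases h : ψ ∈ V
    · rw [ind_of_mem h, map_one]
    · rw [ind_of_notMem h, map_zero]
  rw [key, Finset.sum_congr rfl fun c hc => Finset.sum_congr rfl fun c' hc' => by
    rw [sum_sec_mul_conj hM hH hx (Finset.mem_filter.1 hc).2 (Finset.mem_filter.1 hc').2],
    ← key2]
  refine Finset.sum_congr rfl fun ψ _ => ?_
  rw [blockPart_linear, blockPart_linear, map_mul, hind]
  ring

/-- Characters of `B` on the section of `x`, squared. -/
theorem sum_sq_section (hM : IsPModular p M) (hH : IsCentr x H)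
    (hx : ∃ k : ℕ, orderOf x = p ^ k) {B : Set (IrrCharacter G)} (hB : IsPBlock M B)
    {y y' : H} (hy : ¬ p ∣ orderOf y) (hy' : ¬ p ∣ orderOf y') :
    ∑ χ ∈ bset B, (χ : G → ℂ) (x * y) * conj ((χ : G → ℂ) (x * y')) =
      ∑ ψ ∈ bset (overBlocks M H B), (ψ : H → ℂ) y * conj ((ψ : H → ℂ) y') := by
  classical
  have hov : ∀ ψ ∈ overBlocks M H B, blockOf M (ψ : H → ℂ) ⊆ overBlocks M H B := fun ψ hψ φ hφ => by
    show IsInducedBlock M H (blockOf M (φ : H → ℂ)) B
    rw [blockOf_eq_of_mem hM hφ]; exact hψ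
  have h := section_inner (x := x) hM hH hx hov hov hy hy'
  simp only [sec_eq_overBlocks hM hH hx hB _ hy, sec_eq_overBlocks hM hH hx hB _ hy'] at h
  rw [← sum_ind_mul B, ← sum_ind_mul (overBlocks M H B)]
  refine Eq.trans ?_ (h.trans ?_)
  · refine Finset.sum_congr rfl fun χ _ => ?_
    by_cases hχ : χ ∈ B
    · rw [ind_of_mem hχ]; simp
    · rw [ind_of_notMem hχ]; simp
  · refine Finset.sum_congr rfl fun χ _ => ?_
    by_cases hχ : χ ∈ overBlocks M H B
    · rw [ind_of_mem hχ]; simp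
    · rw [ind_of_notMem hχ]; simp

/-- A height zero character is nonzero on the regular block part of every inducing block. -/
theorem exists_blockPart_ne_zero (hM : IsPModular p M) (hH : IsCentr x H)
    (hx : ∃ k : ℕ, orderOf x = p ^ k) {b : Set (IrrCharacter H)} {B : Set (IrrCharacter G)}
    (hind : IsInducedBlock M H b B) {χ : IrrCharacter G} (hχ : χ ∈ B)
    (h0 : blockHeight p B (χ : G → ℂ) = 0) :
    ∃ y : H, ¬ p ∣ orderOf y ∧ blockPart b (sec x H (χ : G → ℂ)) y ≠ 0 := by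
  classical
  haveI := res_isDomain hM
  by_contra hcon
  push Not at hcon
  obtain ⟨ξ, hξ⟩ := block_nonempty hM hind.1
  rw [height_zero_iff hχ] at h0
  have h := res_induced_regFn hM H hind hξ hχ χ
  have hne : res hM (omega (χ : G → ℂ) (regFn p (χ : G → ℂ))) ≠ 0 := fun hc =>
    not_memIdeal_omega_regFn hM hind.2.1 hχ hχ h0
      ((res_eq_zero_iff hM (memRing_omega_regFn hM χ χ)).1 hc)
  apply hne
  rw [← h]
  set θ := sec x H (χ : G → ℂ) with hθ
  have hθc : IsClassFunction H θ := sec_isClassFunction hH χ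
  have hcl : ∀ φ : H → ℂ, IsClassFunction H φ → IsClassFunction H (regFn p φ) := by
    intro φ hφ a c
    simp only [regFn, conj_orderOf, _root_.mul_inv_rev, inv_inv, ← mul_assoc]
    rw [hφ]
  have hrcl : IsClassFunction H (fun k : H => (χ : G → ℂ) k) := fun a c =>
    irr_isClassFun χ (a : G) (c : G)
  have hregm : ∀ φ : H → ℂ, (∀ k, MemLocalRing M (φ k)) → ∀ k, MemLocalRing M (regFn p φ k) := by
    intro φ hφ k
    simp only [regFn]; split_ifs
    · exact (loc hM).zero_mem
    · exact hφ _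
  rw [res_omega_congr hM (hcl _ hrcl) (hcl _ hθc) (hregm _ fun k => memRing_irr hM χ _)
    (hregm _ fun k => memRing_irr hM χ _) (fun k => ?_) ξ]
  · have hzero : omega (ξ : H → ℂ) (regFn p θ) = 0 := by
      have hexp : ∀ k, regFn p θ k =
          ∑ ψ : IrrCharacter H, classInner θ (ψ : H → ℂ) * regFn p (ψ : H → ℂ) k := by
        intro k
        by_cases hk : p ∣ orderOf k
        · simp [regFn, hk]
        · simp only [regFn, if_neg hk]
          have := congrFun (eq_sum_irr hθc) k⁻¹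
          simpa using this
      rw [omega]
      suffices h2 : ∑ g, regFn p θ g * (ξ : H → ℂ) g = 0 by rw [h2, zero_div]
      calc ∑ g, regFn p θ g * (ξ : H → ℂ) g
          = ∑ ψ : IrrCharacter H, classInner θ (ψ : H → ℂ) * regS p (ξ : H → ℂ) (ψ : H → ℂ) := by
            simp only [hexp, Finset.sum_mul, regS, Finset.mul_sum]
            rw [Finset.sum_comm]
            exact Finset.sum_congr rfl fun ψ _ => Finset.sum_congr rfl fun g _ => by ring
        _ = ∑ ψ ∈ bset b, classInner θ (ψ : H → ℂ) * regS p (ξ : H → ℂ) (ψ : H → ℂ) := by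
            refine (Finset.sum_subset (Finset.subset_univ _) fun ψ _ hψ => ?_).symm
            rw [regS_eq_zero hM (fun hs => hψ (mem_bset.2 (by
              rw [eq_blockOf hM hind.1 hξ]; exact hs))), mul_zero]
        _ = ∑ g, (∑ ψ ∈ bset b, classInner θ (ψ : H → ℂ) * regFn p (ψ : H → ℂ) g) *
              (ξ : H → ℂ) g := by
            simp only [Finset.sum_mul, regS, Finset.mul_sum]
            rw [Finset.sum_comm]
            exact Finset.sum_congr rfl fun ψ _ => Finset.sum_congr rfl fun g _ => by ring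
        _ = 0 := by
            refine Finset.sum_eq_zero fun g _ => ?_
            by_cases hg : p ∣ orderOf g
            · simp [regFn, hg]
            · simp only [regFn, if_neg hg]
              rw [← blockPart_apply, hcon g⁻¹ (by rwa [orderOf_inv]), zero_mul]
    rw [hzero, res_zero]
  · by_cases hk : p ∣ orderOf k
    · simp [regFn, hk]
    · simp only [regFn, if_neg hk]
      show res hM ((χ : G → ℂ) ((k⁻¹ : H) : G)) = res hM ((χ : G → ℂ) (x * ((k⁻¹ : H) : G)))
      obtain ⟨e, he⟩ := hx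
      exact (irr_res_pPart hM χ ((hH _).1 (k⁻¹ : H).2).symm he).symm

end CfsgLib.Blocks
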