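import Cfsg.Agent.Lib.Blocks.FirstMain
import Cfsg.Agent.Lib.Blocks.Nilpotent
import Cfsg.Agent.Lib.Blocks.Apply
import Cfsg.Agent.Lib.Blocks.SecondMain
import Cfsg.Agent.Lib.Blocks.Principal

/-!
# Block induction from local subgroups through Brauer pairs
-/

namespace CfsgLib.Blocks

open Cfsg CfsgLib.CharTheory

set_option linter.unusedVariables false
set_option linter.unusedSimpArgs false
set_option linter.style.haveILetI false
set_option linter.unusedSectionVars false

universe u

variable {p : ℕ} {M : Ideal AlgInt} {G : Type u} [Group G] [Fintype G]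

/-- A pair at a defect group is maximal. -/
theorem pair_at_defect_maximal (hM : IsPModular p M) {B : Set (IrrCharacter G)} {P : Subgroup G}
    {e : Set (IrrCharacter (Subgroup.centralizer (P : Set G)))} (h : IsBrauerPairOf p M B P e)
    (hD : IsDefectGroup p M B P) : IsMaximalBrauerPair p M B P e := by
  refine ⟨h, fun R g hR hle => ?_⟩
  obtain ⟨⟨S, g'⟩, hle', hmax⟩ := exists_maximal_ge hM ⟨R, g⟩ hR
  have h1 : P ≤ R := subpairLE_le (a := ⟨P, e⟩) (b := ⟨R, g⟩) hle
  have h2 : R ≤ S := subpairLE_le hle'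
  refine (Subgroup.eq_of_le_of_card_ge h1 ?_).symm
  rw [card_defectGroup hM h.2.1 hD, ← card_defectGroup hM h.2.1 (maximal_isDefectGroup hM hmax)]
  exact Subgroup.card_le_of_le h2

theorem lam_rot (hM : IsPModular p M) {P : Subgroup G} {m : G}
    (hm : m ∈ Subgroup.normalizer (Subgroup.centralizer (P : Set G) : Set G)) (β : G → ℂ)
    (ξ : IrrCharacter (Subgroup.centralizer (P : Set G))) :
    lam hM P β (irrPull (conjE hm) ξ) = lam hM P (fun g => β (m * g * m⁻¹)) ξ := by
  simp only [lam, brauerOmega]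
  congr 1
  refine finsum_eq_of_bijective (conjE hm) (conjE hm).bijective fun c => ?_
  simp only [irrPull_apply, map_one]
  congr 2
  show β (c : G) = β (m * (m⁻¹ * (c : G) * m) * m⁻¹)
  congr 1
  group

theorem exists_unit_class (hM : IsPModular p M) {H : Subgroup G} [Fintype H]
    {b : Set (IrrCharacter H)} {B : Set (IrrCharacter G)} (hind : IsInducedBlock M H b B)
    {ξ : IrrCharacter H} (hξ : ξ ∈ b) :
    ∃ h : H, ¬ MemLocalIdeal M (centralChar (ξ : H → ℂ) h) ∧
      ¬ MemLocalIdeal M (blockCoeff B (h : G)) := by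
  classical
  haveI := res_isDomain hM
  obtain ⟨φ, hφ⟩ := block_nonempty hM hind.2.1
  have h := res_omega_of_induced H hM ξ φ (hind.2.2 ξ hξ φ hφ)
    (blockCoeff_isClassFunction B) (memRing_blockCoeff hM hind.2.1)
  have h2 : omega (φ : G → ℂ) (blockCoeff B) = 1 := by
    rw [← cf_ind, omega_cf, ind_of_mem hφ]
  have hcl : IsClassFunction H (fun k : H => blockCoeff B (k : G)) :=
    fun x y => blockCoeff_isClassFunction _ (x : G) (y : G)
  rw [h2, res_one, omega_eq_sum_classes hcl] at h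
  change res hM (∑ C : ConjClasses H, blockCoeff B ((crep C : H) : G) * clv (crep C) ξ) = 1 at h
  rw [res_sum hM fun C _ => (loc hM).mul_mem
    (memRing_blockCoeff hM hind.2.1 _) (memRing_clv hM _ ξ)] at h
  obtain ⟨C, -, hC⟩ := Finset.exists_ne_zero_of_sum_ne_zero (h ▸ (one_ne_zero (α := AlgInt ⧸ M)))
  rw [res_mul hM (memRing_blockCoeff hM hind.2.1 _) (memRing_clv hM _ ξ)] at hC
  refine ⟨crep C, fun h0 => hC ?_, fun h0 => hC ?_⟩
  · rw [(res_eq_zero_iff hM (memRing_clv hM _ ξ)).2 h0, mul_zero]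
  · rw [(res_eq_zero_iff hM (memRing_blockCoeff hM hind.2.1 _)).2 h0, zero_mul]

/-- Defect groups grow under induction. -/
theorem defect_le_of_induced (hM : IsPModular p M) {H : Subgroup G} [Fintype H]
    {b : Set (IrrCharacter H)} {B : Set (IrrCharacter G)} (hind : IsInducedBlock M H b B)
    {D : Subgroup H} (hD : IsDefectGroup p M b D) :
    ∃ E : Subgroup G, IsDefectGroup p M B E ∧ D.map H.subtype ≤ E := by
  haveI : Fact p.Prime := ⟨hM.1⟩
  obtain ⟨ξ, hξ⟩ := block_nonempty hM hind.1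
  obtain ⟨h, hh, hB⟩ := exists_unit_class hM hind hξ
  obtain ⟨l, hl, Q, hQ⟩ := id hD
  have hDp := defectGroup_isPGroup hD
  obtain ⟨S⟩ : Nonempty (Sylow p (Subgroup.centralizer ({h} : Set H))) := inferInstance
  obtain ⟨x, hx⟩ := sylow_le_conj hM hind.1 hξ hh hl.2.1 hDp
    (by rw [hQ]; rintro _ ⟨r, -, rfl⟩; exact r.2) S
  refine exists_defectGroup_ge hM hind.2.1 (l := (x : G)⁻¹ * h * x) ?_ (hDp.map _) ?_
  · have h1 := blockCoeff_isClassFunction B (h : G) (x : G)⁻¹
    rw [inv_inv] at h1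
    rwa [h1]
  · rintro _ ⟨d, hd, rfl⟩
    rw [Subgroup.mem_centralizer_singleton_iff]
    obtain ⟨r, -, hr⟩ := hx ⟨d, hd, rfl⟩
    have h2 := congrArg Subtype.val (Subgroup.mem_centralizer_singleton_iff.1 r.2)
    have h3 : (((r : Subgroup.centralizer ({h} : Set H)) : H) : G) = x * d * (x : G)⁻¹ :=
      congrArg Subtype.val hr
    simp only [Subgroup.coe_mul] at h2
    rw [h3] at h2
    show (d : G) * ((x : G)⁻¹ * h * x) = (x : G)⁻¹ * h * x * d
    calc (d : G) * ((x : G)⁻¹ * h * x) = (x : G)⁻¹ * ((x : G) * d * (x : G)⁻¹ * h) * x := by group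
      _ = (x : G)⁻¹ * (h * ((x : G) * d * (x : G)⁻¹)) * x := by rw [h2]
      _ = (x : G)⁻¹ * h * x * d := by group

section overgroup

variable {H : Subgroup G} [Fintype H]

/-- Maximality descends to any subgroup containing the centralizer. -/
theorem maximal_down (hM : IsPModular p M) {P : Subgroup G}
    {a : BrauerPairIdx H}
    {ha : Subgroup.centralizer ((a.1.map H.subtype : Subgroup G) : Set G) ≤ H}
    {e : Set (IrrCharacter (Subgroup.centralizer (P : Set G)))} (h : upIdx a ha = ⟨P, e⟩)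
    {B : Set (IrrCharacter G)} (hB : IsMaximalBrauerPair p M B P e)
    {c : Set (IrrCharacter H)} (hc : IsBrauerPairOf p M c a.1 a.2) :
    IsMaximalBrauerPair p M c a.1 a.2 := by
  rw [maximal_iff_no_step hM hc]
  intro R g hlt hs
  have hmap := le_map_subtype_of_eq h
  have hb : Subgroup.centralizer ((R.map H.subtype : Subgroup G) : Set G) ≤ H :=
    (centralizer_anti (Subgroup.map_mono hlt.le)).trans ha
  have h1 := normalSubpair_up (a := a) (b := ⟨R, g⟩) ha hb hs
  rw [h] at h1
  refine (maximal_iff_no_step hM hB.1).1 hB _ _ ?_ h1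
  show P < R.map H.subtype
  rw [← hmap]
  exact (Subgroup.map_lt_map_iff_of_injective Subtype.coe_injective).2 hlt

/-- For `P C(P) ≤ H ≤ N(P)` every pair at `P` of a block of `H` is a pair of the induced block. -/
theorem induced_iff_pair (hM : IsPModular p M) {P : Subgroup G} (hP : IsPGroup p P)
    (hPH : P ≤ H) (hC : Subgroup.centralizer (P : Set G) ≤ H)
    (hN : H ≤ Subgroup.normalizer (P : Set G))
    {a : BrauerPairIdx H}
    {ha : Subgroup.centralizer ((a.1.map H.subtype : Subgroup G) : Set G) ≤ H}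
    {e : Set (IrrCharacter (Subgroup.centralizer (P : Set G)))} (h : upIdx a ha = ⟨P, e⟩)
    {b : Set (IrrCharacter H)} (hb : IsBrauerPairOf p M b a.1 a.2)
    {B : Set (IrrCharacter G)} (hB : IsPBlock M B) :
    IsInducedBlock M H b B ↔ IsBrauerPairOf p M B P e := by
  haveI := res_isDomain hM
  have he := isPBlock_upIdx hb.1.2 h
  obtain ⟨ψ, hψ⟩ := block_nonempty hM hb.2.1
  obtain ⟨χ, hχ⟩ := exists_induced_brauer P H hM hP hC hPH hN ψ
  have hB₀ : IsPBlock M (blockOf M (χ : G → ℂ)) := blockOf_isPBlock χ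
  have hind := isInducedBlock_of_congr H hM hb.2.1 hB₀ hψ (mem_blockOf_self hM χ) hχ
  have hpair : IsBrauerPairOf p M (blockOf M (χ : G → ℂ)) P e := by
    obtain ⟨R', g'⟩ := a
    obtain ⟨h1, h2⟩ := Sigma.mk.inj_iff.1 h
    subst h1
    have h3 := eq_of_heq h2
    subst h3
    obtain ⟨η, hη⟩ := bne hM hb.1.2
    refine pairOf_of_lam hM hP he ⟨η, hη, rfl⟩ hB₀ ?_
    rw [lam, brauerOmega_up]
    obtain ⟨φ, hφ⟩ := exists_lam_irr hM hb.1.1 η
    have hcl : IsClassFunction H (fun k : H => blockCoeff (blockOf M (χ : G → ℂ)) (k : G)) :=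
      fun x y => blockCoeff_isClassFunction _ (x : G) (y : G)
    have h4 := hφ _ hcl (fun k => memRing_blockCoeff hM hB₀ _)
    rw [lam] at h4
    have hφb := lam_irr_mem hM hb.2.1 hφ (pairOf_lam hM hb hη)
    rw [h4, res_omega_of_induced H hM φ χ (hind.2.2 φ hφb χ (mem_blockOf_self hM χ))
      (blockCoeff_isClassFunction _) (memRing_blockCoeff hM hB₀), ← cf_ind, omega_cf,
      ind_of_mem (mem_blockOf_self hM χ), res_one]
  constructor
  · intro hi
    rwa [isInducedBlock_unique hM hi hind]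
  · intro hp
    rwa [pairOf_block_unique hM hp hpair]

/-- Congruence of Brauer images forces induction. -/
theorem induced_of_congr (hM : IsPModular p M) {P : Subgroup G}
    (hPH : P ≤ H) (hC : Subgroup.centralizer (P : Set G) ≤ H)
    (hN : H ≤ Subgroup.normalizer (P : Set G))
    {c : Set (IrrCharacter H)} (hc : IsPBlock M c)
    (hD : IsDefectGroup p M c (P.subgroupOf H))
    {B : Set (IrrCharacter G)} (hB : IsPBlock M B)
    (hx : ∀ x : G, x ∈ Subgroup.centralizer (P : Set G) →
      MemLocalIdeal M (blockCoeff B x - subgroupBlockCoeff H c x)) :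
    IsInducedBlock M H c B := by
  obtain ⟨e', hcmax⟩ := exists_maximal_at hM hc hD
  have hmap : (P.subgroupOf H).map H.subtype = P := Subgroup.map_subgroupOf_eq_of_le hPH
  have ha : Subgroup.centralizer (((P.subgroupOf H).map H.subtype : Subgroup G) : Set G) ≤ H :=
    hmap.symm ▸ hC
  generalize hi : upIdx (⟨P.subgroupOf H, e'⟩ : BrauerPairIdx H) ha = i
  have hi1 : i.1 = P := by rw [← hi]; exact hmap
  obtain ⟨Q, e⟩ := i
  change Q = P at hi1
  subst hi1
  have hP : IsPGroup p Q := hmap ▸ hcmax.1.1.1.map H.subtype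
  have he : IsPBlock M e := isPBlock_upIdx hcmax.1.1.2 hi
  obtain ⟨ξ, hξ⟩ := bne hM he
  refine (induced_iff_pair hM hP hPH hC hN hi hcmax.1 hB).2 (pairOf_of_lam hM hP he hξ hB ?_)
  rw [lam_eq_of_res_eq hM hPH hC hB hc hx ξ]
  exact (pairOf_iff_lam_up hM hcmax.1.1.2 hi hP hc hξ).1 hcmax.1

end overgroup

end CfsgLib.Blocks
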