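import Cfsg.Agent.Lib.Blocks.Knorr
import Cfsg.Agent.Lib.Blocks.Induced

/-!
# The Fong–Reynolds correspondence
-/

namespace CfsgLib.Blocks

open Cfsg CfsgLib.CharTheory
open scoped ComplexConjugate

set_option linter.unusedVariables false
set_option linter.unusedSimpArgs false
set_option linter.style.haveILetI false
set_option linter.unusedSectionVars false

universe u

variable {p : ℕ} {M : Ideal AlgInt} {G : Type u} [Group G] [Fintype G]
  {N : Subgroup G} [hN : N.Normal] [Fintype N] {T : Subgroup G} [Fintype T]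
  {b : Set (IrrCharacter N)}

/-- The idempotent of a block of `N`, as a function on a subgroup `T`. -/
noncomputable def frIdem (T : Subgroup G) (b : Set (IrrCharacter N)) : T → ℂ :=
  fun t => sext N (blockCoeff b) (t : G)

theorem sext_frIdem (hNT : N ≤ T) (b : Set (IrrCharacter N)) :
    sext T (frIdem T b) = sext N (blockCoeff b) := by
  funext g
  by_cases hg : g ∈ T
  · rw [show g = ((⟨g, hg⟩ : T) : G) from rfl, sext_coe]; rfl
  · rw [sext_off T _ hg, sext_off N _ fun h => hg (hNT h)]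

theorem extendByZero_eq_sext (H : Subgroup G) (f : H → ℂ) : extendByZero H f = sext H f := by
  funext g
  by_cases hg : g ∈ H
  · rw [extendByZero_of_mem H f hg]; exact (sext_coe H f ⟨g, hg⟩).symm
  · rw [extendByZero_of_not_mem H f hg, sext_off H f hg]

theorem frIdem_cls (hst : ∀ t ∈ T, blockConj t b = b) : IsClassFunction T (frIdem T b) := by
  intro s t
  show sext N (blockCoeff b) ((t : G) * s * (t : G)⁻¹) = _
  refine sext_conj N (mem_normalizer_normal (t : G)) (fun k k' hk => ?_) (s : G)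
  have h1 : blockCoeff b k' = blockCoeff (blockConj (t : G) b) k' := by rw [hst t t.2]
  rw [h1, blockConj, blockCoeff_image]
  exact congrArg _ (Subtype.ext (by simp [hk, mul_assoc]))

theorem frIdem_mem (hM : IsPModular p M) (hb : IsPBlock M b) (t : T) :
    MemLocalRing M (frIdem T b t) :=
  sext_mem hM N (fun k => memRing_blockCoeff hM hb k) _

theorem conv_frIdem (hNT : N ≤ T) (b : Set (IrrCharacter N)) :
    conv (frIdem T b) (frIdem T b) = frIdem T b := by
  funext t
  have h := congrFun (sext_conv T (frIdem T b) (frIdem T b)) (t : G)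
  rw [sext_coe] at h
  rw [← h, sext_frIdem hNT, sext_conv, conv_blockCoeff]
  rfl

theorem omega_frIdem (hNT : N ≤ T) (hst : ∀ t ∈ T, blockConj t b = b) (ψ : IrrCharacter T) :
    omega (ψ : T → ℂ) (frIdem T b) = 0 ∨ omega (ψ : T → ℂ) (frIdem T b) = 1 := by
  have h := omega_conv (frIdem_cls hst) ψ (h := frIdem T b)
  rw [conv_frIdem hNT] at h
  by_cases h0 : omega (ψ : T → ℂ) (frIdem T b) = 0
  · exact Or.inl h0
  · exact Or.inr ((mul_eq_left₀ h0).1 h.symm)

/-- Induction from the stabiliser of a block is inverted by restriction and projection. -/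
theorem conv_frIdem_indFun (hM : IsPModular p M) (hNT : N ≤ T) (hb : IsPBlock M b)
    (hst : ∀ t ∈ T, blockConj t b = b) (hout : ∀ x : G, blockConj x b = b → x ∈ T)
    {f : T → ℂ} (hf : IsClassFunction T f) (hfix : conv (frIdem T b) f = f) :
    conv (frIdem T b) (fun t : T => indFun T f t) = f := by
  classical
  set F := indFun T f with hF
  have hG : ∀ t : T, conv (frIdem T b) (fun t : T => F t) t =
      ∑ n : N, blockCoeff b n * F ((n : G)⁻¹ * t) := by
    intro t
    unfold conv frIdem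
    rw [← Finset.sum_filter_of_ne (s := (Finset.univ : Finset T)) (p := fun u : T => (u : G) ∈ N)
      (fun u _ hu => by by_contra hc; exact hu (by rw [sext_off N _ hc, zero_mul]))]
    symm
    refine Finset.sum_bij (fun n _ => (⟨(n : G), hNT n.2⟩ : T)) ?_ ?_ ?_ ?_
    · intro n _; simp
    · intro a _ c _ h; exact Subtype.ext (congrArg (fun u : T => (u : G)) h)
    · intro u hu; exact ⟨⟨(u : G), (Finset.mem_filter.1 hu).2⟩, Finset.mem_univ _, rfl⟩
    · intro n _; rw [sext_coe]; rfl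
  have hterm : ∀ (t : T) (x : G),
      ∑ n : N, blockCoeff b n * sext T f (x⁻¹ * ((n : G)⁻¹ * t) * x) =
        if x ∈ T then f t else 0 := by
    intro t x
    set c := blockConj x⁻¹ b with hc
    have h1 : ∑ n : N, blockCoeff b n * sext T f (x⁻¹ * ((n : G)⁻¹ * t) * x) =
        conv (sext N (blockCoeff c)) (sext T f) (x⁻¹ * t * x) := by
      unfold conv
      rw [← Finset.sum_filter_of_ne (s := (Finset.univ : Finset G)) (p := fun g => g ∈ N)
        (f := fun g => sext N (blockCoeff c) g * sext T f (g⁻¹ * (x⁻¹ * t * x)))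
        (fun g _ hg => by by_contra hn; exact hg (by rw [sext_off N _ hn, zero_mul]))]
      refine Finset.sum_bij (fun n _ => x⁻¹ * (n : G) * x) ?_ ?_ ?_ ?_
      · intro n _
        exact Finset.mem_filter.2 ⟨Finset.mem_univ _, hN.conj_mem' n n.2 x⟩
      · intro a _ a' _ h; exact Subtype.ext (mul_left_cancel (mul_right_cancel h))
      · intro g hg
        exact ⟨⟨x * g * x⁻¹, hN.conj_mem g (Finset.mem_filter.1 hg).2 x⟩, Finset.mem_univ _,
          by simp [mul_assoc]⟩
      · intro n _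
        have e1 : sext N (blockCoeff c) (x⁻¹ * (n : G) * x) = blockCoeff b n := by
          rw [show x⁻¹ * (n : G) * x = ((⟨_, hN.conj_mem' n n.2 x⟩ : N) : G) from rfl, sext_coe,
            hc, blockConj, blockCoeff_image]
          exact congrArg _ (Subtype.ext (by simp [mul_assoc]))
        rw [e1]
        congr 2
        group
    have hfix' : sext T f = conv (sext N (blockCoeff b)) (sext T f) := by
      rw [← sext_frIdem hNT, sext_conv, hfix]
    have hcB : IsPBlock M c := isPBlock_image _ hb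
    rw [h1, hfix', ← conv_assoc, sext_conv]
    by_cases hx : x ∈ T
    · have hcb : c = b := hst _ (T.inv_mem hx)
      rw [if_pos hx, hcb, conv_blockCoeff, ← hfix', show x⁻¹ * (t : G) * x =
        (((⟨x, hx⟩ : T)⁻¹ * t * (⟨x, hx⟩ : T) : T) : G) from rfl, sext_coe]
      simpa using hf t (⟨x, hx⟩ : T)⁻¹
    · have hne : c ≠ b := fun h => hx (inv_inv x ▸ T.inv_mem (hout _ h))
      rw [if_neg hx, conv_blockCoeff_eq_zero (block_disjoint hM hcB hb hne)]
      simp [conv, sext]
  funext t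
  rw [hG t]
  simp only [hF, indFun, extendByZero_eq_sext, Finset.mul_sum]
  rw [Finset.sum_comm]
  have h2 : ∀ x : G, ∑ n : N, blockCoeff b n * ((Nat.card T : ℂ)⁻¹ *
      sext T f (x⁻¹ * ((n : G)⁻¹ * t) * x)) =
        (Nat.card T : ℂ)⁻¹ * if x ∈ T then f t else 0 := by
    intro x
    rw [← hterm t x, Finset.mul_sum]
    exact Finset.sum_congr rfl fun n _ => mul_left_comm _ _ _
  rw [Finset.sum_congr rfl fun x _ => h2 x, ← Finset.mul_sum, Finset.sum_ite, Finset.sum_const,
    Finset.sum_const_zero, add_zero, nsmul_eq_mul, ← mul_assoc]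
  rw [show (Finset.univ.filter fun x : G => x ∈ T).card = Nat.card T by
      rw [Nat.card_eq_fintype_card]; exact (Fintype.card_subtype _).symm,
    inv_mul_cancel₀ (Nat.cast_ne_zero.2 Nat.card_pos.ne'), one_mul]

theorem conv_frIdem_conj (hst : ∀ t ∈ T, blockConj t b = b) {ψ : IrrCharacter T}
    (hψ : omega (ψ : T → ℂ) (frIdem T b) = 1) :
    conv (frIdem T b) (fun t => conj ((ψ : T → ℂ) t)) = fun t => conj ((ψ : T → ℂ) t) := by
  funext t
  show ∑ u, frIdem T b u * conj ((ψ : T → ℂ) (u⁻¹ * t)) = conj ((ψ : T → ℂ) t)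
  have h := sum_classFun_mul_shift (frIdem_cls hst) ψ t⁻¹
  rw [hψ, one_mul] at h
  rw [← irr_inv, ← h]
  refine Finset.sum_congr rfl fun u _ => ?_
  rw [← irr_inv, mul_inv_rev, inv_inv, classFun_conj_apply (irr_isClassFun ψ)]

theorem sum_mul_eq_sum_conv (hst : ∀ t ∈ T, blockConj t b = b) {ψ : IrrCharacter T}
    (hψ : omega (ψ : T → ℂ) (frIdem T b) = 1) (F : T → ℂ) :
    ∑ t, (ψ : T → ℂ) t * F t = ∑ t, (ψ : T → ℂ) t * conv (frIdem T b) F t := by
  have h : ∀ t, (ψ : T → ℂ) t = ∑ u, frIdem T b u * (ψ : T → ℂ) (u * t) := fun t => by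
    rw [sum_classFun_mul_shift (frIdem_cls hst) ψ t, hψ, one_mul]
  calc ∑ t, (ψ : T → ℂ) t * F t
      = ∑ t, ∑ u, frIdem T b u * (ψ : T → ℂ) (u * t) * F t := by
        refine Finset.sum_congr rfl fun t _ => ?_
        rw [h t, Finset.sum_mul]
    _ = ∑ u, ∑ t, frIdem T b u * (ψ : T → ℂ) (u * t) * F t := Finset.sum_comm
    _ = ∑ u, ∑ s, (ψ : T → ℂ) s * (frIdem T b u * F (u⁻¹ * s)) := by
        refine Finset.sum_congr rfl fun u _ => Fintype.sum_equiv (Equiv.mulLeft u) _ _ fun t => ?_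
        simp only [Equiv.coe_mulLeft, inv_mul_cancel_left]
        ring
    _ = _ := by
        rw [Finset.sum_comm]
        simp only [conv, Finset.mul_sum]

theorem indFun_conj_apply (H : Subgroup G) (f : H → ℂ) (g : G) :
    indFun H (fun t => conj (f t)) g = conj (indFun H f g) := by
  simp only [indFun, map_mul, map_inv₀, map_natCast, map_sum]
  congr 1
  refine Finset.sum_congr rfl fun x _ => ?_
  by_cases hx : x⁻¹ * g * x ∈ H
  · rw [extendByZero_of_mem H _ hx, extendByZero_of_mem H _ hx]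
  · rw [extendByZero_of_not_mem H _ hx, extendByZero_of_not_mem H _ hx, map_zero]

theorem isIrr_indFun_fr (hM : IsPModular p M) (hNT : N ≤ T) (hb : IsPBlock M b)
    (hst : ∀ t ∈ T, blockConj t b = b) (hout : ∀ x : G, blockConj x b = b → x ∈ T)
    {ψ : IrrCharacter T} (hψ : omega (ψ : T → ℂ) (frIdem T b) = 1) :
    IsIrrCharacter G (indFun T (ψ : T → ℂ)) := by
  refine irr_of_char_norm_one (isCharacter_indFun T (isCharacter_of_irr ψ.2)) ?_
  rw [frobenius_reciprocity T _ (indFun_isClassFunction T _), ← classInner_irr_self ψ.2]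
  simp only [classInner]
  congr 1
  have hcl : IsClassFunction T (fun t => conj ((ψ : T → ℂ) t)) := fun a c =>
    congrArg conj (irr_isClassFun ψ a c)
  have e : ∀ t : T, conj (indFun T (ψ : T → ℂ) t) = indFun T (fun t => conj ((ψ : T → ℂ) t)) t :=
    fun t => (indFun_conj_apply T _ _).symm
  simp only [e]
  rw [sum_mul_eq_sum_conv hst hψ,
    conv_frIdem_indFun hM hNT hb hst hout hcl (conv_frIdem_conj hst hψ)]

/-- Central characters of an induced irreducible character. -/
theorem omega_indFun {ψ : IrrCharacter T} {χ : IrrCharacter G}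
    (hχ : (χ : G → ℂ) = indFun T (ψ : T → ℂ)) {g : G → ℂ} (hg : IsClassFunction G g) :
    omega (χ : G → ℂ) g = omega (ψ : T → ℂ) (fun t : T => g t) := by
  have h := frobenius_reciprocity T (ψ : T → ℂ) (χ := fun x => conj (g x))
    (fun a c => congrArg conj (hg a c))
  simp only [classInner, Complex.conj_conj] at h
  rw [← hχ] at h
  have h1 : (χ : G → ℂ) 1 = (T.index : ℂ) * (ψ : T → ℂ) 1 := by rw [hχ, indFun_apply_one]
  have hG : (Nat.card G : ℂ) = (Nat.card T : ℂ) * (T.index : ℂ) := by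
    rw [← Nat.cast_mul, Subgroup.card_mul_index]
  have h2 : ∑ x, g x * (χ : G → ℂ) x = (T.index : ℂ) * ∑ t : T, g t * (ψ : T → ℂ) t := by
    calc ∑ x, g x * (χ : G → ℂ) x
        = (Nat.card G : ℂ) * ((Nat.card G : ℂ)⁻¹ * ∑ x, (χ : G → ℂ) x * g x) := by
          rw [mul_inv_cancel_left₀ (Nat.cast_ne_zero.2 Nat.card_pos.ne')]
          exact Finset.sum_congr rfl fun x _ => mul_comm _ _
      _ = (T.index : ℂ) * ∑ t : T, g t * (ψ : T → ℂ) t := by
          rw [h, hG, mul_comm (Nat.card T : ℂ), mul_assoc,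
            mul_inv_cancel_left₀ (Nat.cast_ne_zero.2 Nat.card_pos.ne')]
          congr 1
          exact Finset.sum_congr rfl fun x _ => mul_comm _ _
  rw [omega, omega, h2, h1, mul_div_mul_left _ _ (Nat.cast_ne_zero.2 Subgroup.index_ne_zero_of_finite)]

theorem omega_covFn_indFun (hM : IsPModular p M) (hNT : N ≤ T) (hb : IsPBlock M b)
    (hst : ∀ t ∈ T, blockConj t b = b) {ψ : IrrCharacter T} {χ : IrrCharacter G}
    (hχ : (χ : G → ℂ) = indFun T (ψ : T → ℂ))
    (hψ : omega (ψ : T → ℂ) (frIdem T b) = 1) : omega (χ : G → ℂ) (covFn b) = 1 := by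
  classical
  rw [omega_indFun hχ (covFn_cls b)]
  have h1 : conv (frIdem T b) (fun t : T => covFn b t) = frIdem T b := by
    funext t
    have hcv : sext T (fun t : T => covFn b t) = covFn b := by
      funext g
      by_cases hg : g ∈ T
      · rw [show g = ((⟨g, hg⟩ : T) : G) from rfl, sext_coe]
      · rw [sext_off T _ hg, covFn_off b fun h => hg (hNT h)]
    have h := congrFun (sext_conv T (frIdem T b) (fun t : T => covFn b t)) (t : G)
    rw [sext_coe] at h
    rw [← h, sext_frIdem hNT, hcv, covFn, sext_conv]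
    refine congrArg (fun k => sext N k (t : G)) ?_
    have h3 : conv (blockCoeff b) (fun k => ∑ c ∈ covOrb b, blockCoeff c k) =
        ∑ c ∈ covOrb b, conv (blockCoeff b) (blockCoeff c) := by
      funext k
      simp only [conv, Finset.sum_apply, Finset.mul_sum]
      exact Finset.sum_comm
    rw [h3, Finset.sum_eq_single b (fun c hc hne => conv_blockCoeff_eq_zero
      (block_disjoint hM hb (isPBlock_covOrb hb hc) (Ne.symm hne)))
      (fun h => absurd (self_mem_covOrb b) h), conv_blockCoeff]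
  have h2 := omega_conv (frIdem_cls hst) ψ (h := fun t : T => covFn b t)
  rw [h1, hψ, one_mul] at h2
  exact h2.symm

theorem sum_frIdem_mul (hNT : N ≤ T) (b : Set (IrrCharacter N)) (f : T → ℂ) :
    ∑ t, frIdem T b t * f t =
      ∑ θ ∈ bset b, (θ : N → ℂ) 1 *
        classInner (fun n : N => f ⟨(n : G), hNT n.2⟩) (θ : N → ℂ) := by
  classical
  have h1 : ∑ t, frIdem T b t * f t = ∑ n : N, blockCoeff b n * f ⟨(n : G), hNT n.2⟩ := by
    unfold frIdem
    rw [← Finset.sum_filter_of_ne (s := (Finset.univ : Finset T)) (p := fun u : T => (u : G) ∈ N)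
      (fun u _ hu => by by_contra hc; exact hu (by rw [sext_off N _ hc, zero_mul]))]
    symm
    refine Finset.sum_bij (fun n _ => (⟨(n : G), hNT n.2⟩ : T)) ?_ ?_ ?_ ?_
    · intro n _; simp
    · intro a _ c _ h; exact Subtype.ext (congrArg (fun u : T => (u : G)) h)
    · intro u hu; exact ⟨⟨(u : G), (Finset.mem_filter.1 hu).2⟩, Finset.mem_univ _, rfl⟩
    · intro n _; rw [sext_coe]
  rw [h1]
  simp only [blockCoeff, finsum_mem_bset, classInner, Finset.mul_sum, Finset.sum_mul]
  rw [Finset.sum_comm]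
  exact Finset.sum_congr rfl fun θ _ => Finset.sum_congr rfl fun n _ => by ring

theorem isCharacter_res_le (hNT : N ≤ T) (ψ : IrrCharacter T) :
    IsCharacter N (fun n : N => (ψ : T → ℂ) ⟨(n : G), hNT n.2⟩) :=
  isCharacter_comp (isCharacter_of_irr ψ.2) (Subgroup.inclusion hNT)

theorem omega_frIdem_iff (hNT : N ≤ T) (hst : ∀ t ∈ T, blockConj t b = b) (ψ : IrrCharacter T) :
    omega (ψ : T → ℂ) (frIdem T b) = 1 ↔
      ∃ θ ∈ b, classInner (fun n : N => (ψ : T → ℂ) ⟨(n : G), hNT n.2⟩) (θ : N → ℂ) ≠ 0 := by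
  have hsum := sum_frIdem_mul hNT b (ψ : T → ℂ)
  constructor
  · intro h
    by_contra hno
    push Not at hno
    rw [omega, hsum, Finset.sum_eq_zero fun θ hθ => by rw [hno θ (mem_bset.1 hθ), mul_zero],
      zero_div] at h
    exact zero_ne_one h
  · rintro ⟨θ, hθ, hne⟩
    refine (omega_frIdem hNT hst ψ).resolve_left fun h0 => ?_
    rw [omega, div_eq_zero_iff, hsum] at h0
    have h0' := h0.resolve_right (irr_one_ne_zero ψ)
    choose m hm using fun φ : IrrCharacter N =>
      classInner_char_nat (isCharacter_res_le hNT ψ) (isCharacter_of_irr φ.2)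
    have h1 : ((∑ φ ∈ bset b, charDegree (φ : N → ℂ) * m φ : ℕ) : ℂ) = 0 := by
      push_cast
      simp only [irr_charDegree_cast, ← hm]
      exact h0'
    have h2 := Finset.sum_eq_zero_iff.1 (Nat.cast_eq_zero.1 h1) θ (mem_bset.2 hθ)
    rcases mul_eq_zero.1 h2 with h3 | h3
    · exact absurd h3 (irr_charDegree_pos θ).ne'
    · exact hne (by rw [hm θ, h3, Nat.cast_zero])

/-- Every character over `b` is induced from one over `b`. -/
theorem exists_fr_pre (hM : IsPModular p M) (hNT : N ≤ T) (hb : IsPBlock M b)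
    (hst : ∀ t ∈ T, blockConj t b = b) (hout : ∀ x : G, blockConj x b = b → x ∈ T)
    {χ : IrrCharacter G} (hχ : omega (χ : G → ℂ) (covFn b) = 1) :
    ∃ ψ : IrrCharacter T, omega (ψ : T → ℂ) (frIdem T b) = 1 ∧
      (χ : G → ℂ) = indFun T (ψ : T → ℂ) := by
  classical
  obtain ⟨θ, hθ, hne⟩ := covers_of_res hM (χ := χ) (b := b) (by rw [hχ, res_one])
  set r : T → ℂ := fun t => (χ : G → ℂ) t with hr
  have hrc : IsClassFunction T r := fun a c => irr_isClassFun χ (a : G) (c : G)
  have hexp : ∀ n : N, (χ : G → ℂ) n =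
      ∑ ψ : IrrCharacter T, classInner r (ψ : T → ℂ) * (ψ : T → ℂ) ⟨(n : G), hNT n.2⟩ := by
    intro n
    have h := congrFun (eq_sum_irr hrc) ⟨(n : G), hNT n.2⟩
    simpa [hr, Finset.sum_apply] using h
  obtain ⟨ψ, hψ1, hψ2⟩ : ∃ ψ : IrrCharacter T, classInner r (ψ : T → ℂ) ≠ 0 ∧
      classInner (fun n : N => (ψ : T → ℂ) ⟨(n : G), hNT n.2⟩) (θ : N → ℂ) ≠ 0 := by
    by_contra hno
    push Not at hno
    apply hne
    have : (fun n : N => (χ : G → ℂ) n) = ∑ ψ : IrrCharacter T, classInner r (ψ : T → ℂ) •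
        (fun n : N => (ψ : T → ℂ) ⟨(n : G), hNT n.2⟩) := by
      funext n; simp [hexp n, Finset.sum_apply]
    rw [this, classInner_sum_left]
    refine Finset.sum_eq_zero fun ψ _ => ?_
    rw [classInner_smul_left]
    by_cases h : classInner r (ψ : T → ℂ) = 0
    · rw [h, zero_mul]
    · rw [hno ψ h, mul_zero]
  have hψ := (omega_frIdem_iff hNT hst ψ).2 ⟨θ, hθ, hψ2⟩
  refine ⟨ψ, hψ, ?_⟩
  have hirr := isIrr_indFun_fr hM hNT hb hst hout hψ
  by_contra hne'
  apply hψ1
  rw [← frobenius_reciprocity' T (ψ : T → ℂ) (irr_isClassFun χ)]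
  exact classInner_irr_ne χ.2 hirr hne'

/-- The sum over cosets behind induction of functions is integral. -/
theorem memRing_indFun (hM : IsPModular p M) {f : T → ℂ} (hf : IsClassFunction T f)
    (hm : ∀ t, MemLocalRing M (f t)) (g : G) : MemLocalRing M (indFun T f g) := by
  classical
  haveI : Fintype (G ⧸ T) := Fintype.ofFinite _
  rw [indFun, extendByZero_eq_sext, ← Finset.sum_fiberwise Finset.univ
    (fun x : G => (x : G ⧸ T)) (fun x => sext T f (x⁻¹ * g * x)), Finset.mul_sum]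
  refine memRing_sum hM fun q _ => ?_
  have hfib : ∑ x ∈ Finset.univ.filter (fun x : G => (x : G ⧸ T) = q),
      sext T f (x⁻¹ * g * x) = (Nat.card T : ℂ) * sext T f (q.out⁻¹ * g * q.out) := by
    rw [Nat.card_eq_fintype_card, ← Finset.card_univ, ← nsmul_eq_mul, ← Finset.sum_const]
    symm
    refine Finset.sum_bij (fun (t : T) _ => q.out * (t : G)) ?_ ?_ ?_ ?_
    · intro t _
      refine Finset.mem_filter.2 ⟨Finset.mem_univ _, ?_⟩
      conv_rhs => rw [← QuotientGroup.out_eq' q]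
      rw [QuotientGroup.eq]
      simpa [mul_assoc] using t.2
    · intro a _ c _ h; exact Subtype.ext (mul_left_cancel h)
    · intro x hx
      have hx' : q.out⁻¹ * x ∈ T := by
        rw [← QuotientGroup.eq, QuotientGroup.out_eq']; exact (Finset.mem_filter.1 hx).2.symm
      exact ⟨⟨_, hx'⟩, Finset.mem_univ _, by simp⟩
    · intro t _
      rw [← sext_conj_mem T hf (T.inv_mem t.2) (q.out⁻¹ * g * q.out)]
      congr 1
      group
  rw [hfib, inv_mul_cancel_left₀ (Nat.cast_ne_zero.2 Nat.card_pos.ne')]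
  exact sext_mem hM T hm _

theorem fr_sameBlock_iff (hM : IsPModular p M) (hNT : N ≤ T) (hb : IsPBlock M b)
    (hst : ∀ t ∈ T, blockConj t b = b) (hout : ∀ x : G, blockConj x b = b → x ∈ T)
    {ψ ψ' : IrrCharacter T} {χ χ' : IrrCharacter G}
    (hψ : omega (ψ : T → ℂ) (frIdem T b) = 1) (hψ' : omega (ψ' : T → ℂ) (frIdem T b) = 1)
    (hχ : (χ : G → ℂ) = indFun T (ψ : T → ℂ)) (hχ' : (χ' : G → ℂ) = indFun T (ψ' : T → ℂ)) :
    SameBlock M (χ : G → ℂ) (χ' : G → ℂ) ↔ SameBlock M (ψ : T → ℂ) (ψ' : T → ℂ) := by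
  classical
  constructor
  · intro h
    rw [sameBlock_iff_res hM]
    intro t
    set f : T → ℂ := fun x => if IsConj t x then (1 : ℂ) else 0 with hf
    have hfc : IsClassFunction T f := isClassFunction_classInd t
    have hfm : ∀ x, MemLocalRing M (f x) := memRing_classInd hM t
    set f' := conv (frIdem T b) f with hf'
    have hf'c : IsClassFunction T f' := conv_isClassFunction (frIdem_cls hst) hfc
    have hf'm : ∀ x, MemLocalRing M (f' x) :=
      fun x => memRing_sum hM fun z _ => (loc hM).mul_mem (frIdem_mem hM hb z) (hfm _)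
    have key : ∀ (φ : IrrCharacter T) (ξ : IrrCharacter G), omega (φ : T → ℂ) (frIdem T b) = 1 →
        (ξ : G → ℂ) = indFun T (φ : T → ℂ) →
        clv t φ = omega (ξ : G → ℂ) (indFun T f') := by
      intro φ ξ hφ hξ
      rw [omega_indFun hξ (indFun_isClassFunction T f')]
      have h1 := omega_conv (frIdem_cls hst) φ (h := fun x : T => indFun T f' x)
      rw [hφ, one_mul, conv_frIdem_indFun hM hNT hb hst hout hf'c
        (by rw [hf', ← conv_assoc, conv_frIdem hNT])] at h1
      rw [← h1, hf', omega_conv (frIdem_cls hst), hφ, one_mul, hf, omega_classInd]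
      rfl
    rw [key ψ χ hψ hχ, key ψ' χ' hψ' hχ']
    exact Zloc_res_congr hM (omega_mem_Zloc hM (indFun_isClassFunction T f')
      (memRing_indFun hM hf'c hf'm)) h
  · intro h
    rw [sameBlock_iff_res hM]
    intro g
    show res hM (centralChar (χ : G → ℂ) g) = res hM (centralChar (χ' : G → ℂ) g)
    rw [← omega_classInd g χ, ← omega_classInd g χ', omega_indFun hχ (isClassFunction_classInd g),
      omega_indFun hχ' (isClassFunction_classInd g)]
    exact Zloc_res_congr hM
      (v := fun φ : IrrCharacter T => omega (φ : T → ℂ) fun t : T => if IsConj g (t : G) then 1 else 0)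
      (omega_mem_Zloc hM (fun a c => isClassFunction_classInd g (a : G) (c : G))
        (fun t => memRing_classInd hM g t)) h

theorem omega_frIdem_block (hM : IsPModular p M) (hNT : N ≤ T) (hb : IsPBlock M b)
    (hst : ∀ t ∈ T, blockConj t b = b) {B' : Set (IrrCharacter T)} (hB' : IsPBlock M B')
    {ψ ψ' : IrrCharacter T} (hψ : ψ ∈ B') (hψ' : ψ' ∈ B')
    (h : omega (ψ : T → ℂ) (frIdem T b) = 1) : omega (ψ' : T → ℂ) (frIdem T b) = 1 := by
  haveI := res_isDomain hM
  refine (omega_frIdem hNT hst ψ').resolve_left fun h0 => ?_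
  have h1 := Zloc_res_congr hM (v := fun φ : IrrCharacter T => omega (φ : T → ℂ) (frIdem T b))
    (omega_mem_Zloc hM (frIdem_cls hst) (frIdem_mem hM hb)) (sameBlock_of_mem hM hB' hψ hψ')
  rw [h, h0, res_one, res_zero] at h1
  exact one_ne_zero h1

/-- The block of `G` induced by a block of the stabiliser covering `b`. -/
theorem fr_induced (hM : IsPModular p M) (hNT : N ≤ T) (hb : IsPBlock M b)
    (hst : ∀ t ∈ T, blockConj t b = b) (hout : ∀ x : G, blockConj x b = b → x ∈ T)
    {B' : Set (IrrCharacter T)} (hB' : IsPBlock M B')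
    (hcov : ∀ ψ ∈ B', omega (ψ : T → ℂ) (frIdem T b) = 1) :
    ∃ B : Set (IrrCharacter G), IsInducedBlock M T B' B ∧
      (∀ χ ∈ B, omega (χ : G → ℂ) (covFn b) = 1) ∧
      ∀ χ : IrrCharacter G, χ ∈ B ↔ ∃ ψ ∈ B', (χ : G → ℂ) = indFun T (ψ : T → ℂ) := by
  classical
  obtain ⟨ψ₀, hψ₀⟩ := block_nonempty hM hB'
  set χ₀ : IrrCharacter G := ⟨_, isIrr_indFun_fr hM hNT hb hst hout (hcov ψ₀ hψ₀)⟩ with hχ₀
  have hmem : ∀ χ : IrrCharacter G, χ ∈ blockOf M (χ₀ : G → ℂ) ↔
      ∃ ψ ∈ B', (χ : G → ℂ) = indFun T (ψ : T → ℂ) := by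
    intro χ
    constructor
    · intro hχ
      have h1 : omega (χ : G → ℂ) (covFn b) = 1 := by
        refine covFn_val_covers hM (blockOf_isPBlock χ₀) hb ⟨χ₀, mem_blockOf_self hM χ₀, ?_⟩ hχ
        exact covers_of_res hM
          (by rw [omega_covFn_indFun hM hNT hb hst rfl (hcov ψ₀ hψ₀), res_one])
      obtain ⟨ψ, hψ, he⟩ := exists_fr_pre hM hNT hb hst hout h1
      refine ⟨ψ, ?_, he⟩
      have hs : SameBlock M (χ₀ : G → ℂ) (χ : G → ℂ) := hχ
      rw [eq_blockOf hM hB' hψ₀]
      exact (fr_sameBlock_iff hM hNT hb hst hout (hcov ψ₀ hψ₀) hψ rfl he).1 hs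
    · rintro ⟨ψ, hψ, he⟩
      exact (fr_sameBlock_iff hM hNT hb hst hout (hcov ψ₀ hψ₀) (hcov ψ hψ) rfl he).2
        (sameBlock_of_mem hM hB' hψ₀ hψ)
  refine ⟨blockOf M (χ₀ : G → ℂ), ⟨hB', blockOf_isPBlock χ₀, fun ξ hξ χ hχ g => ?_⟩,
    fun χ hχ => ?_, hmem⟩
  · rw [memIdeal_sub_iff hM (memRing_inducedCentralChar T hM ξ g)
      (show MemLocalRing M (centralChar (χ : G → ℂ) g) from memRing_clv hM g χ),
      ← omega_classInd g χ, ← omega_restrict_classInd T g]
    obtain ⟨ψ, hψ, he⟩ := (hmem χ).1 hχ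
    rw [omega_indFun he (isClassFunction_classInd g)]
    exact Zloc_res_congr hM
      (v := fun φ : IrrCharacter T => omega (φ : T → ℂ) fun t : T => if IsConj g (t : G) then 1 else 0)
      (omega_mem_Zloc hM (fun a c => isClassFunction_classInd g (a : G) (c : G))
        (fun t => memRing_classInd hM g t)) (sameBlock_of_mem hM hB' hξ hψ)
  · obtain ⟨ψ, hψ, he⟩ := (hmem χ).1 hχ
    exact omega_covFn_indFun hM hNT hb hst he (hcov ψ hψ)

theorem induced_unique (hM : IsPModular p M) {B' : Set (IrrCharacter T)}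
    {B B₂ : Set (IrrCharacter G)} (h : IsInducedBlock M T B' B) (h₂ : IsInducedBlock M T B' B₂) :
    B = B₂ := by
  obtain ⟨ξ, hξ⟩ := block_nonempty hM h.1
  obtain ⟨χ, hχ⟩ := block_nonempty hM h.2.1
  obtain ⟨χ', hχ'⟩ := block_nonempty hM h₂.2.1
  rw [eq_blockOf hM h.2.1 hχ, eq_blockOf hM h₂.2.1 hχ']
  refine (blockOf_eq_of_mem hM ((sameBlock_iff_res hM χ χ').2 fun g => ?_)).symm
  exact ((memIdeal_sub_iff hM (memRing_inducedCentralChar T hM ξ g) (memRing_clv hM g χ)).1
      (h.2.2 ξ hξ χ hχ g)).symm.trans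
    ((memIdeal_sub_iff hM (memRing_inducedCentralChar T hM ξ g) (memRing_clv hM g χ')).1
      (h₂.2.2 ξ hξ χ' hχ' g))

theorem charDegree_indFun {ψ : IrrCharacter T} {χ : IrrCharacter G}
    (hχ : (χ : G → ℂ) = indFun T (ψ : T → ℂ)) :
    charDegree (χ : G → ℂ) = T.index * charDegree (ψ : T → ℂ) := by
  apply Nat.cast_injective (R := ℂ)
  push_cast
  rw [irr_charDegree_cast, irr_charDegree_cast, hχ, indFun_apply_one]

/-- Degrees in corresponding blocks differ by the index. -/
theorem sInf_fr (hM : IsPModular p M) {B' : Set (IrrCharacter T)} (hB' : IsPBlock M B')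
    {B : Set (IrrCharacter G)} (hirr : ∀ ψ ∈ B', IsIrrCharacter G (indFun T (ψ : T → ℂ)))
    (hmem : ∀ χ : IrrCharacter G, χ ∈ B ↔ ∃ ψ ∈ B', (χ : G → ℂ) = indFun T (ψ : T → ℂ)) :
    sInf ((fun χ : IrrCharacter G => (charDegree (χ : G → ℂ)).factorization p) '' B) =
      T.index.factorization p +
        sInf ((fun ψ : IrrCharacter T => (charDegree (ψ : T → ℂ)).factorization p) '' B') := by
  have hf : ∀ (ψ : IrrCharacter T) (χ : IrrCharacter G), (χ : G → ℂ) = indFun T (ψ : T → ℂ) →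
      (charDegree (χ : G → ℂ)).factorization p =
        T.index.factorization p + (charDegree (ψ : T → ℂ)).factorization p := by
    intro ψ χ h
    rw [charDegree_indFun h, Nat.factorization_mul Subgroup.index_ne_zero_of_finite
      (irr_charDegree_pos ψ).ne', Finsupp.add_apply]
  have hne' : ((fun ψ : IrrCharacter T => (charDegree (ψ : T → ℂ)).factorization p) '' B').Nonempty :=
    (block_nonempty hM hB').image _
  obtain ⟨ψ, hψ, he⟩ := Nat.sInf_mem hne'
  simp only at he
  refine le_antisymm ?_ (le_csInf ?_ ?_)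
  · rw [← he, ← hf ψ ⟨_, hirr ψ hψ⟩ rfl]
    exact Nat.sInf_le (Set.mem_image_of_mem _ ((hmem ⟨_, hirr ψ hψ⟩).2 ⟨ψ, hψ, rfl⟩))
  · exact ⟨_, Set.mem_image_of_mem _ ((hmem ⟨_, hirr ψ hψ⟩).2 ⟨ψ, hψ, rfl⟩)⟩
  · rintro _ ⟨χ, hχ, rfl⟩
    obtain ⟨ψ', hψ', h⟩ := (hmem χ).1 hχ
    show _ ≤ (charDegree (χ : G → ℂ)).factorization p
    rw [hf ψ' χ h]
    exact Nat.add_le_add_left (Nat.sInf_le (Set.mem_image_of_mem _ hψ')) _

theorem fr_blockDefect (hM : IsPModular p M) {B' : Set (IrrCharacter T)} (hB' : IsPBlock M B')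
    {B : Set (IrrCharacter G)} (hirr : ∀ ψ ∈ B', IsIrrCharacter G (indFun T (ψ : T → ℂ)))
    (hmem : ∀ χ : IrrCharacter G, χ ∈ B ↔ ∃ ψ ∈ B', (χ : G → ℂ) = indFun T (ψ : T → ℂ)) :
    blockDefect p B = blockDefect p B' := by
  rw [blockDefect, blockDefect, sInf_fr hM hB' hirr hmem, ← Subgroup.card_mul_index T,
    Nat.factorization_mul Nat.card_pos.ne' Subgroup.index_ne_zero_of_finite, Finsupp.add_apply]
  omega

end CfsgLib.Blocks
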