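import Cfsg.Agent.S4492
import Cfsg.Agent.S4435
import Cfsg.Agent.S4436
import Cfsg.Agent.Lib.CharTheory.AbelianInertia
import Cfsg.Agent.Lib.CharTheory.ExtCriteria

/-!
# Fong's reduction for blocks of `p`-solvable groups
-/

namespace CfsgLib.Blocks

open Cfsg CfsgLib.CharTheory

set_option linter.unusedVariables false
set_option linter.style.haveILetI false
set_option linter.unusedSectionVars false

universe u

variable {p : ℕ} {M : Ideal AlgInt} {G : Type u} [Group G] [Fintype G]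

/-- Subgroups of `p`-solvable groups. -/
theorem isPSolvable_subgroup (hp : p.Prime) (h : IsPSolvable p G) (T : Subgroup G) :
    IsPSolvable p T := by
  obtain ⟨n, H, h0, h1, hm, hn, hf⟩ := h
  refine ⟨n, fun i => (H i).subgroupOf T, ?_, ?_, fun a b hab x hx => hm hab hx, fun i => ?_,
    fun i => ?_⟩
  · show (H 0).subgroupOf T = ⊥; rw [h0, Subgroup.bot_subgroupOf]
  · show (H (Fin.last n)).subgroupOf T = ⊤; rw [h1]; ext x; simp
  · haveI := hn i; exact Subgroup.Normal.comap inferInstance _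
  · haveI := hn i.castSucc
    have hd : ((H i.castSucc).subgroupOf T).relIndex ((H i.succ).subgroupOf T) ∣
        (H i.castSucc).relIndex (H i.succ) := by
      show ((H i.castSucc).comap T.subtype).relIndex ((H i.succ).comap T.subtype) ∣ _
      rw [Subgroup.relIndex_comap]
      set π := QuotientGroup.mk' (H i.castSucc)
      have e : ∀ X : Subgroup G, (H i.castSucc).relIndex X = Nat.card (X.map π) := fun X => by
        rw [← Subgroup.relIndex_ker, QuotientGroup.ker_mk']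
      rw [e, e]
      exact Subgroup.card_dvd_of_le (Subgroup.map_mono (Subgroup.map_comap_le _ _))
    rcases hf i with ⟨m, hm'⟩ | hc
    · obtain ⟨j, -, hj⟩ := (Nat.dvd_prime_pow hp).1 (hm' ▸ hd)
      exact Or.inl ⟨j, hj⟩
    · exact Or.inr (hc.coprime_dvd_left hd)

/-- A block is determined by a stable character of `O_{p'}(G)` below it, or comes from a proper
subgroup by induction. -/
theorem fong_reduction [Fact p.Prime] (hM : IsPModular p M) (hsolv : IsPSolvable p G)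
    {B : Set (IrrCharacter G)} (hB : IsPBlock M B) {D : Subgroup G} (hD : IsDefectGroup p M B D) :
    (∃ θ : pPrimeCore p G → ℂ, ∃ _ : Fintype (pPrimeCore p G),
      IsIrrCharacter (pPrimeCore p G) θ ∧
      (∀ g : G, conjNormFun (pPrimeCore p G) g θ = θ) ∧
      (∀ χ : IrrCharacter G, χ ∈ B ↔
        classInner (fun n : pPrimeCore p G => (χ : G → ℂ) n) θ ≠ 0) ∧
      ∃ S : Sylow p G, D = (S : Subgroup G)) ∨
    ∃ (T : Subgroup G) (_ : Fintype T) (B' : Set (IrrCharacter T)) (D' : Subgroup T) (x : G),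
      T ≠ ⊤ ∧ IsPBlock M B' ∧ IsDefectGroup p M B' D' ∧
        (D'.map T.subtype).map (MulAut.conj x).toMonoidHom = D ∧
      ∃ f : {ψ : IrrCharacter T // ψ ∈ B'} ≃ {χ : IrrCharacter G // χ ∈ B},
        ∀ ψ, ((f ψ).1 : G → ℂ) = indFun T (ψ.1 : T → ℂ) ∧
          blockHeight p B ((f ψ).1 : G → ℂ) = blockHeight p B' (ψ.1 : T → ℂ) := by
  classical
  set K := pPrimeCore p G with hKdef
  letI := Fintype.ofFinite K
  obtain ⟨χ₀, hχ₀⟩ := block_nonempty hM hB
  obtain ⟨θ, hθ, hθc⟩ := exists_constituent (isCharacter_restrict (isCharacter_of_irr χ₀.2) K)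
    (fun e => irr_ne_zero χ₀.2 (congrFun e 1))
  set T := inertia K θ with hT
  by_cases hTop : T = ⊤
  · left
    have hinv : ∀ g : G, conjNormFun K g θ = θ := fun g =>
      (mem_inertia K).1 (show g ∈ T by rw [hTop]; trivial)
    obtain ⟨B₀, hB₀, hmem, -, hsyl⟩ := Cfsg.Agent.S4492.result p M hM hsolv K rfl ⟨θ, hθ⟩
      (fun g n => congrFun (hinv g) n)
    have e : B = B₀ := by
      rw [eq_blockOf hM hB hχ₀, eq_blockOf hM hB₀ ((hmem χ₀).2 hθc)]
    subst e
    exact ⟨θ, inferInstance, hθ, hinv, hmem, hsyl D hD⟩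
  right
  letI := Fintype.ofFinite T
  have hKT : K ≤ T := le_inertia K (isClassFunction_irr hθ)
  set b : Set (IrrCharacter K) := {⟨θ, hθ⟩} with hbdef
  have hb : IsPBlock M b := isPBlock_singleton_of_coprime hM not_dvd_card_pPrimeCore' _
  have hTb : ∀ g : G, g ∈ T ↔ ∀ θ₁ ∈ b, ∀ θ' : IrrCharacter K,
      (∀ n : K, (θ' : K → ℂ) n = (θ₁ : K → ℂ)
        ⟨g * n * g⁻¹, Subgroup.Normal.conj_mem inferInstance (n : G) n.2 g⟩) → θ' ∈ b := by
    intro g
    rw [hT, mem_inertia]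
    constructor
    · intro hg θ₁ hθ₁ θ' h
      rw [Set.mem_singleton_iff] at hθ₁ ⊢
      subst hθ₁
      exact Subtype.ext (funext fun n => (h n).trans (congrFun hg n))
    · intro h
      have h1 := h ⟨θ, hθ⟩ rfl ⟨_, isIrr_conjNormFun K g hθ⟩ fun n => rfl
      exact congrArg Subtype.val (Set.mem_singleton_iff.1 h1)
  obtain ⟨hup, -, hdown⟩ := Cfsg.Agent.S4435.result p M hM K b hb T hTb hKT
  obtain ⟨B', hB', hcov, hind⟩ := hdown B hB ⟨χ₀, hχ₀, ⟨θ, hθ⟩, rfl, hθc⟩
  obtain ⟨B₁, hB₁, -, -, hiff⟩ := hup B' hB' hcov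
  obtain rfl := induced_unique hM hB₁ hind
  obtain ⟨hdef, hht⟩ := Cfsg.Agent.S4436.result p M hM K b hb T hTb hKT B' hB' hcov B₁ hind
  have hmemT : ∀ g : G, g ∈ T → blockConj g b = b := by
    intro g hg
    rw [blockConj, hbdef, Set.image_singleton, Set.singleton_eq_singleton_iff]
    refine Subtype.ext (funext fun n => ?_)
    rw [irrPull_conjE_eq]
    exact congrFun ((mem_inertia K).1 (T.inv_mem hg)) n
  have hover : ∀ ψ ∈ B', classInner (fun n : K => (ψ : T → ℂ) ⟨(n : G), hKT n.2⟩) θ ≠ 0 := by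
    intro ψ hψ
    obtain ⟨ψ₀, hψ₀, h0⟩ := hcov
    have h1 := omega_frIdem_block hM hKT hb hmemT hB' hψ₀ hψ
      ((omega_frIdem_iff hKT hmemT ψ₀).2 h0)
    obtain ⟨θ', hθ', h2⟩ := (omega_frIdem_iff hKT hmemT ψ).1 h1
    rwa [Set.mem_singleton_iff.1 hθ'] at h2
  choose χ hχB hχe hχh using hht
  obtain ⟨D', hD'⟩ := exists_defectGroup hM hB'
  obtain ⟨x, hx⟩ := defectGroup_conjugate hM hB (hdef D' hD') hD
  refine ⟨T, inferInstance, B', D', x, hTop, hB', hD', hx,
    Equiv.ofBijective (fun ψ => ⟨χ ψ.1 ψ.2, hχB ψ.1 ψ.2⟩) ⟨?_, ?_⟩, fun ψ =>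
      ⟨hχe ψ.1 ψ.2, hχh ψ.1 ψ.2⟩⟩
  · intro ψ ψ' h
    have h1 := congrArg (fun z : {χ : IrrCharacter G // χ ∈ B₁} => (z.1 : G → ℂ)) h
    simp only [hχe] at h1
    exact Subtype.ext (Subtype.ext (clifford_correspondence_inj K hθ hKT rfl ψ.1.2 ψ'.1.2
      (hover _ ψ.2) (hover _ ψ'.2) h1))
  · rintro ⟨φ, hφ⟩
    obtain ⟨ψ, hψ, e⟩ := (hiff φ).1 hφ
    exact ⟨⟨ψ, hψ⟩, Subtype.ext (Subtype.ext ((hχe ψ hψ).trans e.symm))⟩

/-- Over a stable character prime to an abelian factor, the constituents have the same degree. -/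
theorem degree_eq_of_coprime_abelian {K : Subgroup G} [K.Normal] [Fintype K]
    (hab : ∀ x y : G, x * y * x⁻¹ * y⁻¹ ∈ K) (hcop : K.index.Coprime (Nat.card K)) {θ : K → ℂ}
    (hθ : IsIrrCharacter K θ) (hinv : ∀ g : G, conjNormFun K g θ = θ) {η : G → ℂ}
    (hη : IsIrrCharacter G η) (hc : classInner (fun n : K => η n) θ ≠ 0) : η 1 = θ 1 := by
  have hinv' : ∀ (g : G) (x : K),
      θ ⟨g * x * g⁻¹, Subgroup.Normal.conj_mem inferInstance (x : G) x.2 g⟩ = θ x :=
    fun g x => congrFun (hinv g) x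
  obtain ⟨n, ρ, hρ, rfl⟩ := hθ
  have hφi : ∀ (g : G) (x : K), detHom ρ (MulAut.conjNormal g x) = detHom ρ x := by
    intro g x
    obtain ⟨e⟩ := nonempty_equiv_of_character_eq ρ
      (ρ.comp (MulAut.conjNormal g : K ≃* K).toMonoidHom)
      (funext fun y => (invariant_of_rep rfl hinv' g y).symm)
    apply Units.ext
    rw [coe_detHom, coe_detHom, ← LinearMap.det_conj (ρ x) e.toLinearEquiv]
    congr 1
    refine LinearMap.ext fun v => ?_
    have := e.toIntertwiningMap.isIntertwining _ _ x (e.toLinearEquiv.symm v)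
    exact ((congrArg ((ρ.comp (MulAut.conjNormal g : K ≃* K).toMonoidHom) x)
      (e.toLinearEquiv.apply_symm_apply v)).symm.trans this.symm)
  obtain ⟨μ, hμ, -, -⟩ := exists_hom_extending_coprime (detHom ρ) hφi
    (hcop.coprime_dvd_right (orderOf_dvd_of_pow_eq_one (MonoidHom.ext fun y => by
      rw [MonoidHom.pow_apply, ← map_pow, pow_card_eq_one', map_one, MonoidHom.one_apply])))
  obtain ⟨χ, hχ, hχK, -⟩ := exists_extension_det (G := G) ⟨n, ρ, hρ, rfl⟩ hinv' ρ.char_one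
    (hcop.coprime_dvd_right (finrank_dvd_card ρ)) μ (fun y => by
      rw [detChar_eq, hμ])
  obtain ⟨β, hβ, hk, rfl⟩ := (gallagher K (isCharacter_of_irr hχ)
    (by rw [show (fun y : K => χ y) = ρ.character from funext hχK]; exact ⟨n, ρ, hρ, rfl⟩)).2.2 η hη
    (by rw [show (fun y : K => χ y) = ρ.character from funext hχK]; exact hc)
  rw [Pi.mul_apply, irr_degree_one_of_kernel_commutator K hab hβ hk, one_mul]
  exact hχK 1

end CfsgLib.Blocks
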