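import Cfsg.Agent.S3744
import Cfsg.Agent.Lib.PSolvable
import Cfsg.Agent.Lib.Basic
import Mathlib.GroupTheory.SchurZassenhaus

/-!
# Hall–Higman: `C(O_p) ≤ O_p` in a `p`-solvable group without normal `p'`-subgroup
-/

namespace CfsgLib.Blocks

open Cfsg

set_option linter.style.haveILetI false
set_option linter.unusedSectionVars false

universe u

variable {G : Type u} [Group G] [Finite G] {p : ℕ} [Fact p.Prime]

theorem pCore_normal' : (pCore p G).Normal :=
  (CfsgLib.sSup_prop_of_closed_sup (fun N : Subgroup G => N.Normal ∧ IsPGroup p N)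
    ⟨inferInstance, IsPGroup.of_bot⟩ (fun _ _ => CfsgLib.pCore_mem_sup p) (fun _ h => h)).1

theorem hall_higman (h : IsPSolvable p G) (hO : pPrimeCore p G = ⊥) :
    Subgroup.centralizer (pCore p G : Set G) ≤ pCore p G := by
  classical
  haveI := pCore_normal' (G := G) (p := p)
  set P := pCore p G with hP
  set C := Subgroup.centralizer (P : Set G) with hC
  obtain ⟨n, H, h0, h1, hm, hn, hf⟩ := h
  suffices key : ∀ i : Fin (n + 1), H i ⊓ C ≤ P by
    intro x hx
    exact key (Fin.last n) ⟨by rw [h1]; trivial, hx⟩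
  intro i
  induction i using Fin.induction with
  | zero => rw [h0, bot_inf_eq]; exact bot_le
  | succ i ih =>
    set A := H i.succ ⊓ C with hA
    haveI := hn i.succ
    haveI := hn i.castSucc
    haveI : A.Normal := Subgroup.normal_inf_normal _ _
    have hd : (H i.castSucc ⊓ C).relIndex A ∣ (H i.castSucc).relIndex (H i.succ) := by
      have hAC : A ≤ C := inf_le_right
      rw [← Subgroup.inf_relIndex_right (H i.castSucc ⊓ C), inf_assoc, inf_eq_right.2 hAC,
        Subgroup.inf_relIndex_right,
        ← Subgroup.relIndex_subgroupOf (H := H i.castSucc) (inf_le_left : A ≤ H i.succ)]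
      exact Subgroup.relIndex_dvd_index_of_normal _ _
    set B := H i.castSucc ⊓ C with hB
    have hBA : B ≤ A := inf_le_inf_right C (hm (Fin.castSucc_le_succ i))
    have hBp : IsPGroup p (B.subgroupOf A) :=
      ((CfsgLib.isPGroup_pCore p).to_le ih).of_equiv (Subgroup.subgroupOfEquivOfLe hBA).symm
    obtain ⟨a, ha⟩ := IsPGroup.iff_card.1 hBp
    have hBc : ∀ b ∈ B, ∀ x ∈ A, b * x = x * b := fun b hb x hx => hx.2 b (ih hb)
    rcases hf i with ⟨m, hm'⟩ | hc
    · refine CfsgLib.le_pCore ?_
      obtain ⟨j, -, hj⟩ := (Nat.dvd_prime_pow (Fact.out : p.Prime)).1 (hm' ▸ hd)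
      refine IsPGroup.iff_card.2 ⟨a + j, ?_⟩
      rw [← Subgroup.card_mul_index (B.subgroupOf A), ha, pow_add]
      exact congrArg _ hj
    · have hcop : (Nat.card (B.subgroupOf A)).Coprime (B.subgroupOf A).index := by
        rw [ha]
        exact (Nat.Coprime.coprime_dvd_left hd hc).symm.pow_left a
      haveI : (B.subgroupOf A).Normal := ⟨fun b hb x => by
        rw [Subgroup.mem_subgroupOf] at hb ⊢
        have := hBc _ hb _ x.2
        simp only [Subgroup.coe_mul, Subgroup.coe_inv]
        rwa [← this, mul_inv_cancel_right]⟩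
      obtain ⟨T, hT⟩ := Subgroup.exists_right_complement'_of_coprime hcop
      have hTc : (Nat.card T).Coprime p := by
        rw [Subgroup.IsComplement'.index_eq_card hT.symm |>.symm]
        exact Nat.Coprime.coprime_dvd_left hd hc
      have hmem : ∀ x : A, (orderOf x).Coprime p → x ∈ T := by
        intro x hx
        obtain ⟨⟨b, t⟩, hbt⟩ := hT.2 x
        simp only at hbt
        have hcom : Commute (b : A) (t : A) :=
          Subtype.ext (hBc _ (Subgroup.mem_subgroupOf.1 b.2) _ (t : A).2)
        have h3 : (b : A) ^ orderOf x * (t : A) ^ orderOf x = 1 := by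
          rw [← hcom.mul_pow, hbt, pow_orderOf_eq_one]
        have h4 : (b : A) ^ orderOf x = 1 := by
          refine Subgroup.disjoint_def.1 hT.disjoint ((B.subgroupOf A).pow_mem b.2 _) ?_
          rw [eq_inv_of_mul_eq_one_left h3]
          exact T.inv_mem (T.pow_mem t.2 _)
        have h5 : (b : A) = 1 := by
          refine orderOf_eq_one_iff.1 (Nat.eq_one_of_dvd_coprimes (hx.pow_right a)
            (orderOf_dvd_of_pow_eq_one h4) ?_)
          rw [← ha, Subgroup.orderOf_coe]
          exact orderOf_dvd_natCard _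
        rw [← hbt, h5, one_mul]; exact t.2
      haveI hTn : (T.map A.subtype).Normal := ⟨by
        rintro _ ⟨t, ht, rfl⟩ g
        refine ⟨⟨g * t * g⁻¹, (‹A.Normal›).conj_mem _ t.2 g⟩, hmem _ ?_, rfl⟩
        rw [← Subgroup.orderOf_coe]
        show (orderOf (MulAut.conj g (t : G))).Coprime p
        rw [MulEquiv.orderOf_eq, Subgroup.orderOf_coe, ← Subgroup.orderOf_mk t ht]
        exact hTc.coprime_dvd_left (orderOf_dvd_natCard _)⟩
      have hT1 : T.map A.subtype ≤ pPrimeCore p G := CfsgLib.le_pPrimeCore (by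
        rwa [Subgroup.card_map_of_injective A.subtype_injective])
      rw [hO, le_bot_iff, Subgroup.map_eq_bot_iff_of_injective _ A.subtype_injective] at hT1
      intro x hx
      obtain ⟨⟨b, t⟩, hbt⟩ := hT.2 ⟨x, hx⟩
      have ht : (t : A) = 1 := by
        have := t.2
        simp only [hT1] at this
        exact this
      simp only [ht, mul_one] at hbt
      have := Subgroup.mem_subgroupOf.1 b.2
      rw [hbt] at this
      exact ih this

/-- In a `p`-solvable group a Sylow subgroup of `O_{p',p}` contains its centralizer modulo it. -/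
theorem centralizer_le_pPrimePCore (h : IsPSolvable p G) {Q : Subgroup G}
    (hQL : Q ≤ pPrimePCore p G) (hQS : ¬ p ∣ Q.relIndex (pPrimePCore p G)) :
    Subgroup.centralizer (Q : Set G) ≤ pPrimePCore p G := by
  haveI : (pPrimeCore p G).Normal := inferInstance
  set K := pPrimeCore p G with hK
  set f := QuotientGroup.mk' K with hf
  have hsol := Cfsg.Agent.S3744.isPSolvable_quotient h K
  have hhh := hall_higman hsol (CfsgLib.pPrimeCore_quotient_eq_bot p)
  have himg : Q.map f = pCore p (G ⧸ K) := by
    have hle : Q.map f ≤ pCore p (G ⧸ K) := Subgroup.map_le_iff_le_comap.2 hQL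
    refine le_antisymm hle (Subgroup.relIndex_eq_one.1 ?_)
    obtain ⟨k, hk⟩ := IsPGroup.iff_card.1 (CfsgLib.isPGroup_pCore (G := G ⧸ K) p)
    refine Nat.eq_one_of_dvd_coprimes
      (((Fact.out : p.Prime).coprime_iff_not_dvd.2 hQS).pow_left k) ?_ ?_
    · rw [← hk]; exact Subgroup.index_dvd_card _
    · have h2 : ((Q.map f).comap f).relIndex (pPrimePCore p G) =
          (Q.map f).relIndex (pCore p (G ⧸ K)) := by
        show ((Q.map f).comap f).relIndex ((pCore p (G ⧸ K)).comap f) = _
        rw [Subgroup.relIndex_comap, Subgroup.map_comap_eq_self_of_surjective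
          (QuotientGroup.mk'_surjective K)]
      rw [← h2]
      exact Subgroup.relIndex_dvd_of_le_left _ (Subgroup.le_comap_map _ _)
  intro x hx
  refine hhh ?_
  intro y hy
  obtain ⟨q, hq, rfl⟩ := himg ▸ hy
  rw [← map_mul, ← map_mul, hx q hq]

theorem not_dvd_card_pPrimeCore' : ¬ p ∣ Nat.card (pPrimeCore p G) := fun h =>
  (Fact.out : p.Prime).coprime_iff_not_dvd.1 (CfsgLib.card_pPrimeCore_coprime p).symm h

theorem relIndex_pPrimePCore :
    ∃ k : ℕ, (pPrimeCore p G).relIndex (pPrimePCore p G) = p ^ k := by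
  obtain ⟨k, hk⟩ := IsPGroup.iff_card.1 (CfsgLib.isPGroup_pCore (G := G ⧸ pPrimeCore p G) p)
  refine ⟨k, ?_⟩
  have h1 : ((⊥ : Subgroup (G ⧸ pPrimeCore p G)).comap (QuotientGroup.mk' _)).relIndex
      (pPrimePCore p G) = Nat.card (pCore p (G ⧸ pPrimeCore p G)) := by
    show Subgroup.relIndex _ ((pCore p (G ⧸ pPrimeCore p G)).comap _) = _
    rw [Subgroup.relIndex_comap, Subgroup.map_comap_eq_self_of_surjective
      (QuotientGroup.mk'_surjective _), Subgroup.relIndex_bot_left]
  rw [MonoidHom.comap_bot, QuotientGroup.ker_mk'] at h1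
  rw [h1, hk]

theorem pPrimePCore_normal' : (pPrimePCore p G).Normal :=
  (pCore_normal' (G := G ⧸ pPrimeCore p G)).comap _

theorem pPrimeCore_le_pPrimePCore : pPrimeCore p G ≤ pPrimePCore p G := by
  intro x hx
  show QuotientGroup.mk' _ x ∈ pCore p _
  rw [QuotientGroup.mk'_apply, (QuotientGroup.eq_one_iff x).2 hx]
  exact one_mem _

end CfsgLib.Blocks
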