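import Cfsg.Agent.Lib.Blocks.BlockBasics

/-!
# Induced characters, induced blocks and counting blocks by classes
-/

namespace CfsgLib.Blocks.InducedChar

open Cfsg CfsgLib.CharTheory CfsgLib.Blocks CfsgLib.Blocks.BlockBasics
open scoped ComplexConjugate

set_option linter.unusedVariables false
set_option linter.style.haveILetI false
set_option linter.unusedSectionVars false

universe u

variable {p : ℕ} {M : Ideal AlgInt} {G : Type u} [Group G] [Fintype G]

theorem sum_mul_indFun (H : Subgroup G) [Fintype H] (ξ : H → ℂ) {f : G → ℂ}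
    (hf : IsClassFunction G f) :
    ∑ g, f g * indFun H ξ g = (H.index : ℂ) * ∑ h : H, f h * ξ h := by
  classical
  have h1 : ∀ x : G, ∑ g, f g * extendByZero H ξ (x⁻¹ * g * x) = ∑ h : H, f h * ξ h := by
    intro x
    have h2 : ∑ h : H, f h * ξ h =
        ∑ g ∈ Finset.univ.filter (fun g => g ∈ H), f g * extendByZero H ξ g := by
      rw [Finset.sum_subtype (Finset.univ.filter (fun g => g ∈ H))
        (p := fun g => g ∈ H) (fun g => by simp)]
      exact Finset.sum_congr rfl fun h _ => by rw [extendByZero_coe]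
    rw [h2, Finset.sum_filter_of_ne fun g _ hne => by_contra fun hg => hne (by
      rw [extendByZero_of_not_mem H ξ hg, mul_zero])]
    refine Fintype.sum_equiv (MulAut.conj x⁻¹).toEquiv _ _ fun g => ?_
    have hfg : f (x⁻¹ * g * x⁻¹⁻¹) = f g := hf g x⁻¹
    simp only [MulEquiv.toEquiv_eq_coe, MulEquiv.coe_toEquiv, MulAut.conj_apply, hfg, inv_inv]
    rw [inv_inv] at hfg
    rw [hfg]
  have hH : (Nat.card H : ℂ) ≠ 0 := Nat.cast_ne_zero.2 Nat.card_pos.ne'
  have hcard : (Fintype.card G : ℂ) = (H.index : ℂ) * (Nat.card H : ℂ) := by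
    rw [← Nat.cast_mul, Subgroup.index_mul_card, Nat.card_eq_fintype_card]
  have e : ∀ g, f g * indFun H ξ g =
      (Nat.card H : ℂ)⁻¹ * ∑ x : G, f g * extendByZero H ξ (x⁻¹ * g * x) := fun g => by
    rw [indFun, ← Finset.mul_sum]; ring
  rw [Finset.sum_congr rfl fun g _ => e g, ← Finset.mul_sum]
  rw [Finset.sum_comm, Finset.sum_congr rfl fun x _ => h1 x, Finset.sum_const, Finset.card_univ,
    nsmul_eq_mul, hcard]
  field_simp

/-- The central character of an induced character. -/
theorem inducedCentralChar_eq (H : Subgroup G) [Fintype H] (ξ : H → ℂ) (g : G) :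
    inducedCentralChar H ξ g = centralChar (indFun H ξ) g := by
  classical
  have hcl := indFun_isClassFunction H ξ
  have h1 : centralChar (indFun H ξ) g =
      omega (indFun H ξ) (fun x => if IsConj g x then (1 : ℂ) else 0) := by
    rw [centralChar, omega, index_centralizer_eq, Nat.card_eq_fintype_card, Fintype.card_subtype,
      Finset.sum_congr rfl fun x _ => ite_mul _ _ _ _]
    simp only [one_mul, zero_mul, ← Finset.sum_filter]
    rw [Finset.sum_congr rfl fun x hx =>
      (classFun_eq_of_isConj hcl (Finset.mem_filter.1 hx).2).symm, Finset.sum_const, nsmul_eq_mul]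
  rw [h1, omega, sum_mul_indFun H ξ (isClassFunction_classInd g), indFun_apply_one,
    mul_div_mul_left _ _ (Nat.cast_ne_zero.2 (Subgroup.index_ne_zero_of_finite (H := H))),
    ← omega_restrict_classInd H g ξ]
  rfl

/-- The block of an irreducibly inducing character induces the block of the induced character. -/
theorem isInducedBlock_indFun (hM : IsPModular p M) (H : Subgroup G) [Fintype H]
    (ξ : IrrCharacter H) (hind : IsIrrCharacter G (indFun H (ξ : H → ℂ))) :
    IsInducedBlock M H (blockOf M (ξ : H → ℂ)) (blockOf M (indFun H (ξ : H → ℂ))) := by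
  refine isInducedBlock_of_congr H hM (blockOf_isPBlock ξ)
    (blockOf_isPBlock (⟨_, hind⟩ : IrrCharacter G)) (mem_blockOf_self hM ξ)
    (mem_blockOf_self hM (⟨_, hind⟩ : IrrCharacter G)) fun g => ?_
  rw [inducedCentralChar_eq, sub_self]
  exact memIdeal_zero hM

/-- Some character of an induced block lies over each character of the inducing block. -/
theorem exists_over_of_induced (hM : IsPModular p M) (H : Subgroup G) [Fintype H]
    {b : Set (IrrCharacter H)} {B : Set (IrrCharacter G)} (hind : IsInducedBlock M H b B)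
    {ξ : IrrCharacter H} (hξ : ξ ∈ b) :
    ∃ χ ∈ B, classInner (fun h : H => (χ : G → ℂ) h) (ξ : H → ℂ) ≠ 0 := by
  classical
  haveI := res_isDomain hM
  obtain ⟨φ, hφ⟩ := block_nonempty hM hind.2.1
  by_contra hno
  push Not at hno
  have h := res_omega_of_induced H hM ξ φ (hind.2.2 ξ hξ φ hφ)
    (blockCoeff_isClassFunction B) (memRing_blockCoeff hM hind.2.1)
  have h2 : omega (φ : G → ℂ) (blockCoeff B) = 1 := by
    rw [← cf_ind, omega_cf, ind_of_mem hφ]
  have h3 : omega (ξ : H → ℂ) (fun k : H => blockCoeff B k) = 0 := by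
    rw [omega, div_eq_zero_iff]
    left
    simp only [blockCoeff, finsum_mem_bset, Finset.mul_sum, Finset.sum_mul]
    rw [Finset.sum_comm]
    refine Finset.sum_eq_zero fun χ hχ => ?_
    have h4 := congrArg conj (hno χ (mem_bset.1 hχ))
    simp only [classInner, map_mul, map_sum, Complex.conj_conj, map_inv₀, map_natCast, map_zero,
      mul_eq_zero, inv_eq_zero, Nat.cast_eq_zero, Nat.card_pos.ne', false_or] at h4
    rw [Finset.sum_congr rfl fun (k : H) _ => show ((Nat.card G : ℂ)⁻¹ *
      ((χ : G → ℂ) 1 * conj ((χ : G → ℂ) (k : G)))) * (ξ : H → ℂ) k =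
      ((Nat.card G : ℂ)⁻¹ * (χ : G → ℂ) 1) *
        (conj ((χ : G → ℂ) (k : G)) * (ξ : H → ℂ) k) by ring, ← Finset.mul_sum, h4, mul_zero]
  rw [h2, res_one, h3, res_zero] at h
  exact zero_ne_one h

theorem blockCoeff_of_dvd_orderOf (hM : IsPModular p M) {B : Set (IrrCharacter G)}
    (hB : IsPBlock M B) {g : G} (hg : p ∣ orderOf g) : blockCoeff B g = 0 := by
  rw [blockCoeff, finsum_mem_bset, weak_orth_conj hM hB (x := 1)
    (by rw [orderOf_one]; exact hM.1.not_dvd_one) hg, mul_zero]

/-- At most as many blocks of defect at least `d` as regular classes of defect at least `d`. -/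
theorem card_blocks_le_classes (hM : IsPModular p M) (d : ℕ) :
    Nat.card {B : Set (IrrCharacter G) // IsPBlock M B ∧ d ≤ blockDefect p B} ≤
      Nat.card {C : ConjClasses G // ∃ g : G, ConjClasses.mk g = C ∧ IsPRegular p g ∧
        d ≤ (Nat.card (Subgroup.centralizer ({g} : Set G))).factorization p} := by
  classical
  haveI : Fact p.Prime := ⟨hM.1⟩
  haveI := res_isDomain hM
  haveI : Nontrivial (AlgInt ⧸ M) := inferInstance
  haveI := Fintype.ofFinite {B : Set (IrrCharacter G) // IsPBlock M B ∧ d ≤ blockDefect p B}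
  set good : ConjClasses G → Prop := fun C => ∃ g : G, ConjClasses.mk g = C ∧ IsPRegular p g ∧
        d ≤ (Nat.card (Subgroup.centralizer ({g} : Set G))).factorization p with hgood
  haveI := Fintype.ofFinite (ConjClasses G)
  haveI := Fintype.ofFinite {C : ConjClasses G // good C}
  set ψ : {B : Set (IrrCharacter G) // IsPBlock M B ∧ d ≤ blockDefect p B} → IrrCharacter G :=
    fun B => (block_nonempty hM B.2.1).choose with hψ
  have hψB : ∀ B, ψ B ∈ B.1 := fun B => (block_nonempty hM B.2.1).choose_spec
  set E : Matrix {B : Set (IrrCharacter G) // IsPBlock M B ∧ d ≤ blockDefect p B}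
      {C : ConjClasses G // good C} (AlgInt ⧸ M) :=
    Matrix.of fun B C => res hM (blockCoeff B.1 (crep C.1))
  set L : Matrix {C : ConjClasses G // good C}
      {B : Set (IrrCharacter G) // IsPBlock M B ∧ d ≤ blockDefect p B} (AlgInt ⧸ M) :=
    Matrix.of fun C B => res hM (clv (crep C.1) (ψ B))
  have hEL : E * L = 1 := by
    ext B B'
    have hm : ∀ C : ConjClasses G, MemLocalRing M (blockCoeff B.1 (crep C)) :=
      fun C => memRing_blockCoeff hM B.2.1 _
    have h1 : omega (ψ B' : G → ℂ) (blockCoeff B.1) = if B = B' then 1 else 0 := by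
      rw [← cf_ind, omega_cf]
      by_cases h : B = B'
      · subst h; rw [ind_of_mem (hψB B), if_pos rfl]
      · rw [if_neg h, ind_of_notMem fun hmem => h (Subtype.ext
          ((eq_blockOf hM B.2.1 hmem).trans (eq_blockOf hM B'.2.1 (hψB B')).symm))]
    rw [omega_eq_sum_classes (blockCoeff_isClassFunction B.1)] at h1
    have h2 := congrArg (res hM) h1
    rw [res_sum hM fun C _ => (loc hM).mul_mem (hm C)
      (show MemLocalRing M (centralChar (ψ B' : G → ℂ) (crep C)) from memRing_clv hM _ (ψ B')),
      ← Finset.sum_subset (Finset.subset_univ (Finset.univ.filter good)) fun C _ hC => by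
        rw [res_mul hM (hm C) (show MemLocalRing M (centralChar (ψ B' : G → ℂ) (crep C)) from
          memRing_clv hM _ (ψ B'))]
        by_contra hne
        obtain ⟨hne1, hne2⟩ := mul_ne_zero_iff.1 hne
        refine hC (Finset.mem_filter.2 ⟨Finset.mem_univ _, crep C, mk_crep C, ?_, ?_⟩)
        · refine fun hd => hne1 ?_
          rw [blockCoeff_of_dvd_orderOf hM B.2.1 hd, res_zero]
        · obtain ⟨P, hP⟩ := exists_defectGroup hM B'.2.1
          obtain ⟨x, hx, hxC, -⟩ := exists_conj_center hM B'.2.1 hP (g := crep C)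
            ⟨ψ B', hψB B', fun h0 => hne2 ((res_eq_zero_iff hM (show MemLocalRing M
              (centralChar (ψ B' : G → ℂ) (crep C)) from memRing_clv hM _ (ψ B'))).2 h0)⟩
          refine B'.2.2.trans ((hM.1.pow_dvd_iff_le_factorization Nat.card_pos.ne').1 ?_)
          rw [← card_defectGroup hM B'.2.1 hP]
          obtain ⟨c, hc⟩ := isConj_iff.1 hx.symm
          rw [← hc]
          refine dvd_trans (Subgroup.card_dvd_of_le (?_ : P.map (MulAut.conj c).toMonoidHom ≤
            Subgroup.centralizer {c * x * c⁻¹})) dvd_rfl |> (dvd_trans (dvd_of_eq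
              (Subgroup.card_map_of_injective (MulAut.conj c).injective).symm))
          rintro _ ⟨w, hw, rfl⟩
          rw [Subgroup.mem_centralizer_singleton_iff]
          show c * w * c⁻¹ * (c * x * c⁻¹) = c * x * c⁻¹ * (c * w * c⁻¹)
          rw [show c * w * c⁻¹ * (c * x * c⁻¹) = c * (w * x) * c⁻¹ by group,
            Subgroup.mem_centralizer_iff.1 hxC w hw]
          group] at h2
    rw [Matrix.mul_apply, Matrix.one_apply]
    rw [Finset.sum_subtype (Finset.univ.filter good) (p := good) (fun C => by simp),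
      Finset.sum_congr rfl fun C _ => res_mul hM (hm C.1) (show MemLocalRing M
        (centralChar (ψ B' : G → ℂ) (crep C.1)) from memRing_clv hM _ (ψ B'))] at h2
    refine h2.trans ?_
    split_ifs
    · exact res_one hM
    · exact res_zero hM
  have h := congrArg Matrix.rank hEL
  rw [Matrix.rank_one] at h
  have h1 := (Matrix.rank_mul_le_left E L).trans (Matrix.rank_le_card_width E)
  rw [h] at h1
  simpa [Nat.card_eq_fintype_card] using h1

end CfsgLib.Blocks.InducedChar
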