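import Cfsg.Agent.Lib.Blocks.RegInt

/-!
# The Brauer–Feit bound, heights, blocks of defect zero
-/

namespace CfsgLib.Blocks

open Cfsg CfsgLib.CharTheory
open scoped ComplexConjugate

set_option linter.unusedVariables false
set_option linter.unusedSimpArgs false
set_option linter.style.haveILetI false
set_option linter.unusedSectionVars false

universe u

variable {p : ℕ} {M : Ideal AlgInt} {G : Type u} [Group G] [Fintype G]

theorem sum_regS_sq (hM : IsPModular p M) {B : Set (IrrCharacter G)} (hB : IsPBlock M B)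
    {χ : IrrCharacter G} (hχ : χ ∈ B) :
    ∑ ψ ∈ bset B, regS p (χ : G → ℂ) (ψ : G → ℂ) ^ 2 =
      (Nat.card G : ℂ) * regS p (χ : G → ℂ) (χ : G → ℂ) := by
  classical
  have h : ∀ ψ : IrrCharacter G, regS p (χ : G → ℂ) (ψ : G → ℂ) ^ 2 =
      ∑ g, regFn p (χ : G → ℂ) g * (regS p (χ : G → ℂ) (ψ : G → ℂ) * (ψ : G → ℂ) g) := by
    intro ψ
    rw [sq]
    conv_lhs => arg 2; rw [regS_comm, regS]
    rw [Finset.mul_sum]
    exact Finset.sum_congr rfl fun g _ => by ring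
  rw [Finset.sum_congr rfl fun ψ _ => h ψ, Finset.sum_comm, regS, Finset.mul_sum]
  refine Finset.sum_congr rfl fun g _ => ?_
  rw [← Finset.mul_sum, sum_regS_mul hM hB χ g, ind_of_mem hχ]
  by_cases hg : p ∣ orderOf g
  · simp [regFn, hg]
  · rw [if_neg hg]; ring

/-- The integral projection row of a character. -/
theorem exists_proj_row (hM : IsPModular p M) {B : Set (IrrCharacter G)} (hB : IsPBlock M B)
    {χ : IrrCharacter G} (hχ : χ ∈ B) :
    ∃ q : IrrCharacter G → ℤ,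
      (∑ ψ ∈ bset B, q ψ ^ 2 = (p : ℤ) ^ blockDefect p B * q χ) ∧
      0 ≤ q χ ∧ q χ ≤ (p : ℤ) ^ blockDefect p B ∧
      ∀ ψ ∈ bset B, (p : ℤ) ^ (dv p (χ : G → ℂ) - minDv p B) ∣ q ψ ∧
        (p : ℤ) ^ (dv p (ψ : G → ℂ) - minDv p B) ∣ q ψ ∧
        (dv p (χ : G → ℂ) = minDv p B → q ψ ≠ 0 ∧
          ¬ (p : ℤ) ^ (dv p (ψ : G → ℂ) - minDv p B + 1) ∣ q ψ) ∧
        (dv p (ψ : G → ℂ) = minDv p B → q ψ ≠ 0 ∧
          ¬ (p : ℤ) ^ (dv p (χ : G → ℂ) - minDv p B + 1) ∣ q ψ) ∧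
        (minDv p B < dv p (ψ : G → ℂ) →
          (p : ℤ) ^ (dv p (χ : G → ℂ) - minDv p B + 1) ∣ q ψ) := by
  classical
  have hG : (Nat.card G : ℂ) ≠ 0 := Nat.cast_ne_zero.2 Nat.card_pos.ne'
  choose q hq h1 h2 h3 h4 using fun ψ : {ψ // ψ ∈ B} => exists_int_proj hM hB hχ ψ.2
  choose q' hq' h1' h2' h3' h4' using fun ψ : {ψ // ψ ∈ B} => exists_int_proj hM hB ψ.2 hχ
  have hsymm : ∀ ψ, q' ψ = q ψ := fun ψ => by
    have := hq' ψ
    rw [regS_comm, hq ψ] at this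
    exact_mod_cast (mul_left_cancel₀ hG this).symm
  set Q : IrrCharacter G → ℤ := fun ψ => if h : ψ ∈ B then q ⟨ψ, h⟩ else 0 with hQ
  have hQe : ∀ ψ (h : ψ ∈ B), Q ψ = q ⟨ψ, h⟩ := fun ψ h => dif_pos h
  have hsq : ∑ ψ ∈ bset B, Q ψ ^ 2 = (p : ℤ) ^ blockDefect p B * Q χ := by
    have h := sum_regS_sq hM hB hχ
    have hmul : ((p : ℂ) ^ blockDefect p B) ^ 2 * (∑ ψ ∈ bset B,
        regS p (χ : G → ℂ) (ψ : G → ℂ) ^ 2) =
        (Nat.card G : ℂ) ^ 2 * ∑ ψ ∈ bset B, ((Q ψ : ℤ) : ℂ) ^ 2 := by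
      rw [Finset.mul_sum, Finset.mul_sum]
      refine Finset.sum_congr rfl fun ψ hψ => ?_
      rw [hQe ψ (mem_bset.1 hψ), ← mul_pow, ← mul_pow, hq ⟨ψ, mem_bset.1 hψ⟩]
    rw [h] at hmul
    have hc : ∑ ψ ∈ bset B, ((Q ψ : ℤ) : ℂ) ^ 2 = (p : ℂ) ^ blockDefect p B * (Q χ : ℂ) := by
      refine mul_left_cancel₀ (pow_ne_zero 2 hG) ?_
      rw [← hmul, hQe χ hχ]
      linear_combination (p : ℂ) ^ blockDefect p B * (Nat.card G : ℂ) * hq ⟨χ, hχ⟩
    exact_mod_cast hc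
  have hpd : (0 : ℤ) < (p : ℤ) ^ blockDefect p B := pow_pos (by exact_mod_cast hM.1.pos) _
  have h0 : 0 ≤ Q χ := by
    by_contra hneg
    push Not at hneg
    have : 0 ≤ (p : ℤ) ^ blockDefect p B * Q χ := hsq ▸ Finset.sum_nonneg fun ψ _ => sq_nonneg _
    nlinarith
  refine ⟨Q, hsq, h0, ?_, fun ψ hψ => ?_⟩
  · have h := Finset.single_le_sum (f := fun ψ => Q ψ ^ 2) (fun ψ _ => sq_nonneg _)
      (mem_bset.2 hχ)
    simp only [hsq] at h
    rcases h0.eq_or_lt with h' | h'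
    · rw [← h']; exact hpd.le
    · nlinarith
  · have hψ' := mem_bset.1 hψ
    rw [hQe ψ hψ']
    refine ⟨h1 ⟨ψ, hψ'⟩, hsymm ⟨ψ, hψ'⟩ ▸ h1' ⟨ψ, hψ'⟩, fun hχ0 => ?_, fun hψ0 => ?_, h4 ⟨ψ, hψ'⟩⟩
    · rcases (minDv_le hψ' : minDv p B ≤ dv p (ψ : G → ℂ)).eq_or_lt with h | h
      · have h' := h2 ⟨ψ, hψ'⟩ hχ0 h.symm
        refine ⟨fun e => h' (e ▸ dvd_zero _), ?_⟩
        rw [← h, Nat.sub_self, zero_add, pow_one]; exact h'
      · exact h3 ⟨ψ, hψ'⟩ hχ0 h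
    · rcases (minDv_le hχ : minDv p B ≤ dv p (χ : G → ℂ)).eq_or_lt with h | h
      · have h' := h2 ⟨ψ, hψ'⟩ h.symm hψ0
        refine ⟨fun e => h' (e ▸ dvd_zero _), ?_⟩
        rw [← h, Nat.sub_self, zero_add, pow_one]; exact h'
      · have h' := h3' ⟨ψ, hψ'⟩ hψ0 h
        rwa [hsymm] at h'

theorem one_le_sq_of_ne_zero {z : ℤ} {m : ℤ} (hz : z ≠ 0) (h : m ∣ z) : m ^ 2 ≤ z ^ 2 := by
  have h1 : |m| ≤ |z| := Int.le_of_dvd (abs_pos.2 hz) ((abs_dvd_abs _ _).2 h)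
  exact sq_le_sq.2 h1

/-- Weighted Brauer–Feit inequality. -/
theorem brauer_feit (hM : IsPModular p M) {B : Set (IrrCharacter G)} (hB : IsPBlock M B) :
    4 * ∑ ψ ∈ bset B, ((p : ℤ) ^ (dv p (ψ : G → ℂ) - minDv p B)) ^ 2 ≤
      ((p : ℤ) ^ blockDefect p B) ^ 2 + 4 := by
  classical
  obtain ⟨χ, hχ, h0⟩ := exists_height_zero hM hB
  obtain ⟨q, hsq, hq0, hqle, hq⟩ := exists_proj_row hM hB hχ
  rw [← Finset.add_sum_erase _ _ (mem_bset.2 hχ)] at hsq ⊢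
  have hle : ∑ ψ ∈ (bset B).erase χ, ((p : ℤ) ^ (dv p (ψ : G → ℂ) - minDv p B)) ^ 2 ≤
      ∑ ψ ∈ (bset B).erase χ, q ψ ^ 2 := Finset.sum_le_sum fun ψ hψ =>
    one_le_sq_of_ne_zero ((hq ψ (Finset.mem_of_mem_erase hψ)).2.2.1 h0).1
      (hq ψ (Finset.mem_of_mem_erase hψ)).2.1
  rw [h0, Nat.sub_self, pow_zero, one_pow]
  nlinarith [sq_nonneg ((p : ℤ) ^ blockDefect p B - 2 * q χ)]

/-- A character of positive height forces defect at least two above the height. -/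
theorem height_add_two_le (hM : IsPModular p M) {B : Set (IrrCharacter G)} (hB : IsPBlock M B)
    {χ : IrrCharacter G} (hχ : χ ∈ B) (hh : minDv p B < dv p (χ : G → ℂ)) :
    dv p (χ : G → ℂ) - minDv p B + 2 ≤ blockDefect p B := by
  classical
  obtain ⟨q, hsq, hq0, hqle, hq⟩ := exists_proj_row hM hB hχ
  obtain ⟨φ, hφ, hφ0⟩ := exists_height_zero hM hB
  set h := dv p (χ : G → ℂ) - minDv p B with hdef
  set d := blockDefect p B
  have hne : φ ≠ χ := fun e => by rw [e] at hφ0; omega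
  have hφ' := ((hq φ (mem_bset.2 hφ)).2.2.2.1 hφ0).1
  have hdiv := (hq χ (mem_bset.2 hχ)).2.2.2.2 hh
  have hs : q φ ^ 2 ≤ q χ * ((p : ℤ) ^ d - q χ) := by
    rw [← Finset.add_sum_erase _ _ (mem_bset.2 hχ)] at hsq
    have := Finset.single_le_sum (f := fun ψ => q ψ ^ 2) (fun ψ _ => sq_nonneg _)
      (Finset.mem_erase.2 ⟨hne, mem_bset.2 hφ⟩ : φ ∈ (bset B).erase χ)
    nlinarith
  have hpos : 0 < q φ ^ 2 := by positivity
  have hlt : q χ < (p : ℤ) ^ d := by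
    by_contra hge; push Not at hge; nlinarith
  have hgt : 0 < q χ := by
    by_contra hle; push Not at hle; nlinarith
  have hle' : (p : ℤ) ^ (h + 1) ≤ q χ := Int.le_of_dvd hgt hdiv
  have hpow : (p : ℤ) ^ (h + 1) < (p : ℤ) ^ d := lt_of_le_of_lt hle' hlt
  have := (pow_lt_pow_iff_right₀ (a := (p : ℤ)) (by exact_mod_cast hM.1.one_lt)).1 hpow
  omega

/-- A block with a character of positive height has at most `p ^ (2d - 2) / 2` members. -/
theorem two_mul_card_le (hM : IsPModular p M) {B : Set (IrrCharacter G)} (hB : IsPBlock M B)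
    {χ : IrrCharacter G} (hχ : χ ∈ B) (hh : minDv p B < dv p (χ : G → ℂ)) :
    2 * ((bset B).card : ℤ) ≤ (p : ℤ) ^ (2 * blockDefect p B - 2) := by
  classical
  set d := blockDefect p B with hd
  have hd2 : 2 ≤ d := le_trans (by omega) (height_add_two_le hM hB hχ hh)
  set v := minDv p B with hv
  set s0 := (bset B).filter (fun ψ : IrrCharacter G => dv p (ψ : G → ℂ) = v) with hs0
  set s1 := (bset B).filter (fun ψ : IrrCharacter G => ¬ dv p (ψ : G → ℂ) = v) with hs1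
  have hcard : (s0.card : ℤ) + s1.card = (bset B).card := by
    exact_mod_cast Finset.card_filter_add_card_filter_not (s := bset B)
      (fun ψ : IrrCharacter G => dv p (ψ : G → ℂ) = v)
  obtain ⟨φ, hφ, hφ0⟩ := exists_height_zero hM hB
  have h0pos : 1 ≤ (s0.card : ℤ) := by
    exact_mod_cast Finset.card_pos.2 ⟨φ, Finset.mem_filter.2 ⟨mem_bset.2 hφ, hφ0⟩⟩
  have hpp : (2 : ℤ) ≤ p := by exact_mod_cast hM.1.two_le
  have hP : ((p : ℤ) ^ d) ^ 2 = (p : ℤ) ^ (2 * d - 2) * (p : ℤ) ^ 2 := by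
    rw [← pow_add, ← pow_mul]; congr 1; omega
  have hBF : 4 * ((s0.card : ℤ) + s1.card * (p : ℤ) ^ 2) ≤ ((p : ℤ) ^ d) ^ 2 + 4 := by
    refine le_trans ?_ (brauer_feit hM hB)
    refine mul_le_mul_of_nonneg_left ?_ (by norm_num)
    rw [← Finset.sum_filter_add_sum_filter_not (bset B)
      (fun ψ : IrrCharacter G => dv p (ψ : G → ℂ) = v)]
    refine add_le_add (le_of_eq ?_) ?_
    · rw [Finset.sum_congr rfl fun ψ hψ => by
        rw [(Finset.mem_filter.1 hψ).2, Nat.sub_self, pow_zero, one_pow]]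
      rw [Finset.sum_const, hs0]; simp
    · rw [show (s1.card : ℤ) * (p : ℤ) ^ 2 = ∑ _ψ ∈ s1, (p : ℤ) ^ 2 by simp]
      refine Finset.sum_le_sum fun ψ hψ => ?_
      obtain ⟨hψB, hψv⟩ := Finset.mem_filter.1 hψ
      have : v ≤ dv p (ψ : G → ℂ) := minDv_le (mem_bset.1 hψB)
      refine pow_le_pow_left₀ (by positivity) ?_ 2
      exact le_self_pow₀ (by linarith) (by omega)
  have hs0le : 4 * (s0.card : ℤ) ≤ (p : ℤ) ^ (2 * d - 2) := by
    obtain ⟨q, hsq, hq0, hqle, hq⟩ := exists_proj_row hM hB hχ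
    set h := dv p (χ : G → ℂ) - v with hhdef
    have h1 : (s0.card : ℤ) * ((p : ℤ) ^ h) ^ 2 ≤ q χ * ((p : ℤ) ^ d - q χ) := by
      rw [← Finset.add_sum_erase _ _ (mem_bset.2 hχ)] at hsq
      calc (s0.card : ℤ) * ((p : ℤ) ^ h) ^ 2 = ∑ _ψ ∈ s0, ((p : ℤ) ^ h) ^ 2 := by simp
        _ ≤ ∑ ψ ∈ s0, q ψ ^ 2 := Finset.sum_le_sum fun ψ hψ =>
            one_le_sq_of_ne_zero
              ((hq ψ (Finset.mem_filter.1 hψ).1).2.2.2.1 (Finset.mem_filter.1 hψ).2).1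
              (hq ψ (Finset.mem_filter.1 hψ).1).1
        _ ≤ ∑ ψ ∈ (bset B).erase χ, q ψ ^ 2 := by
            refine Finset.sum_le_sum_of_subset_of_nonneg (fun ψ hψ => ?_) fun ψ _ _ => sq_nonneg _
            obtain ⟨hψB, hψv⟩ := Finset.mem_filter.1 hψ
            exact Finset.mem_erase.2 ⟨fun e => by rw [e] at hψv; omega, hψB⟩
        _ = q χ * ((p : ℤ) ^ d - q χ) := by linarith
    have h2 : (p : ℤ) ^ 2 ≤ ((p : ℤ) ^ h) ^ 2 :=
      pow_le_pow_left₀ (by positivity) (le_self_pow₀ (by linarith) (by omega)) 2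
    have h3 : (s0.card : ℤ) * (p : ℤ) ^ 2 ≤ (s0.card : ℤ) * ((p : ℤ) ^ h) ^ 2 :=
      mul_le_mul_of_nonneg_left h2 (by linarith)
    nlinarith [sq_nonneg ((p : ℤ) ^ d - 2 * q χ)]
  have hs1le : 4 * (s1.card : ℤ) ≤ (p : ℤ) ^ (2 * d - 2) := by nlinarith
  linarith

/-- Defect zero means being alone in the block. -/
theorem defect_zero_iff (hM : IsPModular p M) (χ : IrrCharacter G) :
    dv p (χ : G → ℂ) = (Nat.card G).factorization p ↔ blockOf M (χ : G → ℂ) = {χ} := by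
  classical
  set B := blockOf M (χ : G → ℂ) with hBdef
  have hB : IsPBlock M B := blockOf_isPBlock χ
  have hχ : χ ∈ B := mem_blockOf_self hM χ
  have hva : minDv p B ≤ (Nat.card G).factorization p := minDv_le_card hM hB
  have hvχ : minDv p B ≤ dv p (χ : G → ℂ) := minDv_le hχ
  have hd := blockDefect_eq p B
  obtain ⟨q, hsq, hq0, hqle, hq⟩ := exists_proj_row hM hB hχ
  constructor
  · intro h
    have h0 : dv p (χ : G → ℂ) = minDv p B := by
      by_contra hne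
      have := height_add_two_le hM hB hχ (by omega)
      omega
    have hd0 : blockDefect p B = 0 := by omega
    refine Set.eq_singleton_iff_unique_mem.2 ⟨hχ, fun ψ hψ => ?_⟩
    by_contra hne
    have hψ0 := ((hq ψ (mem_bset.2 hψ)).2.2.1 h0).1
    have hχ0 := ((hq χ (mem_bset.2 hχ)).2.2.1 h0).1
    rw [← Finset.add_sum_erase _ _ (mem_bset.2 hχ)] at hsq
    have h1 := Finset.single_le_sum (f := fun ψ => q ψ ^ 2) (fun ψ _ => sq_nonneg _)
      (Finset.mem_erase.2 ⟨hne, mem_bset.2 hψ⟩ : ψ ∈ (bset B).erase χ)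
    rw [hd0, pow_zero] at hsq hqle
    have : 0 < q ψ ^ 2 := by positivity
    nlinarith
  · intro h
    have h0 : dv p (χ : G → ℂ) = minDv p B := by
      obtain ⟨φ, hφ, hφ0⟩ := exists_height_zero hM hB
      have hφχ : φ = χ := h.le hφ
      rwa [hφχ] at hφ0
    have hset : bset B = {χ} := by
      ext ψ; rw [mem_bset, h]; simp
    rw [hset, Finset.sum_singleton] at hsq
    have hχ0 := (hq χ (mem_bset.2 hχ)).2.2.1 h0
    have hqd : q χ = (p : ℤ) ^ blockDefect p B := by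
      refine mul_right_cancel₀ hχ0.1 ?_
      linarith
    by_contra hne
    have hdpos : 1 ≤ blockDefect p B := by omega
    apply hχ0.2
    rw [h0, Nat.sub_self, zero_add, hqd]
    exact pow_dvd_pow _ hdpos

end CfsgLib.Blocks
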