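import Cfsg.Agent.Lib.Blocks.Central

/-!
# Counting characters of defect zero by class multiplication coefficients

For classes of elements with centralizers of order prime to `p`, the class multiplication
coefficients only see the characters of `p`-defect zero modulo `p`.
-/

namespace CfsgLib.Blocks

open Cfsg CfsgLib.CharTheory
open scoped ComplexConjugate

set_option linter.unusedVariables false
set_option linter.unusedSimpArgs false
set_option linter.style.haveILetI false
set_option linter.unusedSectionVars false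

universe u

/-- A maximal ideal of the algebraic integers over every prime. -/
theorem exists_pModular {p : ℕ} (hp : p.Prime) : ∃ M : Ideal AlgInt, IsPModular p M := by
  have hne : Ideal.span {((p : ℕ) : AlgInt)} ≠ ⊤ := by
    rw [Ne, Ideal.span_singleton_eq_top]
    intro hu
    obtain ⟨v, hv⟩ := hu.exists_right_inv
    have hv' : (p : ℂ) * (v : ℂ) = 1 := by
      have := congrArg (Subtype.val : AlgInt → ℂ) hv
      simpa using this
    have hpC : (p : ℂ) ≠ 0 := Nat.cast_ne_zero.2 hp.ne_zero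
    have hint : IsIntegral ℤ ((((1 : ℚ) / p : ℚ)) : ℂ) := by
      have : (((1 : ℚ) / p : ℚ) : ℂ) = (v : ℂ) := by
        push_cast
        rw [div_eq_iff hpC, mul_comm, hv']
      rw [this]
      exact v.2
    obtain ⟨m, hm⟩ := exists_int_of_isIntegral_ratCast hint
    have h1 : ((m * p : ℤ) : ℚ) = ((1 : ℤ) : ℚ) := by
      push_cast
      rw [← hm]
      field_simp [hp.ne_zero]
    have h2 : m * (p : ℤ) = 1 := by exact_mod_cast h1
    have h3 : (p : ℤ) ∣ 1 := ⟨m, by rw [mul_comm]; exact h2.symm⟩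
    exact hp.one_lt.ne' (Nat.dvd_one.1 (by exact_mod_cast h3))
  obtain ⟨M, hM, hle⟩ := Ideal.exists_le_maximal _ hne
  exact ⟨M, hp, hM, hle (Ideal.mem_span_singleton_self _)⟩

variable {p : ℕ} {M : Ideal AlgInt} {G : Type u} [Group G] [Fintype G]

/-- The character has `p`-defect zero. -/
def IsDefZero (p : ℕ) (χ : IrrCharacter G) : Prop :=
  (charDegree (χ : G → ℂ)).factorization p = (Nat.card G).factorization p

/-- The central characters of the other characters vanish modulo `M` on classes of defect zero. -/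
theorem res_clv_of_not_defZero (hM : IsPModular p M) {g : G}
    (hg : ¬ p ∣ Nat.card (Subgroup.centralizer ({g} : Set G))) {χ : IrrCharacter G}
    (hχ : ¬ IsDefZero p χ) : res hM (clv g χ) = 0 := by
  haveI := res_isDomain hM
  haveI := res_charP hM
  haveI : Fact p.Prime := ⟨hM.1⟩
  set n := charDegree (χ : G → ℂ) with hn
  set i := (Subgroup.centralizer ({g} : Set G)).index with hi
  have hn0 : n ≠ 0 := (irr_charDegree_pos χ).ne'
  have hi0 : i ≠ 0 := Subgroup.index_ne_zero_of_finite
  have hidx := Subgroup.index_mul_card (Subgroup.centralizer ({g} : Set G))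
  have hdvd : n ∣ Nat.card G := by
    obtain ⟨m, ρ, hirr, hχ'⟩ := χ.2
    haveI := hirr
    have h := finrank_dvd_card ρ
    have e : (n : ℂ) = (Module.finrank ℂ (Fin m → ℂ) : ℂ) := by
      rw [hn, irr_charDegree_cast, ← hχ', Representation.char_one]
    rwa [Nat.cast_inj.1 e]
  have hfac : i.factorization p = (Nat.card G).factorization p := by
    rw [← hidx, Nat.factorization_mul hi0 Nat.card_pos.ne']
    simp [Nat.factorization_eq_zero_of_not_dvd hg]
  have hlt : n.factorization p < i.factorization p := by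
    rw [hfac]
    refine lt_of_le_of_ne ?_ hχ
    exact (Nat.factorization_le_iff_dvd hn0 Nat.card_pos.ne').2 hdvd p
  have key : clv g χ * ((n / p ^ n.factorization p : ℕ) : ℂ) =
      ((i / p ^ n.factorization p : ℕ) : ℂ) * (χ : G → ℂ) g := by
    have h1 : (χ : G → ℂ) 1 = (n : ℂ) := by rw [hn, irr_charDegree_cast]
    have h2 : clv g χ * (n : ℂ) = (i : ℂ) * (χ : G → ℂ) g := by
      rw [clv, centralChar, ← h1, div_mul_cancel₀ _ (irr_one_ne_zero χ)]
    have e1 : p ^ n.factorization p * (n / p ^ n.factorization p) = n :=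
      Nat.mul_div_cancel' (Nat.ordProj_dvd n p)
    have e2 : p ^ n.factorization p * (i / p ^ n.factorization p) = i :=
      Nat.mul_div_cancel' ((pow_dvd_pow p hlt.le).trans (Nat.ordProj_dvd i p))
    refine mul_left_cancel₀ (Nat.cast_ne_zero.2 (pow_ne_zero (n.factorization p) hM.1.ne_zero)) ?_
    rw [← mul_assoc, mul_comm _ (clv g χ), mul_assoc, ← Nat.cast_mul, e1, h2, ← mul_assoc,
      ← Nat.cast_mul, e2]
  have h0 : res hM (((i / p ^ n.factorization p : ℕ) : ℂ)) = 0 := by
    rw [res_natCast, CharP.cast_eq_zero_iff (AlgInt ⧸ M) p]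
    refine (Nat.dvd_div_iff_mul_dvd ((pow_dvd_pow p hlt.le).trans (Nat.ordProj_dvd i p))).2 ?_
    rw [← pow_succ]
    exact (pow_dvd_pow p hlt).trans (Nat.ordProj_dvd i p)
  have h1 := congrArg (res hM) key
  rw [res_mul hM (memRing_clv hM g χ) (memRing_natCast hM _),
    res_mul hM (memRing_natCast hM _) (memRing_irr hM χ g), h0, zero_mul, res_natCast] at h1
  refine (mul_eq_zero.1 h1).resolve_right fun h => ?_
  rw [CharP.cast_eq_zero_iff (AlgInt ⧸ M) p] at h
  exact Nat.not_dvd_ordCompl hM.1 hn0 h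

/-- The class multiplication coefficient. -/
noncomputable def pairCount (g h k : G) : ℕ :=
  Nat.card {a : G // IsConj g a ∧ IsConj h (a⁻¹ * k)}

theorem pairCount_mul (g h k : G) :
    (pairCount g h k : ℂ) * (Nat.card (Subgroup.centralizer ({h} : Set G)) : ℂ) =
      ∑ χ : IrrCharacter G, clv g χ * ((χ : G → ℂ) h * conj ((χ : G → ℂ) k)) := by
  classical
  have h1 : conv (cf (clv g)) (cf (clv h)) k = (pairCount g h k : ℂ) := by
    rw [cf_clv, cf_clv, pairCount, Nat.card_eq_fintype_card, Fintype.card_subtype]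
    simp only [conv, ite_mul, one_mul, zero_mul, Finset.sum_boole,
      ← ite_and]
  rw [← h1, ← cf_mul]
  simp only [cf, Pi.mul_apply, Finset.mul_sum, Finset.sum_mul]
  refine Finset.sum_congr rfl fun χ _ => ?_
  have hcard : (Nat.card (Subgroup.centralizer ({h} : Set G)) : ℂ) *
      ((Subgroup.centralizer ({h} : Set G)).index : ℂ) = (Nat.card G : ℂ) := by
    rw [mul_comm, ← Nat.cast_mul, Subgroup.index_mul_card]
  have hh : clv h χ * (χ : G → ℂ) 1 =
      ((Subgroup.centralizer ({h} : Set G)).index : ℂ) * (χ : G → ℂ) h := by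
    rw [clv, centralChar, div_mul_cancel₀ _ (irr_one_ne_zero χ)]
  have hG : (Nat.card G : ℂ) ≠ 0 := Nat.cast_ne_zero.2 Nat.card_pos.ne'
  calc _ = (Nat.card G : ℂ)⁻¹ * (clv g χ * (clv h χ * (χ : G → ℂ) 1) *
        conj ((χ : G → ℂ) k)) * (Nat.card (Subgroup.centralizer ({h} : Set G)) : ℂ) := by ring
    _ = (Nat.card G : ℂ)⁻¹ * ((Nat.card (Subgroup.centralizer ({h} : Set G)) : ℂ) *
        ((Subgroup.centralizer ({h} : Set G)).index : ℂ)) *
        (clv g χ * ((χ : G → ℂ) h * conj ((χ : G → ℂ) k))) := by rw [hh]; ring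
    _ = _ := by rw [hcard, inv_mul_cancel₀ hG, one_mul]

/-- Modulo `p`, only the characters of defect zero contribute. -/
theorem res_pairCount (hM : IsPModular p M) [DecidablePred (IsDefZero (G := G) p)] {g h : G}
    (hg : ¬ p ∣ Nat.card (Subgroup.centralizer ({g} : Set G))) (k : G) :
    ((pairCount g h k * Nat.card (Subgroup.centralizer ({h} : Set G)) : ℕ) : AlgInt ⧸ M) =
      ∑ χ ∈ Finset.univ.filter (IsDefZero p),
        res hM (clv g χ) * res hM ((χ : G → ℂ) h * conj ((χ : G → ℂ) k)) := by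
  have hi : ∀ χ : IrrCharacter G, MemLocalRing M ((χ : G → ℂ) h * conj ((χ : G → ℂ) k)) :=
    fun χ => by
      rw [← irr_inv]
      exact (loc hM).mul_mem (memRing_irr hM χ h) (memRing_irr hM χ k⁻¹)
  rw [← res_natCast hM, Nat.cast_mul, pairCount_mul,
    res_sum hM (fun χ _ => ?_), Finset.sum_filter]
  · refine Finset.sum_congr rfl fun χ _ => ?_
    rw [res_mul hM (memRing_clv hM g χ) (hi χ)]
    split_ifs with hz
    · rfl
    · rw [res_clv_of_not_defZero hM hg hz, zero_mul]
  · exact (loc hM).mul_mem (memRing_clv hM g χ) (hi χ)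

theorem normSq_free_count {S : Finset G} (f : G → G) (hf : ∀ a ∈ S, f a ∈ S)
    (hinv : ∀ a ∈ S, f (f a) = a) [DecidableEq G] :
    (S.card : ZMod 2) = ((S.filter fun a => f a = a).card : ZMod 2) := by
  rw [← Finset.card_filter_add_card_filter_not (s := S) (fun a => f a = a), Nat.cast_add,
    add_eq_left]
  rw [Finset.card_eq_sum_ones, Nat.cast_sum]
  refine Finset.sum_involution (fun a _ => f a) (fun a _ => ?_) (fun a ha _ => ?_)
    (fun a ha => ?_) (fun a ha => ?_)
  · show ((1 : ℕ) : ZMod 2) + ((1 : ℕ) : ZMod 2) = 0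
    rfl
  · exact (Finset.mem_filter.1 ha).2
  · obtain ⟨h1, h2⟩ := Finset.mem_filter.1 ha
    exact Finset.mem_filter.2 ⟨hf a h1, fun h => h2 (by rw [hinv a h1] at h; exact h.symm)⟩
  · exact hinv a (Finset.mem_filter.1 ha).1

/-- The element normalizes no nontrivial 2-subgroup. -/
def NormsNoTwo (k : G) : Prop :=
  ∀ Q : Subgroup G, IsPGroup 2 Q → k ∈ Subgroup.normalizer (Q : Set G) → Q = ⊥

theorem odd_centralizer_of_normsNoTwo {k : G} (hk : NormsNoTwo k) :
    ¬ 2 ∣ Nat.card (Subgroup.centralizer ({k} : Set G)) := by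
  intro h
  haveI : Fact (Nat.Prime 2) := ⟨Nat.prime_two⟩
  obtain ⟨t, ht⟩ := exists_prime_orderOf_dvd_card' 2 h
  have ht' : orderOf (t : G) = 2 := by rw [Subgroup.orderOf_coe]; exact ht
  have hc : Commute (t : G) k := Subgroup.mem_centralizer_singleton_iff.1 t.2
  have := hk (Subgroup.zpowers (t : G))
    (IsPGroup.of_card (n := 1) (by rw [Nat.card_zpowers, ht', pow_one]))
    (by
      rw [Subgroup.mem_normalizer_iff]
      intro y
      constructor
      · intro hy
        obtain ⟨m, rfl⟩ := Subgroup.mem_zpowers_iff.1 hy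
        rw [(hc.zpow_left m).eq.symm, mul_inv_cancel_right]
        exact hy
      · intro hy
        obtain ⟨m, hm⟩ := Subgroup.mem_zpowers_iff.1 hy
        have e : y = k⁻¹ * (t : G) ^ m * k := by rw [hm]; group
        rw [e, mul_assoc, (hc.zpow_left m).eq, inv_mul_cancel_left]
        exact ⟨m, rfl⟩)
  rw [Subgroup.zpowers_eq_bot] at this
  rw [this, orderOf_one] at ht'
  omega

/-- A fixed point of the swap other than `k⁻¹` gives a normalized four-group. -/
theorem eq_one_of_fixed {k t : G} (hk : NormsNoTwo k) (hk3 : k ^ 3 = 1) (ht : t * t = 1)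
    (htk : (t * k⁻¹) ^ 3 = 1) : t = 1 := by
  set u := k * t * k⁻¹ with hu
  set v := k * u * k⁻¹ with hv
  have hk' : k⁻¹ = k * k := by
    apply inv_eq_of_mul_eq_one_right
    rw [← hk3, pow_succ, pow_two, mul_assoc]
  have hu2 : u * u = 1 := by
    rw [hu, show k * t * k⁻¹ * (k * t * k⁻¹) = k * (t * t) * k⁻¹ by group, ht, mul_one,
      mul_inv_cancel]
  have hv2 : v * v = 1 := by
    rw [hv, show k * u * k⁻¹ * (k * u * k⁻¹) = k * (u * u) * k⁻¹ by group, hu2, mul_one,
      mul_inv_cancel]
  have hkk : k * k * k = 1 := by rw [← hk3, pow_succ, pow_two]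
  have hvk : k * v * k⁻¹ = t := by
    have : k * v * k⁻¹ = (k * k * k) * t * (k * k * k)⁻¹ := by simp only [hv, hu]; group
    rw [this, hkk, one_mul, inv_one, mul_one]
  have hprod : t * v * u = 1 := by
    calc t * v * u = t * (k * k) * t * (k⁻¹ * k⁻¹ * k) * t * k⁻¹ := by simp only [hv, hu]; group
      _ = (t * k⁻¹) * (t * k⁻¹) * (t * k⁻¹) := by rw [← hk']; group
      _ = 1 := by rw [← htk, pow_succ, pow_two]
  have hv' : v = t * u := by
    have h1 : t * v = u := by
      rw [eq_comm, ← inv_eq_of_mul_eq_one_left hprod]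
      exact inv_eq_of_mul_eq_one_right hu2 |>.symm
    rw [← h1, ← mul_assoc, ht, one_mul]
  have hcomm : t * u = u * t := by
    have h1 := inv_eq_of_mul_eq_one_right hv2
    rw [hv', mul_inv_rev, inv_eq_of_mul_eq_one_right hu2, inv_eq_of_mul_eq_one_right ht] at h1
    exact h1.symm
  set Q := Subgroup.closure ({t, u} : Set G) with hQ
  have hab : ∀ a ∈ ({t, u} : Set G), ∀ b ∈ ({t, u} : Set G), a * b = b * a := by
    rintro a (rfl | rfl) b (rfl | rfl) <;> first | rfl | exact hcomm | exact hcomm.symm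
  haveI : IsMulCommutative Q := Subgroup.isMulCommutative_closure hab
  have hsq : ∀ q ∈ Q, q * q = 1 := by
    intro q hq
    induction hq using Subgroup.closure_induction with
    | mem a ha => rcases ha with rfl | rfl <;> assumption
    | one => exact one_mul 1
    | mul a b ha hb iha ihb =>
      have hc : a * b = b * a :=
        congrArg Subtype.val (mul_comm' (⟨a, ha⟩ : Q) ⟨b, hb⟩)
      rw [show a * b * (a * b) = a * (b * a) * b by group, ← hc,
        show a * (a * b) * b = (a * a) * (b * b) by group, iha, ihb, one_mul]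
    | inv a ha iha => rw [← mul_inv_rev, iha, inv_one]
  have hQp : IsPGroup 2 Q := fun q =>
    ⟨1, Subtype.ext (by simpa [pow_two] using hsq q q.2)⟩
  have hmap : Q.map (MulAut.conj k).toMonoidHom = Q := by
    have ht' : t ∈ Q := Subgroup.subset_closure (Or.inl rfl)
    have hu' : u ∈ Q := Subgroup.subset_closure (Or.inr rfl)
    have hv'' : v ∈ Q := hv' ▸ Q.mul_mem ht' hu'
    refine le_antisymm ?_ ?_
    · rw [hQ, MonoidHom.map_closure, Subgroup.closure_le]
      rintro _ ⟨a, rfl | rfl, rfl⟩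
      · exact hu'
      · exact hv''
    · conv_lhs => rw [hQ]
      rw [Subgroup.closure_le]
      rintro a (rfl | rfl)
      · exact ⟨v, hv'', hvk⟩
      · exact ⟨t, ht', rfl⟩
  have hmem : k ∈ Subgroup.normalizer (Q : Set G) := by
    rw [Subgroup.mem_normalizer_iff]
    intro y
    constructor
    · intro hy
      rw [← hmap]
      exact ⟨y, hy, rfl⟩
    · intro hy
      rw [← hmap] at hy
      obtain ⟨z, hz, hzy⟩ := hy
      rwa [← (MulAut.conj k).injective hzy]
  have := hk Q hQp hmem
  have ht' : t ∈ Q := Subgroup.subset_closure (Or.inl rfl)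
  rw [this, Subgroup.mem_bot] at ht'
  exact ht'

/-- The coefficient of a special element of order three in the square of a class sum is a unit
exactly when the element is the inverse of a member of that class. -/
theorem pairCount_sq_mod_two {x k : G} (hx : x ^ 3 = 1) (hk : NormsNoTwo k) (hk3 : k ^ 3 = 1)
    [Decidable (IsConj x k⁻¹)] :
    (pairCount x x k : ZMod 2) = if IsConj x k⁻¹ then 1 else 0 := by
  classical
  have hk' : k⁻¹ = k * k := by
    apply inv_eq_of_mul_eq_one_right
    rw [← hk3, pow_succ, pow_two, mul_assoc]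
  have hcube : ∀ a, IsConj x a → a ^ 3 = 1 := fun a ha => by
    obtain ⟨c, rfl⟩ := isConj_iff.1 ha
    rw [conj_pow, hx, mul_one, mul_inv_cancel]
  rw [pairCount, Nat.card_eq_fintype_card, Fintype.card_subtype]
  set S := Finset.univ.filter fun a : G => IsConj x a ∧ IsConj x (a⁻¹ * k) with hS
  have hmem : ∀ a, a ∈ S ↔ IsConj x a ∧ IsConj x (a⁻¹ * k) := fun a => by simp [hS]
  have hτ : ∀ a ∈ S, k * a⁻¹ ∈ S := by
    intro a ha
    obtain ⟨h1, h2⟩ := (hmem a).1 ha
    refine (hmem _).2 ⟨h2.trans (isConj_iff.2 ⟨a, by group⟩), ?_⟩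
    rw [show (k * a⁻¹)⁻¹ * k = a by group]
    exact h1
  rw [normSq_free_count (fun a => k⁻¹ * a⁻¹ * k⁻¹) (fun a ha => ?_) (fun a _ => by group)]
  · have hfix : ∀ a ∈ S, k⁻¹ * a⁻¹ * k⁻¹ = a → a = k⁻¹ := by
      intro a ha he
      obtain ⟨h1, -⟩ := (hmem a).1 ha
      have ht : (a * k) * (a * k) = 1 := by
        conv_lhs => arg 1; rw [← he]
        group
      have := eq_one_of_fixed hk hk3 ht (by rw [mul_inv_cancel_right]; exact hcube a h1)
      exact eq_inv_of_mul_eq_one_left this
    split_ifs with hc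
    · rw [show S.filter (fun a => k⁻¹ * a⁻¹ * k⁻¹ = a) = {k⁻¹} from ?_, Finset.card_singleton,
        Nat.cast_one]
      ext a
      rw [Finset.mem_filter, Finset.mem_singleton]
      refine ⟨fun h => hfix a h.1 h.2, ?_⟩
      rintro rfl
      refine ⟨(hmem _).2 ⟨hc, ?_⟩, by group⟩
      rwa [inv_inv, ← hk']
    · rw [Finset.filter_eq_empty_iff.2 fun a ha h => hc (hfix a ha h ▸ ((hmem a).1 ha).1),
        Finset.card_empty, Nat.cast_zero]
  · have h3 := hτ _ (hτ _ (hτ a ha))
    have e : k⁻¹ * a⁻¹ * k⁻¹ = k * (k * (k * a⁻¹)⁻¹)⁻¹ := by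
      rw [show k * (k * (k * a⁻¹)⁻¹)⁻¹ = (k * k) * a⁻¹ * k⁻¹ by group, ← hk']
    rwa [e]

/-- An injection of classes from a unit matrix of coefficients. -/
theorem card_le_defZero (hM : IsPModular p M) [DecidablePred (IsDefZero (G := G) p)] {ι : Type*}
    [Fintype ι] [DecidableEq ι] (g h k : ι → G)
    (hg : ∀ i, ¬ p ∣ Nat.card (Subgroup.centralizer ({g i} : Set G)))
    (hone : ∀ i j, ((pairCount (g i) (h i) (k j) *
      Nat.card (Subgroup.centralizer ({h i} : Set G)) : ℕ) : AlgInt ⧸ M) =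
        if i = j then 1 else 0) :
    Fintype.card ι ≤ (Finset.univ.filter (IsDefZero (G := G) p)).card := by
  haveI := res_isDomain hM
  set D := {χ // χ ∈ Finset.univ.filter (IsDefZero (G := G) p)}
  set U : Matrix ι D (AlgInt ⧸ M) := Matrix.of fun i χ =>
    res hM (clv (g i) χ.1) * res hM ((χ.1 : G → ℂ) (h i)) with hU
  set W : Matrix D ι (AlgInt ⧸ M) := Matrix.of fun χ j =>
    res hM (conj ((χ.1 : G → ℂ) (k j))) with hW
  have e : U * W = 1 := by
    ext i j
    rw [Matrix.one_apply, ← hone i j, res_pairCount hM (hg i), Matrix.mul_apply,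
      ← Finset.sum_coe_sort (Finset.univ.filter (IsDefZero (G := G) p))]
    refine Finset.sum_congr rfl fun χ _ => ?_
    simp only [hU, hW, Matrix.of_apply]
    rw [res_mul hM (memRing_irr hM _ _)
      (by rw [← irr_inv]; exact memRing_irr hM _ _), mul_assoc]
  have h1 := Matrix.rank_mul_le_left U W
  rw [e, Matrix.rank_one] at h1
  have h2 := Matrix.rank_le_card_width U
  rw [Fintype.card_coe] at h2
  exact h1.trans h2

theorem isConj_inv {a b : G} (h : IsConj a b) : IsConj a⁻¹ b⁻¹ := by
  obtain ⟨c, rfl⟩ := isConj_iff.1 h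
  exact isConj_iff.2 ⟨c, by group⟩

/-- Classes of elements of order three normalizing no 2-subgroup inject into defect zero
characters. -/
theorem card_normsNoTwo_le :
    Nat.card {C : ConjClasses G // ∃ g ∈ C.carrier, orderOf g = 3 ∧ NormsNoTwo g} ≤
      Nat.card {χ : IrrCharacter G // IsDefZero 2 χ} := by
  classical
  obtain ⟨M, hM⟩ := exists_pModular Nat.prime_two
  haveI := res_isDomain hM
  haveI := res_charP hM
  set ι := {C : ConjClasses G // ∃ g ∈ C.carrier, orderOf g = 3 ∧ NormsNoTwo g}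
  have hr : ∀ i : ι, ∃ g, ConjClasses.mk g = i.1 ∧ g ^ 3 = 1 ∧ NormsNoTwo g := fun i => by
    obtain ⟨g, hg, ho, hn⟩ := i.2
    exact ⟨g, ConjClasses.mem_carrier_iff_mk_eq.1 hg, by rw [← ho]; exact pow_orderOf_eq_one g, hn⟩
  choose x hx hx3 hxn using hr
  rw [Nat.card_eq_fintype_card, Nat.card_eq_fintype_card,
    Fintype.card_subtype fun χ : IrrCharacter G => IsDefZero 2 χ]
  refine card_le_defZero hM x x (fun i => (x i)⁻¹)
    (fun i => odd_centralizer_of_normsNoTwo (hxn i)) fun i j => ?_
  have hinv : NormsNoTwo (x j)⁻¹ := fun Q hQ hm =>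
    hxn j Q hQ (by simpa using (Subgroup.normalizer (Q : Set G)).inv_mem hm)
  have hodd : ((Nat.card (Subgroup.centralizer ({x i} : Set G)) : ℕ) : ZMod 2) = 1 :=
    ZMod.natCast_eq_one_iff_odd.2 (Nat.not_even_iff_odd.1 fun he =>
      odd_centralizer_of_normsNoTwo (hxn i) he.two_dvd)
  have h := pairCount_sq_mod_two (hx3 i) hinv (by rw [inv_pow, hx3 j, inv_one])
  rw [inv_inv] at h
  have h2 : ((pairCount (x i) (x i) (x j)⁻¹ *
      Nat.card (Subgroup.centralizer ({x i} : Set G)) : ℕ) : ZMod 2) =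
      if IsConj (x i) (x j) then 1 else 0 := by
    rw [Nat.cast_mul, hodd, mul_one]; exact h
  have hij : IsConj (x i) (x j) ↔ i = j := by
    rw [← ConjClasses.mk_eq_mk_iff_isConj, hx, hx]
    exact Subtype.ext_iff.symm
  have h3 := congrArg (ZMod.castHom (dvd_refl 2) (AlgInt ⧸ M)) h2
  rw [map_natCast, apply_ite (ZMod.castHom (dvd_refl 2) (AlgInt ⧸ M)), map_one, map_zero] at h3
  rw [h3]
  simp only [hij]

theorem isConj_of_odd_product {s t : G} (hs : s * s = 1) (ht : t * t = 1)
    (hy : Odd (orderOf (t * s))) : IsConj s t := by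
  obtain ⟨m, hm⟩ := hy
  set y := t * s with hy'
  have hpow : y ^ (2 * (m + 1)) = y := by
    rw [show 2 * (m + 1) = orderOf y + 1 by omega, pow_succ, pow_orderOf_eq_one, one_mul]
  have hsys : s * y * s = y⁻¹ := by
    rw [hy', mul_inv_rev, inv_eq_of_mul_eq_one_right hs, inv_eq_of_mul_eq_one_right ht,
      show s * (t * s) * s = s * t * (s * s) by group, hs, mul_one]
  have h1 : ∀ n : ℕ, s * y ^ n * s = (y ^ n)⁻¹ := fun n => by
    induction n with
    | zero => simp [hs]
    | succ n ih =>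
      have e : s * (y ^ n * y) * s = (s * y ^ n * s) * (s * y * s) := by
        rw [show s * y ^ n * s * (s * y * s) = s * y ^ n * (s * s) * y * s by group, hs]
        group
      rw [pow_succ, e, ih, hsys, ← mul_inv_rev, ← pow_succ', pow_succ]
  set w := y ^ (m + 1) with hw
  have hww : w * w = y := by rw [hw, ← pow_add, ← two_mul, hpow]
  have h2 : s * w⁻¹ = w * s := by
    have h := congrArg (fun z => z⁻¹ * s) (h1 (m + 1))
    simp only [mul_inv_rev, inv_inv, inv_eq_of_mul_eq_one_right hs, ← hw] at h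
    rw [← h, show s * (w⁻¹ * s) * s = s * w⁻¹ * (s * s) by group, hs, mul_one]
  refine isConj_iff.2 ⟨w, ?_⟩
  rw [mul_assoc, h2, ← mul_assoc, hww, hy', mul_assoc, hs, mul_one]

end CfsgLib.Blocks
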