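import Cfsg.Agent.Lib.Blocks.PairDefect

/-!
# Brauer pairs of a subgroup containing the centralizers
-/

namespace CfsgLib.Blocks

open Cfsg CfsgLib.CharTheory

set_option linter.unusedVariables false
set_option linter.unusedSimpArgs false
set_option linter.style.haveILetI false
set_option linter.unusedSectionVars false

universe u

variable {p : ℕ} {M : Ideal AlgInt} {G : Type u} [Group G] [Fintype G] {H : Subgroup G} [Fintype H]

theorem mem_cent_map_iff (R : Subgroup H) (c : H) :
    (c : G) ∈ Subgroup.centralizer ((R.map H.subtype : Subgroup G) : Set G) ↔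
      c ∈ Subgroup.centralizer (R : Set H) := by
  constructor
  · intro h r hr
    exact Subtype.ext (h (r : G) ⟨r, hr, rfl⟩)
  · rintro h _ ⟨r, hr, rfl⟩
    exact congrArg Subtype.val (h r hr)

/-- `C_G(R) ≃ C_H(R)` when `C_G(R) ≤ H`. -/
def upE (R : Subgroup H)
    (hC : Subgroup.centralizer ((R.map H.subtype : Subgroup G) : Set G) ≤ H) :
    Subgroup.centralizer ((R.map H.subtype : Subgroup G) : Set G) ≃*
      Subgroup.centralizer (R : Set H) where
  toFun c := ⟨⟨c, hC c.2⟩, (mem_cent_map_iff R ⟨c, hC c.2⟩).1 c.2⟩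
  invFun k := ⟨((k : H) : G), (mem_cent_map_iff R (k : H)).2 k.2⟩
  left_inv c := rfl
  right_inv k := rfl
  map_mul' a b := rfl

/-- A pair of `H` as a pair of `G`. -/
noncomputable def upIdx (a : BrauerPairIdx H)
    (hC : Subgroup.centralizer ((a.1.map H.subtype : Subgroup G) : Set G) ≤ H) :
    BrauerPairIdx G :=
  ⟨a.1.map H.subtype, irrPull (upE a.1 hC) '' a.2⟩

theorem valSet_upIdx (a : BrauerPairIdx H)
    (hC : Subgroup.centralizer ((a.1.map H.subtype : Subgroup G) : Set G) ≤ H) :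
    valSet (upIdx a hC) = (fun F => sext H F) '' valSet a := by
  obtain ⟨R, g⟩ := a
  show (fun ξ : IrrCharacter (Subgroup.centralizer ((R.map H.subtype : Subgroup G) : Set G)) =>
    sext (Subgroup.centralizer ((R.map H.subtype : Subgroup G) : Set G))
      (ξ : Subgroup.centralizer ((R.map H.subtype : Subgroup G) : Set G) → ℂ)) ''
      (irrPull (upE R hC) '' g) = _
  simp only [valSet, Set.image_image]
  refine Set.image_congr fun ξ _ => funext fun x => ?_
  by_cases h : x ∈ Subgroup.centralizer ((R.map H.subtype : Subgroup G) : Set G)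
  · have e1 := sext_coe _ (irrPull (upE R hC) ξ :
      Subgroup.centralizer ((R.map H.subtype : Subgroup G) : Set G) → ℂ) ⟨x, h⟩
    have e2 := sext_coe H (sext (Subgroup.centralizer (R : Set H))
      (ξ : Subgroup.centralizer (R : Set H) → ℂ)) ⟨x, hC h⟩
    have e3 := sext_coe (Subgroup.centralizer (R : Set H))
      (ξ : Subgroup.centralizer (R : Set H) → ℂ) (upE R hC ⟨x, h⟩)
    exact e1.trans (e3.symm.trans e2.symm)
  · rw [sext_off _ _ h]
    by_cases hx : x ∈ H
    · have e2 := sext_coe H (sext (Subgroup.centralizer (R : Set H))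
        (ξ : Subgroup.centralizer (R : Set H) → ℂ)) ⟨x, hx⟩
      refine Eq.trans ?_ e2.symm
      rw [sext_off _ _ fun h' => h ((mem_cent_map_iff R ⟨x, hx⟩).2 h')]
    · rw [sext_off _ _ hx]

theorem map_conj_subtype (R : Subgroup H) (x : H) :
    (R.map (MulAut.conj x).toMonoidHom).map H.subtype =
      (R.map H.subtype).map (MulAut.conj (x : G)).toMonoidHom := by
  rw [Subgroup.map_map, Subgroup.map_map]; congr 1

theorem upIdx_conj (a : BrauerPairIdx H)
    (hC : Subgroup.centralizer ((a.1.map H.subtype : Subgroup G) : Set G) ≤ H) (x : H)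
    (hC' : Subgroup.centralizer
      (((conjIdx x a).1.map H.subtype : Subgroup G) : Set G) ≤ H) :
    upIdx (conjIdx x a) hC' = conjIdx (x : G) (upIdx a hC) := by
  refine idx_ext (map_conj_subtype a.1 x) ?_
  rw [valSet_conjIdx, valSet_upIdx, valSet_upIdx, valSet_conjIdx, Set.image_image,
    Set.image_image]
  refine Set.image_congr fun F _ => funext fun g => ?_
  by_cases hg : g ∈ H
  · have hg' : (x : G)⁻¹ * g * (x : G) ∈ H := H.mul_mem (H.mul_mem (H.inv_mem x.2) hg) x.2
    have e1 := sext_coe H (fun h : H => F (x⁻¹ * h * x)) ⟨g, hg⟩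
    have e2 := sext_coe H F ⟨_, hg'⟩
    exact e1.trans (Eq.trans (congrArg F (Subtype.ext rfl)) e2.symm)
  · rw [sext_off _ _ hg, sext_off]
    intro h
    apply hg
    have := H.mul_mem (H.mul_mem x.2 h) (H.inv_mem x.2)
    simpa [mul_assoc] using this

theorem exists_upIdx {R : Subgroup G} (hRH : R ≤ H)
    (hC : Subgroup.centralizer (R : Set G) ≤ H)
    {g : Set (IrrCharacter (Subgroup.centralizer (R : Set G)))} (hg : IsPBlock M g) :
    ∃ (a : BrauerPairIdx H)
      (h : Subgroup.centralizer ((a.1.map H.subtype : Subgroup G) : Set G) ≤ H),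
      upIdx a h = ⟨R, g⟩ ∧ IsPBlock M a.2 := by
  obtain ⟨R', rfl⟩ : ∃ R' : Subgroup H, R'.map H.subtype = R :=
    ⟨R.subgroupOf H, Subgroup.map_subgroupOf_eq_of_le hRH⟩
  refine ⟨⟨R', irrPull (upE R' hC).symm '' g⟩, hC, ?_, isPBlock_image _ hg⟩
  show (⟨R'.map H.subtype, irrPull (upE R' hC) '' (irrPull (upE R' hC).symm '' g)⟩ :
    BrauerPairIdx G) = ⟨R'.map H.subtype, g⟩
  rw [Set.image_image]
  simp only [irrPull_symm, Set.image_id']

theorem brauerOmega_up (R : Subgroup H)
    (hC : Subgroup.centralizer ((R.map H.subtype : Subgroup G) : Set G) ≤ H) (β : G → ℂ)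
    (ξ : IrrCharacter (Subgroup.centralizer (R : Set H))) :
    brauerOmega (R.map H.subtype) β (irrPull (upE R hC) ξ : _ → ℂ) =
      brauerOmega R (fun h : H => β h) (ξ : _ → ℂ) := by
  simp only [brauerOmega]
  refine finsum_eq_of_bijective (upE R hC) (upE R hC).bijective fun c => ?_
  simp only [irrPull_apply, map_one]
  rfl

theorem subgroupBlockCoeff_up (R : Subgroup H)
    (hC : Subgroup.centralizer ((R.map H.subtype : Subgroup G) : Set G) ≤ H)
    (g : Set (IrrCharacter (Subgroup.centralizer (R : Set H)))) (h : H) :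
    subgroupBlockCoeff (Subgroup.centralizer ((R.map H.subtype : Subgroup G) : Set G))
      (irrPull (upE R hC) '' g) (h : G) =
      subgroupBlockCoeff (Subgroup.centralizer (R : Set H)) g h := by
  rw [subgroupBlockCoeff_eq, subgroupBlockCoeff_eq]
  by_cases hh : (h : G) ∈ Subgroup.centralizer ((R.map H.subtype : Subgroup G) : Set G)
  · have e1 := sext_coe _ (blockCoeff (irrPull (upE R hC) '' g)) ⟨(h : G), hh⟩
    have e2 := sext_coe (Subgroup.centralizer (R : Set H)) (blockCoeff g) (upE R hC ⟨(h : G), hh⟩)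
    refine e1.trans (Eq.trans ?_ e2.symm)
    exact blockCoeff_image _ _ _
  · rw [sext_off _ _ hh, sext_off _ _ fun h' => hh ((mem_cent_map_iff R h).2 h')]

theorem normalSubpair_up {a b : BrauerPairIdx H}
    (ha : Subgroup.centralizer ((a.1.map H.subtype : Subgroup G) : Set G) ≤ H)
    (hb : Subgroup.centralizer ((b.1.map H.subtype : Subgroup G) : Set G) ≤ H)
    (h : NormalSubpairRel p M a b) : NormalSubpairRel p M (upIdx a ha) (upIdx b hb) := by
  obtain ⟨Q, f⟩ := a
  obtain ⟨P, e⟩ := b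
  obtain ⟨⟨hQp, hf⟩, ⟨hPp, he⟩, hQP, hN, hst, h1⟩ := h
  have hnorm : ∀ r ∈ P, (r : G) ∈ Subgroup.normalizer ((Q.map H.subtype : Subgroup G) : Set G) := by
    intro r hr
    rw [Subgroup.mem_normalizer_iff]
    intro z
    constructor
    · rintro ⟨q, hq, rfl⟩
      exact ⟨r * q * r⁻¹, (Subgroup.mem_normalizer_iff.1 (hN hr) q).1 hq, rfl⟩
    · rintro ⟨q, hq, hq'⟩
      refine ⟨r⁻¹ * q * r, (Subgroup.mem_normalizer_iff''.1 (hN hr) q).1 hq, ?_⟩
      show (r : G)⁻¹ * (q : G) * r = z
      rw [show (q : G) = r * z * (r : G)⁻¹ from hq']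
      group
  refine ⟨⟨hQp.map _, isPBlock_image _ hf⟩, ⟨hPp.map _, isPBlock_image _ he⟩,
    Subgroup.map_mono hQP, ?_, ?_, ?_⟩
  · rintro _ ⟨r, hr, rfl⟩
    exact hnorm r hr
  · rintro _ ⟨r, hr, rfl⟩
    obtain ⟨-, hrc⟩ := hst r hr
    refine ⟨normalizer_le_normalizer_cent _ (hnorm r hr), ?_⟩
    rintro _ ⟨χ, hχ, rfl⟩
    obtain ⟨χ', hχ', hc⟩ := hrc χ hχ
    refine ⟨_, ⟨χ', hχ', rfl⟩, fun k k' hk => ?_⟩
    exact hc (upE Q ha k) (upE Q ha k') (Subtype.ext hk)
  · rintro _ ⟨ξ, hξ, rfl⟩
    have e : (fun h : H => subgroupBlockCoeff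
        (Subgroup.centralizer ((Q.map H.subtype : Subgroup G) : Set G))
        (irrPull (upE Q ha) '' f) (h : G)) =
        subgroupBlockCoeff (Subgroup.centralizer (Q : Set H)) f :=
      funext fun h => subgroupBlockCoeff_up Q ha f h
    show MemLocalIdeal M (brauerOmega (P.map H.subtype)
      (subgroupBlockCoeff (Subgroup.centralizer ((Q.map H.subtype : Subgroup G) : Set G))
        (irrPull (upE Q ha) '' f)) _ - 1)
    rw [brauerOmega_up, e]
    exact h1 ξ hξ

/-- Inclusions of pairs of `H` above a subgroup whose centralizer lies in `H` are inclusions in `G`. -/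
theorem subpair_up {Q : Subgroup G} (hQ : Subgroup.centralizer (Q : Set G) ≤ H)
    {a b : BrauerPairIdx H} (h : Relation.ReflTransGen (NormalSubpairRel p M) a b)
    (haQ : Q ≤ a.1.map H.subtype)
    (ha : Subgroup.centralizer ((a.1.map H.subtype : Subgroup G) : Set G) ≤ H) :
    ∃ hb : Subgroup.centralizer ((b.1.map H.subtype : Subgroup G) : Set G) ≤ H,
      Relation.ReflTransGen (NormalSubpairRel p M) (upIdx a ha) (upIdx b hb) := by
  induction h with
  | refl => exact ⟨ha, Relation.ReflTransGen.refl⟩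
  | @tail c d h1 h2 ih =>
    obtain ⟨hc, ih⟩ := ih
    have hd : Subgroup.centralizer ((d.1.map H.subtype : Subgroup G) : Set G) ≤ H :=
      (centralizer_anti (haQ.trans (Subgroup.map_mono ((subpairLE_le h1).trans h2.2.2.1)))).trans hQ
    exact ⟨hd, ih.tail (normalSubpair_up hc hd h2)⟩

theorem le_map_subtype_of_eq {a : BrauerPairIdx H}
    {ha : Subgroup.centralizer ((a.1.map H.subtype : Subgroup G) : Set G) ≤ H}
    {R : Subgroup G} {g : Set (IrrCharacter (Subgroup.centralizer (R : Set G)))}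
    (h : upIdx a ha = ⟨R, g⟩) : a.1.map H.subtype = R :=
  congrArg Sigma.fst h

/-- A step above `(Q, f)` in `G` is a pair of the local block of `H`. -/
theorem pairOf_of_step (hM : IsPModular p M) {Q : Subgroup G}
    {f : Set (IrrCharacter (Subgroup.centralizer (Q : Set G)))}
    {F : Set (IrrCharacter H)} (hF : IsPBlock M F)
    (hcoef : ∀ t : H, blockCoeff F t =
      subgroupBlockCoeff (Subgroup.centralizer (Q : Set G)) f (t : G))
    {a : BrauerPairIdx H}
    {ha : Subgroup.centralizer ((a.1.map H.subtype : Subgroup G) : Set G) ≤ H}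
    (hblk : IsPBlock M a.2) {R : Subgroup G}
    {g : Set (IrrCharacter (Subgroup.centralizer (R : Set G)))} (h : upIdx a ha = ⟨R, g⟩)
    (hstep : IsNormalSubpair p M Q f R g) : IsBrauerPairOf p M F a.1 a.2 := by
  have hRp : IsPGroup p (a.1.map H.subtype) := (le_map_subtype_of_eq h).symm ▸ hstep.2.1.1
  obtain ⟨R', g'⟩ := a
  obtain ⟨h1, h2⟩ := Sigma.mk.inj_iff.1 h
  subst h1
  have h3 := eq_of_heq h2
  subst h3
  refine ⟨⟨?_, hblk⟩, hF, fun ξ hξ => ?_⟩
  · exact hRp.of_equiv (Subgroup.equivMapOfInjective R' H.subtype Subtype.coe_injective).symm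
  · have h4 := hstep.2.2.2.2.2 (irrPull (upE R' ha) ξ) ⟨ξ, hξ, rfl⟩
    rw [brauerOmega_up] at h4
    rw [show blockCoeff F = fun t : H =>
      subgroupBlockCoeff (Subgroup.centralizer (Q : Set G)) f (t : G) from funext hcoef]
    exact h4

end CfsgLib.Blocks
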