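import Cfsg.Agent.Lib.Blocks.BlockFusion
import Cfsg.Agent.Lib.Blocks.Down

/-!
# The fusion system of a block is saturated
-/

namespace CfsgLib.Blocks

open Cfsg CfsgLib.CharTheory

set_option linter.unusedVariables false
set_option linter.unusedSimpArgs false
set_option linter.style.haveILetI false
set_option linter.unusedSectionVars false

universe u

variable {p : ℕ} {M : Ideal AlgInt} {G : Type u} [Group G] [Fintype G]

theorem mem_normalizer_of_forall_mem {Q : Subgroup G} {h : G}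
    (hh : ∀ y ∈ Q, h * y * h⁻¹ ∈ Q) : h ∈ Subgroup.normalizer (Q : Set G) := by
  have he : Q.map (MulAut.conj h).toMonoidHom = Q := by
    refine Subgroup.eq_of_le_of_card_ge ?_ (card_map_conj Q h).ge
    rintro _ ⟨y, hy, rfl⟩
    exact hh y hy
  rw [Subgroup.mem_normalizer_iff]
  intro r
  conv_rhs => rw [← he, conjMap_mem_iff]
  simp [mul_assoc]

/-- If `N_P(Q)` is a defect group of the stabilizer block then `C_P(Q)` is one of `f`. -/
theorem isDefect_centP_of_normP (hM : IsPModular p M) {Q P : Subgroup G} (hP : IsPGroup p P)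
    (hQP : Q ≤ P) {f : Set (IrrCharacter (Subgroup.centralizer (Q : Set G)))}
    {e : Set (IrrCharacter (Subgroup.centralizer (P : Set G)))} (hf : IsPBlock M f)
    (he : IsPBlock M e) (hle : SubpairLE p M Q f P e)
    {F₁ : Set (IrrCharacter (pairStab Q f))} (hF₁ : IsPBlock M F₁)
    (hcoef : ∀ t : pairStab Q f, blockCoeff F₁ t =
      subgroupBlockCoeff (Subgroup.centralizer (Q : Set G)) f (t : G))
    (hdef : IsDefectGroup p M F₁
      ((P ⊓ Subgroup.normalizer (Q : Set G)).subgroupOf (pairStab Q f))) :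
    IsDefectGroup p M f
      ((P ⊓ Subgroup.centralizer (Q : Set G)).subgroupOf (Subgroup.centralizer (Q : Set G))) := by
  haveI := Fintype.ofFinite (Subgroup.centralizer (Q : Set G))
  haveI := Fintype.ofFinite (pairStab Q f)
  refine isDefect_centP hM hP hQP hf he hle ?_
  obtain ⟨D, hD⟩ := exists_defectGroup hM hf
  obtain ⟨g, -, hstep⟩ := exists_step_of_defect_cent hM (hP.to_le hQP) hf hD
  obtain ⟨D', hD', hle'⟩ := le_defect_of_step hM hstep (cent_le_pairStab Q f) hF₁ hcoef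
    ((defectGroup_isPGroup hD).map (Subgroup.centralizer (Q : Set G)).subtype) le_sup_right
  obtain ⟨t, ht⟩ := defectGroup_conjugate hM hF₁ hdef hD'
  have hsub : (D.map (Subgroup.centralizer (Q : Set G)).subtype).map
      (MulAut.conj (t : G)⁻¹).toMonoidHom ≤ P ⊓ Subgroup.centralizer (Q : Set G) := by
    rintro _ ⟨_, ⟨d, hd, rfl⟩, rfl⟩
    have hdT : (d : G) ∈ pairStab Q f := cent_le_pairStab Q f d.2
    have h1 : (⟨(d : G), hdT⟩ : pairStab Q f) ∈
        ((P ⊓ Subgroup.normalizer (Q : Set G)).subgroupOf (pairStab Q f)).map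
          (MulAut.conj t).toMonoidHom :=
      ht.symm ▸ hle' (Subgroup.mem_subgroupOf.2 ⟨d, hd, rfl⟩)
    rw [conjMap_mem_iff] at h1
    have h2 := (Subgroup.mem_subgroupOf.1 h1).1
    refine ⟨by simpa using h2, ?_⟩
    have hN := normalizer_le_normalizer_cent Q ((mem_pairStab (t : G)).1 t.2).1
    simpa using (Subgroup.mem_normalizer_iff''.1 hN (d : G)).1 d.2
  refine le_trans (le_of_eq ?_) (Subgroup.card_le_of_le hsub)
  rw [← card_defectGroup hM hf hD, card_map_conj,
    Subgroup.card_map_of_injective (Subgroup.subtype_injective _)]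

theorem card_normalizerIn_split {Q D : Subgroup G} (hD : D ≤ Subgroup.normalizer (Q : Set G)) :
    Nat.card (autInducedBy D Q) * Nat.card (D ⊓ Subgroup.centralizer (Q : Set G) : Subgroup G) =
      Nat.card D := by
  rw [show (D ⊓ Subgroup.centralizer (Q : Set G)) = FusionSystem.centralizerIn D Q from rfl,
    card_autInducedBy_mul, FusionSystem.normalizerIn, inf_eq_left.2 hD]

section

variable {B : Set (IrrCharacter G)} {P : Subgroup G}
  {e : Set (IrrCharacter (Subgroup.centralizer (P : Set G)))} {F : FusionSystem P}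

/-- Receptivity. -/
theorem isReceptive_block (hM : IsPModular p M) (hF : IsBlockFusionSystemOn p M B P e F)
    {Q' : Subgroup G} {f' : Set (IrrCharacter (Subgroup.centralizer (Q' : Set G)))}
    (hf' : IsPBlock M f') (hle : SubpairLE p M Q' f' P e)
    (hdef : IsDefectGroup p M f'
      ((P ⊓ Subgroup.centralizer (Q' : Set G)).subgroupOf (Subgroup.centralizer (Q' : Set G)))) :
    F.IsReceptive Q' := by
  classical
  haveI : Fact p.Prime := ⟨hM.1⟩
  have hP : IsPGroup p P := hF.1.1.1.1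
  have he := hF.1.1.1.2
  have hQ'P : Q' ≤ P := subpairLE_le (a := ⟨Q', f'⟩) (b := ⟨P, e⟩) hle
  refine ⟨hQ'P, fun Q φ hφ hr => ?_⟩
  have hφS := F.apply_mem hφ
  obtain ⟨hQ, g, hg, hgP, f, hfle, hfg⟩ := (hF.2 Q φ).1 hφ
  have hQ' : Q.map (MulAut.conj g).toMonoidHom = Q' := by
    rw [← hr]
    ext y
    constructor
    · rintro ⟨x, hx, rfl⟩; exact ⟨⟨x, hx⟩, hg _⟩
    · rintro ⟨x, rfl⟩; exact ⟨x, x.2, (hg x).symm⟩
  subst hQ'
  have hf : IsPBlock M f := subpairLE_left_block he hfle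
  have ef : f' = conjBlock Q g f :=
    subpair_unique hM hP he hf' (isPBlock_conjBlock hf g) hle hfg
  subst ef
  set R := FusionSystem.extender P Q φ with hRdef
  have hRN : R ≤ P ⊓ Subgroup.normalizer (Q : Set G) :=
    FusionSystem.extender_le_normalizerIn hφS
  have hRP : R ≤ P := hRN.trans inf_le_left
  have hQR : Q ≤ R := FusionSystem.le_extender hQ hφS
  obtain ⟨k, hk, hstep, hkle⟩ :=
    normal_step_of_le hM hP hf he hfle hQR hRP (hRN.trans inf_le_right)
  have hstep' : IsNormalSubpair p M (Q.map (MulAut.conj g).toMonoidHom) (conjBlock Q g f)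
      (R.map (MulAut.conj g).toMonoidHom) (conjBlock R g k) :=
    normalSubpair_conj hM (a := ⟨Q, f⟩) (b := ⟨R, k⟩) hstep g
  set Q' := Q.map (MulAut.conj g).toMonoidHom with hQ'def
  set f' := conjBlock Q g f with hf'def
  obtain ⟨k₀, hk₀, hstep₀, hk₀le⟩ := normal_step_of_le hM hP hf' he hle
    (le_inf hQ'P Subgroup.le_normalizer : Q' ≤ P ⊓ Subgroup.normalizer (Q' : Set G)) inf_le_left
    inf_le_right
  set X := (P ⊓ Subgroup.normalizer (Q' : Set G)) ⊔ Subgroup.centralizer (Q' : Set G) with hX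
  have hCX : Subgroup.centralizer (Q' : Set G) ≤ X := le_sup_right
  have hNX : P ⊓ Subgroup.normalizer (Q' : Set G) ≤ X := le_sup_left
  have hQ'X : Q' ≤ X :=
    le_trans (le_inf hQ'P Subgroup.le_normalizer : Q' ≤ P ⊓ Subgroup.normalizer (Q' : Set G)) hNX
  have hXT : X ≤ pairStab Q' f' :=
    sup_le (normP_le_pairStab hM hP hQ'P hf' he hle) (cent_le_pairStab Q' f')
  have hnorm : P ⊓ Subgroup.normalizer (Q' : Set G) ≤
      Subgroup.normalizer (Subgroup.centralizer (Q' : Set G) : Set G) :=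
    inf_le_right.trans (normalizer_le_normalizer_cent Q')
  have hXdec : ∀ x ∈ X, ∃ n ∈ P ⊓ Subgroup.normalizer (Q' : Set G),
      ∃ c ∈ Subgroup.centralizer (Q' : Set G), n * c = x := by
    intro x hx
    rw [hX, ← SetLike.mem_coe, Subgroup.coe_mul_of_left_le_normalizer_right _ _ hnorm] at hx
    obtain ⟨n, hn, c, hc, rfl⟩ := hx
    exact ⟨n, hn, c, hc, rfl⟩
  have hRX : R.map (MulAut.conj g).toMonoidHom ≤ X := by
    rintro _ ⟨r, hr', rfl⟩
    obtain ⟨-, hrN, h, hhP, hh⟩ := (FusionSystem.mem_extender_iff hφS).1 hr'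
    have hgr : g * r * g⁻¹ ∈ Subgroup.normalizer (Q' : Set G) :=
      hstep'.2.2.2.1 ⟨r, hr', rfl⟩
    have key : ∀ y ∈ Q', h * y * h⁻¹ = g * r * g⁻¹ * y * (g * r * g⁻¹)⁻¹ := by
      rintro _ ⟨z, hz, rfl⟩
      have hz' := (Subgroup.mem_normalizer_iff.1 hrN z).1 hz
      have h1 := hh ⟨z, hz⟩ hz'
      rw [hg, hg] at h1
      show h * (g * z * g⁻¹) * h⁻¹ = g * r * g⁻¹ * (g * z * g⁻¹) * (g * r * g⁻¹)⁻¹
      rw [← h1]
      group
    have hhN : h ∈ Subgroup.normalizer (Q' : Set G) := mem_normalizer_of_forall_mem fun y hy => by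
      rw [key y hy]; exact (Subgroup.mem_normalizer_iff.1 hgr y).1 hy
    have hcen : h⁻¹ * (g * r * g⁻¹) ∈ Subgroup.centralizer (Q' : Set G) := by
      intro y hy
      calc y * (h⁻¹ * (g * r * g⁻¹)) = h⁻¹ * (h * y * h⁻¹) * (g * r * g⁻¹) := by group
        _ = h⁻¹ * (g * r * g⁻¹) * y := by rw [key y hy]; group
    have := Subgroup.mul_mem_sup (show h ∈ P ⊓ Subgroup.normalizer (Q' : Set G) from ⟨hhP, hhN⟩)
      hcen
    rwa [mul_inv_cancel_left] at this
  haveI : Fintype X := Fintype.ofFinite X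
  haveI := Fintype.ofFinite (Subgroup.centralizer (Q' : Set G))
  obtain ⟨FX, hFX, hcoefX⟩ := exists_stabBlock hM (hP.to_le hQ'P) hf' hQ'X hCX hXT
  have hbound : p ^ blockDefect p FX ≤
      Nat.card (P ⊓ Subgroup.normalizer (Q' : Set G) : Subgroup G) := by
    obtain ⟨D, hD⟩ := exists_defectGroup hM hFX
    obtain ⟨-, gD, -, hstepD⟩ := exists_step_of_defect hM (hP.to_le hQ'P) hf' hQ'X hXT hFX hcoefX hD
    have hDp : IsPGroup p (D.map X.subtype) := (defectGroup_isPGroup hD).map _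
    have hDN : D.map X.subtype ≤ Subgroup.normalizer (Q' : Set G) :=
      (Subgroup.map_subtype_le D).trans fun y hy => ((mem_pairStab y).1 (hXT hy)).1
    obtain ⟨Df, hDf, hle'⟩ := le_defect_of_step hM hstepD le_rfl hf'
      (fun t => by rw [subgroupBlockCoeff_eq, sext_coe])
      (hDp.to_le inf_le_left : IsPGroup p
        (D.map X.subtype ⊓ Subgroup.centralizer (Q' : Set G) : Subgroup G)) inf_le_left
    rw [← card_defectGroup hM hFX hD,
      ← Subgroup.card_map_of_injective (f := X.subtype) (K := D) (Subgroup.subtype_injective X),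
      ← card_normalizerIn_split hDN,
      ← card_normalizerIn_split
        (inf_le_right : P ⊓ Subgroup.normalizer (Q' : Set G) ≤ Subgroup.normalizer (Q' : Set G))]
    refine Nat.mul_le_mul (Subgroup.card_le_of_le ?_) ?_
    · intro α hα
      obtain ⟨d, hd, hdN, hα'⟩ := mem_autInducedBy_iff.1 hα
      obtain ⟨n, hn, c, hc, rfl⟩ := hXdec d (Subgroup.map_subtype_le D hd)
      refine mem_autInducedBy_iff.2 ⟨n, hn, hn.2, fun x => ?_⟩
      rw [hα' x]
      have hx := hc (x : G) x.2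
      calc n * c * (x : G) * (n * c)⁻¹ = n * (c * x) * c⁻¹ * n⁻¹ := by group
        _ = n * ((x : G) * c) * c⁻¹ * n⁻¹ := by rw [hx]
        _ = n * x * n⁻¹ := by group
    · have e : (P ⊓ Subgroup.normalizer (Q' : Set G)) ⊓ Subgroup.centralizer (Q' : Set G) =
          P ⊓ Subgroup.centralizer (Q' : Set G) := by
        rw [inf_assoc, inf_eq_right.2 (Subgroup.centralizer_le_normalizer _)]
      rw [e, isDefectGroup_card_centP hM hf' hdef, ← card_defectGroup hM hf' hDf,
        ← Nat.card_congr (Subgroup.subgroupOfEquivOfLe (inf_le_right :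
          D.map X.subtype ⊓ Subgroup.centralizer (Q' : Set G) ≤ _)).toEquiv]
      exact Subgroup.card_le_of_le hle'
  have hkb : IsPBlock M (conjBlock R g k) := isPBlock_conjBlock hk g
  obtain ⟨a, ha, hau, hab⟩ := exists_upIdx (M := M) hRX
    ((centralizer_anti hstep'.2.2.1).trans hCX) hkb
  obtain ⟨m, hm, hmu, hmb⟩ := exists_upIdx (M := M) hNX
    ((centralizer_anti hstep₀.2.2.1).trans hCX) hk₀
  have hmpair := pairOf_of_step hM hFX hcoefX hmb hmu hstep₀
  have hmax : IsMaximalBrauerPair p M FX m.1 m.2 := by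
    refine ⟨hmpair, fun R2 g2 hR2 hle2 => ?_⟩
    have hn : Nice M R2 (blockCoeff FX) := nice_blockCoeff hM hFX
    obtain ⟨ξ, hξ⟩ := bne hM hR2.1.2
    obtain ⟨c, hc, hu⟩ := exists_unit_of_lam hM hn (pairOf_lam hM hR2 hξ)
    obtain ⟨D, hD, hRD⟩ := exists_defectGroup_ge hM hFX
      (fun hI => hu ((res_eq_zero_iff hM (hn.mem c)).2 hI)) hR2.1.1 (le_cent_singleton hc)
    refine (Subgroup.eq_of_le_of_card_ge (subpairLE_le (a := m) (b := ⟨R2, g2⟩) hle2) ?_).symm
    refine (Subgroup.card_le_of_le hRD).trans ?_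
    rw [card_defectGroup hM hFX hD]
    refine hbound.trans (le_of_eq ?_)
    rw [← le_map_subtype_of_eq hmu,
      Subgroup.card_map_of_injective (Subgroup.subtype_injective X)]
  obtain ⟨x, hx⟩ := exists_conj_subpair hM hmax (pairOf_of_step hM hFX hcoefX hab hau hstep')
  obtain ⟨n, hn, c, hc, hnc⟩ := hXdec (x : G) x.2
  have hxN : (x : G) ∈ Subgroup.normalizer (Q' : Set G) := ((mem_pairStab (x : G)).1 (hXT x.2)).1
  have hQx : Q' ≤ (conjIdx x a).1.map X.subtype := by
    show Q' ≤ (a.1.map (MulAut.conj x).toMonoidHom).map X.subtype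
    rw [map_conj_subtype, le_map_subtype_of_eq hau]
    intro y hy
    exact conjMap_mem_iff.2 (hstep'.2.2.1 ((Subgroup.mem_normalizer_iff''.1 hxN y).1 hy))
  have hcx : Subgroup.centralizer (((conjIdx x a).1.map X.subtype : Subgroup G) : Set G) ≤ X :=
    (centralizer_anti hQx).trans hCX
  obtain ⟨hm', hup⟩ := subpair_up (H := X) hCX hx hQx hcx
  rw [upIdx_conj a ha x hcx, hau, hmu] at hup
  have hfin : Relation.ReflTransGen (NormalSubpairRel p M) (conjIdx (c * g) ⟨R, k⟩) ⟨P, e⟩ := by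
    have h1 := subpair_conj_mem hM (hup.trans hk₀le) (P.inv_mem hn.1)
    rw [show (⟨R.map (MulAut.conj g).toMonoidHom, conjBlock R g k⟩ : BrauerPairIdx G) =
      conjIdx g ⟨R, k⟩ from rfl, conjIdx_mul, conjIdx_mul, ← hnc,
      show n⁻¹ * (n * c) * g = c * g by group] at h1
    exact h1
  refine ⟨conjHom R (c * g), (hF.2 R _).2 ⟨hRP, c * g, fun _ => rfl, subpairLE_le hfin, k, hkle,
    hfin⟩, fun y hyQ hyR => ?_⟩
  show c * g * y * (c * g)⁻¹ = φ ⟨y, hyQ⟩
  rw [hg]
  have hy : g * y * g⁻¹ ∈ Q' := ⟨y, hyQ, rfl⟩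
  have h := hc _ hy
  calc c * g * y * (c * g)⁻¹ = c * (g * y * g⁻¹) * c⁻¹ := by group
    _ = g * y * g⁻¹ := by rw [← h]; group

/-- The fusion system of a block is saturated. -/
theorem blockFusion_isSaturated (hM : IsPModular p M) (hF : IsBlockFusionSystemOn p M B P e F) :
    F.IsSaturated p := by
  classical
  haveI : Fact p.Prime := ⟨hM.1⟩
  have hP : IsPGroup p P := hF.1.1.1.1
  have he := hF.1.1.1.2
  intro Q hQ
  obtain ⟨Q', hconj, hn⟩ := F.exists_isFullyNormalized hQ
  obtain ⟨f', ⟨hf', hle⟩, -⟩ := existsUnique_subpair hM hP he Q' hconj.le_right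
  obtain ⟨F₁, hF₁, hcoef⟩ := exists_stabBlock hM (hP.to_le hconj.le_right) hf'
    (self_le_pairStab hM Q' f') (cent_le_pairStab Q' f') le_rfl
  have hdef := (fullyNormalized_iff hM hF hf' hle hF₁ hcoef).1 hn
  refine ⟨Q', hconj, ?_, isReceptive_block hM hF hf' hle
    (isDefect_centP_of_normP hM hP hconj.le_right hf' he hle hF₁ hcoef hdef)⟩
  rw [FusionSystem.isFullyAutomized_iff hconj.le_right, autGroup_block hM hF hf' hle]
  exact card_autInducedBy_normP hM hP hf' hF₁ hcoef
    (normP_le_pairStab hM hP hconj.le_right hf' he hle) hdef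

end

end CfsgLib.Blocks
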