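import Cfsg.Agent.Lib.Blocks.Covering
import Cfsg.Agent.Lib.Blocks.BlockSat
import Cfsg.Agent.Lib.CharTheory.Gallagher
import Cfsg.Agent.Lib.CharTheory.ExtCriteria
import Cfsg.Agent.Lib.CharTheory.Linear
import Cfsg.Agent.Lib.CharTheory.Brauer
import Cfsg.Agent.Lib.CharTheory.Integral

/-!
# The principal block and a normal subgroup supplemented by the centralizer of a Sylow subgroup
-/

namespace CfsgLib.Blocks

open Cfsg CfsgLib.CharTheory
open scoped ComplexConjugate

set_option linter.unusedVariables false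
set_option linter.unusedSimpArgs false
set_option linter.style.haveILetI false
set_option linter.unusedSectionVars false

universe u

variable {p : ℕ} {M : Ideal AlgInt} {G : Type u} [Group G] [Fintype G]

/-- The hypotheses on `N` and `P`. -/
structure CentSupp (p : ℕ) (N P : Subgroup G) : Prop where
  le : P ≤ N
  index : ¬ p ∣ P.index
  sup : N ⊔ Subgroup.centralizer (P : Set G) = ⊤

theorem CentSupp.exists_rep {N P : Subgroup G} [N.Normal] (h : CentSupp p N P) (q : G ⧸ N) :
    ∃ c ∈ Subgroup.centralizer (P : Set G), (c : G ⧸ N) = q := by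
  obtain ⟨g, rfl⟩ := QuotientGroup.mk_surjective q
  have hg : g ∈ ((N ⊔ Subgroup.centralizer (P : Set G) : Subgroup G) : Set G) :=
    h.sup ▸ Subgroup.mem_top g
  rw [Subgroup.normal_mul] at hg
  obtain ⟨n, hn, c, hc, rfl⟩ := hg
  refine ⟨c, hc, ?_⟩
  rw [QuotientGroup.mk_mul, (QuotientGroup.eq_one_iff n).2 hn, one_mul]

theorem CentSupp.not_dvd_index {N P : Subgroup G} (h : CentSupp p N P) : ¬ p ∣ N.index :=
  fun hd => h.index (hd.trans (Subgroup.index_dvd_of_le h.le))

theorem CentSupp.class_ne {N P : Subgroup G} (h : CentSupp p N P) (hM : IsPModular p M) {c : G}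
    (hc : c ∈ Subgroup.centralizer (P : Set G)) :
    ((Subgroup.centralizer ({c} : Set G)).index : AlgInt ⧸ M) ≠ 0 := by
  haveI := res_charP hM
  rw [Ne, CharP.cast_eq_zero_iff (AlgInt ⧸ M) p]
  refine fun hd => h.index (hd.trans (Subgroup.index_dvd_of_le fun x hx => ?_))
  rw [Subgroup.mem_centralizer_singleton_iff]
  exact hc x hx

theorem CentSupp.mono {N N' P : Subgroup G} (h : CentSupp p N P) (hle : N ≤ N') :
    CentSupp p N' P :=
  ⟨h.le.trans hle, h.index, top_le_iff.1 (h.sup ▸ sup_le_sup_right hle _)⟩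

theorem CentSupp.sub {N P H : Subgroup G} [N.Normal] (h : CentSupp p N P) (hNH : N ≤ H) :
    CentSupp p (N.subgroupOf H) (P.subgroupOf H) := by
  refine ⟨fun x hx => h.le hx, fun hd => h.index (hd.trans ?_), (Subgroup.eq_top_iff' _).2 fun x => ?_⟩
  · rw [← Subgroup.relIndex_mul_index (h.le.trans hNH)]
    exact dvd_mul_right _ _
  · obtain ⟨c, hc, hcx⟩ := h.exists_rep ((x : G) : G ⧸ N)
    have hn : (x : G) * c⁻¹ ∈ N := by
      rw [← QuotientGroup.eq_one_iff, QuotientGroup.mk_mul, QuotientGroup.mk_inv, hcx,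
        mul_inv_cancel]
    have hcH : c ∈ H := by
      rw [show c = ((x : G) * c⁻¹)⁻¹ * (x : G) by group]
      exact H.mul_mem (H.inv_mem (hNH hn)) x.2
    rw [show x = (⟨(x : G) * c⁻¹, hNH hn⟩ : H) * ⟨c, hcH⟩ from Subtype.ext (by simp)]
    exact Subgroup.mul_mem_sup hn fun y hy => Subtype.ext (hc (y : G) hy)

theorem clv_oneIrr (g : G) :
    clv g (oneIrr G) = ((Subgroup.centralizer ({g} : Set G)).index : ℂ) := by
  simp [clv, centralChar, oneIrr]

theorem mem_principal_iff (hM : IsPModular p M) (χ : IrrCharacter G) :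
    χ ∈ principalBlock M G ↔ ∀ g : G,
      res hM (clv g χ) = ((Subgroup.centralizer ({g} : Set G)).index : AlgInt ⧸ M) := by
  show SameBlock M ((oneIrr G : IrrCharacter G) : G → ℂ) (χ : G → ℂ) ↔ _
  rw [sameBlock_iff_res hM]
  refine forall_congr' fun g => ?_
  rw [clv_oneIrr, res_natCast]
  exact eq_comm

theorem irrPull_mem_principal (hM : IsPModular p M) {K L : Type u} [Group K] [Fintype K] [Group L]
    [Fintype L] (e : K ≃* L) {χ : IrrCharacter L} (h : χ ∈ principalBlock M L) :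
    irrPull e χ ∈ principalBlock M K := by
  have hB := isPBlock_image e (principalBlock_isPBlock (M := M) (G := L))
  have h1 : oneIrr K ∈ irrPull e '' principalBlock M L :=
    ⟨oneIrr L, oneIrr_mem hM, Subtype.ext (funext fun k => by simp [oneIrr])⟩
  have e1 := eq_blockOf hM hB h1
  have e2 := eq_blockOf hM (principalBlock_isPBlock (M := M) (G := K)) (oneIrr_mem hM)
  rw [e2, ← e1]
  exact ⟨χ, h, rfl⟩

section one
variable {N : Subgroup G} [hN : N.Normal] [Fintype N]

theorem principal_covers (hM : IsPModular p M) :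
    ∃ χ ∈ principalBlock M G, ∃ θ ∈ principalBlock M N,
      classInner (fun n : N => (χ : G → ℂ) n) (θ : N → ℂ) ≠ 0 := by
  refine ⟨oneIrr G, oneIrr_mem hM, oneIrr N, oneIrr_mem hM, ?_⟩
  show classInner (fun n : N => (1 : ℂ)) (fun n : N => (1 : ℂ)) ≠ 0
  rw [classInner_irr_self isIrrCharacter_one]
  exact one_ne_zero

theorem constituent_principal (hM : IsPModular p M) {χ : IrrCharacter G}
    (hχ : χ ∈ principalBlock M G) {θ : IrrCharacter N}
    (hc : classInner (fun n : N => (χ : G → ℂ) n) (θ : N → ℂ) ≠ 0) :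
    θ ∈ principalBlock M N := by
  obtain ⟨c, hcO, hθc⟩ := constituent_mem_orbit hM
    (res_covFn_covers hM principalBlock_isPBlock principalBlock_isPBlock (principal_covers hM) hχ) hc
  obtain ⟨x, rfl⟩ := mem_covOrb.1 hcO
  obtain ⟨θ', hθ', rfl⟩ := hθc
  exact irrPull_mem_principal hM _ hθ'

/-- The restriction to an intermediate normal subgroup. -/
theorem restrict_mem (hM : IsPModular p M) {L : Subgroup G} [L.Normal] [Fintype L] (hLN : L ≤ N)
    {χ : IrrCharacter G} (hχ : χ ∈ principalBlock M G)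
    (hres : IsIrrCharacter L (fun n : L => (χ : G → ℂ) n)) :
    ∃ η : IrrCharacter N, η ∈ principalBlock M N ∧ ∀ k : N, (η : N → ℂ) k = (χ : G → ℂ) k := by
  classical
  obtain ⟨m, R, hR⟩ := isCharacter_restrict (isCharacter_of_irr χ.2) N
  haveI : (L.subgroupOf N).Normal := Subgroup.normal_subgroupOf
  have hirr : IsIrrCharacter N R.character := by
    refine irr_of_extends (N := L.subgroupOf N)
      (isIrrCharacter_comp_surjective hres (Subgroup.subgroupOfEquivOfLe hLN).toMonoidHom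
        (Subgroup.subgroupOfEquivOfLe hLN).surjective) R fun n => ?_
    rw [congrFun hR (n : N)]
    rfl
  refine ⟨⟨_, hirr⟩, constituent_principal hM hχ ?_, fun k => congrFun hR k⟩
  show classInner (fun n : N => (χ : G → ℂ) n) R.character ≠ 0
  rw [← hR, classInner_irr_self hirr]
  exact one_ne_zero

variable {P : Subgroup G}

/-- A twist inside the principal block is trivial. -/
theorem twist_eq_one (hM : IsPModular p M) (h : CentSupp p N P) {β : G → ℂ}
    (hβ : IsIrrCharacter G β) (hk : ∀ n ∈ N, β n = β 1) {χ ψ : IrrCharacter G}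
    (hχ : χ ∈ principalBlock M G) (hψ : ψ ∈ principalBlock M G)
    (he : (ψ : G → ℂ) = β * (χ : G → ℂ)) : β = fun _ => 1 := by
  classical
  haveI := res_isDomain hM
  haveI := res_charP hM
  obtain ⟨β', hβ', rfl⟩ := exists_quotient_irr N hβ hk
  haveI := Fintype.ofFinite (G ⧸ N)
  have hβm : ∀ q : G ⧸ N, MemLocalRing M (β' q) := fun q => memRing_irr hM ⟨β', hβ'⟩ q
  by_contra hne
  have hne' : β' ≠ fun _ => 1 := fun e => hne (by subst e; rfl)
  have hconst : ∀ q : G ⧸ N, res hM (β' q) = res hM (β' 1) := by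
    intro q
    obtain ⟨c, hc, rfl⟩ := h.exists_rep q
    have e1 : clv c ψ * β' 1 = β' (c : G ⧸ N) * clv c χ := by
      have hb1 : β' 1 ≠ 0 := irr_ne_zero hβ'
      have hx1 := irr_one_ne_zero χ
      simp only [clv, centralChar, he, Pi.mul_apply, QuotientGroup.mk_one]
      field_simp
    have e2 := congrArg (res hM) e1
    rw [res_mul hM (memRing_clv hM c ψ) (hβm 1), res_mul hM (hβm _) (memRing_clv hM c χ),
      (mem_principal_iff hM ψ).1 hψ, (mem_principal_iff hM χ).1 hχ, mul_comm (res hM (β' c))] at e2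
    exact (mul_left_cancel₀ (h.class_ne hM hc) e2).symm
  have horth : ∑ q : G ⧸ N, β' q = 0 := by
    have h0 := classInner_irr_ne hβ' isIrrCharacter_one hne'
    simp only [classInner, map_one, mul_one, mul_eq_zero, inv_eq_zero, Nat.cast_eq_zero] at h0
    exact h0.resolve_left Nat.card_pos.ne'
  have h1 := congrArg (res hM) horth
  rw [res_sum hM fun q _ => hβm q, Finset.sum_congr rfl fun q _ => hconst q, Finset.sum_const,
    nsmul_eq_mul, res_zero, mul_eq_zero] at h1
  have hcard : (Fintype.card (G ⧸ N) : AlgInt ⧸ M) ≠ 0 := by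
    rw [Ne, CharP.cast_eq_zero_iff (AlgInt ⧸ M) p, ← Nat.card_eq_fintype_card,
      ← Subgroup.index_eq_card]
    exact h.not_dvd_index
  rcases h1 with h1 | h1
  · exact hcard (by rw [← Finset.card_univ]; exact h1)
  obtain ⟨m, ρ, hρ, hρc⟩ := hβ'
  rw [← hρc, ρ.char_one, res_natCast, CharP.cast_eq_zero_iff (AlgInt ⧸ M) p] at h1
  exact h.not_dvd_index (h1.trans (by rw [Subgroup.index_eq_card]; exact finrank_dvd_card ρ))

/-- A character of the principal block over an extension in the principal block is that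
extension. -/
theorem eq_of_ext_principal (hM : IsPModular p M) (h : CentSupp p N P) {χ ψ : IrrCharacter G}
    (hχ : χ ∈ principalBlock M G) (hψ : ψ ∈ principalBlock M G)
    (hres : IsIrrCharacter N (fun n : N => (χ : G → ℂ) n))
    (hc : classInner (fun n : N => (ψ : G → ℂ) n) (fun n : N => (χ : G → ℂ) n) ≠ 0) : ψ = χ := by
  obtain ⟨β, hβ, hk, e⟩ := (gallagher N (isCharacter_of_irr χ.2) hres).2.2 _ ψ.2 hc
  have := twist_eq_one hM h hβ hk hχ hψ e
  subst this
  exact Subtype.ext (e.trans (funext fun g => one_mul _))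

/-- The case of an abelian quotient. -/
theorem exists_ext_abelian (hM : IsPModular p M) (h : CentSupp p N P)
    (hab : ∀ a b : G, a * b * a⁻¹ * b⁻¹ ∈ N) {θ : IrrCharacter N}
    (hθ : θ ∈ principalBlock M N) :
    ∃ χ : IrrCharacter G, χ ∈ principalBlock M G ∧ ∀ n : N, (χ : G → ℂ) n = (θ : N → ℂ) n := by
  classical
  haveI := res_isDomain hM
  haveI := res_charP hM
  haveI : Fintype (ConjClasses G) := Fintype.ofFinite _
  haveI := Fintype.ofFinite (G ⧸ N)
  have hcomm : ∀ a b : G ⧸ N, a * b = b * a := by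
    intro a b
    obtain ⟨a, rfl⟩ := QuotientGroup.mk_surjective a
    obtain ⟨b, rfl⟩ := QuotientGroup.mk_surjective b
    have h1 := (QuotientGroup.eq_one_iff _).2 (hab a b)
    rw [QuotientGroup.mk_mul, QuotientGroup.mk_mul, QuotientGroup.mk_mul, QuotientGroup.mk_inv,
      QuotientGroup.mk_inv, mul_inv_eq_one, mul_inv_eq_iff_eq_mul] at h1
    exact h1
  letI : CommGroup (G ⧸ N) := { (inferInstance : Group (G ⧸ N)) with mul_comm := hcomm }
  obtain ⟨χ0, hχ0⟩ := exists_over θ
  set B := blockOf M (χ0 : G → ℂ)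
  have hBcov : ∃ χ ∈ B, ∃ θ' ∈ principalBlock M N,
      classInner (fun n : N => (χ : G → ℂ) n) (θ' : N → ℂ) ≠ 0 :=
    ⟨χ0, mem_blockOf_self hM χ0, θ, hθ, hχ0⟩
  set u : G → AlgInt ⧸ M := fun g => res hM (clv g χ0) with hu
  set nn : G → AlgInt ⧸ M := fun g => ((Subgroup.centralizer ({g} : Set G)).index : AlgInt ⧸ M)
    with hnn
  have hexp : ∀ f : G → ℂ, IsClassFunction G f → (∀ x, MemLocalRing M (f x)) →
      res hM (omega (χ0 : G → ℂ) f) = ∑ C : ConjClasses G, res hM (f (crep C)) * u (crep C) ∧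
      res hM (omega ((oneIrr G : IrrCharacter G) : G → ℂ) f) =
        ∑ C : ConjClasses G, res hM (f (crep C)) * nn (crep C) := by
    intro f hf hfm
    constructor
    · rw [omega_eq_sum_classes hf χ0]
      refine (res_sum hM fun C _ =>
        (loc hM).mul_mem (hfm (crep C)) (memRing_clv hM (crep C) χ0)).trans ?_
      exact Finset.sum_congr rfl fun C _ => res_mul hM (hfm _) (memRing_clv hM (crep C) χ0)
    · rw [omega_eq_sum_classes hf (oneIrr G)]
      refine (res_sum hM fun C _ =>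
        (loc hM).mul_mem (hfm (crep C)) (memRing_clv hM (crep C) (oneIrr G))).trans ?_
      refine Finset.sum_congr rfl fun C _ => ?_
      rw [res_mul hM (hfm _) (memRing_clv hM (crep C) (oneIrr G))]
      show _ * res hM (clv (crep C) (oneIrr G)) = _
      rw [clv_oneIrr, res_natCast]
  have hsuppN : ∀ f : G → ℂ, IsClassFunction G f → (∀ x, MemLocalRing M (f x)) →
      (∀ g ∉ N, f g = 0) →
      res hM (omega (χ0 : G → ℂ) f) = res hM (omega ((oneIrr G : IrrCharacter G) : G → ℂ) f) := by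
    intro f hf hfm hs
    rw [res_omega_covers hM (blockOf_isPBlock χ0) principalBlock_isPBlock hBcov
        (mem_blockOf_self hM χ0) hθ hf hfm hs,
      res_omega_covers hM principalBlock_isPBlock principalBlock_isPBlock (principal_covers hM)
        (oneIrr_mem hM) hθ hf hfm hs]
  let cl : G → G → ℂ := fun e x => if IsConj e x then 1 else 0
  have hclc : ∀ e, IsClassFunction G (cl e) := fun e => isClassFunction_classInd e
  have hclm : ∀ e x, MemLocalRing M (cl e x) := fun e x => memRing_classInd hM e x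
  have hconvm : ∀ e d x, MemLocalRing M (conv (cl e) (cl d) x) := fun e d x =>
    memRing_sum hM fun l _ => (loc hM).mul_mem (hclm e l) (hclm d _)
  have hmk : ∀ e x : G, cl e x ≠ 0 → (x : G ⧸ N) = e := by
    intro e x hx
    have hc : IsConj e x := by_contra fun hc => hx (if_neg hc)
    obtain ⟨y, rfl⟩ := isConj_iff.1 hc
    rw [QuotientGroup.mk_mul, QuotientGroup.mk_mul, QuotientGroup.mk_inv, hcomm (y : G ⧸ N),
      mul_inv_cancel_right]
  have hsupp : ∀ e d g : G, conv (cl e) (cl d) g ≠ 0 → (g : G ⧸ N) = (e : G ⧸ N) * d := by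
    intro e d g hg
    obtain ⟨x, -, hx⟩ := Finset.exists_ne_zero_of_sum_ne_zero hg
    obtain ⟨h1, h2⟩ := ne_zero_and_ne_zero_of_mul hx
    have h3 := hmk _ _ h2
    rw [QuotientGroup.mk_mul, QuotientGroup.mk_inv, hmk _ _ h1, inv_mul_eq_iff_eq_mul] at h3
    exact h3
  have homega : ∀ (e d : G) (φ : IrrCharacter G),
      res hM (omega (φ : G → ℂ) (conv (cl e) (cl d))) = res hM (clv e φ) * res hM (clv d φ) := by
    intro e d φ
    rw [omega_conv (hclc e), omega_classInd e φ, omega_classInd d φ]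
    exact res_mul hM (memRing_clv hM e φ) (memRing_clv hM d φ)
  have hone : ∀ e, res hM (clv e (oneIrr G)) = nn e := fun e => by rw [clv_oneIrr, res_natCast]
  have hpair : ∀ e d : G, (e : G ⧸ N) * d = 1 → u e * u d = nn e * nn d := by
    intro e d hed
    have h1 := hsuppN (conv (cl e) (cl d)) (conv_isClassFunction (hclc e) (hclc d)) (hconvm e d)
      fun g hg => by
        by_contra hne
        exact hg ((QuotientGroup.eq_one_iff g).1 ((hsupp e d g hne).trans hed))
    rw [homega, homega, hone, hone] at h1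
    exact h1
  choose r hr hrq using h.exists_rep
  have hnr : ∀ q, nn (r q) ≠ 0 := fun q => h.class_ne hM (hr q)
  set t : G ⧸ N → AlgInt ⧸ M := fun q => u (r q) * nn (r q⁻¹) with ht
  set den : G ⧸ N → AlgInt ⧸ M := fun q => nn (r q) * nn (r q⁻¹) with hden
  have hclaim : ∀ e : G, u e * den (e : G ⧸ N) = nn e * t (e : G ⧸ N) := by
    intro e
    set q := (e : G ⧸ N) with hq
    have h1 := hpair e (r q⁻¹) (by rw [hrq, ← hq, mul_inv_cancel])
    have h2 := hpair (r q) (r q⁻¹) (by rw [hrq, hrq, mul_inv_cancel])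
    have hu0 : u (r q⁻¹) ≠ 0 := fun h0 => by
      rw [h0, mul_zero] at h2
      exact mul_ne_zero (hnr q) (hnr q⁻¹) h2.symm
    refine mul_left_cancel₀ hu0 ?_
    simp only [ht, hden]
    linear_combination (nn (r q) * nn (r q⁻¹)) * h1 - (nn e * nn (r q⁻¹)) * h2
  have hden0 : ∀ q, den q ≠ 0 := fun q => mul_ne_zero (hnr q) (hnr q⁻¹)
  have htmul : ∀ a b : G ⧸ N, t (a * b) * (den a * den b) = t a * t b * den (a * b) := by
    intro a b
    have hf := conv_isClassFunction (hclc (r a)) (hclc (r b))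
    have h1 := (hexp _ hf (hconvm (r a) (r b))).1
    have h2 := (hexp _ hf (hconvm (r a) (r b))).2
    rw [homega] at h1 h2
    rw [hone, hone] at h2
    have h3 : u (r a) * u (r b) * den (a * b) = nn (r a) * nn (r b) * t (a * b) := by
      change res hM (clv (r a) χ0) * res hM (clv (r b) χ0) * _ = _
      rw [h1, h2, Finset.sum_mul, Finset.sum_mul]
      refine Finset.sum_congr rfl fun C _ => ?_
      by_cases h0 : conv (cl (r a)) (cl (r b)) (crep C) = 0
      · simp [h0, res_zero hM]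
      · have hq : ((crep C : G) : G ⧸ N) = a * b := by rw [hsupp _ _ _ h0, hrq, hrq]
        have h4 := hclaim (crep C)
        rw [hq] at h4
        linear_combination (res hM (conv (cl (r a)) (cl (r b)) (crep C))) * h4
    simp only [ht, hden] at h3 ⊢
    linear_combination (-(nn (r a⁻¹) * nn (r b⁻¹))) * h3
  letI : Field (AlgInt ⧸ M) := by haveI := hM.2.1; exact Ideal.Quotient.field M
  set s : G ⧸ N → AlgInt ⧸ M := fun q => t q / den q with hs
  have hsmul : ∀ a b, s (a * b) = s a * s b := fun a b => by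
    simp only [hs]
    rw [div_mul_div_comm, div_eq_div_iff (hden0 _) (mul_ne_zero (hden0 a) (hden0 b))]
    exact htmul a b
  have hsu : ∀ e : G, u e = nn e * s (e : G ⧸ N) := fun e => by
    simp only [hs]
    rw [mul_div_assoc', eq_div_iff (hden0 _)]
    exact hclaim e
  have hn1 : nn 1 = 1 := by
    simp only [hnn]
    rw [show Subgroup.centralizer ({1} : Set G) = ⊤ from (Subgroup.eq_top_iff' _).2 fun x =>
      Subgroup.mem_centralizer_singleton_iff.2 (by simp), Subgroup.index_top, Nat.cast_one]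
  have hs1 : s 1 = 1 := by
    have h1 := hsu 1
    rw [QuotientGroup.mk_one, hn1, one_mul] at h1
    rw [← h1]
    show res hM (clv 1 χ0) = 1
    have : clv (1 : G) χ0 = 1 := by
      rw [clv, centralChar,
        show Subgroup.centralizer ({1} : Set G) = ⊤ from (Subgroup.eq_top_iff' _).2 fun x =>
          Subgroup.mem_centralizer_singleton_iff.2 (by simp), Subgroup.index_top, Nat.cast_one,
        one_mul, div_self (irr_one_ne_zero χ0)]
    rw [this, res_one]
  -- the linear characters of the quotient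
  have hQcard : (Nat.card ((G ⧸ N) →* ℂˣ)) = Nat.card (G ⧸ N) :=
    CommGroup.card_monoidHom_of_hasEnoughRootsOfUnity _ _
  haveI : Finite ((G ⧸ N) →* ℂˣ) := Nat.finite_of_card_ne_zero (hQcard ▸ Nat.card_pos.ne')
  haveI := Fintype.ofFinite ((G ⧸ N) →* ℂˣ)
  have horth : ∀ q : G ⧸ N, ∑ l : (G ⧸ N) →* ℂˣ, (l q : ℂ) =
      if q = 1 then (Nat.card (G ⧸ N) : ℂ) else 0 := by
    intro q
    split_ifs with hq
    · subst hq
      rw [Finset.sum_congr rfl fun l _ => show ((l 1 : ℂˣ) : ℂ) = 1 by rw [map_one, Units.val_one],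
        Finset.sum_const, Finset.card_univ, nsmul_eq_mul, mul_one, ← hQcard,
        Nat.card_eq_fintype_card]
    · obtain ⟨μ, hμ⟩ := CommGroup.exists_apply_ne_one_of_hasEnoughRootsOfUnity (G ⧸ N) ℂ hq
      have hshift : (μ q : ℂ) * ∑ l : (G ⧸ N) →* ℂˣ, (l q : ℂ) =
          ∑ l : (G ⧸ N) →* ℂˣ, (l q : ℂ) := by
        rw [Finset.mul_sum]
        exact Fintype.sum_equiv (Equiv.mulLeft μ) _ _ fun l => by simp
      by_contra hne
      exact hμ (Units.ext (by rw [mul_left_eq_self₀] at hshift; exact hshift.resolve_right hne))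
  have hlirr : ∀ l : (G ⧸ N) →* ℂˣ, IsIrrCharacter G (fun g : G => (l (g : G ⧸ N) : ℂ)) :=
    fun l => isIrrCharacter_linear (l.comp (QuotientGroup.mk' N))
  have hlm : ∀ (l : (G ⧸ N) →* ℂˣ) (q : G ⧸ N), MemLocalRing M (l q : ℂ) := by
    intro l q
    obtain ⟨g, rfl⟩ := QuotientGroup.mk_surjective q
    exact memRing_irr hM ⟨_, hlirr l⟩ g
  obtain ⟨lam, hlam⟩ : ∃ l : (G ⧸ N) →* ℂˣ, ∑ q : G ⧸ N, s q * res hM (l q : ℂ) ≠ 0 := by
    by_contra hno
    push Not at hno
    have h0 : ∑ l : (G ⧸ N) →* ℂˣ, ∑ q : G ⧸ N, s q * res hM (l q : ℂ) = 0 :=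
      Finset.sum_eq_zero fun l _ => hno l
    rw [Finset.sum_comm, Finset.sum_congr rfl fun q _ => show _ =
      s q * res hM (if q = 1 then (Nat.card (G ⧸ N) : ℂ) else 0) by
        rw [← Finset.mul_sum, ← res_sum hM fun l _ => hlm l q, horth],
      Finset.sum_eq_single 1 (fun q _ hq => by rw [if_neg hq, res_zero, mul_zero])
        (fun hn => absurd (Finset.mem_univ _) hn), if_pos rfl, hs1, one_mul, res_natCast,
      CharP.cast_eq_zero_iff (AlgInt ⧸ M) p, ← Subgroup.index_eq_card] at h0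
    exact h.not_dvd_index h0
  have hS : ∀ q, s q * res hM (lam q : ℂ) = 1 := by
    intro q
    have hmul : ∀ a b, s (a * b) * res hM (lam (a * b) : ℂ) =
        (s a * res hM (lam a : ℂ)) * (s b * res hM (lam b : ℂ)) := fun a b => by
      rw [hsmul, map_mul, Units.val_mul, res_mul hM (hlm lam a) (hlm lam b)]; ring
    have hshift : (s q * res hM (lam q : ℂ)) * ∑ x : G ⧸ N, s x * res hM (lam x : ℂ) =
        ∑ x : G ⧸ N, s x * res hM (lam x : ℂ) := by
      rw [Finset.mul_sum]
      exact Fintype.sum_equiv (Equiv.mulLeft q) _ _ fun x => (hmul q x).symm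
    rw [mul_left_eq_self₀] at hshift
    exact hshift.resolve_right hlam
  have hnorm : ∀ (l : (G ⧸ N) →* ℂˣ) (q : G ⧸ N), (l q : ℂ) * conj (l q : ℂ) = 1 := by
    intro l q
    have h1 : (l q : ℂ) ^ Nat.card (G ⧸ N) = 1 := by
      rw [← Units.val_pow_eq_pow_val, ← map_pow, pow_card_eq_one', map_one, Units.val_one]
    rw [Complex.mul_conj, Complex.normSq_eq_norm_sq, Complex.norm_eq_one_of_pow_eq_one h1 Nat.card_pos.ne']
    norm_num
  set ψf : G → ℂ := (fun g : G => (lam (g : G ⧸ N) : ℂ)) * (χ0 : G → ℂ) with hψf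
  have hψc : IsCharacter G ψf :=
    isCharacter_mul (isCharacter_of_irr (hlirr lam)) (isCharacter_of_irr χ0.2)
  have hψirr : IsIrrCharacter G ψf := irr_of_char_norm_one hψc (by
    rw [← classInner_irr_self χ0.2]
    simp only [classInner, hψf, Pi.mul_apply, map_mul]
    congr 1
    refine Finset.sum_congr rfl fun g _ => ?_
    calc _ = ((lam (g : G ⧸ N) : ℂ) * conj (lam (g : G ⧸ N) : ℂ)) *
          ((χ0 : G → ℂ) g * conj ((χ0 : G → ℂ) g)) := by ring
      _ = _ := by rw [hnorm, one_mul])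
  set ψ : IrrCharacter G := ⟨ψf, hψirr⟩ with hψ
  have hψB : ψ ∈ principalBlock M G := by
    rw [mem_principal_iff hM]
    intro g
    have e : clv g ψ = (lam (g : G ⧸ N) : ℂ) * clv g χ0 := by
      simp only [clv, centralChar, hψ, hψf, Pi.mul_apply, QuotientGroup.mk_one, map_one,
        Units.val_one, one_mul]
      ring
    rw [e, res_mul hM (hlm lam _) (memRing_clv hM g χ0)]
    show res hM (lam (g : G ⧸ N) : ℂ) * u g = nn g
    rw [hsu g]
    linear_combination (nn g) * hS (g : G ⧸ N)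
  have hψN : (fun n : N => ψf n) = fun n : N => (χ0 : G → ℂ) n := funext fun n => by
    simp [hψf, (QuotientGroup.eq_one_iff (n : G)).2 n.2]
  have hfix : ∀ l : (G ⧸ N) →* ℂˣ, l ≠ 1 →
      classInner ((fun g : G => (l (g : G ⧸ N) : ℂ)) * ψf) ψf = 0 := by
    intro l hl
    have hlc := isCharacter_mul (isCharacter_of_irr (hlirr l)) hψc
    have hli : IsIrrCharacter G ((fun g : G => (l (g : G ⧸ N) : ℂ)) * ψf) :=
      irr_of_char_norm_one hlc (by
        rw [← classInner_irr_self hψirr]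
        simp only [classInner, Pi.mul_apply, map_mul]
        congr 1
        refine Finset.sum_congr rfl fun g _ => ?_
        calc _ = ((l (g : G ⧸ N) : ℂ) * conj (l (g : G ⧸ N) : ℂ)) * (ψf g * conj (ψf g)) := by ring
          _ = _ := by rw [hnorm, one_mul])
    refine classInner_irr_ne hli hψirr fun e => hl ?_
    have h1 := twist_eq_one hM h (hlirr l) (fun n hn => by
      rw [(QuotientGroup.eq_one_iff n).2 hn, QuotientGroup.mk_one]) hψB hψB e.symm
    refine MonoidHom.ext fun q => Units.ext ?_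
    obtain ⟨g, rfl⟩ := QuotientGroup.mk_surjective q
    exact congrFun h1 g
  have hNirr : IsIrrCharacter N (fun n : N => ψf n) := by
    refine irr_of_char_norm_one (isCharacter_restrict hψc N) ?_
    have h1 : ∑ l : (G ⧸ N) →* ℂˣ, classInner ((fun g : G => (l (g : G ⧸ N) : ℂ)) * ψf) ψf = 1 := by
      rw [Finset.sum_eq_single 1 (fun l _ hl => hfix l hl)
        (fun hn => absurd (Finset.mem_univ _) hn)]
      rw [show ((fun g : G => (((1 : (G ⧸ N) →* ℂˣ) (g : G ⧸ N)) : ℂ)) * ψf) = ψf from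
        funext fun g => by simp]
      exact classInner_irr_self hψirr
    rw [← h1]
    simp only [classInner, Pi.mul_apply]
    conv_rhs => rw [← Finset.mul_sum, Finset.sum_comm]
    rw [Finset.sum_congr (s₁ := (Finset.univ : Finset G)) rfl fun g _ => show _ =
        (if (g : G ⧸ N) = 1 then (Nat.card (G ⧸ N) : ℂ) else 0) * (ψf g * conj (ψf g)) by
          rw [← horth, Finset.sum_mul]
          exact Finset.sum_congr rfl fun l _ => by ring]
    simp only [ite_mul, zero_mul]
    rw [← Finset.sum_filter, Finset.sum_congr (Finset.filter_congr fun g _ =>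
      (QuotientGroup.eq_one_iff g)) fun g _ => rfl, ← Finset.mul_sum, ← mul_assoc]
    symm
    congr 1
    · rw [← Subgroup.index_eq_card, ← N.card_mul_index, Nat.cast_mul, mul_inv,
        mul_assoc, inv_mul_cancel₀ (Nat.cast_ne_zero.2 Subgroup.index_ne_zero_of_finite), mul_one]
    · exact Finset.sum_subtype _ (fun g => by simp) (fun g => ψf g * conj (ψf g))
  refine ⟨ψ, hψB, fun n => ?_⟩
  have hc : classInner (fun n : N => ψf n) (θ : N → ℂ) ≠ 0 := hψN ▸ hχ0
  have he : (fun n : N => ψf n) = (θ : N → ℂ) :=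
    by_contra fun hne => hc (classInner_irr_ne hNirr θ.2 hne)
  exact congrFun he n

end one

section chain
variable {N P : Subgroup G} [hN : N.Normal] [Fintype N]

/-- An extension in the principal block of a subgroup containing `N` is unique. -/
theorem ext_unique_sub (hM : IsPModular p M) (h : CentSupp p N P) {θ : IrrCharacter N}
    {H : Subgroup G} [Fintype H] (hNH : N ≤ H) {χ ψ : IrrCharacter H}
    (hχ : χ ∈ principalBlock M H) (hψ : ψ ∈ principalBlock M H)
    (h1 : ∀ n : N, (χ : H → ℂ) ⟨n, hNH n.2⟩ = (θ : N → ℂ) n)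
    (h2 : ∀ n : N, (ψ : H → ℂ) ⟨n, hNH n.2⟩ = (θ : N → ℂ) n) : ψ = χ := by
  classical
  haveI : (N.subgroupOf H).Normal := Subgroup.normal_subgroupOf
  haveI := Fintype.ofFinite (N.subgroupOf H)
  have e1 : (fun n : N.subgroupOf H => (χ : H → ℂ) n) =
      fun n => (θ : N → ℂ) (Subgroup.subgroupOfEquivOfLe hNH n) := funext fun n =>
    h1 (Subgroup.subgroupOfEquivOfLe hNH n)
  have e2 : (fun n : N.subgroupOf H => (ψ : H → ℂ) n) =
      fun n => (θ : N → ℂ) (Subgroup.subgroupOfEquivOfLe hNH n) := funext fun n =>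
    h2 (Subgroup.subgroupOfEquivOfLe hNH n)
  have hirr := isIrrCharacter_comp_surjective θ.2
    (Subgroup.subgroupOfEquivOfLe hNH).toMonoidHom (Subgroup.subgroupOfEquivOfLe hNH).surjective
  refine eq_of_ext_principal hM (h.sub hNH) hχ hψ ?_ ?_
  · rw [e1]; exact hirr
  · rw [e1, e2]
    exact (classInner_irr_self hirr).symm ▸ one_ne_zero

theorem ext_nilpotent (hM : IsPModular p M) (h : CentSupp p N P) {θ : IrrCharacter N}
    (hθ : θ ∈ principalBlock M N) : ∀ (n : ℕ) (H E : Subgroup G) [Fintype H], H = N ⊔ E →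
    Group.IsNilpotent E → Nat.card H = n → ∀ hNH : N ≤ H,
    ∃ χ : IrrCharacter H, χ ∈ principalBlock M H ∧
      (∀ x : N, (χ : H → ℂ) ⟨x, hNH x.2⟩ = (θ : N → ℂ) x) ∧
      ∀ (K : Subgroup G) [Fintype K] (hK : K ≤ H), N ≤ K → ∃ η : IrrCharacter K,
        η ∈ principalBlock M K ∧ ∀ k : K, (η : K → ℂ) k = (χ : H → ℂ) ⟨k, hK k.2⟩ := by
  intro n
  induction n using Nat.strong_induction_on with
  | _ n ih =>
  intro H E _ hHE hE hn hNH
  classical
  by_cases hEN : E ≤ N
  · have hHN : H = N := by rw [hHE, sup_eq_left.2 hEN]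
    refine ⟨irrPull (MulEquiv.subgroupCongr hHN) θ, irrPull_mem_principal hM _ hθ,
      fun x => ?_, fun K _ hK hNK => ⟨irrPull (MulEquiv.subgroupCongr (le_antisymm
        (hK.trans hHN.le) hNK)) θ, irrPull_mem_principal hM _ hθ, fun k => ?_⟩⟩
    · rw [irrPull_apply]; exact congrArg _ (Subtype.ext rfl)
    · rw [irrPull_apply, irrPull_apply]; exact congrArg _ (Subtype.ext rfl)
  have hsupmem : ∀ y ∈ H, ∃ a ∈ N, ∃ b ∈ E, a * b = y := fun y hy => by
    rw [hHE] at hy
    have : y ∈ ((N ⊔ E : Subgroup G) : Set G) := hy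
    rw [Subgroup.normal_mul] at this
    exact this
  have hEH : E ≤ H := hHE ▸ le_sup_right
  set S : Set (Subgroup G) := {K | N ≤ K ∧ K < H} with hS
  have hNlt : N < H := lt_of_le_of_ne hNH fun e => hEN (e ▸ hEH)
  -- properties of a maximal member
  have hmax : ∀ H2, Maximal (· ∈ S) H2 → ∃ (E2 : Subgroup G), H2 = N ⊔ E2 ∧ Group.IsNilpotent E2 ∧
      (H2.subgroupOf H).Normal ∧ ∀ a b : H, a * b * a⁻¹ * b⁻¹ ∈ H2.subgroupOf H := by
    rintro H2 ⟨⟨hN2, h2H⟩, hm⟩
    refine ⟨H2 ⊓ E, le_antisymm (fun y hy => ?_) (sup_le hN2 inf_le_left), ?_, ?_⟩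
    · obtain ⟨a, ha, b, hb, rfl⟩ := hsupmem y (h2H.le hy)
      exact Subgroup.mul_mem_sup ha ⟨by simpa using H2.mul_mem (H2.inv_mem (hN2 ha)) hy, hb⟩
    · exact Group.nilpotent_of_surjective
        (Subgroup.subgroupOfEquivOfLe (inf_le_right : H2 ⊓ E ≤ E)).toMonoidHom
        (Subgroup.subgroupOfEquivOfLe (inf_le_right : H2 ⊓ E ≤ E)).surjective
    set E2 := H2.subgroupOf E with hE2
    have hne : E2 < ⊤ := lt_top_iff_ne_top.2 fun e => h2H.not_ge (by
      rw [hHE]
      exact sup_le hN2 fun b hb => Subgroup.mem_subgroupOf.1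
        (e ▸ Subgroup.mem_top (⟨b, hb⟩ : E)))
    obtain ⟨e, he, he2⟩ := SetLike.exists_of_lt (normalizerCondition_of_isNilpotent E2 hne)
    have hmem2 : ∀ y, y ∈ H2 → (e : G) * y * (e : G)⁻¹ ∈ H2 := by
      intro y hy
      obtain ⟨a, ha, b, hb, rfl⟩ := hsupmem y (h2H.le hy)
      have hb2 : (⟨b, hb⟩ : E) ∈ E2 := by
        show b ∈ H2
        simpa using H2.mul_mem (H2.inv_mem (hN2 ha)) hy
      have h1 : (e : G) * b * (e : G)⁻¹ ∈ H2 := (Subgroup.mem_normalizer_iff.1 he ⟨b, hb⟩).1 hb2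
      rw [show (e : G) * (a * b) * (e : G)⁻¹ =
        ((e : G) * a * (e : G)⁻¹) * ((e : G) * b * (e : G)⁻¹) by group]
      exact H2.mul_mem (hN2 (hN.conj_mem a ha _)) h1
    have heN : (e : G) ∈ Subgroup.normalizer (H2 : Set G) := mem_normalizer_of_forall_mem hmem2
    have hT : H ⊓ Subgroup.normalizer (H2 : Set G) = H := by
      by_contra hne'
      have hin : H ⊓ Subgroup.normalizer (H2 : Set G) ∈ S :=
        ⟨le_inf hNH (hN2.trans Subgroup.le_normalizer), lt_of_le_of_ne inf_le_left hne'⟩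
      exact he2 (hm hin (le_inf h2H.le Subgroup.le_normalizer) ⟨hEH e.2, heN⟩)
    have hnormal : (H2.subgroupOf H).Normal := ⟨fun a ha g =>
      (Subgroup.mem_normalizer_iff.1 (inf_le_right (a := H) (hT.symm ▸ g.2 :
        (g : G) ∈ H ⊓ Subgroup.normalizer (H2 : Set G))) a).1 ha⟩
    refine ⟨hnormal, fun a b => ?_⟩
    haveI := hnormal
    have hgen : ∀ q : H ⧸ H2.subgroupOf H,
        q ∈ Subgroup.zpowers ((⟨e, hEH e.2⟩ : H) : H ⧸ H2.subgroupOf H) := by
      intro q
      obtain ⟨g, rfl⟩ := QuotientGroup.mk_surjective q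
      have hX : H2 ⊔ Subgroup.zpowers (e : G) = H := by
        by_contra hne'
        have hin : H2 ⊔ Subgroup.zpowers (e : G) ∈ S :=
          ⟨hN2.trans le_sup_left, lt_of_le_of_ne
            (sup_le h2H.le (Subgroup.zpowers_le.2 (hEH e.2))) hne'⟩
        exact he2 (hm hin le_sup_left (Subgroup.mem_sup_right (Subgroup.mem_zpowers _)))
      have hg : (g : G) ∈ ((H2 ⊔ Subgroup.zpowers (e : G) : Subgroup G) : Set G) :=
        hX.symm ▸ g.2
      rw [sup_comm, Subgroup.coe_mul_of_left_le_normalizer_right _ _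
        (Subgroup.zpowers_le.2 heN)] at hg
      obtain ⟨_, ⟨i, rfl⟩, y, hy, hiy⟩ := hg
      refine ⟨i, ?_⟩
      show ((⟨e, hEH e.2⟩ : H) : H ⧸ H2.subgroupOf H) ^ i = _
      rw [← QuotientGroup.mk_zpow, QuotientGroup.eq]
      show (((⟨e, hEH e.2⟩ : H) ^ i)⁻¹ * g : H) ∈ H2.subgroupOf H
      rw [Subgroup.mem_subgroupOf]
      push_cast
      rw [← hiy, inv_mul_cancel_left]
      exact hy
    rw [← QuotientGroup.eq_one_iff, QuotientGroup.mk_mul, QuotientGroup.mk_mul,
      QuotientGroup.mk_mul, QuotientGroup.mk_inv, QuotientGroup.mk_inv]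
    obtain ⟨i, hi⟩ := hgen a
    obtain ⟨j, hj⟩ := hgen b
    change _ ^ i = _ at hi
    change _ ^ j = _ at hj
    rw [← hi, ← hj]
    group
  obtain ⟨H1, -, hH1⟩ := (Set.toFinite S).exists_le_maximal (show N ∈ S from ⟨le_rfl, hNlt⟩)
  have hN1 : N ≤ H1 := hH1.1.1
  have h1H : H1 ≤ H := hH1.1.2.le
  haveI := Fintype.ofFinite H1
  obtain ⟨E1, hE1, hE1n, hnorm1, hab1⟩ := hmax H1 hH1
  have hlt : ∀ K : Subgroup G, K ∈ S → Nat.card K < n := fun K hK => hn ▸
    (Set.Finite.card_lt_card (Set.toFinite (H : Set G)) (SetLike.coe_ssubset_coe.2 hK.2) :)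
  obtain ⟨χ1, hχ1, hχ1N, -⟩ := ih _ (hlt H1 hH1.1) H1 E1 hE1 hE1n rfl hN1
  haveI := hnorm1
  haveI := Fintype.ofFinite (H1.subgroupOf H)
  obtain ⟨χ, hχ, hχext⟩ := exists_ext_abelian hM ((h.sub hNH).mono
    (show N.subgroupOf H ≤ H1.subgroupOf H from fun x hx => hN1 hx)) hab1
    (irrPull_mem_principal hM (Subgroup.subgroupOfEquivOfLe h1H) hχ1)
  have hχN : ∀ x : N, (χ : H → ℂ) ⟨x, hNH x.2⟩ = (θ : N → ℂ) x := fun x => by
    rw [← hχ1N x]
    exact hχext ⟨⟨x, hNH x.2⟩, hN1 x.2⟩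
  refine ⟨χ, hχ, hχN, fun K _ hK hNK => ?_⟩
  rcases eq_or_lt_of_le hK with hKH | hKH
  · refine ⟨irrPull (MulEquiv.subgroupCongr hKH) χ, irrPull_mem_principal hM _ hχ, fun k => ?_⟩
    rw [irrPull_apply]; exact congrArg _ (Subtype.ext rfl)
  obtain ⟨H2, hKH2, hH2⟩ := (Set.toFinite S).exists_le_maximal (show K ∈ S from ⟨hNK, hKH⟩)
  obtain ⟨E2, hE2, hE2n, hnorm2, -⟩ := hmax H2 hH2
  have hN2 : N ≤ H2 := hH2.1.1
  haveI := hnorm2
  haveI := Fintype.ofFinite H2
  haveI := Fintype.ofFinite (H2.subgroupOf H)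
  haveI : (N.subgroupOf H).Normal := Subgroup.normal_subgroupOf
  haveI := Fintype.ofFinite (N.subgroupOf H)
  obtain ⟨χ2, hχ2, hχ2N, hχ2K⟩ := ih _ (hlt H2 hH2.1) H2 E2 hE2 hE2n rfl hN2
  have hres : IsIrrCharacter (N.subgroupOf H) (fun x : N.subgroupOf H => (χ : H → ℂ) x) := by
    rw [show (fun x : N.subgroupOf H => (χ : H → ℂ) x) =
      fun x => (θ : N → ℂ) (Subgroup.subgroupOfEquivOfLe hNH x) from
        funext fun x => hχN (Subgroup.subgroupOfEquivOfLe hNH x)]
    exact isIrrCharacter_comp_surjective θ.2 (Subgroup.subgroupOfEquivOfLe hNH).toMonoidHom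
      (Subgroup.subgroupOfEquivOfLe hNH).surjective
  obtain ⟨η, hη, hηeq⟩ := restrict_mem hM
    (show N.subgroupOf H ≤ H2.subgroupOf H from fun x hx => hN2 hx) hχ hres
  set e2 := Subgroup.subgroupOfEquivOfLe hH2.1.2.le
  have hval : ∀ y : H2, (irrPull e2.symm η : H2 → ℂ) y = (χ : H → ℂ) ⟨y, hH2.1.2.le y.2⟩ :=
    fun y => by rw [irrPull_apply, hηeq]; exact congrArg _ (Subtype.ext rfl)
  have heq : irrPull e2.symm η = χ2 :=
    ext_unique_sub hM h hN2 hχ2 (irrPull_mem_principal hM _ hη) hχ2N fun x => by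
      rw [hval, ← hχN x]
  obtain ⟨η2, hη2, hη2eq⟩ := hχ2K K hKH2 hNK
  refine ⟨η2, hη2, fun k => ?_⟩
  rw [hη2eq, ← heq, hval]

/-- Every character of the principal block of `N` extends to the principal block of `G`. -/
theorem exists_ext_principal (hM : IsPModular p M) (h : CentSupp p N P) {θ : IrrCharacter N}
    (hθ : θ ∈ principalBlock M N) :
    ∃ χ : IrrCharacter G, χ ∈ principalBlock M G ∧ ∀ x : N, (χ : G → ℂ) x = (θ : N → ℂ) x := by
  classical
  haveI : ∀ K : Subgroup G, Fintype K := fun K => Fintype.ofFinite _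
  have hNle : ∀ g : G, N ≤ N ⊔ Subgroup.zpowers g := fun g => le_sup_left
  have hgm : ∀ g : G, g ∈ N ⊔ Subgroup.zpowers g := fun g =>
    Subgroup.mem_sup_right (Subgroup.mem_zpowers g)
  have hnil : ∀ g : G, Group.IsNilpotent (Subgroup.zpowers g) := fun g => by
    letI : CommGroup (Subgroup.zpowers g) := IsCyclic.commGroup
    exact CommGroup.isNilpotent
  choose cg hcg hcgN hcgK using fun g : G =>
    ext_nilpotent hM h hθ _ (N ⊔ Subgroup.zpowers g) (Subgroup.zpowers g) rfl (hnil g) rfl (hNle g)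
  have hinv : ∀ (x : G) (m : N), (θ : N → ℂ) ⟨x * m * x⁻¹, hN.conj_mem m m.2 x⟩ = (θ : N → ℂ) m := by
    intro x m
    rw [← hcgN x, ← hcgN x]
    exact isClassFunction_irr (cg x).2 ⟨m, hNle x m.2⟩ ⟨x, hgm x⟩
  set F : G → ℂ := fun g => (cg g : ↥(N ⊔ Subgroup.zpowers g) → ℂ) ⟨g, hgm g⟩ with hF
  have hval : ∀ (E : Subgroup G), Group.IsNilpotent E → ∃ χ : IrrCharacter ↥(N ⊔ E),
      χ ∈ principalBlock M ↥(N ⊔ E) ∧
        (∀ x : N, (χ : ↥(N ⊔ E) → ℂ) ⟨x, (le_sup_left : N ≤ N ⊔ E) x.2⟩ = (θ : N → ℂ) x) ∧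
        ∀ y : ↥(N ⊔ E), F y = (χ : ↥(N ⊔ E) → ℂ) y := by
    intro E hEn
    obtain ⟨χ, hχ, hχN, hχK⟩ := ext_nilpotent hM h hθ _ (N ⊔ E) E rfl hEn rfl le_sup_left
    refine ⟨χ, hχ, hχN, fun y => ?_⟩
    have hle : N ⊔ Subgroup.zpowers (y : G) ≤ N ⊔ E :=
      sup_le le_sup_left (Subgroup.zpowers_le.2 y.2)
    obtain ⟨η, hη, hηeq⟩ := hχK _ hle (hNle y)
    have := ext_unique_sub hM h (hNle (y : G)) (hcg (y : G)) hη (hcgN (y : G)) fun x => by
      rw [hηeq]; exact hχN x
    show (cg (y : G) : ↥(N ⊔ Subgroup.zpowers (y : G)) → ℂ) ⟨y, hgm y⟩ = _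
    rw [← this, hηeq]
  have hFN : ∀ x : N, F x = (θ : N → ℂ) x := fun x => hcgN (x : G) x
  have hcls : IsClassFunction G F := by
    intro g x
    set g' := x * g * x⁻¹ with hg'
    have hmap : (N ⊔ Subgroup.zpowers g).map (MulAut.conj x).toMonoidHom =
        N ⊔ Subgroup.zpowers g' := by
      have hNx : N.map (MulAut.conj x).toMonoidHom = N := by
        refine le_antisymm ?_ fun y hy => ⟨x⁻¹ * y * x, ?_, ?_⟩
        · rintro _ ⟨y, hy, rfl⟩; exact hN.conj_mem y hy x
        · simpa using hN.conj_mem y hy x⁻¹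
        · show x * (x⁻¹ * y * x) * x⁻¹ = y
          group
      rw [Subgroup.map_sup, hNx, MonoidHom.map_zpowers]
      rfl
    let e := ((Subgroup.equivMapOfInjective (N ⊔ Subgroup.zpowers g) (MulAut.conj x).toMonoidHom
      (MulAut.conj x).injective).trans (MulEquiv.subgroupCongr hmap))
    have hcoe : ∀ y, ((e y : ↥(N ⊔ Subgroup.zpowers g')) : G) = x * (y : G) * x⁻¹ := fun y => rfl
    have := ext_unique_sub hM h (hNle g) (hcg g) (irrPull_mem_principal hM e (hcg g')) (hcgN g)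
      fun m => by
        rw [irrPull_apply, ← hinv x m, ← hcgN g']
        exact congrArg _ (Subtype.ext (hcoe _))
    show (cg g' : ↥(N ⊔ Subgroup.zpowers g') → ℂ) ⟨g', hgm g'⟩ = (cg g : ↥(N ⊔ Subgroup.zpowers g) → ℂ) ⟨g, hgm g⟩
    rw [← this, irrPull_apply]
    exact congrArg _ (Subtype.ext (hcoe ⟨g, hgm g⟩).symm)
  have hcoset : ∀ (g : G) (m : N), F ((m : G) * g) =
      (cg g : ↥(N ⊔ Subgroup.zpowers g) → ℂ) ⟨(m : G) * g, Subgroup.mul_mem _ (hNle g m.2) (hgm g)⟩ := by
    intro g m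
    obtain ⟨χ, hχ, hχN, hχF⟩ := hval (Subgroup.zpowers g) (hnil g)
    have := ext_unique_sub hM h (hNle g) (hcg g) hχ (hcgN g) hχN
    rw [← this]
    exact hχF ⟨_, _⟩
  have hgen : IsGeneralizedCharacter G F := by
    refine isGenChar_of_elementary hcls fun E q hq hEl => ?_
    haveI := Fintype.ofFinite E
    obtain ⟨χ, -, -, hχF⟩ := hval E (isNilpotent_of_elementary hq hEl)
    refine isGenChar_of_char ?_
    rw [show (fun y : E => F y) =
      fun y : E => (χ : ↥(N ⊔ E) → ℂ) (Subgroup.inclusion (le_sup_right : E ≤ N ⊔ E) y) from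
        funext fun y => hχF (Subgroup.inclusion (le_sup_right : E ≤ N ⊔ E) y)]
    exact isCharacter_comp (isCharacter_of_irr χ.2) (Subgroup.inclusion le_sup_right)
  have hone : F 1 = (θ : N → ℂ) 1 := hFN 1
  have hsq : ∀ g : G, ∑ m : N, F ((m : G) * g) * conj (F ((m : G) * g)) = (Nat.card N : ℂ) := by
    intro g
    haveI : (N.subgroupOf (N ⊔ Subgroup.zpowers g)).Normal := Subgroup.normal_subgroupOf
    have hres : IsIrrCharacter (N.subgroupOf (N ⊔ Subgroup.zpowers g))
        (fun x : N.subgroupOf (N ⊔ Subgroup.zpowers g) => (cg g : ↥(N ⊔ Subgroup.zpowers g) → ℂ) x) := by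
      rw [show (fun x : N.subgroupOf (N ⊔ Subgroup.zpowers g) => (cg g : ↥(N ⊔ Subgroup.zpowers g) → ℂ) x) =
        fun x => (θ : N → ℂ) (Subgroup.subgroupOfEquivOfLe (hNle g) x) from
          funext fun x => hcgN g (Subgroup.subgroupOfEquivOfLe (hNle g) x)]
      exact isIrrCharacter_comp_surjective θ.2 (Subgroup.subgroupOfEquivOfLe (hNle g)).toMonoidHom
        (Subgroup.subgroupOfEquivOfLe (hNle g)).surjective
    have h1 := congrFun (cosetAvg_mul_conj (N.subgroupOf (N ⊔ Subgroup.zpowers g)) (cg g).2 hres)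
      ⟨g, hgm g⟩
    simp only [cosetAvg, Pi.mul_apply] at h1
    rw [inv_mul_eq_iff_eq_mul₀ (Nat.cast_ne_zero.2 Nat.card_pos.ne'), mul_one,
      Nat.card_congr (Subgroup.subgroupOfEquivOfLe (hNle g)).toEquiv] at h1
    rw [← h1]
    refine Fintype.sum_equiv (Subgroup.subgroupOfEquivOfLe (hNle g)).symm.toEquiv _ _ fun m => ?_
    simp only [hcoset]
    rfl
  have hirr : IsIrrCharacter G F := by
    refine irr_of_norm_one hgen ?_ ?_
    · have h2 : (Nat.card N : ℂ) * ∑ g, F g * conj (F g) = (Nat.card G : ℂ) * Nat.card N := by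
        calc (Nat.card N : ℂ) * ∑ g, F g * conj (F g)
            = ∑ m : N, ∑ g, F ((m : G) * g) * conj (F ((m : G) * g)) := by
              rw [Finset.sum_congr rfl fun (m : N) _ => show
                ∑ g, F ((m : G) * g) * conj (F ((m : G) * g)) = ∑ g, F g * conj (F g) from
                Fintype.sum_equiv (Equiv.mulLeft (m : G)) _ _ fun g => rfl, Finset.sum_const,
                Finset.card_univ, nsmul_eq_mul, Nat.card_eq_fintype_card]
          _ = _ := by
              rw [Finset.sum_comm, Finset.sum_congr rfl fun g _ => hsq g, Finset.sum_const,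
                Finset.card_univ, nsmul_eq_mul, Nat.card_eq_fintype_card (α := G)]
      have hG : (Nat.card G : ℂ) ≠ 0 := Nat.cast_ne_zero.2 Nat.card_pos.ne'
      have hNc : (Nat.card N : ℂ) ≠ 0 := Nat.cast_ne_zero.2 Nat.card_pos.ne'
      rw [classInner, mul_left_cancel₀ hNc (h2.trans (mul_comm _ _)), inv_mul_cancel₀ hG]
    · obtain ⟨m, ρ, hρ, hρθ⟩ := θ.2
      haveI := nontrivial_of_irr ρ
      rw [hone, ← hρθ, ρ.char_one, Complex.natCast_re, Nat.cast_pos]
      exact Module.finrank_pos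
  refine ⟨⟨F, hirr⟩, ?_, hFN⟩
  rw [mem_principal_iff hM]
  intro g
  set f : G → ℂ := fun x => if IsConj g x then 1 else 0 with hf
  have hfc : IsClassFunction G f := isClassFunction_classInd g
  have hfm : ∀ x, MemLocalRing M (f x) := memRing_classInd hM g
  rw [show clv g ⟨F, hirr⟩ = omega F f from (omega_classInd g ⟨F, hirr⟩).symm,
    ← res_natCast hM, ← clv_oneIrr,
    show clv g (oneIrr G) = omega ((oneIrr G : IrrCharacter G) : G → ℂ) f from
      (omega_classInd g (oneIrr G)).symm]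
  haveI := Fintype.ofFinite (G ⧸ N)
  have hsplit : ∀ φ : G → ℂ, ∑ x, φ x = ∑ q : G ⧸ N, ∑ m : N, φ ((m : G) * q.out) := by
    intro φ
    rw [← Fintype.sum_prod_type']
    refine (Fintype.sum_bijective (fun y : (G ⧸ N) × N => (y.2 : G) * y.1.out) ?_ _ _
      fun y => rfl).symm
    have hmk : ∀ (q : G ⧸ N) (m : N), (((m : G) * q.out : G) : G ⧸ N) = q := fun q m => by
      rw [QuotientGroup.mk_mul, (QuotientGroup.eq_one_iff (m : G)).2 m.2, one_mul,
        QuotientGroup.out_eq']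
    refine ⟨?_, fun x => ?_⟩
    · rintro ⟨q, m⟩ ⟨q', m'⟩ he
      have hq : q = q' := by rw [← hmk q m, ← hmk q' m']; exact congrArg _ he
      subst hq
      exact Prod.ext rfl (Subtype.ext (mul_right_cancel he))
    · refine ⟨⟨(x : G ⧸ N), ⟨x * (x : G ⧸ N).out⁻¹, ?_⟩⟩, by simp⟩
      rw [← QuotientGroup.eq_one_iff, QuotientGroup.mk_mul, QuotientGroup.mk_inv,
        QuotientGroup.out_eq', mul_inv_cancel]
  have hpiece : ∀ a : G,
      MemLocalRing M ((∑ m : N, f ((m : G) * a) * F ((m : G) * a)) / F 1) ∧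
      MemLocalRing M (∑ m : N, f ((m : G) * a)) ∧
      res hM ((∑ m : N, f ((m : G) * a) * F ((m : G) * a)) / F 1) =
        res hM (∑ m : N, f ((m : G) * a)) := by
    intro a
    set L := N ⊔ Subgroup.zpowers a with hL
    set fq : L → ℂ := fun y => if ((y : G) : G ⧸ N) = a then f y else 0 with hfq
    have hcomL : ∀ y : L, ((y : G) : G ⧸ N) ∈ Subgroup.zpowers ((a : G ⧸ N)) := by
      intro y
      have hy : (y : G) ∈ ((N ⊔ Subgroup.zpowers a : Subgroup G) : Set G) := y.2
      rw [Subgroup.normal_mul] at hy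
      obtain ⟨m, hm, _, ⟨i, rfl⟩, hmi⟩ := hy
      refine ⟨i, ?_⟩
      rw [← hmi, QuotientGroup.mk_mul, (QuotientGroup.eq_one_iff m).2 hm, one_mul]
      rfl
    have hfqc : IsClassFunction L fq := by
      intro y z
      have e : (((z * y * z⁻¹ : L) : G) : G ⧸ N) = ((y : G) : G ⧸ N) := by
        obtain ⟨i, hi⟩ := hcomL y
        obtain ⟨j, hj⟩ := hcomL z
        change _ ^ i = _ at hi
        change _ ^ j = _ at hj
        show (((z : G) * y * (z : G)⁻¹ : G) : G ⧸ N) = _
        rw [QuotientGroup.mk_mul, QuotientGroup.mk_mul, QuotientGroup.mk_inv, ← hi, ← hj]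
        group
      simp only [hfq, e]
      split_ifs
      · exact hfc (y : G) (z : G)
      · rfl
    have hfqm : ∀ y, MemLocalRing M (fq y) := fun y => by
      simp only [hfq]; split_ifs
      · exact hfm _
      · exact (loc hM).zero_mem
    have hL1 : ∀ φ : L → ℂ, ∑ y : L, fq y * φ y =
        ∑ m : N, f ((m : G) * a) * φ ⟨(m : G) * a, L.mul_mem (hNle a m.2) (hgm a)⟩ := by
      intro φ
      simp only [hfq, ite_mul, zero_mul]
      rw [← Finset.sum_filter]
      symm
      refine Finset.sum_bij (fun m _ => (⟨(m : G) * a, L.mul_mem (hNle a m.2) (hgm a)⟩ : L))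
        (fun m _ => ?_) (fun m _ m' _ e => Subtype.ext (mul_right_cancel (congrArg Subtype.val e)))
        (fun y hy => ?_) (fun m _ => rfl)
      · simp only [Finset.mem_filter, Finset.mem_univ, true_and]
        rw [QuotientGroup.mk_mul, (QuotientGroup.eq_one_iff (m : G)).2 m.2, one_mul]
      · refine ⟨⟨(y : G) * a⁻¹, ?_⟩, Finset.mem_univ _, Subtype.ext (by simp)⟩
        rw [← QuotientGroup.eq_one_iff, QuotientGroup.mk_mul, QuotientGroup.mk_inv,
          (Finset.mem_filter.1 hy).2, mul_inv_cancel]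
    have e1 : omega (cg a : L → ℂ) fq = (∑ m : N, f ((m : G) * a) * F ((m : G) * a)) / F 1 := by
      rw [omega, hL1, hone, ← hcgN a 1]
      congr 1
      · exact Finset.sum_congr rfl fun m _ => by rw [hcoset]
    have e2 : omega ((oneIrr L : IrrCharacter L) : L → ℂ) fq = ∑ m : N, f ((m : G) * a) := by
      rw [omega, hL1]
      simp [oneIrr]
    refine ⟨e1 ▸ memRing_omega hM hfqc hfqm (cg a), e2 ▸ memRing_omega hM hfqc hfqm (oneIrr L), ?_⟩
    rw [← e1, ← e2]
    exact (Zloc_res_congr hM (v := fun φ : IrrCharacter L => omega (φ : L → ℂ) fq)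
      (omega_mem_Zloc hM hfqc hfqm) (χ := oneIrr L) (ψ := cg a) (hcg a)).symm
  rw [omega, omega, hsplit, Finset.sum_div, hsplit,
    show (∑ q : G ⧸ N, ∑ m : N, f ((m : G) * q.out) *
      ((oneIrr G : IrrCharacter G) : G → ℂ) ((m : G) * q.out)) /
        ((oneIrr G : IrrCharacter G) : G → ℂ) 1 = ∑ q : G ⧸ N, ∑ m : N, f ((m : G) * q.out) by
      simp [oneIrr],
    res_sum hM fun q _ => (hpiece q.out).1, res_sum hM fun q _ => (hpiece q.out).2.1]
  exact Finset.sum_congr rfl fun q _ => (hpiece q.out).2.2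

/-- The Alperin–Dade correspondence. -/
theorem alperin_dade (hM : IsPModular p M) (h : CentSupp p N P) :
    (∀ χ ∈ principalBlock M G, ∃ θ ∈ principalBlock M N,
        ∀ x : N, (χ : G → ℂ) x = (θ : N → ℂ) x) ∧
      ∀ θ ∈ principalBlock M N, ∃! χ : IrrCharacter G,
        χ ∈ principalBlock M G ∧ ∀ x : N, (χ : G → ℂ) x = (θ : N → ℂ) x := by
  have hirr : ∀ (χ : IrrCharacter G) (θ : IrrCharacter N),
      (∀ x : N, (χ : G → ℂ) x = (θ : N → ℂ) x) → IsIrrCharacter N (fun x : N => (χ : G → ℂ) x) :=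
    fun χ θ e => by rw [funext e]; exact θ.2
  refine ⟨fun χ hχ => ?_, fun θ hθ => ?_⟩
  · obtain ⟨θ, hc⟩ := exists_res_constituent (N := N) χ
    have hθ := constituent_principal hM hχ hc
    obtain ⟨ψ, hψ, hψθ⟩ := exists_ext_principal hM h hθ
    refine ⟨θ, hθ, fun x => ?_⟩
    rw [eq_of_ext_principal hM h hψ hχ (hirr ψ θ hψθ) (by rw [funext hψθ]; exact hc), hψθ]
  · obtain ⟨ψ, hψ, hψθ⟩ := exists_ext_principal hM h hθ
    refine ⟨ψ, ⟨hψ, hψθ⟩, fun χ hχ => eq_of_ext_principal hM h hψ hχ.1 (hirr ψ θ hψθ) ?_⟩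
    rw [funext hχ.2, funext hψθ, classInner_irr_self θ.2]
    exact one_ne_zero

end chain

end CfsgLib.Blocks
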