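import Cfsg.Agent.Lib.Blocks.LocalBlocks

/-!
# Blocks over a normal `p`-subgroup
-/

namespace CfsgLib.Blocks

open Cfsg CfsgLib.CharTheory

set_option linter.unusedVariables false
set_option linter.unusedSimpArgs false
set_option linter.style.haveILetI false
set_option linter.unusedSectionVars false

universe u

variable {p : ℕ} {M : Ideal AlgInt} {G : Type u} [Group G] [Fintype G]

theorem exists_pair_of_unit (hM : IsPModular p M) {B : Set (IrrCharacter G)} (hB : IsPBlock M B)
    {R : Subgroup G} (hR : IsPGroup p R) {c : G} (hc : c ∈ Subgroup.centralizer (R : Set G))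
    (hu : ¬ MemLocalIdeal M (blockCoeff B c)) :
    ∃ e : Set (IrrCharacter (Subgroup.centralizer (R : Set G))),
      IsBrauerPairOf p M B R e := by
  haveI := res_isDomain hM
  haveI := Fintype.ofFinite (Subgroup.centralizer (R : Set G))
  have hn : Nice M R (blockCoeff B) := nice_blockCoeff hM hB
  obtain ⟨ξ, hξ⟩ : ∃ ξ, lam hM R (blockCoeff B) ξ = 1 := by
    by_contra hno
    push Not at hno
    refine hu ((res_eq_zero_iff hM (hn.mem c)).1
      (res_eq_zero_of_lam_zero hM hR hn (conv_blockCoeff B) (fun ξ => ?_) hc))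
    by_contra hx
    have h := lam_conv hM hR hn hn ξ
    rw [conv_blockCoeff] at h
    exact hno ξ ((mul_eq_left₀ hx).1 h.symm)
  exact ⟨blockOf M (ξ : _ → ℂ), ⟨hR, blockOf_isPBlock ξ⟩, hB,
    (forall_memIdeal_iff_lam hM hn (blockOf_isPBlock ξ) (mem_blockOf_self hM ξ)).2 hξ⟩

/-- The idempotent of a block above a normal `p`-subgroup is an orbit sum. -/
theorem blockCoeff_eq_orbit (hM : IsPModular p M) {P : Subgroup G} [P.Normal]
    (hP : IsPGroup p P) {B : Set (IrrCharacter G)}
    {e : Set (IrrCharacter (Subgroup.centralizer (P : Set G)))}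
    (h : IsBrauerPairOf p M B P e) (g : G) :
    blockCoeff B g = sext (Subgroup.centralizer (P : Set G)) (torbFn ⊤ e) g := by
  haveI := Fintype.ofFinite (Subgroup.centralizer (P : Set G))
  have hN : (⊤ : Subgroup G) ≤ Subgroup.normalizer (P : Set G) :=
    (Subgroup.normalizer_eq_top (H := P)).ge
  obtain ⟨F, hF, hcoef⟩ := exists_localBlock hM hP (le_top : P ≤ ⊤) le_top hN h.1.2
  set F' : Set (IrrCharacter G) := irrPull (Subgroup.topEquiv (G := G)).symm '' F with hF'
  have hF'b : IsPBlock M F' := isPBlock_image _ hF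
  have hc : ∀ x, blockCoeff F' x = sext (Subgroup.centralizer (P : Set G)) (torbFn ⊤ e) x := by
    intro x
    rw [hF', blockCoeff_image, hcoef]
    rfl
  obtain ⟨ξ, hξ⟩ := bne hM h.1.2
  obtain ⟨φ, hφ⟩ := exists_lam_irr hM hP ξ
  have hlam : lam hM P (blockCoeff F') ξ = 1 := by
    rw [show blockCoeff F' = sext (Subgroup.centralizer (P : Set G)) (torbFn ⊤ e) from funext hc,
      lam, brauerOmega_eq_omega]
    simp only [sext_coe]
    have hae : torbFn (⊤ : Subgroup G) e = cf (∑ b ∈ orbitIn (⊤ : Subgroup G) e, ind b) := by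
      funext k
      rw [cf_sum, Finset.sum_apply]
      simp only [cf_ind]
      rfl
    rw [show (fun c => torbFn (⊤ : Subgroup G) e c) = torbFn ⊤ e from rfl, hae, omega_cf,
      Finset.sum_apply,
      Finset.sum_eq_single e (fun b' hb' hne => ind_of_notMem fun h' => hne
        ((eq_blockOf hM (isPBlock_orbitIn h.1.2 hb') h').trans (eq_blockOf hM h.1.2 hξ).symm))
      (fun h' => absurd (self_mem_orbitIn ⊤ e) h'), ind_of_mem hξ, res_one]
  have hBF : B = F' := (eq_blockOf hM h.2.1 (lam_irr_mem hM h.2.1 hφ (pairOf_lam hM h hξ))).trans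
    (eq_blockOf hM hF'b (lam_irr_mem hM hF'b hφ hlam)).symm
  rw [hBF, hc]

/-- Block idempotents vanish off the centralizer of a normal `p`-subgroup. -/
theorem blockCoeff_off_centralizer (hM : IsPModular p M) {P : Subgroup G} [P.Normal]
    (hP : IsPGroup p P) {B : Set (IrrCharacter G)} (hB : IsPBlock M B) {g : G}
    (hg : g ∉ Subgroup.centralizer (P : Set G)) : blockCoeff B g = 0 := by
  obtain ⟨t, ht⟩ := exists_defectClass hM hB
  obtain ⟨e, he⟩ := exists_pair_of_unit hM hB hP (mem_centralizer_normal hM hB hP ht.2.1) ht.2.1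
  rw [blockCoeff_eq_orbit hM hP he, sext_off _ _ hg]

/-- Averaging over the group gives the orbit sum. -/
theorem sum_conj_eq_orbit {P : Subgroup G} [P.Normal]
    (e : Set (IrrCharacter (Subgroup.centralizer (P : Set G)))) {T : Subgroup G}
    (hT : ∀ x : G, x ∈ T ↔ StabilizesBlock (Subgroup.centralizer (P : Set G)) e x) (g : G) :
    (Nat.card T : ℂ)⁻¹ * ∑ x : G,
        subgroupBlockCoeff (Subgroup.centralizer (P : Set G)) e (x⁻¹ * g * x) =
      sext (Subgroup.centralizer (P : Set G)) (torbFn ⊤ e) g := by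
  classical
  have hN : ∀ x : G, x ∈ Subgroup.normalizer (P : Set G) := fun x =>
    (Subgroup.normalizer_eq_top (H := P)).ge (Subgroup.mem_top x)
  have hterm : ∀ x : G, subgroupBlockCoeff (Subgroup.centralizer (P : Set G)) e (x⁻¹ * g * x) =
      sext (Subgroup.centralizer (P : Set G)) (blockCoeff (rot (hN x) e)) g := by
    intro x
    have hx := normalizer_le_normalizer_cent P (hN x)
    have hiff := mem_normalizer_conj_iff hx (x⁻¹ * g * x)
    simp only [mul_assoc, mul_inv_cancel_left, mul_inv_cancel, mul_one] at hiff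
    by_cases h : g ∈ Subgroup.centralizer (P : Set G)
    · have e1 := sext_coe _ (blockCoeff (rot (hN x) e)) ⟨g, h⟩
      have e2 := sext_coe _ (blockCoeff e) (conjE hx ⟨g, h⟩)
      refine e2.trans (Eq.trans ?_ e1.symm)
      rw [rot, blockCoeff_image]
    · rw [subgroupBlockCoeff_eq, sext_off _ _ h, sext_off]
      rwa [mul_assoc, ← hiff]
  have himg : ∀ b, b ∈ orbitIn (⊤ : Subgroup G) e ↔
      b ∈ Finset.univ.image fun x : G => rot (hN x) e := by
    intro b
    rw [mem_orbitIn, Finset.mem_image]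
    constructor
    · rintro ⟨n, hn, -, h⟩; exact ⟨n, Finset.mem_univ _, h.symm⟩
    · rintro ⟨n, -, h⟩; exact ⟨n, hN n, Subgroup.mem_top n, h.symm⟩
  have hsext : sext (Subgroup.centralizer (P : Set G)) (torbFn ⊤ e) g =
      ∑ b ∈ orbitIn (⊤ : Subgroup G) e,
        sext (Subgroup.centralizer (P : Set G)) (blockCoeff b) g := by
    by_cases h : g ∈ Subgroup.centralizer (P : Set G)
    · simp [sext, h, torbFn]
    · simp [sext, h]
  rw [hsext, Finset.sum_congr rfl fun x _ => hterm x,
    ← Finset.sum_fiberwise_of_maps_to (g := fun x : G => rot (hN x) e)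
      (t := orbitIn (⊤ : Subgroup G) e) (fun x _ => (himg _).2 (Finset.mem_image_of_mem _
        (Finset.mem_univ x))), Finset.mul_sum]
  refine Finset.sum_congr rfl fun b hb => ?_
  rw [Finset.sum_congr rfl fun x hx => show sext (Subgroup.centralizer (P : Set G))
      (blockCoeff (rot (hN x) e)) g = sext (Subgroup.centralizer (P : Set G)) (blockCoeff b) g from by
      rw [(Finset.mem_filter.1 hx).2], Finset.sum_const, nsmul_eq_mul]
  have hcard : (Finset.univ.filter fun x : G => rot (hN x) e = b).card = Nat.card T := by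
    obtain ⟨n, hn, -, rfl⟩ := mem_orbitIn.1 hb
    rw [Nat.card_eq_fintype_card, ← Finset.card_univ]
    refine Finset.card_bij' (fun x hx => (⟨n⁻¹ * x, ?_⟩ : T)) (fun t _ => n * (t : G))
      (fun _ _ => Finset.mem_univ _) (fun t _ => ?_) (fun x hx => by simp) (fun t _ => by simp)
    · have hx' : rot (hN x) e = rot hn e := (Finset.mem_filter.1 hx).2
      rw [hT, stabilizesBlock_iff (normalizer_le_normalizer_cent P (hN _))]
      show rot (hN (n⁻¹ * x)) e = e
      rw [← rot_rot (hN n⁻¹) (hN x) e, hx', rot_rot]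
      exact rot_eq_self _ (inv_mul_cancel n) e
    · refine Finset.mem_filter.2 ⟨Finset.mem_univ _, ?_⟩
      have ht : rot (hN (t : G)) e = e :=
        (stabilizesBlock_iff (normalizer_le_normalizer_cent P (hN _))).1 ((hT _).1 t.2)
      rw [← rot_rot hn (hN (t : G)) e, ht]
  rw [hcard, ← mul_assoc, inv_mul_cancel₀ (Nat.cast_ne_zero.2 Nat.card_pos.ne'), one_mul]

end CfsgLib.Blocks
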