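import Cfsg.Agent.Lib.Blocks.Principal
import Cfsg.Prelude.Def_BlockRank
import Cfsg.Prelude.Def_BrauerPairs

/-!
# The regular rank of a block as a trace
-/

namespace CfsgLib.Blocks

open Cfsg CfsgLib.CharTheory
open scoped ComplexConjugate

set_option linter.unusedVariables false
set_option linter.unusedSimpArgs false
set_option linter.style.haveILetI false
set_option linter.unusedSectionVars false

universe u

variable {p : ℕ} {M : Ideal AlgInt} {G : Type u} [Group G] [Fintype G]

theorem pRegularPart_apply (χ : G → ℂ) (g : G) :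
    pRegularPart p χ g = if p ∣ orderOf g then 0 else χ g := by
  unfold pRegularPart IsPRegular
  by_cases h : p ∣ orderOf g <;> simp [h]

/-- The regular rank is the trace of the projection. -/
theorem card_mul_blockRank (hM : IsPModular p M) {B : Set (IrrCharacter G)} (hB : IsPBlock M B) :
    (Nat.card G : ℂ) * (blockRank p B : ℂ) =
      ∑ ψ ∈ bset B, regS p (ψ : G → ℂ) (ψ : G → ℂ) := by
  classical
  have hG : (Nat.card G : ℂ) ≠ 0 := Nat.cast_ne_zero.2 Nat.card_pos.ne'
  set W := Submodule.span ℂ ((fun χ : IrrCharacter G => pRegularPart p (χ : G → ℂ)) '' B) with hW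
  let P : (G → ℂ) →ₗ[ℂ] (G → ℂ) :=
    { toFun := fun f g => (Nat.card G : ℂ)⁻¹ * ∑ φ ∈ bset B,
        (∑ h, regFn p (φ : G → ℂ) h * f h) * pRegularPart p (φ : G → ℂ) g
      map_add' := fun f f' => funext fun g => by
        simp only [Pi.add_apply, mul_add, Finset.sum_add_distrib, add_mul]
      map_smul' := fun r f => funext fun g => by
        simp only [Pi.smul_apply, smul_eq_mul, RingHom.id_apply, mul_left_comm _ r, ← Finset.mul_sum,
          mul_assoc] }
  have hfix : ∀ χ ∈ B, P (pRegularPart p (χ : G → ℂ)) = pRegularPart p (χ : G → ℂ) := by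
    intro χ hχ
    funext g
    show (Nat.card G : ℂ)⁻¹ * ∑ φ ∈ bset B, (∑ h, regFn p (φ : G → ℂ) h *
      pRegularPart p (χ : G → ℂ) h) * pRegularPart p (φ : G → ℂ) g = _
    have e : ∀ φ : IrrCharacter G, ∑ h, regFn p (φ : G → ℂ) h * pRegularPart p (χ : G → ℂ) h =
        regS p (χ : G → ℂ) (φ : G → ℂ) := by
      intro φ
      refine Finset.sum_congr rfl fun h _ => ?_
      by_cases hh : p ∣ orderOf h <;> simp [regFn, pRegularPart_apply, hh]
    simp only [e]
    simp only [pRegularPart_apply]
    by_cases hg : p ∣ orderOf g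
    · simp [hg]
    · simp only [if_neg hg]
      rw [sum_regS_mul hM hB χ g, if_neg hg, ind_of_mem hχ, one_mul, ← mul_assoc,
        inv_mul_cancel₀ hG, one_mul]
  have hproj : LinearMap.IsProj W P := by
    refine ⟨fun f => ?_, fun f hf => ?_⟩
    · have e : P f = ∑ φ ∈ bset B, ((Nat.card G : ℂ)⁻¹ * ∑ h, regFn p (φ : G → ℂ) h * f h) •
          pRegularPart p (φ : G → ℂ) := by
        funext g
        show (Nat.card G : ℂ)⁻¹ * _ = _
        simp only [Finset.sum_apply, Pi.smul_apply, smul_eq_mul]
        rw [Finset.mul_sum]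
        exact Finset.sum_congr rfl fun _ _ => by ring
      rw [e]
      exact W.sum_mem fun φ hφ => W.smul_mem _
        (Submodule.subset_span ⟨φ, mem_bset.1 hφ, rfl⟩)
    · induction hf using Submodule.span_induction with
      | mem f hf => obtain ⟨χ, hχ, rfl⟩ := hf; exact hfix χ hχ
      | zero => exact map_zero _
      | add a b _ _ ha hb => rw [map_add, ha, hb]
      | smul r a _ ha => rw [map_smul, ha]
  have htr := hproj.trace
  rw [LinearMap.trace_eq_matrix_trace ℂ (Pi.basisFun ℂ G)] at htr
  rw [blockRank, ← hW, ← htr, Matrix.trace]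
  simp only [Matrix.diag, LinearMap.toMatrix_apply, Pi.basisFun_apply, Pi.basisFun_repr]
  have e : ∀ g : G, P (Pi.single g 1) g =
      (Nat.card G : ℂ)⁻¹ * ∑ φ ∈ bset B, regFn p (φ : G → ℂ) g * (φ : G → ℂ) g := by
    intro g
    show (Nat.card G : ℂ)⁻¹ * _ = _
    congr 1
    refine Finset.sum_congr rfl fun φ _ => ?_
    rw [Finset.sum_eq_single g (fun h _ hne => by rw [Pi.single_eq_of_ne hne, mul_zero])
      (by simp), Pi.single_eq_same, mul_one, pRegularPart_apply]
    by_cases hg : p ∣ orderOf g <;> simp [regFn, hg]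
  simp only [e, ← Finset.mul_sum]
  rw [← mul_assoc, mul_inv_cancel₀ hG, one_mul, Finset.sum_comm]
  rfl

theorem sum_reg_norm (p : ℕ) (ψ : IrrCharacter G) :
    ∑ y ∈ Finset.univ.filter (fun y => ¬ p ∣ orderOf y),
      (ψ : G → ℂ) y * conj ((ψ : G → ℂ) y) = regS p (ψ : G → ℂ) (ψ : G → ℂ) := by
  rw [regS_eq_sum]
  simp only [irr_conjInv]

theorem blockRank_le (B : Set (IrrCharacter G)) : blockRank p B ≤ Nat.card B := by
  classical
  rw [blockRank, Nat.card_eq_fintype_card, ← Set.toFinset_card]
  refine le_trans (le_of_eq ?_) ((finrank_span_finset_le_card (R := ℂ)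
    (B.toFinset.image fun χ : IrrCharacter G => pRegularPart p (χ : G → ℂ))).trans
    Finset.card_image_le)
  unfold Set.finrank
  rw [Finset.coe_image, Set.coe_toFinset]

theorem blockRank_singleton (hM : IsPModular p M) (χ : IrrCharacter G) :
    blockRank p ({χ} : Set (IrrCharacter G)) = 1 := by
  rw [blockRank, Set.image_singleton, finrank_span_singleton]
  intro h
  have := congrFun h 1
  rw [pRegularPart_apply, orderOf_one, if_neg hM.1.not_dvd_one] at this
  exact irr_one_ne_zero χ this

/-- Full regular rank forces a single character. -/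
theorem subsingleton_of_blockRank_eq (hM : IsPModular p M) {B : Set (IrrCharacter G)}
    (hB : IsPBlock M B) (h : Nat.card B = blockRank p B) : ∃ χ, B = {χ} := by
  classical
  obtain ⟨χ, hχ, h0⟩ := exists_height_zero hM hB
  refine ⟨χ, Set.eq_singleton_iff_unique_mem.2 ⟨hχ, fun ψ hψ => ?_⟩⟩
  by_contra hne
  have hli : LinearIndependent ℂ (fun φ : B => pRegularPart p ((φ : IrrCharacter G) : G → ℂ)) := by
    rw [linearIndependent_iff_card_eq_finrank_span, ← Nat.card_eq_fintype_card, h, blockRank]
    unfold Set.finrank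
    rw [← Set.image_eq_range (fun χ : IrrCharacter G => pRegularPart p (χ : G → ℂ)) B]
  have hvanish : ∀ φ ∈ B, ∀ y : G, p ∣ orderOf y → (φ : G → ℂ) y = 0 := by
    intro φ hφ y hy
    have h1 : ∑ i : B, ((i : IrrCharacter G) : G → ℂ) y •
        pRegularPart p ((i : IrrCharacter G) : G → ℂ) = 0 := by
      funext g
      rw [Finset.sum_apply, Pi.zero_apply]
      simp only [Pi.smul_apply, smul_eq_mul, pRegularPart_apply]
      by_cases hg : p ∣ orderOf g
      · simp [hg]
      · simp only [if_neg hg]
        refine Eq.trans ?_ (weak_orth hM hB hg hy)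
        rw [← Finset.sum_subtype (bset B) (fun i => mem_bset)
          (fun i : IrrCharacter G => (i : G → ℂ) y * (i : G → ℂ) g)]
        exact Finset.sum_congr rfl fun i _ => mul_comm _ _
    exact Fintype.linearIndependent_iff.1 hli _ h1 ⟨φ, hφ⟩
  have hzero : regS p (ψ : G → ℂ) (χ : G → ℂ) = 0 := by
    rw [regS]
    have e : ∀ g, regFn p (χ : G → ℂ) g * (ψ : G → ℂ) g =
        (ψ : G → ℂ) g * conj ((χ : G → ℂ) g) := by
      intro g
      by_cases hg : p ∣ orderOf g
      · simp [regFn, hg, hvanish ψ hψ g hg]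
      · simp [regFn, hg, irr_conjInv, mul_comm]
    rw [Finset.sum_congr rfl fun g _ => e g]
    have := classInner_irr_ne ψ.2 χ.2 (fun h' => hne (Subtype.ext h'))
    rw [classInner, mul_eq_zero] at this
    exact this.resolve_left (inv_ne_zero (Nat.cast_ne_zero.2 Nat.card_pos.ne'))
  exact not_memIdeal_omega_regFn hM hB hχ hψ h0 (by
    rw [omega_regFn, hzero, zero_div]; exact memIdeal_zero hM)

/-- A Brauer pair of `B` at a cyclic `p`-group gives an inducing block. -/
theorem isInducedBlock_of_brauerPair (hM : IsPModular p M) (P : Subgroup G)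
    [Fintype (Subgroup.centralizer (P : Set G))] {B : Set (IrrCharacter G)}
    {e : Set (IrrCharacter (Subgroup.centralizer (P : Set G)))} (hP : IsBrauerPairOf p M B P e)
    (hPC : P ≤ Subgroup.centralizer (P : Set G)) :
    IsInducedBlock M (Subgroup.centralizer (P : Set G)) e B := by
  classical
  obtain ⟨⟨hPp, he⟩, hB, h1⟩ := hP
  set H := Subgroup.centralizer (P : Set G) with hH
  have hN : H ≤ Subgroup.normalizer (P : Set G) := by
    intro u hu
    rw [Subgroup.mem_normalizer_iff]
    intro r
    constructor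
    · intro hr
      rw [← hu r hr, mul_inv_cancel_right]; exact hr
    · intro hr
      have := hu _ hr
      rw [inv_mul_cancel_right, mul_assoc] at this
      rw [show r = u * r * u⁻¹ from mul_left_cancel (a := u) (by rw [← mul_assoc] at this ⊢; simpa [mul_assoc] using this)]
      exact hr
  obtain ⟨ξ, hξ⟩ := block_nonempty hM he
  obtain ⟨φ, hφ⟩ := exists_induced_brauer P H hM hPp le_rfl hPC hN ξ
  refine isInducedBlock_of_congr H hM he hB hξ ?_ hφ
  by_contra hφB
  have h := h1 ξ hξ
  have e1 : brauerOmega P (blockCoeff B) (ξ : H → ℂ) =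
      omega (ξ : H → ℂ) (fun k : H => blockCoeff B k) := by
    rw [brauerOmega, finsum_eq_sum_of_fintype, omega, Finset.sum_div]
  have hres : IsClassFunction H (fun k : H => blockCoeff B k) :=
    fun x y => blockCoeff_isClassFunction _ (x : G) (y : G)
  rw [e1, memIdeal_sub_iff hM (memRing_omega hM hres (fun k => memRing_blockCoeff hM hB _) ξ)
    (loc hM).one_mem, res_omega_of_induced H hM ξ φ hφ (blockCoeff_isClassFunction _)
      (memRing_blockCoeff hM hB), ← cf_ind, omega_cf, ind_of_notMem hφB, res_zero, res_one] at h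
  haveI := res_isDomain hM
  exact one_ne_zero h.symm

end CfsgLib.Blocks
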