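import Cfsg.Agent.Lib.Blocks.PCent
import Cfsg.Agent.Lib.Blocks.NormalPair
import Cfsg.Agent.Lib.Blocks.Proj
import Cfsg.Agent.Lib.Blocks.Rank
import Cfsg.Agent.Lib.CharTheory.Clifford

/-!
# Blocks of `P C(P)` with defect group `P`
-/

namespace CfsgLib.Blocks

open Cfsg CfsgLib.CharTheory
open scoped ComplexConjugate

set_option linter.unusedVariables false
set_option linter.unusedSimpArgs false
set_option linter.style.haveILetI false
set_option linter.unusedSectionVars false

universe u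

variable {p : ℕ} {M : Ideal AlgInt} {G : Type u} [Group G] [Fintype G] {P : Subgroup G}

/-- The elements `u y` with `u ∈ P` and `y` a `p`-regular element centralizing `P`. -/
def OnPReg (p : ℕ) (P : Subgroup G) (g : G) : Prop :=
  ∃ u ∈ P, ∃ y ∈ Subgroup.centralizer (P : Set G), ¬ p ∣ orderOf y ∧ g = u * y

theorem pReg_unique (hM : IsPModular p M) (hP : IsPGroup p P) {u u' y y' : G} (hu : u ∈ P)
    (hu' : u' ∈ P) (hy : y ∈ Subgroup.centralizer (P : Set G))
    (hy' : y' ∈ Subgroup.centralizer (P : Set G)) (hr : ¬ p ∣ orderOf y) (hr' : ¬ p ∣ orderOf y')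
    (h : u * y = u' * y') : u = u' ∧ y = y' := by
  obtain ⟨k, hk⟩ := hP ⟨u, hu⟩
  obtain ⟨k', hk'⟩ := hP ⟨u', hu'⟩
  have hu1 : u ^ p ^ (k + k') = 1 := by
    rw [pow_add, pow_mul, show u ^ p ^ k = 1 by simpa using congrArg Subtype.val hk, one_pow]
  have hu2 : u' ^ p ^ (k + k') = 1 := by
    rw [pow_add, mul_comm, pow_mul,
      show u' ^ p ^ k' = 1 by simpa using congrArg Subtype.val hk', one_pow]
  have hc : Commute u y := hy u hu
  have hc' : Commute u' y' := hy' u' hu'
  have he : y ^ p ^ (k + k') = y' ^ p ^ (k + k') := by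
    have := congrArg (· ^ p ^ (k + k')) h
    simp only [hc.mul_pow, hc'.mul_pow, hu1, hu2, one_mul] at this
    exact this
  have hco : (p ^ (k + k')).Coprime (orderOf ((y, y') : G × G)) := by
    rw [Prod.orderOf]
    refine ((hM.1.coprime_iff_not_dvd.2 ?_).pow_left _)
    exact fun hd => (hM.1.dvd_mul.1 (hd.trans (Nat.lcm_dvd_mul _ _))).elim hr hr'
  obtain ⟨m, hm⟩ := exists_pow_eq_self_of_coprime hco
  have h1 := congrArg Prod.fst hm
  have h2 := congrArg Prod.snd hm
  simp only [Prod.pow_fst, Prod.pow_snd] at h1 h2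
  have hyy : y = y' := by rw [← h1, he, h2]
  subst hyy
  exact ⟨mul_right_cancel h, rfl⟩

theorem regS_self_eq (p : ℕ) (χ : IrrCharacter G) :
    regS p (χ : G → ℂ) (χ : G → ℂ) =
      ((∑ y ∈ Finset.univ.filter (fun y => ¬ p ∣ orderOf y),
        Complex.normSq ((χ : G → ℂ) y) : ℝ) : ℂ) := by
  rw [regS_eq_sum, Complex.ofReal_sum]
  refine Finset.sum_congr rfl fun y _ => ?_
  rw [irr_inv, Complex.mul_conj]

theorem sum_normSq_irr (χ : IrrCharacter G) :
    ∑ g, Complex.normSq ((χ : G → ℂ) g) = (Nat.card G : ℝ) := by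
  have h := classInner_irr_self χ.2
  rw [classInner, inv_mul_eq_one₀ (Nat.cast_ne_zero.2 Nat.card_pos.ne')] at h
  simp only [Complex.mul_conj] at h
  rw [← Complex.ofReal_sum] at h
  exact_mod_cast h.symm

/-- The norm bound: a character of constant absolute value on the cosets `y P` vanishes off
`P` times the regular elements and has height zero. -/
theorem norm_bound (hM : IsPModular p M) (hP : IsPGroup p P)
    (hreg : ∀ y : G, ¬ p ∣ orderOf y → y ∈ Subgroup.centralizer (P : Set G))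
    {B : Set (IrrCharacter G)} (hB : IsPBlock M B) (hcard : Nat.card P = p ^ blockDefect p B)
    {χ : IrrCharacter G} (hχ : χ ∈ B)
    (hnorm : ∀ u ∈ P, ∀ y : G, ¬ p ∣ orderOf y →
      Complex.normSq ((χ : G → ℂ) (u * y)) = Complex.normSq ((χ : G → ℂ) y)) :
    (Nat.card P : ℂ) * regS p (χ : G → ℂ) (χ : G → ℂ) = (Nat.card G : ℂ) ∧
      (∀ g, ¬ OnPReg p P g → (χ : G → ℂ) g = 0) ∧ dv p (χ : G → ℂ) = minDv p B := by
  classical
  set R := Finset.univ.filter (fun y : G => ¬ p ∣ orderOf y) with hR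
  set S := (Finset.univ ×ˢ R).image (fun x : P × G => (x.1 : G) * x.2) with hS
  set T := ∑ y ∈ R, Complex.normSq ((χ : G → ℂ) y) with hT
  have hsum : ∑ g ∈ S, Complex.normSq ((χ : G → ℂ) g) = (Nat.card P : ℝ) * T := by
    rw [hS, Finset.sum_image, Finset.sum_product, Finset.sum_congr rfl fun (u : P) _ =>
      Finset.sum_congr rfl fun y hy => hnorm (u : G) u.2 y (Finset.mem_filter.1 hy).2, Finset.sum_const,
      Finset.card_univ, ← Nat.card_eq_fintype_card, nsmul_eq_mul]
    rintro ⟨u, y⟩ hy ⟨u', y'⟩ hy' h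
    simp only [Finset.mem_coe, Finset.mem_product, Finset.mem_univ, true_and, hR,
      Finset.mem_filter] at hy hy'
    obtain ⟨h1, h2⟩ := pReg_unique hM hP u.2 u'.2 (hreg _ hy) (hreg _ hy') hy hy' h
    exact Prod.ext (Subtype.ext h1) h2
  have hle : ∑ g ∈ S, Complex.normSq ((χ : G → ℂ) g) ≤ ∑ g, Complex.normSq ((χ : G → ℂ) g) :=
    Finset.sum_le_univ_sum_of_nonneg (fun g => Complex.normSq_nonneg _)
  have hT0 : 0 < T := by
    refine Finset.sum_pos' (fun g _ => Complex.normSq_nonneg _) ⟨1, ?_, ?_⟩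
    · simpa [hR] using hM.1.ne_one
    · exact Complex.normSq_pos.2 (irr_one_ne_zero χ)
  obtain ⟨q, hq, -, -, -, hqh⟩ := exists_int_proj hM hB hχ hχ
  have hreg' : regS p (χ : G → ℂ) (χ : G → ℂ) = (T : ℂ) := regS_self_eq p χ
  have hqR : (Nat.card P : ℝ) * T = (Nat.card G : ℝ) * (q : ℝ) := by
    rw [hreg', ← Nat.cast_pow, ← hcard] at hq
    exact_mod_cast hq
  have hG0 : (0 : ℝ) < Nat.card G := Nat.cast_pos.2 Nat.card_pos
  have hq1 : q = 1 := by
    rw [hsum, sum_normSq_irr, hqR] at hle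
    have h1 : (q : ℝ) ≤ 1 := le_of_mul_le_mul_left (by rwa [mul_one]) hG0
    have h2 : (0 : ℝ) < q := by
      have : (0 : ℝ) < (Nat.card G : ℝ) * q :=
        hqR ▸ mul_pos (Nat.cast_pos.2 Nat.card_pos) hT0
      exact (pos_iff_pos_of_mul_pos this).1 hG0
    have h1' : q ≤ 1 := by exact_mod_cast h1
    have h2' : 0 < q := by exact_mod_cast h2
    omega
  refine ⟨?_, fun g hg => ?_, ?_⟩
  · rw [hcard, Nat.cast_pow, hq, hq1, Int.cast_one, mul_one]
  · have heq : ∑ g ∈ S, Complex.normSq ((χ : G → ℂ) g) = ∑ g, Complex.normSq ((χ : G → ℂ) g) := by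
      rw [hsum, sum_normSq_irr, hqR, hq1, Int.cast_one, mul_one]
    have hgS : g ∉ S := by
      intro h
      obtain ⟨⟨u, y⟩, hy, rfl⟩ := Finset.mem_image.1 h
      have hy' := (Finset.mem_filter.1 (Finset.mem_product.1 hy).2).2
      exact hg ⟨u, u.2, y, hreg y hy', hy', rfl⟩
    have h0 : ∑ x ∈ Finset.univ \ S, Complex.normSq ((χ : G → ℂ) x) = 0 := by
      rw [← Finset.sum_sdiff (Finset.subset_univ S)] at heq
      linarith
    exact Complex.normSq_eq_zero.1 ((Finset.sum_eq_zero_iff_of_nonneg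
      (fun x _ => Complex.normSq_nonneg _)).1 h0 g
      (Finset.mem_sdiff.2 ⟨Finset.mem_univ _, hgS⟩))
  · refine le_antisymm ?_ (minDv_le hχ)
    by_contra h
    have hd := hqh (not_le.1 h)
    rw [hq1] at hd
    have hu : (p : ℤ) ∣ 1 := (dvd_pow_self _ (by omega)).trans hd
    exact hM.1.not_dvd_one (by exact_mod_cast hu)

section pcent

variable [P.Normal]

theorem exists_decomp (hG : P ⊔ Subgroup.centralizer (P : Set G) = ⊤) (g : G) :
    ∃ u ∈ P, ∃ c ∈ Subgroup.centralizer (P : Set G), g = u * c := by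
  have h : g ∈ ((P ⊔ Subgroup.centralizer (P : Set G) : Subgroup G) : Set G) := by
    rw [hG]; trivial
  rw [Subgroup.mul_normal] at h
  obtain ⟨u, hu, c, hc, hgc⟩ := Set.mem_mul.1 h
  exact ⟨u, hu, c, hc, hgc.symm⟩

theorem reg_mem_cent (hM : IsPModular p M) (hP : IsPGroup p P)
    (hG : P ⊔ Subgroup.centralizer (P : Set G) = ⊤) {y : G} (hy : ¬ p ∣ orderOf y) :
    y ∈ Subgroup.centralizer (P : Set G) := by
  obtain ⟨q, hq, c, hc, rfl⟩ := exists_decomp hG y
  have hq1 : (QuotientGroup.mk (q * c) : G ⧸ Subgroup.centralizer (P : Set G)) =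
      QuotientGroup.mk q := by
    rw [QuotientGroup.eq, show (q * c)⁻¹ * q = c⁻¹ by group]
    exact Subgroup.inv_mem _ hc
  obtain ⟨k, hk⟩ := hP ⟨q, hq⟩
  have hxq : (QuotientGroup.mk (q * c) : G ⧸ Subgroup.centralizer (P : Set G)) ^ (p ^ k) = 1 := by
    rw [hq1, ← QuotientGroup.mk_pow, show q ^ (p ^ k) = 1 by simpa using congrArg Subtype.val hk]
    rfl
  exact (QuotientGroup.eq_one_iff _).1 (orderOf_eq_one_iff.1 (Nat.eq_one_of_dvd_coprimes
    ((hM.1.coprime_iff_not_dvd.2 hy).pow_left k) (orderOf_dvd_of_pow_eq_one hxq)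
    (orderOf_map_dvd (QuotientGroup.mk' (Subgroup.centralizer (P : Set G))) (q * c))))

/-- A character with `P` in its kernel is constant on cosets of `P`. -/
theorem triv_mul {θ : IrrCharacter G} (hθ : ∀ x ∈ P, (θ : G → ℂ) x = (θ : G → ℂ) 1) {u : G}
    (hu : u ∈ P) (g : G) : (θ : G → ℂ) (u * g) = (θ : G → ℂ) g := by
  classical
  have h := sum_classFun_mul_shift (avgFn_isClassFunction P) θ
  rw [(omega_avgFn P θ).2.2 hθ] at h
  calc (θ : G → ℂ) (u * g) = ∑ x, avgFn P x * (θ : G → ℂ) (x * (u * g)) := by rw [h, one_mul]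
    _ = ∑ x, avgFn P x * (θ : G → ℂ) (x * g) := by
      refine Fintype.sum_equiv (Equiv.mulRight u) _ _ fun x => ?_
      simp only [Equiv.coe_mulRight, mul_assoc, avgFn, P.mul_mem_cancel_right hu]
    _ = (θ : G → ℂ) g := by rw [h, one_mul]

/-- A block with `P` in the centralizer of its regular elements has a character trivial on `P`. -/
theorem exists_triv (hM : IsPModular p M) (hP : IsPGroup p P)
    {B : Set (IrrCharacter G)} (hB : IsPBlock M B) :
    ∃ θ ∈ B, ∀ x ∈ P, (θ : G → ℂ) x = (θ : G → ℂ) 1 := by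
  classical
  by_contra hno
  push Not at hno
  have h0 : ∀ ψ ∈ bset B, ∑ x, avgFn P x * (ψ : G → ℂ) x = 0 := by
    intro ψ hψ
    obtain ⟨x, hx, hne⟩ := hno ψ (mem_bset.1 hψ)
    rcases (omega_avgFn P ψ).1 with h | h
    · rw [omega, div_eq_zero_iff] at h
      exact h.resolve_right (irr_one_ne_zero ψ)
    · exact absurd ((omega_avgFn P ψ).2.1 h x hx) hne
  have h1 : ∑ ψ ∈ bset B, (ψ : G → ℂ) 1 * ∑ x, avgFn P x * (ψ : G → ℂ) x = 0 :=
    Finset.sum_eq_zero fun ψ hψ => by rw [h0 ψ hψ, mul_zero]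
  simp only [Finset.mul_sum] at h1
  rw [Finset.sum_comm, Finset.sum_eq_single (1 : G)] at h1
  · have h2 : ∑ ψ ∈ bset B, (ψ : G → ℂ) 1 * (avgFn P 1 * (ψ : G → ℂ) 1) =
        (((Nat.card P : ℝ)⁻¹ * ∑ ψ ∈ bset B, Complex.normSq ((ψ : G → ℂ) 1) : ℝ) : ℂ) := by
      push_cast
      rw [Finset.mul_sum]
      refine Finset.sum_congr rfl fun ψ _ => ?_
      rw [Complex.normSq_eq_conj_mul_self, irr_one_conj, avgFn, if_pos P.one_mem]
      ring
    rw [h2, Complex.ofReal_eq_zero, mul_eq_zero] at h1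
    rcases h1 with h1 | h1
    · exact (inv_ne_zero (Nat.cast_ne_zero.2 Nat.card_pos.ne')) h1
    · obtain ⟨ψ, hψ⟩ := block_nonempty hM hB
      exact irr_one_ne_zero ψ (Complex.normSq_eq_zero.1 ((Finset.sum_eq_zero_iff_of_nonneg
        (fun x _ => Complex.normSq_nonneg _)).1 h1 ψ (mem_bset.2 hψ)))
  · intro x _ hx1
    by_cases hx : x ∈ P
    · have hpx : p ∣ orderOf x := by
        haveI : Fact p.Prime := ⟨hM.1⟩
        obtain ⟨k, hk⟩ := hP.exists_card_eq
        have hd : orderOf (⟨x, hx⟩ : P) ∣ p ^ k := hk ▸ orderOf_dvd_natCard _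
        rw [Subgroup.orderOf_mk] at hd
        obtain ⟨j, -, hj⟩ := (Nat.dvd_prime_pow hM.1).1 hd
        rcases j.eq_zero_or_pos with hj0 | hj0
        · exact absurd (orderOf_eq_one_iff.1 (by rw [hj, hj0, pow_zero])) hx1
        · rw [hj]; exact dvd_pow_self p hj0.ne'
      have hw := weak_orth hM hB (x := 1) (y := x) (by simpa using hM.1.not_dvd_one) hpx
      calc ∑ ψ ∈ bset B, (ψ : G → ℂ) 1 * (avgFn P x * (ψ : G → ℂ) x)
          = avgFn P x * ∑ ψ ∈ bset B, (ψ : G → ℂ) 1 * (ψ : G → ℂ) x := by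
            rw [Finset.mul_sum]; exact Finset.sum_congr rfl fun ψ _ => by ring
        _ = 0 := by rw [hw, mul_zero]
    · simp [avgFn, hx]
  · simp

/-- The structure of the character trivial on `P`. -/
theorem triv_props (hM : IsPModular p M) (hP : IsPGroup p P)
    (hG : P ⊔ Subgroup.centralizer (P : Set G) = ⊤)
    {B : Set (IrrCharacter G)} (hB : IsPBlock M B) (hcard : Nat.card P = p ^ blockDefect p B)
    {θ : IrrCharacter G} (hθB : θ ∈ B) (hθ : ∀ x ∈ P, (θ : G → ℂ) x = (θ : G → ℂ) 1) :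
    (Nat.card P : ℂ) * regS p (θ : G → ℂ) (θ : G → ℂ) = (Nat.card G : ℂ) ∧
      (∀ g, ¬ OnPReg p P g → (θ : G → ℂ) g = 0) ∧ dv p (θ : G → ℂ) = minDv p B :=
  norm_bound hM hP (fun y hy => reg_mem_cent hM hP hG hy) hB hcard hθB
    fun u hu y _ => by rw [triv_mul hθ hu]

theorem triv_unique (hM : IsPModular p M) (hP : IsPGroup p P)
    (hG : P ⊔ Subgroup.centralizer (P : Set G) = ⊤)
    {B : Set (IrrCharacter G)} (hB : IsPBlock M B) (hcard : Nat.card P = p ^ blockDefect p B)
    {θ θ' : IrrCharacter G} (hθB : θ ∈ B) (hθ : ∀ x ∈ P, (θ : G → ℂ) x = (θ : G → ℂ) 1)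
    (hθB' : θ' ∈ B) (hθ' : ∀ x ∈ P, (θ' : G → ℂ) x = (θ' : G → ℂ) 1) : θ = θ' := by
  classical
  obtain ⟨-, hv, h0⟩ := triv_props hM hP hG hB hcard hθB hθ
  obtain ⟨-, -, h0'⟩ := triv_props hM hP hG hB hcard hθB' hθ'
  obtain ⟨q, hq, -, hnd, -, -⟩ := exists_int_proj hM hB hθB hθB'
  by_contra hne
  have hne' : (θ : G → ℂ) ≠ (θ' : G → ℂ) := fun h => hne (Subtype.ext h)
  have horth := classInner_irr_ne θ.2 θ'.2 hne'
  rw [classInner, mul_eq_zero] at horth
  replace horth := horth.resolve_left (inv_ne_zero (Nat.cast_ne_zero.2 Nat.card_pos.ne'))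
  set R := Finset.univ.filter (fun y : G => ¬ p ∣ orderOf y) with hR
  have hsum : ∑ g, (θ : G → ℂ) g * conj ((θ' : G → ℂ) g) =
      (Nat.card P : ℂ) * regS p (θ : G → ℂ) (θ' : G → ℂ) := by
    rw [← Finset.sum_subset (Finset.subset_univ
      ((Finset.univ ×ˢ R).image (fun x : P × G => (x.1 : G) * x.2))), Finset.sum_image,
      Finset.sum_product, regS_eq_sum]
    · have e : ∀ (u : P) (y : G), (θ : G → ℂ) ((u : G) * y) * conj ((θ' : G → ℂ) ((u : G) * y)) =
          (θ : G → ℂ) y * (θ' : G → ℂ) y⁻¹ := fun u y => by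
        rw [triv_mul hθ u.2, triv_mul hθ' u.2, irr_conjInv]
      simp only [e, Finset.sum_const, Finset.card_univ, nsmul_eq_mul, ← Nat.card_eq_fintype_card]
      rfl
    · rintro ⟨u, y⟩ hy ⟨u', y'⟩ hy' h
      simp only [Finset.mem_coe, Finset.mem_product, Finset.mem_univ, true_and, hR,
        Finset.mem_filter] at hy hy'
      obtain ⟨h1, h2⟩ := pReg_unique hM hP u.2 u'.2 (reg_mem_cent hM hP hG hy)
        (reg_mem_cent hM hP hG hy') hy hy' h
      exact Prod.ext (Subtype.ext h1) h2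
    · intro g _ hg
      rw [hv g ?_, zero_mul]
      rintro ⟨u, hu, y, hy, hyr, rfl⟩
      exact hg (Finset.mem_image.2 ⟨(⟨u, hu⟩, y), by simp [hR, hyr], rfl⟩)
  rw [horth, hcard, Nat.cast_pow, hq] at hsum
  have hq0 : q = 0 := by
    rcases mul_eq_zero.1 hsum.symm with h | h
    · exact absurd h (Nat.cast_ne_zero.2 Nat.card_pos.ne')
    · exact_mod_cast h
  exact hnd h0 h0' (hq0 ▸ dvd_zero _)

/-- All characters of the block are proportional to `θ` on regular elements. -/
theorem reg_prop (hM : IsPModular p M) (hP : IsPGroup p P)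
    (hG : P ⊔ Subgroup.centralizer (P : Set G) = ⊤)
    {B : Set (IrrCharacter G)} (hB : IsPBlock M B) (hcard : Nat.card P = p ^ blockDefect p B)
    {θ : IrrCharacter G} (hθB : θ ∈ B) (hθ : ∀ x ∈ P, (θ : G → ℂ) x = (θ : G → ℂ) 1)
    {χ : IrrCharacter G} (hχ : χ ∈ B) {y : G} (hy : ¬ p ∣ orderOf y) :
    (Nat.card P : ℂ) * regS p (χ : G → ℂ) (θ : G → ℂ) * (θ : G → ℂ) y =
      (Nat.card G : ℂ) * (χ : G → ℂ) y := by
  classical
  have hPne : (Nat.card P : ℂ) ≠ 0 := Nat.cast_ne_zero.2 Nat.card_pos.ne'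
  have h1 : ∑ x, avgFn P x * ∑ ψ ∈ bset B, regS p (χ : G → ℂ) (ψ : G → ℂ) * (ψ : G → ℂ) (x * y) =
      (Nat.card P : ℂ)⁻¹ * ((Nat.card G : ℂ) * (χ : G → ℂ) y) := by
    rw [Finset.sum_eq_single (1 : G)]
    · rw [one_mul, sum_regS_mul hM hB χ y, if_neg hy, ind_of_mem hχ, one_mul, avgFn,
        if_pos P.one_mem]
    · intro x _ hx1
      by_cases hx : x ∈ P
      · rw [sum_regS_mul hM hB χ (x * y), if_pos, mul_zero]
        by_contra hxy
        exact hx1 (pReg_unique hM hP hx P.one_mem (reg_mem_cent hM hP hG hy)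
          (reg_mem_cent hM hP hG hxy) hy hxy (one_mul _).symm).1
      · simp [avgFn, hx]
    · simp
  simp only [Finset.mul_sum] at h1
  rw [Finset.sum_comm] at h1
  have h2 : ∀ ψ : IrrCharacter G, ∑ x, avgFn P x * (regS p (χ : G → ℂ) (ψ : G → ℂ) *
      (ψ : G → ℂ) (x * y)) = regS p (χ : G → ℂ) (ψ : G → ℂ) *
        (omega (ψ : G → ℂ) (avgFn P) * (ψ : G → ℂ) y) := by
    intro ψ
    rw [← sum_classFun_mul_shift (avgFn_isClassFunction P) ψ y, Finset.mul_sum]
    exact Finset.sum_congr rfl fun x _ => by ring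
  simp only [h2] at h1
  rw [Finset.sum_eq_single θ, (omega_avgFn P θ).2.2 hθ, one_mul] at h1
  · rw [mul_assoc, h1, ← mul_assoc, mul_inv_cancel₀ hPne, one_mul]
  · intro ψ hψ hne
    rcases (omega_avgFn P ψ).1 with h | h
    · rw [h, zero_mul, mul_zero]
    · exact absurd (triv_unique hM hP hG hB hcard (mem_bset.1 hψ) ((omega_avgFn P ψ).2.1 h)
        hθB hθ) hne
  · intro h; exact absurd (mem_bset.2 hθB) h

theorem blockRank_pcent (hM : IsPModular p M) (hP : IsPGroup p P)
    (hG : P ⊔ Subgroup.centralizer (P : Set G) = ⊤)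
    {B : Set (IrrCharacter G)} (hB : IsPBlock M B) (hcard : Nat.card P = p ^ blockDefect p B) :
    blockRank p B = 1 := by
  obtain ⟨θ, hθB, hθ⟩ := exists_triv hM hP hB
  refine le_antisymm ?_ ?_
  · refine (Submodule.finrank_mono (t := Submodule.span ℂ
      {pRegularPart p (θ : G → ℂ)}) ?_).trans ((finrank_span_le_card _).trans (by simp))
    rw [Submodule.span_le]
    rintro _ ⟨χ, hχ, rfl⟩
    refine Submodule.mem_span_singleton.2 ⟨(Nat.card P : ℂ) * regS p (χ : G → ℂ) (θ : G → ℂ) /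
      (Nat.card G : ℂ), funext fun x => ?_⟩
    simp only [Pi.smul_apply, smul_eq_mul, pRegularPart_apply]
    by_cases hx : p ∣ orderOf x
    · simp [hx]
    · rw [if_neg hx, if_neg hx, div_mul_eq_mul_div, reg_prop hM hP hG hB hcard hθB hθ hχ hx,
        mul_div_cancel_left₀ _ (Nat.cast_ne_zero.2 Nat.card_pos.ne')]
  · rw [blockRank, Nat.one_le_iff_ne_zero, Ne, Submodule.finrank_eq_zero, Submodule.eq_bot_iff]
    intro h0
    have := congrFun (h0 _ (Submodule.subset_span ⟨θ, hθB, rfl⟩)) 1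
    simp [pRegularPart_apply, hM.1.ne_one, irr_one_ne_zero θ] at this

end pcent

section central

variable {Z : Subgroup G}

theorem sup_cent_of_central (hZ : Z ≤ Subgroup.center G) :
    Z ⊔ Subgroup.centralizer (Z : Set G) = ⊤ := by
  refine eq_top_iff.2 fun g _ => (le_sup_right : Subgroup.centralizer (Z : Set G) ≤ _) ?_
  exact fun z hz => (Subgroup.mem_center_iff.1 (hZ hz) g).symm

theorem normal_of_central (hZ : Z ≤ Subgroup.center G) : Z.Normal :=
  ⟨fun z hz g => by rwa [Subgroup.mem_center_iff.1 (hZ hz) g, mul_inv_cancel_right]⟩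

/-- Central elements act by roots of unity. -/
theorem normSq_central_mul {z : G} (hz : z ∈ Subgroup.center G) (χ : IrrCharacter G) (g : G) :
    Complex.normSq ((χ : G → ℂ) (z * g)) = Complex.normSq ((χ : G → ℂ) g) := by
  classical
  set ω := (χ : G → ℂ) z / (χ : G → ℂ) 1 with hω
  have hcl : IsClassFunction G (fun x : G => if x = z then (1 : ℂ) else 0) := by
    intro a b
    have : b * a * b⁻¹ = z ↔ a = z := by
      constructor
      · intro h
        rw [← h] at hz ⊢
        have := Subgroup.mem_center_iff.1 hz b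
        calc a = b⁻¹ * ((b * a * b⁻¹) * b) := by group
          _ = b⁻¹ * (b * (b * a * b⁻¹)) := by rw [this]
          _ = b * a * b⁻¹ := by group
      · intro h
        rw [h, Subgroup.mem_center_iff.1 hz b, mul_inv_cancel_right]
    simp only [this]
  have hmul : ∀ g, (χ : G → ℂ) (z * g) = ω * (χ : G → ℂ) g := by
    intro g
    have h := sum_classFun_mul_shift hcl χ g
    simpa [omega, hω] using h
  have hiter : ∀ k : ℕ, (χ : G → ℂ) (z ^ k) = ω ^ k * (χ : G → ℂ) 1 := by
    intro k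
    induction k with
    | zero => simp
    | succ k ih => rw [pow_succ', hmul, ih, pow_succ' ω]; ring
  have h1 : Complex.normSq ω ^ orderOf z = 1 := by
    have h := hiter (orderOf z)
    rw [pow_orderOf_eq_one] at h
    rw [← map_pow, (mul_eq_right₀ (irr_one_ne_zero χ)).1 h.symm, map_one]
  rw [hmul, map_mul, (pow_eq_one_iff_of_nonneg (Complex.normSq_nonneg _) (orderOf_pos z).ne').1 h1,
    one_mul]

theorem central_props (hM : IsPModular p M) (hZ : Z ≤ Subgroup.center G) (hZp : IsPGroup p Z)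
    {B : Set (IrrCharacter G)} (hB : IsPBlock M B) (hcard : Nat.card Z = p ^ blockDefect p B)
    {χ : IrrCharacter G} (hχ : χ ∈ B) :
    (Nat.card Z : ℂ) * regS p (χ : G → ℂ) (χ : G → ℂ) = (Nat.card G : ℂ) ∧
      (∀ g, ¬ OnPReg p Z g → (χ : G → ℂ) g = 0) ∧ dv p (χ : G → ℂ) = minDv p B := by
  refine norm_bound hM hZp ?_ hB hcard hχ fun u hu y _ => normSq_central_mul (hZ hu) χ y
  exact fun y _ z hz => (Subgroup.mem_center_iff.1 (hZ hz) y).symm

end central

section structure_pcent

variable [P.Normal]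

/-- Data: the values of the characters of `B` on `P` times the regular elements. -/
theorem char_values (hM : IsPModular p M) (hP : IsPGroup p P)
    (hG : P ⊔ Subgroup.centralizer (P : Set G) = ⊤)
    {B : Set (IrrCharacter G)} (hB : IsPBlock M B) (hD : IsDefectGroup p M B P)
    {θ : IrrCharacter G} (hθB : θ ∈ B) (hθ : ∀ x ∈ P, (θ : G → ℂ) x = (θ : G → ℂ) 1)
    {χ : IrrCharacter G} (hχ : χ ∈ B) :
    (∀ g, ¬ OnPReg p P g → (χ : G → ℂ) g = 0) ∧
      ∀ u ∈ P, ∀ y : G, ¬ p ∣ orderOf y →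
        (χ : G → ℂ) (u * y) * (θ : G → ℂ) 1 = (χ : G → ℂ) u * (θ : G → ℂ) y := by
  classical
  haveI : Fintype (Subgroup.centralizer (P : Set G)) := Fintype.ofFinite _
  obtain ⟨e, hmax⟩ := exists_maximal_at hM hB hD
  have he := hmax.1.1.2
  have hst : ∀ n : G, n ∈ pairStab P e := fun n =>
    le_pairStab_pcent hM e (hG ▸ Subgroup.mem_top n)
  have hcoef : ∀ g, blockCoeff B g =
      sext (Subgroup.centralizer (P : Set G)) (blockCoeff e) g := fun g => by
    rw [blockCoeff_eq_orbit hM hP hmax.1 g,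
      torbFn_of_stable fun n _ => ((mem_pairStab n).1 (hst n)).2]
  set Z : Subgroup (Subgroup.centralizer (P : Set G)) :=
    P.subgroupOf (Subgroup.centralizer (P : Set G)) with hZdef
  have hZc : Z ≤ Subgroup.center (Subgroup.centralizer (P : Set G)) := fun z hz =>
    Subgroup.mem_center_iff.2 fun k => Subtype.ext (k.2 (z : G) hz).symm
  have hZp : IsPGroup p Z := hP.comap_of_injective _ Subtype.coe_injective
  haveI := normal_of_central hZc
  have hZcard : Nat.card Z = p ^ blockDefect p e := by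
    obtain ⟨D, hDe⟩ := exists_defectGroup hM he
    obtain ⟨g', hg', hstep⟩ := exists_step_of_defect_cent hM hP he hDe
    have hle : D.map (Subgroup.centralizer (P : Set G)).subtype ≤ P := by
      by_contra hnle
      exact (maximal_iff_no_step hM hmax.1).1 hmax _ g'
        (lt_of_le_of_ne le_sup_left fun h => hnle (le_sup_right.trans h.ge)) hstep
    obtain ⟨t, ht⟩ := exists_defectClass hM he
    obtain ⟨D', hD', hle'⟩ := exists_defectGroup_ge hM he ht.2.1 hZp
      (fun r hr => Subgroup.mem_centralizer_singleton_iff.2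
        (Subgroup.mem_center_iff.1 (hZc hr) t).symm)
    refine le_antisymm ?_ ?_
    · rw [← card_defectGroup hM he hD']; exact Subgroup.card_le_of_le hle'
    · rw [← card_defectGroup hM he hDe]
      exact Subgroup.card_le_of_le fun d hd => hle ⟨d, hd, rfl⟩
  obtain ⟨θ₀, hθ₀e, hθ₀⟩ := exists_triv (P := Z) hM hZp he
  -- expansion of `c ↦ χ' (u c)` in the characters of `e`
  have key : ∀ (χ' : IrrCharacter G), χ' ∈ B → ∀ u ∈ P,
      (∀ c : Subgroup.centralizer (P : Set G), ¬ OnPReg p Z c → (χ' : G → ℂ) (u * c) = 0) ∧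
      ∀ y : Subgroup.centralizer (P : Set G), ¬ p ∣ orderOf y →
        (χ' : G → ℂ) (u * y) * (θ₀ : Subgroup.centralizer (P : Set G) → ℂ) 1 =
          (χ' : G → ℂ) u * (θ₀ : Subgroup.centralizer (P : Set G) → ℂ) y := by
    intro χ' hχ' u hu
    set φ : Subgroup.centralizer (P : Set G) → ℂ := fun c => (χ' : G → ℂ) (u * c) with hφ
    have hφcl : IsClassFunction (Subgroup.centralizer (P : Set G)) φ := by
      intro c k
      show (χ' : G → ℂ) (u * ((k : G) * c * (k : G)⁻¹)) = (χ' : G → ℂ) (u * c)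
      rw [← irr_isClassFun χ' (u * c) (k : G)]
      congr 1
      rw [← mul_assoc, ← mul_assoc, k.2 u hu]
      group
    have hproj : ∀ c, φ c = ∑ x, blockCoeff e x * φ (x * c) := by
      intro c
      have h := sum_classFun_mul_shift (blockCoeff_isClassFunction B) χ' (u * (c : G))
      rw [show omega (χ' : G → ℂ) (blockCoeff B) = 1 by rw [← cf_ind, omega_cf, ind_of_mem hχ'],
        one_mul] at h
      refine h.symm.trans ?_
      rw [← Finset.sum_filter_of_ne (p := fun x => x ∈ Subgroup.centralizer (P : Set G))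
        (fun x _ hx => by
          by_contra hc
          exact hx (by rw [hcoef, sext_off _ _ hc, zero_mul]))]
      symm
      refine Finset.sum_bij (fun x _ => (x : G)) (fun x _ => by simp)
        (fun _ _ _ _ e => Subtype.ext e) ?_ ?_
      · intro x hx; exact ⟨⟨x, (Finset.mem_filter.1 hx).2⟩, Finset.mem_univ _, rfl⟩
      · intro x _
        rw [hcoef, sext_coe]
        show blockCoeff e x * (χ' : G → ℂ) (u * ((x : G) * c)) = _
        rw [← mul_assoc u, x.2 u hu, mul_assoc (x : G)]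
    have hcoe : ∀ η : IrrCharacter (Subgroup.centralizer (P : Set G)), η ∉ e →
        classInner φ (η : Subgroup.centralizer (P : Set G) → ℂ) = 0 := by
      intro η hη
      rw [classInner]
      refine mul_eq_zero_of_right _ ?_
      calc ∑ c, φ c * conj ((η : Subgroup.centralizer (P : Set G) → ℂ) c)
          = ∑ x, blockCoeff e x * ∑ c, φ (x * c) *
            (η : Subgroup.centralizer (P : Set G) → ℂ) c⁻¹ := by
            simp only [Finset.mul_sum]
            rw [Finset.sum_comm]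
            refine Finset.sum_congr rfl fun c _ => ?_
            rw [hproj c, Finset.sum_mul, irr_conjInv]
            exact Finset.sum_congr rfl fun x _ => by ring
        _ = ∑ x, blockCoeff e x * ∑ d, φ d *
            (η : Subgroup.centralizer (P : Set G) → ℂ) (x * d⁻¹) := by
            refine Finset.sum_congr rfl fun x _ => congrArg _ ?_
            refine Fintype.sum_equiv (Equiv.mulLeft x) _ _ fun c => ?_
            rw [Equiv.coe_mulLeft, mul_inv_rev]
            congr 1
            rw [← irr_isClassFun η c⁻¹ x, mul_assoc]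
        _ = ∑ d, φ d * ∑ x, blockCoeff e x *
            (η : Subgroup.centralizer (P : Set G) → ℂ) (x * d⁻¹) := by
            simp only [Finset.mul_sum]
            rw [Finset.sum_comm]
            exact Finset.sum_congr rfl fun d _ => Finset.sum_congr rfl fun x _ => by ring
        _ = 0 := by
            refine Finset.sum_eq_zero fun d _ => ?_
            rw [sum_classFun_mul_shift (blockCoeff_isClassFunction e) η, ← cf_ind, omega_cf,
              ind_of_notMem hη, zero_mul, mul_zero]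
    have hexp : ∀ c, φ c = ∑ η ∈ bset e, classInner φ (η : _ → ℂ) *
        (η : Subgroup.centralizer (P : Set G) → ℂ) c := by
      intro c
      have h := congrFun (eq_sum_irr hφcl) c
      rw [Finset.sum_apply] at h
      rw [h, ← Finset.sum_subset (Finset.subset_univ (bset e))
        (fun η _ hη => by simp [hcoe η (mt mem_bset.2 hη)])]
      simp [smul_eq_mul]
    refine ⟨fun c hc => ?_, fun y hy => ?_⟩
    · show φ c = 0
      rw [hexp]
      exact Finset.sum_eq_zero fun η hη => by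
        rw [(central_props hM hZc hZp he hZcard (mem_bset.1 hη)).2.1 c hc, mul_zero]
    · show φ y * _ = _
      rw [show (χ' : G → ℂ) u = φ 1 by simp [hφ], hexp y, hexp 1, Finset.sum_mul, Finset.sum_mul]
      refine Finset.sum_congr rfl fun η hη => ?_
      have h1 := reg_prop hM hZp (sup_cent_of_central hZc) he hZcard hθ₀e hθ₀ (mem_bset.1 hη) hy
      have h2 := reg_prop hM hZp (sup_cent_of_central hZc) he hZcard hθ₀e hθ₀ (mem_bset.1 hη)
        (y := 1) (by simpa using hM.1.ne_one)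
      have hC0 : (Nat.card (Subgroup.centralizer (P : Set G)) : ℂ) ≠ 0 :=
        Nat.cast_ne_zero.2 Nat.card_pos.ne'
      apply mul_left_cancel₀ hC0
      linear_combination
        (-(classInner φ (η : _ → ℂ)) * (θ₀ : Subgroup.centralizer (P : Set G) → ℂ) 1) * h1 +
        (classInner φ (η : _ → ℂ) * (θ₀ : Subgroup.centralizer (P : Set G) → ℂ) y) * h2
  refine ⟨fun g hg => ?_, fun u hu y hy => ?_⟩
  · obtain ⟨u, hu, c, hc, rfl⟩ := exists_decomp hG g
    refine (key χ hχ u hu).1 ⟨c, hc⟩ ?_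
    rintro ⟨z, hz, y, -, hy, hzy⟩
    refine hg ⟨u * z, P.mul_mem hu hz, y, y.2, by rwa [Subgroup.orderOf_coe], ?_⟩
    rw [mul_assoc]
    exact congrArg (u * ·) (congrArg Subtype.val hzy)
  · have hyC := reg_mem_cent hM hP hG hy
    have hy' : ¬ p ∣ orderOf (⟨y, hyC⟩ : Subgroup.centralizer (P : Set G)) := by
      rwa [← Subgroup.orderOf_coe]
    have h1 := (key χ hχ u hu).2 ⟨y, hyC⟩ hy'
    have h2 := (key θ hθB 1 P.one_mem).2 ⟨y, hyC⟩ hy'
    simp only [one_mul] at h2
    apply mul_left_cancel₀ (irr_one_ne_zero θ₀)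
    linear_combination (θ : G → ℂ) 1 * h1 - (χ : G → ℂ) u * h2

/-- The block idempotent is supported on regular elements and proportional to `θ` there. -/
theorem blockCoeff_pcent (hM : IsPModular p M) (hP : IsPGroup p P)
    (hG : P ⊔ Subgroup.centralizer (P : Set G) = ⊤)
    {B : Set (IrrCharacter G)} (hB : IsPBlock M B) (hcard : Nat.card P = p ^ blockDefect p B)
    {θ : IrrCharacter G} (hθB : θ ∈ B) (hθ : ∀ x ∈ P, (θ : G → ℂ) x = (θ : G → ℂ) 1) :
    ∃ K : ℂ, K ≠ 0 ∧ ∀ x, blockCoeff B x =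
      if p ∣ orderOf x then 0 else K * (θ : G → ℂ) x⁻¹ := by
  classical
  have hG0 : (Nat.card G : ℂ) ≠ 0 := Nat.cast_ne_zero.2 Nat.card_pos.ne'
  set K := (Nat.card G : ℂ)⁻¹ * ∑ ψ ∈ bset B, (ψ : G → ℂ) 1 *
    ((Nat.card P : ℂ) * regS p (ψ : G → ℂ) (θ : G → ℂ) / (Nat.card G : ℂ)) with hK
  have hval : ∀ x, blockCoeff B x = if p ∣ orderOf x then 0 else K * (θ : G → ℂ) x⁻¹ := by
    intro x
    simp only [blockCoeff, finsum_mem_bset, irr_conjInv]
    by_cases hx : p ∣ orderOf x
    · rw [if_pos hx, weak_orth hM hB (x := 1) (y := x⁻¹) (by simpa using hM.1.not_dvd_one)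
        (by rwa [orderOf_inv]), mul_zero]
    · rw [if_neg hx, hK, mul_assoc, Finset.sum_mul]
      refine congrArg _ (Finset.sum_congr rfl fun ψ hψ => ?_)
      have h := reg_prop hM hP hG hB hcard hθB hθ (mem_bset.1 hψ) (y := x⁻¹)
        (by rwa [orderOf_inv])
      rw [mul_assoc, div_mul_eq_mul_div, h, mul_div_cancel_left₀ _ hG0]
  refine ⟨K, fun h0 => ?_, hval⟩
  obtain ⟨x, hx⟩ := exists_defectClass hM hB
  apply hx.2.1
  rw [hval, h0]
  simp [memIdeal_zero hM]

/-- `k(B) = k(P)`. -/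
theorem card_pcent (hM : IsPModular p M) (hP : IsPGroup p P)
    (hG : P ⊔ Subgroup.centralizer (P : Set G) = ⊤)
    {B : Set (IrrCharacter G)} (hB : IsPBlock M B) (hD : IsDefectGroup p M B P) :
    Nat.card B = Nat.card (ConjClasses P) := by
  classical
  have hcard := card_defectGroup hM hB hD
  obtain ⟨θ, hθB, hθ⟩ := exists_triv hM hP hB
  haveI : Fintype B := Fintype.ofFinite B
  haveI : Fintype (ConjClasses P) := Fintype.ofFinite _
  haveI : Fintype P := Fintype.ofFinite _
  refine le_antisymm ?_ ?_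
  · have hli : LinearIndependent ℂ
        (fun χ : B => fun C : ConjClasses P => ((χ : IrrCharacter G) : G → ℂ) ((crep C : P) : G)) := by
      rw [Fintype.linearIndependent_iff]
      intro a ha χ
      have hu : ∀ u ∈ P, ∑ χ : B, a χ * ((χ : IrrCharacter G) : G → ℂ) u = 0 := by
        intro u hu
        have h := congrFun ha (ConjClasses.mk (⟨u, hu⟩ : P))
        simp only [Finset.sum_apply, Pi.smul_apply, smul_eq_mul, Pi.zero_apply] at h
        rw [← h]
        refine Finset.sum_congr rfl fun χ _ => congrArg _ ?_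
        obtain ⟨k, hk⟩ := isConj_iff.1 (isConj_crep (⟨u, hu⟩ : P))
        rw [← irr_isClassFun (χ : IrrCharacter G) ((crep (ConjClasses.mk (⟨u, hu⟩ : P)) : P) : G) (k : G)]
        exact congrArg _ (congrArg Subtype.val hk).symm
      have hall : ∑ χ : B, a χ • ((χ : IrrCharacter G) : G → ℂ) = 0 := by
        funext g
        simp only [Finset.sum_apply, Pi.smul_apply, smul_eq_mul, Pi.zero_apply]
        by_cases hg : OnPReg p P g
        · obtain ⟨u, hu', y, -, hy, rfl⟩ := hg
          apply mul_right_cancel₀ (irr_one_ne_zero θ)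
          rw [zero_mul, Finset.sum_mul]
          calc ∑ χ : B, a χ * ((χ : IrrCharacter G) : G → ℂ) (u * y) * (θ : G → ℂ) 1
              = ∑ χ : B, a χ * ((χ : IrrCharacter G) : G → ℂ) u * (θ : G → ℂ) y :=
                Finset.sum_congr rfl fun χ _ => by
                  rw [mul_assoc, (char_values hM hP hG hB hD hθB hθ χ.2).2 u hu' y hy, mul_assoc]
            _ = 0 := by rw [← Finset.sum_mul, hu u hu', zero_mul]
        · exact Finset.sum_eq_zero fun χ _ => by
            rw [(char_values hM hP hG hB hD hθB hθ χ.2).1 g hg, mul_zero]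
      exact (Fintype.linearIndependent_iff.1
        (linearIndependent_irr.comp (fun χ : B => (χ : IrrCharacter G)) Subtype.val_injective))
        a hall χ
    have h := hli.fintype_card_le_finrank
    rwa [Module.finrank_fintype_fun_eq_card, ← Nat.card_eq_fintype_card,
      ← Nat.card_eq_fintype_card] at h
  · obtain ⟨K, hK, hcoef⟩ := blockCoeff_pcent hM hP hG hB hcard hθB hθ
    set R := Finset.univ.filter (fun y : G => ¬ p ∣ orderOf y) with hR
    set F : ConjClasses P → G → ℂ := fun C g =>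
      ∑ x ∈ Finset.univ ×ˢ R, if ConjClasses.mk x.1 = C ∧ (x.1 : G) * x.2 = g
        then (θ : G → ℂ) x.2 else 0 with hF
    have hcl : ∀ C, IsClassFunction G (F C) := by
      intro C g k
      simp only [hF]
      refine Finset.sum_nbij' (fun x => (⟨k⁻¹ * (x.1 : G) * k, by
          simpa using Subgroup.Normal.conj_mem' inferInstance _ x.1.2 k⟩, k⁻¹ * x.2 * k))
        (fun x => (⟨k * (x.1 : G) * k⁻¹, Subgroup.Normal.conj_mem inferInstance _ x.1.2 k⟩,
          k * x.2 * k⁻¹)) ?_ ?_ ?_ ?_ ?_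
      · intro x hx
        simp only [Finset.mem_product, Finset.mem_univ, true_and, hR, Finset.mem_filter] at hx ⊢
        have := MulEquiv.orderOf_eq (MulAut.conj k⁻¹) x.2
        simp only [MulAut.conj_apply, inv_inv] at this
        rwa [this]
      · intro x hx
        simp only [Finset.mem_product, Finset.mem_univ, true_and, hR, Finset.mem_filter] at hx ⊢
        have := MulEquiv.orderOf_eq (MulAut.conj k) x.2
        simp only [MulAut.conj_apply] at this
        rwa [this]
      · intro x _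
        refine Prod.ext (Subtype.ext ?_) ?_ <;> simp [mul_assoc]
      · intro x _
        refine Prod.ext (Subtype.ext ?_) ?_ <;> simp [mul_assoc]
      · intro x _
        have hclass : ConjClasses.mk (⟨k⁻¹ * (x.1 : G) * k, by
            simpa using Subgroup.Normal.conj_mem' inferInstance _ x.1.2 k⟩ : P) =
            ConjClasses.mk x.1 := by
          obtain ⟨v, hv, c, hc, rfl⟩ := exists_decomp hG k
          rw [ConjClasses.mk_eq_mk_iff_isConj, isConj_iff]
          have hfix : ∀ w ∈ P, c * w * c⁻¹ = w := fun w hw => by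
            rw [← hc w hw, mul_inv_cancel_right]
          refine ⟨⟨v, hv⟩, Subtype.ext ?_⟩
          show v * ((v * c)⁻¹ * (x.1 : G) * (v * c)) * v⁻¹ = x.1
          have hm : v⁻¹ * (x.1 : G) * v ∈ P :=
            P.mul_mem (P.mul_mem (P.inv_mem hv) x.1.2) hv
          have hci : c⁻¹ * (v⁻¹ * (x.1 : G) * v) * c = v⁻¹ * (x.1 : G) * v := by
            conv_lhs => rw [← hfix _ hm]
            group
          calc v * ((v * c)⁻¹ * (x.1 : G) * (v * c)) * v⁻¹
              = v * (c⁻¹ * (v⁻¹ * (x.1 : G) * v) * c) * v⁻¹ := by group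
            _ = x.1 := by rw [hci]; group
        have hiff : k⁻¹ * (x.1 : G) * k * (k⁻¹ * x.2 * k) = g ↔
            (x.1 : G) * x.2 = k * g * k⁻¹ := by
          constructor
          · intro h; rw [← h]; group
          · intro h
            rw [show k⁻¹ * (x.1 : G) * k * (k⁻¹ * x.2 * k) = k⁻¹ * ((x.1 : G) * x.2) * k by group, h]
            group
        simp only [hclass, hiff]
        refine if_congr Iff.rfl ?_ rfl
        have h := irr_isClassFun θ x.2 k⁻¹
        rw [inv_inv] at h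
        exact h.symm
    have hval : ∀ C C' : ConjClasses P,
        F C ((crep C' : P) : G) = if C = C' then (θ : G → ℂ) 1 else 0 := by
      intro C C'
      simp only [hF]
      rw [Finset.sum_eq_single (crep C', (1 : G))]
      · rw [mk_crep]
        simp [eq_comm]
      · rintro ⟨u, y⟩ hx hne
        rw [if_neg]
        rintro ⟨-, h⟩
        simp only [Finset.mem_product, Finset.mem_univ, true_and, hR, Finset.mem_filter] at hx
        obtain ⟨h1, h2⟩ := pReg_unique hM hP u.2 (crep C').2 (reg_mem_cent hM hP hG hx)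
          (Subgroup.one_mem _) hx (by simpa using hM.1.ne_one) (h.trans (mul_one _).symm)
        exact hne (Prod.ext (Subtype.ext h1) h2)
      · intro h
        exact absurd (Finset.mem_product.2 ⟨Finset.mem_univ _,
          Finset.mem_filter.2 ⟨Finset.mem_univ _, by simpa using hM.1.ne_one⟩⟩) h
    have hli : LinearIndependent ℂ F := by
      rw [Fintype.linearIndependent_iff]
      intro a ha C
      have h := congrFun ha ((crep C : P) : G)
      simp only [Finset.sum_apply, Pi.smul_apply, smul_eq_mul, hval, mul_ite, mul_zero,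
        Finset.sum_ite_eq', Finset.mem_univ, if_true, Pi.zero_apply] at h
      exact (mul_eq_zero.1 h).resolve_right (irr_one_ne_zero θ)
    have horth : ∀ η : IrrCharacter G, η ∉ B → ∀ v : G,
        ∑ y ∈ R, (θ : G → ℂ) y⁻¹ * (η : G → ℂ) (y * v) = 0 := by
      intro η hη v
      have h := sum_classFun_mul_shift (blockCoeff_isClassFunction B) η v
      rw [show omega (η : G → ℂ) (blockCoeff B) = 0 by
        rw [← cf_ind, omega_cf, ind_of_notMem hη], zero_mul] at h
      apply mul_left_cancel₀ hK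
      rw [mul_zero, ← h, Finset.mul_sum, hR, Finset.sum_filter]
      refine Finset.sum_congr rfl fun y _ => ?_
      rw [hcoef y]
      by_cases hy : p ∣ orderOf y
      · simp [hy]
      · simp [hy, mul_assoc]
    have hmem : ∀ C, F C ∈ Submodule.span ℂ
        (Set.range fun χ : B => ((χ : IrrCharacter G) : G → ℂ)) := by
      intro C
      rw [eq_sum_irr (hcl C)]
      refine Submodule.sum_mem _ fun η _ => ?_
      by_cases hη : η ∈ B
      · exact Submodule.smul_mem _ _ (Submodule.subset_span ⟨⟨η, hη⟩, rfl⟩)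
      · suffices h0 : classInner (F C) (η : G → ℂ) = 0 by rw [h0, zero_smul]; exact zero_mem _
        rw [classInner]
        refine mul_eq_zero_of_right _ ?_
        simp only [hF, Finset.sum_mul]
        rw [Finset.sum_comm, Finset.sum_product]
        refine Finset.sum_eq_zero fun u _ => ?_
        have hterm : ∀ y, ∑ g : G, (if ConjClasses.mk u = C ∧ (u : G) * y = g
            then (θ : G → ℂ) y else 0) * conj ((η : G → ℂ) g) =
            if ConjClasses.mk u = C then (θ : G → ℂ) y * (η : G → ℂ) (y⁻¹ * (u : G)⁻¹) else 0 := by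
          intro y
          by_cases hu : ConjClasses.mk u = C
          · simp [hu, ite_mul, irr_conjInv]
          · simp [hu]
        rw [Finset.sum_congr rfl fun y _ => hterm y]
        by_cases hu : ConjClasses.mk u = C
        · simp only [if_pos hu]
          rw [← horth η hη (u : G)⁻¹]
          refine Finset.sum_nbij' (fun y => y⁻¹) (fun y => y⁻¹) ?_ ?_ ?_ ?_ ?_
          · intro y hy; simpa [hR] using hy
          · intro y hy; simpa [hR] using hy
          · intro y _; simp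
          · intro y _; simp
          · intro y _; simp
        · simp [hu]
    have h1 : Fintype.card (ConjClasses P) = Module.finrank ℂ (Submodule.span ℂ (Set.range F)) :=
      (finrank_span_eq_card hli).symm
    rw [Nat.card_eq_fintype_card, Nat.card_eq_fintype_card, h1]
    exact (Submodule.finrank_mono (Submodule.span_le.2 (Set.range_subset_iff.2 hmem))).trans
      (finrank_range_le_card _)

end structure_pcent


/-- The norm inequality. -/
theorem norm_le (hM : IsPModular p M) (hP : IsPGroup p P)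
    (hreg : ∀ y : G, ¬ p ∣ orderOf y → y ∈ Subgroup.centralizer (P : Set G))
    {B : Set (IrrCharacter G)} (hB : IsPBlock M B) {χ : IrrCharacter G} (hχ : χ ∈ B)
    (hnorm : ∀ u ∈ P, ∀ y : G, ¬ p ∣ orderOf y →
      Complex.normSq ((χ : G → ℂ) (u * y)) = Complex.normSq ((χ : G → ℂ) y)) :
    ∃ q : ℤ, 0 < q ∧ (Nat.card P : ℤ) * q ≤ (p : ℤ) ^ blockDefect p B ∧
      (minDv p B < dv p (χ : G → ℂ) → (p : ℤ) ^ (dv p (χ : G → ℂ) - minDv p B + 1) ∣ q) := by
  classical
  set R := Finset.univ.filter (fun y : G => ¬ p ∣ orderOf y) with hR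
  set T := ∑ y ∈ R, Complex.normSq ((χ : G → ℂ) y) with hT
  have hle : (Nat.card P : ℝ) * T ≤ (Nat.card G : ℝ) := by
    rw [← sum_normSq_irr χ]
    refine le_trans (le_of_eq ?_) (Finset.sum_le_univ_sum_of_nonneg
      (s := (Finset.univ ×ˢ R).image (fun x : P × G => (x.1 : G) * x.2))
      (fun g => Complex.normSq_nonneg _))
    rw [Finset.sum_image, Finset.sum_product, Finset.sum_congr rfl fun (u : P) _ =>
      Finset.sum_congr rfl fun y hy => hnorm (u : G) u.2 y (Finset.mem_filter.1 hy).2, Finset.sum_const,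
      Finset.card_univ, ← Nat.card_eq_fintype_card, nsmul_eq_mul]
    rintro ⟨u, y⟩ hy ⟨u', y'⟩ hy' h
    simp only [Finset.mem_coe, Finset.mem_product, Finset.mem_univ, true_and, hR,
      Finset.mem_filter] at hy hy'
    obtain ⟨h1, h2⟩ := pReg_unique hM hP u.2 u'.2 (hreg _ hy) (hreg _ hy') hy hy' h
    exact Prod.ext (Subtype.ext h1) h2
  have hT0 : 0 < T := by
    refine Finset.sum_pos' (fun g _ => Complex.normSq_nonneg _) ⟨1, ?_, ?_⟩
    · simpa [hR] using hM.1.ne_one
    · exact Complex.normSq_pos.2 (irr_one_ne_zero χ)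
  obtain ⟨q, hq, -, -, -, hqh⟩ := exists_int_proj hM hB hχ hχ
  rw [regS_self_eq p χ] at hq
  have hqR : (p : ℝ) ^ blockDefect p B * T = (Nat.card G : ℝ) * (q : ℝ) := by exact_mod_cast hq
  have hG0 : (0 : ℝ) < Nat.card G := Nat.cast_pos.2 Nat.card_pos
  have hp0 : (0 : ℝ) < (p : ℝ) ^ blockDefect p B := pow_pos (Nat.cast_pos.2 hM.1.pos) _
  refine ⟨q, ?_, ?_, hqh⟩
  · have : (0 : ℝ) < (Nat.card G : ℝ) * q := hqR ▸ mul_pos hp0 hT0
    exact_mod_cast (pos_iff_pos_of_mul_pos this).1 hG0
  · have h1 : (Nat.card P : ℝ) * q * (Nat.card G : ℝ) ≤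
        (p : ℝ) ^ blockDefect p B * (Nat.card G : ℝ) := by
      calc (Nat.card P : ℝ) * q * (Nat.card G : ℝ)
          = (p : ℝ) ^ blockDefect p B * ((Nat.card P : ℝ) * T) := by
            rw [mul_assoc, mul_comm (q : ℝ), ← hqR]; ring
        _ ≤ _ := mul_le_mul_of_nonneg_left hle hp0.le
    exact_mod_cast le_of_mul_le_mul_right h1 hG0

section pcent_irr

variable [P.Normal]

/-- The restriction to `P` of a character of the block is an irreducible times `θ 1`. -/
theorem exists_pcent_param (hM : IsPModular p M) (hP : IsPGroup p P)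
    (hG : P ⊔ Subgroup.centralizer (P : Set G) = ⊤)
    {B : Set (IrrCharacter G)} (hB : IsPBlock M B) (hD : IsDefectGroup p M B P)
    {θ : IrrCharacter G} (hθB : θ ∈ B) (hθ : ∀ x ∈ P, (θ : G → ℂ) x = (θ : G → ℂ) 1) :
    (∀ χ ∈ B, ∃ ζ : IrrCharacter P,
      (∀ u : P, (χ : G → ℂ) u = (ζ : P → ℂ) u * (θ : G → ℂ) 1) ∧
      (∀ (u : P) (y : G), ¬ p ∣ orderOf y →
        (χ : G → ℂ) ((u : G) * y) = (ζ : P → ℂ) u * (θ : G → ℂ) y) ∧
      (∀ g, ¬ OnPReg p P g → (χ : G → ℂ) g = 0)) ∧
    ∀ ζ : IrrCharacter P, ∃ χ ∈ B,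
      (∀ u : P, (χ : G → ℂ) u = (ζ : P → ℂ) u * (θ : G → ℂ) 1) ∧
      (∀ (u : P) (y : G), ¬ p ∣ orderOf y →
        (χ : G → ℂ) ((u : G) * y) = (ζ : P → ℂ) u * (θ : G → ℂ) y) ∧
      (∀ g, ¬ OnPReg p P g → (χ : G → ℂ) g = 0) := by
  classical
  haveI : Fintype P := Fintype.ofFinite P
  have hθ1 := irr_one_ne_zero θ
  have hcard := card_defectGroup hM hB hD
  have hinv : ∀ (ζ : P → ℂ), IsClassFunction P ζ → ∀ g : G, conjNormFun P g ζ = ζ := by
    intro ζ hζ g
    obtain ⟨v, hv, c, hc, rfl⟩ := exists_decomp hG g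
    funext n
    have h : c * (n : G) * c⁻¹ = n := by rw [← hc n n.2, mul_inv_cancel_right]
    show ζ ⟨v * c * n * (v * c)⁻¹, _⟩ = ζ n
    rw [← hζ n ⟨v, hv⟩]
    refine congrArg ζ (Subtype.ext ?_)
    show v * c * n * (v * c)⁻¹ = v * n * v⁻¹
    calc v * c * n * (v * c)⁻¹ = v * (c * n * c⁻¹) * v⁻¹ := by group
      _ = v * n * v⁻¹ := by rw [h]
  -- inner products
  have hinner : ∀ χ ∈ B, ∀ χ' ∈ B, classInner (χ : G → ℂ) (χ' : G → ℂ) * (θ : G → ℂ) 1 ^ 2 =
      classInner (fun u : P => (χ : G → ℂ) u) (fun u : P => (χ' : G → ℂ) u) := by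
    intro χ hχ χ' hχ'
    set R := Finset.univ.filter (fun y : G => ¬ p ∣ orderOf y) with hR
    obtain ⟨hv, hval⟩ := char_values hM hP hG hB hD hθB hθ hχ
    obtain ⟨-, hval'⟩ := char_values hM hP hG hB hD hθB hθ hχ'
    have hn := (triv_props hM hP hG hB hcard hθB hθ).1
    have hsum : (θ : G → ℂ) 1 ^ 2 * ∑ g, (χ : G → ℂ) g * conj ((χ' : G → ℂ) g) =
        (∑ u : P, (χ : G → ℂ) u * conj ((χ' : G → ℂ) u)) *
          regS p (θ : G → ℂ) (θ : G → ℂ) := by
      rw [← Finset.sum_subset (Finset.subset_univ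
        ((Finset.univ ×ˢ R).image (fun x : P × G => (x.1 : G) * x.2))), Finset.sum_image,
        Finset.sum_product, regS_eq_sum, Finset.mul_sum, Finset.sum_mul]
      · refine Finset.sum_congr rfl fun u _ => ?_
        rw [Finset.mul_sum, Finset.mul_sum]
        refine Finset.sum_congr rfl fun y hy => ?_
        have hy' := (Finset.mem_filter.1 hy).2
        have h1 := hval u u.2 y hy'
        have h2 : conj ((χ' : G → ℂ) ((u : G) * y)) * (θ : G → ℂ) 1 =
            conj ((χ' : G → ℂ) u) * (θ : G → ℂ) y⁻¹ := by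
          rw [← irr_conjInv θ y, ← map_mul, ← hval' u u.2 y hy', map_mul, irr_one_conj]
        calc (θ : G → ℂ) 1 ^ 2 * ((χ : G → ℂ) ((u : G) * y) * conj ((χ' : G → ℂ) ((u : G) * y)))
            = ((χ : G → ℂ) ((u : G) * y) * (θ : G → ℂ) 1) *
              (conj ((χ' : G → ℂ) ((u : G) * y)) * (θ : G → ℂ) 1) := by ring
          _ = _ := by rw [h1, h2]; ring
      · rintro ⟨u, y⟩ hy ⟨u', y'⟩ hy' h
        simp only [Finset.mem_coe, Finset.mem_product, Finset.mem_univ, true_and, hR,
          Finset.mem_filter] at hy hy'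
        obtain ⟨h1, h2⟩ := pReg_unique hM hP u.2 u'.2 (reg_mem_cent hM hP hG hy)
          (reg_mem_cent hM hP hG hy') hy hy' h
        exact Prod.ext (Subtype.ext h1) h2
      · intro g _ hg
        rw [hv g ?_, zero_mul]
        rintro ⟨u, hu, y, hy, hyr, rfl⟩
        exact hg (Finset.mem_image.2 ⟨(⟨u, hu⟩, y), by simp [hR, hyr], rfl⟩)
    have hG0 : (Nat.card G : ℂ) ≠ 0 := Nat.cast_ne_zero.2 Nat.card_pos.ne'
    have hP0 : (Nat.card P : ℂ) ≠ 0 := Nat.cast_ne_zero.2 Nat.card_pos.ne'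
    simp only [classInner]
    apply mul_left_cancel₀ hG0
    apply mul_left_cancel₀ hP0
    field_simp
    linear_combination (Nat.card P : ℂ) * hsum +
      (∑ u : P, (χ : G → ℂ) u * conj ((χ' : G → ℂ) u)) * hn
  have key : ∀ χ ∈ B, ∃ ζ : IrrCharacter P,
      (∀ u : P, (χ : G → ℂ) u = (ζ : P → ℂ) u * (θ : G → ℂ) 1) ∧
      (∀ (u : P) (y : G), ¬ p ∣ orderOf y →
        (χ : G → ℂ) ((u : G) * y) = (ζ : P → ℂ) u * (θ : G → ℂ) y) ∧
      (∀ g, ¬ OnPReg p P g → (χ : G → ℂ) g = 0) := by
    intro χ hχ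
    have hres := isCharacter_restrict (isCharacter_of_irr χ.2) P
    obtain ⟨ζ, hζ, hne⟩ := exists_constituent hres (fun h => irr_one_ne_zero χ
      (by simpa using congrFun h 1))
    have hcl := clifford_invariant P χ.2 hζ hne (hinv ζ (isClassFunction_irr hζ))
    set m := classInner (fun n : P => (χ : G → ℂ) n) ζ with hm
    have h1 := hinner χ hχ χ hχ
    rw [classInner_irr_self χ.2, one_mul, hcl, classInner_smul_left, classInner_smul_right,
      classInner_irr_self hζ, mul_one] at h1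
    obtain ⟨k, hk⟩ := classInner_char_nat hres (isCharacter_of_irr hζ)
    rw [← hm] at hk
    rw [hk, Complex.conj_natCast] at h1
    have hd : (θ : G → ℂ) 1 = (k : ℂ) := by
      rw [← irr_charDegree_cast θ] at h1 ⊢
      have h2 : charDegree (θ : G → ℂ) ^ 2 = k ^ 2 := by
        rw [sq k]; exact_mod_cast h1
      exact_mod_cast Nat.pow_left_injective two_ne_zero h2
    have hu : ∀ u : P, (χ : G → ℂ) u = ζ u * (θ : G → ℂ) 1 := by
      intro u
      have := congrFun hcl u
      simp only [Pi.smul_apply, smul_eq_mul] at this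
      rw [this, hk, hd, mul_comm]
    refine ⟨⟨ζ, hζ⟩, hu, fun u y hy => ?_, (char_values hM hP hG hB hD hθB hθ hχ).1⟩
    apply mul_right_cancel₀ hθ1
    rw [(char_values hM hP hG hB hD hθB hθ hχ).2 u u.2 y hy, hu]
    ring
  refine ⟨key, ?_⟩
  choose Φ hΦ using key
  have hinj : Function.Injective (fun χ : B => Φ χ χ.2) := by
    intro χ χ' h
    apply Subtype.ext
    apply Subtype.ext
    funext g
    have hu := (hΦ χ χ.2).2.1
    have hu' := (hΦ χ' χ'.2).2.1
    by_cases hg : OnPReg p P g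
    · obtain ⟨u, hu0, y, -, hy, rfl⟩ := hg
      rw [hu ⟨u, hu0⟩ y hy, hu' ⟨u, hu0⟩ y hy]
      simp only at h
      rw [h]
    · rw [(hΦ χ χ.2).2.2 g hg, (hΦ χ' χ'.2).2.2 g hg]
  have hbij := (Nat.bijective_iff_injective_and_card (fun χ : B => Φ χ χ.2)).2
    ⟨hinj, by rw [card_irr_eq_card_conjClasses]; exact card_pcent hM hP hG hB hD⟩
  intro ζ
  obtain ⟨χ, rfl⟩ := hbij.2 ζ
  exact ⟨χ, χ.2, hΦ χ χ.2⟩

end pcent_irr

end CfsgLib.Blocks
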