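import Cfsg.Agent.Lib.Blocks.Subpairs
import Cfsg.Agent.Lib.Blocks.Principal

/-!
# Maximal Brauer pairs, the third main theorem for pairs
-/

namespace CfsgLib.Blocks

open Cfsg CfsgLib.CharTheory

set_option linter.unusedVariables false
set_option linter.unusedSimpArgs false
set_option linter.style.haveILetI false
set_option linter.unusedSectionVars false

universe u

variable {p : ℕ} {M : Ideal AlgInt} {G : Type u} [Group G] [Fintype G]

/-- Detection of the principal block by the regular indicator. -/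
theorem principal_detect (hM : IsPModular p M) (χ : IrrCharacter G) :
    χ ∈ principalBlock M G ↔
      res hM (omega (χ : G → ℂ) (regFn p ((oneIrr G : IrrCharacter G) : G → ℂ))) ≠ 0 := by
  have h0 : dv p ((oneIrr G : IrrCharacter G) : G → ℂ) = minDv p (principalBlock M G) :=
    (height_zero_iff (oneIrr_mem hM)).1 (height_trivial _)
  constructor
  · intro hχ hc
    exact not_memIdeal_omega_regFn hM principalBlock_isPBlock (oneIrr_mem hM) hχ h0
      ((res_eq_zero_iff hM (memRing_omega_regFn hM χ _)).1 hc)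
  · intro h
    by_contra hc
    apply h
    rw [omega_regFn, regS_eq_zero hM (fun hs => hc (show SameBlock M
      ((oneIrr G : IrrCharacter G) : G → ℂ) (χ : G → ℂ) from sameBlock_symm hM hs)), zero_div,
      res_zero]

theorem pairOf_principal_iff (hM : IsPModular p M) {Q : Subgroup G} (hQ : IsPGroup p Q)
    {e : Set (IrrCharacter (Subgroup.centralizer (Q : Set G)))} (he : IsPBlock M e) :
    IsBrauerPairOf p M (principalBlock M G) Q e ↔
      e = principalBlock M (Subgroup.centralizer (Q : Set G)) := by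
  haveI := res_isDomain hM
  haveI := Fintype.ofFinite (Subgroup.centralizer (Q : Set G))
  obtain ⟨ξ, hξ⟩ := bne hM he
  obtain ⟨φ, hφ⟩ := exists_lam_irr hM hQ ξ
  have hBn : Nice M Q (blockCoeff (principalBlock M G)) :=
    nice_blockCoeff hM principalBlock_isPBlock
  have h1 : IsBrauerPairOf p M (principalBlock M G) Q e ↔ φ ∈ principalBlock M G := by
    refine ⟨fun h => lam_irr_mem hM h.2.1 hφ (pairOf_lam hM h hξ),
      fun h => ⟨⟨hQ, he⟩, principalBlock_isPBlock,
        (forall_memIdeal_iff_lam hM hBn he hξ).2 ?_⟩⟩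
    rw [hφ _ (blockCoeff_isClassFunction _) (memRing_blockCoeff hM principalBlock_isPBlock),
      ← cf_ind, omega_cf, ind_of_mem h, res_one]
  have h2 : φ ∈ principalBlock M G ↔ ξ ∈ principalBlock M (Subgroup.centralizer (Q : Set G)) := by
    rw [principal_detect hM, principal_detect hM,
      ← hφ _ (regFn_isClassFunction _) (regFn_mem hM _), lam, brauerOmega_eq_omega]
    refine Iff.of_eq ?_
    congr 4
    funext c
    simp [regFn, oneIrr]
  rw [h1, h2]
  refine ⟨fun h => ?_, fun h => h ▸ hξ⟩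
  rw [eq_blockOf hM he hξ]
  exact (eq_blockOf hM principalBlock_isPBlock h).symm

/-- A pair is maximal for `B`. -/
theorem maximal_conj (hM : IsPModular p M) {B : Set (IrrCharacter G)} {a : BrauerPairIdx G}
    (h : IsMaximalBrauerPair p M B a.1 a.2) (x : G) :
    IsMaximalBrauerPair p M B (conjIdx x a).1 (conjIdx x a).2 := by
  refine ⟨pairOf_conj hM h.1 x, fun R g hR hle => ?_⟩
  have h1 := subpair_conj hM (a := conjIdx x a) (b := ⟨R, g⟩) hle x⁻¹
  rw [conjIdx_mul, inv_mul_cancel, conjIdx_one] at h1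
  have h2 := h.2 _ _ (pairOf_conj hM (a := ⟨R, g⟩) hR x⁻¹) h1
  show R = a.1.map (MulAut.conj x).toMonoidHom
  rw [← h2]
  show R = ((R.map (MulAut.conj x⁻¹).toMonoidHom).map (MulAut.conj x).toMonoidHom)
  rw [conjMap_mul, mul_inv_cancel, conjMap_one]

theorem map_conj_normalizer {P : Subgroup G} {n : G}
    (hn : n ∈ Subgroup.normalizer (P : Set G)) : P.map (MulAut.conj n).toMonoidHom = P := by
  ext y
  rw [conjMap_mem_iff, Subgroup.mem_normalizer_iff.1 hn (n⁻¹ * y * n)]
  simp [mul_assoc]

section orbit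

variable {P : Subgroup G}

/-- Conjugate of a block of `C(P)` by an element of `N(P)`. -/
noncomputable def rot {n : G} (hn : n ∈ Subgroup.normalizer (P : Set G))
    (b : Set (IrrCharacter (Subgroup.centralizer (P : Set G)))) :
    Set (IrrCharacter (Subgroup.centralizer (P : Set G))) :=
  irrPull (conjE (normalizer_le_normalizer_cent P hn)) '' b

theorem conjIdx_normalizer {n : G} (hn : n ∈ Subgroup.normalizer (P : Set G))
    (b : Set (IrrCharacter (Subgroup.centralizer (P : Set G)))) :
    conjIdx n (⟨P, b⟩ : BrauerPairIdx G) = ⟨P, rot hn b⟩ := by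
  refine idx_ext (map_conj_normalizer hn) ?_
  rw [valSet_conjIdx]
  show _ = (fun ξ : IrrCharacter (Subgroup.centralizer (P : Set G)) =>
    sext (Subgroup.centralizer (P : Set G)) (ξ : Subgroup.centralizer (P : Set G) → ℂ)) '' rot hn b
  simp only [valSet, rot, Set.image_image]
  refine Set.image_congr fun ξ _ => funext fun g => ?_
  by_cases h : g ∈ Subgroup.centralizer (P : Set G)
  · have e1 := sext_coe _ (irrPull (conjE (normalizer_le_normalizer_cent P hn)) ξ :
      Subgroup.centralizer (P : Set G) → ℂ) ⟨g, h⟩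
    have e2 := sext_coe _ (ξ : Subgroup.centralizer (P : Set G) → ℂ)
      (conjE (normalizer_le_normalizer_cent P hn) ⟨g, h⟩)
    exact e2.trans e1.symm
  · rw [sext_off _ _ h, sext_off]
    intro h'
    apply h
    have := (mem_normalizer_conj_iff (normalizer_le_normalizer_cent P hn) (n⁻¹ * g * n)).2 h'
    simpa [mul_assoc] using this

theorem rot_rot {m n : G} (hm : m ∈ Subgroup.normalizer (P : Set G))
    (hn : n ∈ Subgroup.normalizer (P : Set G))
    (b : Set (IrrCharacter (Subgroup.centralizer (P : Set G)))) :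
    rot hm (rot hn b) = rot ((Subgroup.normalizer (P : Set G)).mul_mem hm hn) b := by
  simp only [rot, Set.image_image]
  refine Set.image_congr fun χ _ => Subtype.ext (funext fun k => ?_)
  simp only [irrPull_apply]
  refine congrArg _ ?_
  apply Subtype.ext
  show n⁻¹ * (m⁻¹ * (k : G) * m) * n = (m * n)⁻¹ * (k : G) * (m * n)
  group

theorem rot_one (h : (1 : G) ∈ Subgroup.normalizer (P : Set G))
    (b : Set (IrrCharacter (Subgroup.centralizer (P : Set G)))) : rot h b = b := by
  conv_rhs => rw [← Set.image_id b]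
  refine Set.image_congr fun χ _ => Subtype.ext (funext fun k => ?_)
  rw [irrPull_apply]
  refine congrArg _ ?_
  apply Subtype.ext
  simp

theorem rot_eq_self {n : G} (hn : n ∈ Subgroup.normalizer (P : Set G)) (h : n = 1)
    (b : Set (IrrCharacter (Subgroup.centralizer (P : Set G)))) : rot hn b = b := by
  subst h; exact rot_one hn b

/-- The orbit of a block of `C(P)` under `N(P)`. -/
noncomputable def orbitBlocks (e : Set (IrrCharacter (Subgroup.centralizer (P : Set G)))) :
    Finset (Set (IrrCharacter (Subgroup.centralizer (P : Set G)))) :=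
  (Set.toFinite {b | ∃ (n : G) (hn : n ∈ Subgroup.normalizer (P : Set G)), b = rot hn e}).toFinset

theorem mem_orbitBlocks {e b : Set (IrrCharacter (Subgroup.centralizer (P : Set G)))} :
    b ∈ orbitBlocks e ↔ ∃ (n : G) (hn : n ∈ Subgroup.normalizer (P : Set G)), b = rot hn e := by
  simp [orbitBlocks]

theorem rot_mem_orbitBlocks {e b : Set (IrrCharacter (Subgroup.centralizer (P : Set G)))}
    (hb : b ∈ orbitBlocks e) {m : G} (hm : m ∈ Subgroup.normalizer (P : Set G)) :
    rot hm b ∈ orbitBlocks e := by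
  obtain ⟨n, hn, rfl⟩ := mem_orbitBlocks.1 hb
  exact mem_orbitBlocks.2 ⟨m * n, _, rot_rot hm hn e⟩

theorem isPBlock_orbit {e b : Set (IrrCharacter (Subgroup.centralizer (P : Set G)))}
    (he : IsPBlock M e) (hb : b ∈ orbitBlocks e) : IsPBlock M b := by
  obtain ⟨n, hn, rfl⟩ := mem_orbitBlocks.1 hb
  exact isPBlock_image _ he

/-- Coefficients of the sum of the orbit idempotents. -/
noncomputable def orbFn (e : Set (IrrCharacter (Subgroup.centralizer (P : Set G)))) :
    Subgroup.centralizer (P : Set G) → ℂ :=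
  fun k => ∑ b ∈ orbitBlocks e, blockCoeff b k

theorem orbFn_cls (e : Set (IrrCharacter (Subgroup.centralizer (P : Set G)))) :
    IsClassFunction (Subgroup.centralizer (P : Set G)) (orbFn e) := fun x y => by
  haveI := Fintype.ofFinite (Subgroup.centralizer (P : Set G))
  simp only [orbFn, blockCoeff_isClassFunction _ x y]

theorem orbFn_mem (hM : IsPModular p M)
    {e : Set (IrrCharacter (Subgroup.centralizer (P : Set G)))} (he : IsPBlock M e)
    (k : Subgroup.centralizer (P : Set G)) : MemLocalRing M (orbFn e k) := by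
  haveI := Fintype.ofFinite (Subgroup.centralizer (P : Set G))
  exact memRing_sum hM fun b hb => memRing_blockCoeff hM (isPBlock_orbit he hb) k

theorem orbFn_conj (e : Set (IrrCharacter (Subgroup.centralizer (P : Set G)))) {n : G}
    (hn : n ∈ Subgroup.normalizer (P : Set G)) {k k' : Subgroup.centralizer (P : Set G)}
    (hk : (k' : G) = n * k * n⁻¹) : orbFn e k' = orbFn e k := by
  haveI := Fintype.ofFinite (Subgroup.centralizer (P : Set G))
  have hni := (Subgroup.normalizer (P : Set G)).inv_mem hn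
  symm
  refine Finset.sum_nbij' (fun b => rot hn b) (fun b => rot hni b)
    (fun b hb => rot_mem_orbitBlocks hb hn) (fun b hb => rot_mem_orbitBlocks hb hni)
    (fun b _ => ?_) (fun b _ => ?_) (fun b _ => ?_)
  · rw [rot_rot]
    exact rot_eq_self _ (inv_mul_cancel n) b
  · rw [rot_rot]
    exact rot_eq_self _ (mul_inv_cancel n) b
  · simp only [rot, blockCoeff_image]
    refine congrArg _ ?_
    apply Subtype.ext
    show (k : G) = n⁻¹ * (k' : G) * n
    rw [hk]; group

theorem lam_orbFn (hM : IsPModular p M)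
    {e : Set (IrrCharacter (Subgroup.centralizer (P : Set G)))} (he : IsPBlock M e)
    (ξ : IrrCharacter (Subgroup.centralizer (P : Set G))) :
    (∀ b ∈ orbitBlocks e, ξ ∈ b → lam hM P (sext _ (orbFn e)) ξ = 1) ∧
      ((∀ b ∈ orbitBlocks e, ξ ∉ b) → lam hM P (sext _ (orbFn e)) ξ = 0) := by
  haveI := Fintype.ofFinite (Subgroup.centralizer (P : Set G))
  have h : lam hM P (sext (Subgroup.centralizer (P : Set G)) (orbFn e)) ξ =
      res hM (∑ b ∈ orbitBlocks e, ind b ξ) := by
    rw [lam, brauerOmega_eq_omega]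
    congr 1
    rw [← Finset.sum_apply ξ (orbitBlocks e) fun b => ind b, ← omega_cf (∑ b ∈ orbitBlocks e, ind b) ξ,
      cf_sum]
    congr 1
    funext k
    rw [sext_coe, Finset.sum_apply]
    simp only [cf_ind, orbFn]
  refine ⟨fun b hb hξ => ?_, fun hno => ?_⟩
  · rw [h, Finset.sum_eq_single b (fun b' hb' hne => ind_of_notMem fun h' => hne
      ((eq_blockOf hM (isPBlock_orbit he hb') h').trans
        (eq_blockOf hM (isPBlock_orbit he hb) hξ).symm)) (fun h' => absurd hb h'),
      ind_of_mem hξ, res_one]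
  · rw [h, Finset.sum_eq_zero fun b hb => ind_of_notMem (hno b hb), res_zero]

/-- `P` is a maximal `p`-subgroup of the centralizer of `c`. -/
def SylAt (p : ℕ) (P : Subgroup G) (c : G) : Prop :=
  ∀ R : Subgroup G, IsPGroup p R → P ≤ R → R ≤ Subgroup.centralizer ({c} : Set G) → R = P

theorem le_cent_singleton {P : Subgroup G} {c : G} (hc : c ∈ Subgroup.centralizer (P : Set G)) :
    P ≤ Subgroup.centralizer ({c} : Set G) := fun r hr =>
  Subgroup.mem_centralizer_singleton_iff.2 (hc r hr)

theorem sylAt_absorb (hM : IsPModular p M) (hP : IsPGroup p P) {c : G}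
    (hc : c ∈ Subgroup.centralizer (P : Set G)) (hs : SylAt p P c) {R : Subgroup G}
    (hR : IsPGroup p R) (hRc : R ≤ Subgroup.centralizer ({c} : Set G)) :
    ∃ d ∈ Subgroup.centralizer ({c} : Set G), R.map (MulAut.conj d).toMonoidHom ≤ P := by
  haveI : Fact p.Prime := ⟨hM.1⟩
  set C := Subgroup.centralizer ({c} : Set G) with hC
  obtain ⟨S, hS⟩ := (hP.comap_of_injective C.subtype C.subtype_injective).exists_le_sylow
  have hPS : P ≤ (S : Subgroup C).map C.subtype := fun r hr =>
    ⟨⟨r, le_cent_singleton hc hr⟩, hS hr, rfl⟩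
  have he : (S : Subgroup C).map C.subtype = P :=
    hs _ (S.isPGroup'.map _) hPS (Subgroup.map_subtype_le _)
  obtain ⟨d, hd, hd'⟩ := exists_conj_le_sylow C S hR hRc
  exact ⟨d, hd, he ▸ hd'⟩

theorem card_map_conj (R : Subgroup G) (x : G) :
    Nat.card (R.map (MulAut.conj x).toMonoidHom : Subgroup G) = Nat.card R :=
  Subgroup.card_map_of_injective (MulAut.conj x).injective

theorem sylAt_conj (hM : IsPModular p M) (hP : IsPGroup p P) {u c : G}
    (hu : u ∈ Subgroup.centralizer (P : Set G)) (hc : c ∈ Subgroup.centralizer (P : Set G))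
    (hsu : SylAt p P u) (h : IsConj u c) :
    SylAt p P c ∧ ∃ n ∈ Subgroup.normalizer (P : Set G), n * u * n⁻¹ = c := by
  obtain ⟨x, rfl⟩ := isConj_iff.1 h
  have habs : ∀ R : Subgroup G, IsPGroup p R →
      R ≤ Subgroup.centralizer ({x * u * x⁻¹} : Set G) →
      ∃ d ∈ Subgroup.centralizer ({u} : Set G),
        R.map (MulAut.conj (d * x⁻¹)).toMonoidHom ≤ P := by
    intro R hR hRc
    obtain ⟨d, hd, hd'⟩ := sylAt_absorb hM hP hu hsu (hR.map (MulAut.conj x⁻¹).toMonoidHom)
      (by
        rintro _ ⟨r, hr, rfl⟩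
        have := Subgroup.mem_centralizer_singleton_iff.1 (hRc hr)
        refine Subgroup.mem_centralizer_singleton_iff.2 ?_
        simp only [MulEquiv.coe_toMonoidHom, MulAut.conj_apply, inv_inv]
        calc x⁻¹ * r * x * u = x⁻¹ * (r * (x * u * x⁻¹)) * x := by group
          _ = x⁻¹ * (x * u * x⁻¹ * r) * x := by rw [this]
          _ = u * (x⁻¹ * r * x) := by group)
    exact ⟨d, hd, by rwa [conjMap_mul] at hd'⟩
  refine ⟨fun R hR hPR hRc => ?_, ?_⟩
  · obtain ⟨d, -, hd⟩ := habs R hR hRc
    refine (Subgroup.eq_of_le_of_card_ge hPR ?_).symm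
    calc Nat.card R = Nat.card (R.map (MulAut.conj (d * x⁻¹)).toMonoidHom : Subgroup G) :=
        (card_map_conj _ _).symm
      _ ≤ Nat.card P := Subgroup.card_le_of_le hd
  · obtain ⟨d, hd, hd'⟩ := habs P hP (le_cent_singleton hc)
    have he : P.map (MulAut.conj (d * x⁻¹)).toMonoidHom = P :=
      Subgroup.eq_of_le_of_card_ge hd' (card_map_conj _ _).ge
    have hN : d * x⁻¹ ∈ Subgroup.normalizer (P : Set G) := by
      rw [Subgroup.mem_normalizer_iff]
      intro r
      conv_rhs => rw [← he, conjMap_mem_iff]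
      simp [mul_assoc]
    refine ⟨(d * x⁻¹)⁻¹, (Subgroup.normalizer (P : Set G)).inv_mem hN, ?_⟩
    have hdu := Subgroup.mem_centralizer_singleton_iff.1 hd
    calc (d * x⁻¹)⁻¹ * u * (d * x⁻¹)⁻¹⁻¹ = x * (d⁻¹ * (u * d)) * x⁻¹ := by group
      _ = x * (d⁻¹ * (d * u)) * x⁻¹ := by rw [hdu]
      _ = x * u * x⁻¹ := by group

end orbit

open Classical in
/-- The class function spread out from the orbit sum on elements where `P` is Sylow. -/
noncomputable def spreadFn (p : ℕ) (P : Subgroup G)
    (E : Subgroup.centralizer (P : Set G) → ℂ) : G → ℂ := fun g =>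
  if h : ∃ u : Subgroup.centralizer (P : Set G), IsConj (u : G) g ∧ SylAt p P (u : G)
    then E h.choose else 0

/-- The coefficient of the orbit sum at `c` vanishes mod `M` unless `P` is Sylow in `C(c)`. -/
theorem orbFn_res_eq_zero (hM : IsPModular p M) {B : Set (IrrCharacter G)} {P : Subgroup G}
    {e : Set (IrrCharacter (Subgroup.centralizer (P : Set G)))}
    (hmax : IsMaximalBrauerPair p M B P e) {c : Subgroup.centralizer (P : Set G)}
    (hs : ¬ SylAt p P (c : G)) : res hM (orbFn e c) = 0 := by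
  classical
  haveI : Fact p.Prime := ⟨hM.1⟩
  haveI := Fintype.ofFinite (Subgroup.centralizer (P : Set G))
  have he := hmax.1.1.2
  unfold SylAt at hs
  push Not at hs
  obtain ⟨R₀, hR₀, hPR₀, hR₀c, hne⟩ := hs
  set R := R₀ ⊓ Subgroup.normalizer (P : Set G) with hRdef
  have hPR : P < R := exists_lt_normalizing hR₀ (lt_of_le_of_ne hPR₀ (Ne.symm hne))
  have hR : IsPGroup p R := hR₀.to_le inf_le_left
  have hcR : (c : G) ∈ Subgroup.centralizer (R : Set G) := fun r hr =>
    Subgroup.mem_centralizer_singleton_iff.1 (hR₀c hr.1)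
  by_contra hne0
  letI : MulAction R (orbitBlocks e : Finset _) :=
    { smul := fun r b => ⟨rot r.2.2 b.1, rot_mem_orbitBlocks b.2 r.2.2⟩
      one_smul := fun b => Subtype.ext (rot_one (Subgroup.one_mem _) b.1)
      mul_smul := fun r s b => Subtype.ext (rot_rot r.2.2 s.2.2 b.1).symm }
  obtain ⟨b, hb, hbne⟩ : ∃ b ∈ MulAction.fixedPoints R (orbitBlocks e : Finset _),
      res hM (blockCoeff b.1 c) ≠ 0 := by
    by_contra hc
    push Not at hc
    apply hne0
    rw [orbFn, res_sum hM fun b hb => memRing_blockCoeff hM (isPBlock_orbit he hb) c,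
      ← Finset.sum_coe_sort,
      sum_fixedPoints hM hR (fun b : (orbitBlocks e : Finset _) => res hM (blockCoeff b.1 c))
        (fun r b => ?_)]
    · exact Finset.sum_eq_zero fun b hb => hc b (Finset.mem_filter.1 hb).2
    · show res hM (blockCoeff (rot r.2.2 b.1) c) = _
      rw [rot, blockCoeff_image]
      refine congrArg _ (congrArg _ ?_)
      apply Subtype.ext
      show (r : G)⁻¹ * (c : G) * r = c
      rw [mul_assoc, ← hcR r r.2, inv_mul_cancel_left]
  have hbB := isPBlock_orbit he b.2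
  have hst : ∀ x ∈ R, StabilizesBlock (Subgroup.centralizer (P : Set G)) b.1 x := fun x hx =>
    (stabilizesBlock_iff (normalizer_le_normalizer_cent P hx.2)).2
      (congrArg Subtype.val (hb ⟨x, hx⟩))
  obtain ⟨ξ, hξ⟩ := exists_upper hM hR (centralizer_anti hPR.le) hbB hst hcR (by
    rw [subgroupBlockCoeff_eq, sext_coe]; exact hbne)
  haveI := Fintype.ofFinite (Subgroup.centralizer (R : Set G))
  have hstep := isNormalSubpair_mk hM hR hPR.le inf_le_right hbB hst (blockOf_isPBlock ξ)
    (mem_blockOf_self hM ξ) hξ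
  obtain ⟨n, hn, hbn⟩ := mem_orbitBlocks.1 b.2
  have hmb : IsMaximalBrauerPair p M B P b.1 := by
    have h := maximal_conj hM (a := ⟨P, e⟩) hmax n
    rw [conjIdx_normalizer hn e] at h
    exact hbn ▸ h
  exact hPR.ne' (hmb.2 R _ ((pairOf_normalSubpair_iff hM hstep B).1 hmb.1)
    (Relation.ReflTransGen.single hstep))

theorem spreadFn_cls (p : ℕ) (hM : IsPModular p M) {P : Subgroup G} (hP : IsPGroup p P)
    (e : Set (IrrCharacter (Subgroup.centralizer (P : Set G)))) :
    IsClassFunction G (spreadFn p P (orbFn e)) := by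
  classical
  intro g y
  have hg : IsConj g (y * g * y⁻¹) := isConj_iff.2 ⟨y, rfl⟩
  simp only [spreadFn]
  by_cases h : ∃ u : Subgroup.centralizer (P : Set G), IsConj (u : G) g ∧ SylAt p P (u : G)
  · have h' : ∃ u : Subgroup.centralizer (P : Set G), IsConj (u : G) (y * g * y⁻¹) ∧
        SylAt p P (u : G) := h.imp fun u hu => ⟨hu.1.trans hg, hu.2⟩
    rw [dif_pos h, dif_pos h']
    obtain ⟨-, n, hn, hn'⟩ := sylAt_conj hM hP h.choose.2 h'.choose.2 h.choose_spec.2
      ((h.choose_spec.1.trans hg).trans h'.choose_spec.1.symm)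
    exact orbFn_conj e hn hn'.symm
  · have h' : ¬ ∃ u : Subgroup.centralizer (P : Set G), IsConj (u : G) (y * g * y⁻¹) ∧
        SylAt p P (u : G) := fun h' => h (h'.imp fun u hu => ⟨hu.1.trans hg.symm, hu.2⟩)
    rw [dif_neg h, dif_neg h']

/-- The test class function of a maximal pair. -/
theorem exists_testFn (hM : IsPModular p M) {B : Set (IrrCharacter G)} {P : Subgroup G}
    {e : Set (IrrCharacter (Subgroup.centralizer (P : Set G)))}
    (hmax : IsMaximalBrauerPair p M B P e) :
    ∃ F : G → ℂ, IsClassFunction G F ∧ (∀ g, MemLocalRing M (F g)) ∧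
      (∀ g, F g ≠ 0 → ∃ u ∈ Subgroup.centralizer (P : Set G), IsConj u g ∧ SylAt p P u) ∧
      (∀ ξ : IrrCharacter (Subgroup.centralizer (P : Set G)),
        (∀ b ∈ orbitBlocks e, ξ ∈ b → lam hM P F ξ = 1) ∧
        ((∀ b ∈ orbitBlocks e, ξ ∉ b) → lam hM P F ξ = 0)) := by
  classical
  haveI := Fintype.ofFinite (Subgroup.centralizer (P : Set G))
  have hP := hmax.1.1.1
  have he := hmax.1.1.2
  have hcl := spreadFn_cls p hM hP e
  have hm : ∀ g, MemLocalRing M (spreadFn p P (orbFn e) g) := fun g => by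
    simp only [spreadFn]; split_ifs
    · exact orbFn_mem hM he _
    · exact (loc hM).zero_mem
  refine ⟨_, hcl, hm, fun g hg => ?_, fun ξ => ?_⟩
  · simp only [spreadFn] at hg
    split_ifs at hg with h
    · exact ⟨_, h.choose.2, h.choose_spec⟩
    · exact absurd rfl hg
  · have heq : lam hM P (spreadFn p P (orbFn e)) ξ =
        lam hM P (sext (Subgroup.centralizer (P : Set G)) (orbFn e)) ξ := by
      refine lam_congr hM (Nice.of_classFun hcl hm)
        (nice_sext_centralizer hM (orbFn_cls e) (orbFn_mem hM he)) (fun c hc => ?_) ξ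
      have hs := sext_coe (Subgroup.centralizer (P : Set G)) (orbFn e) ⟨c, hc⟩
      simp only at hs
      rw [hs]
      simp only [spreadFn]
      by_cases h : ∃ u : Subgroup.centralizer (P : Set G), IsConj (u : G) c ∧ SylAt p P (u : G)
      · rw [dif_pos h]
        obtain ⟨-, n, hn, hn'⟩ := sylAt_conj hM hP h.choose.2 hc h.choose_spec.2 h.choose_spec.1
        rw [orbFn_conj e hn (k := h.choose) (k' := ⟨c, hc⟩) hn'.symm]
      · rw [dif_neg h, res_zero, orbFn_res_eq_zero hM hmax fun hs' =>
          h ⟨⟨c, hc⟩, IsConj.refl c, hs'⟩]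
    rw [heq]
    exact lam_orbFn hM he ξ

/-- The group of a maximal Brauer pair is a defect group. -/
theorem maximal_isDefectGroup (hM : IsPModular p M) {B : Set (IrrCharacter G)} {P : Subgroup G}
    {e : Set (IrrCharacter (Subgroup.centralizer (P : Set G)))}
    (hmax : IsMaximalBrauerPair p M B P e) : IsDefectGroup p M B P := by
  classical
  haveI : Fact p.Prime := ⟨hM.1⟩
  haveI := res_isDomain hM
  obtain ⟨F, hcl, hm, hsupp, hlam⟩ := exists_testFn hM hmax
  have hP := hmax.1.1.1
  have he := hmax.1.1.2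
  have hB := hmax.1.2.1
  obtain ⟨ξ, hξ⟩ := bne hM he
  have hee : e ∈ orbitBlocks e :=
    mem_orbitBlocks.2 ⟨1, Subgroup.one_mem _, (rot_one _ e).symm⟩
  have h1 := (hlam ξ).1 e hee hξ
  obtain ⟨φ, hφ⟩ := exists_lam_irr hM hP ξ
  have hl := pairOf_lam hM hmax.1 hξ
  have hφB := lam_irr_mem hM hB hφ hl
  rw [hφ F hcl hm, omega_eq_sum_classes hcl,
    res_sum hM fun C _ => (loc hM).mul_mem (hm _)
      (show MemLocalRing M (centralChar (φ : G → ℂ) (crep C)) from memRing_clv hM _ φ)] at h1
  obtain ⟨C, -, hC⟩ := Finset.exists_ne_zero_of_sum_ne_zero (by rw [h1]; exact one_ne_zero)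
  rw [res_mul hM (hm _)
    (show MemLocalRing M (centralChar (φ : G → ℂ) (crep C)) from memRing_clv hM _ φ)] at hC
  obtain ⟨u, hu, huc, hus⟩ := hsupp (crep C) fun h0 => left_ne_zero_of_mul hC
    (by rw [h0, res_zero])
  have hch : ¬ MemLocalIdeal M (centralChar (φ : G → ℂ) u) := fun hI => by
    have e1 : centralChar (φ : G → ℂ) u = centralChar (φ : G → ℂ) (crep C) := by
      rw [centralChar_eq_sum, centralChar_eq_sum]
      congr 1
      exact Finset.sum_congr (Finset.filter_congr fun y _ =>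
        ⟨fun h => huc.symm.trans h, fun h => huc.trans h⟩) fun _ _ => rfl
    rw [e1] at hI
    exact right_ne_zero_of_mul hC ((res_eq_zero_iff hM (MemLocalIdeal.memRing hI)).2 hI)
  obtain ⟨c, hc, hcu⟩ : ∃ c ∈ Subgroup.centralizer (P : Set G),
      ¬ MemLocalIdeal M (blockCoeff B c) := by
    by_contra hno
    push Not at hno
    rw [lam_congr hM (nice_blockCoeff hM hB) (Nice.zero hM) (fun c hc => by
      rw [res_zero]; exact (res_eq_zero_iff hM (memRing_blockCoeff hM hB c)).2 (hno c hc)) ξ,
      lam_zero] at hl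
    exact zero_ne_one hl
  obtain ⟨D, hD, hPD⟩ := exists_defectGroup_ge hM hB hcu hP (le_cent_singleton hc)
  obtain ⟨g, hg, S, hS⟩ := id hD
  obtain ⟨T⟩ : Nonempty (Sylow p (Subgroup.centralizer ({u} : Set G))) := inferInstance
  obtain ⟨x, hx⟩ := sylow_le_conj hM hB hφB hch hg.2.1 (defectGroup_isPGroup hD)
    (by rw [hS]; exact Subgroup.map_subtype_le _) T
  obtain ⟨d, -, hd⟩ := sylAt_absorb hM hP hu hus (T.isPGroup'.map _) (Subgroup.map_subtype_le _)
  have hDP : Nat.card D ≤ Nat.card P := by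
    rw [← card_map_conj D x]
    refine (Subgroup.card_le_of_le hx).trans ?_
    rw [← card_map_conj _ d]
    exact Subgroup.card_le_of_le hd
  exact (Subgroup.eq_of_le_of_card_ge hPD hDP) ▸ hD

/-- Pairs on the group of a maximal pair are conjugate under its normalizer. -/
theorem pairs_orbit (hM : IsPModular p M) {B : Set (IrrCharacter G)} {P : Subgroup G}
    {e g : Set (IrrCharacter (Subgroup.centralizer (P : Set G)))}
    (hmax : IsMaximalBrauerPair p M B P e) (hg : IsBrauerPairOf p M B P g) :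
    ∃ (n : G) (hn : n ∈ Subgroup.normalizer (P : Set G)), g = rot hn e := by
  classical
  haveI := res_isDomain hM
  haveI := Fintype.ofFinite (Subgroup.centralizer (P : Set G))
  obtain ⟨F, hcl, hm, -, hlam⟩ := exists_testFn hM hmax
  have hP := hmax.1.1.1
  have he := hmax.1.1.2
  have hB := hmax.1.2.1
  obtain ⟨ξ, hξ⟩ := bne hM he
  obtain ⟨η, hη⟩ := bne hM hg.1.2
  have hee : e ∈ orbitBlocks e :=
    mem_orbitBlocks.2 ⟨1, Subgroup.one_mem _, (rot_one _ e).symm⟩
  obtain ⟨φ, hφ⟩ := exists_lam_irr hM hP ξ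
  obtain ⟨ψ, hψ⟩ := exists_lam_irr hM hP η
  have hs := sameBlock_of_mem hM hB (lam_irr_mem hM hB hψ (pairOf_lam hM hg hη))
    (lam_irr_mem hM hB hφ (pairOf_lam hM hmax.1 hξ))
  by_contra hno
  have h0 := (hlam η).2 fun b hb hηb => hno (by
    obtain ⟨n, hn, rfl⟩ := mem_orbitBlocks.1 hb
    exact ⟨n, hn, (eq_blockOf hM hg.1.2 hη).trans
      (eq_blockOf hM (isPBlock_orbit he hb) hηb).symm⟩)
  have h1 := (hlam ξ).1 e hee hξ
  rw [hψ F hcl hm, Zloc_res_congr hM (omega_mem_Zloc hM hcl hm) hs, ← hφ F hcl hm, h1] at h0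
  exact one_ne_zero h0

/-- Every pair lies below a maximal one. -/
theorem exists_maximal_ge (hM : IsPModular p M) {B : Set (IrrCharacter G)} (a : BrauerPairIdx G)
    (ha : IsBrauerPairOf p M B a.1 a.2) :
    ∃ b : BrauerPairIdx G, Relation.ReflTransGen (NormalSubpairRel p M) a b ∧
      IsMaximalBrauerPair p M B b.1 b.2 := by
  obtain ⟨b, hb, hmax⟩ := (Set.toFinite {b : BrauerPairIdx G |
      Relation.ReflTransGen (NormalSubpairRel p M) a b ∧ IsBrauerPairOf p M B b.1 b.2}
    ).exists_maximalFor (fun b : BrauerPairIdx G => Nat.card b.1) _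
    ⟨a, Relation.ReflTransGen.refl, ha⟩
  refine ⟨b, hb.1, hb.2, fun R g hR hle => ?_⟩
  refine (Subgroup.eq_of_le_of_card_ge (subpairLE_le (a := b) (b := ⟨R, g⟩) hle) ?_).symm
  exact hmax (j := ⟨R, g⟩) ⟨hb.1.trans hle, hR⟩ (Subgroup.card_le_of_le (subpairLE_le hle))

/-- Every pair is conjugate to a subpair of a given maximal pair. -/
theorem exists_conj_subpair (hM : IsPModular p M) {B : Set (IrrCharacter G)}
    {a m : BrauerPairIdx G} (hm : IsMaximalBrauerPair p M B m.1 m.2)
    (ha : IsBrauerPairOf p M B a.1 a.2) :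
    ∃ x : G, Relation.ReflTransGen (NormalSubpairRel p M) (conjIdx x a) m := by
  obtain ⟨P, e⟩ := m
  obtain ⟨b, hab, hb⟩ := exists_maximal_ge hM a ha
  obtain ⟨y, hy⟩ := defectGroup_conjugate hM hm.1.2.1 (maximal_isDefectGroup hM hb)
    (maximal_isDefectGroup hM hm)
  generalize hc : conjIdx y b = c
  have hc1 : c.1 = P := by rw [← hc]; exact hy
  obtain ⟨R, g⟩ := c
  change R = P at hc1
  subst hc1
  have hg : IsBrauerPairOf p M B R g := by
    have := pairOf_conj hM hb.1 y
    rwa [hc] at this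
  obtain ⟨n, hn, rfl⟩ := pairs_orbit hM hm hg
  refine ⟨n⁻¹ * y, ?_⟩
  have h1 := subpair_conj hM hab (n⁻¹ * y)
  rw [← conjIdx_mul n⁻¹ y b, hc, ← conjIdx_normalizer hn e, conjIdx_mul n⁻¹ n,
    inv_mul_cancel, conjIdx_one] at h1
  exact h1

theorem principal_maximal (hM : IsPModular p M) [Fact p.Prime] (S : Sylow p G) :
    IsMaximalBrauerPair p M (principalBlock M G) (S : Subgroup G)
      (principalBlock M (Subgroup.centralizer ((S : Subgroup G) : Set G))) := by
  haveI := Fintype.ofFinite (Subgroup.centralizer ((S : Subgroup G) : Set G))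
  refine ⟨(pairOf_principal_iff hM S.isPGroup' principalBlock_isPBlock).2 rfl,
    fun R g hR hle => S.is_maximal' hR.1.1 (subpairLE_le (a := ⟨_, _⟩) (b := ⟨R, g⟩) hle)⟩

theorem principal_subpair (hM : IsPModular p M) {P Q : Subgroup G} (hP : IsPGroup p P)
    (hQ : Q ≤ P) :
    SubpairLE p M Q (principalBlock M (Subgroup.centralizer (Q : Set G))) P
      (principalBlock M (Subgroup.centralizer (P : Set G))) := by
  haveI := Fintype.ofFinite (Subgroup.centralizer (P : Set G))
  obtain ⟨f, ⟨hf, hle⟩, -⟩ := existsUnique_subpair hM hP principalBlock_isPBlock Q hQ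
  have h := (pairOf_subpair_iff hM (a := ⟨Q, f⟩) (b := ⟨P, _⟩) hle (principalBlock M G)).2
    ((pairOf_principal_iff hM hP principalBlock_isPBlock).2 rfl)
  rw [(pairOf_principal_iff hM (hP.to_le hQ) hf).1 h] at hle
  exact hle

end CfsgLib.Blocks
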