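import Cfsg.Agent.Lib.Blocks.Knorr
import Cfsg.Agent.Lib.Blocks.CentralDefect
import Cfsg.Agent.Lib.Blocks.MaxPairs
import Cfsg.Agent.Lib.Blocks.Apply

/-!
# Elementary facts on blocks: central characters on defect classes, kernels, constituents
-/

namespace CfsgLib.Blocks.BlockBasics

open Cfsg CfsgLib.CharTheory CfsgLib.Blocks
open scoped ComplexConjugate

set_option linter.unusedVariables false
set_option linter.style.haveILetI false
set_option linter.unusedSectionVars false

universe u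

variable {p : ℕ} {M : Ideal AlgInt} {G : Type u} [Group G] [Fintype G]

theorem centralChar_congr (χ : IrrCharacter G) {a b : G} (h : IsConj a b) :
    centralChar (χ : G → ℂ) a = centralChar (χ : G → ℂ) b := by
  classical
  rw [centralChar_eq_sum, centralChar_eq_sum]
  congr 1
  exact Finset.sum_congr (Finset.filter_congr fun y _ => ⟨h.symm.trans, h.trans⟩) fun _ _ => rfl

/-- An element with unit central character on a block centralizes a conjugate of each defect
group, and its `p`-part lies in the centre of that group. -/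
theorem exists_conj_center (hM : IsPModular p M) {B : Set (IrrCharacter G)}
    (hB : IsPBlock M B) {P : Subgroup G} (hP : IsDefectGroup p M B P) {g : G}
    (hg : ∃ χ ∈ B, ¬ MemLocalIdeal M (centralChar (χ : G → ℂ) g)) :
    ∃ x : G, IsConj g x ∧ x ∈ Subgroup.centralizer (P : Set G) ∧
      ∀ z : G, IsPPart p x z → z ∈ P ∧ ∀ w ∈ P, z * w = w * z := by
  classical
  haveI : Fact p.Prime := ⟨hM.1⟩
  haveI := res_isDomain hM
  obtain ⟨χ, hχ, hg⟩ := hg
  have hPp := defectGroup_isPGroup hP
  set C := Subgroup.centralizer (P : Set G) with hC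
  obtain ⟨e, hmax⟩ := exists_maximal_at hM hB hP
  haveI := Fintype.ofFinite C
  obtain ⟨ξ, hξ⟩ := bne hM hmax.1.1.2
  set Z := (P ⊓ C).subgroupOf C with hZdef
  have hcard : Nat.card Z = p ^ blockDefect p e := by
    have hrefl : SubpairLE p M P e P e := Relation.ReflTransGen.refl
    obtain ⟨x, hle, hx⟩ := exists_conj_centP hM hmax hmax.1.1.2 hrefl
    have heq : P.map (MulAut.conj x).toMonoidHom = P :=
      Subgroup.eq_of_le_of_card_ge (subpairLE_le (a := ⟨_, _⟩) (b := ⟨P, e⟩) hle)
        (le_of_eq (card_map_conj P x).symm)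
    rw [heq] at hx
    rw [hx, hZdef, Nat.card_congr (Subgroup.subgroupOfEquivOfLe
      (inf_le_right : P ⊓ C ≤ C)).toEquiv]
  have hZc : Z ≤ Subgroup.center C := fun z hz => Subgroup.mem_center_iff.2 fun c =>
    Subtype.ext (c.2 _ (Subgroup.mem_inf.1 hz).1).symm
  have hZp : IsPGroup p Z :=
    (hPp.to_le inf_le_left).of_equiv (Subgroup.subgroupOfEquivOfLe inf_le_right).symm
  obtain ⟨-, hvan, -⟩ := central_props hM hZc hZp hmax.1.1.2 hcard hξ
  obtain ⟨φ, hφ⟩ := exists_lam_irr hM hPp ξ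
  have hφB := lam_irr_mem hM hB hφ (pairOf_lam hM hmax.1 hξ)
  have h1 : lam hM P (fun x => if IsConj g x then (1 : ℂ) else 0) ξ ≠ 0 := by
    rw [hφ _ (isClassFunction_classInd g) (memRing_classInd hM g), omega_classInd]
    intro h0
    apply hg
    rw [← res_eq_zero_iff hM (show MemLocalRing M (centralChar (χ : G → ℂ) g) from memRing_clv hM g χ),
      show res hM (centralChar (χ : G → ℂ) g) = res hM (centralChar (φ : G → ℂ) g) from
        ((sameBlock_iff_res hM φ χ).1 (sameBlock_of_mem hM hB hφB hχ) g).symm]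
    exact h0
  rw [lam, brauerOmega_eq_omega, omega] at h1
  obtain ⟨c, hgc, hc⟩ : ∃ c : C, IsConj g (c : G) ∧ (ξ : C → ℂ) c ≠ 0 := by
    by_contra hno
    push Not at hno
    apply h1
    rw [Finset.sum_eq_zero fun c _ => ?_, zero_div, res_zero]
    split_ifs with hc
    · rw [hno c hc, mul_zero]
    · rw [zero_mul]
  refine ⟨c, hgc, c.2, fun z hz => ?_⟩
  have hon : OnPReg p Z c := by
    by_contra hno
    exact hc (hvan c hno)
  obtain ⟨u, hu, y, hy, hyr, hcy⟩ := hon
  obtain ⟨y', hzy, hcomm, hzord, hy'⟩ := hz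
  have huP : (u : G) ∈ P := (Subgroup.mem_inf.1 (Subgroup.mem_subgroupOf.1 hu)).1
  have hcu : Commute (u : G) (y : G) := congrArg Subtype.val (hy u hu)
  have hcu' : ∃ k : ℕ, orderOf (u : G) = p ^ k := by
    obtain ⟨k, hk⟩ := IsPGroup.iff_orderOf.1 hZp ⟨u, hu⟩
    exact ⟨k, ((Subgroup.orderOf_coe _).trans (Subgroup.orderOf_coe ⟨_, hu⟩)).trans hk⟩
  obtain ⟨e1, -⟩ := pPart_unique hM.1 hcomm hcu hzord hcu' hy' (by rwa [Subgroup.orderOf_coe])
    (hzy.trans (congrArg Subtype.val hcy))
  subst e1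
  exact ⟨huP, fun w hw => (u.2 w hw).symm⟩

/-- Values and central characters at the product of a defect class and an element of its defect
group. -/
theorem defectClass_mul (hM : IsPModular p M) {B : Set (IrrCharacter G)} (hB : IsPBlock M B)
    {y : G} (hy : IsDefectClass M B y) (S : Sylow p (Subgroup.centralizer ({y} : Set G)))
    {x : Subgroup.centralizer ({y} : Set G)} (hx : x ∈ (S : Subgroup (Subgroup.centralizer ({y} : Set G)))) :
    (∀ χ ∈ B, dv p (χ : G → ℂ) = minDv p B → ¬ MemLocalIdeal M ((χ : G → ℂ) ((x : G) * y))) ∧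
      ((∀ w ∈ (S : Subgroup (Subgroup.centralizer ({y} : Set G))), x * w = w * x) →
        ∀ χ ∈ B, ¬ MemLocalIdeal M (centralChar (χ : G → ℂ) ((x : G) * y))) := by
  classical
  haveI : Fact p.Prime := ⟨hM.1⟩
  have hxy : Commute (x : G) y := Subgroup.mem_centralizer_singleton_iff.1 x.2
  obtain ⟨k, hk⟩ : ∃ k : ℕ, orderOf (x : G) = p ^ k := by
    obtain ⟨k, hk⟩ := IsPGroup.iff_orderOf.1 S.2 ⟨x, hx⟩
    exact ⟨k, ((Subgroup.orderOf_coe _).trans (Subgroup.orderOf_coe ⟨_, hx⟩)).trans hk⟩
  have h1 : ∀ χ ∈ B, dv p (χ : G → ℂ) = minDv p B →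
      ¬ MemLocalIdeal M ((χ : G → ℂ) ((x : G) * y)) := by
    intro χ hχ h0 hI
    apply not_memIdeal_defectClass hM hB hy hχ h0
    rw [← res_eq_zero_iff hM (memRing_irr hM χ _)] at hI ⊢
    rwa [irr_res_pPart hM χ hxy hk] at hI
  refine ⟨h1, fun hc χ hχ hI => ?_⟩
  obtain ⟨θ, hθ, h0⟩ := exists_height_zero hM hB
  apply h1 θ hθ h0
  have hIθ : MemLocalIdeal M (centralChar (θ : G → ℂ) ((x : G) * y)) := by
    rw [← res_eq_zero_iff hM (show MemLocalRing M (centralChar (θ : G → ℂ) _) from memRing_clv hM _ θ),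
      show res hM (centralChar (θ : G → ℂ) ((x : G) * y)) = res hM (centralChar (χ : G → ℂ) ((x : G) * y))
        from (sameBlock_iff_res hM θ χ).1 (sameBlock_of_mem hM hB hθ hχ) _,
      res_eq_zero_iff hM (show MemLocalRing M (centralChar (χ : G → ℂ) _) from memRing_clv hM _ χ)]
    exact hI
  set C := Subgroup.centralizer ({(x : G) * y} : Set G)
  set D := (S : Subgroup (Subgroup.centralizer ({y} : Set G))).map
    (Subgroup.centralizer ({y} : Set G)).subtype
  have hDC : D ≤ C := by
    rintro _ ⟨w, hw, rfl⟩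
    rw [Subgroup.mem_centralizer_singleton_iff]
    have e1 : Commute (w : G) (x : G) := (congrArg Subtype.val (hc w hw)).symm
    have e2 : Commute (w : G) y := Subgroup.mem_centralizer_singleton_iff.1 w.2
    exact e1.mul_right e2
  have hfac : (C.index).factorization p ≤ dv p (θ : G → ℂ) := by
    have h2 := card_defectGroup hM hB ⟨y, hy, S, rfl⟩
    have h3 : blockDefect p B ≤ (Nat.card C).factorization p := by
      refine (hM.1.pow_dvd_iff_le_factorization Nat.card_pos.ne').1 ?_
      rw [← h2]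
      exact Subgroup.card_dvd_of_le hDC
    have h4 := factorization_index_add (G := G) p C
    have h5 := blockDefect_eq (G := G) p B
    have h6 := minDv_le_card hM hB
    omega
  obtain ⟨-, hge⟩ : (C.index).factorization p ≤ dv p (θ : G → ℂ) ∧
      dv p (θ : G → ℂ) ≤ (C.index).factorization p := by
    refine ⟨hfac, ?_⟩
    have hle : C ≤ Subgroup.centralizer ({y} : Set G) := by
      intro w hw
      obtain ⟨z', w', e', hc', hz', hw', -, hwz⟩ := exists_pPart hM.1 ((x : G) * y)
      obtain ⟨-, ey⟩ := pPart_unique hM.1 hc' hxy hz' ⟨k, hk⟩ hw'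
        (isDefectClass_regular hM hB hy) e'
      rw [Subgroup.mem_centralizer_singleton_iff]
      obtain ⟨m, hm⟩ := hwz
      have h' : Commute w ((x : G) * y) := Subgroup.mem_centralizer_singleton_iff.1 hw
      have h'' := h'.zpow_right m
      rw [show ((x : G) * y) ^ m = w' from hm, ey] at h''
      exact h''
    rw [show dv p (θ : G → ℂ) = _ from h0.trans (minDv_eq hM hB hy)]
    exact (Nat.factorization_le_iff_dvd Subgroup.index_ne_zero_of_finite
      Subgroup.index_ne_zero_of_finite).2 (Subgroup.index_dvd_of_le hle) p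
  have hd := natDiv_mem_loc hM (p := p) (irr_charDegree_pos θ).ne'
    (Subgroup.index_ne_zero_of_finite (H := C)) hfac
  have e : (θ : G → ℂ) ((x : G) * y) = ((charDegree (θ : G → ℂ) : ℂ) / (C.index : ℂ)) *
      centralChar (θ : G → ℂ) ((x : G) * y) := by
    rw [centralChar, irr_charDegree_cast θ]
    field_simp [irr_one_ne_zero θ, Nat.cast_ne_zero.2 (Subgroup.index_ne_zero_of_finite (H := C))]
    rfl
  rw [e]
  exact memIdeal_mul_left hM hd.1 hIθ

/-- The centre of a defect group of an induced block is conjugate into that of the inducing one. -/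
theorem center_conj_of_induced (hM : IsPModular p M) {H : Subgroup G} [Fintype H]
    {b : Set (IrrCharacter H)} {B : Set (IrrCharacter G)} (hind : IsInducedBlock M H b B)
    {D : Subgroup H} (hD : IsDefectGroup p M b D) {P : Subgroup G} (hP : IsDefectGroup p M B P)
    {x : G} (hx : x ∈ P) (hxc : ∀ w ∈ P, x * w = w * x) :
    ∃ g : G, g * x * g⁻¹ ∈ D.map H.subtype ∧
      ∀ w ∈ D.map H.subtype, (g * x * g⁻¹) * w = w * (g * x * g⁻¹) := by
  classical
  haveI : Fact p.Prime := ⟨hM.1⟩
  haveI := res_isDomain hM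
  obtain ⟨y, hy, S, rfl⟩ := id hP
  obtain ⟨x0, hx0, rfl⟩ := hx
  obtain ⟨θ, hθ⟩ := block_nonempty hM hind.2.1
  obtain ⟨ξ, hξ⟩ := block_nonempty hM hind.1
  have h1 := (defectClass_mul hM hind.2.1 hy S hx0).2
    (fun w hw => Subtype.ext (hxc _ ⟨w, hw, rfl⟩)) θ hθ
  set g := (x0 : G) * y with hg
  have h2 : ¬ MemLocalIdeal M (inducedCentralChar H (ξ : H → ℂ) g) := by
    intro h0
    apply h1
    rw [← res_eq_zero_iff hM (show MemLocalRing M (centralChar (θ : G → ℂ) g) from memRing_clv hM g θ)]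
    rw [← (memIdeal_sub_iff hM (memRing_inducedCentralChar H hM ξ g)
      (show MemLocalRing M (centralChar (θ : G → ℂ) g) from memRing_clv hM g θ)).1
        (hind.2.2 ξ hξ θ hθ g), res_eq_zero_iff hM (memRing_inducedCentralChar H hM ξ g)]
    exact h0
  obtain ⟨h, hgh, hh⟩ : ∃ h : H, IsConj g (h : G) ∧
      ¬ MemLocalIdeal M (centralChar (ξ : H → ℂ) h) := by
    by_contra hno
    push Not at hno
    apply h2
    rw [← omega_restrict_classInd H g]
    haveI : Fintype (ConjClasses H) := Fintype.ofFinite _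
    have hcl : IsClassFunction H (fun k : H => if IsConj g (k : G) then (1 : ℂ) else 0) :=
      fun a b => isClassFunction_classInd g (a : G) (b : G)
    rw [omega_eq_sum_classes hcl]
    refine memIdeal_sum hM fun C _ => ?_
    by_cases hC : IsConj g ((crep C : H) : G)
    · exact memIdeal_mul_left hM (memRing_classInd hM g _) (hno _ hC)
    · simp only [if_neg hC, zero_mul]; exact memIdeal_zero hM
  obtain ⟨h', hhh, -, hpart⟩ := exists_conj_center hM hind.1 hD ⟨ξ, hξ, hh⟩
  obtain ⟨a, ha⟩ := isConj_iff.1 (hgh.trans (MonoidHom.map_isConj H.subtype hhh))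
  obtain ⟨z', w', e', hc', hz', hw', hzp, -⟩ := exists_pPart hM.1 (h' : G)
  have hzH : z' ∈ H := (Subgroup.zpowers_le.2 h'.2) hzp
  have hwH : w' ∈ H := by
    rw [show w' = z'⁻¹ * h' by rw [← e', inv_mul_cancel_left]]
    exact H.mul_mem (H.inv_mem hzH) h'.2
  obtain ⟨hzD, hzc⟩ := hpart ⟨z', hzH⟩ ⟨⟨w', hwH⟩, Subtype.ext e', Subtype.ext hc',
    hz'.imp fun k hk => by rw [Subgroup.orderOf_mk]; exact hk, by rwa [Subgroup.orderOf_mk]⟩
  have hxy : Commute (x0 : G) y := Subgroup.mem_centralizer_singleton_iff.1 x0.2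
  have hcc : Commute (a * (x0 : G) * a⁻¹) (a * y * a⁻¹) := hxy.map (MulAut.conj a).toMonoidHom
  obtain ⟨k, hk⟩ : ∃ k : ℕ, orderOf (x0 : G) = p ^ k := by
    obtain ⟨k, hk⟩ := IsPGroup.iff_orderOf.1 S.2 ⟨x0, hx0⟩
    exact ⟨k, ((Subgroup.orderOf_coe _).trans (Subgroup.orderOf_coe ⟨_, hx0⟩)).trans hk⟩
  obtain ⟨e1, -⟩ := pPart_unique hM.1 hcc hc' ⟨k, by rw [conj_orderOf, hk]⟩ hz'
    (by rw [conj_orderOf]; exact isDefectClass_regular hM hind.2.1 hy) hw'
    (by
      rw [e']
      have ha' : a * g * a⁻¹ = (h' : G) := ha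
      rw [← ha', hg]
      group)
  refine ⟨a, ?_, ?_⟩
  · show a * (x0 : G) * a⁻¹ ∈ _
    rw [e1]
    exact ⟨⟨z', hzH⟩, hzD, rfl⟩
  · rintro _ ⟨w, hw, rfl⟩
    show a * (x0 : G) * a⁻¹ * (w : G) = (w : G) * (a * (x0 : G) * a⁻¹)
    rw [e1]
    exact congrArg Subtype.val (hzc w hw)

/-- An induced block has defect zero exactly when the inducing one has. -/
theorem defect_zero_iff_of_induced (hM : IsPModular p M) {H : Subgroup G} [Fintype H]
    {b : Set (IrrCharacter H)} {B : Set (IrrCharacter G)} (hind : IsInducedBlock M H b B) :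
    blockDefect p b = 0 ↔ blockDefect p B = 0 := by
  haveI : Fact p.Prime := ⟨hM.1⟩
  obtain ⟨D, hD⟩ := exists_defectGroup hM hind.1
  have hcD := card_defectGroup hM hind.1 hD
  constructor
  · intro hb
    obtain ⟨P, hP⟩ := exists_defectGroup hM hind.2.1
    have hcP := card_defectGroup hM hind.2.1 hP
    rw [hb, pow_zero, Subgroup.card_eq_one] at hcD
    by_contra hd
    haveI : Nontrivial P := Finite.one_lt_card_iff_nontrivial.1 (by
      rw [hcP]; exact Nat.one_lt_pow hd hM.1.one_lt)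
    haveI := (defectGroup_isPGroup hP).center_nontrivial
    obtain ⟨z, hz⟩ := exists_ne (1 : Subgroup.center P)
    obtain ⟨g, hg, -⟩ := center_conj_of_induced hM hind hD hP (z : P).2 fun w hw =>
      (congrArg Subtype.val (Subgroup.mem_center_iff.1 z.2 ⟨w, hw⟩)).symm
    rw [hcD, Subgroup.map_bot, Subgroup.mem_bot] at hg
    exact hz (Subtype.ext (Subtype.ext (conj_eq_one_iff.1 hg)))
  · intro hB
    obtain ⟨E, hE, hle⟩ := defect_le_of_induced hM hind hD
    have h1 := Subgroup.card_le_of_le hle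
    rw [Subgroup.card_map_of_injective H.subtype_injective, hcD, card_defectGroup hM hind.2.1 hE,
      hB, pow_zero] at h1
    by_contra hd
    exact absurd (Nat.one_lt_pow hd hM.1.one_lt) (by omega)

/-- The relation of lying in one block does not depend on the ideal. -/
theorem sameBlock_indep {M' : Ideal AlgInt} (hM : IsPModular p M) (hM' : IsPModular p M')
    {χ ψ : IrrCharacter G} (h : SameBlock M (χ : G → ℂ) (ψ : G → ℂ)) :
    SameBlock M' (χ : G → ℂ) (ψ : G → ℂ) := by
  classical
  have hB : IsPBlock M (blockOf M (χ : G → ℂ)) := blockOf_isPBlock χ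
  obtain ⟨θ, hθ, h0⟩ := exists_height_zero hM hB
  have key : ∀ φ ∈ blockOf M (χ : G → ℂ), SameBlock M' (φ : G → ℂ) (θ : G → ℂ) := by
    intro φ hφ
    by_contra hne
    apply not_memIdeal_omega_regFn hM hB hθ hφ h0
    rw [omega_regFn, regS_eq_zero hM' hne, zero_div]
    exact memIdeal_zero hM
  exact sameBlock_trans hM' (key χ (mem_blockOf_self hM χ))
    (sameBlock_symm hM' (key ψ h))

/-- A normal subgroup of order prime to `p` has singleton blocks. -/
theorem block_singleton (hM : IsPModular p M) (hG : ¬ p ∣ Nat.card G) {θ φ : IrrCharacter G}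
    (h : SameBlock M (θ : G → ℂ) (φ : G → ℂ)) : θ = φ := by
  classical
  haveI := res_isDomain hM
  by_contra hne
  set v : IrrCharacter G → ℂ := ind {θ}
  have hv : v ∈ Zloc G hM := fun x => memRing_of_blockCoeff hM hG {θ} x
  have h1 := Zloc_res_congr hM hv h
  rw [show v θ = 1 from ind_of_mem rfl, show v φ = 0 from ind_of_notMem (Ne.symm hne), res_one,
    res_zero] at h1
  exact one_ne_zero h1
where
  memRing_of_blockCoeff (hM : IsPModular p M) (hG : ¬ p ∣ Nat.card G) (S : Set (IrrCharacter G))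
      (x : G) : MemLocalRing M (cf (ind S) x) := by
    rw [cf_ind, blockCoeff, finsum_mem_bset]
    refine (loc hM).mul_mem (natCast_inv_mem hM hG) (memRing_sum hM fun χ _ => ?_)
    rw [irr_conjInv]
    exact (loc hM).mul_mem (memRing_irr hM χ 1) (memRing_irr hM χ _)

section normal

variable {N : Subgroup G} [N.Normal] [Fintype N]

/-- Characters of one block have the same constituents on a normal subgroup of order prime to
`p`. -/
theorem constituent_transfer (hM : IsPModular p M) (hN : ¬ p ∣ Nat.card N) {χ ψ : IrrCharacter G}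
    (h : SameBlock M (χ : G → ℂ) (ψ : G → ℂ)) {θ : IrrCharacter N}
    (hθ : classInner (fun n : N => (χ : G → ℂ) n) (θ : N → ℂ) ≠ 0) :
    classInner (fun n : N => (ψ : G → ℂ) n) (θ : N → ℂ) ≠ 0 := by
  have hb : IsPBlock M (blockOf M (θ : N → ℂ)) := blockOf_isPBlock θ
  have hB : IsPBlock M (blockOf M (χ : G → ℂ)) := blockOf_isPBlock χ
  have h1 := res_covFn_covers hM hB hb
    ⟨χ, mem_blockOf_self hM χ, θ, mem_blockOf_self hM θ, hθ⟩ (χ := ψ) h
  obtain ⟨θ', hθ', hc⟩ := covers_of_res hM h1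
  rwa [← block_singleton hM hN hθ'] at hc

end normal

/-- A normal subgroup of order prime to `p` in the kernel of one character is in the kernel of
its block. -/
theorem kernel_transfer (hM : IsPModular p M) {N : Subgroup G} [N.Normal] (hN : ¬ p ∣ Nat.card N)
    {χ ψ : IrrCharacter G} (h : SameBlock M (χ : G → ℂ) (ψ : G → ℂ))
    (hk : ∀ g ∈ N, (χ : G → ℂ) g = (χ : G → ℂ) 1) : ∀ g ∈ N, (ψ : G → ℂ) g = (ψ : G → ℂ) 1 := by
  haveI := res_isDomain hM
  have h1 := Zloc_res_congr hM
    (v := fun ψ : IrrCharacter G => omega (ψ : G → ℂ) (avgFn N))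
    (omega_mem_Zloc hM (avgFn_isClassFunction N) (avgFn_mem hM hN)) h
  rw [(omega_avgFn N χ).2.2 hk, res_one] at h1
  refine (omega_avgFn N ψ).2.1 ?_
  rcases (omega_avgFn N ψ).1 with h0 | h0
  · rw [h0, res_zero] at h1; exact absurd h1 one_ne_zero
  · exact h0

end CfsgLib.Blocks.BlockBasics
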