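import Cfsg.Agent.Lib.Blocks.Proj
import Cfsg.Agent.Lib.Blocks.DefectZeroCount
import Cfsg.Agent.S0910

/-!
# Simple groups of order `p^a q^b r`
-/

namespace CfsgLib.Blocks.ThreePrimes

open Cfsg CfsgLib.CharTheory CfsgLib.Blocks
open scoped ComplexConjugate

set_option linter.unusedVariables false
set_option linter.style.haveILetI false
set_option linter.unusedSectionVars false

universe u

variable {G : Type u} [Group G] [Fintype G]

/-- A character of `r`-defect zero vanishes on `r`-singular elements. -/
theorem vanish_of_defZero {r : ℕ} {M : Ideal AlgInt} (hM : IsPModular r M) (χ : IrrCharacter G)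
    (h : dv r (χ : G → ℂ) = (Nat.card G).factorization r) {y : G} (hy : r ∣ orderOf y) :
    (χ : G → ℂ) y = 0 := by
  classical
  have hB : IsPBlock M (blockOf M (χ : G → ℂ)) := blockOf_isPBlock χ
  have hs : bset (blockOf M (χ : G → ℂ)) = {χ} := by
    ext ψ; rw [mem_bset, (defect_zero_iff hM χ).1 h]; simp
  have h1 := weak_orth hM hB (x := (1 : G)) (by rw [orderOf_one]; exact hM.1.not_dvd_one) hy
  rw [hs, Finset.sum_singleton] at h1
  exact (mul_eq_zero.1 h1).resolve_left (irr_one_ne_zero χ)

/-- No element of order divisible by `p r`. -/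
theorem no_element [IsSimpleGroup G] (hna : ∃ a b : G, a * b ≠ b * a) {p q r a b : ℕ} (hp : p.Prime)
    (hq : q.Prime) (hr : r.Prime) (hqr : q ≠ r) (hpr : p ≠ r)
    (hcard : Nat.card G = p ^ a * q ^ b * r) {y : G} (hyp : p ∣ orderOf y) (hyr : r ∣ orderOf y) :
    False := by
  classical
  haveI : Fact p.Prime := ⟨hp⟩
  obtain ⟨M, hM⟩ := exists_pModular hp
  obtain ⟨Q, hQ⟩ := exists_pModular hq
  obtain ⟨R, hR⟩ := exists_pModular hr
  have h1 := weak_orth hM (principalBlock_isPBlock (M := M) (G := G)) (x := (1 : G))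
    (by rw [orderOf_one]; exact hp.not_dvd_one) hyp
  have hmem : ∀ χ ∈ (bset (principalBlock M G)).erase (oneIrr G),
      MemLocalIdeal Q ((χ : G → ℂ) 1 * (χ : G → ℂ) y) := by
    intro χ hχ
    obtain ⟨hne, hχB⟩ := Finset.mem_erase.1 hχ
    by_cases hd : q ∣ charDegree (χ : G → ℂ)
    · obtain ⟨m, hm⟩ := hd
      rw [← irr_charDegree_cast χ, hm, Nat.cast_mul, mul_assoc, mul_comm]
      refine memIdeal_mul_left hQ ((loc hQ).mul_mem (memRing_natCast hQ m) (memRing_irr hQ χ y)) ?_
      rw [← res_eq_zero_iff hQ (memRing_natCast hQ q)]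
      exact natCast_p_mem hQ
    · have hdvd : charDegree (χ : G → ℂ) ∣ p ^ a * q ^ b * r := by
        rw [← hcard]
        obtain ⟨n, ρ, hirr, hρ⟩ := χ.2
        haveI := hirr
        have h2 := finrank_dvd_card ρ
        have e : charDegree (χ : G → ℂ) = Module.finrank ℂ (Fin n → ℂ) := by
          have h1 := irr_charDegree_cast χ
          rw [← hρ, Representation.char_one] at h1
          rw [← hρ]
          exact_mod_cast h1
        rwa [e]
      rw [mul_right_comm] at hdvd
      have hdvd2 := ((hq.coprime_iff_not_dvd.2 hd).symm.pow_right b).dvd_of_dvd_mul_right hdvd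
      by_cases hrd : r ∣ charDegree (χ : G → ℂ)
      · have h0 : dv r (χ : G → ℂ) = (Nat.card G).factorization r := by
          have hle := (Nat.factorization_le_iff_dvd (irr_charDegree_pos χ).ne'
            (mul_ne_zero (pow_ne_zero _ hp.ne_zero) hr.ne_zero)).2 hdvd2 r
          have hge : 1 ≤ (charDegree (χ : G → ℂ)).factorization r :=
            (hr.dvd_iff_one_le_factorization (irr_charDegree_pos χ).ne').1 hrd
          have e1 : (p ^ a * r).factorization r = 1 := by
            rw [Nat.factorization_mul (pow_ne_zero _ hp.ne_zero) hr.ne_zero, Finsupp.add_apply,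
              hp.factorization_pow, Finsupp.single_apply, if_neg hpr, hr.factorization_self]
          have e2 : (Nat.card G).factorization r = 1 := by
            rw [hcard, Nat.factorization_mul (mul_ne_zero (pow_ne_zero _ hp.ne_zero)
              (pow_ne_zero _ hq.ne_zero)) hr.ne_zero, Finsupp.add_apply,
              Nat.factorization_mul (pow_ne_zero _ hp.ne_zero) (pow_ne_zero _ hq.ne_zero),
              Finsupp.add_apply, hp.factorization_pow, hq.factorization_pow, Finsupp.single_apply,
              if_neg hpr, Finsupp.single_apply, if_neg hqr, hr.factorization_self, zero_add, zero_add]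
          unfold dv
          omega
        rw [vanish_of_defZero hR χ h0 hyr, mul_zero]
        exact memIdeal_zero hQ
      · exfalso
        obtain ⟨k, -, hk⟩ := (Nat.dvd_prime_pow hp).1
          ((hr.coprime_iff_not_dvd.2 hrd).symm.dvd_of_dvd_mul_right hdvd2)
        refine hne (Subtype.ext ?_)
        exact Cfsg.Agent.S0910.result p M hM hna χ (mem_bset.1 hχB) k
          (by rw [← irr_charDegree_cast χ, hk, Nat.cast_pow])
  rw [← Finset.add_sum_erase _ _ (mem_bset.2 (oneIrr_mem (G := G) hM))] at h1
  refine not_memIdeal_one hQ ?_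
  have h2 : (1 : ℂ) = -∑ χ ∈ (bset (principalBlock M G)).erase (oneIrr G),
      (χ : G → ℂ) 1 * (χ : G → ℂ) y := by
    rw [← add_eq_zero_iff_eq_neg]
    refine Eq.trans ?_ h1
    congr 1
    show (1 : ℂ) = 1 * 1
    rw [one_mul]
  rw [h2]
  exact memIdeal_neg hQ (memIdeal_sum hQ hmem)

end CfsgLib.Blocks.ThreePrimes
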