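import Cfsg.Agent.Lib.Blocks.Heights

/-!
# Sums over sections: integrality
-/

namespace CfsgLib.Blocks

open Cfsg CfsgLib.CharTheory Polynomial Pointwise
open scoped ComplexConjugate

set_option linter.unusedVariables false
set_option linter.unusedSimpArgs false
set_option linter.style.haveILetI false
set_option linter.unusedSectionVars false

universe u

variable {G : Type u} [Group G] [Fintype G] {q : ℕ}

theorem conj_orderOf (h g : G) : orderOf (h * g * h⁻¹) = orderOf g := by
  simpa using orderOf_injective (MulAut.conj h).toMonoidHom (MulAut.conj h).injective g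

/-- Uniqueness of the decomposition into `q`-part and `q'`-part. -/
theorem pPart_unique (hq : q.Prime) {z w z' w' : G} (hc : Commute z w) (hc' : Commute z' w')
    (hz : ∃ k, orderOf z = q ^ k) (hz' : ∃ k, orderOf z' = q ^ k) (hw : ¬ q ∣ orderOf w)
    (hw' : ¬ q ∣ orderOf w') (h : z * w = z' * w') : z = z' ∧ w = w' := by
  obtain ⟨a, b, hab, hcab, ⟨k, hk⟩, hb, hax, hbx⟩ := exists_pPart hq (z * w)
  have key : ∀ {z w : G}, Commute z w → (∃ k, orderOf z = q ^ k) → ¬ q ∣ orderOf w →
      z * w = a * b → z = a := by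
    intro z w hc ⟨i, hi⟩ hw he
    have hxz : Commute (a * b) z := by rw [← he]; exact (Commute.refl z).mul_left hc.symm
    have hxw : Commute (a * b) w := by rw [← he]; exact hc.mul_left (Commute.refl w)
    obtain ⟨m, hm⟩ := hax
    obtain ⟨l, hl⟩ := hbx
    rw [← hab] at hm hl
    have haz : Commute a z := hm ▸ hxz.zpow_left m
    have hbw : Commute b w := hl ▸ hxw.zpow_left l
    have e : a⁻¹ * z = b * w⁻¹ := by
      rw [inv_mul_eq_iff_eq_mul, ← mul_assoc, ← he, mul_inv_cancel_right]
    have h1 : orderOf (a⁻¹ * z) ∣ q ^ k * q ^ i := by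
      refine ((haz.inv_left).orderOf_mul_dvd_lcm).trans ?_
      rw [orderOf_inv, hk, hi]
      exact Nat.lcm_dvd_mul _ _
    have h2 : orderOf (a⁻¹ * z) ∣ orderOf b * orderOf w := by
      rw [e]
      refine ((hbw.inv_right).orderOf_mul_dvd_lcm).trans ?_
      rw [orderOf_inv]
      exact Nat.lcm_dvd_mul _ _
    have hcop : Nat.Coprime (q ^ k * q ^ i) (orderOf b * orderOf w) := by
      rw [← pow_add]
      exact Nat.Coprime.pow_left _ (hq.coprime_iff_not_dvd.2 fun h => (hq.dvd_mul.1 h).elim hb hw)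
    have h3 := orderOf_eq_one_iff.1 (Nat.eq_one_of_dvd_coprimes hcop h1 h2)
    exact (inv_mul_eq_one.1 h3).symm
  have h1 := key hc hz hw hab.symm
  have h2 := key hc' hz' hw' (h.symm.trans hab.symm)
  refine ⟨h1.trans h2.symm, ?_⟩
  rw [h1.trans h2.symm] at h
  exact mul_left_cancel h

open Classical in
/-- The `q`-elements. -/
noncomputable def qElts (G : Type u) [Group G] [Fintype G] (q : ℕ) : Finset G :=
  Finset.univ.filter fun u => ∃ k : ℕ, orderOf u = q ^ k

theorem mem_qElts {u : G} : u ∈ qElts G q ↔ ∃ k : ℕ, orderOf u = q ^ k := by simp [qElts]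

/-- Sum over the elements in all Sylow subgroups of a tuple, summed over the tuples. -/
theorem isIntegral_tuple_sum (hq : q.Prime) {f : G → ℂ} (hf : IsClassFunction G f)
    (havg : ∀ R : Subgroup G, IsPGroup q R → ∀ [Fintype R],
      IsIntegral ℤ ((Fintype.card R : ℂ)⁻¹ * ∑ u : R, f u)) {k : ℕ} (hk : 0 < k) :
    IsIntegral ℤ ((∑ u ∈ qElts G q, (Nat.card {P : Sylow q G // u ∈ P} : ℂ) ^ k * f u) /
      (q : ℂ) ^ (Nat.card G).factorization q) := by
  classical
  haveI : Fact q.Prime := ⟨hq⟩
  haveI : Fintype (Sylow q G) := Fintype.ofFinite _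
  set R : (Fin k → Sylow q G) → Subgroup G := fun t => ⨅ i, ((t i : Sylow q G) : Subgroup G)
    with hR
  have hRP : ∀ t, IsPGroup q (R t) := fun t =>
    (t ⟨0, hk⟩).isPGroup'.to_le (iInf_le (fun i => ((t i : Sylow q G) : Subgroup G)) ⟨0, hk⟩)
  set F : (Fin k → Sylow q G) → ℂ := fun t => ∑ u ∈ Finset.univ.filter (· ∈ R t), f u with hF
  have h1 : ∑ u ∈ qElts G q, (Nat.card {P : Sylow q G // u ∈ P} : ℂ) ^ k * f u = ∑ t, F t := by
    simp only [hF, Finset.sum_filter]
    rw [Finset.sum_comm]
    have hmem : ∀ u, (∑ t : Fin k → Sylow q G, if u ∈ R t then f u else 0) =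
        (Nat.card {P : Sylow q G // u ∈ P} : ℂ) ^ k * f u := by
      intro u
      rw [← Finset.sum_filter, Finset.sum_const, nsmul_eq_mul]
      congr 1
      have e : (Finset.univ.filter fun t : Fin k → Sylow q G => u ∈ R t) =
          Fintype.piFinset fun _ : Fin k => Finset.univ.filter fun P : Sylow q G => u ∈ P := by
        ext t; simp [hR, Subgroup.mem_iInf]; rfl
      rw [e, Fintype.card_piFinset, Finset.prod_const, Finset.card_univ, Fintype.card_fin,
        Nat.card_eq_fintype_card, Fintype.card_subtype]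
      push_cast; rfl
    rw [Finset.sum_congr rfl fun u _ => hmem u]
    refine Finset.sum_subset (Finset.subset_univ _) fun u _ hu => ?_
    have h0 : Nat.card {P : Sylow q G // u ∈ P} = 0 := by
      rw [Nat.card_eq_zero]; left
      constructor
      rintro ⟨P, hP⟩
      apply hu
      obtain ⟨e, he⟩ := IsPGroup.iff_orderOf.1 P.isPGroup' ⟨u, hP⟩
      exact mem_qElts.2 ⟨e, by rw [← he, Subgroup.orderOf_mk]⟩
    rw [h0, Nat.cast_zero, zero_pow hk.ne', zero_mul]
  rw [h1, ← Finset.sum_fiberwise Finset.univ (fun t => (⟦t⟧ : Quotient (MulAction.orbitRel G _))),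
    Finset.sum_div]
  refine IsIntegral.sum _ fun O _ => ?_
  obtain ⟨t, rfl⟩ := Quotient.exists_rep O
  have hRsmul : ∀ (g : G) u, g * u * g⁻¹ ∈ R (g • t) ↔ u ∈ R t := by
    intro g u
    simp only [hR, Subgroup.mem_iInf]
    refine forall_congr' fun i => ?_
    show g * u * g⁻¹ ∈ ((g • t i : Sylow q G) : Subgroup G) ↔ _
    rw [Sylow.coe_subgroup_smul, Subgroup.mem_pointwise_smul_iff_inv_smul_mem]
    simp [mul_assoc]
  have hFconst : ∀ s ∈ Finset.univ.filter
      (fun s => (⟦s⟧ : Quotient (MulAction.orbitRel G (Fin k → Sylow q G))) = ⟦t⟧), F s = F t := by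
    intro s hs
    obtain ⟨g, rfl⟩ := Quotient.exact (Finset.mem_filter.1 hs).2
    symm
    refine Finset.sum_bij (fun u _ => g * u * g⁻¹) ?_ ?_ ?_ ?_
    · intro u hu
      exact Finset.mem_filter.2 ⟨Finset.mem_univ _, (hRsmul g u).2 (Finset.mem_filter.1 hu).2⟩
    · intro u _ v _ h
      simpa using h
    · intro v hv
      refine ⟨g⁻¹ * v * g, Finset.mem_filter.2 ⟨Finset.mem_univ _, ?_⟩, by group⟩
      refine (hRsmul g _).1 ?_
      rw [show g * (g⁻¹ * v * g) * g⁻¹ = v by group]
      exact (Finset.mem_filter.1 hv).2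
    · intro u _; rw [hf]
  rw [Finset.sum_congr rfl hFconst, Finset.sum_const, nsmul_eq_mul]
  haveI : Fintype (R t) := Fintype.ofFinite _
  have hFt : F t = (Fintype.card (R t) : ℂ) * ((Fintype.card (R t) : ℂ)⁻¹ * ∑ u : R t, f u) := by
    rw [← mul_assoc, mul_inv_cancel₀ (Nat.cast_ne_zero.2 Fintype.card_ne_zero), one_mul, hF]
    exact Finset.sum_subtype _ (by simp) _
  -- the `q`-part of the stabilizer is `R t`
  set St := MulAction.stabilizer G t with hSt
  obtain ⟨S, hS⟩ : ∃ S : Sylow q St, True := ⟨Classical.choice inferInstance, trivial⟩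
  have hSle : (S : Subgroup St).map St.subtype ≤ R t := by
    rw [hR]
    refine le_iInf fun i => ?_
    intro u hu
    have hN : u ∈ Subgroup.normalizer (((t i : Sylow q G) : Subgroup G) : Set G) := by
      obtain ⟨v, -, rfl⟩ := hu
      exact Sylow.smul_eq_iff_mem_normalizer.1 (congrFun v.2 i)
    have h2 := (S.isPGroup'.map St.subtype).inf_normalizer_sylow (t i)
    exact (h2.le ⟨hu, hN⟩).2
  have hRle : R t ≤ St := by
    intro u hu
    rw [hSt, MulAction.mem_stabilizer_iff]
    funext i
    exact Sylow.smul_eq_iff_mem_normalizer.2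
      (Subgroup.le_normalizer (Subgroup.mem_iInf.1 hu i))
  have hcardR : Fintype.card (R t) = q ^ (Nat.card St).factorization q := by
    rw [← Nat.card_eq_fintype_card]
    refine le_antisymm ?_ ?_
    · obtain ⟨e, he⟩ := IsPGroup.iff_card.1 (hRP t)
      rw [he]
      refine Nat.pow_le_pow_right hq.pos ?_
      have hd := Subgroup.card_dvd_of_le hRle
      rw [he] at hd
      exact (hq.pow_dvd_iff_le_factorization Nat.card_pos.ne').1 hd
    · rw [← S.card_eq_multiplicity, ← Subgroup.card_map_of_injective St.subtype_injective]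
      exact Subgroup.card_le_of_le hSle
  set c := (Finset.univ.filter
    fun s => (⟦s⟧ : Quotient (MulAction.orbitRel G (Fin k → Sylow q G))) = ⟦t⟧).card with hc
  have horb : c * Nat.card St = Nat.card G := by
    rw [← St.index_mul_card]
    congr 1
    rw [hSt, MulAction.index_stabilizer, hc, ← Fintype.card_subtype, ← Nat.card_eq_fintype_card,
      ← Nat.card_coe_set_eq]
    refine Nat.card_congr (Equiv.subtypeEquivRight fun s => ?_)
    exact (Quotient.eq (r := MulAction.orbitRel G (Fin k → Sylow q G))).trans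
      MulAction.orbitRel_apply
  have hdiv : q ^ (Nat.card G).factorization q ∣ c * Fintype.card (R t) := by
    have hcpos : c ≠ 0 := fun h0 => by
      rw [h0, zero_mul] at horb; exact Nat.card_pos.ne' horb.symm
    rw [hcardR, ← horb, Nat.factorization_mul hcpos Nat.card_pos.ne', Finsupp.add_apply, pow_add]
    exact mul_dvd_mul (Nat.ordProj_dvd c q) dvd_rfl
  obtain ⟨e, he⟩ := hdiv
  have he' : (c : ℂ) * (Fintype.card (R t) : ℂ) = (q : ℂ) ^ (Nat.card G).factorization q * e := by
    exact_mod_cast he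
  rw [hFt, ← mul_assoc, he', mul_assoc,
    mul_div_cancel_left₀ _ (pow_ne_zero _ (Nat.cast_ne_zero.2 hq.ne_zero))]
  exact (isIntegral_natCast e).mul (havg _ (hRP t))

/-- Up to a factor prime to `q`, the sum over the `q`-elements is divisible by the order of a
Sylow `q`-subgroup. -/
theorem exists_isIntegral_qElts_sum (hq : q.Prime) {f : G → ℂ} (hf : IsClassFunction G f)
    (havg : ∀ R : Subgroup G, IsPGroup q R → ∀ [Fintype R],
      IsIntegral ℤ ((Fintype.card R : ℂ)⁻¹ * ∑ u : R, f u)) :
    ∃ N : ℤ, ¬ (q : ℤ) ∣ N ∧ IsIntegral ℤ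
      ((N : ℂ) * (∑ u ∈ qElts G q, f u) / (q : ℂ) ^ (Nat.card G).factorization q) := by
  classical
  haveI : Fact q.Prime := ⟨hq⟩
  haveI : Fintype (Sylow q G) := Fintype.ofFinite _
  set n : G → ℕ := fun u => Nat.card {P : Sylow q G // u ∈ P} with hn
  have hmod : ∀ u ∈ qElts G q, ¬ q ∣ n u := by
    intro u hu
    have hP : IsPGroup q (Subgroup.zpowers u) := by
      obtain ⟨e, he⟩ := mem_qElts.1 hu
      exact IsPGroup.iff_card.2 ⟨e, by rw [Nat.card_zpowers, he]⟩
    have h1 := hP.card_modEq_card_fixedPoints (Sylow q G)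
    have e : Nat.card (MulAction.fixedPoints (Subgroup.zpowers u) (Sylow q G)) = n u := by
      refine Nat.card_congr (Equiv.subtypeEquivRight fun P => ?_)
      rw [MulAction.mem_fixedPoints]
      constructor
      · intro h
        have hN : Subgroup.zpowers u ≤ Subgroup.normalizer ((P : Subgroup G) : Set G) := fun v hv =>
          Sylow.smul_eq_iff_mem_normalizer.1 (h ⟨v, hv⟩)
        exact ((hP.inf_normalizer_sylow P).le
          ⟨Subgroup.mem_zpowers u, hN (Subgroup.mem_zpowers u)⟩).2
      · intro h v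
        exact Sylow.smul_eq_iff_mem_normalizer.2
          (Subgroup.le_normalizer ((Subgroup.zpowers_le.2 h) v.2))
    rw [e] at h1
    have h2 := h1.symm.trans (card_sylow_modEq_one q G)
    intro hd
    exact hq.not_dvd_one (Nat.modEq_zero_iff_dvd.1
      (h2.symm.trans (Nat.modEq_zero_iff_dvd.2 hd)))
  set V : Finset ℕ := (qElts G q).image n with hV
  set P : Polynomial ℤ := ∏ m ∈ V, (C (m : ℤ) - X) with hP
  refine ⟨P.coeff 0, ?_, ?_⟩
  · rw [coeff_zero_eq_eval_zero, hP, eval_prod]
    simp only [eval_sub, eval_C, eval_X, sub_zero]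
    rw [(Nat.prime_iff_prime_int.1 hq).dvd_finsetProd_iff]
    rintro ⟨m, hm, hd⟩
    obtain ⟨u, hu, rfl⟩ := Finset.mem_image.1 hm
    exact hmod u hu (Int.natCast_dvd_natCast.1 hd)
  · have hzero : ∀ u ∈ qElts G q,
        ∑ i ∈ Finset.range (P.natDegree + 1), (P.coeff i : ℂ) * (n u : ℂ) ^ i = 0 := by
      intro u hu
      have h1 : P.eval ((n u : ℤ)) = 0 := by
        rw [hP, eval_prod]
        exact Finset.prod_eq_zero (Finset.mem_image_of_mem n hu) (by simp)
      rw [eval_eq_sum_range] at h1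
      exact_mod_cast h1
    have h2 : ∑ i ∈ Finset.range (P.natDegree + 1),
        (P.coeff i : ℂ) * ∑ u ∈ qElts G q, (n u : ℂ) ^ i * f u = 0 := by
      simp only [Finset.mul_sum, ← mul_assoc]
      rw [Finset.sum_comm]
      refine Finset.sum_eq_zero fun u hu => ?_
      rw [← Finset.sum_mul, hzero u hu, zero_mul]
    rw [Finset.sum_range_succ' _ P.natDegree] at h2
    simp only [pow_zero, one_mul] at h2
    rw [eq_neg_of_add_eq_zero_right h2, neg_div, Finset.sum_div]
    refine (IsIntegral.sum _ fun i _ => ?_).neg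
    rw [mul_div_assoc]
    exact (isIntegral_intCast _).mul (isIntegral_tuple_sum hq hf havg i.succ_pos)

/-- A set closed under conjugation and made of whole `q`-sections. -/
def IsSectionClosed (q : ℕ) (X : G → Prop) : Prop :=
  (∀ h x : G, X x → X (h * x * h⁻¹)) ∧
    ∀ z w : G, Commute z w → (∃ k, orderOf z = q ^ k) → ¬ q ∣ orderOf w → (X (z * w) ↔ X w)

/-- Up to a factor prime to `q`, the sum of a character over a section closed set is divisible by
the `q`-part of the group order. -/
theorem exists_isIntegral_section_sum (hq : q.Prime) {θ : G → ℂ} (hθ : IsCharacter G θ)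
    {X : G → Prop} [DecidablePred X] (hX : IsSectionClosed q X) :
    ∃ N : ℤ, ¬ (q : ℤ) ∣ N ∧ IsIntegral ℤ
      ((N : ℂ) * (∑ g ∈ Finset.univ.filter X, θ g) / (q : ℂ) ^ (Nat.card G).factorization q) := by
  classical
  have hθc := isClassFunction_char hθ
  haveI : ∀ s : G, Fintype (Subgroup.centralizer ({s} : Set G)) := fun s => Fintype.ofFinite _
  set L : G → Finset G := fun s =>
    Finset.univ.filter fun u => Commute u s ∧ ∃ k, orderOf u = q ^ k with hL
  set S : Finset G := Finset.univ.filter fun s => X s ∧ ¬ q ∣ orderOf s with hS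
  set T : G → ℂ := fun s => ∑ u ∈ L s, θ (u * s) with hT
  have hdec : ∑ g ∈ Finset.univ.filter X, θ g = ∑ s ∈ S, T s := by
    simp only [hT]
    rw [Finset.sum_sigma']
    symm
    refine Finset.sum_bij (fun su _ => su.2 * su.1) ?_ ?_ ?_ (fun _ _ => rfl)
    · rintro ⟨s, u⟩ h
      simp only [Finset.mem_sigma, hS, hL, Finset.mem_filter, Finset.mem_univ, true_and] at h
      exact Finset.mem_filter.2 ⟨Finset.mem_univ _, (hX.2 u s h.2.1 h.2.2 h.1.2).2 h.1.1⟩
    · rintro ⟨s, u⟩ h ⟨s', u'⟩ h' e
      simp only [Finset.mem_sigma, hS, hL, Finset.mem_filter, Finset.mem_univ, true_and] at h h'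
      obtain ⟨rfl, rfl⟩ := pPart_unique hq h.2.1 h'.2.1 h.2.2 h'.2.2 h.1.2 h'.1.2 e
      rfl
    · intro g hg
      obtain ⟨z, w, hzw, hc, hz, hw, -, -⟩ := exists_pPart hq g
      refine ⟨⟨w, z⟩, ?_, hzw⟩
      simp only [Finset.mem_sigma, hS, hL, Finset.mem_filter, Finset.mem_univ, true_and]
      exact ⟨⟨(hX.2 z w hc hz hw).1 (hzw.symm ▸ (Finset.mem_filter.1 hg).2), hw⟩, hc, hz⟩
  have hTcl : ∀ s h : G, T (h * s * h⁻¹) = T s := by
    intro s h
    symm
    refine Finset.sum_equiv (MulAut.conj h).toEquiv (fun u => ?_) (fun u _ => ?_)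
    · simp only [hL, Finset.mem_filter, Finset.mem_univ, true_and, MulEquiv.toEquiv_eq_coe,
        MulEquiv.coe_toEquiv, MulAut.conj_apply, conj_orderOf]
      constructor
      · rintro ⟨hc, hu⟩
        exact ⟨(hc.map (MulAut.conj h).toMonoidHom), hu⟩
      · rintro ⟨hc, hu⟩
        refine ⟨?_, hu⟩
        have := hc.map (MulAut.conj h⁻¹).toMonoidHom
        simpa [mul_assoc] using this
    · simp only [MulEquiv.toEquiv_eq_coe, MulEquiv.coe_toEquiv, MulAut.conj_apply]
      rw [show h * u * h⁻¹ * (h * s * h⁻¹) = h * (u * s) * h⁻¹ by group, hθc]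
  have hloc : ∀ s, ∃ N : ℤ, ¬ (q : ℤ) ∣ N ∧ IsIntegral ℤ ((N : ℂ) * T s /
      (q : ℂ) ^ (Nat.card (Subgroup.centralizer ({s} : Set G))).factorization q) := by
    intro s
    set C := Subgroup.centralizer ({s} : Set G) with hC
    have hf : IsClassFunction C (fun u : C => θ ((u : G) * s)) := by
      intro u h
      have hc := Subgroup.mem_centralizer_singleton_iff.1 h.2
      show θ (((h * u * h⁻¹ : C) : G) * s) = θ ((u : G) * s)
      rw [show (((h * u * h⁻¹ : C) : G)) * s = (h : G) * ((u : G) * s) * (h : G)⁻¹ by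
        simp only [Subgroup.coe_mul, Subgroup.coe_inv, mul_assoc]
        rw [((show Commute (h : G) s from hc).inv_left).eq], hθc]
    obtain ⟨N, hN, hi⟩ := exists_isIntegral_qElts_sum hq hf (fun R hR => by
      intro _
      haveI : Fintype (R.map C.subtype) := Fintype.ofFinite _
      have hs : s ∈ Subgroup.centralizer ((R.map C.subtype : Subgroup G) : Set G) := by
        rintro _ ⟨v, -, rfl⟩
        exact Subgroup.mem_centralizer_singleton_iff.1 v.2
      have h := isIntegral_average hθ (R.map C.subtype) hs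
      let e := (R.equivMapOfInjective C.subtype C.subtype_injective).toEquiv
      rw [← Fintype.card_congr e] at h
      convert h using 2
      refine Fintype.sum_equiv e _ _ fun v => ?_
      show θ ((v : G) * s) = θ (s * (v : G))
      rw [Subgroup.mem_centralizer_singleton_iff.1 (v : C).2])
    refine ⟨N, hN, ?_⟩
    convert hi using 4
    simp only [hT]
    symm
    refine Finset.sum_bij (fun u _ => (u : G)) ?_ (fun _ _ _ _ e => Subtype.ext e) ?_
      (fun _ _ => rfl)
    · intro u hu
      obtain ⟨k, hk⟩ := mem_qElts.1 hu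
      exact Finset.mem_filter.2 ⟨Finset.mem_univ _,
        Subgroup.mem_centralizer_singleton_iff.1 u.2, k, by rw [Subgroup.orderOf_coe, hk]⟩
    · intro u hu
      obtain ⟨-, hc, k, hk⟩ := Finset.mem_filter.1 hu
      exact ⟨⟨u, Subgroup.mem_centralizer_singleton_iff.2 hc⟩,
        mem_qElts.2 ⟨k, by rw [← hk, Subgroup.orderOf_mk]⟩, rfl⟩
  choose N hN hi using hloc
  haveI : Fintype (ConjClasses G) := Fintype.ofFinite _
  refine ⟨∏ C : ConjClasses G, N (crep C), ?_, ?_⟩
  · rw [(Nat.prime_iff_prime_int.1 hq).dvd_finsetProd_iff]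
    rintro ⟨C, -, h⟩
    exact hN _ h
  rw [hdec, ← Finset.sum_fiberwise S ConjClasses.mk, Finset.mul_sum, Finset.sum_div]
  refine IsIntegral.sum _ fun C _ => ?_
  rcases (S.filter fun s => ConjClasses.mk s = C).eq_empty_or_nonempty with h | ⟨s₀, hs₀⟩
  · rw [h]; simp [isIntegral_zero]
  have hiff : ∀ s : G, ConjClasses.mk s = C ↔ IsConj (crep C) s := fun s => by
    rw [← ConjClasses.mk_eq_mk_iff_isConj, mk_crep]; exact eq_comm
  have hSC : ∀ s, IsConj (crep C) s → s ∈ S := by
    intro s hs
    obtain ⟨hs0, hC0⟩ := Finset.mem_filter.1 hs₀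
    obtain ⟨h, hh⟩ := isConj_iff.1 (((hiff s₀).1 hC0).symm.trans hs)
    obtain ⟨-, hX0, hord⟩ := Finset.mem_filter.1 hs0
    subst hh
    exact Finset.mem_filter.2 ⟨Finset.mem_univ _, hX.1 h s₀ hX0, by rwa [conj_orderOf]⟩
  have hconst : ∀ s ∈ S.filter (fun s => ConjClasses.mk s = C), T s = T (crep C) := by
    intro s hs
    obtain ⟨h, rfl⟩ := isConj_iff.1 ((hiff s).1 (Finset.mem_filter.1 hs).2)
    exact hTcl _ h
  have hcard : (S.filter fun s => ConjClasses.mk s = C).card =
      (Subgroup.centralizer ({crep C} : Set G)).index := by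
    rw [index_centralizer_eq, Nat.card_eq_fintype_card, Fintype.card_subtype]
    congr 1
    ext s
    simp only [Finset.mem_filter, Finset.mem_univ, true_and, hiff]
    exact ⟨fun h => h.2, fun h => ⟨hSC s h, h⟩⟩
  rw [Finset.sum_congr rfl hconst, Finset.sum_const, nsmul_eq_mul, hcard]
  set D := Subgroup.centralizer ({crep C} : Set G) with hD
  obtain ⟨e, he⟩ : q ^ D.index.factorization q ∣ D.index := Nat.ordProj_dvd _ _
  have hv := factorization_index_add q D
  rw [← Finset.prod_erase_mul _ _ (Finset.mem_univ C), Int.cast_mul]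
  have hE : ((∏ C' ∈ Finset.univ.erase C, N (crep C') : ℤ) : ℂ) * (N (crep C) : ℂ) *
      ((D.index : ℂ) * T (crep C)) / (q : ℂ) ^ (Nat.card G).factorization q =
      (((∏ C' ∈ Finset.univ.erase C, N (crep C')) * (e : ℤ) : ℤ) : ℂ) *
        ((N (crep C) : ℂ) * T (crep C) / (q : ℂ) ^ (Nat.card D).factorization q) := by
    rw [← hv, pow_add]
    conv_lhs => arg 1; arg 2; arg 1; rw [he]
    have hq0 : (q : ℂ) ≠ 0 := Nat.cast_ne_zero.2 hq.ne_zero
    push_cast
    field_simp
  rw [hE]
  exact (isIntegral_intCast _).mul (hi _)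

end CfsgLib.Blocks
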