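import Cfsg.Agent.Lib.Blocks.SecondMain
import Cfsg.Agent.Lib.Blocks.Principal
import Cfsg.Agent.Lib.Blocks.Sections
import Cfsg.Agent.Lib.TransferApps
import Cfsg.Agent.Lib.PComplement

/-!
# Abelian Sylow subgroups with a fixed point free normaliser: the local structure
-/

namespace CfsgLib.Blocks.AbelianFree

open Cfsg CfsgLib.CharTheory
open scoped ComplexConjugate

set_option linter.unusedVariables false
set_option linter.style.haveILetI false
set_option linter.unusedSectionVars false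

universe u

variable {G : Type u} [Group G] [Fintype G] {p : ℕ}

/-- The hypotheses. -/
structure Free (P : Sylow p G) (m : ℕ) : Prop where
  prime : p.Prime
  comm : ∀ x ∈ (P : Subgroup G), ∀ y ∈ (P : Subgroup G), x * y = y * x
  rel : (Subgroup.centralizer ((P : Subgroup G) : Set G)).relIndex
    (Subgroup.normalizer ((P : Subgroup G) : Set G)) = m
  free : ∀ y : G, y ∈ (P : Subgroup G) → y ≠ 1 →
    Subgroup.centralizer ({y} : Set G) ⊓ Subgroup.normalizer ((P : Subgroup G) : Set G) =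
      Subgroup.centralizer ((P : Subgroup G) : Set G)

variable {P : Sylow p G} {m : ℕ} {M : Ideal AlgInt}

theorem Free.le_cent (h : Free P m) :
    (P : Subgroup G) ≤ Subgroup.centralizer ((P : Subgroup G) : Set G) :=
  fun x hx => Subgroup.mem_centralizer_iff.2 fun y hy => h.comm y hy x hx

theorem isCentr_centralizer (y : G) : IsCentr y (Subgroup.centralizer ({y} : Set G)) :=
  fun g => Subgroup.mem_centralizer_singleton_iff

theorem Free.le_cy (h : Free P m) {y : G} (hy : y ∈ (P : Subgroup G)) :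
    (P : Subgroup G) ≤ Subgroup.centralizer ({y} : Set G) :=
  fun x hx => Subgroup.mem_centralizer_singleton_iff.2 (h.comm x hx y hy)

theorem Free.ppow (h : Free P m) {y : G} (hy : y ∈ (P : Subgroup G)) :
    ∃ k : ℕ, orderOf y = p ^ k := by
  haveI : Fact p.Prime := ⟨h.prime⟩
  obtain ⟨k, hk⟩ := (IsPGroup.iff_orderOf.1 P.2) ⟨y, hy⟩
  exact ⟨k, by rw [← hk, ← Subgroup.orderOf_coe]⟩

theorem Free.exists_complement (h : Free P m) {y : G} (hy : y ∈ (P : Subgroup G)) (hy1 : y ≠ 1) :
    ∃ K : Subgroup (Subgroup.centralizer ({y} : Set G)), K.Normal ∧ ¬ p ∣ Nat.card K ∧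
      K.index = Nat.card P := by
  classical
  haveI : Fact p.Prime := ⟨h.prime⟩
  set C := Subgroup.centralizer ({y} : Set G)
  set Q : Sylow p C := P.subtype (h.le_cy hy)
  have hQmem : ∀ x : C, x ∈ (Q : Subgroup C) ↔ (x : G) ∈ (P : Subgroup G) := fun x => Iff.rfl
  have hle : Subgroup.normalizer ((Q : Subgroup C) : Set C) ≤
      Subgroup.centralizer ((Q : Subgroup C) : Set C) := by
    intro t ht
    have htN : (t : G) ∈ Subgroup.normalizer ((P : Subgroup G) : Set G) := by
      refine Subgroup.mem_normalizer_iff.2 fun z => ⟨fun hz => ?_, fun hz => ?_⟩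
      · exact (hQmem _).1 ((Subgroup.mem_normalizer_iff.1 ht ⟨z, h.le_cy hy hz⟩).1 ((hQmem _).2 hz))
      · have hzC : z ∈ C := by
          have := C.mul_mem (C.mul_mem (C.inv_mem t.2) (h.le_cy hy hz)) t.2
          simpa [mul_assoc] using this
        exact (hQmem _).1 ((Subgroup.mem_normalizer_iff.1 ht ⟨z, hzC⟩).2 ((hQmem _).2 hz))
    have h1 : (t : G) ∈ Subgroup.centralizer ((P : Subgroup G) : Set G) :=
      h.free y hy hy1 ▸ ⟨t.2, htN⟩
    exact Subgroup.mem_centralizer_iff.2 fun z hz =>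
      Subtype.ext (Subgroup.mem_centralizer_iff.1 h1 _ ((hQmem z).1 hz))
  have hc := MonoidHom.ker_transferSylow_isComplement' Q hle
  refine ⟨(MonoidHom.transferSylow Q hle).ker, inferInstance, ?_, ?_⟩
  · intro hd
    exact Q.not_dvd_index (hc.index_eq_card ▸ hd)
  · rw [hc.symm.index_eq_card]
    exact Nat.card_congr
      { toFun := fun x => ⟨((x : C) : G), (hQmem x).1 x.2⟩
        invFun := fun z => ⟨⟨z, h.le_cy hy z.2⟩, (hQmem _).2 z.2⟩
        left_inv := fun x => rfl
        right_inv := fun z => rfl }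

theorem mem_iff_regular {C : Type u} [Group C] [Finite C] (hp : p.Prime) {K : Subgroup C}
    [K.Normal] (hK : ¬ p ∣ Nat.card K) {k : ℕ} (hidx : K.index = p ^ k) (c : C) :
    c ∈ K ↔ ¬ p ∣ orderOf c := by
  refine ⟨fun hc hd => hK (hd.trans (Subgroup.orderOf_dvd_natCard K hc)), fun hc => ?_⟩
  rw [← QuotientGroup.eq_one_iff, ← orderOf_eq_one_iff]
  refine Nat.eq_one_of_dvd_coprimes ((hp.coprime_iff_not_dvd.2 hc).pow_left k) ?_
    (orderOf_map_dvd (QuotientGroup.mk' K) c)
  rw [← hidx, Subgroup.index_eq_card]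
  exact orderOf_dvd_natCard _

open Classical in
/-- The regular elements commuting with `y`. -/
noncomputable def regC (p : ℕ) (y : G) : Finset G :=
  Finset.univ.filter fun v => Commute v y ∧ ¬ p ∣ orderOf v

theorem mem_regC {y v : G} : v ∈ regC p y ↔ Commute v y ∧ ¬ p ∣ orderOf v := by simp [regC]

theorem one_mem_regC (hp : p.Prime) (y : G) : (1 : G) ∈ regC p y :=
  mem_regC.2 ⟨Commute.one_left y, by simp [hp.ne_one]⟩

theorem sum_regC (hp : p.Prime) {y : G} {K : Subgroup (Subgroup.centralizer ({y} : Set G))}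
    [K.Normal] [Fintype K] (hK : ¬ p ∣ Nat.card K) {k : ℕ} (hidx : K.index = p ^ k)
    {R : Type*} [AddCommMonoid R] (f : G → R) :
    ∑ v ∈ regC p y, f v = ∑ c : K, f ((c : Subgroup.centralizer ({y} : Set G)) : G) := by
  symm
  refine Finset.sum_bij (fun c _ => ((c : Subgroup.centralizer ({y} : Set G)) : G)) (fun c _ => ?_)
    (fun a _ b _ e => Subtype.ext (Subtype.ext e)) (fun v hv => ?_) (fun _ _ => rfl)
  · refine mem_regC.2 ⟨(isCentr_centralizer y _).1 (c : Subgroup.centralizer ({y} : Set G)).2, ?_⟩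
    rw [Subgroup.orderOf_coe]
    exact (mem_iff_regular hp hK hidx _).1 c.2
  · obtain ⟨h1, h2⟩ := mem_regC.1 hv
    exact ⟨⟨⟨v, (isCentr_centralizer y _).2 h1⟩, (mem_iff_regular hp hK hidx _).2
      (by rw [← Subgroup.orderOf_coe]; exact h2)⟩, Finset.mem_univ _, rfl⟩

theorem Free.card_regC (h : Free P m) {y : G} (hy : y ∈ (P : Subgroup G)) (hy1 : y ≠ 1) :
    Nat.card (Subgroup.centralizer ({y} : Set G)) = Nat.card P * (regC p y).card := by
  classical
  haveI : Fact p.Prime := ⟨h.prime⟩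
  obtain ⟨K, hKn, hK, hidx⟩ := h.exists_complement hy hy1
  haveI := hKn
  obtain ⟨k, hk⟩ := P.2.exists_card_eq
  rw [Finset.card_eq_sum_ones, sum_regC h.prime hK (hidx.trans hk), ← Finset.card_eq_sum_ones,
    Finset.card_univ, ← Nat.card_eq_fintype_card, ← hidx, Subgroup.index_mul_card]

/-- The sum over the characters trivial on a normal subgroup. -/
theorem kernel_sum {C : Type u} [Group C] [Fintype C] (K : Subgroup C) [K.Normal]
    [DecidablePred (· ∈ K)] (c : C) :
    ∑ φ ∈ bset {φ : IrrCharacter C | ∀ n ∈ K, (φ : C → ℂ) n = (φ : C → ℂ) 1},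
      (φ : C → ℂ) 1 * conj ((φ : C → ℂ) c) = if c ∈ K then (K.index : ℂ) else 0 := by
  classical
  set A := {φ : IrrCharacter C | ∀ n ∈ K, (φ : C → ℂ) n = (φ : C → ℂ) 1}
  have he : cf (ind A) = avgFn K := by
    rw [← cf_omega (avgFn_isClassFunction K)]
    congr 1
    funext φ
    by_cases h : φ ∈ A
    · rw [ind_of_mem h, (omega_avgFn K φ).2.2 h]
    · rw [ind_of_notMem h]
      exact ((omega_avgFn K φ).1.resolve_right fun h1 => h ((omega_avgFn K φ).2.1 h1)).symm
  have h2 := congrFun he c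
  rw [cf_ind, blockCoeff, finsum_mem_bset] at h2
  simp only [avgFn] at h2
  have hG : (Nat.card C : ℂ) ≠ 0 := Nat.cast_ne_zero.2 Nat.card_pos.ne'
  have hN' : (Nat.card K : ℂ) ≠ 0 := Nat.cast_ne_zero.2 Nat.card_pos.ne'
  rw [inv_mul_eq_iff_eq_mul₀ hG] at h2
  rw [h2]
  split_ifs
  · rw [← K.index_mul_card, Nat.cast_mul, mul_inv_cancel_right₀ hN']
  · rw [mul_zero]

/-- On a section through `P` the characters outside the principal block average to zero and those
inside are constant. -/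
theorem Free.section_key (hM : IsPModular p M) (h : Free P m) {y : G} (hy : y ∈ (P : Subgroup G))
    (hy1 : y ≠ 1) (χ : IrrCharacter G) {v : G} (hv : v ∈ regC p y) :
    ((regC p y).card : ℂ) * (ind (principalBlock M G) χ * (χ : G → ℂ) (y * v)) =
      ∑ w ∈ regC p y, (χ : G → ℂ) (y * w) := by
  classical
  haveI : Fact p.Prime := ⟨h.prime⟩
  have hc := isCentr_centralizer y
  set C := Subgroup.centralizer ({y} : Set G) with hC
  obtain ⟨K, hKn, hK, hidx⟩ := h.exists_complement hy hy1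
  haveI := hKn
  obtain ⟨k, hk⟩ := P.2.exists_card_eq
  have hreg := mem_iff_regular h.prime hK (hidx.trans hk)
  obtain ⟨hvc, hvr⟩ := mem_regC.1 hv
  set v' : C := ⟨v, (hc v).2 hvc⟩
  have hvK : v' ∈ K := (hreg v').2 (by rw [← Subgroup.orderOf_coe]; exact hvr)
  have h1 := sec_eq_overBlocks hM hc (h.ppow hy) principalBlock_isPBlock χ
    (y := v') (by rw [← Subgroup.orderOf_coe]; exact hvr)
  rw [overBlocks_principal hM hc (h.ppow hy),
    principalBlock_of_complement (G := C) hM hK ⟨k, hidx.trans hk⟩, blockPart_apply] at h1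
  rw [← h1, Finset.sum_congr rfl fun φ hφ => by rw [(mem_bset.1 hφ) v' hvK]]
  have e : ∀ φ : IrrCharacter C, classInner (sec y C (χ : G → ℂ)) (φ : C → ℂ) * (φ : C → ℂ) 1 =
      (Nat.card C : ℂ)⁻¹ * ∑ c : C,
        sec y C (χ : G → ℂ) c * ((φ : C → ℂ) 1 * conj ((φ : C → ℂ) c)) := by
    intro φ
    rw [classInner, mul_assoc, Finset.sum_mul]
    exact congrArg _ (Finset.sum_congr rfl fun c _ => by ring)
  rw [Finset.sum_congr rfl fun φ _ => e φ, ← Finset.mul_sum, Finset.sum_comm,
    Finset.sum_congr rfl fun c _ => by rw [← Finset.mul_sum, kernel_sum K c, mul_ite, mul_zero],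
    ← Finset.sum_filter, ← Finset.sum_mul]
  rw [Finset.sum_subtype (Finset.univ.filter fun c : C => c ∈ K) (p := fun c => c ∈ K)
    (fun c => by simp), sum_regC h.prime hK (hidx.trans hk), Finset.card_eq_sum_ones,
    sum_regC h.prime hK (hidx.trans hk), ← Finset.card_eq_sum_ones, Finset.card_univ,
    ← Nat.card_eq_fintype_card, ← K.index_mul_card, Nat.cast_mul]
  have hN' : (Nat.card K : ℂ) ≠ 0 := Nat.cast_ne_zero.2 Nat.card_pos.ne'
  have hI : (K.index : ℂ) ≠ 0 := Nat.cast_ne_zero.2 Subgroup.index_ne_zero_of_finite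
  show _ = ∑ c : K, sec y C (χ : G → ℂ) c
  field_simp

/-- The values of the principal block are constant on sections through `P`. -/
theorem Free.section_const (hM : IsPModular p M) (h : Free P m) {y : G}
    (hy : y ∈ (P : Subgroup G)) (hy1 : y ≠ 1) {χ : IrrCharacter G}
    (hχ : χ ∈ principalBlock M G) {v : G} (hv : v ∈ regC p y) :
    (χ : G → ℂ) (y * v) = (χ : G → ℂ) y := by
  have hne : ((regC p y).card : ℂ) ≠ 0 :=
    Nat.cast_ne_zero.2 (Finset.card_pos.2 ⟨1, one_mem_regC h.prime y⟩).ne'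
  have h1 := h.section_key hM hy hy1 χ hv
  have h2 := h.section_key hM hy hy1 χ (one_mem_regC h.prime y)
  rw [← h2, ind_of_mem hχ, one_mul, one_mul, mul_one] at h1
  exact mul_left_cancel₀ hne h1

theorem Free.section_sum (hM : IsPModular p M) (h : Free P m) {y : G} (hy : y ∈ (P : Subgroup G))
    (hy1 : y ≠ 1) (χ : IrrCharacter G) :
    ∑ w ∈ regC p y, (χ : G → ℂ) (y * w) =
      (regC p y).card * (ind (principalBlock M G) χ * (χ : G → ℂ) y) := by
  rw [← h.section_key hM hy hy1 χ (one_mem_regC h.prime y), mul_one]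

/-- An element with the `p`-part `z ∈ P`. -/
theorem Free.value_pPart (hM : IsPModular p M) (h : Free P m) {χ : IrrCharacter G}
    (hχ : χ ∈ principalBlock M G) {z y : G} (hz : IsPPart p z y) (hy : y ∈ (P : Subgroup G))
    (hy1 : y ≠ 1) : (χ : G → ℂ) z = (χ : G → ℂ) y := by
  obtain ⟨v, rfl, hc, -, hv⟩ := hz
  exact h.section_const hM hy hy1 hχ (mem_regC.2 ⟨hc.symm, hv⟩)

end CfsgLib.Blocks.AbelianFree
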