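import Cfsg.Agent.Lib.Blocks.HeightBound

/-!
# Brauer: every character of a block is nonzero on the section of a central element of the defect
group
-/

namespace CfsgLib.Blocks

open Cfsg CfsgLib.CharTheory

set_option linter.unusedVariables false
set_option linter.style.haveILetI false
set_option linter.unusedSectionVars false

universe u

variable {p : ℕ} {M : Ideal AlgInt} {G : Type u} [Group G] [Fintype G]

/-- A block has a major subsection at each central element of a defect group, and every member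
of the block is nonzero on it. -/
theorem exists_major_value_ne_zero (hM : IsPModular p M) {B : Set (IrrCharacter G)}
    (hB : IsPBlock M B) {D : Subgroup G} (hD : IsDefectGroup p M B D) {z : G} (hzD : z ∈ D)
    (hzc : ∀ d ∈ D, d * z = z * d) {ψ : IrrCharacter G} (hψ : ψ ∈ B) :
    ∃ c : G, Commute c z ∧ ¬ p ∣ orderOf c ∧ (ψ : G → ℂ) (z * c) ≠ 0 := by
  classical
  haveI : Fact p.Prime := ⟨hM.1⟩
  haveI : ∀ Q : Subgroup G, Fintype (Subgroup.centralizer (Q : Set G)) :=
    fun Q => Fintype.ofFinite _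
  obtain ⟨e, hmax⟩ := exists_maximal_at hM hB hD
  have hDp : IsPGroup p D := hmax.1.1.1
  have hdef := card_defectGroup hM hB hD
  have hle : Subgroup.zpowers z ≤ D := Subgroup.zpowers_le.2 hzD
  have hord : ∃ k : ℕ, orderOf z = p ^ k := by
    obtain ⟨k, hk⟩ := hDp ⟨z, hzD⟩
    obtain ⟨i, -, hi⟩ := (Nat.dvd_prime_pow hM.1).1
      (orderOf_dvd_of_pow_eq_one (congrArg Subtype.val hk))
    exact ⟨i, hi⟩
  set H := Subgroup.centralizer ((Subgroup.zpowers z : Subgroup G) : Set G) with hH
  obtain ⟨f, ⟨hf, hlez⟩, -⟩ := existsUnique_subpair hM hDp hmax.1.1.2 _ hle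
  have hDC : D ≤ H := fun d hd => (isCentr_zpowers z d).2 (hzc d hd)
  have hind : IsInducedBlock M H f B :=
    (induced_centralizer_iff hM (hDp.to_le hle)).2 ((pairOf_subpair_iff hM hlez B).2 hmax.1)
  have hbd : blockDefect p f = blockDefect p B := by
    have e1 := card_centP_le hM hDp hle hf hmax.1.1.2 hlez
    rw [inf_eq_left.2 hDC, hdef] at e1
    obtain ⟨w, -, e2⟩ := exists_conj_centP hM hmax hf hlez
    exact Nat.pow_right_injective hM.1.two_le
      (le_antisymm (e2.le.trans ((Subgroup.card_le_of_le inf_le_left).trans hdef.le)) e1)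
  obtain ⟨χ, hχ, h0⟩ := exists_height_zero hM hB
  obtain ⟨u, hu, -, hu0⟩ := secPair_div hM (isCentr_zpowers z) hord hind hbd hχ hψ h0
  by_contra hno
  push Not at hno
  refine hu0 ((mul_eq_zero.1 (hu.symm.trans ?_)).resolve_left
    (pow_ne_zero _ (Nat.cast_ne_zero.2 hM.1.ne_zero)))
  rw [secPair, Finset.sum_eq_zero, mul_zero]
  intro y hy
  have hf' : ∀ φ ∈ f, blockOf M (φ : H → ℂ) ⊆ f := fun φ hφ => (eq_blockOf hM hf hφ).ge
  have h1 : blockPart f (sec z H (ψ : G → ℂ)) y = 0 := by
    rw [blockPart_regular hM hf' _ (Finset.mem_filter.1 hy).2, Finset.sum_eq_zero, mul_zero]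
    intro c hc
    have hzero : (ψ : G → ℂ) (z * (c : G)) = 0 := hno (c : G) ((isCentr_zpowers z _).1 c.2)
      (by rw [Subgroup.orderOf_coe]; exact (Finset.mem_filter.1 hc).2)
    rw [show sec z H (ψ : G → ℂ) c = 0 from hzero, zero_mul]
  rw [h1, map_zero, mul_zero]

end CfsgLib.Blocks
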