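import Cfsg.Agent.Lib.Blocks.BlockBasics

/-!
# Blocks and inflation from quotient groups
-/

namespace CfsgLib.Blocks.Inflation

open Cfsg CfsgLib.CharTheory CfsgLib.Blocks CfsgLib.Blocks.BlockBasics
open scoped ComplexConjugate

set_option linter.unusedVariables false
set_option linter.style.haveILetI false
set_option linter.unusedSectionVars false

universe u

variable {p : ℕ} {M : Ideal AlgInt} {G : Type u} [Group G] [Fintype G]

/-- The inflation of an irreducible character. -/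
noncomputable def inflIrr (N : Subgroup G) [N.Normal] (χ : IrrCharacter (G ⧸ N)) : IrrCharacter G :=
  ⟨fun g => (χ : G ⧸ N → ℂ) (QuotientGroup.mk' N g),
    isIrrCharacter_comp_surjective χ.2 (QuotientGroup.mk' N) (QuotientGroup.mk'_surjective N)⟩

theorem inflIrr_apply (N : Subgroup G) [N.Normal] (χ : IrrCharacter (G ⧸ N)) (g : G) :
    (inflIrr N χ : G → ℂ) g = (χ : G ⧸ N → ℂ) (g : G ⧸ N) := rfl

theorem inflIrr_kernel (N : Subgroup G) [N.Normal] (χ : IrrCharacter (G ⧸ N)) :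
    ∀ g ∈ N, (inflIrr N χ : G → ℂ) g = (inflIrr N χ : G → ℂ) 1 := by
  intro g hg
  rw [inflIrr_apply, inflIrr_apply, (QuotientGroup.eq_one_iff g).2 hg]
  rfl

theorem centralizer_le_comap (N : Subgroup G) [N.Normal] (g : G) :
    Subgroup.centralizer ({g} : Set G) ≤
      (Subgroup.centralizer ({(g : G ⧸ N)} : Set (G ⧸ N))).comap (QuotientGroup.mk' N) := by
  intro x hx
  rw [Subgroup.mem_comap, Subgroup.mem_centralizer_singleton_iff]
  exact congrArg (QuotientGroup.mk' N) (Subgroup.mem_centralizer_singleton_iff.1 hx)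

/-- Central characters of an inflation are integer multiples of those downstairs. -/
theorem clv_inflIrr (N : Subgroup G) [N.Normal] (χ : IrrCharacter (G ⧸ N)) (g : G) :
    clv g (inflIrr N χ) =
      (((Subgroup.centralizer ({g} : Set G)).relIndex
        ((Subgroup.centralizer ({(g : G ⧸ N)} : Set (G ⧸ N))).comap (QuotientGroup.mk' N)) : ℕ) : ℂ) *
        clv (g : G ⧸ N) χ := by
  rw [clv, clv, centralChar, centralChar,
    ← Subgroup.relIndex_mul_index (centralizer_le_comap N g),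
    Subgroup.index_comap_of_surjective _ (QuotientGroup.mk'_surjective N)]
  simp only [inflIrr_apply, QuotientGroup.mk_one]
  push_cast
  ring

/-- Descent of a congruence along a lift with class multiplicity prime to `p`. -/
theorem res_clv_descend (hM : IsPModular p M) (N : Subgroup G) [N.Normal] [Fintype (G ⧸ N)]
    {χ χ' : IrrCharacter (G ⧸ N)} (h : SameBlock M (inflIrr N χ : G → ℂ) (inflIrr N χ' : G → ℂ))
    {g : G} (hm : ¬ p ∣ (Subgroup.centralizer ({g} : Set G)).relIndex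
        ((Subgroup.centralizer ({(g : G ⧸ N)} : Set (G ⧸ N))).comap (QuotientGroup.mk' N))) :
    res hM (clv (g : G ⧸ N) χ) = res hM (clv (g : G ⧸ N) χ') := by
  haveI := res_isDomain hM
  have h1 := (sameBlock_iff_res hM _ _).1 h g
  rw [clv_inflIrr, clv_inflIrr, res_mul hM (memRing_natCast hM _) (memRing_clv hM _ _),
    res_mul hM (memRing_natCast hM _) (memRing_clv hM _ _)] at h1
  refine mul_left_cancel₀ ?_ h1
  haveI := res_charP hM
  rwa [res_natCast, Ne, CharP.cast_eq_zero_iff _ p]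

theorem res_clv_ascend (hM : IsPModular p M) (N : Subgroup G) [N.Normal] [Fintype (G ⧸ N)]
    {χ χ' : IrrCharacter (G ⧸ N)} (g : G)
    (h : res hM (clv (g : G ⧸ N) χ) = res hM (clv (g : G ⧸ N) χ')) :
    res hM (clv g (inflIrr N χ)) = res hM (clv g (inflIrr N χ')) := by
  rw [clv_inflIrr, clv_inflIrr, res_mul hM (memRing_natCast hM _) (memRing_clv hM _ _),
    res_mul hM (memRing_natCast hM _) (memRing_clv hM _ _), h]

/-- In a coset of a normal subgroup of order prime to `p` some element has class multiplicity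
prime to `p`. -/
theorem exists_lift_relIndex [Fact p.Prime] (N : Subgroup G) [N.Normal] (hN : ¬ p ∣ Nat.card N)
    (c : G ⧸ N) : ∃ g : G, (g : G ⧸ N) = c ∧
      ¬ p ∣ (Subgroup.centralizer ({g} : Set G)).relIndex
        ((Subgroup.centralizer ({(g : G ⧸ N)} : Set (G ⧸ N))).comap (QuotientGroup.mk' N)) := by
  classical
  set T := (Subgroup.centralizer ({c} : Set (G ⧸ N))).comap (QuotientGroup.mk' N) with hT
  obtain ⟨S⟩ := (inferInstance : Nonempty (Sylow p T))
  let α := {x : G // (x : G ⧸ N) = c}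
  have hst : ∀ (s : (S : Subgroup T)) (x : α),
      ((((s : T) : G) * (x : G) * ((s : T) : G)⁻¹ : G) : G ⧸ N) = c := by
    intro s x
    have h1 := Subgroup.mem_centralizer_singleton_iff.1 (Subgroup.mem_comap.1 (s : T).2)
    rw [QuotientGroup.mk'_apply] at h1
    rw [QuotientGroup.mk_mul, QuotientGroup.mk_mul, x.2, h1, QuotientGroup.mk_inv]
    group
  letI : MulAction (S : Subgroup T) α :=
    { smul := fun s x => ⟨((s : T) : G) * (x : G) * ((s : T) : G)⁻¹, hst s x⟩
      one_smul := fun x => Subtype.ext (show ((1 : G)) * (x : G) * (1 : G)⁻¹ = x by group)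
      mul_smul := fun s t x => Subtype.ext (show ((s : T) : G) * ((t : T) : G) * (x : G) *
          (((s : T) : G) * ((t : T) : G))⁻¹ = ((s : T) : G) * (((t : T) : G) * (x : G) *
          ((t : T) : G)⁻¹) * ((s : T) : G)⁻¹ by group) }
  have hcard : Nat.card α = Nat.card N := by
    obtain ⟨g₀, hg₀⟩ := QuotientGroup.mk_surjective c
    refine (Nat.card_congr (Equiv.subtypeEquiv (Equiv.mulLeft g₀) fun x => ?_)).symm
    rw [Equiv.coe_mulLeft, QuotientGroup.mk_mul, hg₀, mul_eq_left, QuotientGroup.eq_one_iff]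
  obtain ⟨x, hx⟩ := S.2.nonempty_fixed_point_of_prime_not_dvd_card α (by rwa [hcard])
  refine ⟨x, x.2, ?_⟩
  rw [x.2, ← hT, Subgroup.relIndex]
  refine fun hd => S.not_dvd_index (hd.trans (Subgroup.index_dvd_of_le fun s hs => ?_))
  rw [Subgroup.mem_subgroupOf, Subgroup.mem_centralizer_singleton_iff]
  have h1 : (((s : T) : G)) * (x : G) * ((s : T) : G)⁻¹ = x :=
    congrArg Subtype.val (MulAction.mem_fixedPoints.1 hx ⟨s, hs⟩)
  exact mul_inv_eq_iff_eq_mul.1 h1

/-- The block of an inflation from a quotient by a normal subgroup of order prime to `p`. -/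
theorem block_of_inflation (hM : IsPModular p M) (N : Subgroup G) [N.Normal]
    (hN : ¬ p ∣ Nat.card N) (χ : IrrCharacter (G ⧸ N)) {ψ : IrrCharacter G}
    (h : SameBlock M (inflIrr N χ : G → ℂ) (ψ : G → ℂ)) :
    ∃ ψ' : IrrCharacter (G ⧸ N), (ψ : G → ℂ) = (ψ' : G ⧸ N → ℂ) ∘ QuotientGroup.mk ∧
      SameBlock M (χ : G ⧸ N → ℂ) (ψ' : G ⧸ N → ℂ) := by
  classical
  haveI : Fact p.Prime := ⟨hM.1⟩
  haveI := Fintype.ofFinite (G ⧸ N)
  obtain ⟨ψ', hirr, he⟩ := exists_quotient_irr N ψ.2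
    (kernel_transfer hM hN h (inflIrr_kernel N χ))
  refine ⟨⟨ψ', hirr⟩, he, (sameBlock_iff_res hM χ ⟨ψ', hirr⟩).2 fun c => ?_⟩
  obtain ⟨g, rfl, hm⟩ := exists_lift_relIndex N hN c
  refine res_clv_descend hM N ?_ hm
  rwa [show inflIrr N ⟨ψ', hirr⟩ = ψ from Subtype.ext he.symm]

section pgroup

variable (P : Subgroup G) [P.Normal]

theorem regular_mem_centralizer [Fact p.Prime]
    (hC : ∃ k : ℕ, (Subgroup.centralizer (P : Set G)).index = p ^ k) {g : G}
    (hg : ¬ p ∣ orderOf g) : g ∈ Subgroup.centralizer (P : Set G) := by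
  obtain ⟨k, hk⟩ := hC
  haveI : (Subgroup.centralizer (P : Set G)).Normal := Subgroup.normal_centralizer
  rw [← QuotientGroup.eq_one_iff, ← orderOf_eq_one_iff]
  have h1 : orderOf (g : G ⧸ Subgroup.centralizer (P : Set G)) ∣ p ^ k := by
    rw [← hk, Subgroup.index]; exact orderOf_dvd_natCard _
  have h2 : orderOf (g : G ⧸ Subgroup.centralizer (P : Set G)) ∣ orderOf g :=
    orderOf_map_dvd (QuotientGroup.mk' _) g
  exact Nat.eq_one_of_dvd_coprimes
    ((((Fact.out : p.Prime).coprime_iff_not_dvd).2 hg).pow_left k) h1 h2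

theorem comap_centralizer_eq (hP : IsPGroup p P) [Fact p.Prime]
    (hC : ∃ k : ℕ, (Subgroup.centralizer (P : Set G)).index = p ^ k) {g : G}
    (hg : ¬ p ∣ orderOf g) :
    (Subgroup.centralizer ({(g : G ⧸ P)} : Set (G ⧸ P))).comap (QuotientGroup.mk' P) =
      Subgroup.centralizer ({g} : Set G) := by
  refine le_antisymm (fun x hx => ?_) (centralizer_le_comap P g)
  rw [Subgroup.mem_comap, Subgroup.mem_centralizer_singleton_iff] at hx
  rw [Subgroup.mem_centralizer_singleton_iff]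
  have hu : g⁻¹ * (x * g * x⁻¹) ∈ P := by
    rw [← QuotientGroup.eq_one_iff]
    simp only [QuotientGroup.mk_mul, QuotientGroup.mk_inv]
    rw [QuotientGroup.mk'_apply] at hx
    rw [hx]; group
  have hc := regular_mem_centralizer P hC hg
  have hcomm : Commute g (g⁻¹ * (x * g * x⁻¹)) :=
    ((Subgroup.mem_centralizer_iff.1 hc) _ hu).symm
  obtain ⟨k, hk⟩ : ∃ k : ℕ, orderOf (g⁻¹ * (x * g * x⁻¹)) = p ^ k := by
    obtain ⟨k, hk⟩ := IsPGroup.iff_orderOf.1 hP ⟨_, hu⟩
    exact ⟨k, (Subgroup.orderOf_coe ⟨_, hu⟩).trans hk⟩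
  obtain ⟨e1, -⟩ := pPart_unique (Fact.out : p.Prime) hcomm.symm (Commute.one_left (x * g * x⁻¹))
    ⟨k, hk⟩ ⟨0, by simp⟩ hg (by rw [conj_orderOf]; exact hg)
    (by rw [← hcomm.eq, mul_inv_cancel_left, one_mul])
  rw [inv_mul_eq_one, eq_mul_inv_iff_mul_eq] at e1
  exact e1.symm

theorem exists_regular_lift [Fact p.Prime] (hP : IsPGroup p P) {c : G ⧸ P}
    (hc : ¬ p ∣ orderOf c) : ∃ g : G, (g : G ⧸ P) = c ∧ ¬ p ∣ orderOf g := by
  haveI := Fintype.ofFinite (G ⧸ P)
  obtain ⟨g₀, rfl⟩ := QuotientGroup.mk_surjective c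
  obtain ⟨z, w, hzw, hcm, hz, hw, -, -⟩ := exists_pPart (Fact.out : p.Prime) g₀
  refine ⟨w, ?_, hw⟩
  have hco : Commute (z : G ⧸ P) (w : G ⧸ P) := hcm.map (QuotientGroup.mk' P)
  obtain ⟨k, hk⟩ := hz
  obtain ⟨j, -, hj⟩ := (Nat.dvd_prime_pow (Fact.out : p.Prime)).1
    (hk ▸ orderOf_map_dvd (QuotientGroup.mk' P) z)
  obtain ⟨-, e2⟩ := pPart_unique (Fact.out : p.Prime) hco (Commute.one_left (g₀ : G ⧸ P))
    ⟨j, hj⟩ ⟨0, by simp⟩ (fun h => hw (h.trans (orderOf_map_dvd (QuotientGroup.mk' P) w))) hc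
    (by rw [one_mul, ← QuotientGroup.mk_mul, hzw])
  exact e2

/-- Blocks of `G/P` and of `G` when `G/C(P)` is a `p`-group. -/
theorem sameBlock_inflIrr_iff (hM : IsPModular p M) (hP : IsPGroup p P)
    (hC : ∃ k : ℕ, (Subgroup.centralizer (P : Set G)).index = p ^ k)
    (χ χ' : IrrCharacter (G ⧸ P)) :
    SameBlock M (χ : G ⧸ P → ℂ) (χ' : G ⧸ P → ℂ) ↔
      SameBlock M (inflIrr P χ : G → ℂ) (inflIrr P χ' : G → ℂ) := by
  classical
  haveI : Fact p.Prime := ⟨hM.1⟩
  haveI := Fintype.ofFinite (G ⧸ P)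
  constructor
  · exact fun h => sameBlock_of_regular hM fun g hg =>
      res_clv_ascend hM P g ((sameBlock_iff_res hM χ χ').1 h _)
  · refine fun h => sameBlock_of_regular hM fun c hc => ?_
    obtain ⟨g, rfl, hg⟩ := exists_regular_lift P hP hc
    refine res_clv_descend hM P h ?_
    rw [comap_centralizer_eq P hP hC hg, Subgroup.relIndex_self]
    exact hM.1.not_dvd_one

theorem exists_inflIrr_mem (hM : IsPModular p M) (hP : IsPGroup p P) {B : Set (IrrCharacter G)}
    (hB : IsPBlock M B) : ∃ χ : IrrCharacter (G ⧸ P), inflIrr P χ ∈ B := by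
  classical
  haveI : Fact p.Prime := ⟨hM.1⟩
  haveI := Fintype.ofFinite (G ⧸ P)
  obtain ⟨θ, hθ, hk⟩ : ∃ θ ∈ B, ∀ n ∈ P, (θ : G → ℂ) n = (θ : G → ℂ) 1 := by
    by_contra hno
    push Not at hno
    have h0 : ∀ χ ∈ bset B, ∑ n ∈ Finset.univ.filter (fun n => n ∈ P), (χ : G → ℂ) n = 0 := by
      intro χ hχ
      obtain ⟨n, hn, hne⟩ := hno χ (mem_bset.1 hχ)
      rcases (omega_avgFn P χ).1 with h | h
      · rw [omega, div_eq_zero_iff, or_iff_left (irr_one_ne_zero χ)] at h
        simp only [avgFn, ite_mul, zero_mul] at h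
        rw [← Finset.sum_filter, ← Finset.mul_sum] at h
        exact (mul_eq_zero.1 h).resolve_left (inv_ne_zero (Nat.cast_ne_zero.2 Nat.card_pos.ne'))
      · exact absurd ((omega_avgFn P χ).2.1 h n hn) hne
    have h1 : ∑ n ∈ Finset.univ.filter (fun n => n ∈ P), ∑ χ ∈ bset B,
        (χ : G → ℂ) 1 * (χ : G → ℂ) n = 0 := by
      rw [Finset.sum_comm]
      exact Finset.sum_eq_zero fun χ hχ => by rw [← Finset.mul_sum, h0 χ hχ, mul_zero]
    rw [Finset.sum_eq_single_of_mem (1 : G) (by simp [P.one_mem]) fun n hn hne => by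
      refine weak_orth hM hB (by rw [orderOf_one]; exact hM.1.not_dvd_one) ?_
      obtain ⟨k, hk⟩ := IsPGroup.iff_orderOf.1 hP ⟨n, (Finset.mem_filter.1 hn).2⟩
      rw [← Subgroup.orderOf_coe] at hk
      rw [show orderOf n = p ^ k from hk]
      refine dvd_pow_self p ?_
      rintro rfl
      exact hne (orderOf_eq_one_iff.1 hk)] at h1
    obtain ⟨χ, hχ⟩ := block_nonempty hM hB
    have h2 : ((∑ χ ∈ bset B, (charDegree (χ : G → ℂ)) ^ 2 : ℕ) : ℂ) = 0 := by
      rw [← h1]
      push_cast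
      exact Finset.sum_congr rfl fun χ _ => by rw [irr_charDegree_cast, pow_two]
    rw [Nat.cast_eq_zero, Finset.sum_eq_zero_iff] at h2
    exact (irr_charDegree_pos χ).ne' (pow_eq_zero_iff (n := 2) (by norm_num) |>.1
      (h2 χ (mem_bset.2 hχ)))
  obtain ⟨ψ, hψ, he⟩ := exists_quotient_irr P θ.2 hk
  exact ⟨⟨ψ, hψ⟩, (show inflIrr P ⟨ψ, hψ⟩ = θ from Subtype.ext he.symm) ▸ hθ⟩

end pgroup

/-- The kernel of a block as a subgroup. -/
noncomputable def blockKerSub (B : Set (IrrCharacter G)) : Subgroup G :=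
  ⨅ χ ∈ B, charKernel (χ : G → ℂ) (isCharacter_of_irr χ.2)

theorem mem_blockKerSub {B : Set (IrrCharacter G)} {g : G} :
    g ∈ blockKerSub B ↔ g ∈ blockKer B := by
  simp only [blockKerSub, Subgroup.mem_iInf, mem_charKernel]
  rfl

instance blockKerSub_normal (B : Set (IrrCharacter G)) : (blockKerSub B).Normal :=
  ⟨fun x hx g => by
    simp only [blockKerSub, Subgroup.mem_iInf] at hx ⊢
    exact fun χ hχ => (charKernel_normal _ _).conj_mem x (hx χ hχ) g⟩

theorem not_dvd_card_blockKerSub (hM : IsPModular p M) {B : Set (IrrCharacter G)}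
    (hB : IsPBlock M B) : ¬ p ∣ Nat.card (blockKerSub B) := by
  classical
  haveI : Fact p.Prime := ⟨hM.1⟩
  intro hd
  obtain ⟨u, hu⟩ := exists_prime_orderOf_dvd_card' p hd
  rw [← Subgroup.orderOf_coe] at hu
  have h1 := weak_orth hM hB (x := (1 : G)) (y := (u : G))
    (by rw [orderOf_one]; exact hM.1.not_dvd_one) (by rw [hu])
  obtain ⟨χ, hχ⟩ := block_nonempty hM hB
  have h2 : ((∑ χ ∈ bset B, (charDegree (χ : G → ℂ)) ^ 2 : ℕ) : ℂ) = 0 := by
    rw [← h1]
    push_cast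
    refine Finset.sum_congr rfl fun χ hχ => ?_
    rw [mem_blockKerSub.1 u.2 χ (mem_bset.1 hχ), irr_charDegree_cast, pow_two]
  rw [Nat.cast_eq_zero, Finset.sum_eq_zero_iff] at h2
  exact (irr_charDegree_pos χ).ne' (pow_eq_zero_iff (n := 2) (by norm_num) |>.1
    (h2 χ (mem_bset.2 hχ)))

end CfsgLib.Blocks.Inflation
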