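/-
The rank of the principal block and a normal `p`-subgroup `P` with `G = P C(P)`.
-/
import Cfsg.Agent.Lib.Blocks.CentralDefect
import Cfsg.Agent.Lib.Blocks.Inflation
import Cfsg.Agent.Lib.Blocks.Rank
import Cfsg.Agent.Lib.Blocks.Principal

set_option linter.style.haveILetI false

namespace CfsgLib.Blocks

open Cfsg CfsgLib.CharTheory
open scoped ComplexConjugate

universe u

variable {p : ℕ} {M : Ideal AlgInt} {G : Type u} [Group G] [Fintype G]

/-- On regular elements every character of a block is a combination of those trivial on `P`. -/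
theorem regular_combination (hM : IsPModular p M) {P : Subgroup G} [P.Normal] (hP : IsPGroup p P)
    (hG : P ⊔ Subgroup.centralizer (P : Set G) = ⊤)
    {B : Set (IrrCharacter G)} (hB : IsPBlock M B) {χ : IrrCharacter G} (hχ : χ ∈ B) {y : G}
    (hy : ¬ p ∣ orderOf y) :
    (Nat.card G : ℂ) * (χ : G → ℂ) y = ∑ ψ ∈ bset B, (Nat.card P : ℂ) *
      omega (ψ : G → ℂ) (avgFn P) * regS p (χ : G → ℂ) (ψ : G → ℂ) * (ψ : G → ℂ) y := by
  classical
  have hPne : (Nat.card P : ℂ) ≠ 0 := Nat.cast_ne_zero.2 Nat.card_pos.ne'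
  have h1 : ∑ x, avgFn P x * ∑ ψ ∈ bset B, regS p (χ : G → ℂ) (ψ : G → ℂ) * (ψ : G → ℂ) (x * y) =
      (Nat.card P : ℂ)⁻¹ * ((Nat.card G : ℂ) * (χ : G → ℂ) y) := by
    rw [Finset.sum_eq_single (1 : G)]
    · rw [one_mul, sum_regS_mul hM hB χ y, if_neg hy, ind_of_mem hχ, one_mul, avgFn,
        if_pos P.one_mem]
    · intro x _ hx1
      by_cases hx : x ∈ P
      · rw [sum_regS_mul hM hB χ (x * y), if_pos, mul_zero]
        by_contra hxy
        exact hx1 (pReg_unique hM hP hx P.one_mem (reg_mem_cent hM hP hG hy)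
          (reg_mem_cent hM hP hG hxy) hy hxy (one_mul _).symm).1
      · simp [avgFn, hx]
    · simp
  simp only [Finset.mul_sum] at h1
  rw [Finset.sum_comm] at h1
  have h2 : ∀ ψ : IrrCharacter G, ∑ x, avgFn P x * (regS p (χ : G → ℂ) (ψ : G → ℂ) *
      (ψ : G → ℂ) (x * y)) = regS p (χ : G → ℂ) (ψ : G → ℂ) *
        (omega (ψ : G → ℂ) (avgFn P) * (ψ : G → ℂ) y) := by
    intro ψ
    rw [← sum_classFun_mul_shift (avgFn_isClassFunction P) ψ y, Finset.mul_sum]
    exact Finset.sum_congr rfl fun x _ => by ring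
  simp only [h2] at h1
  rw [eq_inv_mul_iff_mul_eq₀ hPne, Finset.mul_sum] at h1
  rw [← h1]
  exact Finset.sum_congr rfl fun ψ _ => by ring

open scoped Classical in
/-- Pull back regular parts along a quotient map. -/
noncomputable def regPull (p : ℕ) (P : Subgroup G) [P.Normal] :
    (G ⧸ P → ℂ) →ₗ[ℂ] (G → ℂ) where
  toFun f g := if p ∣ orderOf g then 0 else f (g : G ⧸ P)
  map_add' f f' := funext fun g => by simp only [Pi.add_apply]; split_ifs <;> simp
  map_smul' r f := funext fun g => by simp only [Pi.smul_apply, RingHom.id_apply]; split_ifs <;> simp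

/-- The ranks of the principal blocks agree. -/
theorem blockRank_principal_quotient (hM : IsPModular p M) {P : Subgroup G} [P.Normal]
    (hP : IsPGroup p P) (hG : P ⊔ Subgroup.centralizer (P : Set G) = ⊤) :
    blockRank p (principalBlock M G) = blockRank p (principalBlock M (G ⧸ P)) := by
  classical
  haveI : Fact p.Prime := ⟨hM.1⟩
  haveI := Fintype.ofFinite (G ⧸ P)
  have hC : ∃ k : ℕ, (Subgroup.centralizer (P : Set G)).index = p ^ k := by
    obtain ⟨n, hn⟩ := hP.exists_card_eq
    have h1 : (Subgroup.centralizer (P : Set G)).index ∣ p ^ n := by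
      rw [← hn, ← Subgroup.relIndex_top_right, ← hG, Subgroup.relIndex_sup_right]
      exact Subgroup.relIndex_dvd_card _ _
    obtain ⟨k, -, hk⟩ := (Nat.dvd_prime_pow hM.1).1 h1
    exact ⟨k, hk⟩
  have hdown : ∀ g : G, ¬ p ∣ orderOf g → ¬ p ∣ orderOf (g : G ⧸ P) := fun g hg h =>
    hg (h.trans (orderOf_map_dvd (QuotientGroup.mk' P) g))
  have hB := principalBlock_isPBlock (M := M) (G := G)
  have hone : Inflation.inflIrr P (oneIrr (G ⧸ P)) = oneIrr G := Subtype.ext rfl
  have hmem : ∀ ψ : IrrCharacter (G ⧸ P),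
      Inflation.inflIrr P ψ ∈ principalBlock M G ↔ ψ ∈ principalBlock M (G ⧸ P) := fun ψ => by
    have h := Inflation.sameBlock_inflIrr_iff P hM hP hC (oneIrr (G ⧸ P)) ψ
    rw [hone] at h
    exact h.symm
  have hcomm : ∀ ψ : IrrCharacter (G ⧸ P),
      regPull p P (pRegularPart p (ψ : G ⧸ P → ℂ)) =
        pRegularPart p (Inflation.inflIrr P ψ : G → ℂ) := fun ψ => by
    funext g
    simp only [regPull, LinearMap.coe_mk, AddHom.coe_mk, pRegularPart_apply,
      Inflation.inflIrr_apply]
    split_ifs with h1 h2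
    · rfl
    · exact absurd h2 (hdown g h1)
    · rfl
  set S := Submodule.span ℂ
    ((fun χ : IrrCharacter (G ⧸ P) => pRegularPart p (χ : G ⧸ P → ℂ)) '' principalBlock M (G ⧸ P))
    with hS
  have hmap : Submodule.span ℂ
      ((fun χ : IrrCharacter G => pRegularPart p (χ : G → ℂ)) '' principalBlock M G) =
      S.map (regPull p P) := by
    rw [hS, Submodule.map_span]
    refine le_antisymm ?_ (Submodule.span_mono ?_)
    · rw [Submodule.span_le]
      rintro _ ⟨χ, hχ, rfl⟩
      have hfun : pRegularPart p (χ : G → ℂ) = ∑ ψ ∈ bset (principalBlock M G),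
          ((Nat.card G : ℂ)⁻¹ * ((Nat.card P : ℂ) * omega (ψ : G → ℂ) (avgFn P) *
            regS p (χ : G → ℂ) (ψ : G → ℂ))) • pRegularPart p (ψ : G → ℂ) := by
        funext y
        simp only [Finset.sum_apply, Pi.smul_apply, smul_eq_mul, pRegularPart_apply]
        by_cases hy : p ∣ orderOf y
        · simp [hy]
        · simp only [if_neg hy, mul_assoc ((Nat.card G : ℂ)⁻¹)]
          rw [← Finset.mul_sum, ← regular_combination hM hP hG hB hχ hy, ← mul_assoc,
            inv_mul_cancel₀ (Nat.cast_ne_zero.2 Nat.card_pos.ne'), one_mul]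
      simp only [SetLike.mem_coe, hfun]
      refine Submodule.sum_mem _ fun ψ hψ => ?_
      rcases (omega_avgFn P ψ).1 with h | h
      · simp [h]
      · refine Submodule.smul_mem _ _ (Submodule.subset_span ?_)
        obtain ⟨φ, hφ, he⟩ := exists_quotient_irr P ψ.2 ((omega_avgFn P ψ).2.1 h)
        have heq : ψ = Inflation.inflIrr P ⟨φ, hφ⟩ := Subtype.ext he
        refine ⟨_, ⟨⟨φ, hφ⟩, (hmem ⟨φ, hφ⟩).1 (heq ▸ mem_bset.1 hψ), rfl⟩, ?_⟩
        rw [hcomm, ← heq]
    · rintro _ ⟨_, ⟨ψ, hψ, rfl⟩, rfl⟩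
      exact ⟨_, (hmem ψ).2 hψ, (hcomm ψ).symm⟩
  show Module.finrank ℂ ↥(Submodule.span ℂ _) = Module.finrank ℂ ↥(Submodule.span ℂ _)
  rw [hmap, ← hS]
  have hzero : ∀ f ∈ S, ∀ c : G ⧸ P, p ∣ orderOf c → f c = 0 := by
    intro f hf c hc
    induction hf using Submodule.span_induction with
    | mem x hx => obtain ⟨χ, -, rfl⟩ := hx; simp [pRegularPart_apply, hc]
    | zero => rfl
    | add x y _ _ hx hy => simp [hx, hy]
    | smul r x _ hx => simp [hx]
  have hinj : Function.Injective ((regPull p P).comp S.subtype) := by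
    rw [← LinearMap.ker_eq_bot, LinearMap.ker_eq_bot']
    intro f hf
    refine Subtype.ext (funext fun c => ?_)
    by_cases hc : p ∣ orderOf c
    · exact hzero _ f.2 c hc
    · obtain ⟨g, rfl, hg⟩ := Inflation.exists_regular_lift P hP hc
      have := congrFun hf g
      simpa [regPull, hg] using this
  rw [← Submodule.range_subtype S, ← LinearMap.range_comp, Submodule.range_subtype]
  exact LinearMap.finrank_range_of_inj hinj

end CfsgLib.Blocks
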