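import Cfsg.Agent.Lib.Blocks.Down
import Cfsg.Agent.Lib.Blocks.NormalPair

/-!
# Blocks with a given defect group and their Brauer images
-/

namespace CfsgLib.Blocks

open Cfsg CfsgLib.CharTheory

set_option linter.unusedVariables false
set_option linter.unusedSimpArgs false
set_option linter.style.haveILetI false
set_option linter.unusedSectionVars false

universe u

variable {p : ℕ} {M : Ideal AlgInt} {G : Type u} [Group G] [Fintype G]

theorem stabilizes_of_mem {K : Subgroup G} (c : Set (IrrCharacter K)) {x : G} (hx : x ∈ K) :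
    StabilizesBlock K c x := by
  haveI := Fintype.ofFinite K
  refine ⟨Subgroup.le_normalizer hx, fun χ hχ => ⟨χ, hχ, fun k k' hk => ?_⟩⟩
  rw [show k' = ⟨x, hx⟩ * k * ⟨x, hx⟩⁻¹ from Subtype.ext (by simpa using hk)]
  exact irr_isClassFun χ k ⟨x, hx⟩

theorem sgbc_coe {H : Subgroup G} (c : Set (IrrCharacter H)) (h : H) :
    subgroupBlockCoeff H c (h : G) = blockCoeff c h := by
  rw [subgroupBlockCoeff_eq, sext_coe]

theorem nice_sgbc (hM : IsPModular p M) {P H : Subgroup G} (hPH : P ≤ H)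
    (hC : Subgroup.centralizer (P : Set G) ≤ H) {c : Set (IrrCharacter H)} (hc : IsPBlock M c) :
    Nice M P (subgroupBlockCoeff H c) :=
  nice_subgroupBlockCoeff hM hC hc fun x hx => stabilizes_of_mem c (hPH hx)

theorem conv_sub_left (β γ δ : G → ℂ) :
    conv (fun x => β x - γ x) δ = fun g => conv β δ g - conv γ δ g := by
  funext g; simp [conv, sub_mul, Finset.sum_sub_distrib]

theorem conv_sub_right (β γ δ : G → ℂ) :
    conv δ (fun x => β x - γ x) = fun g => conv δ β g - conv δ γ g := by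
  funext g; simp [conv, mul_sub, Finset.sum_sub_distrib]

/-- Commuting idempotents with the same residual characters agree on the centralizer. -/
theorem res_eq_of_lam_eq (hM : IsPModular p M) {P : Subgroup G} (hP : IsPGroup p P)
    {β γ : G → ℂ} (hβ : Nice M P β) (hγ : Nice M P γ) (hb : conv β β = β) (hg : conv γ γ = γ)
    (hcm : conv β γ = conv γ β) (h : ∀ ξ, lam hM P β ξ = lam hM P γ ξ)
    {c : G} (hc : c ∈ Subgroup.centralizer (P : Set G)) : res hM (β c) = res hM (γ c) := by
  have key : ∀ β γ : G → ℂ, Nice M P β → Nice M P γ → conv β β = β → conv γ γ = γ →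
      conv β γ = conv γ β → (∀ ξ, lam hM P β ξ = lam hM P γ ξ) →
      res hM (β c) = res hM (conv β γ c) := by
    intro β γ hβ hγ hb hg hcm h
    have hn := hβ.sub hM (hβ.conv hM hγ)
    have h1 : conv (conv β γ) β = conv β γ := by
      rw [conv_assoc, ← hcm, ← conv_assoc, hb]
    have h2 : conv β (conv β γ) = conv β γ := by rw [← conv_assoc, hb]
    have h3 : conv (conv β γ) (conv β γ) = conv β γ := by
      rw [← conv_assoc, h1, conv_assoc, hg]
    have hid : conv (fun x => β x - conv β γ x) (fun x => β x - conv β γ x) =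
        fun x => β x - conv β γ x := by
      rw [conv_sub_left, conv_sub_right, conv_sub_right, hb, h1, h2, h3]
      funext x
      simp
    have h0 : ∀ ξ, lam hM P (fun x => β x - conv β γ x) ξ = 0 := fun ξ => by
      have hh := lam_conv hM hP hβ hβ ξ
      rw [hb] at hh
      rw [lam_sub hM hβ (hβ.conv hM hγ), lam_conv hM hP hβ hγ, ← h ξ, ← hh, sub_self]
    have h4 := res_eq_zero_of_lam_zero hM hP hn hid h0 hc
    exact (memIdeal_sub_iff hM (hβ.mem c) ((hβ.conv hM hγ).mem c)).1
      ((res_eq_zero_iff hM (hn.mem c)).1 h4)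
  rw [key β γ hβ hγ hb hg hcm h, hcm, ← key γ β hγ hβ hg hb hcm.symm fun ξ => (h ξ).symm]

/-- Every pair lies in a block. -/
theorem exists_block_of_pair (hM : IsPModular p M) {P : Subgroup G} (hP : IsPGroup p P)
    {e : Set (IrrCharacter (Subgroup.centralizer (P : Set G)))} (he : IsPBlock M e) :
    ∃ B : Set (IrrCharacter G), IsBrauerPairOf p M B P e := by
  obtain ⟨ξ, hξ⟩ := bne hM he
  obtain ⟨φ, hφ⟩ := exists_lam_irr hM hP ξ
  have hB : IsPBlock M (blockOf M (φ : G → ℂ)) := blockOf_isPBlock φ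
  refine ⟨_, ⟨hP, he⟩, hB, (forall_memIdeal_iff_lam hM (nice_blockCoeff hM hB) he hξ).2 ?_⟩
  rw [hφ _ (blockCoeff_isClassFunction _) (memRing_blockCoeff hM hB), ← cf_ind, omega_cf,
    ind_of_mem (mem_blockOf_self hM φ), res_one]

theorem pairOf_block_unique (hM : IsPModular p M) {P : Subgroup G}
    {e : Set (IrrCharacter (Subgroup.centralizer (P : Set G)))} {B B' : Set (IrrCharacter G)}
    (h : IsBrauerPairOf p M B P e) (h' : IsBrauerPairOf p M B' P e) : B = B' := by
  obtain ⟨ξ, hξ⟩ := bne hM h.1.2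
  obtain ⟨φ, hφ⟩ := exists_lam_irr hM h.1.1 ξ
  exact (eq_blockOf hM h.2.1 (lam_irr_mem hM h.2.1 hφ (pairOf_lam hM h hξ))).trans
    (eq_blockOf hM h'.2.1 (lam_irr_mem hM h'.2.1 hφ (pairOf_lam hM h' hξ))).symm

theorem pairOf_of_lam (hM : IsPModular p M) {P : Subgroup G} (hP : IsPGroup p P)
    {e : Set (IrrCharacter (Subgroup.centralizer (P : Set G)))} (he : IsPBlock M e)
    {ξ : IrrCharacter (Subgroup.centralizer (P : Set G))} (hξ : ξ ∈ e)
    {B : Set (IrrCharacter G)} (hB : IsPBlock M B) (h : lam hM P (blockCoeff B) ξ = 1) :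
    IsBrauerPairOf p M B P e :=
  ⟨⟨hP, he⟩, hB, (forall_memIdeal_iff_lam hM (nice_blockCoeff hM hB) he hξ).2 h⟩

/-- The values of `lam` on an idempotent are `0` and `1`. -/
theorem lam_zero_or_one (hM : IsPModular p M) {P : Subgroup G} (hP : IsPGroup p P) {β : G → ℂ}
    (hn : Nice M P β) (hid : conv β β = β)
    (ξ : IrrCharacter (Subgroup.centralizer (P : Set G))) :
    lam hM P β ξ = 0 ∨ lam hM P β ξ = 1 := by
  haveI := res_isDomain hM
  have h := lam_conv hM hP hn hn ξ
  rw [hid] at h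
  by_cases hx : lam hM P β ξ = 0
  · exact Or.inl hx
  · exact Or.inr ((mul_eq_left₀ hx).1 h.symm)

/-- A defect group carries a maximal pair. -/
theorem exists_maximal_at (hM : IsPModular p M) {B : Set (IrrCharacter G)} (hB : IsPBlock M B)
    {P : Subgroup G} (hP : IsDefectGroup p M B P) :
    ∃ e, IsMaximalBrauerPair p M B P e := by
  haveI : Fact p.Prime := ⟨hM.1⟩
  have hPp := defectGroup_isPGroup hP
  obtain ⟨g, hg, S, hS⟩ := id hP
  have hgC : g ∈ Subgroup.centralizer (P : Set G) := by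
    intro r hr
    obtain ⟨r', -, rfl⟩ := (hS ▸ hr : r ∈ _)
    exact Subgroup.mem_centralizer_singleton_iff.1 r'.2
  obtain ⟨e, he⟩ := exists_pair_of_unit hM hB hPp hgC hg.2.1
  obtain ⟨⟨R, g'⟩, hle, hmax⟩ := exists_maximal_ge hM ⟨P, e⟩ he
  have hPR : P = R := Subgroup.eq_of_le_of_card_ge (subpairLE_le hle) (by
    rw [card_defectGroup hM hB (maximal_isDefectGroup hM hmax), card_defectGroup hM hB hP])
  subst hPR
  exact ⟨g', hmax⟩

/-- Maximality is the absence of a proper normal step. -/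
theorem maximal_iff_no_step (hM : IsPModular p M) {B : Set (IrrCharacter G)} {P : Subgroup G}
    {e : Set (IrrCharacter (Subgroup.centralizer (P : Set G)))}
    (h : IsBrauerPairOf p M B P e) :
    IsMaximalBrauerPair p M B P e ↔
      ∀ R g, P < R → ¬ IsNormalSubpair p M P e R g := by
  haveI : Fact p.Prime := ⟨hM.1⟩
  constructor
  · intro hmax R g hlt hs
    exact hlt.ne' (hmax.2 R g ((pairOf_normalSubpair_iff hM hs B).1 h)
      (Relation.ReflTransGen.single (hs : NormalSubpairRel p M ⟨P, e⟩ ⟨R, g⟩)))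
  · intro hno
    refine ⟨h, fun R g hR hle => ?_⟩
    by_contra hne
    have hPR : P ≤ R := subpairLE_le (a := ⟨P, e⟩) (b := ⟨R, g⟩) hle
    have hlt : P < R := lt_of_le_of_ne hPR (fun h => hne h.symm)
    obtain ⟨g0, -, hs, -⟩ := normal_step_of_le hM hR.1.1 h.1.2 hR.1.2 hle
      (R := R ⊓ Subgroup.normalizer (P : Set G)) (exists_lt_normalizing hR.1.1 hlt).le inf_le_left
      inf_le_right
    exact hno _ g0 (exists_lt_normalizing hR.1.1 hlt) hs

section overgroup

variable {H : Subgroup G} [Fintype H]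

theorem normalSubpair_down {a b : BrauerPairIdx H}
    (ha : Subgroup.centralizer ((a.1.map H.subtype : Subgroup G) : Set G) ≤ H)
    (hb : Subgroup.centralizer ((b.1.map H.subtype : Subgroup G) : Set G) ≤ H)
    (hfa : IsPBlock M a.2) (hfb : IsPBlock M b.2)
    (h : NormalSubpairRel p M (upIdx a ha) (upIdx b hb)) : NormalSubpairRel p M a b := by
  obtain ⟨Q, f⟩ := a
  obtain ⟨P, e⟩ := b
  obtain ⟨⟨hQp, -⟩, ⟨hPp, -⟩, hQP, hN, hst, h1⟩ := h
  have hQp' : IsPGroup p Q :=
    hQp.of_equiv (Subgroup.equivMapOfInjective Q H.subtype Subtype.coe_injective).symm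
  have hPp' : IsPGroup p P :=
    hPp.of_equiv (Subgroup.equivMapOfInjective P H.subtype Subtype.coe_injective).symm
  have hnorm : P ≤ Subgroup.normalizer (Q : Set H) := by
    intro r hr
    have h' : (r : G) ∈ Subgroup.normalizer ((Q.map H.subtype : Subgroup G) : Set G) :=
      hN ⟨r, hr, rfl⟩
    rw [Subgroup.mem_normalizer_iff] at h' ⊢
    intro z
    have hz := h' (z : G)
    constructor
    · intro hzQ
      obtain ⟨q, hq, hq'⟩ := hz.1 ⟨z, hzQ, rfl⟩
      rwa [show r * z * r⁻¹ = q from Subtype.ext hq'.symm]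
    · intro hzQ
      obtain ⟨q, hq, hq'⟩ := hz.2 ⟨_, hzQ, rfl⟩
      rwa [show z = q from Subtype.ext hq'.symm]
  refine ⟨⟨hQp', hfa⟩, ⟨hPp', hfb⟩,
    (Subgroup.map_le_map_iff_of_injective Subtype.coe_injective).1 hQP, hnorm, ?_, ?_⟩
  · intro r hr
    obtain ⟨-, hrc⟩ := hst (r : G) ⟨r, hr, rfl⟩
    refine ⟨normalizer_le_normalizer_cent _ (hnorm hr), fun χ hχ => ?_⟩
    obtain ⟨_, ⟨χ', hχ', rfl⟩, hc⟩ := hrc (irrPull (upE Q ha) χ) ⟨χ, hχ, rfl⟩
    refine ⟨χ', hχ', fun k k' hk => ?_⟩
    exact hc ((upE Q ha).symm k) ((upE Q ha).symm k') (congrArg Subtype.val hk)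
  · intro ξ hξ
    have e1 : (fun h : H => subgroupBlockCoeff
        (Subgroup.centralizer ((Q.map H.subtype : Subgroup G) : Set G))
        (irrPull (upE Q ha) '' f) (h : G)) =
        subgroupBlockCoeff (Subgroup.centralizer (Q : Set H)) f :=
      funext fun h => subgroupBlockCoeff_up Q ha f h
    have h2 : MemLocalIdeal M (brauerOmega (P.map H.subtype)
      (subgroupBlockCoeff (Subgroup.centralizer ((Q.map H.subtype : Subgroup G) : Set G))
        (irrPull (upE Q ha) '' f)) (irrPull (upE P hb) ξ : _ → ℂ) - 1) :=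
      h1 (irrPull (upE P hb) ξ) ⟨ξ, hξ, rfl⟩
    rwa [brauerOmega_up, e1] at h2

theorem upIdx_pGroup {a : BrauerPairIdx H}
    {ha : Subgroup.centralizer ((a.1.map H.subtype : Subgroup G) : Set G) ≤ H}
    {P : Subgroup G} {e : Set (IrrCharacter (Subgroup.centralizer (P : Set G)))}
    (h : upIdx a ha = ⟨P, e⟩) (hP : IsPGroup p P) : IsPGroup p a.1 :=
  ((le_map_subtype_of_eq h).symm ▸ hP).of_equiv
    (Subgroup.equivMapOfInjective a.1 H.subtype Subtype.coe_injective).symm

theorem upIdx_subgroupOf {a : BrauerPairIdx H}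
    {ha : Subgroup.centralizer ((a.1.map H.subtype : Subgroup G) : Set G) ≤ H}
    {P : Subgroup G} {e : Set (IrrCharacter (Subgroup.centralizer (P : Set G)))}
    (h : upIdx a ha = ⟨P, e⟩) : a.1 = P.subgroupOf H := by
  rw [← le_map_subtype_of_eq h]
  exact (Subgroup.comap_map_eq_self_of_injective Subtype.coe_injective a.1).symm

theorem isPBlock_upIdx {a : BrauerPairIdx H}
    {ha : Subgroup.centralizer ((a.1.map H.subtype : Subgroup G) : Set G) ≤ H}
    (hblk : IsPBlock M a.2) {P : Subgroup G}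
    {e : Set (IrrCharacter (Subgroup.centralizer (P : Set G)))}
    (h : upIdx a ha = ⟨P, e⟩) : IsPBlock M e := by
  obtain ⟨R', g'⟩ := a
  obtain ⟨h1, h2⟩ := Sigma.mk.inj_iff.1 h
  subst h1
  exact eq_of_heq h2 ▸ isPBlock_image _ hblk

/-- Being a pair of a block of `H`, read in `G`. -/
theorem pairOf_iff_lam_up (hM : IsPModular p M) {a : BrauerPairIdx H}
    {ha : Subgroup.centralizer ((a.1.map H.subtype : Subgroup G) : Set G) ≤ H}
    (hblk : IsPBlock M a.2) {P : Subgroup G}
    {e : Set (IrrCharacter (Subgroup.centralizer (P : Set G)))}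
    (h : upIdx a ha = ⟨P, e⟩) (hP : IsPGroup p P) {c : Set (IrrCharacter H)} (hc : IsPBlock M c)
    {ξ : IrrCharacter (Subgroup.centralizer (P : Set G))} (hξ : ξ ∈ e) :
    IsBrauerPairOf p M c a.1 a.2 ↔ lam hM P (subgroupBlockCoeff H c) ξ = 1 := by
  obtain ⟨R', g'⟩ := a
  obtain ⟨h1, h2⟩ := Sigma.mk.inj_iff.1 h
  subst h1
  have h3 := eq_of_heq h2
  subst h3
  obtain ⟨η, hη, rfl⟩ := hξ
  have hR' := upIdx_pGroup h hP
  have e1 : lam hM (R'.map H.subtype) (subgroupBlockCoeff H c) (irrPull (upE R' ha) η) =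
      lam hM R' (blockCoeff c) η := by
    rw [lam, lam, brauerOmega_up]
    simp only [sgbc_coe]
  rw [e1]
  exact ⟨fun h' => pairOf_lam hM h' hη, fun h' => pairOf_of_lam hM hR' hblk hη hc h'⟩

/-- Maximality of a pair at `P` is the same in `G` and in `H ≥ N(P)`. -/
theorem maximal_up_iff (hM : IsPModular p M) {P : Subgroup G}
    (hH : Subgroup.normalizer (P : Set G) ≤ H)
    {a : BrauerPairIdx H}
    {ha : Subgroup.centralizer ((a.1.map H.subtype : Subgroup G) : Set G) ≤ H}
    {e : Set (IrrCharacter (Subgroup.centralizer (P : Set G)))} (h : upIdx a ha = ⟨P, e⟩)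
    {B : Set (IrrCharacter G)} (hB : IsBrauerPairOf p M B P e)
    {c : Set (IrrCharacter H)} (hc : IsBrauerPairOf p M c a.1 a.2) :
    IsMaximalBrauerPair p M B P e ↔ IsMaximalBrauerPair p M c a.1 a.2 := by
  rw [maximal_iff_no_step hM hB, maximal_iff_no_step hM hc]
  have hmap := le_map_subtype_of_eq h
  constructor
  · intro hno R g hlt hs
    have hb : Subgroup.centralizer ((R.map H.subtype : Subgroup G) : Set G) ≤ H :=
      (centralizer_anti (Subgroup.map_mono hlt.le)).trans ha
    have h1 := normalSubpair_up (a := a) (b := ⟨R, g⟩) ha hb hs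
    rw [h] at h1
    refine hno _ _ ?_ h1
    show P < R.map H.subtype
    rw [← hmap]
    exact (Subgroup.map_lt_map_iff_of_injective Subtype.coe_injective).2 hlt
  · intro hno R g hlt hs
    have hRN : R ≤ Subgroup.normalizer (P : Set G) := hs.2.2.2.1
    obtain ⟨b, hb, hbe, hbb⟩ := exists_upIdx (H := H) (hRN.trans hH)
      ((centralizer_anti hlt.le).trans (hmap ▸ ha)) hs.2.1.2
    have h1 : NormalSubpairRel p M (upIdx a ha) (upIdx b hb) := by rw [h, hbe]; exact hs
    refine hno b.1 b.2 ?_ (normalSubpair_down ha hb hc.1.2 hbb h1)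
    rw [← Subgroup.map_lt_map_iff_of_injective (f := H.subtype) Subtype.coe_injective, hmap,
      le_map_subtype_of_eq hbe]
    exact hlt

/-- A block of `G` and a block of `H ≥ N(P)` with maximal pairs matching at `P` have the same
Brauer image at `P`. -/
theorem res_eq_of_maximal (hM : IsPModular p M) {P : Subgroup G} (hP : IsPGroup p P)
    (hH : Subgroup.normalizer (P : Set G) ≤ H)
    {a : BrauerPairIdx H}
    {ha : Subgroup.centralizer ((a.1.map H.subtype : Subgroup G) : Set G) ≤ H}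
    {e : Set (IrrCharacter (Subgroup.centralizer (P : Set G)))} (h : upIdx a ha = ⟨P, e⟩)
    {B : Set (IrrCharacter G)} (hB : IsMaximalBrauerPair p M B P e)
    {c : Set (IrrCharacter H)} (hc : IsMaximalBrauerPair p M c a.1 a.2)
    {x : G} (hx : x ∈ Subgroup.centralizer (P : Set G)) :
    res hM (blockCoeff B x) = res hM (subgroupBlockCoeff H c x) := by
  have hmap := le_map_subtype_of_eq h
  have hC : Subgroup.centralizer (P : Set G) ≤ H := hmap ▸ ha
  have hPH : P ≤ H := hmap ▸ Subgroup.map_subtype_le a.1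
  have hβ : Nice M P (blockCoeff B) := nice_blockCoeff hM hB.1.2.1
  have hγ := nice_sgbc hM hPH hC hc.1.2.1
  have hg : conv (subgroupBlockCoeff H c) (subgroupBlockCoeff H c) = subgroupBlockCoeff H c := by
    rw [subgroupBlockCoeff_eq, sext_conv, conv_blockCoeff]
  haveI := Fintype.ofFinite (Subgroup.centralizer (P : Set G))
  refine res_eq_of_lam_eq hM hP hβ hγ (conv_blockCoeff B) hg
    (conv_comm_class (blockCoeff_isClassFunction B) _) (fun ξ => ?_) hx
  have hiff : lam hM P (blockCoeff B) ξ = 1 ↔ lam hM P (subgroupBlockCoeff H c) ξ = 1 := by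
    have hξ := mem_blockOf_self hM ξ
    have hg' : IsPBlock M (blockOf M (ξ : Subgroup.centralizer (P : Set G) → ℂ)) := blockOf_isPBlock ξ
    constructor
    · intro h1
      obtain ⟨n, hn, hne⟩ := pairs_orbit hM hB (pairOf_of_lam hM hP hg' hξ hB.1.2.1 h1)
      have hn' : n ∈ H := hH hn
      have ha' : Subgroup.centralizer
          (((conjIdx (⟨n, hn'⟩ : H) a).1.map H.subtype : Subgroup G) : Set G) ≤ H := by
        show Subgroup.centralizer (((a.1.map (MulAut.conj (⟨n, hn'⟩ : H)).toMonoidHom).map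
          H.subtype : Subgroup G) : Set G) ≤ H
        rw [map_conj_subtype, hmap, map_conj_normalizer hn]
        exact hC
      have h2 := upIdx_conj a ha ⟨n, hn'⟩ ha'
      rw [h, conjIdx_normalizer hn, ← hne] at h2
      have h3 := pairOf_conj hM hc.1 (⟨n, hn'⟩ : H)
      exact (pairOf_iff_lam_up hM h3.1.2 h2 hP hc.1.2.1 hξ).1 h3
    · intro h1
      obtain ⟨b, hb, hbe, hbb⟩ := exists_upIdx (H := H) hPH hC hg'
      have h2 := (pairOf_iff_lam_up hM hbb hbe hP hc.1.2.1 hξ).2 h1
      have hb1 : b.1 = a.1 := (upIdx_subgroupOf hbe).trans (upIdx_subgroupOf h).symm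
      obtain ⟨R', g'⟩ := b
      change R' = a.1 at hb1
      subst hb1
      obtain ⟨n, hn, rfl⟩ := pairs_orbit hM hc h2
      have hn' : (n : G) ∈ Subgroup.normalizer (P : Set G) := by
        rw [Subgroup.mem_normalizer_iff]
        intro z
        rw [← hmap]
        constructor
        · rintro ⟨q, hq, rfl⟩
          exact ⟨n * q * n⁻¹, (Subgroup.mem_normalizer_iff.1 hn q).1 hq, rfl⟩
        · rintro ⟨q, hq, hq'⟩
          refine ⟨n⁻¹ * q * n, (Subgroup.mem_normalizer_iff''.1 hn q).1 hq, ?_⟩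
          show (n : G)⁻¹ * (q : G) * n = z
          rw [show (q : G) = n * z * (n : G)⁻¹ from hq']
          group
      generalize hbi : (⟨a.1, rot hn a.2⟩ : BrauerPairIdx H) = b at hb hbe
      rw [← conjIdx_normalizer] at hbi
      subst hbi
      rw [upIdx_conj a ha n, h, conjIdx_normalizer hn'] at hbe
      obtain ⟨-, h4⟩ := Sigma.mk.inj_iff.1 hbe
      have h5 := eq_of_heq h4
      refine pairOf_lam hM (e := blockOf M (ξ : _ → ℂ)) ?_ hξ
      rw [← h5]
      have h6 := pairOf_conj hM (a := ⟨P, e⟩) hB.1 (n : G)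
      rwa [conjIdx_normalizer hn'] at h6
  rcases lam_zero_or_one hM hP hβ (conv_blockCoeff B) ξ with h0 | h0 <;>
    rcases lam_zero_or_one hM hP hγ hg ξ with h0' | h0'
  · rw [h0, h0']
  · rw [hiff.2 h0', h0']
  · rw [hiff.1 h0, h0]
  · rw [h0, h0']

theorem lam_eq_of_res_eq (hM : IsPModular p M) {P : Subgroup G} (hPH : P ≤ H)
    (hC : Subgroup.centralizer (P : Set G) ≤ H)
    {B : Set (IrrCharacter G)} (hB : IsPBlock M B) {c : Set (IrrCharacter H)} (hc : IsPBlock M c)
    (h : ∀ x : G, x ∈ Subgroup.centralizer (P : Set G) →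
      MemLocalIdeal M (blockCoeff B x - subgroupBlockCoeff H c x))
    (ξ : IrrCharacter (Subgroup.centralizer (P : Set G))) :
    lam hM P (blockCoeff B) ξ = lam hM P (subgroupBlockCoeff H c) ξ :=
  lam_congr hM (nice_blockCoeff hM hB) (nice_sgbc hM hPH hC hc)
    (fun x hx => (memIdeal_sub_iff hM ((nice_blockCoeff (P := P) hM hB).mem x)
      ((nice_sgbc hM hPH hC hc).mem x)).1 (h x hx)) ξ

/-- Brauer's first main theorem, from `G` down to `H`. -/
theorem firstMain_down (hM : IsPModular p M) {P : Subgroup G}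
    (hH : Subgroup.normalizer (P : Set G) ≤ H) {B : Set (IrrCharacter G)} (hB : IsPBlock M B)
    (hD : IsDefectGroup p M B P) :
    ∃! c : Set (IrrCharacter H), IsPBlock M c ∧ IsDefectGroup p M c (P.subgroupOf H) ∧
      ∀ x : G, x ∈ Subgroup.centralizer (P : Set G) →
        MemLocalIdeal M (blockCoeff B x - subgroupBlockCoeff H c x) := by
  obtain ⟨e, hmax⟩ := exists_maximal_at hM hB hD
  have hP := hmax.1.1.1
  have hC : Subgroup.centralizer (P : Set G) ≤ H :=
    (Subgroup.centralizer_le_normalizer _).trans hH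
  have hPH : P ≤ H := Subgroup.le_normalizer.trans hH
  obtain ⟨a, ha, hae, hab⟩ := exists_upIdx (H := H) hPH hC hmax.1.1.2
  obtain ⟨c, hc⟩ := exists_block_of_pair hM (upIdx_pGroup hae hP) hab
  have hcmax := (maximal_up_iff hM hH hae hmax.1 hc).1 hmax
  refine ⟨c, ⟨hc.2.1, upIdx_subgroupOf hae ▸ maximal_isDefectGroup hM hcmax, fun x hx =>
    (memIdeal_sub_iff hM ((nice_blockCoeff (P := P) hM hB).mem x)
      ((nice_sgbc hM hPH hC hc.2.1).mem x)).2 (res_eq_of_maximal hM hP hH hae hmax hcmax hx)⟩, ?_⟩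
  rintro c' ⟨hc', -, hx⟩
  obtain ⟨ξ, hξ⟩ := bne hM hmax.1.1.2
  have h1 : lam hM P (subgroupBlockCoeff H c') ξ = 1 := by
    rw [← lam_eq_of_res_eq hM hPH hC hB hc' hx ξ]
    exact pairOf_lam hM hmax.1 hξ
  exact pairOf_block_unique hM ((pairOf_iff_lam_up hM hab hae hP hc' hξ).2 h1) hc

/-- Brauer's first main theorem, from `H` up to `G`. -/
theorem firstMain_up (hM : IsPModular p M) {P : Subgroup G}
    (hH : Subgroup.normalizer (P : Set G) ≤ H) {c : Set (IrrCharacter H)} (hc : IsPBlock M c)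
    (hD : IsDefectGroup p M c (P.subgroupOf H)) :
    ∃! B : Set (IrrCharacter G), IsPBlock M B ∧ IsDefectGroup p M B P ∧
      ∀ x : G, x ∈ Subgroup.centralizer (P : Set G) →
        MemLocalIdeal M (blockCoeff B x - subgroupBlockCoeff H c x) := by
  have hC : Subgroup.centralizer (P : Set G) ≤ H :=
    (Subgroup.centralizer_le_normalizer _).trans hH
  have hPH : P ≤ H := Subgroup.le_normalizer.trans hH
  obtain ⟨e', hcmax⟩ := exists_maximal_at hM hc hD
  have hmap : (P.subgroupOf H).map H.subtype = P := Subgroup.map_subgroupOf_eq_of_le hPH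
  have ha : Subgroup.centralizer (((P.subgroupOf H).map H.subtype : Subgroup G) : Set G) ≤ H :=
    hmap.symm ▸ hC
  generalize hi : upIdx (⟨P.subgroupOf H, e'⟩ : BrauerPairIdx H) ha = i
  have hi1 : i.1 = P := by rw [← hi]; exact hmap
  obtain ⟨Q, e⟩ := i
  change Q = P at hi1
  subst hi1
  have hP : IsPGroup p Q := hmap ▸ hcmax.1.1.1.map H.subtype
  have he : IsPBlock M e := isPBlock_upIdx hcmax.1.1.2 hi
  obtain ⟨B, hB⟩ := exists_block_of_pair hM hP he
  have hmax := (maximal_up_iff hM hH hi hB hcmax.1).2 hcmax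
  refine ⟨B, ⟨hB.2.1, maximal_isDefectGroup hM hmax, fun x hx =>
    (memIdeal_sub_iff hM ((nice_blockCoeff (P := Q) hM hB.2.1).mem x)
      ((nice_sgbc hM hPH hC hc).mem x)).2 (res_eq_of_maximal hM hP hH hi hmax hcmax hx)⟩, ?_⟩
  rintro B' ⟨hB', -, hx⟩
  obtain ⟨ξ, hξ⟩ := bne hM he
  have h1 : lam hM Q (blockCoeff B') ξ = 1 := by
    rw [lam_eq_of_res_eq hM hPH hC hB' hc hx ξ]
    exact (pairOf_iff_lam_up hM hcmax.1.1.2 hi hP hc hξ).1 hcmax.1
  exact pairOf_block_unique hM (pairOf_of_lam hM hP he hξ hB' h1) hB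

end overgroup

end CfsgLib.Blocks
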