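import Cfsg.Agent.Lib.Blocks.Transport
import Cfsg.Prelude.Def_BrauerPairs

/-!
# Brauer pairs in character language: the Brauer map on invariant functions
-/

namespace CfsgLib.Blocks

open Cfsg CfsgLib.CharTheory
open scoped ComplexConjugate

set_option linter.unusedVariables false
set_option linter.unusedSimpArgs false
set_option linter.style.haveILetI false
set_option linter.unusedSectionVars false

universe u

variable {p : ℕ} {M : Ideal AlgInt} {G : Type u} [Group G] [Fintype G]

theorem normalizer_le_normalizer_cent {G : Type u} [Group G] (Q : Subgroup G) :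
    Subgroup.normalizer (Q : Set G) ≤
      Subgroup.normalizer (Subgroup.centralizer (Q : Set G) : Set G) := by
  refine Subgroup.le_normalizer_iff.2 fun n hn c hc q hq => ?_
  have h1 := hc _ ((Subgroup.mem_normalizer_iff.1 ((Subgroup.normalizer _).inv_mem hn) q).1 hq)
  rw [inv_inv] at h1
  calc q * (n * c * n⁻¹) = n * (n⁻¹ * q * n * c) * n⁻¹ := by group
    _ = n * c * n⁻¹ * q := by rw [h1]; group

/-- Extension by zero of a function on a subgroup. -/
noncomputable def sext (K : Subgroup G) (a : K → ℂ) : G → ℂ :=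
  fun g => by classical exact if h : g ∈ K then a ⟨g, h⟩ else 0

theorem sext_coe (K : Subgroup G) (a : K → ℂ) (k : K) : sext K a k = a k := by
  simp [sext, k.2]

theorem sext_off (K : Subgroup G) (a : K → ℂ) {g : G} (h : g ∉ K) : sext K a g = 0 := by
  simp [sext, h]

theorem subgroupBlockCoeff_eq (K : Subgroup G) (e : Set (IrrCharacter K)) :
    subgroupBlockCoeff K e = sext K (blockCoeff e) := rfl

theorem sext_mem (hM : IsPModular p M) (K : Subgroup G) {a : K → ℂ}
    (ha : ∀ k, MemLocalRing M (a k)) (g : G) : MemLocalRing M (sext K a g) := by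
  by_cases h : g ∈ K
  · rw [show g = ((⟨g, h⟩ : K) : G) from rfl, sext_coe]; exact ha _
  · rw [sext_off K a h]; exact (loc hM).zero_mem

theorem sext_conj (K : Subgroup G) {a : K → ℂ} {y : G}
    (hy : y ∈ Subgroup.normalizer (K : Set G))
    (ha : ∀ k k' : K, (k' : G) = y * k * y⁻¹ → a k' = a k) (x : G) :
    sext K a (y * x * y⁻¹) = sext K a x := by
  by_cases h : x ∈ K
  · have h' := (mem_normalizer_conj_iff hy x).2 h
    have e1 := sext_coe K a ⟨_, h'⟩
    have e2 := sext_coe K a ⟨x, h⟩
    simp only at e1 e2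
    rw [e1, e2]
    exact ha ⟨x, h⟩ ⟨_, h'⟩ rfl
  · rw [sext_off K a h, sext_off K a (mt (mem_normalizer_conj_iff hy x).1 h)]

theorem sext_conj_mem (K : Subgroup G) {a : K → ℂ} (ha : IsClassFunction K a) {y : G} (hy : y ∈ K)
    (x : G) : sext K a (y * x * y⁻¹) = sext K a x :=
  sext_conj K (Subgroup.le_normalizer hy)
    (fun k k' hk => by
      rw [show k' = ⟨y, hy⟩ * k * ⟨y, hy⟩⁻¹ from Subtype.ext (by simpa using hk)]
      exact ha k ⟨y, hy⟩) x

theorem sext_conv (K : Subgroup G) [Fintype K] (a b : K → ℂ) :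
    conv (sext K a) (sext K b) = sext K (conv a b) := by
  classical
  funext g
  have h1 : conv (sext K a) (sext K b) g = ∑ k : K, a k * sext K b ((k : G)⁻¹ * g) := by
    rw [conv, ← Finset.sum_filter_of_ne (s := (Finset.univ : Finset G)) (p := fun x => x ∈ K)
      (fun x _ hx => by by_contra hc; exact hx (by rw [sext_off K a hc, zero_mul]))]
    symm
    refine Finset.sum_bij (fun k _ => (k : G)) ?_ (fun _ _ _ _ e => Subtype.ext e) ?_ ?_
    · intro k _; simp
    · intro x hx; exact ⟨⟨x, (Finset.mem_filter.1 hx).2⟩, Finset.mem_univ _, rfl⟩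
    · intro k _; rw [sext_coe]
  rw [h1]
  by_cases hg : g ∈ K
  · rw [show g = ((⟨g, hg⟩ : K) : G) from rfl, sext_coe, conv]
    exact Finset.sum_congr rfl fun k _ => by
      rw [← Subgroup.coe_inv, ← Subgroup.coe_mul, sext_coe]
  · rw [sext_off K _ hg]
    refine Finset.sum_eq_zero fun k _ => ?_
    rw [sext_off K b fun h => hg (by simpa using K.mul_mem k.2 h), mul_zero]

theorem sext_sub (K : Subgroup G) (a b : K → ℂ) :
    sext K (fun k => a k - b k) = fun g => sext K a g - sext K b g := by
  funext g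
  by_cases h : g ∈ K <;> simp [sext, h]

theorem sext_smul (K : Subgroup G) (c : ℂ) (a : K → ℂ) :
    sext K (c • a) = c • sext K a := by
  funext g
  by_cases h : g ∈ K <;> simp [sext, h]

theorem conv_blockCoeff (b : Set (IrrCharacter G)) :
    conv (blockCoeff b) (blockCoeff b) = blockCoeff b := by
  rw [← cf_ind, ← cf_mul]
  congr 1
  funext χ
  by_cases h : χ ∈ b <;> simp [ind_of_mem, ind_of_notMem, h]

theorem conv_blockCoeff_eq_zero {b b' : Set (IrrCharacter G)} (h : Disjoint b b') :
    conv (blockCoeff b) (blockCoeff b') = 0 := by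
  rw [← cf_ind, ← cf_ind, ← cf_mul]
  funext g
  rw [cf]
  simp only [Pi.mul_apply, Pi.zero_apply]
  rw [Finset.sum_eq_zero (fun χ _ => ?_), mul_zero]
  by_cases hb : χ ∈ b
  · rw [ind_of_notMem (Set.disjoint_left.1 h hb)]; simp
  · rw [ind_of_notMem hb]; simp

theorem block_disjoint (hM : IsPModular p M) {b b' : Set (IrrCharacter G)} (hb : IsPBlock M b)
    (hb' : IsPBlock M b') (hne : b ≠ b') : Disjoint b b' :=
  Set.disjoint_left.2 fun χ h h' => hne ((eq_blockOf hM hb h).trans (eq_blockOf hM hb' h').symm)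

/-- Functions to which the Brauer map at `P` applies. -/
structure Nice (M : Ideal AlgInt) (P : Subgroup G) (β : G → ℂ) : Prop where
  mem : ∀ x, MemLocalRing M (β x)
  inv : ∀ r ∈ P, ∀ x, β (r * x * r⁻¹) = β x
  cls : ∀ c ∈ Subgroup.centralizer (P : Set G), ∀ x, β (c * x * c⁻¹) = β x

variable {P : Subgroup G}

theorem Nice.of_classFun {β : G → ℂ} (hcl : IsClassFunction G β)
    (hm : ∀ x, MemLocalRing M (β x)) : Nice M P β :=
  ⟨hm, fun r _ x => hcl x r, fun c _ x => hcl x c⟩

theorem nice_blockCoeff (hM : IsPModular p M) {B : Set (IrrCharacter G)} (hB : IsPBlock M B) :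
    Nice M P (blockCoeff B) :=
  Nice.of_classFun (blockCoeff_isClassFunction B) (memRing_blockCoeff hM hB)

theorem Nice.restrict {β : G → ℂ} (h : Nice M P β) :
    IsClassFunction (Subgroup.centralizer (P : Set G)) (fun c => β c) :=
  fun a b => h.cls b b.2 a

theorem conv_conj {β γ : G → ℂ} {y : G} (hb : ∀ x, β (y * x * y⁻¹) = β x)
    (hg : ∀ x, γ (y * x * y⁻¹) = γ x) (x : G) : conv β γ (y * x * y⁻¹) = conv β γ x := by
  unfold conv
  symm
  refine Fintype.sum_equiv (MulAut.conj y).toEquiv _ _ fun z => ?_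
  show β z * γ (z⁻¹ * x) = β (y * z * y⁻¹) * γ ((y * z * y⁻¹)⁻¹ * (y * x * y⁻¹))
  rw [hb, show (y * z * y⁻¹)⁻¹ * (y * x * y⁻¹) = y * (z⁻¹ * x) * y⁻¹ by group, hg]

theorem Nice.conv (hM : IsPModular p M) {β γ : G → ℂ} (hb : Nice M P β) (hg : Nice M P γ) :
    Nice M P (conv β γ) :=
  ⟨fun x => memRing_sum hM fun z _ => (loc hM).mul_mem (hb.mem z) (hg.mem _),
    fun r hr => conv_conj (hb.inv r hr) (hg.inv r hr),
    fun c hc => conv_conj (hb.cls c hc) (hg.cls c hc)⟩

theorem Nice.zero (hM : IsPModular p M) : Nice M P (fun _ : G => (0 : ℂ)) :=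
  ⟨fun _ => (loc hM).zero_mem, fun _ _ _ => rfl, fun _ _ _ => rfl⟩

theorem Nice.smul (hM : IsPModular p M) {β : G → ℂ} (hb : Nice M P β) {c : ℂ}
    (hc : MemLocalRing M c) : Nice M P (c • β) :=
  ⟨fun x => (loc hM).mul_mem hc (hb.mem x),
    fun r hr x => by simp [hb.inv r hr x], fun r hr x => by simp [hb.cls r hr x]⟩

theorem Nice.sub (hM : IsPModular p M) {β γ : G → ℂ} (hb : Nice M P β) (hg : Nice M P γ) :
    Nice M P (fun x => β x - γ x) :=
  ⟨fun x => (loc hM).sub_mem (hb.mem x) (hg.mem x),
    fun r hr x => by rw [hb.inv r hr x, hg.inv r hr x],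
    fun r hr x => by rw [hb.cls r hr x, hg.cls r hr x]⟩

/-- Truncation to `C(P)` is multiplicative modulo `M` on `P`-invariant functions. -/
theorem res_conv_restrict (hM : IsPModular p M) (hP : IsPGroup p P)
    [Fintype (Subgroup.centralizer (P : Set G))] {β γ : G → ℂ} (hb : Nice M P β)
    (hg : Nice M P γ) (k : Subgroup.centralizer (P : Set G)) :
    res hM (CfsgLib.Blocks.conv β γ k) =
      res hM (CfsgLib.Blocks.conv (fun c : Subgroup.centralizer (P : Set G) => β c)
        (fun c : Subgroup.centralizer (P : Set G) => γ c) k) := by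
  classical
  simp only [CfsgLib.Blocks.conv]
  rw [res_sum hM fun x _ => (loc hM).mul_mem (hb.mem _) (hg.mem _),
    res_sum hM fun x _ => (loc hM).mul_mem (hb.mem _) (hg.mem _)]
  letI : MulAction P G :=
    { smul := fun r x => (r : G) * x * (r : G)⁻¹
      one_smul := fun x => by show ((1 : P) : G) * x * ((1 : P) : G)⁻¹ = x; simp
      mul_smul := fun r s x => by
        show ((r * s : P) : G) * x * ((r * s : P) : G)⁻¹ =
          (r : G) * ((s : G) * x * (s : G)⁻¹) * (r : G)⁻¹
        simp [mul_assoc] }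
  have hfix : ∀ x : G, x ∈ MulAction.fixedPoints P G ↔ x ∈ Subgroup.centralizer (P : Set G) := by
    intro x
    constructor
    · intro hx r hr
      exact mul_inv_eq_iff_eq_mul.1 (hx ⟨r, hr⟩)
    · intro hx r
      show (r : G) * x * (r : G)⁻¹ = x
      rw [hx r r.2, mul_inv_cancel_right]
  rw [sum_fixedPoints hM hP _ (fun r x => ?_)]
  · symm
    refine Finset.sum_bij (fun x _ => (x : G)) ?_ (fun _ _ _ _ e => Subtype.ext e) ?_ ?_
    · intro x _; exact Finset.mem_filter.2 ⟨Finset.mem_univ _, (hfix _).2 x.2⟩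
    · intro x hx; exact ⟨⟨x, (hfix x).1 (Finset.mem_filter.1 hx).2⟩, Finset.mem_univ _, rfl⟩
    · intro x _; rfl
  · show res hM (β ((r : G) * x * (r : G)⁻¹) * γ (((r : G) * x * (r : G)⁻¹)⁻¹ * k)) = _
    have hk : Commute (r : G) (k : G) := k.2 r r.2
    have e : ((r : G) * x * (r : G)⁻¹)⁻¹ * k = (r : G) * (x⁻¹ * k) * (r : G)⁻¹ := by
      calc ((r : G) * x * (r : G)⁻¹)⁻¹ * k = (r : G) * x⁻¹ * ((r : G)⁻¹ * k) := by group
        _ = (r : G) * x⁻¹ * (k * (r : G)⁻¹) := by rw [hk.inv_left.eq]
        _ = (r : G) * (x⁻¹ * k) * (r : G)⁻¹ := by group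
    rw [e, hb.inv r r.2, hg.inv r r.2]

/-- The central character mod `M` of the Brauer image at `P`. -/
noncomputable def lam (hM : IsPModular p M) (P : Subgroup G) (β : G → ℂ)
    (ξ : IrrCharacter (Subgroup.centralizer (P : Set G))) : AlgInt ⧸ M :=
  res hM (brauerOmega P β (ξ : Subgroup.centralizer (P : Set G) → ℂ))

theorem brauerOmega_eq_omega [Fintype (Subgroup.centralizer (P : Set G))] (β : G → ℂ)
    (ξ : Subgroup.centralizer (P : Set G) → ℂ) :
    brauerOmega P β ξ = omega ξ (fun c : Subgroup.centralizer (P : Set G) => β c) := by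
  rw [brauerOmega, finsum_eq_sum_of_fintype, omega, Finset.sum_div]

theorem memRing_brauerOmega (hM : IsPModular p M) {β : G → ℂ} (hb : Nice M P β)
    (ξ : IrrCharacter (Subgroup.centralizer (P : Set G))) :
    MemLocalRing M (brauerOmega P β (ξ : _ → ℂ)) := by
  haveI := Fintype.ofFinite (Subgroup.centralizer (P : Set G))
  rw [brauerOmega_eq_omega]
  exact memRing_omega hM hb.restrict (fun c => hb.mem _) ξ

theorem lam_conv (hM : IsPModular p M) (hP : IsPGroup p P) {β γ : G → ℂ} (hb : Nice M P β)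
    (hg : Nice M P γ) (ξ : IrrCharacter (Subgroup.centralizer (P : Set G))) :
    lam hM P (conv β γ) ξ = lam hM P β ξ * lam hM P γ ξ := by
  haveI := Fintype.ofFinite (Subgroup.centralizer (P : Set G))
  rw [lam, lam, lam, ← res_mul hM (memRing_brauerOmega hM hb ξ) (memRing_brauerOmega hM hg ξ),
    brauerOmega_eq_omega, brauerOmega_eq_omega, brauerOmega_eq_omega, ← omega_conv hb.restrict ξ]
  exact res_omega_congr hM (hb.conv hM hg).restrict
    (conv_isClassFunction hb.restrict hg.restrict) (fun c => (hb.conv hM hg).mem _)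
    (fun c => memRing_sum hM fun z _ => (loc hM).mul_mem (hb.mem _) (hg.mem _))
    (res_conv_restrict hM hP hb hg) ξ

theorem lam_congr (hM : IsPModular p M) {β γ : G → ℂ} (hb : Nice M P β) (hg : Nice M P γ)
    (h : ∀ c ∈ Subgroup.centralizer (P : Set G), res hM (β c) = res hM (γ c))
    (ξ : IrrCharacter (Subgroup.centralizer (P : Set G))) :
    lam hM P β ξ = lam hM P γ ξ := by
  haveI := Fintype.ofFinite (Subgroup.centralizer (P : Set G))
  rw [lam, lam, brauerOmega_eq_omega, brauerOmega_eq_omega]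
  exact res_omega_congr hM hb.restrict hg.restrict (fun c => hb.mem _) (fun c => hg.mem _)
    (fun c => h c c.2) ξ

theorem lam_zero (hM : IsPModular p M)
    (ξ : IrrCharacter (Subgroup.centralizer (P : Set G))) :
    lam hM P (fun _ => (0 : ℂ)) ξ = 0 := by
  simp [lam, brauerOmega, res_zero hM]

theorem lam_sub (hM : IsPModular p M) {β γ : G → ℂ} (hb : Nice M P β) (hg : Nice M P γ)
    (ξ : IrrCharacter (Subgroup.centralizer (P : Set G))) :
    lam hM P (fun x => β x - γ x) ξ = lam hM P β ξ - lam hM P γ ξ := by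
  haveI := Fintype.ofFinite (Subgroup.centralizer (P : Set G))
  rw [lam, lam, lam, ← res_sub hM (memRing_brauerOmega hM hb ξ) (memRing_brauerOmega hM hg ξ),
    brauerOmega_eq_omega, brauerOmega_eq_omega, brauerOmega_eq_omega]
  simp only [omega, sub_mul, Finset.sum_sub_distrib, sub_div]

theorem lam_smul (hM : IsPModular p M) {β : G → ℂ} (hb : Nice M P β) {c : ℂ}
    (hc : MemLocalRing M c) (ξ : IrrCharacter (Subgroup.centralizer (P : Set G))) :
    lam hM P (c • β) ξ = res hM c * lam hM P β ξ := by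
  rw [lam, lam, ← res_mul hM hc (memRing_brauerOmega hM hb ξ), brauerOmega, brauerOmega,
    mul_finsum]
  congr 1
  exact finsum_congr fun x => by simp [mul_assoc, mul_div_assoc]

theorem lam_block_congr (hM : IsPModular p M) {β : G → ℂ} (hb : Nice M P β)
    {e : Set (IrrCharacter (Subgroup.centralizer (P : Set G)))} (he : IsPBlock M e)
    {ξ ξ' : IrrCharacter (Subgroup.centralizer (P : Set G))} (hξ : ξ ∈ e) (hξ' : ξ' ∈ e) :
    lam hM P β ξ = lam hM P β ξ' := by
  haveI := Fintype.ofFinite (Subgroup.centralizer (P : Set G))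
  rw [lam, lam, brauerOmega_eq_omega, brauerOmega_eq_omega]
  exact Zloc_res_congr hM (omega_mem_Zloc hM hb.restrict (fun c => hb.mem _))
    (sameBlock_of_mem hM he hξ hξ')

theorem forall_memIdeal_iff_lam (hM : IsPModular p M) {β : G → ℂ} (hb : Nice M P β)
    {e : Set (IrrCharacter (Subgroup.centralizer (P : Set G)))} (he : IsPBlock M e)
    {ξ₀ : IrrCharacter (Subgroup.centralizer (P : Set G))} (hξ₀ : ξ₀ ∈ e) :
    (∀ ξ ∈ e, MemLocalIdeal M (brauerOmega P β (ξ : _ → ℂ) - 1)) ↔ lam hM P β ξ₀ = 1 := by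
  have key : ∀ ξ : IrrCharacter (Subgroup.centralizer (P : Set G)),
      MemLocalIdeal M (brauerOmega P β (ξ : _ → ℂ) - 1) ↔ lam hM P β ξ = 1 := fun ξ => by
    rw [memIdeal_sub_iff hM (memRing_brauerOmega hM hb ξ) (loc hM).one_mem, res_one, lam]
  exact ⟨fun h => (key _).1 (h _ hξ₀),
    fun h ξ hξ => (key _).2 ((lam_block_congr hM hb he hξ hξ₀).trans h)⟩

/-- The central character of `G` below a character of `C(P)`. -/
theorem exists_lam_irr (hM : IsPModular p M) (hP : IsPGroup p P)
    (ξ : IrrCharacter (Subgroup.centralizer (P : Set G))) :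
    ∃ φ : IrrCharacter G, ∀ f : G → ℂ, IsClassFunction G f → (∀ x, MemLocalRing M (f x)) →
      lam hM P f ξ = res hM (omega (φ : G → ℂ) f) := by
  haveI := Fintype.ofFinite (Subgroup.centralizer (P : Set G))
  obtain ⟨φ, hφ⟩ := exists_irr_brauer P (Subgroup.centralizer (P : Set G)) hM hP le_rfl
    (Subgroup.centralizer_le_normalizer _) ξ
  refine ⟨φ, fun f hf hfm => ?_⟩
  rw [← hφ f hf hfm, lam, brauerOmega_eq_omega]
  congr 2
  funext c
  simp [brFun, c.2]

theorem nice_sext_centralizer (hM : IsPModular p M)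
    {a : Subgroup.centralizer (P : Set G) → ℂ}
    (ha : IsClassFunction (Subgroup.centralizer (P : Set G)) a)
    (hm : ∀ k, MemLocalRing M (a k)) :
    Nice M P (sext (Subgroup.centralizer (P : Set G)) a) :=
  ⟨sext_mem hM _ hm,
    fun r hr => sext_conj _
      (normalizer_le_normalizer_cent P (Subgroup.le_normalizer hr))
      (fun k k' hk => congrArg a (Subtype.ext (by rw [hk, k.2 r hr, mul_inv_cancel_right]))),
    fun c hc => sext_conj_mem _ ha hc⟩

theorem lam_sext_centralizer (hM : IsPModular p M) [Fintype (Subgroup.centralizer (P : Set G))]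
    {e : Set (IrrCharacter (Subgroup.centralizer (P : Set G)))}
    (ξ : IrrCharacter (Subgroup.centralizer (P : Set G))) :
    lam hM P (sext (Subgroup.centralizer (P : Set G)) (blockCoeff e)) ξ = res hM (ind e ξ) := by
  rw [lam, brauerOmega_eq_omega, ← omega_cf (ind e) ξ, cf_ind]
  simp only [sext_coe]

section step

variable {K : Subgroup G}

theorem nice_sext (hM : IsPModular p M) (hK : P ≤ Subgroup.normalizer (K : Set G))
    (hC : Subgroup.centralizer (P : Set G) ≤ K) {a : K → ℂ} (ha : IsClassFunction K a)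
    (hm : ∀ k, MemLocalRing M (a k))
    (hinv : ∀ r ∈ P, ∀ k k' : K, (k' : G) = r * k * r⁻¹ → a k' = a k) :
    Nice M P (sext K a) :=
  ⟨sext_mem hM K hm, fun r hr => sext_conj K (hK hr) (hinv r hr),
    fun c hc => sext_conj_mem K ha (hC hc)⟩

theorem nice_subgroupBlockCoeff (hM : IsPModular p M) (hC : Subgroup.centralizer (P : Set G) ≤ K)
    {f : Set (IrrCharacter K)} (hf : IsPBlock M f) (hst : ∀ x ∈ P, StabilizesBlock K f x) :
    Nice M P (subgroupBlockCoeff K f) := by
  haveI := Fintype.ofFinite K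
  refine nice_sext hM (fun x hx => (hst x hx).1) hC (blockCoeff_isClassFunction f)
    (memRing_blockCoeff hM hf) fun r hr k k' hk => ?_
  rw [blockCoeff_of_stabilizes (hst r hr) k']
  refine congrArg _ ?_
  apply Subtype.ext
  show r⁻¹ * (k' : G) * r = k
  rw [hk]; group

/-- Existence of a stable block below a character of `C(P)`. -/
theorem exists_stable_block (hM : IsPModular p M) (hP : IsPGroup p P)
    (hK : P ≤ Subgroup.normalizer (K : Set G)) (hC : Subgroup.centralizer (P : Set G) ≤ K)
    (ξ : IrrCharacter (Subgroup.centralizer (P : Set G))) :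
    ∃ f : Set (IrrCharacter K), IsPBlock M f ∧ (∀ x ∈ P, StabilizesBlock K f x) ∧
      lam hM P (subgroupBlockCoeff K f) ξ = 1 := by
  classical
  haveI := res_isDomain hM
  haveI := Fintype.ofFinite K
  haveI := Fintype.ofFinite (Subgroup.centralizer (P : Set G))
  haveI : Fintype {b : Set (IrrCharacter K) // IsPBlock M b} := Fintype.ofFinite _
  have hmem : ∀ (b : {b : Set (IrrCharacter K) // IsPBlock M b}) (g : G),
      MemLocalRing M (subgroupBlockCoeff K b.1 g) := fun b =>
    sext_mem hM K (memRing_blockCoeff hM b.2)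
  let w : {b : Set (IrrCharacter K) // IsPBlock M b} → ℂ := fun b =>
    omega (ξ : _ → ℂ) fun c : Subgroup.centralizer (P : Set G) => subgroupBlockCoeff K b.1 c
  have hwm : ∀ b, MemLocalRing M (w b) := fun b =>
    memRing_omega hM
      (f := fun c : Subgroup.centralizer (P : Set G) => subgroupBlockCoeff K b.1 c)
      (fun x y => sext_conj_mem K (blockCoeff_isClassFunction b.1) (hC y.2) (x : G))
      (fun c => hmem b _) ξ
  letI : MulAction P {b : Set (IrrCharacter K) // IsPBlock M b} :=
    { smul := fun r b => ⟨irrPull (conjE (hK r.2)) '' b.1, isPBlock_image _ b.2⟩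
      one_smul := fun b => by
        apply Subtype.ext
        show irrPull (conjE _) '' b.1 = b.1
        conv_rhs => rw [← Set.image_id b.1]
        refine Set.image_congr fun χ _ => Subtype.ext (funext fun k => ?_)
        rw [irrPull_apply]
        refine congrArg _ ?_
        apply Subtype.ext
        simp
      mul_smul := fun r s b => by
        apply Subtype.ext
        show irrPull (conjE _) '' b.1 = irrPull (conjE _) '' (irrPull (conjE _) '' b.1)
        rw [Set.image_image]
        refine Set.image_congr fun χ _ => Subtype.ext (funext fun k => ?_)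
        simp only [irrPull_apply]
        refine congrArg _ ?_
        apply Subtype.ext
        simp [mul_assoc] }
  have hsum : ∑ b, w b = 1 := by
    have h1 : ∀ k : K, ∑ b : {b : Set (IrrCharacter K) // IsPBlock M b}, blockCoeff b.1 k =
        if k = 1 then 1 else 0 := by
      intro k
      have e : ∑ b : {b : Set (IrrCharacter K) // IsPBlock M b}, ind b.1 =
          (1 : IrrCharacter K → ℂ) := by
        funext χ
        rw [Finset.sum_apply, Pi.one_apply, Finset.sum_eq_single
          ⟨blockOf M (χ : K → ℂ), blockOf_isPBlock χ⟩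
          (fun b _ hb => ind_of_notMem fun h => hb (Subtype.ext (eq_blockOf hM b.2 h)))
          (by simp)]
        exact ind_of_mem (mem_blockOf_self hM χ)
      calc ∑ b : {b : Set (IrrCharacter K) // IsPBlock M b}, blockCoeff b.1 k =
          cf (∑ b : {b : Set (IrrCharacter K) // IsPBlock M b}, ind b.1) k := by
            rw [cf_sum, Finset.sum_apply]; simp only [cf_ind]
        _ = _ := by rw [e, cf_one]
    have h2 : ∀ c : Subgroup.centralizer (P : Set G),
        ∑ b : {b : Set (IrrCharacter K) // IsPBlock M b}, subgroupBlockCoeff K b.1 c =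
        if c = 1 then 1 else 0 := by
      intro c
      have hc : (c : G) ∈ K := hC c.2
      have hb : ∀ b : {b : Set (IrrCharacter K) // IsPBlock M b},
          subgroupBlockCoeff K b.1 (c : G) = blockCoeff b.1 ⟨c, hc⟩ := fun b =>
        sext_coe K (blockCoeff b.1) ⟨c, hc⟩
      simp only [hb, h1]
      have hiff : (⟨(c : G), hc⟩ : K) = 1 ↔ c = 1 := by
        constructor
        · intro h; exact Subtype.ext (congrArg (fun k : K => (k : G)) h)
        · intro h; subst h; rfl
      exact if_congr hiff rfl rfl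
    simp only [w, omega]
    rw [← Finset.sum_div, Finset.sum_comm]
    simp only [← Finset.sum_mul, h2, ite_mul, one_mul, zero_mul, Finset.sum_ite_eq',
      Finset.mem_univ, if_true]
    exact div_self (irr_one_ne_zero ξ)
  have hinv : ∀ (r : P) b, res hM (w (r • b)) = res hM (w b) := by
    intro r b
    congr 1
    simp only [w]
    congr 1
    funext c
    have hc : (c : G) ∈ K := hC c.2
    simp only [subgroupBlockCoeff_eq]
    rw [show (c : G) = ((⟨c, hc⟩ : K) : G) from rfl, sext_coe, sext_coe]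
    show blockCoeff (irrPull (conjE (hK r.2)) '' b.1) _ = _
    rw [blockCoeff_image]
    refine congrArg _ ?_
    apply Subtype.ext
    show (r : G)⁻¹ * (c : G) * r = c
    rw [mul_assoc, ← c.2 r r.2, inv_mul_cancel_left]
  obtain ⟨b, hb, hbne⟩ : ∃ b ∈ MulAction.fixedPoints P
      {b : Set (IrrCharacter K) // IsPBlock M b}, res hM (w b) ≠ 0 := by
    by_contra hc
    push Not at hc
    have h := res_sum hM (s := Finset.univ) (f := w) fun b _ => hwm b
    rw [hsum, res_one, sum_fixedPoints hM hP _ hinv,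
      Finset.sum_eq_zero fun b hb => hc b (Finset.mem_filter.1 hb).2] at h
    exact one_ne_zero h
  have hst : ∀ x ∈ P, StabilizesBlock K b.1 x := fun x hx =>
    (stabilizesBlock_iff (hK hx)).2 (congrArg Subtype.val (hb ⟨x, hx⟩))
  refine ⟨b.1, b.2, hst, ?_⟩
  have hn := nice_subgroupBlockCoeff hM hC b.2 hst
  have h := lam_conv hM hP hn hn ξ
  rw [subgroupBlockCoeff_eq, sext_conv, conv_blockCoeff, ← subgroupBlockCoeff_eq] at h
  have hne : lam hM P (subgroupBlockCoeff K b.1) ξ ≠ 0 := by
    rw [lam, brauerOmega_eq_omega]; exact hbne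
  exact (mul_eq_left₀ hne).1 h.symm

theorem stable_block_unique (hM : IsPModular p M) (hP : IsPGroup p P)
    (hC : Subgroup.centralizer (P : Set G) ≤ K)
    (ξ : IrrCharacter (Subgroup.centralizer (P : Set G))) {f f' : Set (IrrCharacter K)}
    (hf : IsPBlock M f) (hf' : IsPBlock M f') (hst : ∀ x ∈ P, StabilizesBlock K f x)
    (hst' : ∀ x ∈ P, StabilizesBlock K f' x) (h : lam hM P (subgroupBlockCoeff K f) ξ = 1)
    (h' : lam hM P (subgroupBlockCoeff K f') ξ = 1) : f = f' := by
  haveI := res_isDomain hM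
  haveI := Fintype.ofFinite K
  by_contra hne
  have hc := lam_conv hM hP (nice_subgroupBlockCoeff hM hC hf hst)
    (nice_subgroupBlockCoeff hM hC hf' hst') ξ
  rw [h, h', subgroupBlockCoeff_eq, subgroupBlockCoeff_eq, sext_conv,
    conv_blockCoeff_eq_zero (block_disjoint hM hf hf' hne),
    show sext K (0 : K → ℂ) = fun _ => 0 by funext g; simp [sext], lam_zero, one_mul] at hc
  exact zero_ne_one hc

/-- An idempotent invariant function killed by every central character vanishes on `C(P)`
modulo `M`. -/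
theorem res_eq_zero_of_lam_zero (hM : IsPModular p M) (hP : IsPGroup p P) {β : G → ℂ}
    (hn : Nice M P β) (hidem : CfsgLib.Blocks.conv β β = β)
    (h0 : ∀ ξ, lam hM P β ξ = 0) {c : G} (hc : c ∈ Subgroup.centralizer (P : Set G)) :
    res hM (β c) = 0 := by
  classical
  haveI := Fintype.ofFinite (Subgroup.centralizer (P : Set G))
  set r : Subgroup.centralizer (P : Set G) → ℂ := fun k => β k with hr
  set w : Zloc (Subgroup.centralizer (P : Set G)) hM :=
    ⟨_, omega_mem_Zloc hM hn.restrict (fun k => hn.mem _)⟩ with hw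
  have hwcf : cf (w : IrrCharacter (Subgroup.centralizer (P : Set G)) → ℂ) = r :=
    cf_omega hn.restrict
  have hI : ∀ ξ, MemLocalIdeal M
      ((w : IrrCharacter (Subgroup.centralizer (P : Set G)) → ℂ) ξ) := fun ξ => by
    rw [← res_eq_zero_iff hM (Zloc_apply_mem hM w.2 ξ)]
    have := h0 ξ
    rwa [lam, brauerOmega_eq_omega] at this
  have h1 := pow_mem_Jloc hM w hI
  have h2 : w * w - w ∈ Jloc _ hM := by
    intro k
    have hcf : cf ((w * w - w : Zloc _ hM) :
        IrrCharacter (Subgroup.centralizer (P : Set G)) → ℂ) k = conv r r k - r k := by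
      rw [AddSubgroupClass.coe_sub, sub_eq_add_neg, cf_add, cf_neg, Subring.coe_mul, cf_mul,
        hwcf]
      simp [sub_eq_add_neg]
    rw [hcf, memIdeal_sub_iff hM
      (show MemLocalRing M (conv r r k) from
        memRing_sum hM fun z _ => (loc hM).mul_mem (hn.mem _) (hn.mem _))
      (show MemLocalRing M (r k) from hn.mem _), hr, ← res_conv_restrict hM hP hn hn k, hidem]
  rw [← Ideal.Quotient.eq_zero_iff_mem, map_pow] at h1
  have hid : IsIdempotentElem (Ideal.Quotient.mk (Jloc _ hM) w) := by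
    rw [IsIdempotentElem, ← map_mul, Ideal.Quotient.mk_eq_mk_iff_sub_mem]; exact h2
  rw [hid.pow_eq (Fintype.card_pos_iff.2 ⟨⟨fun _ => 1, isIrrCharacter_trivial⟩⟩).ne',
    Ideal.Quotient.eq_zero_iff_mem] at h1
  have h3 := h1 ⟨c, hc⟩
  rw [hwcf] at h3
  exact (res_eq_zero_iff hM (hn.mem c)).2 h3

/-- A stable block with a unit coefficient on `C(P)` lies below some character of `C(P)`. -/
theorem exists_upper (hM : IsPModular p M) (hP : IsPGroup p P)
    (hC : Subgroup.centralizer (P : Set G) ≤ K) {f : Set (IrrCharacter K)} (hf : IsPBlock M f)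
    (hst : ∀ x ∈ P, StabilizesBlock K f x) {c : G} (hc : c ∈ Subgroup.centralizer (P : Set G))
    (hu : res hM (subgroupBlockCoeff K f c) ≠ 0) :
    ∃ ξ : IrrCharacter (Subgroup.centralizer (P : Set G)),
      lam hM P (subgroupBlockCoeff K f) ξ = 1 := by
  haveI := res_isDomain hM
  haveI := Fintype.ofFinite K
  have hn := nice_subgroupBlockCoeff hM hC hf hst
  have hidem : conv (subgroupBlockCoeff K f) (subgroupBlockCoeff K f) = subgroupBlockCoeff K f := by
    rw [subgroupBlockCoeff_eq, sext_conv, conv_blockCoeff]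
  by_contra hno
  push Not at hno
  refine hu (res_eq_zero_of_lam_zero hM hP hn hidem (fun ξ => ?_) hc)
  by_contra hx
  have h := lam_conv hM hP hn hn ξ
  rw [hidem] at h
  exact hno ξ ((mul_eq_left₀ hx).1 h.symm)

end step

end CfsgLib.Blocks
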