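import Cfsg.Agent.Lib.Blocks.SecondMain
import Cfsg.Prelude.Def_BlockLocal

/-!
# Transport of blocks along isomorphisms, and the conjugation action on blocks of a subgroup
-/

namespace CfsgLib.Blocks

open Cfsg CfsgLib.CharTheory
open scoped ComplexConjugate

set_option linter.unusedVariables false
set_option linter.unusedSimpArgs false
set_option linter.style.haveILetI false
set_option linter.unusedSectionVars false

universe u

variable {p : ℕ} {M : Ideal AlgInt} {K L : Type u} [Group K] [Group L] [Finite K] [Finite L]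

/-- Pulling irreducible characters back along an isomorphism. -/
noncomputable def irrPull (e : K ≃* L) (χ : IrrCharacter L) : IrrCharacter K :=
  ⟨fun k => (χ : L → ℂ) (e k), isIrrCharacter_comp_surjective χ.2 e.toMonoidHom e.surjective⟩

@[simp] theorem irrPull_apply (e : K ≃* L) (χ : IrrCharacter L) (k : K) :
    (irrPull e χ : K → ℂ) k = (χ : L → ℂ) (e k) := rfl

theorem irrPull_symm (e : K ≃* L) (χ : IrrCharacter K) : irrPull e (irrPull e.symm χ) = χ :=
  Subtype.ext (funext fun k => by simp)

theorem irrPull_injective (e : K ≃* L) : Function.Injective (irrPull e) := fun a b h =>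
  Subtype.ext (funext fun l => by
    simpa using congrFun (congrArg Subtype.val h) (e.symm l))

theorem irrPull_surjective (e : K ≃* L) : Function.Surjective (irrPull e) := fun χ =>
  ⟨_, irrPull_symm e χ⟩

theorem index_centralizer_equiv (e : K ≃* L) (k : K) :
    (Subgroup.centralizer ({e k} : Set L)).index = (Subgroup.centralizer ({k} : Set K)).index := by
  haveI := Fintype.ofFinite K
  haveI := Fintype.ofFinite L
  rw [index_centralizer_eq, index_centralizer_eq]
  refine (Nat.card_congr (Equiv.subtypeEquiv e.toEquiv fun x => ?_)).symm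
  constructor
  · exact fun h => e.toMonoidHom.map_isConj h
  · intro h
    simpa using e.symm.toMonoidHom.map_isConj h

theorem centralChar_comp (e : K ≃* L) (χ : L → ℂ) (k : K) :
    centralChar (fun x => χ (e x)) k = centralChar χ (e k) := by
  simp only [centralChar, index_centralizer_equiv, map_one]

theorem sameBlock_comp (e : K ≃* L) (χ ψ : L → ℂ) :
    SameBlock M (fun x => χ (e x)) (fun x => ψ (e x)) ↔ SameBlock M χ ψ := by
  simp only [SameBlock, centralChar_comp]
  exact ⟨fun h l => by simpa using h (e.symm l), fun h k => h (e k)⟩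

theorem irrPull_mem_blockOf (e : K ≃* L) (χ ψ : IrrCharacter L) :
    irrPull e ψ ∈ blockOf M (irrPull e χ : K → ℂ) ↔ ψ ∈ blockOf M (χ : L → ℂ) :=
  sameBlock_comp e (χ : L → ℂ) (ψ : L → ℂ)

theorem image_irrPull_blockOf (e : K ≃* L) (χ : IrrCharacter L) :
    irrPull e '' blockOf M (χ : L → ℂ) = blockOf M (irrPull e χ : K → ℂ) := by
  ext φ
  obtain ⟨ψ, rfl⟩ := irrPull_surjective e φ
  rw [(irrPull_injective e).mem_set_image, irrPull_mem_blockOf]

theorem isPBlock_image (e : K ≃* L) {B : Set (IrrCharacter L)} (hB : IsPBlock M B) :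
    IsPBlock M (irrPull e '' B) := by
  obtain ⟨χ, rfl⟩ := hB
  exact ⟨irrPull e χ, image_irrPull_blockOf e χ⟩

theorem blockCoeff_image (e : K ≃* L) (B : Set (IrrCharacter L)) (k : K) :
    blockCoeff (irrPull e '' B) k = blockCoeff B (e k) := by
  simp only [blockCoeff, Nat.card_congr e.toEquiv]
  congr 1
  rw [finsum_mem_image (irrPull_injective e).injOn]
  exact finsum_mem_congr rfl fun χ _ => by simp

theorem image_principalBlock (e : K ≃* L) :
    irrPull e '' principalBlock M L = principalBlock M K :=
  haveI := Fintype.ofFinite L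
  image_irrPull_blockOf e ⟨fun _ => 1, isIrrCharacter_trivial⟩

section conjugation

variable {G : Type u} [Group G] {J : Subgroup G}

theorem mem_normalizer_conj_iff {x : G} (hx : x ∈ Subgroup.normalizer (J : Set G)) (k : G) :
    x * k * x⁻¹ ∈ J ↔ k ∈ J := ((Subgroup.mem_normalizer_iff).1 hx k).symm

/-- Conjugation `k ↦ x⁻¹ k x` on a subgroup normalized by `x`. -/
def conjE {x : G} (hx : x ∈ Subgroup.normalizer (J : Set G)) : J ≃* J where
  toFun k := ⟨x⁻¹ * (k : G) * x, by
    rw [← mem_normalizer_conj_iff hx]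
    simp [mul_assoc]⟩
  invFun k := ⟨x * (k : G) * x⁻¹, (mem_normalizer_conj_iff hx _).2 k.2⟩
  left_inv k := Subtype.ext (by simp [mul_assoc])
  right_inv k := Subtype.ext (by simp [mul_assoc])
  map_mul' a b := Subtype.ext (by simp [mul_assoc])

@[simp] theorem conjE_coe {x : G} (hx : x ∈ Subgroup.normalizer (J : Set G)) (k : J) :
    ((conjE hx k : J) : G) = x⁻¹ * (k : G) * x := rfl

variable [Finite J]

theorem stabilizesBlock_iff {e : Set (IrrCharacter J)} {x : G}
    (hx : x ∈ Subgroup.normalizer (J : Set G)) :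
    StabilizesBlock J e x ↔ irrPull (conjE hx) '' e = e := by
  constructor
  · rintro ⟨-, h⟩
    have hsub : irrPull (conjE hx) '' e ⊆ e := by
      rintro _ ⟨χ, hχ, rfl⟩
      obtain ⟨χ', hχ', hc⟩ := h χ hχ
      convert hχ' using 1
      refine Subtype.ext (funext fun k => ?_)
      exact (hc (conjE hx k) k (by simp [mul_assoc])).symm
    refine Set.eq_of_subset_of_ncard_le hsub (le_of_eq ?_) (Set.toFinite _)
    exact (Set.ncard_image_of_injective _ (irrPull_injective _)).symm
  · intro h
    refine ⟨hx, fun χ hχ => ⟨irrPull (conjE hx) χ, h.subset ⟨χ, hχ, rfl⟩, fun k k' hk => ?_⟩⟩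
    rw [irrPull_apply]
    refine congrArg _ ?_
    apply Subtype.ext; show x⁻¹ * (k' : G) * x = k; rw [hk]; group

theorem blockCoeff_of_stabilizes {e : Set (IrrCharacter J)} {x : G}
    (h : StabilizesBlock J e x) (k : J) :
    blockCoeff e k = blockCoeff e (conjE h.1 k) := by
  conv_lhs => rw [← (stabilizesBlock_iff h.1).1 h]
  rw [blockCoeff_image]

theorem stabilizesBlock_mul {e : Set (IrrCharacter J)} {x y : G}
    (h1 : StabilizesBlock J e x) (h2 : StabilizesBlock J e y) : StabilizesBlock J e (x * y) := by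
  rw [stabilizesBlock_iff ((Subgroup.normalizer (J : Set G)).mul_mem h1.1 h2.1)]
  have h1' := (stabilizesBlock_iff h1.1).1 h1
  have h2' := (stabilizesBlock_iff h2.1).1 h2
  refine Eq.trans ?_ ((congrArg (irrPull (conjE h1.1) '' ·) h2').trans h1')
  show _ = irrPull (conjE h1.1) '' (irrPull (conjE h2.1) '' e)
  rw [Set.image_image]
  refine Set.image_congr fun χ _ => Subtype.ext (funext fun k => ?_)
  simp only [irrPull_apply]
  refine congrArg _ ?_
  apply Subtype.ext; show (x * y)⁻¹ * (k : G) * (x * y) = y⁻¹ * (x⁻¹ * (k : G) * x) * y; group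

end conjugation

end CfsgLib.Blocks
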