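import Cfsg.Agent.Lib.Blocks.Principal
import Cfsg.Agent.Lib.Blocks.MinMax
import Cfsg.Agent.Lib.Blocks.Transport
import Cfsg.Agent.Lib.Blocks.Pairs
import Cfsg.Agent.Lib.CharTheory.Clifford

/-!
# Covering of blocks of a normal subgroup
-/

namespace CfsgLib.Blocks

open Cfsg CfsgLib.CharTheory
open scoped ComplexConjugate

set_option linter.unusedVariables false
set_option linter.unusedSimpArgs false
set_option linter.style.haveILetI false
set_option linter.unusedSectionVars false

universe u

variable {p : ℕ} {M : Ideal AlgInt} {G : Type u} [Group G] [Fintype G]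
  {N : Subgroup G} [hN : N.Normal] [Fintype N]

theorem mem_normalizer_normal {N : Subgroup G} [N.Normal] (x : G) :
    x ∈ Subgroup.normalizer (N : Set G) := by
  rw [Subgroup.normalizer_eq_top (H := N)]; trivial

/-- The conjugate of a block of a normal subgroup. -/
noncomputable def blockConj (x : G) (b : Set (IrrCharacter N)) : Set (IrrCharacter N) :=
  irrPull (conjE (mem_normalizer_normal (N := N) x)) '' b

theorem irrPull_conjE_eq (x : G) (θ : IrrCharacter N) :
    (irrPull (conjE (mem_normalizer_normal (N := N) x)) θ : N → ℂ) =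
      conjNormFun N x⁻¹ (θ : N → ℂ) := by
  funext n
  rw [irrPull_apply]
  exact congrArg _ (Subtype.ext (by simp))

theorem blockConj_mul (x y : G) (b : Set (IrrCharacter N)) :
    blockConj x (blockConj y b) = blockConj (x * y) b := by
  simp only [blockConj, Set.image_image]
  refine Set.image_congr fun θ _ => Subtype.ext (funext fun n => ?_)
  simp only [irrPull_apply]
  exact congrArg _ (Subtype.ext (by simp [mul_assoc]))

theorem blockConj_one (b : Set (IrrCharacter N)) : blockConj 1 b = b := by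
  conv_rhs => rw [← Set.image_id b]
  refine Set.image_congr fun θ _ => Subtype.ext (funext fun n => ?_)
  rw [irrPull_apply]
  exact congrArg _ (Subtype.ext (by simp))

theorem stabilizesBlock_iff_blockConj (x : G) (b : Set (IrrCharacter N)) :
    StabilizesBlock N b x ↔ blockConj x b = b :=
  stabilizesBlock_iff (mem_normalizer_normal x)

/-- The distinct conjugates of a block. -/
noncomputable def covOrb (b : Set (IrrCharacter N)) : Finset (Set (IrrCharacter N)) :=
  (Set.toFinite {c | ∃ x : G, c = blockConj x b}).toFinset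

theorem mem_covOrb {b c : Set (IrrCharacter N)} :
    c ∈ covOrb b ↔ ∃ x : G, c = blockConj x b := by simp [covOrb]

theorem self_mem_covOrb (b : Set (IrrCharacter N)) : b ∈ covOrb b :=
  mem_covOrb.2 ⟨1, (blockConj_one b).symm⟩

theorem isPBlock_covOrb {b c : Set (IrrCharacter N)} (hb : IsPBlock M b) (hc : c ∈ covOrb b) :
    IsPBlock M c := by
  obtain ⟨x, rfl⟩ := mem_covOrb.1 hc
  exact isPBlock_image _ hb

/-- The sum of the idempotents of the conjugates of `b`, as a function on `G`. -/
noncomputable def covFn (b : Set (IrrCharacter N)) : G → ℂ :=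
  sext N fun k => ∑ c ∈ covOrb b, blockCoeff c k

theorem covFn_cls (b : Set (IrrCharacter N)) : IsClassFunction G (covFn b) := by
  intro g y
  refine sext_conj N (mem_normalizer_normal y) (fun k k' hk => ?_) g
  refine Finset.sum_nbij' (fun c => blockConj y⁻¹ c) (fun c => blockConj y c) ?_ ?_ ?_ ?_ ?_
  · intro c hc
    obtain ⟨x, rfl⟩ := mem_covOrb.1 hc
    exact mem_covOrb.2 ⟨y⁻¹ * x, blockConj_mul _ _ _⟩
  · intro c hc
    obtain ⟨x, rfl⟩ := mem_covOrb.1 hc
    exact mem_covOrb.2 ⟨y * x, blockConj_mul _ _ _⟩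
  · intro c _; simp only [blockConj_mul, mul_inv_cancel, blockConj_one]
  · intro c _; simp only [blockConj_mul, inv_mul_cancel, blockConj_one]
  · intro c _
    simp only [blockConj, blockCoeff_image]
    refine congrArg _ ?_
    apply Subtype.ext
    show (k' : G) = y⁻¹⁻¹ * (k : G) * y⁻¹
    rw [inv_inv]; exact hk

theorem covFn_mem (hM : IsPModular p M) {b : Set (IrrCharacter N)} (hb : IsPBlock M b) (g : G) :
    MemLocalRing M (covFn b g) :=
  sext_mem hM N (fun k => memRing_sum hM fun c hc => memRing_blockCoeff hM (isPBlock_covOrb hb hc) k) g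

theorem covFn_off (b : Set (IrrCharacter N)) {g : G} (hg : g ∉ N) : covFn b g = 0 :=
  sext_off N _ hg

theorem omega_covFn (b : Set (IrrCharacter N)) (θ : IrrCharacter N) :
    omega (θ : N → ℂ) (fun k : N => covFn b k) = ∑ c ∈ covOrb b, ind c θ := by
  have h : (fun k : N => covFn b k) = cf (∑ c ∈ covOrb b, ind c) := by
    funext k
    rw [cf_sum, Finset.sum_apply]
    simp only [cf_ind]
    exact sext_coe N _ k
  rw [h, omega_cf, Finset.sum_apply]

theorem omega_covFn_of_mem (hM : IsPModular p M) {b c : Set (IrrCharacter N)} (hb : IsPBlock M b)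
    (hc : c ∈ covOrb b) {θ : IrrCharacter N} (hθ : θ ∈ c) :
    omega (θ : N → ℂ) (fun k : N => covFn b k) = 1 := by
  rw [omega_covFn, Finset.sum_eq_single c (fun c' hc' hne => ind_of_notMem fun h' => hne
    ((eq_blockOf hM (isPBlock_covOrb hb hc') h').trans
      (eq_blockOf hM (isPBlock_covOrb hb hc) hθ).symm)) (fun h => absurd hc h), ind_of_mem hθ]

theorem omega_covFn_of_notMem (b : Set (IrrCharacter N)) {θ : IrrCharacter N}
    (hθ : ∀ c ∈ covOrb b, θ ∉ c) : omega (θ : N → ℂ) (fun k : N => covFn b k) = 0 := by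
  rw [omega_covFn]
  exact Finset.sum_eq_zero fun c hc => ind_of_notMem (hθ c hc)

theorem exists_res_constituent (χ : IrrCharacter G) :
    ∃ θ : IrrCharacter N, classInner (fun n : N => (χ : G → ℂ) n) (θ : N → ℂ) ≠ 0 := by
  obtain ⟨θ, hθ, h⟩ := exists_constituent (isCharacter_restrict (isCharacter_of_irr χ.2) N)
    (fun h => irr_one_ne_zero χ (by simpa using congrFun h 1))
  exact ⟨⟨θ, hθ⟩, h⟩

theorem exists_over (θ : IrrCharacter N) :
    ∃ χ : IrrCharacter G, classInner (fun n : N => (χ : G → ℂ) n) (θ : N → ℂ) ≠ 0 := by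
  have hne : indFun N (θ : N → ℂ) ≠ 0 := fun h => by
    have h1 := classInner_indFun_self N θ.2
    rw [h, classInner_zero_left, mul_zero] at h1
    exact (Nat.cast_ne_zero.2 Nat.card_pos.ne') h1.symm
  obtain ⟨χ, hχ, h⟩ := exists_constituent (isCharacter_indFun N (isCharacter_of_irr θ.2)) hne
  refine ⟨⟨χ, hχ⟩, fun h0 => h ?_⟩
  rw [frobenius_reciprocity N (θ : N → ℂ) (isClassFunction_irr hχ), ← classInner_comm, h0,
    map_zero]

/-- Central characters on class functions supported on a normal subgroup. -/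
theorem omega_eq_of_constituent {χ : IrrCharacter G} {θ : IrrCharacter N}
    (h : classInner (fun n : N => (χ : G → ℂ) n) (θ : N → ℂ) ≠ 0) {f : G → ℂ}
    (hf : IsClassFunction G f) (hsupp : ∀ g ∉ N, f g = 0) :
    omega (χ : G → ℂ) f = omega (θ : N → ℂ) (fun k : N => f k) := by
  classical
  have hcl := clifford N χ.2 θ.2 h
  set m := classInner (fun n : N => (χ : G → ℂ) n) (θ : N → ℂ) with hm
  have h1 : ∑ g, f g * (χ : G → ℂ) g = ∑ n : N, f n * (χ : G → ℂ) n := by
    rw [← Finset.sum_filter_of_ne (p := fun x => x ∈ N)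
      (fun x _ hx => by by_contra hc; exact hx (by rw [hsupp x hc, zero_mul]))]
    symm
    refine Finset.sum_bij (fun x _ => (x : G)) (fun x _ => by simp)
      (fun _ _ _ _ e => Subtype.ext e) ?_ ?_
    · intro x hx; exact ⟨⟨x, (Finset.mem_filter.1 hx).2⟩, Finset.mem_univ _, rfl⟩
    · intro x _; rfl
  have h2 : ∀ ψ ∈ conjOrbit N (θ : N → ℂ),
      ∑ n : N, f n * ψ n = ∑ n : N, f n * (θ : N → ℂ) n ∧ ψ 1 = (θ : N → ℂ) 1 := by
    intro ψ hψ
    obtain ⟨y, rfl⟩ := (mem_conjOrbit N).1 hψ
    refine ⟨?_, conjNormFun_apply_one N y _⟩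
    rw [conjNormFun_eq]
    refine Fintype.sum_equiv (MulAut.conjNormal y).toEquiv _ _ fun n => ?_
    show f n * _ = f ((MulAut.conjNormal y n : N) : G) * _
    rw [MulAut.conjNormal_apply, hf]
    rfl
  have hsum : ∑ n : N, f n * (χ : G → ℂ) n =
      m * (conjOrbit N (θ : N → ℂ)).card * ∑ n : N, f n * (θ : N → ℂ) n := by
    calc ∑ n : N, f n * (χ : G → ℂ) n
        = ∑ n : N, f n * (m * ∑ ψ ∈ conjOrbit N (θ : N → ℂ), ψ n) := by
          refine Finset.sum_congr rfl fun n _ => ?_
          have := congrFun hcl n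
          simp only [Pi.smul_apply, Finset.sum_apply, smul_eq_mul] at this
          rw [this]
      _ = m * ∑ ψ ∈ conjOrbit N (θ : N → ℂ), ∑ n : N, f n * ψ n := by
          simp only [Finset.mul_sum]
          rw [Finset.sum_comm]
          exact Finset.sum_congr rfl fun _ _ => Finset.sum_congr rfl fun _ _ => by ring
      _ = _ := by
          rw [Finset.sum_congr rfl fun ψ hψ => (h2 ψ hψ).1, Finset.sum_const, nsmul_eq_mul]
          ring
  have hone : (χ : G → ℂ) 1 = m * (conjOrbit N (θ : N → ℂ)).card * (θ : N → ℂ) 1 := by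
    have := congrFun hcl 1
    simp only [Pi.smul_apply, Finset.sum_apply, smul_eq_mul, OneMemClass.coe_one] at this
    rw [this, Finset.sum_congr rfl fun ψ hψ => (h2 ψ hψ).2, Finset.sum_const, nsmul_eq_mul]
    ring
  have hne : m * (conjOrbit N (θ : N → ℂ)).card ≠ 0 :=
    fun h0 => irr_one_ne_zero χ (by rw [hone, h0, zero_mul])
  rw [omega, h1, hsum, hone, omega, mul_div_mul_left _ _ hne]

theorem omega_restrict_expand [Fintype (ConjClasses G)] (θ : N → ℂ) {f : G → ℂ}
    (hf : IsClassFunction G f) :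
    omega θ (fun k : N => f k) =
      ∑ C : ConjClasses G, f (crep C) * inducedCentralChar N θ (crep C) := by
  classical
  rw [omega, ← Finset.sum_fiberwise Finset.univ (fun k : N => ConjClasses.mk (k : G)),
    Finset.sum_div]
  refine Finset.sum_congr rfl fun C _ => ?_
  rw [← omega_restrict_classInd N (crep C), omega, ← mul_div_assoc, Finset.mul_sum]
  congr 1
  rw [Finset.sum_filter]
  refine Finset.sum_congr rfl fun k _ => ?_
  have hiff : ConjClasses.mk (k : G) = C ↔ IsConj (crep C) (k : G) := by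
    rw [← ConjClasses.mk_eq_mk_iff_isConj, mk_crep]; exact eq_comm
  by_cases hk : IsConj (crep C) (k : G)
  · rw [if_pos (hiff.2 hk), if_pos hk, classFun_eq_of_isConj hf hk]; ring
  · rw [if_neg (mt hiff.1 hk), if_neg hk]; ring

theorem supp_classInd {g : G} [DecidablePred (fun x => IsConj g x)] (hg : g ∈ N) :
    ∀ x ∉ N, (if IsConj g x then (1 : ℂ) else 0) = 0 := by
  intro x hx
  rw [if_neg]
  intro h
  obtain ⟨c, rfl⟩ := isConj_iff.1 h
  exact hx (hN.conj_mem g hg c)

/-- Clifford constituents through central characters. -/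
theorem constituent_iff (χ : IrrCharacter G) (θ : IrrCharacter N) :
    classInner (fun n : N => (χ : G → ℂ) n) (θ : N → ℂ) ≠ 0 ↔
      ∀ n : N, centralChar (χ : G → ℂ) (n : G) = inducedCentralChar N (θ : N → ℂ) (n : G) := by
  classical
  constructor
  · intro h n
    rw [← omega_classInd (n : G) χ, ← omega_restrict_classInd N (n : G)]
    exact omega_eq_of_constituent h (isClassFunction_classInd _) (supp_classInd n.2)
  · intro h
    obtain ⟨θ₀, hθ₀⟩ := exists_res_constituent (N := N) χ
    set f : G → ℂ := fun g => conj (indFun N (θ : N → ℂ) g) with hfdef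
    have hf : IsClassFunction G f := fun a b => by
      simp only [hfdef, indFun_isClassFunction N (θ : N → ℂ) a b]
    have hsupp : ∀ g ∉ N, f g = 0 := fun g hg => by
      simp only [hfdef, indFun_normal_apply_not_mem N _ hg, map_zero]
    have e1 : omega (χ : G → ℂ) f = omega (θ : N → ℂ) (fun k : N => f k) := by
      haveI : Fintype (ConjClasses G) := Fintype.ofFinite _
      rw [omega_eq_sum_classes hf, omega_restrict_expand (θ : N → ℂ) hf]
      refine Finset.sum_congr rfl fun C _ => ?_
      by_cases hC : crep C ∈ N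
      · rw [h ⟨_, hC⟩]
      · rw [hsupp _ hC, zero_mul, zero_mul]
    rw [omega_eq_of_constituent hθ₀ hf hsupp] at e1
    have e2 : ∀ φ : IrrCharacter N, omega (φ : N → ℂ) (fun k : N => f k) * (φ : N → ℂ) 1 =
        (Nat.card N : ℂ) * classInner (indFun N (φ : N → ℂ)) (indFun N (θ : N → ℂ)) := by
      intro φ
      rw [omega, div_mul_cancel₀ _ (irr_one_ne_zero φ),
        frobenius_reciprocity N (φ : N → ℂ) (indFun_isClassFunction N _), classInner,
        mul_inv_cancel_left₀ (Nat.cast_ne_zero.2 Nat.card_pos.ne')]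
      exact Finset.sum_congr rfl fun n _ => by simp only [hfdef]; ring
    have hne : omega (θ₀ : N → ℂ) (fun k : N => f k) ≠ 0 := by
      rw [e1]
      intro h0
      have := e2 θ
      rw [h0, zero_mul, classInner_indFun_self N θ.2] at this
      exact (Nat.cast_ne_zero.2 Nat.card_pos.ne') this.symm
    have hne2 : classInner (indFun N (θ₀ : N → ℂ)) (indFun N (θ : N → ℂ)) ≠ 0 := by
      intro h0
      have := e2 θ₀
      rw [h0, mul_zero, mul_eq_zero] at this
      exact this.elim hne (irr_one_ne_zero θ₀)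
    obtain ⟨g, hg⟩ : ∃ g : G, conjNormFun N g (θ : N → ℂ) = (θ₀ : N → ℂ) := by
      by_contra hno
      exact hne2 (indFun_orthogonal_of_not_conj N θ₀.2 θ.2 hno)
    rw [← classInner_res_conjNormFun N g (isClassFunction_irr χ.2) (θ : N → ℂ), hg]
    exact hθ₀

/-- Covering gives congruences of central characters on the normal subgroup. -/
theorem res_omega_covers (hM : IsPModular p M) {B : Set (IrrCharacter G)} (hB : IsPBlock M B)
    {b : Set (IrrCharacter N)} (hb : IsPBlock M b)
    (hcov : ∃ χ ∈ B, ∃ θ ∈ b, classInner (fun n : N => (χ : G → ℂ) n) (θ : N → ℂ) ≠ 0)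
    {χ : IrrCharacter G} (hχ : χ ∈ B) {θ : IrrCharacter N} (hθ : θ ∈ b) {f : G → ℂ}
    (hf : IsClassFunction G f) (hfM : ∀ x, MemLocalRing M (f x)) (hsupp : ∀ g ∉ N, f g = 0) :
    res hM (omega (χ : G → ℂ) f) = res hM (omega (θ : N → ℂ) fun k : N => f k) := by
  obtain ⟨χ₀, hχ₀, θ₀, hθ₀, h⟩ := hcov
  rw [Zloc_res_congr hM (omega_mem_Zloc hM hf hfM) (sameBlock_of_mem hM hB hχ hχ₀),
    omega_eq_of_constituent h hf hsupp]
  exact Zloc_res_congr hM (v := fun φ : IrrCharacter N => omega (φ : N → ℂ) fun k : N => f k)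
    (omega_mem_Zloc hM (fun a c => hf (a : G) (c : G)) (fun k => hfM k))
    (sameBlock_of_mem hM hb hθ₀ hθ)

theorem res_covFn_covers (hM : IsPModular p M) {B : Set (IrrCharacter G)} (hB : IsPBlock M B)
    {b : Set (IrrCharacter N)} (hb : IsPBlock M b)
    (hcov : ∃ χ ∈ B, ∃ θ ∈ b, classInner (fun n : N => (χ : G → ℂ) n) (θ : N → ℂ) ≠ 0)
    {χ : IrrCharacter G} (hχ : χ ∈ B) : res hM (omega (χ : G → ℂ) (covFn b)) = 1 := by
  obtain ⟨θ, hθ⟩ := block_nonempty hM hb
  rw [res_omega_covers hM hB hb hcov hχ hθ (covFn_cls b) (covFn_mem hM hb)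
    (fun g hg => covFn_off b hg), omega_covFn_of_mem hM hb (self_mem_covOrb b) hθ, res_one]

/-- Where the constituents of a character lie, given its value on the orbit idempotent. -/
theorem constituent_mem_orbit (hM : IsPModular p M) {b : Set (IrrCharacter N)}
    {χ : IrrCharacter G} (h : res hM (omega (χ : G → ℂ) (covFn b)) = 1) {θ : IrrCharacter N}
    (hc : classInner (fun n : N => (χ : G → ℂ) n) (θ : N → ℂ) ≠ 0) :
    ∃ c ∈ covOrb b, θ ∈ c := by
  haveI := res_isDomain hM
  by_contra hno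
  push Not at hno
  rw [omega_eq_of_constituent hc (covFn_cls b) (fun g hg => covFn_off b hg),
    omega_covFn_of_notMem b hno, res_zero] at h
  exact zero_ne_one h

theorem covers_of_res (hM : IsPModular p M) {b : Set (IrrCharacter N)} {χ : IrrCharacter G}
    (h : res hM (omega (χ : G → ℂ) (covFn b)) = 1) :
    ∃ θ ∈ b, classInner (fun n : N => (χ : G → ℂ) n) (θ : N → ℂ) ≠ 0 := by
  obtain ⟨θ, hθ⟩ := exists_res_constituent (N := N) χ
  obtain ⟨c, hc, hθc⟩ := constituent_mem_orbit hM h hθ
  obtain ⟨x, rfl⟩ := mem_covOrb.1 hc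
  obtain ⟨θ', hθ', rfl⟩ := hθc
  refine ⟨θ', hθ', ?_⟩
  rw [irrPull_conjE_eq, classInner_res_conjNormFun N x⁻¹ (isClassFunction_irr χ.2)] at hθ
  exact hθ

/-- Blocks are separated by `p`-regular classes. -/
theorem sameBlock_of_regular (hM : IsPModular p M) {χ χ' : IrrCharacter G}
    (h : ∀ g : G, ¬ p ∣ orderOf g → res hM (clv g χ) = res hM (clv g χ')) :
    SameBlock M (χ : G → ℂ) (χ' : G → ℂ) := by
  classical
  haveI := res_isDomain hM
  by_contra hne
  set B := blockOf M (χ : G → ℂ) with hB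
  have hBb : IsPBlock M B := blockOf_isPBlock χ
  have h1 : res hM (omega (χ : G → ℂ) (blockCoeff B)) = 1 := by
    rw [← cf_ind, omega_cf, ind_of_mem (mem_blockOf_self hM χ), res_one]
  have h2 : res hM (omega (χ' : G → ℂ) (blockCoeff B)) = 0 := by
    rw [← cf_ind, omega_cf, ind_of_notMem (fun hm => hne (sameBlock_of_mem hM hBb
      (mem_blockOf_self hM χ) hm)), res_zero]
  haveI : Fintype (ConjClasses G) := Fintype.ofFinite _
  rw [omega_eq_sum_classes (blockCoeff_isClassFunction B)] at h1 h2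
  change res hM (∑ C : ConjClasses G, blockCoeff B (crep C) * clv (crep C) χ) = 1 at h1
  change res hM (∑ C : ConjClasses G, blockCoeff B (crep C) * clv (crep C) χ') = 0 at h2
  rw [res_sum hM fun C _ => (loc hM).mul_mem (memRing_blockCoeff hM hBb _) (memRing_clv hM _ _)]
    at h1 h2
  rw [Finset.sum_congr rfl fun C _ => ?_] at h1
  · rw [h2] at h1; exact zero_ne_one h1
  by_cases hC : p ∣ orderOf (crep C)
  · have h0 : blockCoeff B (crep C) = 0 := by
      simp only [blockCoeff, finsum_mem_bset]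
      rw [weak_orth_conj hM hBb (x := 1) (by simpa using hM.1.not_dvd_one) hC, mul_zero]
    rw [h0, zero_mul, zero_mul]
  · rw [res_mul hM (memRing_blockCoeff hM hBb _) (memRing_clv hM _ _),
      res_mul hM (memRing_blockCoeff hM hBb _) (memRing_clv hM _ _), h _ hC]

theorem reg_mem_of_index (hM : IsPModular p M) (hidx : ∃ k : ℕ, N.index = p ^ k) {g : G}
    (hg : ¬ p ∣ orderOf g) : g ∈ N := by
  obtain ⟨k, hk⟩ := hidx
  rw [← QuotientGroup.eq_one_iff, ← orderOf_eq_one_iff]
  refine Nat.eq_one_of_dvd_coprimes ((hM.1.coprime_iff_not_dvd.2 hg).pow_left k) ?_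
    (orderOf_map_dvd (QuotientGroup.mk' N) g)
  rw [← hk]
  exact orderOf_dvd_natCard _

/-- Over a `p`-power index there is only one covering block. -/
theorem covering_unique (hM : IsPModular p M) (hidx : ∃ k : ℕ, N.index = p ^ k)
    {b : Set (IrrCharacter N)} (hb : IsPBlock M b)
    {B B' : Set (IrrCharacter G)} (hB : IsPBlock M B) (hB' : IsPBlock M B')
    (hc : ∃ χ ∈ B, ∃ θ ∈ b, classInner (fun n : N => (χ : G → ℂ) n) (θ : N → ℂ) ≠ 0)
    (hc' : ∃ χ ∈ B', ∃ θ ∈ b, classInner (fun n : N => (χ : G → ℂ) n) (θ : N → ℂ) ≠ 0) :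
    B = B' := by
  classical
  obtain ⟨χ, hχ, -⟩ := id hc
  obtain ⟨χ', hχ', -⟩ := id hc'
  obtain ⟨θ, hθ⟩ := block_nonempty hM hb
  rw [eq_blockOf hM hB hχ, eq_blockOf hM hB' hχ']
  refine (blockOf_eq_of_mem hM ?_).symm
  refine sameBlock_of_regular hM fun g hg => ?_
  have hgN := reg_mem_of_index hM hidx hg
  have e1 : clv g χ = omega (χ : G → ℂ) (fun x => if IsConj g x then 1 else 0) :=
    (omega_classInd g χ).symm
  have e2 : clv g χ' = omega (χ' : G → ℂ) (fun x => if IsConj g x then 1 else 0) :=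
    (omega_classInd g χ').symm
  rw [e1, e2, res_omega_covers hM hB hb hc hχ hθ (isClassFunction_classInd g)
    (memRing_classInd hM g) (supp_classInd hgN),
    res_omega_covers hM hB' hb hc' hχ' hθ (isClassFunction_classInd g)
    (memRing_classInd hM g) (supp_classInd hgN)]

theorem exists_covering (hM : IsPModular p M) {b : Set (IrrCharacter N)} (hb : IsPBlock M b) :
    ∃ B : Set (IrrCharacter G), IsPBlock M B ∧
      ∃ χ ∈ B, ∃ θ ∈ b, classInner (fun n : N => (χ : G → ℂ) n) (θ : N → ℂ) ≠ 0 := by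
  obtain ⟨θ, hθ⟩ := block_nonempty hM hb
  obtain ⟨χ, hχ⟩ := exists_over θ
  exact ⟨blockOf M (χ : G → ℂ), blockOf_isPBlock χ, χ, mem_blockOf_self hM χ, θ, hθ, hχ⟩

theorem covFn_of_stable {c : Set (IrrCharacter N)} (hst : ∀ x : G, StabilizesBlock N c x) :
    covFn c = sext N (blockCoeff c) := by
  have h : covOrb c = {c} := by
    ext d
    rw [mem_covOrb, Finset.mem_singleton]
    refine ⟨?_, fun e => ⟨1, e.trans (blockConj_one c).symm⟩⟩
    rintro ⟨x, rfl⟩
    exact (stabilizesBlock_iff_blockConj x c).1 (hst x)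
  unfold covFn
  rw [h]
  simp

/-- Over a `p`-power index a stable block's idempotent is a block idempotent of `G`. -/
theorem exists_block_eq (hM : IsPModular p M) (hidx : ∃ k : ℕ, N.index = p ^ k)
    {c : Set (IrrCharacter N)} (hc : IsPBlock M c) (hst : ∀ x : G, StabilizesBlock N c x) :
    ∃ B : Set (IrrCharacter G), IsPBlock M B ∧ ∀ g, blockCoeff B g = subgroupBlockCoeff N c g := by
  classical
  haveI := res_isDomain hM
  obtain ⟨B, hB, hcov⟩ := exists_covering (G := G) hM hc
  refine ⟨B, hB, fun g => ?_⟩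
  have hv : (fun χ : IrrCharacter G => omega (χ : G → ℂ) (covFn c)) = ind B := by
    funext χ
    obtain ⟨θ, hθ⟩ := exists_res_constituent (N := N) χ
    rw [omega_eq_of_constituent hθ (covFn_cls c) (fun g hg => covFn_off c hg)]
    by_cases hχ : χ ∈ B
    · obtain ⟨d, hd, hθd⟩ := constituent_mem_orbit hM (res_covFn_covers hM hB hc hcov hχ) hθ
      rw [omega_covFn_of_mem hM hc hd hθd, ind_of_mem hχ]
    · rw [ind_of_notMem hχ]
      refine omega_covFn_of_notMem c fun d hd hθd => hχ ?_
      obtain ⟨x, rfl⟩ := mem_covOrb.1 hd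
      rw [(stabilizesBlock_iff_blockConj x c).1 (hst x)] at hθd
      have hu := covering_unique hM hidx hc hB (blockOf_isPBlock χ) hcov
        ⟨χ, mem_blockOf_self hM χ, θ, hθd, hθ⟩
      rw [hu]
      exact mem_blockOf_self hM χ
  rw [subgroupBlockCoeff_eq, ← covFn_of_stable hst, ← cf_ind, ← hv, cf_omega (covFn_cls c)]

end CfsgLib.Blocks
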