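import Cfsg.Prelude.Def_Blocks
import Mathlib

/-!
# The local ring at a maximal ideal of the algebraic integers, and reduction modulo it
-/

namespace CfsgLib.Blocks

set_option linter.unusedVariables false
set_option linter.style.haveILetI false

open Cfsg

variable {p : ℕ} {M : Ideal AlgInt}

theorem algInt_isIntegral {z : ℂ} (h : IsIntegral ℤ z) : z ∈ AlgInt := h

theorem one_notMem (hM : IsPModular p M) : (1 : AlgInt) ∉ M := fun h =>
  hM.2.1.ne_top ((Ideal.eq_top_iff_one M).2 h)

theorem isPrimeOf (hM : IsPModular p M) : M.IsPrime := hM.2.1.isPrime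

theorem coe_ne_zero {b : AlgInt} (hb : b ∉ M) : (b : ℂ) ≠ 0 := by
  intro h
  exact hb (by rw [show b = 0 from Subtype.ext h]; exact M.zero_mem)

theorem memLocalRing_iff {z : ℂ} :
    MemLocalRing M z ↔ ∃ a b : AlgInt, b ∉ M ∧ z * b = a := by
  constructor
  · rintro ⟨a, b, hb, rfl⟩
    exact ⟨a, b, hb, div_mul_cancel₀ _ (coe_ne_zero hb)⟩
  · rintro ⟨a, b, hb, h⟩
    exact ⟨a, b, hb, by rw [← h, mul_div_assoc, div_self (coe_ne_zero hb), mul_one]⟩

theorem memLocalIdeal_iff {z : ℂ} :
    MemLocalIdeal M z ↔ ∃ a b : AlgInt, a ∈ M ∧ b ∉ M ∧ z * b = a := by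
  constructor
  · rintro ⟨a, b, ha, hb, rfl⟩
    exact ⟨a, b, ha, hb, div_mul_cancel₀ _ (coe_ne_zero hb)⟩
  · rintro ⟨a, b, ha, hb, h⟩
    exact ⟨a, b, ha, hb, by rw [← h, mul_div_assoc, div_self (coe_ne_zero hb), mul_one]⟩

theorem MemLocalIdeal.memRing {z : ℂ} (h : MemLocalIdeal M z) : MemLocalRing M z := by
  obtain ⟨a, b, _, hb, h⟩ := h
  exact ⟨a, b, hb, h⟩

theorem memRing_coe (hM : IsPModular p M) (a : AlgInt) : MemLocalRing M (a : ℂ) :=
  memLocalRing_iff.2 ⟨a, 1, one_notMem hM, by simp⟩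

theorem memRing_of_isIntegral (hM : IsPModular p M) {z : ℂ} (h : IsIntegral ℤ z) :
    MemLocalRing M z := memRing_coe hM ⟨z, h⟩

/-- The local ring at `M`, as a subring of `ℂ`. -/
def loc (hM : IsPModular p M) : Subring ℂ where
  carrier := {z | MemLocalRing M z}
  zero_mem' := by simpa using memRing_coe hM (0 : AlgInt)
  one_mem' := by simpa using memRing_coe hM (1 : AlgInt)
  mul_mem' := by
    intro x y hx hy
    obtain ⟨a, b, hb, hx⟩ := memLocalRing_iff.1 hx
    obtain ⟨c, d, hd, hy⟩ := memLocalRing_iff.1 hy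
    refine memLocalRing_iff.2 ⟨a * c, b * d, fun h => ((isPrimeOf hM).mem_or_mem h).elim hb hd, ?_⟩
    push_cast; rw [← hx, ← hy]; ring
  add_mem' := by
    intro x y hx hy
    obtain ⟨a, b, hb, hx⟩ := memLocalRing_iff.1 hx
    obtain ⟨c, d, hd, hy⟩ := memLocalRing_iff.1 hy
    refine memLocalRing_iff.2
      ⟨a * d + c * b, b * d, fun h => ((isPrimeOf hM).mem_or_mem h).elim hb hd, ?_⟩
    push_cast; rw [← hx, ← hy]; ring
  neg_mem' := by
    intro x hx
    obtain ⟨a, b, hb, hx⟩ := memLocalRing_iff.1 hx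
    exact memLocalRing_iff.2 ⟨-a, b, hb, by push_cast; rw [← hx]; ring⟩

theorem mem_loc {hM : IsPModular p M} {z : ℂ} : z ∈ loc hM ↔ MemLocalRing M z := Iff.rfl

theorem exists_res (hM : IsPModular p M) (z : ℂ) :
    ∃ r : AlgInt ⧸ M, ∀ a b : AlgInt, b ∉ M → z * b = a →
      r * Ideal.Quotient.mk M b = Ideal.Quotient.mk M a := by
  classical
  by_cases hz : MemLocalRing M z
  · obtain ⟨a, b, hb, h⟩ := memLocalRing_iff.1 hz
    have hF := (Ideal.Quotient.maximal_ideal_iff_isField_quotient M).1 hM.2.1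
    have hb0 : Ideal.Quotient.mk M b ≠ 0 := fun h => hb (Ideal.Quotient.eq_zero_iff_mem.1 h)
    obtain ⟨u, hu⟩ := hF.mul_inv_cancel hb0
    refine ⟨Ideal.Quotient.mk M a * u, fun a' b' hb' h' => ?_⟩
    have e : a * b' = a' * b := by
      apply Subtype.ext; push_cast; rw [← h, ← h']; ring
    have := congrArg (Ideal.Quotient.mk M) e
    simp only [map_mul] at this
    calc Ideal.Quotient.mk M a * u * Ideal.Quotient.mk M b'
        = (Ideal.Quotient.mk M a * Ideal.Quotient.mk M b') * u := by ring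
      _ = Ideal.Quotient.mk M a' * Ideal.Quotient.mk M b * u := by rw [this]
      _ = Ideal.Quotient.mk M a' := by rw [mul_assoc, hu, mul_one]
  · exact ⟨0, fun a b hb h => absurd (memLocalRing_iff.2 ⟨a, b, hb, h⟩) hz⟩

/-- Reduction modulo `M` of a local integer (junk off the local ring). -/
noncomputable def res (hM : IsPModular p M) (z : ℂ) : AlgInt ⧸ M := (exists_res hM z).choose

theorem res_spec (hM : IsPModular p M) {z : ℂ} {a b : AlgInt} (hb : b ∉ M) (h : z * b = a) :
    res hM z * Ideal.Quotient.mk M b = Ideal.Quotient.mk M a :=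
  (exists_res hM z).choose_spec a b hb h

theorem mk_ne_zero {b : AlgInt} (hb : b ∉ M) : Ideal.Quotient.mk M b ≠ 0 :=
  fun h => hb (Ideal.Quotient.eq_zero_iff_mem.1 h)

theorem res_isDomain (hM : IsPModular p M) : IsDomain (AlgInt ⧸ M) :=
  (Ideal.Quotient.isDomain_iff_prime M).2 (isPrimeOf hM)

theorem res_coe (hM : IsPModular p M) (a : AlgInt) : res hM (a : ℂ) = Ideal.Quotient.mk M a := by
  simpa using res_spec hM (one_notMem hM) (by simp : (a : ℂ) * ((1 : AlgInt) : ℂ) = a)

theorem res_add (hM : IsPModular p M) {x y : ℂ} (hx : MemLocalRing M x) (hy : MemLocalRing M y) :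
    res hM (x + y) = res hM x + res hM y := by
  haveI := res_isDomain hM
  obtain ⟨a, b, hb, hx⟩ := memLocalRing_iff.1 hx
  obtain ⟨c, d, hd, hy⟩ := memLocalRing_iff.1 hy
  have hbd : b * d ∉ M := fun h => ((isPrimeOf hM).mem_or_mem h).elim hb hd
  have h := res_spec hM (z := x + y) (a := a * d + c * b) hbd (by push_cast; rw [← hx, ← hy]; ring)
  simp only [map_add, map_mul] at h
  rw [← res_spec hM hb hx, ← res_spec hM hd hy] at h
  apply mul_right_cancel₀ (mul_ne_zero (mk_ne_zero hb) (mk_ne_zero hd))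
  rw [h]; ring

theorem res_mul (hM : IsPModular p M) {x y : ℂ} (hx : MemLocalRing M x) (hy : MemLocalRing M y) :
    res hM (x * y) = res hM x * res hM y := by
  haveI := res_isDomain hM
  obtain ⟨a, b, hb, hx⟩ := memLocalRing_iff.1 hx
  obtain ⟨c, d, hd, hy⟩ := memLocalRing_iff.1 hy
  have hbd : b * d ∉ M := fun h => ((isPrimeOf hM).mem_or_mem h).elim hb hd
  have h := res_spec hM (z := x * y) (a := a * c) hbd (by push_cast; rw [← hx, ← hy]; ring)
  simp only [map_mul] at h
  rw [← res_spec hM hb hx, ← res_spec hM hd hy] at h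
  apply mul_right_cancel₀ (mul_ne_zero (mk_ne_zero hb) (mk_ne_zero hd))
  rw [h]; ring

/-- Reduction as a ring homomorphism on the local ring. -/
noncomputable def resHom (hM : IsPModular p M) : loc hM →+* AlgInt ⧸ M where
  toFun z := res hM z
  map_one' := by simpa using res_coe hM (1 : AlgInt)
  map_zero' := by simpa using res_coe hM (0 : AlgInt)
  map_add' x y := res_add hM x.2 y.2
  map_mul' x y := res_mul hM x.2 y.2

theorem resHom_apply (hM : IsPModular p M) (z : loc hM) : resHom hM z = res hM (z : ℂ) := rfl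

theorem res_zero (hM : IsPModular p M) : res hM 0 = 0 := (resHom hM).map_zero

theorem res_one (hM : IsPModular p M) : res hM 1 = 1 := (resHom hM).map_one

theorem res_neg (hM : IsPModular p M) {x : ℂ} (hx : MemLocalRing M x) :
    res hM (-x) = -res hM x := (resHom hM).map_neg ⟨x, hx⟩

theorem res_sub (hM : IsPModular p M) {x y : ℂ} (hx : MemLocalRing M x) (hy : MemLocalRing M y) :
    res hM (x - y) = res hM x - res hM y := (resHom hM).map_sub ⟨x, hx⟩ ⟨y, hy⟩

theorem res_pow (hM : IsPModular p M) {x : ℂ} (hx : MemLocalRing M x) (n : ℕ) :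
    res hM (x ^ n) = res hM x ^ n := (resHom hM).map_pow ⟨x, hx⟩ n

theorem res_natCast (hM : IsPModular p M) (n : ℕ) : res hM (n : ℂ) = (n : AlgInt ⧸ M) := by
  rw [← map_natCast (resHom hM) n]; rfl

theorem memRing_natCast (hM : IsPModular p M) (n : ℕ) : MemLocalRing M (n : ℂ) :=
  natCast_mem (loc hM) n

theorem memRing_intCast (hM : IsPModular p M) (n : ℤ) : MemLocalRing M (n : ℂ) :=
  intCast_mem (loc hM) n

theorem memRing_sum (hM : IsPModular p M) {ι : Type*} {s : Finset ι} {f : ι → ℂ}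
    (h : ∀ i ∈ s, MemLocalRing M (f i)) : MemLocalRing M (∑ i ∈ s, f i) :=
  (sum_mem h : ∑ i ∈ s, f i ∈ loc hM)

theorem memRing_prod (hM : IsPModular p M) {ι : Type*} {s : Finset ι} {f : ι → ℂ}
    (h : ∀ i ∈ s, MemLocalRing M (f i)) : MemLocalRing M (∏ i ∈ s, f i) :=
  (prod_mem h : ∏ i ∈ s, f i ∈ loc hM)

theorem res_sum (hM : IsPModular p M) {ι : Type*} {s : Finset ι} {f : ι → ℂ}
    (h : ∀ i ∈ s, MemLocalRing M (f i)) : res hM (∑ i ∈ s, f i) = ∑ i ∈ s, res hM (f i) := by
  classical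
  induction s using Finset.induction_on with
  | empty => simpa using res_zero hM
  | @insert a s ha ih =>
    rw [Finset.sum_insert ha, Finset.sum_insert ha,
      res_add hM (h a (Finset.mem_insert_self a s))
        (memRing_sum hM fun i hi => h i (Finset.mem_insert_of_mem hi)),
      ih fun i hi => h i (Finset.mem_insert_of_mem hi)]

theorem res_eq_zero_iff (hM : IsPModular p M) {z : ℂ} (hz : MemLocalRing M z) :
    res hM z = 0 ↔ MemLocalIdeal M z := by
  haveI := res_isDomain hM
  constructor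
  · intro h
    obtain ⟨a, b, hb, hab⟩ := memLocalRing_iff.1 hz
    have := res_spec hM hb hab
    rw [h, zero_mul] at this
    exact memLocalIdeal_iff.2 ⟨a, b, Ideal.Quotient.eq_zero_iff_mem.1 this.symm, hb, hab⟩
  · intro h
    obtain ⟨a, b, ha, hb, hab⟩ := memLocalIdeal_iff.1 h
    have := res_spec hM hb hab
    rw [Ideal.Quotient.eq_zero_iff_mem.2 ha] at this
    exact (mul_eq_zero.1 this).resolve_right (mk_ne_zero hb)

theorem memIdeal_sub_iff (hM : IsPModular p M) {x y : ℂ} (hx : MemLocalRing M x)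
    (hy : MemLocalRing M y) : MemLocalIdeal M (x - y) ↔ res hM x = res hM y := by
  rw [← res_eq_zero_iff hM ((loc hM).sub_mem hx hy), res_sub hM hx hy, sub_eq_zero]

theorem memIdeal_zero (hM : IsPModular p M) : MemLocalIdeal M (0 : ℂ) :=
  (res_eq_zero_iff hM (zero_mem (loc hM))).1 (res_zero hM)

theorem not_memIdeal_one (hM : IsPModular p M) : ¬ MemLocalIdeal M (1 : ℂ) := fun h => by
  haveI := res_isDomain hM
  have := (res_eq_zero_iff hM (one_mem (loc hM))).2 h
  rw [res_one] at this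
  exact one_ne_zero this

theorem memIdeal_add (hM : IsPModular p M) {x y : ℂ} (hx : MemLocalIdeal M x)
    (hy : MemLocalIdeal M y) : MemLocalIdeal M (x + y) := by
  have h1 := MemLocalIdeal.memRing hx
  have h2 := MemLocalIdeal.memRing hy
  rw [← res_eq_zero_iff hM ((loc hM).add_mem h1 h2), res_add hM h1 h2,
    (res_eq_zero_iff hM h1).2 hx, (res_eq_zero_iff hM h2).2 hy, add_zero]

theorem memIdeal_neg (hM : IsPModular p M) {x : ℂ} (hx : MemLocalIdeal M x) :
    MemLocalIdeal M (-x) := by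
  have h1 := MemLocalIdeal.memRing hx
  rw [← res_eq_zero_iff hM ((loc hM).neg_mem h1), res_neg hM h1,
    (res_eq_zero_iff hM h1).2 hx, neg_zero]

theorem memIdeal_mul_left (hM : IsPModular p M) {x y : ℂ} (hx : MemLocalRing M x)
    (hy : MemLocalIdeal M y) : MemLocalIdeal M (x * y) := by
  have h2 := MemLocalIdeal.memRing hy
  rw [← res_eq_zero_iff hM ((loc hM).mul_mem hx h2), res_mul hM hx h2,
    (res_eq_zero_iff hM h2).2 hy, mul_zero]

theorem memIdeal_sum (hM : IsPModular p M) {ι : Type*} {s : Finset ι} {f : ι → ℂ}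
    (h : ∀ i ∈ s, MemLocalIdeal M (f i)) : MemLocalIdeal M (∑ i ∈ s, f i) :=
  Finset.sum_induction f _ (fun _ _ => memIdeal_add hM) (memIdeal_zero hM) h

/-- A local integer outside the local ideal has its inverse in the local ring. -/
theorem memRing_inv (hM : IsPModular p M) {z : ℂ} (hz : MemLocalRing M z)
    (h : ¬ MemLocalIdeal M z) : MemLocalRing M z⁻¹ := by
  obtain ⟨a, b, hb, hab⟩ := hz
  have ha : a ∉ M := fun ha => h ⟨a, b, ha, hb, hab⟩
  exact ⟨b, a, ha, by rw [← hab, inv_div]⟩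

theorem natCast_p_mem (hM : IsPModular p M) : res hM (p : ℂ) = 0 := by
  rw [res_natCast]
  have h := Ideal.Quotient.eq_zero_iff_mem.2 hM.2.2
  rwa [map_natCast] at h

theorem res_charP (hM : IsPModular p M) : CharP (AlgInt ⧸ M) p := by
  haveI := res_isDomain hM
  rw [CharP.charP_iff_prime_eq_zero hM.1]
  simpa [res_natCast] using natCast_p_mem hM

end CfsgLib.Blocks
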