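import Cfsg.Agent.Lib.CharTheory
import Cfsg.Agent.Lib.Blocks.Local

/-!
# The centre of the local group ring, seen through the central characters
-/

namespace CfsgLib.Blocks

open Cfsg CfsgLib.CharTheory
open scoped ComplexConjugate

set_option linter.unusedVariables false
set_option linter.unusedSimpArgs false
set_option linter.style.haveILetI false
set_option linter.unusedSectionVars false

universe u

variable {G : Type u} [Group G]

/-- Degree as a complex number is the degree as a natural number. -/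
theorem charDegree_cast [Finite G] {χ : G → ℂ} (h : IsCharacter G χ) :
    (charDegree χ : ℂ) = χ 1 := by
  haveI := Fintype.ofFinite G
  obtain ⟨d, hd⟩ := char_one_eq_natCast h
  simp [charDegree, hd]

theorem irr_charDegree_cast [Finite G] (χ : IrrCharacter G) :
    (charDegree (χ : G → ℂ) : ℂ) = (χ : G → ℂ) 1 := charDegree_cast (isCharacter_of_irr χ.2)

theorem irr_one_ne_zero [Finite G] (χ : IrrCharacter G) : (χ : G → ℂ) 1 ≠ 0 := by
  haveI := Fintype.ofFinite G
  exact irr_ne_zero χ.2

theorem irr_charDegree_pos [Finite G] (χ : IrrCharacter G) : 0 < charDegree (χ : G → ℂ) := by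
  rcases Nat.eq_zero_or_pos (charDegree (χ : G → ℂ)) with h | h
  · exact absurd (by rw [← irr_charDegree_cast, h, Nat.cast_zero]) (irr_one_ne_zero χ)
  · exact h

theorem irr_conj_isIrr [Finite G] (χ : IrrCharacter G) :
    IsIrrCharacter G (fun g => conj ((χ : G → ℂ) g)) := by
  haveI := Fintype.ofFinite G
  refine irr_of_char_norm_one (isCharacter_conj (isCharacter_of_irr χ.2)) ?_
  have h := classInner_irr_self χ.2
  unfold classInner at h ⊢
  rw [← h]
  congr 1
  refine Finset.sum_congr rfl fun g _ => ?_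
  rw [Complex.conj_conj]; ring

/-- The complex conjugate irreducible character. -/
noncomputable def conjIrr [Finite G] (χ : IrrCharacter G) : IrrCharacter G :=
  ⟨fun g => conj ((χ : G → ℂ) g), irr_conj_isIrr χ⟩

theorem conjIrr_apply [Finite G] (χ : IrrCharacter G) (g : G) :
    (conjIrr χ : G → ℂ) g = conj ((χ : G → ℂ) g) := rfl

theorem irr_inv [Finite G] (χ : IrrCharacter G) (g : G) :
    (χ : G → ℂ) g⁻¹ = conj ((χ : G → ℂ) g) := char_apply_inv (isCharacter_of_irr χ.2) g

theorem irr_conjInv [Finite G] (χ : IrrCharacter G) (g : G) :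
    conj ((χ : G → ℂ) g) = (χ : G → ℂ) g⁻¹ := (irr_inv χ g).symm

theorem irr_one_conj [Finite G] (χ : IrrCharacter G) :
    conj ((χ : G → ℂ) 1) = (χ : G → ℂ) 1 := by
  rw [← irr_inv, inv_one]

theorem irr_isClassFun (χ : IrrCharacter G) : IsClassFunction G (χ : G → ℂ) :=
  isClassFunction_irr χ.2

theorem classFun_conj_apply {f : G → ℂ} (hf : IsClassFunction G f) (a b : G) :
    f (a * b) = f (b * a) := by
  rw [← hf (a * b) b]; group

theorem classFun_eq_of_isConj {f : G → ℂ} (hf : IsClassFunction G f) {a b : G} (h : IsConj a b) :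
    f a = f b := by
  obtain ⟨c, rfl⟩ := isConj_iff.1 h
  rw [hf]

variable [Fintype G]

/-- The central character of `χ` evaluated at `∑ g, f g • g`. -/
noncomputable def omega (χ f : G → ℂ) : ℂ := (∑ g, f g * χ g) / χ 1

/-- Convolution on `G → ℂ`. -/
noncomputable def conv (f h : G → ℂ) : G → ℂ := fun g => ∑ x, f x * h (x⁻¹ * g)

theorem conv_isClassFunction {f h : G → ℂ} (hf : IsClassFunction G f) (hh : IsClassFunction G h) :
    IsClassFunction G (conv f h) := by
  intro g k
  unfold conv
  refine Finset.sum_nbij' (fun x => k⁻¹ * x * k) (fun x => k * x * k⁻¹) ?_ ?_ ?_ ?_ ?_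
  · intro x _; simp
  · intro x _; simp
  · intro x _; simp [mul_assoc]
  · intro x _; simp [mul_assoc]
  · intro x _
    rw [← hf (k⁻¹ * x * k) k, ← hh ((k⁻¹ * x * k)⁻¹ * g) k]
    simp [mul_assoc]

theorem sum_classFun_mul_shift {f : G → ℂ} (hf : IsClassFunction G f) (χ : IrrCharacter G)
    (y : G) : ∑ x, f x * (χ : G → ℂ) (x * y) = omega (χ : G → ℂ) f * (χ : G → ℂ) y := by
  classical
  obtain ⟨n, ρ, hirr, hχ⟩ := χ.2
  set T : Module.End ℂ (Fin n → ℂ) := ∑ x, f x • ρ x with hT
  have hcomm : ∀ k : G, T ∘ₗ ρ k = ρ k ∘ₗ T := by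
    intro k
    rw [hT, ← Module.End.mul_eq_comp, ← Module.End.mul_eq_comp, Finset.mul_sum, Finset.sum_mul]
    refine Finset.sum_nbij' (fun x => k⁻¹ * x * k) (fun x => k * x * k⁻¹) ?_ ?_ ?_ ?_ ?_
    · intro x _; simp
    · intro x _; simp
    · intro x _; simp [mul_assoc]
    · intro x _; simp [mul_assoc]
    · intro x _
      rw [← hf (k⁻¹ * x * k) k, smul_mul_assoc, mul_smul_comm, ← map_mul, ← map_mul]
      simp [mul_assoc]
  obtain ⟨c, hc⟩ :=
    (Representation.IsIrreducible.algebraMap_intertwiningMap_bijective_of_isAlgClosed (ρ := ρ)).2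
      ⟨T, hcomm⟩
  have hc' : T = algebraMap ℂ (Module.End ℂ (Fin n → ℂ)) c := by
    show (Representation.IntertwiningMap.toLinearMap ⟨T, hcomm⟩) = _
    rw [← hc]; rfl
  have htr : ∀ y, ∑ x, f x * (χ : G → ℂ) (x * y) = c * (χ : G → ℂ) y := by
    intro y
    have h1 : (∑ x, f x • ρ x) * ρ y = c • ρ y := by
      rw [← hT, hc', Algebra.algebraMap_eq_smul_one, smul_mul_assoc, one_mul]
    have h2 := congrArg (LinearMap.trace ℂ (Fin n → ℂ)) h1
    rw [Finset.sum_mul, map_sum, map_smul, smul_eq_mul] at h2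
    rw [← hχ]
    simp only [Representation.character]
    rw [← h2]
    refine Finset.sum_congr rfl fun x _ => ?_
    rw [smul_mul_assoc, map_smul, map_mul, smul_eq_mul]
  rw [htr]
  congr 1
  have h1 := htr 1
  simp only [mul_one] at h1
  rw [omega, h1, mul_div_cancel_right₀ _ (irr_one_ne_zero χ)]

theorem omega_conv {f h : G → ℂ} (hf : IsClassFunction G f) (χ : IrrCharacter G) :
    omega (χ : G → ℂ) (conv f h) = omega (χ : G → ℂ) f * omega (χ : G → ℂ) h := by
  have : ∑ g, conv f h g * (χ : G → ℂ) g =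
      ∑ y, h y * ∑ x, f x * (χ : G → ℂ) (x * y) := by
    unfold conv
    simp only [Finset.sum_mul, Finset.mul_sum]
    rw [Finset.sum_comm]
    conv_rhs => rw [Finset.sum_comm]
    refine Finset.sum_congr rfl fun x _ => ?_
    refine Fintype.sum_equiv (Equiv.mulLeft x⁻¹) _ _ fun g => ?_
    simp only [Equiv.coe_mulLeft, mul_inv_cancel_left]
    ring
  rw [omega, this]
  simp only [sum_classFun_mul_shift hf χ, omega]
  rw [mul_comm ((∑ g, f g * (χ : G → ℂ) g) / _), div_mul_eq_mul_div, Finset.sum_mul]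
  congr 1
  refine Finset.sum_congr rfl fun y _ => ?_
  ring

/-- The class function with given central-character values. -/
noncomputable def cf (v : IrrCharacter G → ℂ) : G → ℂ :=
  fun g => (Nat.card G : ℂ)⁻¹ * ∑ χ : IrrCharacter G, v χ * ((χ : G → ℂ) 1 * conj ((χ : G → ℂ) g))

theorem cf_isClassFunction (v : IrrCharacter G → ℂ) : IsClassFunction G (cf v) := by
  intro g k
  simp only [cf, irr_isClassFun _ g k]

theorem cf_add (v w : IrrCharacter G → ℂ) : cf (v + w) = cf v + cf w := by
  funext g; simp [cf, add_mul, Finset.sum_add_distrib, mul_add]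

theorem cf_neg (v : IrrCharacter G → ℂ) : cf (-v) = -cf v := by
  funext g; simp [cf]

theorem cf_smul (c : ℂ) (v : IrrCharacter G → ℂ) : cf (c • v) = c • cf v := by
  funext g
  simp only [cf, Pi.smul_apply, smul_eq_mul, mul_assoc, ← Finset.mul_sum]
  ring

theorem cf_sum {ι : Type*} (s : Finset ι) (v : ι → IrrCharacter G → ℂ) :
    cf (∑ i ∈ s, v i) = ∑ i ∈ s, cf (v i) := by
  classical
  induction s using Finset.induction_on with
  | empty => funext g; simp [cf]
  | @insert a s ha ih => rw [Finset.sum_insert ha, Finset.sum_insert ha, cf_add, ih]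

theorem omega_cf (v : IrrCharacter G → ℂ) (χ : IrrCharacter G) :
    omega (χ : G → ℂ) (cf v) = v χ := by
  classical
  have h : ∀ ψ : IrrCharacter G, ∑ g, conj ((ψ : G → ℂ) g) * (χ : G → ℂ) g =
      if ψ = χ then (Nat.card G : ℂ) else 0 := by
    intro ψ
    have h1 := classInner_irr χ.2 ψ.2
    unfold classInner at h1
    have h0 : (Nat.card G : ℂ) ≠ 0 := Nat.cast_ne_zero.2 Nat.card_pos.ne'
    have h2 := congrArg (fun z => (Nat.card G : ℂ) * z) h1
    simp only [mul_inv_cancel_left₀ h0] at h2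
    rw [Finset.sum_congr rfl fun g _ => mul_comm (conj ((ψ : G → ℂ) g)) _, h2]
    by_cases he : ψ = χ
    · simp [he]
    · rw [if_neg he, if_neg fun e => he (Subtype.ext e.symm), mul_zero]
  have e : ∑ g, cf v g * (χ : G → ℂ) g = (Nat.card G : ℂ)⁻¹ * ∑ ψ : IrrCharacter G,
      v ψ * (ψ : G → ℂ) 1 * ∑ g, conj ((ψ : G → ℂ) g) * (χ : G → ℂ) g := by
    simp only [cf, Finset.mul_sum, Finset.sum_mul]
    rw [Finset.sum_comm]
    exact Finset.sum_congr rfl fun ψ _ => Finset.sum_congr rfl fun g _ => by ring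
  have h0 : (Nat.card G : ℂ) ≠ 0 := Nat.cast_ne_zero.2 Nat.card_pos.ne'
  rw [omega, e]
  simp only [h, mul_ite, mul_zero, Finset.sum_ite_eq', Finset.mem_univ, if_true]
  field_simp [irr_one_ne_zero χ]

theorem cf_omega {f : G → ℂ} (hf : IsClassFunction G f) :
    cf (fun χ => omega (χ : G → ℂ) f) = f := by
  refine classFun_ext (cf_isClassFunction _) hf fun ψ hψ => ?_
  have key : ∀ a : G → ℂ, classInner a ψ =
      (Nat.card G : ℂ)⁻¹ * (omega ((conjIrr ⟨ψ, hψ⟩ : IrrCharacter G) : G → ℂ) a *
        ((conjIrr ⟨ψ, hψ⟩ : IrrCharacter G) : G → ℂ) 1) := by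
    intro a
    rw [omega, div_mul_cancel₀ _ (irr_one_ne_zero _)]
    rfl
  rw [key, key, omega_cf]

theorem cf_mul (v w : IrrCharacter G → ℂ) : cf (v * w) = conv (cf v) (cf w) := by
  rw [← cf_omega (conv_isClassFunction (cf_isClassFunction v) (cf_isClassFunction w))]
  congr 1
  funext χ
  rw [omega_conv (cf_isClassFunction v), omega_cf, omega_cf, Pi.mul_apply]

theorem cf_one [DecidableEq G] : cf (1 : IrrCharacter G → ℂ) = fun g => if g = 1 then 1 else 0 := by
  funext g
  have h := sum_irr_apply_mul_degree (G := G) g⁻¹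
  simp only [cf, Pi.one_apply, one_mul, irr_conjInv]
  rw [Finset.sum_congr rfl fun (χ : IrrCharacter G) _ =>
    mul_comm ((χ : G → ℂ) 1) ((χ : G → ℂ) g⁻¹), h]
  by_cases hg : g = 1
  · simp [hg]
  · simp [hg]

/-- A chosen representative of a conjugacy class. -/
noncomputable def crep {G : Type u} [Group G] (C : ConjClasses G) : G := (ConjClasses.exists_rep C).choose

theorem mk_crep {G : Type u} [Group G] (C : ConjClasses G) : ConjClasses.mk (crep C) = C :=
  (ConjClasses.exists_rep C).choose_spec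

theorem isConj_crep (g : G) : IsConj (crep (ConjClasses.mk g)) g :=
  ConjClasses.mk_eq_mk_iff_isConj.1 (mk_crep _)

theorem index_centralizer_eq (g : G) :
    (Subgroup.centralizer ({g} : Set G)).index = Nat.card {x : G // IsConj g x} := by
  have h1 := card_isConj_mul_card_centralizer g
  have h2 := Subgroup.index_mul_card (Subgroup.centralizer ({g} : Set G))
  exact Nat.eq_of_mul_eq_mul_right Nat.card_pos (h2.trans h1.symm)

theorem centralChar_eq_sum (χ : IrrCharacter G) (g : G) [DecidablePred (fun x => IsConj g x)] :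
    centralChar (χ : G → ℂ) g =
      (∑ x ∈ Finset.univ.filter (fun x => IsConj g x), (χ : G → ℂ) x) / (χ : G → ℂ) 1 := by
  rw [centralChar, index_centralizer_eq, Nat.card_eq_fintype_card, Fintype.card_subtype,
    Finset.sum_congr rfl fun x hx =>
      (classFun_eq_of_isConj (irr_isClassFun χ) (Finset.mem_filter.1 hx).2).symm,
    Finset.sum_const, nsmul_eq_mul]

theorem omega_eq_sum_classes [Fintype (ConjClasses G)] {f : G → ℂ} (hf : IsClassFunction G f)
    (χ : IrrCharacter G) :
    omega (χ : G → ℂ) f =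
      ∑ C : ConjClasses G, f (crep C) * centralChar (χ : G → ℂ) (crep C) := by
  classical
  rw [omega, ← Finset.sum_fiberwise Finset.univ ConjClasses.mk, Finset.sum_div]
  refine Finset.sum_congr rfl fun C _ => ?_
  have hiff : ∀ x : G, ConjClasses.mk x = C ↔ IsConj (crep C) x := by
    intro x
    rw [← ConjClasses.mk_eq_mk_iff_isConj]
    constructor
    · rintro rfl; exact mk_crep _
    · intro h; rw [← h]; exact mk_crep C
  rw [centralChar_eq_sum χ, ← mul_div_assoc, Finset.mul_sum]
  congr 1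
  refine Finset.sum_congr (Finset.filter_congr fun x _ => hiff x) fun x hx => ?_
  rw [classFun_eq_of_isConj hf (Finset.mem_filter.1 hx).2]

/-- Central character values of the class sum of `g`. -/
noncomputable def clv (g : G) : IrrCharacter G → ℂ := fun χ => centralChar (χ : G → ℂ) g

theorem cf_clv (g : G) [DecidablePred (fun x => IsConj g x)] :
    cf (clv g) = fun x => if IsConj g x then 1 else 0 := by
  have hcl : IsClassFunction G (fun x => if IsConj g x then (1 : ℂ) else 0) := by
    intro x k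
    have : IsConj g (k * x * k⁻¹) ↔ IsConj g x :=
      ⟨fun h => h.trans (isConj_iff.2 ⟨k, rfl⟩).symm, fun h => h.trans (isConj_iff.2 ⟨k, rfl⟩)⟩
    simp only [this]
  rw [← cf_omega hcl]
  congr 1
  funext χ
  simp [clv, omega, centralChar_eq_sum, Finset.sum_filter]

theorem isIntegral_clv (g : G) (χ : IrrCharacter G) : IsIntegral ℤ (clv g χ) := by
  obtain ⟨n, ρ, hirr, hχ⟩ := χ.2
  haveI := hirr
  have h := isIntegral_centralChar ρ g
  rw [hχ] at h
  rw [clv, centralChar, index_centralizer_eq]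
  convert h using 2
  rw [← hχ, Representation.char_one]

section loc

variable {p : ℕ} {M : Ideal AlgInt}

theorem memRing_clv (hM : IsPModular p M) (g : G) (χ : IrrCharacter G) :
    MemLocalRing M (clv g χ) := memRing_of_isIntegral hM (isIntegral_clv g χ)

theorem memRing_irr (hM : IsPModular p M) (χ : IrrCharacter G) (g : G) :
    MemLocalRing M ((χ : G → ℂ) g) :=
  memRing_of_isIntegral hM (isIntegral_of_char (isCharacter_of_irr χ.2) g)

theorem cf_const (c : ℂ) (g : G) [DecidableEq G] :
    cf (fun _ : IrrCharacter G => c) g = if g = 1 then c else 0 := by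
  have h : cf ((c : ℂ) • (1 : IrrCharacter G → ℂ)) g = if g = 1 then c else 0 := by
    rw [cf_smul, cf_one]; simp
  convert h using 2
  funext χ; simp

variable (G) in
/-- The centre of the group ring over the local ring at `M`, as functions on characters. -/
noncomputable def Zloc (hM : IsPModular p M) : Subring (IrrCharacter G → ℂ) where
  carrier := {v | ∀ g : G, MemLocalRing M (cf v g)}
  zero_mem' := fun g => by simp [cf]; exact (loc hM).zero_mem
  one_mem' := fun g => by
    classical
    rw [cf_one]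
    dsimp only
    split_ifs
    · exact (loc hM).one_mem
    · exact (loc hM).zero_mem
  add_mem' := fun {v w} hv hw g => by
    rw [cf_add]; exact (loc hM).add_mem (hv g) (hw g)
  neg_mem' := fun {v} hv g => by rw [cf_neg]; exact (loc hM).neg_mem (hv g)
  mul_mem' := fun {v w} hv hw g => by
    rw [cf_mul]; exact memRing_sum hM fun x _ => (loc hM).mul_mem (hv x) (hw _)

theorem const_mem_Zloc (hM : IsPModular p M) {c : ℂ} (hc : MemLocalRing M c) :
    (fun _ => c) ∈ Zloc G hM := fun g => by
  classical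
  rw [cf_const]; split_ifs
  · exact hc
  · exact (loc hM).zero_mem

theorem clv_mem_Zloc (hM : IsPModular p M) (g : G) : clv g ∈ Zloc G hM := fun x => by
  classical
  rw [cf_clv]; dsimp only; split_ifs
  · exact (loc hM).one_mem
  · exact (loc hM).zero_mem

theorem Zloc_apply_eq_sum [Fintype (ConjClasses G)] (v : IrrCharacter G → ℂ)
    (χ : IrrCharacter G) :
    v χ = ∑ C : ConjClasses G, cf v (crep C) * clv (crep C) χ := by
  conv_lhs => rw [← omega_cf v χ, omega_eq_sum_classes (cf_isClassFunction v)]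
  rfl

theorem Zloc_apply_mem (hM : IsPModular p M) {v : IrrCharacter G → ℂ} (hv : v ∈ Zloc G hM)
    (χ : IrrCharacter G) : MemLocalRing M (v χ) := by
  classical
  rw [Zloc_apply_eq_sum v χ]
  exact memRing_sum hM fun C _ => (loc hM).mul_mem (hv _) (memRing_clv hM _ χ)

theorem sameBlock_iff_res (hM : IsPModular p M) (χ ψ : IrrCharacter G) :
    SameBlock M (χ : G → ℂ) (ψ : G → ℂ) ↔ ∀ g, res hM (clv g χ) = res hM (clv g ψ) :=
  forall_congr' fun g => memIdeal_sub_iff hM (memRing_clv hM g χ) (memRing_clv hM g ψ)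

/-- Elements of `Z(OG)` have congruent values on characters of one block. -/
theorem Zloc_res_congr (hM : IsPModular p M) {v : IrrCharacter G → ℂ} (hv : v ∈ Zloc G hM)
    {χ ψ : IrrCharacter G} (h : SameBlock M (χ : G → ℂ) (ψ : G → ℂ)) :
    res hM (v χ) = res hM (v ψ) := by
  classical
  rw [sameBlock_iff_res hM] at h
  rw [Zloc_apply_eq_sum v χ, Zloc_apply_eq_sum v ψ,
    res_sum hM fun C _ => (loc hM).mul_mem (hv _) (memRing_clv hM _ χ),
    res_sum hM fun C _ => (loc hM).mul_mem (hv _) (memRing_clv hM _ ψ)]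
  refine Finset.sum_congr rfl fun C _ => ?_
  rw [res_mul hM (hv _) (memRing_clv hM _ χ), res_mul hM (hv _) (memRing_clv hM _ ψ), h]

theorem sameBlock_refl (hM : IsPModular p M) (χ : IrrCharacter G) :
    SameBlock M (χ : G → ℂ) (χ : G → ℂ) := (sameBlock_iff_res hM χ χ).2 fun _ => rfl

theorem sameBlock_symm (hM : IsPModular p M) {χ ψ : IrrCharacter G}
    (h : SameBlock M (χ : G → ℂ) (ψ : G → ℂ)) : SameBlock M (ψ : G → ℂ) (χ : G → ℂ) :=
  (sameBlock_iff_res hM ψ χ).2 fun g => ((sameBlock_iff_res hM χ ψ).1 h g).symm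

theorem sameBlock_trans (hM : IsPModular p M) {χ ψ φ : IrrCharacter G}
    (h : SameBlock M (χ : G → ℂ) (ψ : G → ℂ)) (h' : SameBlock M (ψ : G → ℂ) (φ : G → ℂ)) :
    SameBlock M (χ : G → ℂ) (φ : G → ℂ) :=
  (sameBlock_iff_res hM χ φ).2 fun g =>
    ((sameBlock_iff_res hM χ ψ).1 h g).trans ((sameBlock_iff_res hM ψ φ).1 h' g)

theorem mem_blockOf_self (hM : IsPModular p M) (χ : IrrCharacter G) :
    χ ∈ blockOf M (χ : G → ℂ) := sameBlock_refl hM χ

theorem blockOf_eq_of_mem (hM : IsPModular p M) {χ ψ : IrrCharacter G}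
    (h : ψ ∈ blockOf M (χ : G → ℂ)) : blockOf M (ψ : G → ℂ) = blockOf M (χ : G → ℂ) :=
  Set.ext fun _ => ⟨fun h' => sameBlock_trans hM h h',
    fun h' => sameBlock_trans hM (sameBlock_symm hM h) h'⟩

theorem eq_blockOf (hM : IsPModular p M) {B : Set (IrrCharacter G)} (hB : IsPBlock M B)
    {χ : IrrCharacter G} (hχ : χ ∈ B) : B = blockOf M (χ : G → ℂ) := by
  obtain ⟨φ, rfl⟩ := hB
  exact (blockOf_eq_of_mem hM hχ).symm

theorem sameBlock_of_mem (hM : IsPModular p M) {B : Set (IrrCharacter G)} (hB : IsPBlock M B)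
    {χ ψ : IrrCharacter G} (hχ : χ ∈ B) (hψ : ψ ∈ B) :
    SameBlock M (χ : G → ℂ) (ψ : G → ℂ) := by
  rw [eq_blockOf hM hB hχ] at hψ; exact hψ

theorem block_nonempty (hM : IsPModular p M) {B : Set (IrrCharacter G)} (hB : IsPBlock M B) :
    B.Nonempty := by
  obtain ⟨φ, rfl⟩ := hB
  exact ⟨φ, mem_blockOf_self hM φ⟩

theorem blockOf_isPBlock (χ : IrrCharacter G) : IsPBlock M (blockOf M (χ : G → ℂ)) := ⟨χ, rfl⟩

/-- The indicator of a set of characters. -/
noncomputable def ind (B : Set (IrrCharacter G)) : IrrCharacter G → ℂ :=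
  B.indicator fun _ => 1

theorem ind_of_mem {B : Set (IrrCharacter G)} {χ : IrrCharacter G} (h : χ ∈ B) : ind B χ = 1 :=
  Set.indicator_of_mem h _

theorem ind_of_notMem {B : Set (IrrCharacter G)} {χ : IrrCharacter G} (h : χ ∉ B) : ind B χ = 0 :=
  Set.indicator_of_notMem h _

/-- A set of characters as a finset. -/
noncomputable def bset (B : Set (IrrCharacter G)) : Finset (IrrCharacter G) :=
  B.toFinite.toFinset

theorem mem_bset {B : Set (IrrCharacter G)} {χ : IrrCharacter G} : χ ∈ bset B ↔ χ ∈ B := by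
  simp [bset]

theorem finsum_mem_bset (B : Set (IrrCharacter G)) (f : IrrCharacter G → ℂ) :
    ∑ᶠ χ ∈ B, f χ = ∑ χ ∈ bset B, f χ :=
  finsum_mem_eq_finite_toFinset_sum _ _

theorem sum_ind_mul (B : Set (IrrCharacter G)) (f : IrrCharacter G → ℂ) :
    ∑ χ : IrrCharacter G, ind B χ * f χ = ∑ χ ∈ bset B, f χ := by
  classical
  rw [← Finset.sum_filter_add_sum_filter_not Finset.univ (fun χ => χ ∈ B)]
  rw [Finset.sum_eq_zero (s := Finset.univ.filter (fun χ => χ ∉ B))
    fun χ hχ => by rw [ind_of_notMem (Finset.mem_filter.1 hχ).2, zero_mul], add_zero]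
  refine Finset.sum_congr (by ext χ; simp [mem_bset]) fun χ hχ => ?_
  rw [ind_of_mem (mem_bset.1 hχ), one_mul]

theorem cf_ind (B : Set (IrrCharacter G)) : cf (ind B) = blockCoeff B := by
  funext g
  rw [cf, blockCoeff, finsum_mem_bset, sum_ind_mul]

/-- The block idempotent lies in the centre of the local group ring. -/
theorem ind_mem_Zloc (hM : IsPModular p M) {B : Set (IrrCharacter G)} (hB : IsPBlock M B) :
    ind B ∈ Zloc G hM := by
  classical
  haveI := res_isDomain hM
  obtain ⟨φ, rfl⟩ := hB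
  set B := blockOf M (φ : G → ℂ) with hBdef
  have hwit : ∀ ψ : IrrCharacter G, ∃ g, ψ ∉ B → res hM (clv g φ) ≠ res hM (clv g ψ) := by
    intro ψ
    by_cases h : ψ ∈ B
    · exact ⟨1, fun h' => absurd h h'⟩
    · obtain ⟨g, hg⟩ := not_forall.1 (fun h' => h ((sameBlock_iff_res hM φ ψ).2 h'))
      exact ⟨g, fun _ => hg⟩
  choose w hw using hwit
  -- `v` vanishes outside `B` and is a unit on `B`
  set v : IrrCharacter G → ℂ :=
    ∏ ψ ∈ Finset.univ.filter (fun ψ => ψ ∉ B), (clv (w ψ) - fun _ => clv (w ψ) ψ) with hv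
  have hvZ : v ∈ Zloc G hM := prod_mem fun ψ _ =>
    sub_mem (clv_mem_Zloc hM _) (const_mem_Zloc hM (memRing_clv hM _ ψ))
  have hv0 : ∀ χ, χ ∉ B → v χ = 0 := by
    intro χ hχ
    rw [hv, Finset.prod_apply]
    exact Finset.prod_eq_zero (Finset.mem_filter.2 ⟨Finset.mem_univ χ, hχ⟩) (by simp)
  have hvφ : res hM (v φ) ≠ 0 := by
    rw [hv, Finset.prod_apply]
    have hp : ∀ s : Finset (IrrCharacter G), res hM (∏ ψ ∈ s, (clv (w ψ) φ - clv (w ψ) ψ)) =
        ∏ ψ ∈ s, (res hM (clv (w ψ) φ) - res hM (clv (w ψ) ψ)) := by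
      intro s
      induction s using Finset.induction_on with
      | empty => simpa using res_one hM
      | @insert a s ha ih =>
        rw [Finset.prod_insert ha, Finset.prod_insert ha,
          res_mul hM ((loc hM).sub_mem (memRing_clv hM _ φ) (memRing_clv hM _ a))
            (memRing_prod hM fun ψ _ => (loc hM).sub_mem (memRing_clv hM _ φ) (memRing_clv hM _ ψ)),
          res_sub hM (memRing_clv hM _ φ) (memRing_clv hM _ a), ih]
    simp only [Pi.sub_apply]
    rw [hp, Finset.prod_ne_zero_iff]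
    intro ψ hψ
    exact sub_ne_zero.2 (hw ψ (Finset.mem_filter.1 hψ).2)
  have hvunit : ∀ χ ∈ B, ¬ MemLocalIdeal M (v χ) := by
    intro χ hχ h
    apply hvφ
    rw [Zloc_res_congr hM hvZ (show SameBlock M (φ : G → ℂ) (χ : G → ℂ) from hχ),
      (res_eq_zero_iff hM (Zloc_apply_mem hM hvZ χ)).2 h]
  set c : ℂ := ∏ χ ∈ bset B, (-(v χ))⁻¹ with hc
  have hcm : MemLocalRing M c := memRing_prod hM fun χ hχ => by
    refine memRing_inv hM ((loc hM).neg_mem (Zloc_apply_mem hM hvZ χ)) fun h => ?_
    exact hvunit χ (mem_bset.1 hχ) (by simpa using memIdeal_neg hM h)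
  have key : ind B = 1 - (fun _ => c) * ∏ χ ∈ bset B, (v - fun _ => v χ) := by
    funext ψ
    simp only [Pi.sub_apply, Pi.one_apply, Pi.mul_apply, Finset.prod_apply]
    by_cases h : ψ ∈ B
    · rw [ind_of_mem h, Finset.prod_eq_zero (mem_bset.2 h) (by simp)]; simp
    · rw [ind_of_notMem h, hc, ← Finset.prod_mul_distrib, Finset.prod_eq_one]
      · simp
      · intro χ hχ
        rw [hv0 ψ h, zero_sub, inv_mul_cancel₀]
        intro h0
        exact hvunit χ (mem_bset.1 hχ) (by rw [neg_eq_zero.1 h0]; exact memIdeal_zero hM)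
  rw [key]
  exact sub_mem (one_mem _) (mul_mem (const_mem_Zloc hM hcm)
    (prod_mem fun χ _ => sub_mem hvZ (const_mem_Zloc hM (Zloc_apply_mem hM hvZ χ))))

theorem memRing_blockCoeff (hM : IsPModular p M) {B : Set (IrrCharacter G)} (hB : IsPBlock M B)
    (g : G) : MemLocalRing M (blockCoeff B g) := by
  rw [← cf_ind]; exact ind_mem_Zloc hM hB g

/-- Every ring homomorphism on `Z(OG)` that reduces constants is a central character mod `M`. -/
theorem exists_irr_of_hom (hM : IsPModular p M) (lam : Zloc G hM →+* AlgInt ⧸ M)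
    (hconst : ∀ (c : ℂ) (hc : MemLocalRing M c),
      lam ⟨fun _ => c, const_mem_Zloc hM hc⟩ = res hM c) :
    ∃ χ : IrrCharacter G, ∀ v : Zloc G hM, lam v = res hM ((v : IrrCharacter G → ℂ) χ) := by
  classical
  haveI := res_isDomain hM
  by_contra h
  push Not at h
  choose f hf using h
  set P : Zloc G hM := ∏ χ : IrrCharacter G,
    (f χ - ⟨fun _ => (f χ : IrrCharacter G → ℂ) χ,
      const_mem_Zloc hM (Zloc_apply_mem hM (f χ).2 χ)⟩) with hP
  have hP0 : P = 0 := by
    apply Subtype.ext
    funext ψ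
    rw [hP]
    push_cast
    rw [Finset.prod_apply]
    exact Finset.prod_eq_zero (Finset.mem_univ ψ) (by simp)
  have h1 : lam P ≠ 0 := by
    rw [hP, map_prod, Finset.prod_ne_zero_iff]
    intro χ _
    rw [map_sub, hconst _ (Zloc_apply_mem hM (f χ).2 χ)]
    exact sub_ne_zero.2 (hf χ)
  exact h1 (by rw [hP0, map_zero])

variable (G) in
/-- Elements of `Z(OG)` with all coefficients in the local ideal. -/
noncomputable def Jloc (hM : IsPModular p M) : Ideal (Zloc G hM) where
  carrier := {v | ∀ g : G, MemLocalIdeal M (cf (v : IrrCharacter G → ℂ) g)}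
  zero_mem' := fun g => by simpa [cf] using memIdeal_zero hM
  add_mem' := fun {v w} hv hw g => by
    push_cast; rw [cf_add]; exact memIdeal_add hM (hv g) (hw g)
  smul_mem' := fun c v hv g => by
    simp only [smul_eq_mul]
    push_cast
    rw [cf_mul]
    exact memIdeal_sum hM fun x _ => memIdeal_mul_left hM (c.2 x) (hv _)

/-- An idempotent of `Z(OG)` killed by every central character mod `M` vanishes mod `M`;
more generally such an element is nilpotent mod `M`. -/
theorem pow_mem_Jloc (hM : IsPModular p M) (v : Zloc G hM)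
    (h : ∀ χ, MemLocalIdeal M ((v : IrrCharacter G → ℂ) χ)) :
    v ^ Fintype.card (IrrCharacter G) ∈ Jloc G hM := by
  classical
  rw [← Ideal.Quotient.eq_zero_iff_mem, map_pow]
  have hP0 : ∏ χ : IrrCharacter G, (v - ⟨fun _ => (v : IrrCharacter G → ℂ) χ,
      const_mem_Zloc hM (Zloc_apply_mem hM v.2 χ)⟩) = 0 := by
    apply Subtype.ext
    funext ψ
    push_cast
    rw [Finset.prod_apply]
    exact Finset.prod_eq_zero (Finset.mem_univ ψ) (by simp)
  have h2 := congrArg (Ideal.Quotient.mk (Jloc G hM)) hP0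
  rw [map_prod, map_zero, Finset.prod_congr rfl (g := fun _ => Ideal.Quotient.mk (Jloc G hM) v)] at h2
  · simpa [Finset.prod_const] using h2
  · intro χ _
    rw [map_sub, sub_eq_self, Ideal.Quotient.eq_zero_iff_mem]
    intro g
    dsimp only
    rw [cf_const]
    split_ifs
    · exact h χ
    · exact memIdeal_zero hM

end loc

/-- Matrix of left multiplication by `∑ g, f g • g` on the group algebra. -/
def Lmat (f : G → ℂ) : Matrix G G ℂ := Matrix.of fun a b => f (a * b⁻¹)

theorem Lmat_mul (f h : G → ℂ) : Lmat f * Lmat h = Lmat (conv f h) := by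
  ext a b
  simp only [Matrix.mul_apply, Lmat, Matrix.of_apply, conv]
  refine Fintype.sum_equiv ((Equiv.inv G).trans (Equiv.mulLeft a)) _ _ fun c => ?_
  simp [mul_assoc]

theorem Lmat_injective : Function.Injective (Lmat (G := G)) := fun f h e => by
  funext g
  simpa [Lmat] using congrFun (congrFun e g) 1

theorem conv_assoc (f g h : G → ℂ) : conv (conv f g) h = conv f (conv g h) :=
  Lmat_injective (by simp only [← Lmat_mul, Matrix.mul_assoc])

end CfsgLib.Blocks
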