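import Cfsg.Agent.Lib.Blocks.AbelianFree
import Cfsg.Agent.Lib.Blocks.Central
import Cfsg.Agent.Lib.CharTheory.Linear
import Cfsg.Agent.Lib.CharTheory.Schur

/-!
# Abelian Sylow subgroups with a fixed point free normaliser: automisers of order three
-/

namespace CfsgLib.Blocks.AbelianFree

open Cfsg CfsgLib.CharTheory
open scoped ComplexConjugate

set_option linter.unusedVariables false
set_option linter.style.haveILetI false
set_option linter.unusedSectionVars false

universe u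

variable {G : Type u} [Group G] [Fintype G] {p : ℕ} {P : Sylow p G} {m : ℕ} {M : Ideal AlgInt}
  [Fintype (P : Subgroup G)] [Fintype (Subgroup.normalizer ((P : Subgroup G) : Set G))]

/-- The value of a character at an involution is an integer. -/
theorem involution_value {χ : G → ℂ} (hχ : IsCharacter G χ) {t : G} (ht : t * t = 1) :
    ∃ z : ℤ, χ t = (z : ℂ) := by
  obtain ⟨n, ρ, rfl⟩ := hχ
  set e : (Fin n → ℂ) →ₗ[ℂ] (Fin n → ℂ) := (2 : ℂ)⁻¹ • (1 + ρ t) with he
  have hidem : IsIdempotentElem e := by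
    have h1 : ρ t * ρ t = 1 := by rw [← map_mul, ht, map_one]
    show e * e = e
    rw [he, smul_mul_smul_comm, show (1 + ρ t) * (1 + ρ t) = (2 : ℂ) • (1 + ρ t) by
      rw [mul_add, add_mul, add_mul, h1, one_mul, one_mul, mul_one, two_smul]; abel, smul_smul]
    norm_num
  have h1 := (LinearMap.IsIdempotentElem.isProj_range e hidem).trace
  rw [he, map_smul, map_add, LinearMap.trace_one, Module.finrank_fin_fun, smul_eq_mul] at h1
  refine ⟨2 * (Module.finrank ℂ (LinearMap.range e) : ℤ) - n, ?_⟩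
  show LinearMap.trace ℂ _ (ρ t) = _
  rw [he]
  push_cast
  linear_combination 2 * h1

/-- Conjugation orbits as averages. -/
theorem Free.avg_eq_sum (h : Free P m) {ν : IrrCharacter (P : Subgroup G)}
    (hν : ν ≠ oneP (P : Subgroup G)) (w : (P : Subgroup G))
    [DecidablePred fun ν' => Rel P ν' ν] :
    avg P ν w =
      ∑ ν' ∈ Finset.univ.filter (fun ν' => Rel P ν' ν), (ν' : ↥(P : Subgroup G) → ℂ) w := by
  classical
  have e : ∑ n : Subgroup.normalizer ((P : Subgroup G) : Set G),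
      (nConj n.2 ν : ↥(P : Subgroup G) → ℂ) w =
      ∑ ν' : IrrCharacter (P : Subgroup G), (cnt P ν' ν : ℂ) * (ν' : ↥(P : Subgroup G) → ℂ) w := by
    rw [← Finset.sum_fiberwise Finset.univ
      (fun n : Subgroup.normalizer ((P : Subgroup G) : Set G) => nConj n.2 ν)
      (fun n => (nConj n.2 ν : ↥(P : Subgroup G) → ℂ) w)]
    refine Finset.sum_congr rfl fun ν' _ => ?_
    rw [Finset.sum_congr rfl fun n hn => by rw [(Finset.mem_filter.1 hn).2], Finset.sum_const,
      nsmul_eq_mul, cnt, Nat.card_eq_fintype_card, Fintype.card_subtype]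
  rw [avg, e, Finset.mul_sum, Finset.sum_filter]
  refine Finset.sum_congr rfl fun ν' _ => ?_
  rw [h.cnt_eq hν]
  split_ifs
  · rw [inv_mul_cancel_left₀ (Nat.cast_ne_zero.2 Nat.card_pos.ne')]
  · rw [Nat.cast_zero, zero_mul, mul_zero]

theorem avg_conjugate (ν : IrrCharacter (P : Subgroup G)) {n : G}
    (hn : n ∈ Subgroup.normalizer ((P : Subgroup G) : Set G)) {w w' : (P : Subgroup G)}
    (e : (w' : G) = n * w * n⁻¹) : avg P ν w' = avg P ν w :=
  avg_stable ν n hn w w' e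

theorem avg_inv (ν : IrrCharacter (P : Subgroup G)) (w : (P : Subgroup G)) :
    conj (avg P ν w) = avg P ν w⁻¹ := by
  simp only [avg, map_mul, map_inv₀, map_natCast, map_sum, irr_conjInv]

theorem Free.avg_apply_one (h : Free P m) (ν : IrrCharacter (P : Subgroup G)) :
    avg P ν 1 = m := by
  simp only [avg, h.irr_one, Finset.sum_const, Finset.card_univ, ← Nat.card_eq_fintype_card,
    nsmul_eq_mul, mul_one, h.card_cast]

/-- The sum of all orbit sums away from the identity. -/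
theorem Free.sum_avg (h : Free P m) [DecidableEq (IrrCharacter (P : Subgroup G))]
    {w : (P : Subgroup G)} (hw : w ≠ 1) :
    ∑ ν ∈ Finset.univ.erase (oneP (P : Subgroup G)), avg P ν w = -(m : ℂ) := by
  classical
  have e : ∀ n : Subgroup.normalizer ((P : Subgroup G) : Set G),
      ∑ ν ∈ Finset.univ.erase (oneP (P : Subgroup G)),
        (nConj n.2 ν : ↥(P : Subgroup G) → ℂ) w = -1 := by
    intro n
    have hne : (⟨(n : G) * w * (n : G)⁻¹, (Subgroup.mem_normalizer_iff.1 n.2 _).1 w.2⟩ :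
        (P : Subgroup G)) ≠ 1 := fun e => hw (Subtype.ext (conj_eq_one_iff.1
          (congrArg Subtype.val e)))
    have h1 := h.sum_irr hne
    rw [← Finset.add_sum_erase _ _ (Finset.mem_univ (oneP (P : Subgroup G))),
      show (oneP (P : Subgroup G) : ↥(P : Subgroup G) → ℂ) _ = 1 from rfl] at h1
    exact eq_neg_of_add_eq_zero_right h1
  simp only [avg]
  rw [← Finset.mul_sum, Finset.sum_comm, Finset.sum_congr rfl fun n _ => e n, Finset.sum_const,
    Finset.card_univ, ← Nat.card_eq_fintype_card, nsmul_eq_mul, ← mul_assoc, h.card_cast, mul_neg,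
    mul_one]

/-- The product of two orbit sums. -/
theorem Free.avg_mul (h : Free P m) (ν : IrrCharacter (P : Subgroup G)) (w u : (P : Subgroup G)) :
    avg P ν w * avg P ν u = (Nat.card (Subgroup.centralizer ((P : Subgroup G) : Set G)) : ℂ)⁻¹ *
      ∑ n : Subgroup.normalizer ((P : Subgroup G) : Set G),
        avg P ν (⟨(n : G) * w * (n : G)⁻¹, (Subgroup.mem_normalizer_iff.1 n.2 _).1 w.2⟩ * u) := by
  obtain ⟨f, hf⟩ := exists_hom_of_degree_one (isCharacter_of_irr ν.2) (h.irr_one ν)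
  have key : ∑ n : Subgroup.normalizer ((P : Subgroup G) : Set G),
      ∑ k : Subgroup.normalizer ((P : Subgroup G) : Set G),
        (nConj n.2 ν : ↥(P : Subgroup G) → ℂ) w * (nConj k.2 ν : ↥(P : Subgroup G) → ℂ) u =
      ∑ n : Subgroup.normalizer ((P : Subgroup G) : Set G),
      ∑ k : Subgroup.normalizer ((P : Subgroup G) : Set G),
        (nConj k.2 ν : ↥(P : Subgroup G) → ℂ)
          (⟨(n : G) * w * (n : G)⁻¹, (Subgroup.mem_normalizer_iff.1 n.2 _).1 w.2⟩ * u) := by
    rw [Finset.sum_comm]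
    conv_rhs => rw [Finset.sum_comm]
    refine Finset.sum_congr rfl fun k _ => ?_
    refine (Fintype.sum_equiv (Equiv.mulLeft k) _ _ fun n => ?_).symm
    show (ν : ↥(P : Subgroup G) → ℂ) ⟨(k : G) * _ * (k : G)⁻¹, _⟩ =
      (ν : ↥(P : Subgroup G) → ℂ) ⟨((k : G) * n) * w * ((k : G) * n)⁻¹, _⟩ *
        (ν : ↥(P : Subgroup G) → ℂ) ⟨(k : G) * u * (k : G)⁻¹, _⟩
    rw [hf]
    show ((f _ : ℂˣ) : ℂ) = ((f _ : ℂˣ) : ℂ) * ((f _ : ℂˣ) : ℂ)
    rw [← Units.val_mul, ← map_mul]
    refine congrArg (fun z => ((f z : ℂˣ) : ℂ)) (Subtype.ext ?_)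
    show (k : G) * ((n : G) * w * (n : G)⁻¹ * u) * (k : G)⁻¹ =
      (k : G) * n * w * ((k : G) * n)⁻¹ * ((k : G) * u * (k : G)⁻¹)
    group
  simp only [avg]
  rw [mul_mul_mul_comm, Finset.sum_mul_sum, key, mul_assoc, ← Finset.mul_sum]

/-- With an odd automiser no element of `P` other than an involution is real. -/
theorem Free.real_trivial (h : Free P m) (hm : Odd m) {y : (P : Subgroup G)}
    (hr : IsConj (y : G) ((y : G)⁻¹)) : y * y = 1 := by
  classical
  by_contra hne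
  have hy1 : (y : G) ≠ 1 := fun e => hne (by rw [show y = 1 from Subtype.ext e, mul_one])
  obtain ⟨g, hg⟩ := isConj_iff.1 hr
  have hclosed : ∀ w : {w : (P : Subgroup G) // IsConj (y : G) w},
      IsConj (y : G) ((w : (P : Subgroup G))⁻¹ : (P : Subgroup G)) := fun w => by
    obtain ⟨c, hc⟩ := isConj_iff.1 w.2
    refine hr.trans (isConj_iff.2 ⟨c, ?_⟩)
    rw [← conj_inv, hc, Subgroup.coe_inv]
  let σ : Equiv.Perm {w : (P : Subgroup G) // IsConj (y : G) w} :=
    Function.Involutive.toPerm (fun w => ⟨(w : (P : Subgroup G))⁻¹, hclosed w⟩)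
      fun w => Subtype.ext (inv_inv _)
  haveI : Fact (Nat.Prime 2) := ⟨Nat.prime_two⟩
  obtain ⟨w, hw⟩ := Equiv.Perm.exists_fixed_point_of_prime (p := 2) (n := 1) (σ := σ)
    (by rw [← Nat.card_eq_fintype_card, h.fibre_card hy1]; exact hm.not_two_dvd_nat)
    (Equiv.ext fun w => by
      rw [pow_one, sq, Equiv.Perm.mul_apply]
      exact Subtype.ext (inv_inv _))
  have hw' : ((w : (P : Subgroup G)))⁻¹ = (w : (P : Subgroup G)) := congrArg Subtype.val hw
  obtain ⟨c, hc⟩ := isConj_iff.1 w.2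
  refine hne (Subtype.ext ?_)
  have h1 : ((w : (P : Subgroup G)) : G) * (w : (P : Subgroup G)) = 1 := by
    conv_lhs => arg 1; rw [← hw']
    rw [Subgroup.coe_inv, inv_mul_cancel]
  rw [← hc, conj_mul, conj_eq_one_iff] at h1
  exact h1

/-- Elements of `P` are commutators. -/
theorem Free.linear_trivial_on (h : Free P m) (hm1 : 1 < m) (f : G →* ℂˣ) {x : G}
    (hx : x ∈ (P : Subgroup G)) : f x = 1 := by
  obtain ⟨n, hn, hnC⟩ : ∃ n ∈ Subgroup.normalizer ((P : Subgroup G) : Set G),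
      n ∉ Subgroup.centralizer ((P : Subgroup G) : Set G) := by
    by_contra hno
    push Not at hno
    have := Subgroup.relIndex_eq_one.2 hno
    rw [h.rel] at this
    omega
  have hnx : ∀ x : (P : Subgroup G), n * (x : G) * n⁻¹ ∈ (P : Subgroup G) :=
    fun x => (Subgroup.mem_normalizer_iff.1 hn x).1 x.2
  let d : ↥(P : Subgroup G) → ↥(P : Subgroup G) := fun x =>
    ⟨n * (x : G) * n⁻¹ * (x : G)⁻¹, (P : Subgroup G).mul_mem (hnx x) (Subgroup.inv_mem _ x.2)⟩
  have hd : Function.Surjective d := Finite.injective_iff_surjective.1 fun a b e => by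
    have e' : n * (a : G) * n⁻¹ * (a : G)⁻¹ = n * (b : G) * n⁻¹ * (b : G)⁻¹ :=
      congrArg Subtype.val e
    by_contra hab
    have hz : ((b : G)⁻¹ * a) ≠ 1 := fun hz => hab (Subtype.ext (inv_mul_eq_one.1 hz).symm)
    refine hnC ((h.free _ (Subgroup.mul_mem _ (Subgroup.inv_mem _ b.2) a.2) hz).le
      ⟨Subgroup.mem_centralizer_singleton_iff.2 ?_, hn⟩)
    have hw : n * (a : G) * n⁻¹ = n * (b : G) * n⁻¹ * (b : G)⁻¹ * a := by
      rw [← e', inv_mul_cancel_right]
    refine mul_inv_eq_iff_eq_mul.1 ?_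
    calc n * ((b : G)⁻¹ * a) * n⁻¹ = (n * (b : G) * n⁻¹)⁻¹ * (n * (a : G) * n⁻¹) := by group
      _ = (b : G)⁻¹ * a := by rw [hw]; group
  obtain ⟨a, ha⟩ := hd ⟨x, hx⟩
  rw [← show n * (a : G) * n⁻¹ * (a : G)⁻¹ = x from congrArg Subtype.val ha]
  simp only [map_mul, map_inv]
  rw [mul_inv_cancel_comm, mul_inv_cancel]

variable {ζ : IrrCharacter (P : Subgroup G) → IrrCharacter G} {δ d : ℤ} {a : IrrCharacter G → ℤ}
  {X Y : Finset (IrrCharacter G)}

/-- Sums over the exceptional characters. -/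
theorem Shape.sum_Y (h : Free P m) (S : Shape M P m ζ δ d a X Y)
    [DecidableEq (IrrCharacter (P : Subgroup G))] (φ : IrrCharacter G → ℂ) :
    (m : ℂ) * ∑ η ∈ Y, φ η = ∑ ν ∈ Finset.univ.erase (oneP (P : Subgroup G)), φ (ζ ν) := by
  classical
  rw [← Finset.sum_fiberwise_of_maps_to (t := Y) (g := ζ)
    (fun ν hν => S.mem_ζ ν (Finset.ne_of_mem_erase hν)), Finset.mul_sum]
  refine Finset.sum_congr rfl fun η hη => ?_
  obtain ⟨μ, hμ, rfl⟩ := S.surj η hη
  rw [Finset.sum_congr rfl fun ν hν => by rw [(Finset.mem_filter.1 hν).2], Finset.sum_const,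
    nsmul_eq_mul]
  congr 2
  rw [← h.card_rel hμ]
  refine congrArg Finset.card ?_
  ext ν
  simp only [Finset.mem_filter, Finset.mem_univ, true_and, Finset.mem_erase, and_true, ne_eq]
  exact ⟨fun hr => ⟨rel_ne_one hr hμ, (S.ζ_rel _ _ (rel_ne_one hr hμ) hμ).2 hr⟩,
    fun hr => (S.ζ_rel _ _ hr.1 hμ).1 hr.2⟩

theorem Shape.valueY' (h : Free P m) (S : Shape M P m ζ δ d a X Y)
    {ν : IrrCharacter (P : Subgroup G)} (hν : ν ≠ oneP (P : Subgroup G)) {w : (P : Subgroup G)}
    (hw : w ≠ 1) : (ζ ν : G → ℂ) w = (d : ℂ) + (δ : ℂ) * avg P ν w := by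
  classical
  rw [S.valueY h hν hw, h.avg_eq_sum hν]

/-- For three-element automisers the exceptional values are pure orbit sums. -/
theorem Free.exists_shape_three (hM : IsPModular p M) (h : Free P 3)
    (hm2 : 3 + 1 < Nat.card P) :
    ∃ ζ δ a X Y, Shape M P 3 ζ δ 0 a X Y ∧ X.card = 3 ∧ ∀ χ ∈ X, a χ = 1 ∨ a χ = -1 := by
  classical
  obtain ⟨ζ, δ, d, a, X, Y, S⟩ := h.exists_shape hM (by norm_num) hm2
  have hsum1 : (1 : ℤ) ≤ ∑ χ ∈ X, a χ ^ 2 := by
    refine le_trans ?_ (Finset.single_le_sum (fun χ _ => sq_nonneg (a χ)) S.one.1)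
    rw [S.one.2]; norm_num
  have hsq := S.sq
  have htwo := S.two_le
  push_cast at hsq
  have hfin : ∀ (b : IrrCharacter G → ℤ), (∀ χ ∈ X, b χ ≠ 0) → ∑ χ ∈ X, b χ ^ 2 = 3 →
      b (oneIrr G) = 1 → X.card = 3 ∧ ∀ χ ∈ X, b χ = 1 ∨ b χ = -1 := by
    intro b hb hs h1
    have habs : ∀ χ ∈ X, b χ ^ 2 = 1 := by
      intro χ hχ
      rcases eq_or_ne χ (oneIrr G) with rfl | hne
      · rw [h1, one_pow]
      rw [← Finset.add_sum_erase _ _ S.one.1, h1] at hs
      have hle := Finset.single_le_sum (f := fun χ => b χ ^ 2) (fun χ _ => sq_nonneg (b χ))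
        (Finset.mem_erase.2 ⟨hne, hχ⟩ : χ ∈ X.erase (oneIrr G))
      have hpos := hb χ hχ
      have hub : b χ ≤ 1 := by nlinarith
      have hlb : -1 ≤ b χ := by nlinarith
      rcases (show b χ = 1 ∨ b χ = -1 by omega) with e | e <;> rw [e] <;> norm_num
    refine ⟨?_, fun χ hχ => sq_eq_one_iff.1 (habs χ hχ)⟩
    rw [Finset.sum_congr rfl habs, Finset.sum_const, nsmul_eq_mul, mul_one] at hs
    exact_mod_cast hs
  rcases eq_or_ne d 0 with hd | hd
  · subst hd
    have hs : ∑ χ ∈ X, a χ ^ 2 = 3 := by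
      rcases S.hδ with e | e <;> subst e <;> linarith
    exact ⟨ζ, δ, a, X, Y, S, hfin a S.ha hs S.one.2⟩
  -- the exceptional case
  have hY2 : (2 : ℤ) ≤ Y.card := by exact_mod_cast htwo
  have hdδ : d = δ := by
    have h1 : (d - δ) ^ 2 + ((Y.card : ℤ) - 1) * d ^ 2 ≤ 3 := by linarith
    have h2 : d ^ 2 ≤ ((Y.card : ℤ) - 1) * d ^ 2 := le_mul_of_one_le_left (sq_nonneg d) (by linarith)
    have hub : d ≤ 1 := by nlinarith [sq_nonneg (d - δ)]
    have hlb : -1 ≤ d := by nlinarith [sq_nonneg (d - δ)]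
    rcases S.hδ with e | e <;> rcases (show d = 1 ∨ d = -1 by omega) with e' | e' <;>
      subst e e' <;> norm_num at h1 ⊢ <;> omega
  subst hdδ
  have hd2 : d ^ 2 = 1 := by rcases S.hδ with e | e <;> rw [e] <;> norm_num
  rw [sub_self, hd2, mul_one] at hsq
  have hr4 : (Y.card : ℤ) ≤ 4 := by linarith
  have hcY := S.cardY
  have hp := h.prime
  haveI : Fact p.Prime := ⟨hp⟩
  obtain ⟨k, hk⟩ := P.2.exists_card_eq
  rcases (show Y.card = 2 ∨ Y.card = 3 ∨ Y.card = 4 by omega) with hr | hr | hr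
  · -- two exceptional characters: exchange them
    rw [hr] at hsq
    have hs : ∑ χ ∈ X, a χ ^ 2 = 3 := by push_cast at hsq; linarith
    have hother : ∀ ν, ν ≠ oneP (P : Subgroup G) →
        ∃ μ, μ ≠ oneP (P : Subgroup G) ∧ ¬ Rel P μ ν := by
      intro ν hν
      obtain ⟨η, hη, hne⟩ := Finset.exists_mem_ne (s := Y) (by omega) (ζ ν)
      obtain ⟨μ, hμ, rfl⟩ := S.surj η hη
      exact ⟨μ, hμ, fun hr => hne ((S.ζ_rel μ ν hμ hν).2 hr)⟩
    let f : IrrCharacter (P : Subgroup G) → IrrCharacter (P : Subgroup G) := fun ν =>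
      if hν : ν ≠ oneP (P : Subgroup G) then (hother ν hν).choose else ν
    have hf : ∀ ν, ν ≠ oneP (P : Subgroup G) →
        f ν ≠ oneP (P : Subgroup G) ∧ ¬ Rel P (f ν) ν := fun ν hν => by
      rw [show f ν = (hother ν hν).choose from dif_pos hν]
      exact (hother ν hν).choose_spec
    have htwo' : ∀ α β γ, α ≠ oneP (P : Subgroup G) → β ≠ oneP (P : Subgroup G) →
        γ ≠ oneP (P : Subgroup G) → ¬ Rel P α γ → ¬ Rel P β γ → Rel P α β := by
      intro α β γ hα hβ hγ h1 h2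
      refine (S.ζ_rel α β hα hβ).1 ?_
      by_contra hne
      have h3 : ({ζ α, ζ β, ζ γ} : Finset (IrrCharacter G)).card = 3 :=
        Finset.card_eq_three.2 ⟨_, _, _, hne, fun e => h1 ((S.ζ_rel α γ hα hγ).1 e),
          fun e => h2 ((S.ζ_rel β γ hβ hγ).1 e), rfl⟩
      have h4 := Finset.card_le_card (show ({ζ α, ζ β, ζ γ} : Finset (IrrCharacter G)) ⊆ Y from
        fun x hx => by
          rcases Finset.mem_insert.1 hx with rfl | hx
          · exact S.mem_ζ α hα
          rcases Finset.mem_insert.1 hx with rfl | hx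
          · exact S.mem_ζ β hβ
          exact (Finset.mem_singleton.1 hx) ▸ S.mem_ζ γ hγ)
      omega
    have hflip : ∀ ν ν', ν ≠ oneP (P : Subgroup G) → ν' ≠ oneP (P : Subgroup G) →
        (Rel P ν' ν ↔ ¬ Rel P ν' (f ν)) := fun ν ν' hν hν' => by
      refine ⟨fun hr hr' => (hf ν hν).2 (rel_trans (rel_symm hr') hr), fun hr => ?_⟩
      exact htwo' ν' ν (f ν) hν' hν (hf ν hν).1 hr fun q => (hf ν hν).2 (rel_symm q)
    refine ⟨fun ν => ζ (f ν), -d, a, X, Y,
      { union := S.union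
        disj := S.disj
        cardY := S.cardY
        two_le := S.two_le
        hδ := by rcases S.hδ with e | e <;> rw [e] <;> norm_num
        mem_ζ := fun ν hν => S.mem_ζ _ (hf ν hν).1
        surj := fun η hη => ?_
        ζ_rel := fun ν ν' hν hν' => ?_
        one := S.one
        ha := S.ha
        nzX := S.nzX
        nzY := fun ν ν' hν hν' => ?_
        sq := ?_ }, hfin a S.ha hs S.one.2⟩
    · obtain ⟨μ, hμ, rfl⟩ := S.surj η hη
      refine ⟨f μ, (hf μ hμ).1, (S.ζ_rel _ _ (hf _ (hf μ hμ).1).1 hμ).2 ?_⟩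
      exact htwo' _ _ (f μ) (hf _ (hf μ hμ).1).1 hμ (hf μ hμ).1 (hf _ (hf μ hμ).1).2
        fun q => (hf μ hμ).2 (rel_symm q)
    · rw [S.ζ_rel _ _ (hf ν hν).1 (hf ν' hν').1]
      refine ⟨fun hr => ?_, fun hr => ?_⟩
      · exact htwo' ν ν' (f ν) hν hν' (hf ν hν).1 (fun q => (hf ν hν).2 (rel_symm q))
          fun q => (hf ν' hν').2 (rel_symm (rel_trans q hr))
      · exact htwo' _ _ ν' (hf ν hν).1 (hf ν' hν').1 hν'
          (fun q => (hf ν hν).2 (rel_trans q (rel_symm hr))) (hf ν' hν').2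
    · refine ⟨fun hr => ?_, fun hr => ?_⟩
      · rw [(S.nzY (f ν) ν' (hf ν hν).1 hν').2 ((hflip ν ν' hν hν').1 hr)]; ring
      · rw [(S.nzY (f ν) ν' (hf ν hν).1 hν').1 (not_not.1 fun q => hr ((hflip ν ν' hν hν').2 q))]
        ring
    · rw [hs, hr]
      push_cast
      linear_combination hd2
  · -- ten is not a prime power
    exfalso
    rw [hr] at hcY
    have h10 : p ^ k = 10 := by omega
    have d2 : 2 ∣ p ^ k := by rw [h10]; norm_num
    have d5 : 5 ∣ p ^ k := by rw [h10]; norm_num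
    have := (Nat.prime_dvd_prime_iff_eq Nat.prime_two hp).1 (Nat.prime_two.dvd_of_dvd_pow d2)
    have := (Nat.prime_dvd_prime_iff_eq (by norm_num) hp).1
      ((by norm_num : Nat.Prime 5).dvd_of_dvd_pow d5)
    omega
  · -- thirteen: only the trivial character remains
    exfalso
    have hX1 : X = {oneIrr G} := by
      refine Finset.eq_singleton_iff_unique_mem.2 ⟨S.one.1, fun χ hχ => ?_⟩
      by_contra hne
      rw [hr, ← Finset.add_sum_erase _ _ S.one.1, S.one.2] at hsq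
      have h4 := Finset.single_le_sum (f := fun χ => a χ ^ 2) (fun χ _ => sq_nonneg (a χ))
        (Finset.mem_erase.2 ⟨hne, hχ⟩ : χ ∈ X.erase (oneIrr G))
      have h5 : 0 < a χ ^ 2 := by have := S.ha χ hχ; positivity
      push_cast at hsq
      linarith
    obtain ⟨η, hη⟩ := Finset.card_pos.1 (show 0 < Y.card by omega)
    have h1 := S.relation hM h hη (g := 1) (by simp [hp.ne_one])
    rw [hX1, Finset.sum_singleton, S.one.2, ← irr_charDegree_cast η, hr,
      show ((oneIrr G : IrrCharacter G) : G → ℂ) 1 = 1 from rfl] at h1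
    have h2 : ((4 : ℤ) * d - d) * (charDegree (η : G → ℂ) : ℤ) + 1 = 0 := by
      have h3 : ((((4 : ℤ) * d - d) * (charDegree (η : G → ℂ) : ℤ) + 1 : ℤ) : ℂ) = ((0 : ℤ) : ℂ) := by
        push_cast
        push_cast at h1
        linear_combination h1
      exact_mod_cast h3
    have h3 : (3 : ℤ) ∣ 1 := ⟨-(d * (charDegree (η : G → ℂ) : ℤ)), by linarith⟩
    norm_num at h3

end CfsgLib.Blocks.AbelianFree
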