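import Cfsg.Agent.Lib.Blocks.InducedChar
import Cfsg.Agent.Lib.Basic
import Cfsg.Agent.S0920
import Cfsg.Agent.S0912

/-!
# Blocks of full defect
-/

namespace CfsgLib.Blocks.FullDefect

open Cfsg CfsgLib.CharTheory CfsgLib.Blocks CfsgLib.Blocks.InducedChar
open scoped ComplexConjugate

set_option linter.unusedVariables false
set_option linter.style.haveILetI false
set_option linter.unusedSectionVars false

universe u

variable {p : ℕ} {M : Ideal AlgInt} {N : Type u} [Group N] [Fintype N]

/-- A class function supported on a normal subgroup of order prime to `p` with all central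
character values in the ideal vanishes modulo the ideal. -/
theorem res_zero_of_omega (hM : IsPModular p M) (O : Subgroup N) [O.Normal] [Fintype O]
    (hO : ¬ p ∣ Nat.card O) {f : N → ℂ} (hcl : IsClassFunction N f) (hf : ∀ x, MemLocalRing M (f x))
    (hsupp : ∀ x ∉ O, f x = 0) (h : ∀ χ : IrrCharacter N, MemLocalIdeal M (omega (χ : N → ℂ) f))
    (x : N) : MemLocalIdeal M (f x) := by
  classical
  by_cases hx : x ∈ O
  swap
  · rw [hsupp x hx]; exact memIdeal_zero hM
  have hclO : IsClassFunction O (fun k : O => f k) := fun a b => hcl (a : N) (b : N)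
  have h1 : f x = cf (fun θ : IrrCharacter O => omega (θ : O → ℂ) (fun k : O => f k)) ⟨x, hx⟩ := by
    rw [cf_omega hclO]
  rw [h1, cf]
  refine memIdeal_mul_left hM (natCast_inv_mem hM hO) (memIdeal_sum hM fun θ _ => ?_)
  obtain ⟨χ, hχ⟩ := exists_over (G := N) θ
  have h2 := h χ
  rw [omega_eq_of_constituent hχ hcl hsupp] at h2
  convert memIdeal_mul_left hM ((loc hM).mul_mem (memRing_irr hM θ 1)
    (show MemLocalRing M (conj ((θ : O → ℂ) ⟨x, hx⟩)) by rw [irr_conjInv]; exact memRing_irr hM θ _)) h2
    using 1
  ring

/-- Regular elements centralizing a Sylow `p`-subgroup of a group in which it is normal. -/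
theorem regular_centralizing_iff [Fact p.Prime] (P : Sylow p N) [(P : Subgroup N).Normal] (n : N) :
    (¬ p ∣ orderOf n ∧ n ∈ Subgroup.centralizer ((P : Subgroup N) : Set N)) ↔
      n ∈ pPrimeCore p N := by
  classical
  have hp := (Fact.out : p.Prime)
  constructor
  · rintro ⟨hn, hnC⟩
    set C := Subgroup.centralizer ((P : Subgroup N) : Set N)
    haveI hCn : C.Normal := Subgroup.normal_centralizer
    obtain ⟨S⟩ := (inferInstance : Nonempty (Sylow p C))
    have hSP : (S : Subgroup C).map C.subtype ≤ P := by
      obtain ⟨T, hT⟩ := (S.2.map C.subtype).exists_le_sylow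
      obtain ⟨g, hg⟩ := MulAction.exists_smul_eq N T P
      haveI := Sylow.unique_of_normal P ‹_›
      exact hT.trans (le_of_eq (congrArg _ (Subsingleton.elim T P)))
    have hle : Subgroup.normalizer ((S : Subgroup C) : Set C) ≤
        Subgroup.centralizer ((S : Subgroup C) : Set C) := fun c _ =>
      Subgroup.mem_centralizer_iff.2 fun s hs => Subtype.ext
        (Subgroup.mem_centralizer_iff.1 c.2 _ (hSP ⟨s, hs, rfl⟩))
    set K := (MonoidHom.transferSylow S hle).ker
    have hc : Subgroup.IsComplement' K (S : Subgroup C) :=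
      MonoidHom.ker_transferSylow_isComplement' S hle
    have hKidx : K.index = Nat.card S := hc.symm.index_eq_card
    have hmem : ∀ c : C, ¬ p ∣ orderOf c → c ∈ K := by
      intro c hc'
      rw [← QuotientGroup.eq_one_iff, ← orderOf_eq_one_iff]
      obtain ⟨k, hk⟩ := S.2.exists_card_eq
      have h1 : orderOf (c : C ⧸ K) ∣ p ^ k := by
        rw [← hk, ← hKidx, Subgroup.index]; exact orderOf_dvd_natCard _
      exact Nat.eq_one_of_dvd_coprimes ((hp.coprime_iff_not_dvd.2 hc').pow_left k) h1
        (orderOf_map_dvd (QuotientGroup.mk' K) c)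
    have hKp : ¬ p ∣ Nat.card K := by
      rw [← hc.index_eq_card]; exact S.not_dvd_index
    have hreg : ∀ c : C, c ∈ K → ¬ p ∣ orderOf (c : N) := fun c hc' h => hKp (h.trans (by
      rw [Subgroup.orderOf_coe, ← Subgroup.orderOf_mk c hc']; exact orderOf_dvd_natCard _))
    haveI : (K.map C.subtype).Normal := ⟨by
      rintro _ ⟨c, hc', rfl⟩ g
      refine ⟨⟨g * (c : N) * g⁻¹, hCn.conj_mem _ c.2 g⟩, hmem _ ?_, rfl⟩
      rw [Subgroup.orderOf_mk, conj_orderOf]
      exact hreg c hc'⟩
    refine le_pPrimeCore (N := K.map C.subtype) ?_ ⟨⟨n, hnC⟩, hmem _ (by rwa [Subgroup.orderOf_mk]), rfl⟩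
    rw [Subgroup.card_map_of_injective (Subgroup.subtype_injective _), Nat.coprime_comm,
      hp.coprime_iff_not_dvd]
    exact hKp
  · intro hn
    have hnd := not_dvd_card_pPrimeCore (G := N) hp
    refine ⟨fun h => hnd (h.trans (Subgroup.orderOf_dvd_natCard _ hn)),
      Subgroup.mem_centralizer_iff.2 fun u hu => ?_⟩
    haveI : (pPrimeCore p N).Normal := inferInstance
    have hdisj : Disjoint (P : Subgroup N) (pPrimeCore p N) := by
      obtain ⟨a, ha⟩ := P.2.exists_card_eq
      refine disjoint_iff.2 (Subgroup.inf_eq_bot_of_coprime ?_)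
      rw [ha]
      exact (hp.coprime_iff_not_dvd.2 hnd).pow_left a
    exact Subgroup.commute_of_normal_of_disjoint _ _ ‹_› ‹_› hdisj u n hu hn

/-- Blocks of a group with normal Sylow `p`-subgroup are counted by the regular classes centralizing
it. -/
theorem card_blocks_normal_sylow (hM : IsPModular p M) [Fact p.Prime] (P : Sylow p N)
    [(P : Subgroup N).Normal] :
    Nat.card {B : Set (IrrCharacter N) // IsPBlock M B} =
      Nat.card {C : ConjClasses N // ∀ n : N, ConjClasses.mk n = C →
        ¬ p ∣ orderOf n ∧ n ∈ Subgroup.centralizer ((P : Subgroup N) : Set N)} := by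
  classical
  have hp := (Fact.out : p.Prime)
  haveI := res_isDomain hM
  have hPle : (P : Subgroup N) ≤ pCore p N := le_pCore P.2
  have hdef : ∀ B : Set (IrrCharacter N), IsPBlock M B →
      (Nat.card N).factorization p ≤ blockDefect p B := by
    intro B hB
    obtain ⟨D, hD⟩ := exists_defectGroup hM hB
    have h1 := Subgroup.card_le_of_le (hPle.trans (Cfsg.Agent.S0912.result p M hM B hB D hD))
    rw [card_defectGroup hM hB hD, Sylow.card_eq_multiplicity P] at h1
    exact (Nat.pow_le_pow_iff_right hp.one_lt).1 h1
  refine le_antisymm ?_ ?_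
  · refine le_trans (le_of_eq (Nat.card_congr (Equiv.subtypeEquivRight fun B =>
      (and_iff_left_of_imp (hdef B)).symm))) ((card_blocks_le_classes hM _).trans ?_)
    refine Nat.card_le_card_of_injective (fun C => ⟨C.1, fun n hn => ?_⟩)
      fun a b h => Subtype.ext (congrArg Subtype.val h :)
    obtain ⟨g, hg, hreg, hd⟩ := C.2
    have hconj : IsConj g n := ConjClasses.mk_eq_mk_iff_isConj.1 (hg.trans hn.symm)
    obtain ⟨x, rfl⟩ := isConj_iff.1 hconj
    refine ⟨by rw [conj_orderOf]; exact hreg, ?_⟩
    haveI := Subgroup.normal_centralizer (H := (P : Subgroup N))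
    refine Subgroup.Normal.conj_mem inferInstance g (Subgroup.mem_centralizer_iff.2 fun u hu => ?_) x
    obtain ⟨S⟩ := (inferInstance : Nonempty (Sylow p (Subgroup.centralizer ({g} : Set N))))
    have hS : (S : Subgroup _).map (Subgroup.centralizer ({g} : Set N)).subtype = (P : Subgroup N) := by
      obtain ⟨T, hT⟩ := (S.2.map (Subgroup.centralizer ({g} : Set N)).subtype).exists_le_sylow
      haveI := Sylow.unique_of_normal P ‹_›
      rw [Subsingleton.elim T P] at hT
      refine Subgroup.eq_of_le_of_card_ge hT ?_
      rw [Subgroup.card_map_of_injective (Subgroup.subtype_injective _),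
        Sylow.card_eq_multiplicity S, Sylow.card_eq_multiplicity P]
      exact Nat.pow_le_pow_right hp.pos hd
    rw [← hS] at hu
    obtain ⟨w, -, rfl⟩ := hu
    exact Subgroup.mem_centralizer_singleton_iff.1 w.2
  · haveI := Fintype.ofFinite {B : Set (IrrCharacter N) // IsPBlock M B}
    haveI := Fintype.ofFinite (ConjClasses N)
    letI := ((Ideal.Quotient.maximal_ideal_iff_isField_quotient M).1 hM.2.1).toField
    set O := pPrimeCore p N
    haveI : O.Normal := inferInstanceAs (pPrimeCore p N).Normal
    haveI := Fintype.ofFinite O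
    set good : ConjClasses N → Prop := fun C => ∀ n : N, ConjClasses.mk n = C →
        ¬ p ∣ orderOf n ∧ n ∈ Subgroup.centralizer ((P : Subgroup N) : Set N)
    let ψ : {B : Set (IrrCharacter N) // IsPBlock M B} → IrrCharacter N :=
      fun B => (block_nonempty hM B.2).choose
    have hψ : ∀ B, ψ B ∈ B.1 := fun B => (block_nonempty hM B.2).choose_spec
    let L : ({C : ConjClasses N // good C} → AlgInt ⧸ M) →ₗ[AlgInt ⧸ M] ({B : Set (IrrCharacter N) // IsPBlock M B} → AlgInt ⧸ M) :=
      { toFun := fun c B => ∑ C, c C * res hM (clv (crep C.1) (ψ B))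
        map_add' := fun a b => funext fun B => by simp [add_mul, Finset.sum_add_distrib]
        map_smul' := fun r a => funext fun B => by
          simp only [Pi.smul_apply, RingHom.id_apply, smul_eq_mul, Finset.mul_sum, mul_assoc] }
    have hL : Function.Injective L := by
      rw [injective_iff_map_eq_zero]
      intro c hc
      have lift : ∀ C, ∃ a : AlgInt, Ideal.Quotient.mk M a = c C :=
        fun C => Ideal.Quotient.mk_surjective (c C)
      choose a ha using lift
      set f : N → ℂ := fun n => if h : good (ConjClasses.mk n) then (a ⟨_, h⟩ : ℂ) else 0 with hf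
      have hcl : IsClassFunction N f := fun x y => by
        have e : ConjClasses.mk (y * x * y⁻¹) = ConjClasses.mk x :=
          ConjClasses.mk_eq_mk_iff_isConj.2 (isConj_iff.2 ⟨y, rfl⟩).symm
        simp only [hf, e]
      have hfm : ∀ n, MemLocalRing M (f n) := fun n => by
        simp only [hf]; split_ifs
        · exact memRing_coe hM _
        · exact (loc hM).zero_mem
      have hsupp : ∀ n ∉ O, f n = 0 := fun n hn => dif_neg fun h =>
        hn ((regular_centralizing_iff P n).1 (h n rfl))
      have hom : ∀ χ : IrrCharacter N, MemLocalIdeal M (omega (χ : N → ℂ) f) := by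
        intro χ
        set B : {B : Set (IrrCharacter N) // IsPBlock M B} := ⟨_, blockOf_isPBlock χ⟩
        have hsb : ∀ g, res hM (clv g χ) = res hM (clv g (ψ B)) :=
          (sameBlock_iff_res hM χ (ψ B)).1 (hψ B)
        rw [← res_eq_zero_iff hM (memRing_omega hM hcl hfm χ), omega_eq_sum_classes hcl,
          res_sum hM fun C _ => (loc hM).mul_mem (hfm _)
            (show MemLocalRing M (centralChar (χ : N → ℂ) (crep C)) from memRing_clv hM _ χ),
          show (0 : AlgInt ⧸ M) = ∑ C, c C * res hM (clv (crep C.1) (ψ B)) from (congrFun hc B).symm]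
        rw [← Finset.sum_subset (Finset.subset_univ (Finset.univ.filter good)) fun C _ hC => by
          rw [show f (crep C) = 0 from dif_neg (by rw [mk_crep]; simpa using hC), zero_mul,
            res_zero]]
        rw [Finset.sum_subtype (Finset.univ.filter good) (p := good) (fun C => by simp)]
        refine Finset.sum_congr rfl fun C _ => ?_
        have hfC : f (crep C.1) = (a C : ℂ) := by
          have h : good (ConjClasses.mk (crep C.1)) := by rw [mk_crep]; exact C.2
          rw [show f (crep C.1) = _ from dif_pos h]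
          congr 2
          exact Subtype.ext (mk_crep C.1)
        rw [res_mul hM (hfm _)
            (show MemLocalRing M (centralChar (χ : N → ℂ) (crep C.1)) from memRing_clv hM _ χ),
          hfC, res_coe, ha C]
        exact congrArg (c C * ·) (hsb (crep C.1))
      funext C
      have h1 := res_zero_of_omega hM O (not_dvd_card_pPrimeCore hp) hcl hfm hsupp hom (crep C.1)
      have h : good (ConjClasses.mk (crep C.1)) := by rw [mk_crep]; exact C.2
      rw [show f (crep C.1) = _ from dif_pos h, ← res_eq_zero_iff hM (memRing_coe hM _), res_coe,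
        ha] at h1
      rw [Pi.zero_apply, ← h1]
      congr 1
      exact Subtype.ext (mk_crep C.1).symm
    have h := LinearMap.finrank_le_finrank_of_injective hL
    rw [Module.finrank_fintype_fun_eq_card, Module.finrank_fintype_fun_eq_card] at h
    simpa [Nat.card_eq_fintype_card] using h

end CfsgLib.Blocks.FullDefect
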