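import Cfsg.Agent.Lib.Blocks.Knorr
import Cfsg.Agent.Lib.Blocks.CentralDefect
import Cfsg.Agent.Lib.Blocks.Principal
import Cfsg.Agent.Lib.CharTheory.ExtCriteria

/-!
# Reynolds: height zero for a normal defect group
-/

namespace CfsgLib.Blocks

open Cfsg CfsgLib.CharTheory

set_option linter.unusedVariables false
set_option linter.unusedSimpArgs false
set_option linter.style.haveILetI false
set_option linter.unusedSectionVars false

universe u

variable {p : ℕ} {M : Ideal AlgInt} {G : Type u} [Group G] [Fintype G]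

theorem dv_eq_of_one_eq {H : Type u} [Group H] {a b : H → ℂ} (h : a 1 = b 1) :
    dv p a = dv p b := by
  simp only [dv, charDegree, h]

theorem dv_of_one {H : Type u} [Group H] {a : H → ℂ} {n : ℕ} (h : a 1 = n) :
    dv p a = n.factorization p := by
  simp [dv, charDegree, h]

/-- The data of a covered block with normal defect group. -/
theorem reynolds (hM : IsPModular p M) {B : Set (IrrCharacter G)} (hB : IsPBlock M B)
    {P : Subgroup G} [P.Normal] (hP : IsDefectGroup p M B P) :
    (∀ a ∈ P, ∀ c ∈ P, a * c = c * a) ↔ ∀ χ ∈ B, blockHeight p B (χ : G → ℂ) = 0 := by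
  classical
  haveI : Fact p.Prime := ⟨hM.1⟩
  haveI := res_isDomain hM
  have hPp := defectGroup_isPGroup hP
  set N := P ⊔ Subgroup.centralizer (P : Set G) with hNdef
  haveI : N.Normal := by
    haveI : (Subgroup.centralizer (P : Set G)).Normal := inferInstance
    exact Subgroup.sup_normal _ _
  haveI := Fintype.ofFinite N
  have hPN : P ≤ N := le_sup_left
  -- a covered block
  obtain ⟨χ₀, hχ₀⟩ := block_nonempty hM hB
  obtain ⟨θ₀, hθ₀⟩ := exists_res_constituent (N := N) χ₀
  obtain ⟨c, hc, hcst, hcD⟩ := knorr_inter hM hB (blockOf_isPBlock (M := M) θ₀)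
    ⟨χ₀, hχ₀, θ₀, mem_blockOf_self hM θ₀, hθ₀⟩ hP
  obtain ⟨x₀, rfl⟩ := mem_covOrb.1 hc
  set b := blockConj x₀ (blockOf M (θ₀ : N → ℂ)) with hbdef
  have hb : IsPBlock M b := isPBlock_image _ (blockOf_isPBlock θ₀)
  have hcov : ∃ χ ∈ B, ∃ θ ∈ b, classInner (fun n : N => (χ : G → ℂ) n) (θ : N → ℂ) ≠ 0 :=
    covers_conj ⟨χ₀, hχ₀, θ₀, mem_blockOf_self hM θ₀, hθ₀⟩ hc
  rw [inf_eq_left.2 hPN] at hcD
  set P' := P.subgroupOf N with hP'
  have hP'p : IsPGroup p P' := hPp.of_equiv (Subgroup.subgroupOfEquivOfLe hPN).symm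
  have hG' : P' ⊔ Subgroup.centralizer (P' : Set N) = ⊤ := by
    have h1 : Subgroup.centralizer (P' : Set N) =
        (Subgroup.centralizer (P : Set G)).subgroupOf N := by
      ext n
      rw [Subgroup.mem_subgroupOf]
      constructor
      · intro h q hq
        exact congrArg Subtype.val (h ⟨q, hPN hq⟩ hq)
      · intro h q hq
        exact Subtype.ext (h q hq)
    rw [h1, ← Subgroup.subgroupOf_sup hPN le_sup_right, Subgroup.subgroupOf_self]
  have hcardb := card_defectGroup hM hb hcD
  obtain ⟨θ, hθb, hθ⟩ := exists_triv hM hP'p hb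
  obtain ⟨hparam, hsurj⟩ := exists_pcent_param hM hP'p hG' hb hcD hθb hθ
  have hθmin := (triv_props hM hP'p hG' hb hcardb hθb hθ).2.2
  -- the defects
  have hd : blockDefect p b = blockDefect p B := by
    refine Nat.pow_right_injective hM.1.two_le ?_
    show p ^ blockDefect p b = p ^ blockDefect p B
    rw [← hcardb, ← card_defectGroup hM hB hP]
    exact Nat.card_congr (Subgroup.subgroupOfEquivOfLe hPN).toEquiv
  have hi : N.index ≠ 0 := Subgroup.index_ne_zero_of_finite
  have hminB : minDv p B = minDv p b + N.index.factorization p := by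
    have h1 := congrArg (fun n : ℕ => n.factorization p) (Subgroup.card_mul_index N)
    simp only [Nat.factorization_mul Nat.card_pos.ne' hi, Finsupp.add_apply] at h1
    have h2 := minDv_le_card hM hb
    have h3 := minDv_le_card hM hB
    rw [blockDefect_eq, blockDefect_eq] at hd
    omega
  -- characters over `b` lie in `B`
  have hover : ∀ (χ : IrrCharacter G), ∀ ψ ∈ b,
      classInner (fun n : N => (χ : G → ℂ) n) (ψ : N → ℂ) ≠ 0 → χ ∈ B := by
    intro χ ψ hψ hne
    set f : G → ℂ := fun g => if g ∈ N then blockCoeff B g else 0 with hf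
    have hfc : IsClassFunction G f := fun a g => by
      have : g * a * g⁻¹ ∈ N ↔ a ∈ N :=
        ⟨fun h => by simpa [mul_assoc] using (‹N.Normal›).conj_mem _ h g⁻¹,
          fun h => (‹N.Normal›).conj_mem _ h g⟩
      simp only [hf, this, blockCoeff_isClassFunction B a g]
    have hfm : ∀ g, MemLocalRing M (f g) := fun g => by
      simp only [hf]
      split_ifs
      · exact memRing_blockCoeff hM hB g
      · exact (loc hM).zero_mem
    have hoff : ∀ g ∉ N, f g = 0 := fun g hg => by simp [hf, hg]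
    have heq : ∀ χ' : IrrCharacter G,
        res hM (omega (χ' : G → ℂ) f) = res hM (omega (χ' : G → ℂ) (blockCoeff B)) := by
      intro χ'
      refine res_omega_congr hM hfc (blockCoeff_isClassFunction B) hfm
        (memRing_blockCoeff hM hB) (fun g => ?_) χ'
      simp only [hf]
      split_ifs with hg
      · rfl
      · rw [res_zero, eq_comm, res_eq_zero_iff hM (memRing_blockCoeff hM hB g)]
        by_contra hu
        exact hg ((le_sup_right : _ ≤ N) (mem_centralizer_normal hM hB hPp hu))
    have e1 := res_omega_covers hM hB hb hcov hχ₀ hψ hfc hfm hoff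
    have e2 := res_omega_covers hM (blockOf_isPBlock χ) hb
      ⟨χ, mem_blockOf_self hM χ, ψ, hψ, hne⟩ (mem_blockOf_self hM χ) hψ hfc hfm hoff
    have e3 := e2.trans e1.symm
    rw [heq, heq, ← cf_ind, omega_cf, omega_cf, ind_of_mem hχ₀, res_one] at e3
    by_contra hχ
    rw [ind_of_notMem hχ, res_zero] at e3
    exact zero_ne_one e3
  constructor
  · intro hab χ hχ
    rw [height_zero_iff hχ]
    refine le_antisymm ?_ (minDv_le hχ)
    have h1 := res_covFn_covers hM hB hb hcov hχ
    obtain ⟨ψ, hψb, hψ⟩ := covers_of_res hM h1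
    obtain ⟨ζ, hζ, -, -⟩ := hparam ψ hψb
    have hcomm : ∀ a a' : P', a * a' = a' * a := fun a a' =>
      Subtype.ext (Subtype.ext (hab _ a.2 _ a'.2))
    have hζ1 : (ζ : P' → ℂ) 1 = 1 := degree_one_of_commutative hcomm ζ.2
    have hψ1 : (ψ : N → ℂ) 1 = (θ : N → ℂ) 1 := by
      have := hζ 1
      rwa [hζ1, one_mul] at this
    obtain ⟨e, he, hedvd⟩ := degree_ratio_dvd χ.2 ψ.2 hψ
    obtain ⟨dθ, hdθ0, hdθ⟩ := irr_degree_pos θ.2
    have hχ1 : (χ : G → ℂ) 1 = ((e * dθ : ℕ) : ℂ) := by rw [he, hψ1, hdθ, Nat.cast_mul]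
    rw [dv_of_one hχ1, hminB, ← hθmin, dv_of_one hdθ, Nat.factorization_mul
      (fun h => hi (by simpa [h] using hedvd)) (by omega), Finsupp.add_apply, add_comm]
    have := (Nat.factorization_le_iff_dvd (fun h => hi (by simpa [h] using hedvd)) hi).2 hedvd p
    omega
  · intro hh
    by_contra hab
    -- a non-linear character of `P`
    obtain ⟨ζ, hζ⟩ : ∃ ζ : IrrCharacter P', (ζ : P' → ℂ) 1 ≠ 1 := by
      by_contra hall
      push Not at hall
      apply hab
      intro a ha a' ha'
      have := (commutative_iff_degree_one (G := P')).2 hall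
        ⟨⟨a, hPN ha⟩, ha⟩ ⟨⟨a', hPN ha'⟩, ha'⟩
      exact congrArg (fun z : P' => ((z : N) : G)) this
    obtain ⟨ψ, hψb, hψζ, -, -⟩ := hsurj ζ
    obtain ⟨dζ, hdζ0, hdζ⟩ := irr_degree_pos ζ.2
    have hdζp : p ∣ dζ := by
      haveI := Fintype.ofFinite P'
      obtain ⟨n, ρ, hρ, hρζ⟩ := ζ.2
      haveI := hρ
      have e : (n : ℂ) = dζ := by
        rw [← hdζ, ← hρζ, ρ.char_one, Module.finrank_fintype_fun_eq_card, Fintype.card_fin]
      have hdvd := finrank_dvd_card ρ
      rw [Module.finrank_fintype_fun_eq_card, Fintype.card_fin, Nat.cast_inj.1 e, hcardb] at hdvd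
      obtain ⟨j, -, hj⟩ := (Nat.dvd_prime_pow hM.1).1 hdvd
      rcases j.eq_zero_or_pos with rfl | hj0
      · exact absurd (by rw [hdζ, hj, pow_zero, Nat.cast_one]) hζ
      · exact hj ▸ dvd_pow_self p hj0.ne'
    obtain ⟨dθ, hdθ0, hdθ⟩ := irr_degree_pos θ.2
    have hψ1 : (ψ : N → ℂ) 1 = ((dζ * dθ : ℕ) : ℂ) := by
      have := hψζ 1
      rwa [hdζ, hdθ, ← Nat.cast_mul] at this
    -- the inertia group of `θ`
    set t := (inertia N (θ : N → ℂ)).index with ht
    have ht0 : t ≠ 0 := Subgroup.index_ne_zero_of_finite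
    have hvt : N.index.factorization p ≤ t.factorization p := by
      by_contra hlt
      set s := N.index.factorization p - t.factorization p with hs
      have hm : ∀ χ : IrrCharacter G, ∃ m : ℕ,
          classInner (fun n : N => (χ : G → ℂ) n) (θ : N → ℂ) = m ∧ p ^ s ∣ m ∧
          (m ≠ 0 → (χ : G → ℂ) 1 = ((m * t * dθ : ℕ) : ℂ)) := by
        intro χ
        obtain ⟨m, hm⟩ := classInner_char_nat (isCharacter_restrict (isCharacter_of_irr χ.2) N)
          (isCharacter_of_irr θ.2)
        refine ⟨m, hm, ?_, ?_⟩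
        · rcases eq_or_ne m 0 with rfl | hm0
          · exact dvd_zero _
          · have hne : classInner (fun n : N => (χ : G → ℂ) n) (θ : N → ℂ) ≠ 0 := by
              rw [hm]; exact_mod_cast hm0
            have hdeg := clifford_degree N χ.2 θ.2 hne
            rw [hm, hdθ, ← ht, ← Nat.cast_mul, ← Nat.cast_mul] at hdeg
            have hle := minDv_le (p := p) (hover χ θ hθb hne)
            rw [hminB, ← hθmin, dv_of_one hdθ, dv_of_one hdeg, Nat.factorization_mul
              (Nat.mul_ne_zero hm0 ht0) (by omega), Nat.factorization_mul hm0 ht0,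
              Finsupp.add_apply, Finsupp.add_apply] at hle
            exact (pow_dvd_pow p (by omega)).trans (Nat.ordProj_dvd m p)
        · intro hm0
          have hne : classInner (fun n : N => (χ : G → ℂ) n) (θ : N → ℂ) ≠ 0 := by
            rw [hm]; exact_mod_cast hm0
          have hdeg := clifford_degree N χ.2 θ.2 hne
          rwa [hm, hdθ, ← ht, ← Nat.cast_mul, ← Nat.cast_mul] at hdeg
      choose m hm hmdvd hmdeg using hm
      have hsum : N.index = t * ∑ χ : IrrCharacter G, m χ * m χ := by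
        have h1 := congrFun (eq_sum_irr (indFun_isClassFunction N (θ : N → ℂ))) 1
        rw [indFun_apply_one, hdθ, Finset.sum_apply] at h1
        have h2 : ∀ χ : IrrCharacter G,
            (classInner (indFun N (θ : N → ℂ)) (χ : G → ℂ) • (χ : G → ℂ)) 1 =
            ((m χ * m χ * t * dθ : ℕ) : ℂ) := by
          intro χ
          rw [Pi.smul_apply, smul_eq_mul, frobenius_reciprocity N _ (isClassFunction_irr χ.2),
            ← classInner_comm, hm χ, Complex.conj_natCast]
          rcases eq_or_ne (m χ) 0 with h0 | h0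
          · simp [h0]
          · rw [hmdeg χ h0]; push_cast; ring
        rw [Finset.sum_congr rfl fun χ _ => h2 χ, ← Nat.cast_sum, ← Nat.cast_mul, Nat.cast_inj,
          ← Finset.sum_mul, ← Finset.sum_mul] at h1
        rw [mul_comm t]
        exact Nat.eq_of_mul_eq_mul_right hdθ0 h1
      have hdvd : p ^ (t.factorization p + 2 * s) ∣ N.index := by
        rw [hsum, pow_add]
        refine mul_dvd_mul (Nat.ordProj_dvd t p) (Finset.dvd_sum fun χ _ => ?_)
        rw [two_mul, pow_add]
        exact mul_dvd_mul (hmdvd χ) (hmdvd χ)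
      have := (hM.1.pow_dvd_iff_le_factorization hi).1 hdvd
      omega
    obtain ⟨χ, hne⟩ := exists_over ψ
    have hχ := hover χ ψ hψb hne
    have h0 := (height_zero_iff hχ).1 (hh χ hχ)
    obtain ⟨m, hm⟩ := classInner_char_nat (isCharacter_restrict (isCharacter_of_irr χ.2) N)
      (isCharacter_of_irr ψ.2)
    have hdeg := clifford_degree N χ.2 ψ.2 hne
    rw [hm, hψ1, ← Nat.cast_mul, ← Nat.cast_mul] at hdeg
    have hsub : inertia N (ψ : N → ℂ) ≤ inertia N (θ : N → ℂ) := by
      intro g hg
      rw [mem_inertia] at hg ⊢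
      set e := conjE (mem_normalizer_normal (N := N) g⁻¹) with he
      have hψ' : irrPull e ψ = ψ := Subtype.ext (by rw [he, irrPull_conjE_eq, inv_inv, hg])
      have hbe : irrPull e '' b = b := by
        have h1 : IsPBlock M (irrPull e '' b) := isPBlock_image _ hb
        rw [eq_blockOf hM h1 (⟨ψ, hψb, hψ'⟩ : ψ ∈ irrPull e '' b), ← eq_blockOf hM hb hψb]
      have hθ'b : irrPull e θ ∈ b := hbe ▸ ⟨θ, hθb, rfl⟩
      have hθ' : ∀ x ∈ P', (irrPull e θ : N → ℂ) x = (irrPull e θ : N → ℂ) 1 := by
        intro x hx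
        rw [irrPull_apply, irrPull_apply, map_one, hθ]
        show g⁻¹⁻¹ * (x : G) * g⁻¹ ∈ P
        rw [inv_inv]
        exact (‹P.Normal›).conj_mem _ hx g
      have h2 := triv_unique hM hP'p hG' hb hcardb hθ'b hθ' hθb hθ
      calc conjNormFun N g (θ : N → ℂ) = (irrPull e θ : N → ℂ) := by
            rw [he, irrPull_conjE_eq, inv_inv]
        _ = (θ : N → ℂ) := by rw [h2]
    have hm0 : m ≠ 0 := by
      rintro rfl
      exact hne (by rw [hm, Nat.cast_zero])
    have htdvd : t ∣ (inertia N (ψ : N → ℂ)).index := Subgroup.index_dvd_of_le hsub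
    have ht' : (inertia N (ψ : N → ℂ)).index ≠ 0 := Subgroup.index_ne_zero_of_finite
    have hle := (Nat.factorization_le_iff_dvd ht0 ht').2 htdvd p
    rw [dv_of_one hdeg, hminB, ← hθmin, dv_of_one hdθ,
      Nat.factorization_mul (Nat.mul_ne_zero hm0 ht') (Nat.mul_ne_zero (by omega) (by omega)),
      Nat.factorization_mul hm0 ht', Nat.factorization_mul (by omega : dζ ≠ 0) (by omega : dθ ≠ 0),
      Finsupp.add_apply, Finsupp.add_apply, Finsupp.add_apply] at h0
    have := hM.1.factorization_pos_of_dvd (by omega : dζ ≠ 0) hdζp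
    omega

end CfsgLib.Blocks
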