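import Cfsg.Agent.Lib.Blocks.Local

/-!
# The trace lemma for idempotents commuting with a `p`-power order permutation

If `E` is an idempotent matrix with `M`-local entries commuting with a permutation `σ` of
`p`-power order, then `∑ i, E (σ i) i` is the multiplicity of the eigenvalue 1 of the reduction
mod `M` of the block of `E` on the fixed points of `σ`.
-/

namespace CfsgLib.Blocks

open Cfsg Polynomial Matrix

set_option linter.unusedVariables false
set_option linter.unusedSimpArgs false
set_option linter.style.haveILetI false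

variable {p : ℕ} {M : Ideal AlgInt}

/-- The matrix reduced mod `M`. -/
noncomputable def resMat (hM : IsPModular p M) {ι κ : Type*} (F : Matrix ι κ ℂ) :
    Matrix ι κ (AlgInt ⧸ M) := Matrix.of fun i j => res hM (F i j)

theorem resMat_apply (hM : IsPModular p M) {ι κ : Type*} (F : Matrix ι κ ℂ) (i : ι) (j : κ) :
    resMat hM F i j = res hM (F i j) := rfl

theorem trace_idem (hM : IsPModular p M) {ι : Type*} [Fintype ι] [DecidableEq ι]
    (F : Matrix ι ι ℂ) (hF : ∀ i j, MemLocalRing M (F i j)) (hi : F * F = F) :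
    F.trace = (((resMat hM F).charpoly.rootMultiplicity 1 : ℕ) : ℂ) := by
  classical
  haveI := res_isDomain hM
  set s := F.charpoly.roots with hs
  have hroots : ∀ x ∈ s, x = 0 ∨ x = 1 := by
    intro x hx
    have h1 : x ∈ spectrum ℂ F :=
      Matrix.mem_spectrum_of_isRoot_charpoly (Polynomial.mem_roots'.1 hx).2
    have h2 := (IsIdempotentElem.spectrum_subset ℂ hi) h1
    simpa using h2
  have hsplit := IsAlgClosed.splits F.charpoly
  have hprod : F.charpoly = (s.map fun a => X - C a).prod :=
    hsplit.eq_prod_roots_of_monic (charpoly_monic F)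
  have hrep : s = Multiset.replicate (s.count 0) 0 + Multiset.replicate (s.count 1) 1 := by
    ext x
    rcases eq_or_ne x 0 with rfl | h0
    · simp [Multiset.count_replicate]
    rcases eq_or_ne x 1 with rfl | h1
    · simp [Multiset.count_replicate]
    · rw [Multiset.count_eq_zero.2 fun h => (hroots x h).elim h0 h1]
      simp [Multiset.count_replicate, h0.symm, h1.symm]
  have htr : F.trace = (s.count 1 : ℂ) := by
    rw [Matrix.trace_eq_sum_roots_charpoly, ← hs]
    conv_lhs => rw [hrep]
    simp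
  have hcp : F.charpoly = X ^ s.count 0 * (X - 1) ^ s.count 1 := by
    rw [hprod]
    conv_lhs => rw [hrep]
    simp
  let F' : Matrix ι ι (loc hM) := Matrix.of fun i j => ⟨F i j, hF i j⟩
  have e1 : F'.map (loc hM).subtype = F := by ext i j; rfl
  have e2 : F'.map (resHom hM) = resMat hM F := by ext i j; rfl
  have h3 : F'.charpoly = X ^ s.count 0 * (X - 1) ^ s.count 1 := by
    apply Polynomial.map_injective (loc hM).subtype (Subring.subtype_injective _)
    rw [← Matrix.charpoly_map, e1, hcp]
    simp [Polynomial.map_mul, Polynomial.map_pow]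
  have h4 : (resMat hM F).charpoly = X ^ s.count 0 * (X - C 1) ^ s.count 1 := by
    rw [← e2, Matrix.charpoly_map, h3]
    simp [Polynomial.map_mul, Polynomial.map_pow]
  rw [htr, h4, rootMultiplicity_mul, rootMultiplicity_X_sub_C_pow,
    rootMultiplicity_eq_zero (by simp [IsRoot]), zero_add]
  rw [← h4]
  exact (charpoly_monic _).ne_zero

theorem sum_rootsOfUnity_pow {d : ℕ} (hd : 0 < d) (m : ℕ) :
    ∑ l ∈ nthRootsFinset d (1 : ℂ), l ^ m = if d ∣ m then (d : ℂ) else 0 := by
  classical
  set z := Complex.exp (2 * Real.pi * Complex.I / d) with hz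
  have hprim : IsPrimitiveRoot z d := Complex.isPrimitiveRoot_exp d hd.ne'
  have hz0 : z ≠ 0 := hprim.ne_zero hd.ne'
  split_ifs with h
  · obtain ⟨c, rfl⟩ := h
    rw [Finset.sum_congr rfl fun l hl => by
      rw [pow_mul, (mem_nthRootsFinset hd _).1 hl, one_pow]]
    simp [hprim.card_nthRootsFinset]
  · set S := ∑ l ∈ nthRootsFinset d (1 : ℂ), l ^ m
    have hS : S = z ^ m * S := by
      rw [Finset.mul_sum]
      refine Finset.sum_nbij' (fun l => z⁻¹ * l) (fun l => z * l) ?_ ?_ ?_ ?_ ?_
      · intro l hl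
        simp only [Finset.mem_coe, mem_nthRootsFinset hd] at hl ⊢
        rw [mul_pow, inv_pow, hprim.pow_eq_one, hl]; simp
      · intro l hl
        simp only [Finset.mem_coe, mem_nthRootsFinset hd] at hl ⊢
        rw [mul_pow, hprim.pow_eq_one, hl]; simp
      · intro l hl; simp [mul_inv_cancel_left₀ hz0]
      · intro l hl; simp [inv_mul_cancel_left₀ hz0]
      · intro l hl; rw [← mul_pow, mul_inv_cancel_left₀ hz0]
    by_contra hne
    have : z ^ m = 1 := by
      apply mul_right_cancel₀ hne
      rw [one_mul]; exact hS.symm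
    exact h ((hprim.pow_eq_one_iff_dvd m).1 this)

section
variable {ι : Type*} [Fintype ι] [DecidableEq ι] (σ : Equiv.Perm ι)

/-- Length of the `σ`-orbit of `i`. -/
noncomputable def per (i : ι) : ℕ := Function.minimalPeriod σ i

theorem per_pos (i : ι) : 0 < per σ i :=
  Function.minimalPeriod_pos_of_mem_periodicPts
    (Function.Injective.mem_periodicPts σ.injective i)

theorem iter_per (i : ι) : (⇑σ)^[per σ i] i = i := Function.iterate_minimalPeriod

theorem per_dvd {N : ℕ} (hN : σ ^ N = 1) (i : ι) : per σ i ∣ N := by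
  apply Function.IsPeriodicPt.minimalPeriod_dvd
  show (⇑σ)^[N] i = i
  rw [← Equiv.Perm.coe_pow, hN]; rfl

theorem per_eq_one_iff (i : ι) : per σ i = 1 ↔ σ i = i :=
  Function.minimalPeriod_eq_one_iff_isFixedPt

/-- Chosen representative of the `σ`-orbit of `i`. -/
noncomputable def orep (i : ι) : ι :=
  (Quotient.mk (Equiv.Perm.SameCycle.setoid σ) i).out

theorem orep_sameCycle (i : ι) : σ.SameCycle (orep σ i) i :=
  Quotient.mk_out (s := Equiv.Perm.SameCycle.setoid σ) i

theorem orep_eq_of_sameCycle {i j : ι} (h : σ.SameCycle i j) : orep σ i = orep σ j := by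
  simp only [orep]; rw [Quotient.sound (s := Equiv.Perm.SameCycle.setoid σ) h]

/-- The set of orbit representatives. -/
noncomputable def reps : Finset ι := Finset.univ.filter fun i => orep σ i = i

theorem orep_mem (i : ι) : orep σ i ∈ reps σ :=
  Finset.mem_filter.2 ⟨Finset.mem_univ _, orep_eq_of_sameCycle σ (orep_sameCycle σ i)⟩

theorem mem_reps_of_fixed {i : ι} (h : σ i = i) : i ∈ reps σ := by
  refine Finset.mem_filter.2 ⟨Finset.mem_univ _, ?_⟩
  obtain ⟨n, hn⟩ := (orep_sameCycle σ i).symm
  rw [Equiv.Perm.zpow_apply_eq_self_of_apply_eq_self h] at hn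
  exact hn.symm

theorem sum_orbits {A : Type*} [AddCommMonoid A] (f : ι → A) :
    ∑ j, f j = ∑ o ∈ reps σ, ∑ u ∈ Finset.range (per σ o), f ((⇑σ)^[u] o) := by
  classical
  rw [Finset.sum_sigma']
  symm
  refine Finset.sum_bij (fun x _ => (⇑σ)^[x.2] x.1) (fun _ _ => Finset.mem_univ _) ?_ ?_
    (fun _ _ => rfl)
  · intro x hx y hy hxy
    rw [Finset.mem_sigma] at hx hy
    have h : x.1 = y.1 := by
      have hx' := (Finset.mem_filter.1 hx.1).2
      have hy' := (Finset.mem_filter.1 hy.1).2
      rw [← hx', ← hy']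
      apply orep_eq_of_sameCycle
      have e1 : σ.SameCycle x.1 ((⇑σ)^[x.2] x.1) :=
        ⟨x.2, by rw [zpow_natCast, Equiv.Perm.coe_pow]⟩
      have e2 : σ.SameCycle y.1 ((⇑σ)^[y.2] y.1) :=
        ⟨y.2, by rw [zpow_natCast, Equiv.Perm.coe_pow]⟩
      rw [hxy] at e1
      exact e1.trans e2.symm
    obtain ⟨xo, xu⟩ := x
    obtain ⟨yo, yu⟩ := y
    simp only at h hxy hx hy
    subst h
    have := Function.iterate_injOn_Iio_minimalPeriod (f := ⇑σ) (x := xo)
      (Finset.mem_range.1 hx.2) (Finset.mem_range.1 hy.2) hxy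
    subst this
    rfl
  · intro j _
    obtain ⟨n, _, hn⟩ := (orep_sameCycle σ j).exists_pow_eq'
    refine ⟨⟨orep σ j, n % per σ (orep σ j)⟩,
      Finset.mem_sigma.2 ⟨orep_mem σ j, Finset.mem_range.2 (Nat.mod_lt _ (per_pos σ _))⟩, ?_⟩
    show (⇑σ)^[n % per σ (orep σ j)] (orep σ j) = j
    rw [per, Function.iterate_mod_minimalPeriod_eq, ← Equiv.Perm.coe_pow]
    exact hn

/-- The twisted column functions. -/
noncomputable def twist (E : Matrix ι ι ℂ) (l : ℂ) (a j : ι) : ℂ :=
  ∑ u ∈ Finset.range (per σ a), l ^ u * E ((⇑σ)^[u] a) j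

variable {σ} {E : Matrix ι ι ℂ}

theorem twist_shift (hcomm : ∀ i j, E (σ i) (σ j) = E i j) {l : ℂ} {a : ι}
    (hl : l ^ per σ a = 1) (j : ι) : twist σ E l a (σ j) = l * twist σ E l a j := by
  unfold twist
  set g : ℕ → ℂ := fun u => l ^ u * E ((⇑σ)^[u] a) (σ j) with hg
  have h1 := Finset.sum_range_succ g (per σ a)
  have h2 := Finset.sum_range_succ' g (per σ a)
  have h3 : g (per σ a) = g 0 := by simp [hg, hl, iter_per]
  rw [h2, h3] at h1
  rw [← add_right_cancel h1, Finset.mul_sum]
  refine Finset.sum_congr rfl fun u _ => ?_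
  simp [hg, Function.iterate_succ_apply', hcomm, pow_succ]
  ring

theorem twist_iter (hcomm : ∀ i j, E (σ i) (σ j) = E i j) {l : ℂ} {a : ι}
    (hl : l ^ per σ a = 1) (j : ι) (u : ℕ) :
    twist σ E l a ((⇑σ)^[u] j) = l ^ u * twist σ E l a j := by
  induction u with
  | zero => simp
  | succ u ih => rw [Function.iterate_succ_apply', twist_shift hcomm hl, ih, pow_succ]; ring

variable (σ) in
/-- The index set of the eigenvalue `l`. -/
noncomputable def eigReps (l : ℂ) : Finset ι :=
  (reps σ).filter fun o => l ^ per σ o = 1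

variable (σ) in
/-- The idempotent matrix of the eigenvalue `l`. -/
noncomputable def eigMat (E : Matrix ι ι ℂ) (l : ℂ) : Matrix ι ι ℂ :=
  Matrix.of fun a c => if a ∈ eigReps σ l ∧ c ∈ eigReps σ l then twist σ E l a c else 0

theorem eigMat_idem (hcomm : ∀ i j, E (σ i) (σ j) = E i j) (hidem : E * E = E) (l : ℂ) :
    eigMat σ E l * eigMat σ E l = eigMat σ E l := by
  classical
  ext a c
  rw [Matrix.mul_apply]
  simp only [eigMat, Matrix.of_apply]
  by_cases h : a ∈ eigReps σ l ∧ c ∈ eigReps σ l
  swap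
  · rw [if_neg h]
    refine Finset.sum_eq_zero fun o _ => ?_
    rcases not_and_or.1 h with h' | h' <;> simp [h']
  rw [if_pos h]
  have hla : l ^ per σ a = 1 := (Finset.mem_filter.1 h.1).2
  calc ∑ o, (if a ∈ eigReps σ l ∧ o ∈ eigReps σ l then twist σ E l a o else 0) *
        (if o ∈ eigReps σ l ∧ c ∈ eigReps σ l then twist σ E l o c else 0)
      = ∑ o ∈ eigReps σ l, twist σ E l a o * twist σ E l o c := by
        rw [← Finset.sum_filter_of_ne (p := fun o => o ∈ eigReps σ l)]
        · refine Finset.sum_congr (by ext; simp) fun o ho => ?_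
          simp [h.1, h.2, ho]
        · intro o _ ho; by_contra hc; simp [hc] at ho
    _ = ∑ o ∈ reps σ, twist σ E l a o * twist σ E l o c := by
        refine Finset.sum_subset (Finset.filter_subset _ _) fun o ho ho' => ?_
        have hne : l ^ per σ o ≠ 1 := fun h => ho' (Finset.mem_filter.2 ⟨ho, h⟩)
        have := twist_iter hcomm hla o (per σ o)
        rw [iter_per] at this
        have h0 : twist σ E l a o = 0 := by
          rcases mul_left_eq_self₀.1 this.symm with h | h
          · exact absurd h hne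
          · exact h
        rw [h0, zero_mul]
    _ = ∑ j, twist σ E l a j * E j c := by
        rw [sum_orbits σ (fun j => twist σ E l a j * E j c)]
        refine Finset.sum_congr rfl fun o _ => ?_
        conv_lhs => arg 2; rw [twist]
        rw [Finset.mul_sum]
        refine Finset.sum_congr rfl fun u _ => ?_
        rw [twist_iter hcomm hla]; ring
    _ = twist σ E l a c := by
        unfold twist
        simp only [Finset.sum_mul, mul_assoc]
        rw [Finset.sum_comm]
        refine Finset.sum_congr rfl fun u _ => ?_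
        rw [← Finset.mul_sum, ← Matrix.mul_apply, hidem]

theorem sum_eigMat_trace (hcomm : ∀ i j, E (σ i) (σ j) = E i j) {N : ℕ} (hN : 0 < N)
    (hσ : σ ^ N = 1) :
    ∑ l ∈ nthRootsFinset N (1 : ℂ), l⁻¹ * (eigMat σ E l).trace = ∑ j, E (σ j) j := by
  classical
  have htr : ∀ l, (eigMat σ E l).trace = ∑ o ∈ eigReps σ l, twist σ E l o o := fun l => by
    simp [Matrix.trace, eigMat, Finset.sum_ite_mem]
  simp only [htr, Finset.mul_sum, eigReps, Finset.sum_filter, mul_ite, mul_zero]
  rw [Finset.sum_comm, sum_orbits σ (fun j => E (σ j) j)]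
  refine Finset.sum_congr rfl fun o _ => ?_
  rw [← Finset.sum_filter]
  have hd := per_pos σ o
  have hfil : (nthRootsFinset N (1 : ℂ)).filter (fun l => l ^ per σ o = 1) =
      nthRootsFinset (per σ o) (1 : ℂ) := by
    ext l
    simp only [Finset.mem_filter, mem_nthRootsFinset hN, mem_nthRootsFinset hd]
    exact ⟨fun h => h.2, fun h => ⟨by
      obtain ⟨c, hc⟩ := per_dvd σ hσ o
      rw [hc, pow_mul, h, one_pow], h⟩⟩
  rw [hfil]
  have hinv : ∀ l ∈ nthRootsFinset (per σ o) (1 : ℂ), l⁻¹ = l ^ (per σ o - 1) := by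
    intro l hl
    refine inv_eq_of_mul_eq_one_right ?_
    rw [← pow_succ', Nat.sub_add_cancel hd]
    exact (mem_nthRootsFinset hd _).1 hl
  calc ∑ l ∈ nthRootsFinset (per σ o) (1 : ℂ), l⁻¹ * twist σ E l o o
      = ∑ u ∈ Finset.range (per σ o), (∑ l ∈ nthRootsFinset (per σ o) (1 : ℂ),
          l ^ (per σ o - 1 + u)) * E ((⇑σ)^[u] o) o := by
        unfold twist
        simp only [Finset.sum_mul, Finset.mul_sum]
        rw [Finset.sum_comm]
        refine Finset.sum_congr rfl fun u _ => Finset.sum_congr rfl fun l hl => ?_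
        rw [hinv l hl, pow_add]; ring
    _ = ∑ u ∈ Finset.range (per σ o),
          (if u = 1 % per σ o then (per σ o : ℂ) * E (σ o) o else 0) := by
        refine Finset.sum_congr rfl fun u hu => ?_
        rw [sum_rootsOfUnity_pow hd]
        have hiff : per σ o ∣ per σ o - 1 + u ↔ u = 1 % per σ o := by
          have hu' := Finset.mem_range.1 hu
          rcases Nat.lt_or_ge (per σ o) 2 with h2 | h2
          · have : per σ o = 1 := by omega
            rw [this] at hu' ⊢
            simp; omega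
          · rw [Nat.mod_eq_of_lt (by omega : 1 < per σ o)]
            constructor
            · rintro ⟨c, hc⟩
              rcases c with _ | _ | c
              · omega
              · omega
              · have := Nat.mul_le_mul_left (per σ o) (show 2 ≤ c + 1 + 1 by omega)
                omega
            · rintro rfl; exact ⟨1, by omega⟩
        by_cases h : u = 1 % per σ o
        · rw [if_pos (hiff.2 h), if_pos h, h, per, Function.iterate_mod_minimalPeriod_eq]
          rfl
        · rw [if_neg (mt hiff.1 h), if_neg h, zero_mul]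
    _ = (per σ o : ℂ) * E (σ o) o := by
        rw [Finset.sum_ite_eq', if_pos (Finset.mem_range.2 (Nat.mod_lt _ hd))]
    _ = ∑ u ∈ Finset.range (per σ o), E (σ ((⇑σ)^[u] o)) ((⇑σ)^[u] o) := by
        have hinv' : ∀ u, E (σ ((⇑σ)^[u] o)) ((⇑σ)^[u] o) = E (σ o) o := by
          intro u
          induction u with
          | zero => rfl
          | succ u ih => rw [Function.iterate_succ_apply', hcomm, ih]
        simp [hinv']

end

theorem res_eq_one_of_pow (hM : IsPModular p M) {l : ℂ} {k : ℕ} (h : l ^ p ^ k = 1) :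
    MemLocalRing M l ∧ res hM l = 1 := by
  haveI := res_isDomain hM
  haveI := res_charP hM
  haveI : Fact p.Prime := ⟨hM.1⟩
  have hint : IsIntegral ℤ l :=
    IsIntegral.of_pow (pow_pos hM.1.pos k) (by rw [h]; exact isIntegral_one)
  have hl := memRing_of_isIntegral hM hint
  refine ⟨hl, ?_⟩
  have h1 : (res hM l - 1) ^ p ^ k = 0 := by
    rw [sub_pow_char_pow, ← res_pow hM hl, h, res_one, one_pow, sub_self]
  exact sub_eq_zero.1 (pow_eq_zero_iff (pow_pos hM.1.pos k).ne' |>.1 h1)

variable {ι : Type*} [Fintype ι] [DecidableEq ι]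

theorem resMat_eigMat (hM : IsPModular p M) {σ : Equiv.Perm ι} {E : Matrix ι ι ℂ}
    (hE : ∀ i j, MemLocalRing M (E i j)) {l : ℂ} {k : ℕ} (hl : l ^ p ^ k = 1) (a c : ι) :
    MemLocalRing M (eigMat σ E l a c) ∧
    resMat hM (eigMat σ E l) a c = if a ∈ eigReps σ l ∧ c ∈ eigReps σ l then
      ∑ u ∈ Finset.range (per σ a), res hM (E ((⇑σ)^[u] a) c) else 0 := by
  classical
  obtain ⟨hlm, hl1⟩ := res_eq_one_of_pow hM hl
  have hterm : ∀ u, MemLocalRing M (l ^ u * E ((⇑σ)^[u] a) c) := fun u =>
    (loc hM).mul_mem ((loc hM).pow_mem hlm u) (hE _ _)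
  simp only [resMat_apply, eigMat, Matrix.of_apply]
  split_ifs with h
  · refine ⟨memRing_sum hM fun u _ => hterm u, ?_⟩
    unfold twist
    rw [res_sum hM fun u _ => hterm u]
    refine Finset.sum_congr rfl fun u _ => ?_
    rw [res_mul hM ((loc hM).pow_mem hlm u) (hE _ _), res_pow hM hlm, hl1, one_pow, one_mul]
  · exact ⟨(loc hM).zero_mem, res_zero hM⟩

/-- **Trace lemma.** -/
theorem sum_perm_idem (hM : IsPModular p M) {k : ℕ} {σ : Equiv.Perm ι} (hσ : σ ^ p ^ k = 1)
    {E : Matrix ι ι ℂ} (hE : ∀ i j, MemLocalRing M (E i j)) (hidem : E * E = E)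
    (hcomm : ∀ i j, E (σ i) (σ j) = E i j) :
    ∑ j, E (σ j) j = (((Matrix.of fun i j : {i // σ i = i} =>
      res hM (E i.1 j.1)).charpoly.rootMultiplicity 1 : ℕ) : ℂ) := by
  classical
  haveI := res_isDomain hM
  haveI := res_charP hM
  set A := (Matrix.of fun i j : {i // σ i = i} => res hM (E i.1 j.1)) with hA
  have hσ' : σ ^ p ^ (k + 1) = 1 := by rw [pow_succ, pow_mul, hσ, one_pow]
  set N := p ^ (k + 1) with hN
  have hNpos : 0 < N := pow_pos hM.1.pos _
  set L := nthRootsFinset N (1 : ℂ)
  set r : ℂ → ℕ := fun l => (resMat hM (eigMat σ E l)).charpoly.rootMultiplicity 1 with hr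
  have hL : ∀ l ∈ L, l ^ p ^ (k + 1) = 1 := fun l hl => (mem_nthRootsFinset hNpos _).1 hl
  have htrace : ∀ l ∈ L, (eigMat σ E l).trace = (r l : ℂ) := fun l hl =>
    trace_idem hM _ (fun a c => (resMat_eigMat hM hE (hL l hl) a c).1)
      (eigMat_idem hcomm hidem l)
  have hr_congr : ∀ l ∈ L, ∀ l' ∈ L, eigReps σ l = eigReps σ l' → r l = r l' := by
    intro l hl l' hl' he
    have : resMat hM (eigMat σ E l) = resMat hM (eigMat σ E l') := by
      ext a c
      rw [(resMat_eigMat hM hE (hL l hl) a c).2, (resMat_eigMat hM hE (hL l' hl') a c).2, he]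
    simp only [hr, this]
  rw [← sum_eigMat_trace hcomm hNpos hσ',
    Finset.sum_congr rfl fun l hl => by rw [htrace l hl],
    ← Finset.sum_filter_add_sum_filter_not L (fun l => l ^ p = 1)]
  obtain ⟨w, hw⟩ : ∃ w : ℂ, IsPrimitiveRoot w p :=
    ⟨_, Complex.isPrimitiveRoot_exp p hM.1.ne_zero⟩
  have hw0 : w ≠ 0 := hw.ne_zero hM.1.ne_zero
  have hw1 : w ≠ 1 := hw.ne_one hM.1.one_lt
  have hwN : w ^ N = 1 := by rw [hN, pow_succ', pow_mul, hw.pow_eq_one, one_pow]
  have hperp : ∀ o, per σ o = 1 ∨ p ∣ per σ o := fun o => by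
    obtain ⟨e, -, he⟩ := (Nat.dvd_prime_pow hM.1).1 (per_dvd σ hσ' o)
    rcases e with _ | e
    · exact Or.inl (by simpa using he)
    · exact Or.inr (by rw [he]; exact dvd_pow_self p (Nat.succ_ne_zero e))
  have hpow : ∀ (l : ℂ) o, l ^ p ≠ 1 → per σ o = 1 → l ^ per σ o ≠ 1 := fun l o hl h1 h2 => by
    rw [h1, pow_one] at h2; exact hl (by rw [h2, one_pow])
  -- the part of the eigenvalues of order at least `p²` cancels
  set L2 := L.filter (fun l => ¬ l ^ p = 1) with hL2
  have hsum2 : ∑ l ∈ L2, l⁻¹ * (r l : ℂ) = 0 := by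
    set T := ∑ l ∈ L2, l⁻¹ * (r l : ℂ)
    have hT : T = w⁻¹ * T := by
      rw [Finset.mul_sum]
      refine Finset.sum_nbij' (fun l => w⁻¹ * l) (fun l => w * l) ?_ ?_ ?_ ?_ ?_
      · intro l hl
        simp only [Finset.mem_coe, hL2, Finset.mem_filter, L, mem_nthRootsFinset hNpos] at hl ⊢
        simp only [mul_pow, inv_pow, hwN, hw.pow_eq_one, inv_one, one_mul]
        exact hl
      · intro l hl
        simp only [Finset.mem_coe, hL2, Finset.mem_filter, L, mem_nthRootsFinset hNpos] at hl ⊢
        simp only [mul_pow, hwN, hw.pow_eq_one, one_mul]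
        exact hl
      · intro l hl; simp [mul_inv_cancel_left₀ hw0]
      · intro l hl; simp [inv_mul_cancel_left₀ hw0]
      · intro l hl
        have hl' := Finset.mem_filter.1 hl
        have hlN := hL l hl'.1
        have hrr : r l = r (w⁻¹ * l) := by
          refine hr_congr l hl'.1 _ ?_ ?_
          · rw [mem_nthRootsFinset hNpos, mul_pow, inv_pow, hwN, inv_one, one_mul]; exact hlN
          · refine Finset.filter_congr fun o _ => ?_
            rcases hperp o with h1 | ⟨c, hc⟩
            · refine iff_of_false (hpow l o hl'.2 h1) (hpow _ o ?_ h1)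
              rw [mul_pow, inv_pow, hw.pow_eq_one, inv_one, one_mul]; exact hl'.2
            · rw [hc, pow_mul, pow_mul, mul_pow, inv_pow, hw.pow_eq_one, inv_one, one_mul]
        rw [← hrr, _root_.mul_inv_rev, inv_inv]
        field_simp
    by_contra hne
    exact hw1 (inv_eq_one.1 (mul_right_cancel₀ hne (by rw [one_mul]; exact hT.symm)))
  rw [hsum2, add_zero]
  have hLp : L.filter (fun l => l ^ p = 1) = nthRootsFinset p (1 : ℂ) := by
    ext l
    simp only [L, Finset.mem_filter, mem_nthRootsFinset hNpos, mem_nthRootsFinset hM.1.pos]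
    exact ⟨fun h => h.2, fun h => ⟨by rw [hN, pow_succ', pow_mul, h, one_pow], h⟩⟩
  rw [hLp]
  have h1mem : (1 : ℂ) ∈ nthRootsFinset p (1 : ℂ) := by simp [mem_nthRootsFinset hM.1.pos]
  have h1L : (1 : ℂ) ∈ L := (mem_nthRootsFinset hNpos _).2 (one_pow _)
  have hwL : w ∈ L := (mem_nthRootsFinset hNpos _).2 hwN
  have hrest : ∀ l ∈ (nthRootsFinset p (1 : ℂ)).erase 1, r l = r w := by
    intro l hl
    obtain ⟨hl1, hlp⟩ := Finset.mem_erase.1 hl
    rw [mem_nthRootsFinset hM.1.pos] at hlp
    refine hr_congr l ((mem_nthRootsFinset hNpos _).2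
      (by rw [hN, pow_succ', pow_mul, hlp, one_pow])) w hwL ?_
    refine Finset.filter_congr fun o _ => ?_
    rcases hperp o with h1 | ⟨c, hc⟩
    · simp [h1, hl1, hw1]
    · simp [hc, pow_mul, hlp, hw.pow_eq_one]
  rw [← Finset.add_sum_erase _ _ h1mem, Finset.sum_congr rfl fun l hl => by rw [hrest l hl],
    ← Finset.sum_mul]
  have hinvsum : ∑ l ∈ (nthRootsFinset p (1 : ℂ)).erase 1, l⁻¹ = -1 := by
    have h := sum_rootsOfUnity_pow hM.1.pos (p - 1)
    rw [if_neg (by
      intro hd
      have := Nat.le_of_dvd (by have := hM.1.two_le; omega) hd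
      have := hM.1.pos; omega), ← Finset.add_sum_erase _ _ h1mem, one_pow] at h
    rw [Finset.sum_congr rfl fun l hl => ?_]
    · linear_combination h
    · refine inv_eq_of_mul_eq_one_right ?_
      rw [← pow_succ', Nat.sub_add_cancel hM.1.pos]
      exact (mem_nthRootsFinset hM.1.pos _).1 (Finset.mem_of_mem_erase hl)
  rw [hinvsum]
  -- compare the reductions for `1` and `w` through the block triangular shape
  have key : r 1 = A.charpoly.rootMultiplicity 1 + r w := by
    let e := Equiv.sumCompl (fun i => σ i = i)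
    let D : Matrix {i // ¬ σ i = i} {i // ¬ σ i = i} (AlgInt ⧸ M) :=
      Matrix.of fun i j => resMat hM (eigMat σ E w) i.1 j.1
    let B : Matrix {i // σ i = i} {i // ¬ σ i = i} (AlgInt ⧸ M) :=
      Matrix.of fun i j => resMat hM (eigMat σ E 1) i.1 j.1
    have hwk : w ^ p ^ (k + 1) = 1 := hwN
    have hmem : ∀ i, ¬ σ i = i → (i ∈ eigReps σ 1 ↔ i ∈ eigReps σ w) := by
      intro i hi
      simp only [eigReps, Finset.mem_filter, one_pow, and_true]
      refine ⟨fun h => ⟨h, ?_⟩, fun h => h.1⟩
      rcases hperp i with h1 | ⟨c, hc⟩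
      · exact absurd ((per_eq_one_iff σ i).1 h1) hi
      · rw [hc, pow_mul, hw.pow_eq_one, one_pow]
    have hnotw : ∀ i, σ i = i → i ∉ eigReps σ w := fun i hi h => by
      have := (Finset.mem_filter.1 h).2
      rw [(per_eq_one_iff σ i).2 hi, pow_one] at this
      exact hw1 this
    have e0 : (resMat hM (eigMat σ E 1)).submatrix e e = Matrix.fromBlocks A B 0 D := by
      ext i j
      rcases i with i | i <;> rcases j with j | j
      · simp only [e, Matrix.submatrix_apply, Equiv.sumCompl_apply_inl, Matrix.fromBlocks_apply₁₁,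
          (resMat_eigMat hM hE (one_pow (p ^ 0)) _ _).2, hA, Matrix.of_apply]
        rw [if_pos ⟨by simp [eigReps, mem_reps_of_fixed σ i.2],
          by simp [eigReps, mem_reps_of_fixed σ j.2]⟩, (per_eq_one_iff σ i.1).2 i.2]
        simp
      · simp [e, B]
      · simp only [e, Matrix.submatrix_apply, Equiv.sumCompl_apply_inl, Equiv.sumCompl_apply_inr,
          Matrix.fromBlocks_apply₂₁, (resMat_eigMat hM hE (one_pow (p ^ 0)) _ _).2,
          Matrix.zero_apply]
        split_ifs
        · have hconst : ∀ u, E ((⇑σ)^[u] i.1) j.1 = E i.1 j.1 := by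
            intro u
            induction u with
            | zero => rfl
            | succ u ih =>
              rw [Function.iterate_succ_apply', ← ih]
              conv_lhs => rw [show j.1 = σ j.1 from j.2.symm]
              rw [hcomm]
          simp only [hconst, Finset.sum_const, Finset.card_range, nsmul_eq_mul]
          rcases hperp i.1 with h1 | hd
          · exact absurd ((per_eq_one_iff σ i.1).1 h1) i.2
          · rw [(CharP.cast_eq_zero_iff (AlgInt ⧸ M) p _).2 hd, zero_mul]
        · rfl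
      · simp only [e, Matrix.submatrix_apply, Equiv.sumCompl_apply_inr,
          Matrix.fromBlocks_apply₂₂, D, Matrix.of_apply,
          (resMat_eigMat hM hE (one_pow (p ^ 0)) _ _).2, (resMat_eigMat hM hE hwk _ _).2,
          hmem _ i.2, hmem _ j.2]
    have ew : (resMat hM (eigMat σ E w)).submatrix e e =
        Matrix.fromBlocks (0 : Matrix {i // σ i = i} {i // σ i = i} (AlgInt ⧸ M)) 0 0 D := by
      ext i j
      rcases i with i | i <;> rcases j with j | j
      · simp [e, (resMat_eigMat hM hE hwk _ _).2, hnotw _ i.2]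
      · simp [e, (resMat_eigMat hM hE hwk _ _).2, hnotw _ i.2]
      · simp [e, (resMat_eigMat hM hE hwk _ _).2, hnotw _ j.2]
      · simp [e, D]
    have hcp : ∀ Q : Matrix ι ι (AlgInt ⧸ M), Q.charpoly = (Q.submatrix e e).charpoly := by
      intro Q
      rw [show Q.submatrix e e = Matrix.reindex e.symm e.symm Q from rfl,
        Matrix.charpoly_reindex]
    simp only [hr]
    rw [hcp, e0, Matrix.charpoly_fromBlocks_zero₂₁, hcp (resMat hM (eigMat σ E w)), ew,
      Matrix.charpoly_fromBlocks_zero₂₁, Matrix.charpoly_zero,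
      rootMultiplicity_mul ((charpoly_monic A).mul (charpoly_monic D)).ne_zero,
      rootMultiplicity_mul ((monic_X_pow _).mul (charpoly_monic D)).ne_zero,
      rootMultiplicity_eq_zero
        (show ¬ IsRoot ((X : (AlgInt ⧸ M)[X]) ^ _) 1 by simp [IsRoot]), zero_add]
  rw [key]; push_cast; ring

/-- If the fixed-point block vanishes mod `M`, the twisted trace vanishes. -/
theorem sum_perm_idem_eq_zero (hM : IsPModular p M) {k : ℕ} {σ : Equiv.Perm ι}
    (hσ : σ ^ p ^ k = 1) {E : Matrix ι ι ℂ} (hE : ∀ i j, MemLocalRing M (E i j))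
    (hidem : E * E = E) (hcomm : ∀ i j, E (σ i) (σ j) = E i j)
    (hfix : ∀ i j, σ i = i → σ j = j → MemLocalIdeal M (E i j)) :
    ∑ j, E (σ j) j = 0 := by
  classical
  haveI := res_isDomain hM
  rw [sum_perm_idem hM hσ hE hidem hcomm]
  have : (Matrix.of fun i j : {i // σ i = i} => res hM (E i.1 j.1)) = 0 := by
    ext i j
    exact (res_eq_zero_iff hM (hE _ _)).2 (hfix _ _ i.2 j.2)
  rw [this, Matrix.charpoly_zero,
    rootMultiplicity_eq_zero (show ¬ IsRoot ((X : (AlgInt ⧸ M)[X]) ^ _) 1 by simp [IsRoot])]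
  simp

end CfsgLib.Blocks
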