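import Cfsg.Agent.Lib.Blocks.Central
import Cfsg.Agent.Lib.Blocks.PermTrace

/-!
# Weak block orthogonality and Brauer's second main theorem
-/

namespace CfsgLib.Blocks

open Cfsg CfsgLib.CharTheory Polynomial Matrix
open scoped ComplexConjugate

set_option linter.unusedVariables false
set_option linter.unusedSimpArgs false
set_option linter.style.haveILetI false
set_option linter.unusedSectionVars false

universe u

variable {p : ℕ} {M : Ideal AlgInt}

/-- A sum of values invariant under a `p`-group reduces to the fixed points. -/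
theorem sum_fixedPoints (hM : IsPModular p M) {P : Type*} [Group P] (hP : IsPGroup p P)
    {ι : Type*} [Fintype ι] [MulAction P ι] [DecidablePred (· ∈ MulAction.fixedPoints P ι)]
    (f : ι → AlgInt ⧸ M) (hf : ∀ (g : P) i, f (g • i) = f i) :
    ∑ i, f i = ∑ i ∈ Finset.univ.filter (· ∈ MulAction.fixedPoints P ι), f i := by
  classical
  haveI := res_charP hM
  haveI : Fact p.Prime := ⟨hM.1⟩
  rw [← Finset.sum_fiberwise_of_maps_to (s := Finset.univ) (t := Finset.univ.image f)
      (g := f) (fun i hi => Finset.mem_image_of_mem f hi) f,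
    ← Finset.sum_fiberwise_of_maps_to (s := Finset.univ.filter (· ∈ MulAction.fixedPoints P ι))
      (t := Finset.univ.image f) (g := f)
      (fun i hi => Finset.mem_image_of_mem f (Finset.mem_univ i)) f]
  refine Finset.sum_congr rfl fun a _ => ?_
  let Q : SubMulAction P ι :=
    { carrier := {i | f i = a}, smul_mem' := fun g i hi => by simpa [hf] using hi }
  rw [Finset.sum_congr rfl fun i hi => (Finset.mem_filter.1 hi).2,
    Finset.sum_congr rfl fun i hi => (Finset.mem_filter.1 hi).2,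
    Finset.sum_const, Finset.sum_const, nsmul_eq_mul, nsmul_eq_mul]
  congr 1
  rw [CharP.natCast_eq_natCast (AlgInt ⧸ M) p]
  have h := hP.card_modEq_card_fixedPoints Q
  have e1 : Nat.card Q = (Finset.univ.filter fun i => f i = a).card := by
    rw [show Nat.card Q = Nat.card {i // f i = a} from rfl, Nat.card_eq_fintype_card,
      Fintype.card_subtype]
  have e2 : Nat.card (MulAction.fixedPoints P Q) =
      ((Finset.univ.filter (· ∈ MulAction.fixedPoints P ι)).filter fun i => f i = a).card := by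
    rw [Finset.filter_filter, ← Fintype.card_subtype, ← Nat.card_eq_fintype_card]
    exact Nat.card_congr
      { toFun := fun x => ⟨x.1.1, fun g => congrArg Subtype.val (x.2 g), x.1.2⟩
        invFun := fun x => ⟨⟨x.1, x.2.2⟩, fun g => Subtype.ext (x.2.1 g)⟩
        left_inv := fun x => rfl
        right_inv := fun x => rfl }
  rw [e1, e2] at h
  exact h

/-- The reduction of a product of equivariant matrices on fixed points. -/
theorem fix_mul (hM : IsPModular p M) {ι : Type*} [Fintype ι] [DecidableEq ι] {σ : Equiv.Perm ι}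
    {k : ℕ} (hσ : σ ^ p ^ k = 1) {A B : Matrix ι ι ℂ} (hA : ∀ i j, MemLocalRing M (A i j))
    (hB : ∀ i j, MemLocalRing M (B i j)) (cA : ∀ i j, A (σ i) (σ j) = A i j)
    (cB : ∀ i j, B (σ i) (σ j) = B i j) (a c : {i // σ i = i}) :
    res hM ((A * B) a.1 c.1) = ∑ b : {i // σ i = i}, res hM (A a.1 b.1) * res hM (B b.1 c.1) := by
  classical
  haveI : Fact p.Prime := ⟨hM.1⟩
  have hP : IsPGroup p (Subgroup.zpowers σ) := IsPGroup.iff_card.2 (by
    obtain ⟨e, -, he⟩ := (Nat.dvd_prime_pow hM.1).1 (orderOf_dvd_of_pow_eq_one hσ)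
    exact ⟨e, by rw [Nat.card_zpowers, he]⟩)
  rw [Matrix.mul_apply, res_sum hM fun b _ => (loc hM).mul_mem (hA _ _) (hB _ _),
    Finset.sum_congr rfl fun b _ => res_mul hM (hA _ _) (hB _ _),
    sum_fixedPoints hM hP]
  · symm
    refine Finset.sum_bij (fun b _ => b.1) ?_ (fun _ _ _ _ h => Subtype.ext h) ?_ (fun _ _ => rfl)
    · intro b _
      refine Finset.mem_filter.2 ⟨Finset.mem_univ _, fun g => ?_⟩
      obtain ⟨g, hg⟩ := g
      obtain ⟨n, rfl⟩ := hg
      exact Equiv.Perm.zpow_apply_eq_self_of_apply_eq_self b.2 n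
    · intro b hb
      exact ⟨⟨b, (Finset.mem_filter.1 hb).2 ⟨σ, Subgroup.mem_zpowers σ⟩⟩, Finset.mem_univ _, rfl⟩
  · intro g b
    obtain ⟨g, hg⟩ := g
    obtain ⟨n, rfl⟩ := Submonoid.mem_powers_iff _ _ |>.1 (mem_powers_iff_mem_zpowers.2 hg)
    show res hM (A a.1 ((σ ^ n) b)) * res hM (B ((σ ^ n) b) c.1) = _
    induction n generalizing b with
    | zero => rfl
    | succ n ih =>
      rw [pow_succ', Equiv.Perm.mul_apply]
      conv_lhs => rw [← a.2, ← c.2]
      rw [cA, cB]
      exact ih b (Subgroup.pow_mem _ (Subgroup.mem_zpowers σ) n)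

theorem equivariant_mul {ι : Type*} [Fintype ι] {σ : Equiv.Perm ι} {A B : Matrix ι ι ℂ}
    (cA : ∀ i j, A (σ i) (σ j) = A i j) (cB : ∀ i j, B (σ i) (σ j) = B i j) (i j : ι) :
    (A * B) (σ i) (σ j) = (A * B) i j := by
  rw [Matrix.mul_apply, Matrix.mul_apply]
  exact (Fintype.sum_equiv σ _ _ fun b => by rw [cA, cB]).symm

theorem equivariant_pow {ι : Type*} [Fintype ι] [DecidableEq ι] {σ : Equiv.Perm ι}
    {A : Matrix ι ι ℂ} (cA : ∀ i j, A (σ i) (σ j) = A i j) :
    ∀ (n : ℕ) i j, (A ^ n) (σ i) (σ j) = (A ^ n) i j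
  | 0, i, j => by simp [Matrix.one_apply]
  | n + 1, i, j => by rw [pow_succ]; exact equivariant_mul (equivariant_pow cA n) cA i j

theorem loc_mul_entries (hM : IsPModular p M) {ι : Type*} [Fintype ι] {A B : Matrix ι ι ℂ}
    (hA : ∀ i j, MemLocalRing M (A i j)) (hB : ∀ i j, MemLocalRing M (B i j)) (i j : ι) :
    MemLocalRing M ((A * B) i j) := by
  rw [Matrix.mul_apply]; exact memRing_sum hM fun b _ => (loc hM).mul_mem (hA _ _) (hB _ _)

theorem loc_pow_entries (hM : IsPModular p M) {ι : Type*} [Fintype ι] [DecidableEq ι]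
    {A : Matrix ι ι ℂ} (hA : ∀ i j, MemLocalRing M (A i j)) :
    ∀ (n : ℕ) i j, MemLocalRing M ((A ^ n) i j)
  | 0, i, j => by
    rw [pow_zero, Matrix.one_apply]; split_ifs
    · exact (loc hM).one_mem
    · exact (loc hM).zero_mem
  | n + 1, i, j => by rw [pow_succ]; exact loc_mul_entries hM (loc_pow_entries hM hA n) hA i j

theorem natCast_inv_mem (hM : IsPModular p M) {n : ℕ} (h : ¬ p ∣ n) :
    MemLocalRing M ((n : ℂ)⁻¹) := by
  refine memRing_inv hM (memRing_natCast hM n) fun h' => h ?_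
  haveI := res_charP hM
  rw [← CharP.cast_eq_zero_iff (AlgInt ⧸ M) p, ← res_natCast hM]
  exact (res_eq_zero_iff hM (memRing_natCast hM n)).2 h'

/-- The twisted trace lemma. -/
theorem sum_perm_idem_twisted (hM : IsPModular p M) {ι : Type*} [Fintype ι] [DecidableEq ι]
    {k n : ℕ} {σ : Equiv.Perm ι} (hσ : σ ^ p ^ k = 1) (hn : ¬ p ∣ n)
    {E Y : Matrix ι ι ℂ} (hE : ∀ i j, MemLocalRing M (E i j)) (hidem : E * E = E)
    (cE : ∀ i j, E (σ i) (σ j) = E i j) (hY : ∀ i j, MemLocalRing M (Y i j))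
    (cY : ∀ i j, Y (σ i) (σ j) = Y i j) (hEY : Commute E Y) (hYn : Y ^ n = 1)
    (hfix : ∀ i j, σ i = i → σ j = j → MemLocalIdeal M (E i j)) :
    ∑ j, (E * Y) (σ j) j = 0 := by
  classical
  have hn0 : 0 < n := Nat.pos_of_ne_zero fun h => hn (h ▸ dvd_zero p)
  have hnC : (n : ℂ) ≠ 0 := Nat.cast_ne_zero.2 hn0.ne'
  set L := nthRootsFinset n (1 : ℂ)
  set F : ℂ → Matrix ι ι ℂ := fun l => (n : ℂ)⁻¹ • ∑ i ∈ Finset.range n, l ^ i • Y ^ i with hF
  have hYF : ∀ l ∈ L, l • (Y * F l) = F l := by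
    intro l hl
    have hl1 : l ^ n = 1 := (mem_nthRootsFinset hn0 _).1 hl
    simp only [hF]
    rw [Matrix.mul_smul, smul_comm, Matrix.mul_sum, Finset.smul_sum (r := l)]
    congr 1
    have h1 := Finset.sum_range_succ (fun i => l ^ i • Y ^ i) n
    have h2 := Finset.sum_range_succ' (fun i => l ^ i • Y ^ i) n
    simp only [hl1, hYn, pow_zero] at h1 h2
    rw [h2] at h1
    rw [← add_right_cancel h1]
    exact Finset.sum_congr rfl fun i _ => by
      rw [Matrix.mul_smul, smul_smul, ← pow_succ', ← pow_succ']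
  have hYpow : ∀ l ∈ L, ∀ i : ℕ, l ^ i • (Y ^ i * F l) = F l := by
    intro l hl i
    induction i with
    | zero => simp
    | succ i ih =>
      calc l ^ (i + 1) • (Y ^ (i + 1) * F l) = l • (Y * (l ^ i • (Y ^ i * F l))) := by
            rw [Matrix.mul_smul Y (l ^ i), smul_smul, ← pow_succ', ← Matrix.mul_assoc, ← pow_succ']
        _ = F l := by rw [ih]; exact hYF l hl
  have hFidem : ∀ l ∈ L, F l * F l = F l := by
    intro l hl
    conv_lhs => arg 1; simp only [hF]
    rw [Matrix.smul_mul, Matrix.sum_mul,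
      Finset.sum_congr rfl fun i _ => (Matrix.smul_mul _ _ _).trans (hYpow l hl i),
      Finset.sum_const, Finset.card_range, ← Nat.cast_smul_eq_nsmul ℂ, smul_smul,
      inv_mul_cancel₀ hnC, one_smul]
  have hrec : ∑ l ∈ L, l ^ (n - 1) • F l = Y := by
    simp only [hF, Finset.smul_sum, smul_smul]
    rw [Finset.sum_comm]
    have : ∀ i ∈ Finset.range n, ∑ l ∈ L, (l ^ (n - 1) * ((n : ℂ)⁻¹ * l ^ i)) • Y ^ i =
        if i = 1 % n then Y else 0 := by
      intro i hi
      rw [← Finset.sum_smul, Finset.sum_congr rfl fun l _ => show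
        l ^ (n - 1) * ((n : ℂ)⁻¹ * l ^ i) = (n : ℂ)⁻¹ * l ^ (n - 1 + i) by rw [pow_add]; ring,
        ← Finset.mul_sum, sum_rootsOfUnity_pow hn0]
      have hi' := Finset.mem_range.1 hi
      have hiff : n ∣ n - 1 + i ↔ i = 1 % n := by
        rcases Nat.lt_or_ge n 2 with h2 | h2
        · have : n = 1 := by omega
          subst this; simp; omega
        · rw [Nat.mod_eq_of_lt (by omega : 1 < n)]
          constructor
          · rintro ⟨c, hc⟩
            rcases c with _ | _ | c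
            · omega
            · omega
            · have := Nat.mul_le_mul_left n (show 2 ≤ c + 1 + 1 by omega)
              omega
          · rintro rfl; exact ⟨1, by omega⟩
      by_cases h : i = 1 % n
      · rw [if_pos (hiff.2 h), if_pos h, inv_mul_cancel₀ hnC, one_smul, h]
        rcases Nat.lt_or_ge n 2 with h2 | h2
        · have : n = 1 := by omega
          subst this; simpa using hYn.symm
        · rw [Nat.mod_eq_of_lt (by omega : 1 < n), pow_one]
      · rw [if_neg (mt hiff.1 h), if_neg h, mul_zero, zero_smul]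
    rw [Finset.sum_congr rfl this, Finset.sum_ite_eq',
      if_pos (Finset.mem_range.2 (Nat.mod_lt _ hn0))]
  have hFloc : ∀ l ∈ L, ∀ i j, MemLocalRing M (F l i j) := by
    intro l hl i j
    have hl1 : MemLocalRing M l := memRing_of_isIntegral hM (IsIntegral.of_pow hn0
      (by rw [(mem_nthRootsFinset hn0 _).1 hl]; exact isIntegral_one))
    simp only [hF, Matrix.smul_apply, Matrix.sum_apply, smul_eq_mul]
    exact (loc hM).mul_mem (natCast_inv_mem hM hn) (memRing_sum hM fun m _ =>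
      (loc hM).mul_mem ((loc hM).pow_mem hl1 m) (loc_pow_entries hM hY m i j))
  have cF : ∀ l i j, F l (σ i) (σ j) = F l i j := fun l i j => by
    simp [hF, Matrix.smul_apply, Matrix.sum_apply, equivariant_pow cY]
  have hzero : ∀ l ∈ L, ∑ j, (E * F l) (σ j) j = 0 := by
    intro l hl
    have hcomm : Commute E (F l) := by
      refine Commute.smul_right (Commute.sum_right _ _ _ fun i _ => ?_) _
      exact (hEY.pow_right i).smul_right _
    refine sum_perm_idem_eq_zero hM hσ (loc_mul_entries hM hE (hFloc l hl)) ?_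
      (equivariant_mul cE (cF l)) fun i j hi hj => ?_
    · rw [Matrix.mul_assoc, ← Matrix.mul_assoc (F l) E, ← hcomm.eq, Matrix.mul_assoc E (F l) (F l),
        hFidem l hl, ← Matrix.mul_assoc, hidem]
    · rw [← res_eq_zero_iff hM (loc_mul_entries hM hE (hFloc l hl) i j),
        fix_mul hM hσ hE (hFloc l hl) cE (cF l) ⟨i, hi⟩ ⟨j, hj⟩]
      refine Finset.sum_eq_zero fun b _ => ?_
      rw [(res_eq_zero_iff hM (hE _ _)).2 (hfix i b.1 hi b.2), zero_mul]
  calc ∑ j, (E * Y) (σ j) j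
      = ∑ j, ∑ l ∈ L, l ^ (n - 1) * (E * F l) (σ j) j := by
        conv_lhs => rw [← hrec]
        simp [Matrix.mul_sum, Matrix.sum_apply, Matrix.mul_smul, Matrix.smul_apply]
    _ = 0 := by
        rw [Finset.sum_comm]
        refine Finset.sum_eq_zero fun l hl => ?_
        rw [← Finset.mul_sum, hzero l hl, mul_zero]

variable {G : Type u} [Group G]

/-- `p`-part and `p'`-part of an element. -/
theorem exists_pPart [Finite G] (hp : p.Prime) (x : G) :
    ∃ z w : G, z * w = x ∧ Commute z w ∧ (∃ k : ℕ, orderOf z = p ^ k) ∧ ¬ p ∣ orderOf w ∧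
      z ∈ Subgroup.zpowers x ∧ w ∈ Subgroup.zpowers x := by
  obtain ⟨k, m, hm, hkm⟩ :=
    Nat.exists_eq_pow_mul_and_not_dvd (orderOf_pos x).ne' p hp.ne_one
  have hcop : Nat.Coprime (p ^ k) m := (hp.coprime_iff_not_dvd.2 hm).pow_left k
  have hbz := Nat.gcd_eq_gcd_ab (p ^ k) m
  rw [hcop] at hbz
  set a := Nat.gcdA (p ^ k) m
  set b := Nat.gcdB (p ^ k) m
  refine ⟨x ^ ((m : ℤ) * b), x ^ (((p ^ k : ℕ) : ℤ) * a), ?_, ?_, ?_, ?_,
    ⟨_, rfl⟩, ⟨_, rfl⟩⟩
  · rw [← _root_.zpow_add, add_comm, ← hbz]; simp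
  · exact Commute.zpow_zpow_self x _ _
  · have h : (x ^ ((m : ℤ) * b)) ^ p ^ k = 1 := by
      rw [← zpow_natCast, ← _root_.zpow_mul, ← orderOf_dvd_iff_zpow_eq_one, hkm]
      exact ⟨b, by push_cast; ring⟩
    obtain ⟨e, -, he⟩ := (Nat.dvd_prime_pow hp).1 (orderOf_dvd_of_pow_eq_one h)
    exact ⟨e, he⟩
  · have h : (x ^ (((p ^ k : ℕ) : ℤ) * a)) ^ m = 1 := by
      rw [← zpow_natCast, ← _root_.zpow_mul, ← orderOf_dvd_iff_zpow_eq_one, hkm]
      exact ⟨a, by push_cast; ring⟩
    exact fun hd => hm (hd.trans (orderOf_dvd_of_pow_eq_one h))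

variable [Fintype G]

/-- Permutation matrix. -/
def Pmat {ι : Type*} [DecidableEq ι] (π : Equiv.Perm ι) : Matrix ι ι ℂ :=
  Matrix.of fun a c => if a = π c then 1 else 0

theorem Pmat_mul {ι : Type*} [Fintype ι] [DecidableEq ι] (π π' : Equiv.Perm ι) :
    Pmat π * Pmat π' = Pmat (π * π') := by
  ext a c
  simp only [Matrix.mul_apply, Pmat, Matrix.of_apply, mul_ite, mul_one, mul_zero,
    Finset.sum_ite_eq', Finset.mem_univ, if_true, Equiv.Perm.mul_apply]
  rfl

theorem mul_Pmat_apply {ι : Type*} [Fintype ι] [DecidableEq ι] (A : Matrix ι ι ℂ)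
    (π : Equiv.Perm ι) (a c : ι) : (A * Pmat π) a c = A a (π c) := by
  simp [Matrix.mul_apply, Pmat]

theorem Pmat_pow {ι : Type*} [Fintype ι] [DecidableEq ι] (π : Equiv.Perm ι) :
    ∀ n, Pmat π ^ n = Pmat (π ^ n)
  | 0 => by ext a c; simp [Pmat, Matrix.one_apply]
  | n + 1 => by rw [pow_succ, Pmat_pow π n, Pmat_mul, pow_succ]

theorem Pmat_mem (hM : IsPModular p M) {ι : Type*} [DecidableEq ι] (π : Equiv.Perm ι) (a c : ι) :
    MemLocalRing M (Pmat π a c) := by
  simp only [Pmat, Matrix.of_apply]; split_ifs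
  · exact (loc hM).one_mem
  · exact (loc hM).zero_mem

theorem Pmat_equivariant {ι : Type*} [DecidableEq ι] {π σ : Equiv.Perm ι} (h : Commute π σ)
    (a c : ι) : Pmat π (σ a) (σ c) = Pmat π a c := by
  have : π (σ c) = σ (π c) := by
    rw [← Equiv.Perm.mul_apply, ← Equiv.Perm.mul_apply, h.eq]
  simp [Pmat, this]

theorem commute_Pmat {ι : Type*} [Fintype ι] [DecidableEq ι] {A : Matrix ι ι ℂ}
    {π : Equiv.Perm ι} (h : ∀ i j, A (π i) (π j) = A i j) : Commute A (Pmat π) := by
  ext a c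
  rw [mul_Pmat_apply, Matrix.mul_apply, Finset.sum_eq_single (π.symm a)]
  · simp [Pmat, ← h (π.symm a) c]
  · intro b _ hb
    simp only [Pmat, Matrix.of_apply]
    rw [if_neg, zero_mul]
    rintro rfl; simp at hb
  · simp

/-- `∑_j χ(j b j⁻¹ a) = |G| χ(a) χ(b) / χ(1)`. -/
theorem sum_conj_mul (χ : IrrCharacter G) (a b : G) :
    ∑ j, (χ : G → ℂ) (j * b * j⁻¹ * a) =
      (Nat.card G : ℂ) * (χ : G → ℂ) a * (χ : G → ℂ) b / (χ : G → ℂ) 1 := by
  classical
  set f : G → ℂ := fun x => ∑ j, if j * b * j⁻¹ = x then (1 : ℂ) else 0 with hf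
  have hcl : IsClassFunction G f := by
    intro g k
    simp only [hf]
    refine Fintype.sum_equiv (Equiv.mulLeft k⁻¹) _ _ fun j => ?_
    simp only [Equiv.coe_mulLeft]
    refine if_congr ?_ rfl rfl
    constructor
    · intro h
      have h' := congrArg (fun t => k⁻¹ * t * k) h
      simpa [mul_assoc] using h'
    · intro h
      rw [← h]; group
  have h1 := sum_classFun_mul_shift hcl χ a
  have e : ∀ y : G, ∑ x, f x * (χ : G → ℂ) (x * y) = ∑ j, (χ : G → ℂ) (j * b * j⁻¹ * y) := by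
    intro y
    simp only [hf, Finset.sum_mul, ite_mul, one_mul, zero_mul]
    rw [Finset.sum_comm]
    simp
  rw [e] at h1
  rw [h1, omega]
  have h2 := e 1
  simp only [mul_one] at h2
  rw [h2, Finset.sum_congr rfl fun j _ => irr_isClassFun χ b j, Finset.sum_const,
    Finset.card_univ, nsmul_eq_mul, Nat.card_eq_fintype_card]
  ring

/-- The trace of two-sided multiplication on a block. -/
theorem sum_blockCoeff_twosided (B : Set (IrrCharacter G)) (u v : G) :
    ∑ j, blockCoeff B (j * u * j⁻¹ * v) =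
      ∑ χ ∈ bset B, (χ : G → ℂ) v⁻¹ * (χ : G → ℂ) u⁻¹ := by
  simp only [blockCoeff, finsum_mem_bset]
  rw [← Finset.mul_sum, Finset.sum_comm, Finset.mul_sum]
  refine Finset.sum_congr rfl fun χ _ => ?_
  have h : ∀ j, conj ((χ : G → ℂ) (j * u * j⁻¹ * v)) = (χ : G → ℂ) (j * u⁻¹ * j⁻¹ * v⁻¹) := by
    intro j
    rw [irr_conjInv, classFun_conj_apply (irr_isClassFun χ) (j * u⁻¹ * j⁻¹) v⁻¹]
    congr 1; group
  rw [← Finset.mul_sum, Finset.sum_congr rfl fun j _ => h j, sum_conj_mul]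
  have h0 : (Nat.card G : ℂ) ≠ 0 := Nat.cast_ne_zero.2 Nat.card_pos.ne'
  field_simp [irr_one_ne_zero χ]

theorem Lmat_mem (hM : IsPModular p M) {f : G → ℂ} (hf : ∀ g, MemLocalRing M (f g)) (a b : G) :
    MemLocalRing M (Lmat f a b) := hf _

theorem conv_blockCoeff_self (B : Set (IrrCharacter G)) :
    conv (blockCoeff B) (blockCoeff B) = blockCoeff B := by
  rw [← cf_ind, ← cf_mul]
  congr 1
  funext χ
  by_cases h : χ ∈ B
  · simp [ind_of_mem h]
  · simp [ind_of_notMem h]

theorem blockCoeff_isClassFunction (B : Set (IrrCharacter G)) :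
    IsClassFunction G (blockCoeff B) := by rw [← cf_ind]; exact cf_isClassFunction _

theorem pow_eq_one_of_dvd_orderOf {z : G} {n : ℕ} (h : orderOf z ∣ n) : z ^ n = 1 :=
  orderOf_dvd_iff_pow_eq_one.1 h

/-- **Weak block orthogonality** (S0907). -/
theorem weak_orth (hM : IsPModular p M) {B : Set (IrrCharacter G)} (hB : IsPBlock M B) {x y : G}
    (hx : ¬ p ∣ orderOf x) (hy : p ∣ orderOf y) :
    ∑ χ ∈ bset B, (χ : G → ℂ) x * (χ : G → ℂ) y = 0 := by
  classical
  haveI : Fact p.Prime := ⟨hM.1⟩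
  obtain ⟨z, w, hzw, hc, ⟨k, hk⟩, hw, -, -⟩ := exists_pPart hM.1 y
  have hz1 : z ≠ 1 := by
    rintro rfl; rw [one_mul] at hzw; exact hw (hzw ▸ hy)
  set σ : Equiv.Perm G := Equiv.mulRight z⁻¹ with hσdef
  set π : Equiv.Perm G := (Equiv.mulLeft x).trans (Equiv.mulRight w) with hπdef
  have hσpow : ∀ n : ℕ, ∀ j, (σ ^ n) j = j * (z⁻¹) ^ n := by
    intro n
    induction n with
    | zero => simp
    | succ n ih => intro j; rw [pow_succ', Equiv.Perm.mul_apply, ih, pow_succ z⁻¹]; simp [hσdef, mul_assoc]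
  have hπpow : ∀ n : ℕ, ∀ j, (π ^ n) j = x ^ n * j * w ^ n := by
    intro n
    induction n with
    | zero => simp
    | succ n ih => intro j; rw [pow_succ', Equiv.Perm.mul_apply, ih, pow_succ' x, pow_succ w]; simp [hπdef, mul_assoc]
  have hσ : σ ^ p ^ k = 1 := by
    ext j; rw [hσpow, ← hk, inv_pow, pow_orderOf_eq_one]; simp
  have hcp : Commute π σ := by
    ext j
    simp only [Equiv.Perm.mul_apply, hσdef, hπdef, Equiv.trans_apply, Equiv.coe_mulLeft,
      Equiv.coe_mulRight, mul_assoc, (hc.inv_left).eq]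
  have hn : ¬ p ∣ orderOf x * orderOf w := fun h => (hM.1.dvd_mul.1 h).elim hx hw
  have h0 := sum_perm_idem_twisted hM hσ hn (E := Lmat (blockCoeff B)) (Y := Pmat π)
    (Lmat_mem hM (memRing_blockCoeff hM hB)) (by rw [Lmat_mul, conv_blockCoeff_self])
    (fun i j => by simp [Lmat, hσdef, mul_assoc]) (Pmat_mem hM π) (Pmat_equivariant hcp)
    (commute_Pmat fun i j => by
      simp only [Lmat, Matrix.of_apply, hπdef, Equiv.trans_apply, Equiv.coe_mulLeft,
        Equiv.coe_mulRight]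
      rw [← blockCoeff_isClassFunction B (i * j⁻¹) x]
      congr 1; group)
    (by
      rw [Pmat_pow]
      have : π ^ (orderOf x * orderOf w) = 1 := by
        ext j
        rw [hπpow, pow_eq_one_of_dvd_orderOf (dvd_mul_right _ _),
          pow_eq_one_of_dvd_orderOf (dvd_mul_left _ _)]
        simp
      rw [this]; ext a c; simp [Pmat, Matrix.one_apply] <;> congr)
    (fun i j hi _ => absurd (by simpa [hσdef] using hi) hz1)
  simp only [mul_Pmat_apply] at h0
  have h2 := sum_blockCoeff_twosided B (z⁻¹ * w⁻¹) x⁻¹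
  rw [Finset.sum_congr rfl fun j _ => show blockCoeff B (j * (z⁻¹ * w⁻¹) * j⁻¹ * x⁻¹) =
    Lmat (blockCoeff B) (σ j) (π j) by
      simp [Lmat, hσdef, hπdef, mul_assoc]] at h2
  rw [h0] at h2
  rw [h2]
  refine Finset.sum_congr rfl fun χ _ => ?_
  rw [inv_inv, ← hzw, _root_.mul_inv_rev, inv_inv, inv_inv, hc.eq]

/-- Weak block orthogonality, conjugate form. -/
theorem weak_orth_conj (hM : IsPModular p M) {B : Set (IrrCharacter G)} (hB : IsPBlock M B)
    {x y : G} (hx : ¬ p ∣ orderOf x) (hy : p ∣ orderOf y) :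
    ∑ χ ∈ bset B, (χ : G → ℂ) x * conj ((χ : G → ℂ) y) = 0 := by
  simp only [irr_conjInv]
  exact weak_orth hM hB hx (by rwa [orderOf_inv])

/-- Right multiplication matrix. -/
def Rmat (f : G → ℂ) : Matrix G G ℂ := Matrix.of fun a c => f (c⁻¹ * a)

theorem Rmat_mul (f h : G → ℂ) : Rmat f * Rmat h = Rmat (conv h f) := by
  ext a c
  simp only [Matrix.mul_apply, Rmat, Matrix.of_apply, conv]
  refine Fintype.sum_equiv (Equiv.mulLeft c⁻¹) _ _ fun b => ?_
  simp [mul_assoc, mul_comm]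

theorem Lmat_Rmat_comm (f h : G → ℂ) : Commute (Lmat f) (Rmat h) := by
  ext a c
  simp only [Matrix.mul_apply, Lmat, Rmat, Matrix.of_apply]
  refine Fintype.sum_equiv ((Equiv.inv G).trans ((Equiv.mulLeft a).trans (Equiv.mulRight c)))
    _ _ fun b => ?_
  simp [mul_assoc, mul_comm]

theorem conv_comm_class {f : G → ℂ} (hf : IsClassFunction G f) (h : G → ℂ) :
    conv f h = conv h f := by
  funext g
  simp only [conv]
  refine Fintype.sum_equiv ((Equiv.inv G).trans (Equiv.mulRight g)) _ _ fun x => ?_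
  simp only [Equiv.trans_apply, Equiv.inv_apply, Equiv.coe_mulRight, _root_.mul_inv_rev, inv_inv,
    mul_assoc, mul_comm (h _)]
  congr 1
  rw [← hf x g⁻¹]; group

theorem extendByZero_conv (H : Subgroup G) [Fintype H] (f h : H → ℂ) :
    conv (extendByZero H f) (extendByZero H h) = extendByZero H (conv f h) := by
  classical
  funext g
  simp only [conv]
  rw [← Finset.sum_filter_of_ne (p := fun x => x ∈ H)
    (fun x _ hx => by by_contra hc; rw [extendByZero_of_not_mem H f hc] at hx; simp at hx),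
    Finset.sum_subtype (Finset.univ.filter fun x => x ∈ H) (p := fun x => x ∈ H) (by simp)]
  by_cases hg : g ∈ H
  · rw [extendByZero_of_mem H _ hg]
    simp only [conv]
    refine Finset.sum_congr rfl fun x _ => ?_
    rw [extendByZero_coe, extendByZero_of_mem H h (H.mul_mem (H.inv_mem x.2) hg)]
    rfl
  · rw [extendByZero_of_not_mem H _ hg]
    refine Finset.sum_eq_zero fun x _ => ?_
    rw [extendByZero_of_not_mem H h (fun hm => hg (by
      simpa using H.mul_mem x.2 hm)), mul_zero]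

theorem extendByZero_invariant (H : Subgroup G) {f : H → ℂ} (hf : IsClassFunction H f) {x : G}
    (hx : x ∈ H) (g : G) : extendByZero H f (x * g * x⁻¹) = extendByZero H f g := by
  by_cases hg : g ∈ H
  · rw [extendByZero_of_mem H f (H.mul_mem (H.mul_mem hx hg) (H.inv_mem hx)),
      extendByZero_of_mem H f hg, ← hf ⟨g, hg⟩ ⟨x, hx⟩]
    rfl
  · rw [extendByZero_of_not_mem H f hg, extendByZero_of_not_mem H f fun h => hg ?_]
    have := H.mul_mem (H.mul_mem (H.inv_mem hx) h) hx
    simpa [mul_assoc] using this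

theorem extendByZero_mem (hM : IsPModular p M) (H : Subgroup G) {f : H → ℂ}
    (hf : ∀ x, MemLocalRing M (f x)) (g : G) : MemLocalRing M (extendByZero H f g) := by
  by_cases hg : g ∈ H
  · rw [extendByZero_of_mem H f hg]; exact hf _
  · rw [extendByZero_of_not_mem H f hg]; exact (loc hM).zero_mem

theorem blockCoeff_inv (B : Set (IrrCharacter G)) (g : G) :
    blockCoeff B g⁻¹ = conj (blockCoeff B g) := by
  simp only [blockCoeff, finsum_mem_bset, map_mul, map_sum, map_inv₀, map_natCast,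
    irr_inv, irr_one_conj, Complex.conj_conj]

/-- **Brauer's second main theorem**, idempotent form. -/
theorem second_main (hM : IsPModular p M) (H : Subgroup G) [Fintype H] {b : Set (IrrCharacter H)}
    (hb : IsPBlock M b) {B : Set (IrrCharacter G)} (hB : IsPBlock M B)
    (hne : ∀ ξ ∈ b, MemLocalIdeal M (omega (ξ : H → ℂ) fun k => blockCoeff B k))
    {z w : G} (hc : Commute z w) (hz : ∃ k : ℕ, orderOf z = p ^ k) (hw : ¬ p ∣ orderOf w)
    (hC : Subgroup.centralizer ({z} : Set G) ≤ H) {χ : IrrCharacter G} (hχ : χ ∈ B) :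
    ∑ k : H, blockCoeff b k * (χ : G → ℂ) ((k : G) * (z * w)) = 0 := by
  classical
  haveI : Fact p.Prime := ⟨hM.1⟩
  obtain ⟨k, hk⟩ := hz
  have hzH : z ∈ H := hC (Subgroup.mem_centralizer_singleton_iff.2 rfl)
  have hwH : w ∈ H := hC (Subgroup.mem_centralizer_singleton_iff.2 hc.eq.symm)
  set e : G → ℂ := extendByZero H (blockCoeff b) with he
  set g : G → ℂ := conv (blockCoeff B) e with hg
  have heM : ∀ x, MemLocalRing M (e x) :=
    extendByZero_mem hM H (memRing_blockCoeff hM hb)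
  have he2 : conv e e = e := by rw [he, extendByZero_conv, conv_blockCoeff_self]
  have hgM : ∀ x, MemLocalRing M (g x) := fun x =>
    memRing_sum hM fun l _ => (loc hM).mul_mem (memRing_blockCoeff hM hB l) (heM _)
  have hg2 : conv g g = g := by
    rw [hg, conv_assoc, ← conv_assoc e, ← conv_comm_class (blockCoeff_isClassFunction B) e,
      conv_assoc (blockCoeff B) e e, he2, ← conv_assoc, conv_blockCoeff_self]
  have heinv : ∀ y ∈ H, ∀ x, e (y * x * y⁻¹) = e x := fun y hy x =>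
    extendByZero_invariant H (blockCoeff_isClassFunction b) hy x
  have hginv : ∀ y ∈ H, ∀ x, g (y * x * y⁻¹) = g x := by
    intro y hy x
    simp only [hg, conv]
    refine Fintype.sum_equiv (MulAut.conj y⁻¹).toEquiv _ _ fun l => ?_
    simp only [MulEquiv.toEquiv_eq_coe, MulEquiv.coe_toEquiv, MulAut.conj_apply, inv_inv]
    rw [← blockCoeff_isClassFunction B (y⁻¹ * l * y) y, ← heinv y hy ((y⁻¹ * l * y)⁻¹ * x)]
    simp [mul_assoc]
  set σ : Equiv.Perm G := (MulAut.conj z⁻¹).toEquiv with hσdef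
  set π : Equiv.Perm G := (MulAut.conj w).toEquiv with hπdef
  have hσpow : ∀ n : ℕ, ∀ j, (σ ^ n) j = z⁻¹ ^ n * j * (z⁻¹ ^ n)⁻¹ := by
    intro n
    induction n with
    | zero => simp
    | succ n ih => intro j; rw [pow_succ', Equiv.Perm.mul_apply, ih, pow_succ' z⁻¹]; simp [hσdef, mul_assoc]
  have hπpow : ∀ n : ℕ, ∀ j, (π ^ n) j = w ^ n * j * (w ^ n)⁻¹ := by
    intro n
    induction n with
    | zero => simp
    | succ n ih => intro j; rw [pow_succ', Equiv.Perm.mul_apply, ih, pow_succ' w]; simp [hπdef, mul_assoc]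
  have hσ : σ ^ p ^ k = 1 := by
    ext j; rw [hσpow, ← hk, inv_pow, pow_orderOf_eq_one]; simp
  have hcp : Commute π σ := by
    ext j
    simp only [Equiv.Perm.mul_apply, hσdef, hπdef, MulEquiv.toEquiv_eq_coe, MulEquiv.coe_toEquiv,
      MulAut.conj_apply, inv_inv]
    calc w * (z⁻¹ * j * z) * w⁻¹ = (w * z⁻¹) * j * (z * w⁻¹) := by group
      _ = (z⁻¹ * w) * j * (w⁻¹ * z) := by rw [(hc.inv_left).eq, (hc.inv_right).eq]
      _ = z⁻¹ * (w * j * w⁻¹) * z := by group
  have hequiv : ∀ y ∈ H, ∀ f : G → ℂ, (∀ x, f (y * x * y⁻¹) = f x) → ∀ i j,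
      Lmat f (y * i * y⁻¹) (y * j * y⁻¹) = Lmat f i j ∧
      Rmat f (y * i * y⁻¹) (y * j * y⁻¹) = Rmat f i j := fun y hy f hf i j => by
    simp only [Lmat, Rmat, Matrix.of_apply]
    exact ⟨by rw [← hf (i * j⁻¹)]; congr 1; group, by rw [← hf (j⁻¹ * i)]; congr 1; group⟩
  have cLσ : ∀ f : G → ℂ, (∀ x, f (z⁻¹ * x * z⁻¹⁻¹) = f x) → ∀ i j,
      Lmat f (σ i) (σ j) = Lmat f i j := fun f hf i j =>
    (hequiv _ (H.inv_mem hzH) f hf i j).1
  have cR : ∀ i j, Rmat e (σ i) (σ j) = Rmat e i j := fun i j =>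
    (hequiv _ (H.inv_mem hzH) e (heinv _ (H.inv_mem hzH)) i j).2
  have cg := cLσ g (hginv _ (H.inv_mem hzH))
  set E : Matrix G G ℂ := Lmat g * Rmat e with hEdef
  have hEid : E * E = E := by
    rw [hEdef, Matrix.mul_assoc, ← Matrix.mul_assoc (Rmat e), ← (Lmat_Rmat_comm g e).eq,
      Matrix.mul_assoc (Lmat g) (Rmat e), Rmat_mul, he2, ← Matrix.mul_assoc, Lmat_mul, hg2]
  -- the Brauer quotient of `g` vanishes
  let Phi : (G → ℂ) → Matrix {x // σ x = x} {x // σ x = x} (AlgInt ⧸ M) :=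
    fun f => Matrix.of fun a c => res hM (Lmat f a.1 c.1)
  have hPhi : ∀ f h : G → ℂ, (∀ x, MemLocalRing M (f x)) → (∀ x, MemLocalRing M (h x)) →
      (∀ x, f (z⁻¹ * x * z⁻¹⁻¹) = f x) → (∀ x, h (z⁻¹ * x * z⁻¹⁻¹) = h x) →
      Phi (conv f h) = Phi f * Phi h := by
    intro f h hf hh cf ch
    ext a c
    show res hM (Lmat (conv f h) a.1 c.1) = _
    rw [← Lmat_mul, fix_mul hM hσ (Lmat_mem hM hf) (Lmat_mem hM hh) (cLσ f cf) (cLσ h ch)]
    rfl
  set vH : IrrCharacter H → ℂ := fun ξ => omega (ξ : H → ℂ) fun k => blockCoeff B k with hvH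
  have hres : IsClassFunction H (fun k : H => blockCoeff B k) := fun x y =>
    blockCoeff_isClassFunction B (x : G) (y : G)
  have hvHZ : vH ∈ Zloc H hM := fun x => by
    rw [hvH, cf_omega hres]; exact memRing_blockCoeff hM hB _
  set v : Zloc H hM := ⟨vH * ind b, mul_mem hvHZ (ind_mem_Zloc hM hb)⟩ with hv
  have hv0 : ∀ ξ, MemLocalIdeal M ((v : IrrCharacter H → ℂ) ξ) := by
    intro ξ
    by_cases h : ξ ∈ b
    · simpa [hv, hvH, ind_of_mem h] using hne ξ h
    · simpa [hv, ind_of_notMem h] using memIdeal_zero hM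
  have hextM : ∀ u : Zloc H hM, ∀ x,
      MemLocalRing M (extendByZero H (cf (u : IrrCharacter H → ℂ)) x) := fun u =>
    extendByZero_mem hM H u.2
  have hexti : ∀ u : Zloc H hM, ∀ x, extendByZero H (cf (u : IrrCharacter H → ℂ))
      (z⁻¹ * x * z⁻¹⁻¹) = extendByZero H (cf (u : IrrCharacter H → ℂ)) x := fun u =>
    extendByZero_invariant H (cf_isClassFunction _) (H.inv_mem hzH)
  have hfixC : ∀ x : G, σ x = x → x ∈ H := by
    intro x hx
    refine hC (Subgroup.mem_centralizer_singleton_iff.2 ?_)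
    simp only [hσdef, MulEquiv.toEquiv_eq_coe, MulEquiv.coe_toEquiv, MulAut.conj_apply,
      inv_inv] at hx
    rw [mul_assoc, inv_mul_eq_iff_eq_mul] at hx
    exact hx
  have hfixmul : ∀ a c : {x // σ x = x}, σ (a.1 * c.1⁻¹) = a.1 * c.1⁻¹ := by
    intro a c
    show (MulAut.conj z⁻¹) (a.1 * c.1⁻¹) = _
    rw [map_mul, map_inv (MulAut.conj z⁻¹)]
    exact congrArg₂ (fun s t => s * t⁻¹) a.2 c.2
  have hPg : Phi g = Phi (extendByZero H (cf (v : IrrCharacter H → ℂ))) := by
    have h1 : Phi (blockCoeff B) = Phi (extendByZero H (cf vH)) := by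
      ext a c
      show res hM (Lmat _ a.1 c.1) = res hM (Lmat _ a.1 c.1)
      simp only [Lmat, Matrix.of_apply]
      rw [extendByZero_of_mem H _ (hfixC _ (hfixmul a c)), hvH, cf_omega hres]
    have he' : e = extendByZero H (cf (ind b)) := by rw [he, cf_ind]
    rw [hg, hPhi _ _ (memRing_blockCoeff hM hB) heM
      (fun x => blockCoeff_isClassFunction B x z⁻¹) (heinv _ (H.inv_mem hzH)), h1, he',
      ← hPhi _ _ (hextM ⟨vH, hvHZ⟩) (he' ▸ heM) (hexti ⟨vH, hvHZ⟩)
        (he' ▸ heinv _ (H.inv_mem hzH)), extendByZero_conv, ← cf_mul]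
  have hpow : ∀ n, Phi (extendByZero H (cf ((v ^ (n + 1) : Zloc H hM) : IrrCharacter H → ℂ))) =
      Phi g := by
    intro n
    induction n with
    | zero => rw [pow_one, hPg]
    | succ n ih =>
      have hgg : Phi g = Phi g * Phi g := by
        conv_lhs => rw [← hg2]
        exact hPhi _ _ hgM hgM (hginv _ (H.inv_mem hzH)) (hginv _ (H.inv_mem hzH))
      conv_rhs => rw [hgg]; arg 1; rw [← ih]
      rw [hPg, pow_succ, Subring.coe_mul, cf_mul, ← extendByZero_conv,
        hPhi _ _ (hextM _) (hextM _) (hexti _) (hexti _)]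
  have hPg0 : Phi g = 0 := by
    haveI : Nonempty (IrrCharacter H) := ⟨⟨_, isIrrCharacter_one⟩⟩
    have hN : Fintype.card (IrrCharacter H) - 1 + 1 = Fintype.card (IrrCharacter H) :=
      Nat.sub_add_cancel Fintype.card_pos
    rw [← hpow (Fintype.card (IrrCharacter H) - 1), hN]
    ext a c
    show res hM (Lmat _ a.1 c.1) = 0
    simp only [Lmat, Matrix.of_apply]
    rw [extendByZero_of_mem H _ (hfixC _ (hfixmul a c))]
    exact (res_eq_zero_iff hM ((v ^ Fintype.card (IrrCharacter H)).2 _)).2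
      (pow_mem_Jloc hM v hv0 _)
  have hRM : ∀ a c, MemLocalRing M (Rmat e a c) := fun a c => heM _
  have hfixE : ∀ i j, σ i = i → σ j = j → MemLocalIdeal M (E i j) := by
    intro i j hi hj
    rw [← res_eq_zero_iff hM (loc_mul_entries hM (Lmat_mem hM hgM) hRM i j)]
    refine (fix_mul hM hσ (Lmat_mem hM hgM) hRM cg cR ⟨i, hi⟩ ⟨j, hj⟩).trans
      (Finset.sum_eq_zero fun b' _ => ?_)
    have := congrFun (congrFun hPg0 ⟨i, hi⟩) b'
    simp only [Phi, Matrix.of_apply, Matrix.zero_apply] at this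
    rw [this, zero_mul]
  have h0 := sum_perm_idem_twisted hM hσ hw (E := E) (Y := Pmat π)
    (loc_mul_entries hM (Lmat_mem hM hgM) hRM) hEid (equivariant_mul cg cR)
    (Pmat_mem hM π) (Pmat_equivariant hcp)
    (commute_Pmat (equivariant_mul (fun i j => (hequiv w hwH g (hginv w hwH) i j).1)
      (fun i j => (hequiv w hwH e (heinv w hwH) i j).2)))
    (by
      rw [Pmat_pow]
      have : π ^ orderOf w = 1 := by ext j; rw [hπpow, pow_orderOf_eq_one]; simp
      rw [this]; ext a c; simp [Pmat, Matrix.one_apply] <;> congr) hfixE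
  simp only [mul_Pmat_apply] at h0
  have hE : ∀ a c, E a c = ∑ l, ∑ m, e m * e l * blockCoeff B (a * l⁻¹ * c⁻¹ * m⁻¹) := by
    intro a c
    rw [hEdef, Matrix.mul_apply]
    refine Fintype.sum_equiv (Equiv.mulLeft c⁻¹) _ _ fun b' => ?_
    simp only [Lmat, Rmat, Matrix.of_apply, Equiv.coe_mulLeft, hg]
    rw [conv_comm_class (blockCoeff_isClassFunction B)]
    simp only [conv, Finset.sum_mul]
    refine Finset.sum_congr rfl fun m _ => ?_
    rw [classFun_conj_apply (blockCoeff_isClassFunction B) m⁻¹ (a * b'⁻¹)]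
    simp only [mul_assoc, _root_.mul_inv_rev, inv_inv, mul_inv_cancel_left, inv_mul_cancel_left]; ring
  set S : IrrCharacter G → ℂ := fun ψ => ∑ m, e m * (ψ : G → ℂ) (m * (z * w)) with hS
  have hsum : ∑ ψ ∈ bset B, S ψ * conj (S ψ) = 0 := by
    have step1 : ∀ m l, ∑ j, blockCoeff B (σ j * l⁻¹ * (π j)⁻¹ * m⁻¹) =
        ∑ ψ ∈ bset B, (ψ : G → ℂ) (m * (z * w)) * (ψ : G → ℂ) (l * (z * w)⁻¹) := by
      intro m l
      rw [Finset.sum_congr rfl fun j _ => show blockCoeff B (σ j * l⁻¹ * (π j)⁻¹ * m⁻¹) =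
          blockCoeff B (j * (z * l⁻¹ * w) * j⁻¹ * (w⁻¹ * m⁻¹ * z⁻¹)) by
        simp only [hσdef, hπdef, MulEquiv.toEquiv_eq_coe, MulEquiv.coe_toEquiv,
          MulAut.conj_apply, inv_inv]
        rw [← blockCoeff_isClassFunction B (z⁻¹ * j * z * l⁻¹ * (w * j * w⁻¹)⁻¹ * m⁻¹) z]
        congr 1; group, sum_blockCoeff_twosided]
      refine Finset.sum_congr rfl fun ψ _ => ?_
      have e1 : (ψ : G → ℂ) (w⁻¹ * m⁻¹ * z⁻¹)⁻¹ = (ψ : G → ℂ) (m * (z * w)) := by
        rw [show (w⁻¹ * m⁻¹ * z⁻¹)⁻¹ = z * (m * w) by group,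
          classFun_conj_apply (irr_isClassFun ψ) z, mul_assoc, hc.eq]
      have e2 : (ψ : G → ℂ) (z * l⁻¹ * w)⁻¹ = (ψ : G → ℂ) (l * (z * w)⁻¹) := by
        rw [show (z * l⁻¹ * w)⁻¹ = w⁻¹ * (l * z⁻¹) by group,
          classFun_conj_apply (irr_isClassFun ψ) w⁻¹, mul_assoc, _root_.mul_inv_rev,
          (hc.inv_inv).eq]
      rw [e1, e2]
    have hconj : ∀ ψ : IrrCharacter G,
        conj (S ψ) = ∑ l, e l * (ψ : G → ℂ) (l * (z * w)⁻¹) := by
      intro ψ
      simp only [hS, map_sum, map_mul]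
      refine Fintype.sum_equiv (Equiv.inv G) _ _ fun l => ?_
      simp only [Equiv.inv_apply]
      rw [irr_conjInv, classFun_conj_apply (irr_isClassFun ψ) l⁻¹, _root_.mul_inv_rev l (z * w)]
      congr 1
      · rw [he]
        by_cases hl : l ∈ H
        · rw [extendByZero_of_mem H _ hl, extendByZero_of_mem H _ (H.inv_mem hl),
            show (⟨l⁻¹, H.inv_mem hl⟩ : H) = (⟨l, hl⟩ : H)⁻¹ from rfl, blockCoeff_inv]
        · rw [extendByZero_of_not_mem H _ hl,
            extendByZero_of_not_mem H _ (fun h => hl (by simpa using H.inv_mem h)), map_zero]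
    calc ∑ ψ ∈ bset B, S ψ * conj (S ψ)
        = ∑ m, ∑ l, e m * e l * ∑ ψ ∈ bset B,
            (ψ : G → ℂ) (m * (z * w)) * (ψ : G → ℂ) (l * (z * w)⁻¹) := by
          simp only [hconj]
          simp only [hS]
          rw [Finset.sum_congr rfl fun ψ _ => Finset.sum_mul_sum _ _ _ _]
          simp only [Finset.mul_sum]
          rw [Finset.sum_comm]
          refine Finset.sum_congr rfl fun m _ => ?_
          rw [Finset.sum_comm]
          exact Finset.sum_congr rfl fun l _ => Finset.sum_congr rfl fun ψ _ => by ring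
      _ = ∑ m, ∑ l, e m * e l * ∑ j, blockCoeff B (σ j * l⁻¹ * (π j)⁻¹ * m⁻¹) := by
          simp only [step1]
      _ = ∑ j, E (σ j) (π j) := by
          simp only [hE, Finset.mul_sum]
          rw [Finset.sum_comm]
          conv_lhs => arg 2; ext l; rw [Finset.sum_comm]
          rw [Finset.sum_comm]
      _ = 0 := h0
  have hz0 : S χ = 0 := by
    have h1 : ∑ ψ ∈ bset B, Complex.normSq (S ψ) = 0 := by
      have h2 : ((∑ ψ ∈ bset B, Complex.normSq (S ψ) : ℝ) : ℂ) = ((0 : ℝ) : ℂ) := by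
        push_cast
        simpa [Complex.normSq_eq_conj_mul_self, mul_comm] using hsum
      exact_mod_cast h2
    exact Complex.normSq_eq_zero.1
      ((Finset.sum_eq_zero_iff_of_nonneg fun ψ _ => Complex.normSq_nonneg _).1 h1 χ
        (mem_bset.2 hχ))
  rw [← hz0, hS]
  simp only
  rw [← Finset.sum_filter_of_ne (p := fun x => x ∈ H)
    (fun x _ hx => by
      by_contra hc'; rw [he, extendByZero_of_not_mem H _ hc'] at hx; simp at hx),
    Finset.sum_subtype (Finset.univ.filter fun x => x ∈ H) (p := fun x => x ∈ H) (by simp)]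
  exact Finset.sum_congr rfl fun x _ => by rw [he, extendByZero_coe]

end CfsgLib.Blocks
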