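import Cfsg.Agent.Lib.Blocks.LocalBlocks

/-!
# Defect groups of the blocks below a maximal Brauer pair
-/

namespace CfsgLib.Blocks

open Cfsg CfsgLib.CharTheory

set_option linter.unusedVariables false
set_option linter.unusedSimpArgs false
set_option linter.style.haveILetI false
set_option linter.unusedSectionVars false

universe u

variable {p : ℕ} {M : Ideal AlgInt} {G : Type u} [Group G] [Fintype G]

theorem isPBlock_conjBlock {Q : Subgroup G}
    {f : Set (IrrCharacter (Subgroup.centralizer (Q : Set G)))} (hf : IsPBlock M f) (x : G) :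
    IsPBlock M (conjBlock Q x f) := by
  rw [conjBlock_eq]; exact isPBlock_image _ hf

theorem blockDefect_conjBlock (Q : Subgroup G) (x : G)
    (f : Set (IrrCharacter (Subgroup.centralizer (Q : Set G)))) :
    blockDefect p (conjBlock Q x f) = blockDefect p f := by
  rw [conjBlock_eq, blockDefect_image]

theorem centP_le {Q P : Subgroup G} (hQP : Q ≤ P) :
    Q ⊔ P ⊓ Subgroup.centralizer (Q : Set G) ≤ P ⊓ Subgroup.normalizer (Q : Set G) :=
  sup_le (le_inf hQP Subgroup.le_normalizer)
    (inf_le_inf_left P (Subgroup.centralizer_le_normalizer _))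

/-- `C_P(Q)` lies in a defect group of `f`. -/
theorem centP_le_defect (hM : IsPModular p M) {Q P : Subgroup G} (hP : IsPGroup p P)
    (hQP : Q ≤ P) {f : Set (IrrCharacter (Subgroup.centralizer (Q : Set G)))}
    {e : Set (IrrCharacter (Subgroup.centralizer (P : Set G)))} (hf : IsPBlock M f)
    (he : IsPBlock M e) (hle : SubpairLE p M Q f P e) :
    ∃ D : Subgroup (Subgroup.centralizer (Q : Set G)), IsDefectGroup p M f D ∧
      (P ⊓ Subgroup.centralizer (Q : Set G)).subgroupOf (Subgroup.centralizer (Q : Set G)) ≤ D := by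
  obtain ⟨g, -, hstep, -⟩ := normal_step_of_le hM hP hf he hle le_sup_left
    ((centP_le hQP).trans inf_le_left) ((centP_le hQP).trans inf_le_right)
  refine le_defect_of_step hM hstep le_rfl hf (fun t => ?_) (hP.to_le inf_le_left) le_sup_right
  rw [subgroupBlockCoeff_eq, sext_coe]

theorem card_centP_le (hM : IsPModular p M) {Q P : Subgroup G} (hP : IsPGroup p P)
    (hQP : Q ≤ P) {f : Set (IrrCharacter (Subgroup.centralizer (Q : Set G)))}
    {e : Set (IrrCharacter (Subgroup.centralizer (P : Set G)))} (hf : IsPBlock M f)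
    (he : IsPBlock M e) (hle : SubpairLE p M Q f P e) :
    Nat.card (P ⊓ Subgroup.centralizer (Q : Set G) : Subgroup G) ≤ p ^ blockDefect p f := by
  haveI := Fintype.ofFinite (Subgroup.centralizer (Q : Set G))
  obtain ⟨D, hD, hle'⟩ := centP_le_defect hM hP hQP hf he hle
  rw [← card_defectGroup hM hf hD,
    ← Nat.card_congr (Subgroup.subgroupOfEquivOfLe
      (inf_le_right : P ⊓ Subgroup.centralizer (Q : Set G) ≤ _)).toEquiv]
  exact Subgroup.card_le_of_le hle'

/-- A suitable conjugate achieves the bound. -/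
theorem exists_conj_centP (hM : IsPModular p M) {B : Set (IrrCharacter G)} {Q P : Subgroup G}
    {f : Set (IrrCharacter (Subgroup.centralizer (Q : Set G)))}
    {e : Set (IrrCharacter (Subgroup.centralizer (P : Set G)))}
    (hmax : IsMaximalBrauerPair p M B P e) (hf : IsPBlock M f) (hle : SubpairLE p M Q f P e) :
    ∃ x : G, SubpairLE p M (Q.map (MulAut.conj x).toMonoidHom) (conjBlock Q x f) P e ∧
      p ^ blockDefect p f = Nat.card (P ⊓ Subgroup.centralizer
        ((Q.map (MulAut.conj x).toMonoidHom : Subgroup G) : Set G) : Subgroup G) := by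
  haveI := Fintype.ofFinite (Subgroup.centralizer (Q : Set G))
  have hQP : Q ≤ P := subpairLE_le (a := ⟨Q, f⟩) (b := ⟨P, e⟩) hle
  obtain ⟨D, hD⟩ := exists_defectGroup hM hf
  obtain ⟨g, hg, hstep⟩ := exists_step_of_defect_cent hM (hmax.1.1.1.to_le hQP) hf hD
  have hpair := (pairOf_normalSubpair_iff hM hstep B).1
    ((pairOf_subpair_iff hM (a := ⟨Q, f⟩) (b := ⟨P, e⟩) hle B).2 hmax.1)
  obtain ⟨x, hx⟩ := exists_conj_subpair hM (a := ⟨_, g⟩) (m := ⟨P, e⟩) hmax hpair
  have hle' : SubpairLE p M (Q.map (MulAut.conj x).toMonoidHom) (conjBlock Q x f) P e :=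
    Relation.ReflTransGen.head
      (normalSubpair_conj hM (a := ⟨Q, f⟩) (b := ⟨_, g⟩) hstep x) hx
  refine ⟨x, hle', le_antisymm ?_ ?_⟩
  · rw [← card_defectGroup hM hf hD]
    have hsub : (D.map (Subgroup.centralizer (Q : Set G)).subtype).map
        (MulAut.conj x).toMonoidHom ≤ P ⊓ Subgroup.centralizer
          ((Q.map (MulAut.conj x).toMonoidHom : Subgroup G) : Set G) := by
      refine le_inf ((Subgroup.map_mono le_sup_right).trans (subpairLE_le hx)) ?_
      rintro _ ⟨_, ⟨d, -, rfl⟩, rfl⟩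
      rw [conj_mem_cent_iff]
      simpa [mul_assoc] using d.2
    refine le_trans (le_of_eq ?_) (Subgroup.card_le_of_le hsub)
    rw [card_map_conj, Subgroup.card_map_of_injective (Subgroup.subtype_injective _)]
  · rw [← blockDefect_conjBlock (p := p) Q x f]
    exact card_centP_le hM hmax.1.1.1 (subpairLE_le (a := ⟨_, _⟩) (b := ⟨P, e⟩) hle')
      (isPBlock_conjBlock hf x) hmax.1.1.2 hle'

/-- `C_P(Q)` is a defect group of `f` as soon as it has the right order. -/
theorem isDefect_centP (hM : IsPModular p M) {Q P : Subgroup G} (hP : IsPGroup p P)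
    (hQP : Q ≤ P) {f : Set (IrrCharacter (Subgroup.centralizer (Q : Set G)))}
    {e : Set (IrrCharacter (Subgroup.centralizer (P : Set G)))} (hf : IsPBlock M f)
    (he : IsPBlock M e) (hle : SubpairLE p M Q f P e)
    (hcard : p ^ blockDefect p f ≤
      Nat.card (P ⊓ Subgroup.centralizer (Q : Set G) : Subgroup G)) :
    IsDefectGroup p M f
      ((P ⊓ Subgroup.centralizer (Q : Set G)).subgroupOf (Subgroup.centralizer (Q : Set G))) := by
  haveI := Fintype.ofFinite (Subgroup.centralizer (Q : Set G))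
  obtain ⟨D, hD, hle'⟩ := centP_le_defect hM hP hQP hf he hle
  refine (Subgroup.eq_of_le_of_card_ge hle' ?_) ▸ hD
  rw [card_defectGroup hM hf hD, Nat.card_congr (Subgroup.subgroupOfEquivOfLe
    (inf_le_right : P ⊓ Subgroup.centralizer (Q : Set G) ≤ _)).toEquiv]
  exact hcard

/-- `N_P(Q)` lies in the stabilizer of `f`. -/
theorem normP_le_pairStab (hM : IsPModular p M) {Q P : Subgroup G} (hP : IsPGroup p P)
    (hQP : Q ≤ P) {f : Set (IrrCharacter (Subgroup.centralizer (Q : Set G)))}
    {e : Set (IrrCharacter (Subgroup.centralizer (P : Set G)))} (hf : IsPBlock M f)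
    (he : IsPBlock M e) (hle : SubpairLE p M Q f P e) :
    P ⊓ Subgroup.normalizer (Q : Set G) ≤ pairStab Q f := by
  obtain ⟨g, -, hstep, -⟩ := normal_step_of_le hM hP hf he hle
    (le_inf hQP Subgroup.le_normalizer : Q ≤ P ⊓ Subgroup.normalizer (Q : Set G)) inf_le_left
    inf_le_right
  exact fun y hy => (mem_pairStab y).2 ⟨hy.2, hstep.2.2.2.2.1 y hy⟩

/-- The block of the stabilizer. -/
theorem exists_stabBlock (hM : IsPModular p M) {Q : Subgroup G} (hQ : IsPGroup p Q)
    {f : Set (IrrCharacter (Subgroup.centralizer (Q : Set G)))} (hf : IsPBlock M f)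
    {T : Subgroup G} (hQT : Q ≤ T) (hCT : Subgroup.centralizer (Q : Set G) ≤ T)
    (hT : T ≤ pairStab Q f) :
    ∃ F : Set (IrrCharacter T), IsPBlock M F ∧ ∀ t : T, blockCoeff F t =
      subgroupBlockCoeff (Subgroup.centralizer (Q : Set G)) f (t : G) := by
  obtain ⟨F, hF, h⟩ := exists_localBlock hM hQ hQT hCT
    (fun y hy => ((mem_pairStab y).1 (hT hy)).1) hf
  refine ⟨F, hF, fun t => ?_⟩
  rw [h t, torbFn_of_stable fun n hn => ((mem_pairStab n).1 (hT hn)).2, subgroupBlockCoeff_eq]

theorem card_normP_le (hM : IsPModular p M) {Q P : Subgroup G} (hP : IsPGroup p P)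
    (hQP : Q ≤ P) {f : Set (IrrCharacter (Subgroup.centralizer (Q : Set G)))}
    {e : Set (IrrCharacter (Subgroup.centralizer (P : Set G)))} (hf : IsPBlock M f)
    (he : IsPBlock M e) (hle : SubpairLE p M Q f P e)
    {F : Set (IrrCharacter (pairStab Q f))} (hF : IsPBlock M F)
    (hcoef : ∀ t : pairStab Q f, blockCoeff F t =
      subgroupBlockCoeff (Subgroup.centralizer (Q : Set G)) f (t : G)) :
    (∃ D : Subgroup (pairStab Q f), IsDefectGroup p M F D ∧
      (P ⊓ Subgroup.normalizer (Q : Set G)).subgroupOf (pairStab Q f) ≤ D) ∧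
    Nat.card (P ⊓ Subgroup.normalizer (Q : Set G) : Subgroup G) ≤ p ^ blockDefect p F := by
  haveI := Fintype.ofFinite (pairStab Q f)
  obtain ⟨g, -, hstep, -⟩ := normal_step_of_le hM hP hf he hle
    (le_inf hQP Subgroup.le_normalizer : Q ≤ P ⊓ Subgroup.normalizer (Q : Set G)) inf_le_left
    inf_le_right
  obtain ⟨D, hD, hle'⟩ := le_defect_of_step hM hstep (cent_le_pairStab Q f) hF hcoef
    (hP.to_le inf_le_left) (le_refl (P ⊓ Subgroup.normalizer (Q : Set G)))
  refine ⟨⟨D, hD, hle'⟩, ?_⟩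
  rw [← card_defectGroup hM hF hD, ← Nat.card_congr (Subgroup.subgroupOfEquivOfLe
      (normP_le_pairStab hM hP hQP hf he hle)).toEquiv]
  exact Subgroup.card_le_of_le hle'

theorem mem_pairStab_conj {Q : Subgroup G}
    {f : Set (IrrCharacter (Subgroup.centralizer (Q : Set G)))} (x y : G) :
    y ∈ pairStab (Q.map (MulAut.conj x).toMonoidHom) (conjBlock Q x f) ↔
      x⁻¹ * y * x ∈ pairStab Q f := by
  show conjIdx y (conjIdx x ⟨Q, f⟩) = conjIdx x ⟨Q, f⟩ ↔
    conjIdx (x⁻¹ * y * x) ⟨Q, f⟩ = ⟨Q, f⟩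
  rw [conjIdx_mul]
  constructor
  · intro h
    rw [mul_assoc, ← conjIdx_mul, h, conjIdx_mul, inv_mul_cancel, conjIdx_one]
  · intro h
    conv_rhs => rw [← h, conjIdx_mul, show x * (x⁻¹ * y * x) = y * x by group]

/-- The isomorphism between conjugate stabilizers. -/
noncomputable def stabE (Q : Subgroup G)
    (f : Set (IrrCharacter (Subgroup.centralizer (Q : Set G)))) (x : G) :
    pairStab (Q.map (MulAut.conj x).toMonoidHom) (conjBlock Q x f) ≃* pairStab Q f where
  toFun y := ⟨x⁻¹ * (y : G) * x, (mem_pairStab_conj x _).1 y.2⟩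
  invFun k := ⟨x * (k : G) * x⁻¹, (mem_pairStab_conj x _).2 (by simp [mul_assoc])⟩
  left_inv c := Subtype.ext (by simp [mul_assoc])
  right_inv k := Subtype.ext (by simp [mul_assoc])
  map_mul' a b := by
    apply Subtype.ext
    show x⁻¹ * ((a : G) * b) * x = x⁻¹ * (a : G) * x * (x⁻¹ * (b : G) * x)
    group

theorem stabBlock_conj {Q : Subgroup G}
    {f : Set (IrrCharacter (Subgroup.centralizer (Q : Set G)))} (x : G)
    {F : Set (IrrCharacter (pairStab Q f))}
    (hcoef : ∀ t : pairStab Q f, blockCoeff F t =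
      subgroupBlockCoeff (Subgroup.centralizer (Q : Set G)) f (t : G))
    (t : pairStab (Q.map (MulAut.conj x).toMonoidHom) (conjBlock Q x f)) :
    blockCoeff (irrPull (stabE Q f x) '' F) t = subgroupBlockCoeff (Subgroup.centralizer
      ((Q.map (MulAut.conj x).toMonoidHom : Subgroup G) : Set G)) (conjBlock Q x f) (t : G) := by
  rw [blockCoeff_image, hcoef, sext_conjBlock]
  rfl

/-- A suitable conjugate achieves the bound for stabilizers. -/
theorem exists_conj_normP (hM : IsPModular p M) {B : Set (IrrCharacter G)} {Q P : Subgroup G}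
    {f : Set (IrrCharacter (Subgroup.centralizer (Q : Set G)))}
    {e : Set (IrrCharacter (Subgroup.centralizer (P : Set G)))}
    (hmax : IsMaximalBrauerPair p M B P e) (hf : IsPBlock M f) (hle : SubpairLE p M Q f P e)
    {F : Set (IrrCharacter (pairStab Q f))} (hF : IsPBlock M F)
    (hcoef : ∀ t : pairStab Q f, blockCoeff F t =
      subgroupBlockCoeff (Subgroup.centralizer (Q : Set G)) f (t : G)) :
    ∃ x : G, SubpairLE p M (Q.map (MulAut.conj x).toMonoidHom) (conjBlock Q x f) P e ∧
      p ^ blockDefect p F = Nat.card (P ⊓ Subgroup.normalizer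
        ((Q.map (MulAut.conj x).toMonoidHom : Subgroup G) : Set G) : Subgroup G) := by
  haveI := Fintype.ofFinite (pairStab Q f)
  have hQP : Q ≤ P := subpairLE_le (a := ⟨Q, f⟩) (b := ⟨P, e⟩) hle
  obtain ⟨D, hD⟩ := exists_defectGroup hM hF
  obtain ⟨hQD, g, hg, hstep⟩ := exists_step_of_defect hM (hmax.1.1.1.to_le hQP) hf
    (self_le_pairStab hM Q f) le_rfl hF hcoef hD
  have hpair := (pairOf_normalSubpair_iff hM hstep B).1
    ((pairOf_subpair_iff hM (a := ⟨Q, f⟩) (b := ⟨P, e⟩) hle B).2 hmax.1)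
  obtain ⟨x, hx⟩ := exists_conj_subpair hM (a := ⟨_, g⟩) (m := ⟨P, e⟩) hmax hpair
  have hle' : SubpairLE p M (Q.map (MulAut.conj x).toMonoidHom) (conjBlock Q x f) P e :=
    Relation.ReflTransGen.head
      (normalSubpair_conj hM (a := ⟨Q, f⟩) (b := ⟨_, g⟩) hstep x) hx
  refine ⟨x, hle', le_antisymm ?_ ?_⟩
  · rw [← card_defectGroup hM hF hD]
    have hsub : (D.map (pairStab Q f).subtype).map (MulAut.conj x).toMonoidHom ≤
        P ⊓ Subgroup.normalizer ((Q.map (MulAut.conj x).toMonoidHom : Subgroup G) : Set G) :=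
      le_inf (subpairLE_le hx)
        (normalSubpair_conj hM (a := ⟨Q, f⟩) (b := ⟨_, g⟩) hstep x).2.2.2.1
    refine le_trans (le_of_eq ?_) (Subgroup.card_le_of_le hsub)
    rw [card_map_conj, Subgroup.card_map_of_injective (Subgroup.subtype_injective _)]
  · rw [← blockDefect_image (p := p) (stabE Q f x) F]
    exact (card_normP_le hM hmax.1.1.1 (subpairLE_le (a := ⟨_, _⟩) (b := ⟨P, e⟩) hle')
      (isPBlock_conjBlock hf x) hmax.1.1.2 hle' (isPBlock_image _ hF)
      (stabBlock_conj x hcoef)).2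

/-- `N_P(Q)` is a defect group of the stabilizer block as soon as it has the right order. -/
theorem isDefect_normP (hM : IsPModular p M) {Q P : Subgroup G} (hP : IsPGroup p P)
    (hQP : Q ≤ P) {f : Set (IrrCharacter (Subgroup.centralizer (Q : Set G)))}
    {e : Set (IrrCharacter (Subgroup.centralizer (P : Set G)))} (hf : IsPBlock M f)
    (he : IsPBlock M e) (hle : SubpairLE p M Q f P e)
    {F : Set (IrrCharacter (pairStab Q f))} (hF : IsPBlock M F)
    (hcoef : ∀ t : pairStab Q f, blockCoeff F t =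
      subgroupBlockCoeff (Subgroup.centralizer (Q : Set G)) f (t : G))
    (hcard : p ^ blockDefect p F ≤
      Nat.card (P ⊓ Subgroup.normalizer (Q : Set G) : Subgroup G)) :
    IsDefectGroup p M F ((P ⊓ Subgroup.normalizer (Q : Set G)).subgroupOf (pairStab Q f)) := by
  haveI := Fintype.ofFinite (pairStab Q f)
  obtain ⟨⟨D, hD, hle'⟩, -⟩ := card_normP_le hM hP hQP hf he hle hF hcoef
  refine (Subgroup.eq_of_le_of_card_ge hle' ?_) ▸ hD
  rw [card_defectGroup hM hF hD, Nat.card_congr (Subgroup.subgroupOfEquivOfLe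
    (normP_le_pairStab hM hP hQP hf he hle)).toEquiv]
  exact hcard

end CfsgLib.Blocks
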