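import Cfsg.Agent.Lib.Blocks.CentralDefect
import Cfsg.Agent.Lib.Blocks.FirstMain
import Cfsg.Agent.Lib.Blocks.PairDefect

/-!
# Knörr's vanishing criterion for defect zero
-/

namespace CfsgLib.Blocks

open Cfsg CfsgLib.CharTheory

set_option linter.unusedVariables false
set_option linter.unusedSimpArgs false
set_option linter.style.haveILetI false
set_option linter.unusedSectionVars false

universe u

variable {p : ℕ} {M : Ideal AlgInt} {G : Type u} [Group G] [Fintype G]

theorem exists_isPModular {p : ℕ} (hp : p.Prime) : ∃ M : Ideal AlgInt, IsPModular p M := by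
  have hu : ¬ IsUnit (p : AlgInt) := by
    intro h
    obtain ⟨b, hb⟩ := isUnit_iff_exists_inv.1 h
    have hb' : (p : ℂ) * (b : ℂ) = 1 := by
      simpa using congrArg (Subtype.val : AlgInt → ℂ) hb
    have hp0 : (p : ℂ) ≠ 0 := Nat.cast_ne_zero.2 hp.ne_zero
    have hi : IsIntegral ℤ (algebraMap ℚ ℂ ((p : ℚ)⁻¹)) := by
      rw [map_inv₀, map_natCast, ← eq_inv_of_mul_eq_one_right hb']
      exact b.2
    rw [isIntegral_algebraMap_iff (algebraMap ℚ ℂ).injective] at hi
    obtain ⟨n, hn⟩ := IsIntegrallyClosed.isIntegral_iff.1 hi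
    have h2 : (n : ℚ) * p = 1 := by
      rw [show (n : ℚ) = (p : ℚ)⁻¹ by simpa using hn, inv_mul_cancel₀]
      exact_mod_cast hp.ne_zero
    have h3 : (p : ℤ) ∣ 1 := ⟨n, by rw [mul_comm]; exact_mod_cast h2.symm⟩
    exact hp.not_dvd_one (by exact_mod_cast h3)
  obtain ⟨M, hM, hle⟩ := Ideal.exists_le_maximal (Ideal.span {(p : AlgInt)})
    (fun h => hu (Ideal.span_singleton_eq_top.1 h))
  exact ⟨M, hp, hM, hle (Ideal.mem_span_singleton_self _)⟩

theorem central_value_pow {z : G} (hz : z ∈ Subgroup.center G) (χ : IrrCharacter G) :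
    ((χ : G → ℂ) z / (χ : G → ℂ) 1) ^ orderOf z = 1 := by
  classical
  set ω := (χ : G → ℂ) z / (χ : G → ℂ) 1 with hω
  have hcl : IsClassFunction G (fun x : G => if x = z then (1 : ℂ) else 0) := by
    intro a b
    have : b * a * b⁻¹ = z ↔ a = z := by
      constructor
      · intro h
        have h2 : b⁻¹ * z * b = z := by
          rw [mul_assoc, ← Subgroup.mem_center_iff.1 hz b, inv_mul_cancel_left]
        rw [← h2, ← h]; group
      · intro h
        rw [h, Subgroup.mem_center_iff.1 hz b, mul_inv_cancel_right]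
    simp only [this]
  have hmul : ∀ g, (χ : G → ℂ) (z * g) = ω * (χ : G → ℂ) g := by
    intro g
    have h := sum_classFun_mul_shift hcl χ g
    simpa [omega, hω] using h
  have hiter : ∀ k : ℕ, (χ : G → ℂ) (z ^ k) = ω ^ k * (χ : G → ℂ) 1 := by
    intro k
    induction k with
    | zero => simp
    | succ k ih => rw [pow_succ', hmul, ih, pow_succ' ω]; ring
  have h := hiter (orderOf z)
  rw [pow_orderOf_eq_one] at h
  exact (mul_eq_right₀ (irr_one_ne_zero χ)).1 h.symm

/-- Values of a central `p`-element are congruent to the degree. -/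
theorem res_central_value (hM : IsPModular p M) {z : G} (hz : z ∈ Subgroup.center G)
    (hord : orderOf z = p) (χ : IrrCharacter G) :
    MemLocalRing M ((χ : G → ℂ) z / (χ : G → ℂ) 1) ∧
      res hM ((χ : G → ℂ) z / (χ : G → ℂ) 1) = 1 := by
  have h := central_value_pow hz χ
  rw [hord] at h
  have hm : MemLocalRing M ((χ : G → ℂ) z / (χ : G → ℂ) 1) :=
    memRing_of_isIntegral hM (IsIntegral.of_pow hM.1.pos (h ▸ isIntegral_one))
  refine ⟨hm, ?_⟩
  haveI := res_charP hM
  haveI := res_isDomain hM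
  haveI : Fact p.Prime := ⟨hM.1⟩
  have h1 : (res hM ((χ : G → ℂ) z / (χ : G → ℂ) 1) - 1) ^ p = 0 := by
    rw [sub_pow_char, one_pow, ← res_pow hM hm, h, res_one, sub_self]
  exact sub_eq_zero.1 (pow_eq_zero_iff hM.1.ne_zero |>.1 h1)

theorem card_pTorsion {Z : Subgroup G} (hp : p.Prime) (hZc : ∀ a ∈ Z, ∀ b ∈ Z, a * b = b * a)
    (hZp : IsPGroup p Z) (hne : Z ≠ ⊥) :
    p ∣ Nat.card {z : G // z ∈ Z ∧ z ^ p = 1} := by
  classical
  haveI : Fact p.Prime := ⟨hp⟩
  let S : Subgroup G :=
    { carrier := {z | z ∈ Z ∧ z ^ p = 1}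
      one_mem' := ⟨Z.one_mem, one_pow _⟩
      mul_mem' := fun {a b} ha hb => ⟨Z.mul_mem ha.1 hb.1, by
        rw [Commute.mul_pow (hZc a ha.1 b hb.1), ha.2, hb.2, one_mul]⟩
      inv_mem' := fun {a} ha => ⟨Z.inv_mem ha.1, by rw [inv_pow, ha.2, inv_one]⟩ }
  show p ∣ Nat.card S
  haveI : Nontrivial Z := (Subgroup.nontrivial_iff_ne_bot Z).2 hne
  obtain ⟨k, hk, hcard⟩ := (IsPGroup.nontrivial_iff_card hZp).1 inferInstance
  obtain ⟨x, hx⟩ := exists_prime_orderOf_dvd_card' p (hcard ▸ dvd_pow_self p hk.ne')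
  have hxS : (x : G) ∈ S := ⟨x.2, by
    rw [← hx, ← Subgroup.orderOf_coe]; exact pow_orderOf_eq_one _⟩
  have h2 : orderOf (⟨x, hxS⟩ : S) = p := by
    rw [← Subgroup.orderOf_coe, ← hx, ← Subgroup.orderOf_coe]
  exact h2 ▸ orderOf_dvd_natCard _

/-- A block whose character vanishes on the elements of order `p` has defect zero. -/
theorem defect_zero_of_vanish (hM : IsPModular p M) (χ : IrrCharacter G)
    (hvan : ∀ g : G, orderOf g = p → (χ : G → ℂ) g = 0) :
    blockDefect p (blockOf M (χ : G → ℂ)) = 0 := by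
  classical
  haveI : Fact p.Prime := ⟨hM.1⟩
  by_contra hd
  have hB : IsPBlock M (blockOf M (χ : G → ℂ)) := blockOf_isPBlock χ
  set B := blockOf M (χ : G → ℂ) with hBdef
  obtain ⟨D, hD⟩ := exists_defectGroup hM hB
  have hDp := defectGroup_isPGroup hD
  have hDne : D ≠ ⊥ := by
    intro h
    have h2 := card_defectGroup hM hB hD
    rw [h, Subgroup.card_bot] at h2
    exact hd ((Nat.pow_eq_one.1 h2.symm).resolve_left hM.1.ne_one)
  set C := Subgroup.centralizer (D : Set G) with hC
  obtain ⟨e, hmax⟩ := exists_maximal_at hM hB hD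
  haveI := Fintype.ofFinite C
  obtain ⟨ξ, hξ⟩ := bne hM hmax.1.1.2
  -- the defect group of `e`
  set Z := (D ⊓ C).subgroupOf C with hZdef
  have hcard : Nat.card Z = p ^ blockDefect p e := by
    have hrefl : SubpairLE p M D e D e := Relation.ReflTransGen.refl
    obtain ⟨x, hle, hx⟩ := exists_conj_centP hM hmax hmax.1.1.2 hrefl
    have heq : D.map (MulAut.conj x).toMonoidHom = D :=
      Subgroup.eq_of_le_of_card_ge (subpairLE_le (a := ⟨_, _⟩) (b := ⟨D, e⟩) hle)
        (le_of_eq (card_map_conj D x).symm)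
    rw [heq] at hx
    rw [hx, hZdef, Nat.card_congr (Subgroup.subgroupOfEquivOfLe
      (inf_le_right : D ⊓ C ≤ C)).toEquiv]
  have hZc : Z ≤ Subgroup.center C := by
    intro z hz
    rw [Subgroup.mem_center_iff]
    intro c
    exact Subtype.ext (c.2 _ (Subgroup.mem_inf.1 hz).1).symm
  have hZp : IsPGroup p Z :=
    (hDp.to_le inf_le_left).of_equiv (Subgroup.subgroupOfEquivOfLe inf_le_right).symm
  obtain ⟨-, hvan', -⟩ := central_props hM hZc hZp hmax.1.1.2 hcard hξ
  -- the test function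
  set f : G → ℂ := fun g => if orderOf g = p then 1 else 0 with hf
  have hfc : IsClassFunction G f := fun a b => by
    have : orderOf (b * a * b⁻¹) = orderOf a :=
      (MulAut.conj b).orderOf_eq a
    simp only [hf, this]
  have hfm : ∀ x, MemLocalRing M (f x) := fun x => by
    simp only [hf]
    split_ifs
    · exact (loc hM).one_mem
    · exact (loc hM).zero_mem
  have hlam0 : lam hM D f ξ = 0 := by
    obtain ⟨φ, hφ⟩ := exists_lam_irr hM hDp ξ
    have hφB := lam_irr_mem hM hB hφ (pairOf_lam hM hmax.1 hξ)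
    have h0 : omega (χ : G → ℂ) f = 0 := by
      rw [omega, div_eq_zero_iff]
      refine Or.inl (Finset.sum_eq_zero fun g _ => ?_)
      simp only [hf]
      split_ifs with h
      · rw [hvan g h, mul_zero]
      · rw [zero_mul]
    rw [hφ f hfc hfm, Zloc_res_congr hM (omega_mem_Zloc hM hfc hfm)
      (sameBlock_of_mem hM hB hφB (mem_blockOf_self hM χ)), h0, res_zero hM]
  -- the value on `C(D)`
  have hval : ∀ c : C, f c * (ξ : C → ℂ) c / (ξ : C → ℂ) 1 =
      if orderOf c = p ∧ c ∈ Z then (ξ : C → ℂ) c / (ξ : C → ℂ) 1 else 0 := by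
    intro c
    simp only [hf, Subgroup.orderOf_coe]
    by_cases h : orderOf c = p
    · by_cases hz : c ∈ Z
      · simp [h, hz]
      · rw [if_pos h, one_mul, if_neg (fun h' => hz h'.2)]
        rw [hvan' c, zero_div]
        rintro ⟨u, hu, y, hy, hyr, hcy⟩
        apply hz
        have hy1 : y = 1 := by
          obtain ⟨k, hk⟩ := hZp ⟨u, hu⟩
          have hk' : u ^ p ^ k = 1 := by simpa using congrArg Subtype.val hk
          have h1 : (u * y) ^ p ^ (k + 1) = 1 := by
            rw [← hcy]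
            exact orderOf_dvd_iff_pow_eq_one.1 (h ▸ dvd_pow_self p (Nat.succ_ne_zero k))
          rw [Commute.mul_pow (show Commute u y from hy u hu), pow_succ, pow_mul, hk', one_pow, one_mul]
            at h1
          exact orderOf_eq_one_iff.1 (Nat.eq_one_of_dvd_coprimes
            (((hM.1.coprime_iff_not_dvd.2 hyr).pow_left (k + 1)))
            (by rw [pow_succ]; exact orderOf_dvd_of_pow_eq_one h1) dvd_rfl)
        rw [hcy, hy1, mul_one]; exact hu
    · simp [h]
  have hlam : lam hM D f ξ = res hM (∑ c : C, if orderOf c = p ∧ c ∈ Z then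
      (ξ : C → ℂ) c / (ξ : C → ℂ) 1 else 0) := by
    rw [lam, brauerOmega_eq_omega, omega, Finset.sum_div]
    exact congrArg _ (Finset.sum_congr rfl fun c _ => hval c)
  rw [hlam, ← Finset.sum_filter] at hlam0
  have hmem : ∀ c ∈ Finset.univ.filter (fun c : C => orderOf c = p ∧ c ∈ Z),
      MemLocalRing M ((ξ : C → ℂ) c / (ξ : C → ℂ) 1) ∧
        res hM ((ξ : C → ℂ) c / (ξ : C → ℂ) 1) = 1 := fun c hc =>
    res_central_value hM (hZc (Finset.mem_filter.1 hc).2.2) (Finset.mem_filter.1 hc).2.1 ξ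
  rw [res_sum hM fun c hc => (hmem c hc).1, Finset.sum_congr rfl fun c hc => (hmem c hc).2,
    Finset.sum_const, nsmul_eq_mul, mul_one] at hlam0
  haveI := res_charP hM
  rw [CharP.cast_eq_zero_iff _ p] at hlam0
  have hZne : Z ≠ ⊥ := by
    haveI : Nontrivial D := (Subgroup.nontrivial_iff_ne_bot D).2 hDne
    obtain ⟨z, hz⟩ : ∃ z : Subgroup.center D, z ≠ 1 :=
      haveI := hDp.center_nontrivial
      exists_ne 1
    intro h
    have hzC : ((z : D) : G) ∈ C := fun d hd =>
      congrArg Subtype.val (Subgroup.mem_center_iff.1 z.2 ⟨d, hd⟩)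
    have hzZ : (⟨((z : D) : G), hzC⟩ : C) ∈ Z := Subgroup.mem_inf.2 ⟨(z : D).2, hzC⟩
    rw [h, Subgroup.mem_bot] at hzZ
    exact hz (Subtype.ext (Subtype.ext (congrArg (fun c : C => (c : G)) hzZ)))
  have hdiv := card_pTorsion hM.1 (fun a ha b hb => (Subgroup.mem_center_iff.1 (hZc hb) a))
    hZp hZne
  have hins : Finset.univ.filter (fun c : C => c ∈ Z ∧ c ^ p = 1) =
      insert 1 (Finset.univ.filter (fun c : C => orderOf c = p ∧ c ∈ Z)) := by
    ext c
    simp only [Finset.mem_filter, Finset.mem_univ, true_and, Finset.mem_insert]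
    constructor
    · rintro ⟨hz, hp⟩
      by_cases h1 : c = 1
      · exact Or.inl h1
      · exact Or.inr ⟨orderOf_eq_prime hp h1, hz⟩
    · rintro (rfl | ⟨ho, hz⟩)
      · exact ⟨Z.one_mem, one_pow _⟩
      · exact ⟨hz, ho ▸ pow_orderOf_eq_one c⟩
  rw [Nat.card_eq_fintype_card, Fintype.card_subtype, hins, Finset.card_insert_of_notMem
    (by simp [hM.1.ne_one.symm])] at hdiv
  exact hM.1.not_dvd_one ((Nat.dvd_add_right hlam0).1 hdiv)

end CfsgLib.Blocks
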