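import Cfsg.Agent.Lib.Blocks.SecondMain
import Cfsg.Agent.Lib.Blocks.Principal
import Cfsg.Agent.Lib.Blocks.Rank
import Cfsg.Agent.Lib.Blocks.CentralDefect
import Cfsg.Agent.Lib.CharTheory.PowerMap
import Cfsg.Agent.Lib.PComplement
import Cfsg.Agent.Lib.Blocks.Covering

/-!
# The principal block for a Klein four Sylow subgroup and one class of involutions
-/

namespace CfsgLib.Blocks

open Cfsg CfsgLib.CharTheory
open scoped ComplexConjugate

set_option linter.unusedVariables false
set_option linter.unusedSimpArgs false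
set_option linter.style.haveILetI false
set_option linter.unusedSectionVars false

universe u

variable {M : Ideal AlgInt} {G : Type u} [Group G] [Fintype G]

theorem involution_cases {P : Subgroup G} (hP : Nat.card P = 4) {u v : G} (hu : u ∈ P) (hv : v ∈ P)
    (hu1 : u ≠ 1) (hv1 : v ≠ 1) (hne : v ≠ u) (hu2 : u * u = 1) (x : G) (hx : x ∈ P) :
    x = 1 ∨ x = u ∨ x = v ∨ x = u * v := by
  classical
  haveI := Fintype.ofFinite P
  have hs : ({⟨1, P.one_mem⟩, ⟨u, hu⟩, ⟨v, hv⟩, ⟨u * v, P.mul_mem hu hv⟩} : Finset P) =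
      Finset.univ := by
    refine Finset.eq_univ_of_card _ ?_
    rw [← Nat.card_eq_fintype_card, hP, Finset.card_insert_of_notMem, Finset.card_insert_of_notMem,
      Finset.card_pair]
    · intro h
      exact hu1 (mul_eq_right.1 (congrArg Subtype.val h).symm)
    · simp only [Finset.mem_insert, Finset.mem_singleton, Subtype.mk.injEq, not_or]
      exact ⟨Ne.symm hne, fun h => hv1 (mul_eq_left.1 h.symm)⟩
    · simp only [Finset.mem_insert, Finset.mem_singleton, Subtype.mk.injEq, not_or]
      refine ⟨Ne.symm hu1, Ne.symm hv1, fun h => hne ?_⟩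
      have h2 : u * v = u * u := by rw [hu2, ← h]
      exact mul_left_cancel h2
  have hxm := Finset.mem_univ (⟨x, hx⟩ : P)
  rw [← hs] at hxm
  simpa using hxm

/-- The centralizer of an involution of a Klein four Sylow subgroup is `2`-nilpotent. -/
theorem centralizer_complement (hM : IsPModular 2 M) (P : Sylow 2 G) (hP : Nat.card P = 4)
    (hexp : ∀ x : P, x * x = 1) {u : G} (hu : u ∈ (P : Subgroup G)) (hu1 : u ≠ 1) :
    ∃ N : Subgroup (Subgroup.centralizer ({u} : Set G)), N.Normal ∧ ¬ 2 ∣ Nat.card N ∧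
      N.index = 4 := by
  classical
  haveI : Fact (Nat.Prime 2) := ⟨Nat.prime_two⟩
  set C := Subgroup.centralizer ({u} : Set G) with hC
  have hP' : Nat.card (P : Subgroup G) = 4 := hP
  have he : ∀ x ∈ (P : Subgroup G), x * x = 1 := fun x hx => congrArg Subtype.val (hexp ⟨x, hx⟩)
  have hcomm : ∀ x ∈ (P : Subgroup G), ∀ y ∈ (P : Subgroup G), x * y = y * x := fun x hx y hy => by
    have hinv : ∀ z ∈ (P : Subgroup G), z⁻¹ = z := fun z hz => inv_eq_of_mul_eq_one_right (he z hz)
    calc x * y = (x * y)⁻¹ := (hinv _ ((P : Subgroup G).mul_mem hx hy)).symm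
      _ = y * x := by rw [mul_inv_rev, hinv y hy, hinv x hx]
  have hPC : (P : Subgroup G) ≤ C := fun x hx =>
    Subgroup.mem_centralizer_singleton_iff.2 (hcomm x hx u hu)
  set S : Sylow 2 C := P.subtype hPC with hS
  have hSsub : ∀ x : C, x ∈ (S : Subgroup C) ↔ (x : G) ∈ (P : Subgroup G) := fun x => Iff.rfl
  have hcompl : HasNormalPComplement 2 C := by
    refine CfsgLib.hasNormalPComplement_of_normalizer_le_centralizer S fun n hn => ?_
    set Nm := Subgroup.normalizer ((S : Subgroup C) : Set C)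
    set Z := (Subgroup.centralizer ((S : Subgroup C) : Set C)).subgroupOf Nm with hZ
    haveI : Z.Normal := ⟨fun z hz g => by
      rw [hZ, Subgroup.mem_subgroupOf] at hz ⊢
      intro s hs
      have hs' : (g : C)⁻¹ * s * g ∈ (S : Subgroup C) :=
        (Subgroup.mem_normalizer_iff''.1 g.2 s).1 hs
      have h1 := hz _ hs'
      simp only [Subgroup.coe_mul, Subgroup.coe_inv]
      calc s * ((g : C) * z * (g : C)⁻¹) = g * (((g : C)⁻¹ * s * g) * z) * (g : C)⁻¹ := by group
        _ = g * ((z : C) * ((g : C)⁻¹ * s * g)) * (g : C)⁻¹ := by rw [h1]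
        _ = g * (z : C) * (g : C)⁻¹ * s := by group⟩
    have hsq : ∀ m : Nm, m ^ 2 ∈ Z := by
      intro m
      rw [hZ, Subgroup.mem_subgroupOf]
      intro s hs
      set g : G := ((m : C) : G) with hg
      have hgu : g * u = u * g := Subgroup.mem_centralizer_singleton_iff.1 (m : C).2
      have hconj : ∀ x ∈ (P : Subgroup G), g * x * g⁻¹ ∈ (P : Subgroup G) := fun x hx =>
        (hSsub _).1 ((Subgroup.mem_normalizer_iff.1 m.2 ⟨x, hPC hx⟩).1 ((hSsub _).2 hx))
      apply Subtype.ext
      show (s : G) * (((m : C) ^ 2 : C) : G) = (((m : C) ^ 2 : C) : G) * (s : G)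
      simp only [SubgroupClass.coe_pow, ← hg]
      suffices h : g * (g * (s : G) * g⁻¹) * g⁻¹ = (s : G) by
        rw [sq]
        conv_lhs => rw [← h]
        group
      by_cases hsu : (s : G) = u
      · rw [hsu, hgu, mul_inv_cancel_right, hgu, mul_inv_cancel_right]
      by_cases hs1 : (s : G) = 1
      · rw [hs1]; group
      have hs' := (hSsub s).1 hs
      rcases involution_cases hP' hu hs' hu1 hs1 hsu (he u hu) _ (hconj _ hs') with h | h | h | h
      · exact absurd (by simpa using h : (s : G) = 1) hs1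
      · exfalso
        apply hsu
        have h2 : g * (s : G) * g⁻¹ = g * u * g⁻¹ := by rw [h, hgu, mul_inv_cancel_right]
        exact mul_left_cancel (mul_right_cancel h2)
      · rw [h, h]
      · rw [h, show g * (u * (s : G)) * g⁻¹ = (g * u * g⁻¹) * (g * (s : G) * g⁻¹) by group, h, hgu,
          mul_inv_cancel_right, ← mul_assoc, he u hu, one_mul]
    have hodd : ¬ 2 ∣ Z.index := by
      have hSZ : (S : Subgroup C) ≤ Subgroup.centralizer ((S : Subgroup C) : Set C) := fun a ha b hb =>
        Subtype.ext (hcomm _ ((hSsub b).1 hb) _ ((hSsub a).1 ha))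
      intro h
      exact S.not_dvd_index ((h.trans ((Subgroup.relIndex_dvd_of_le_left Nm hSZ).trans
        (dvd_mul_right _ _))).trans (Subgroup.relIndex_mul_index Subgroup.le_normalizer).dvd)
    have hn' : (⟨n, hn⟩ : Nm) ∈ Z := by
      rw [← QuotientGroup.eq_one_iff, ← orderOf_eq_one_iff]
      refine Nat.eq_one_of_dvd_coprimes (Nat.prime_two.coprime_iff_not_dvd.2 hodd) ?_
        (Subgroup.index_eq_card Z ▸ orderOf_dvd_natCard _)
      refine orderOf_dvd_of_pow_eq_one ?_
      rw [← QuotientGroup.mk_pow, QuotientGroup.eq_one_iff]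
      exact hsq _
    exact Subgroup.mem_subgroupOf.1 hn'
  obtain ⟨Q, N, hN, hNQ⟩ := hcompl
  have hQ : Nat.card Q = 4 := by
    rw [Sylow.card_eq_multiplicity, ← S.card_eq_multiplicity, ← hP']
    exact Nat.card_congr (Subgroup.subgroupOfEquivOfLe hPC).toEquiv
  have hidx : N.index = 4 := (Subgroup.IsComplement'.index_eq_card hNQ.symm).trans hQ
  refine ⟨N, hN, fun h => ?_, hidx⟩
  have h1 := Nat.mul_dvd_mul_right h 4
  rw [← hidx, Subgroup.card_mul_index, ← Subgroup.card_mul_index (Q : Subgroup C), hQ, hidx,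
    mul_comm 2] at h1
  exact Q.not_dvd_index ((Nat.mul_dvd_mul_iff_left (by norm_num)).1 h1)

/-- The structure of the principal block. -/
theorem klein_principal (hM : IsPModular 2 M) (P : Sylow 2 G) (hP : Nat.card P = 4)
    (hexp : ∀ x : P, x * x = 1) (hone : ∀ s t : G, orderOf s = 2 → orderOf t = 2 → IsConj s t) :
    ∃ a : IrrCharacter G → ℤ, (bset (principalBlock M G)).card = 4 ∧ a (oneIrr G) = 1 ∧
      (∀ χ ∈ principalBlock M G, (a χ = 1 ∨ a χ = -1) ∧
        (4 : ℤ) ∣ (charDegree (χ : G → ℂ) : ℤ) - a χ ∧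
        (∀ z : G, orderOf z = 2 → (χ : G → ℂ) z = (a χ : ℂ)) ∧
        ∀ g : G, 2 ∣ orderOf g → (χ : G → ℂ) g = (a χ : ℂ)) ∧
      ∀ y : G, ¬ 2 ∣ orderOf y →
        ∑ χ ∈ bset (principalBlock M G), (a χ : ℂ) * (χ : G → ℂ) y = 0 := by
  classical
  haveI : Fact (Nat.Prime 2) := ⟨Nat.prime_two⟩
  set B := principalBlock M G with hBdef
  have hB : IsPBlock M B := principalBlock_isPBlock
  have hP' : Nat.card (P : Subgroup G) = 4 := hP
  obtain ⟨⟨u, hu⟩, huo⟩ := exists_prime_orderOf_dvd_card' (G := (P : Subgroup G)) 2 (hP' ▸ by norm_num)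
  rw [Subgroup.orderOf_mk] at huo
  have hu1 : u ≠ 1 := fun h => by rw [h, orderOf_one] at huo; omega
  have hx : ∃ k : ℕ, orderOf u = 2 ^ k := ⟨1, by rw [huo, pow_one]⟩
  set C := Subgroup.centralizer ({u} : Set G) with hC
  obtain ⟨N, hN, hNodd, hNidx⟩ := centralizer_complement hM P hP hexp hu hu1
  haveI := Fintype.ofFinite C
  have hc := isCentr_singleton (G := G) u
  have hB0 := principalBlock_of_complement (G := C) hM hNodd ⟨2, by rw [hNidx]; norm_num⟩
  have hov := overBlocks_principal hM hc hx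
  have hreg : ∀ y : C, ¬ 2 ∣ orderOf y → y ∈ N := fun y hy =>
    reg_mem_of_index hM ⟨2, by rw [hNidx]; norm_num⟩ hy
  -- the values on the section of `u`
  have hsec : ∀ χ ∈ B, ∀ y : C, ¬ 2 ∣ orderOf y → (χ : G → ℂ) (u * (y : G)) = (χ : G → ℂ) u := by
    intro χ hχ y hy
    have h1 := sec_eq_overBlocks hM hc hx hB χ hy
    have h2 := sec_eq_overBlocks hM hc hx hB χ (y := (1 : C)) (by simp)
    rw [ind_of_mem hχ, one_mul, hov, blockPart_apply] at h1 h2
    rw [OneMemClass.coe_one, mul_one] at h2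
    rw [← h1, ← h2]
    refine Finset.sum_congr rfl fun ψ hψ => ?_
    have hψ' := mem_bset.1 hψ
    rw [hB0] at hψ'
    rw [hψ' y (hreg y hy)]
  -- integrality
  have hint : ∀ χ : IrrCharacter G, ∃ z : ℤ, (χ : G → ℂ) u = z := by
    intro χ
    refine rational_int_of_invariant (isCharacter_of_irr χ.2) u fun m hm => ?_
    have h2 : 2 ∣ Nat.card G := huo ▸ orderOf_dvd_natCard u
    obtain ⟨k, rfl⟩ : Odd m := Nat.not_even_iff_odd.1 fun he =>
      Nat.prime_two.not_dvd_one (hm ▸ Nat.dvd_gcd he.two_dvd h2)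
    rw [pow_add, pow_mul, ← huo, pow_orderOf_eq_one, one_pow, one_mul, pow_one]
  choose a ha using hint
  have hinv : ∀ z : G, orderOf z = 2 → ∀ χ : IrrCharacter G, (χ : G → ℂ) z = (χ : G → ℂ) u := by
    intro z hz χ
    obtain ⟨g, hg⟩ := isConj_iff.1 (hone u z huo hz)
    rw [← hg]; exact irr_isClassFun χ u g
  -- congruences
  have hcong : ∀ χ : IrrCharacter G, (4 : ℤ) ∣ (charDegree (χ : G → ℂ) : ℤ) + 3 * a χ := by
    intro χ
    haveI := Fintype.ofFinite (P : Subgroup G)
    obtain ⟨m, hm⟩ := classInner_char_nat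
      (isCharacter_restrict (isCharacter_of_irr χ.2) (P : Subgroup G))
      (isCharacter_of_irr (isIrrCharacter_trivial : IsIrrCharacter (P : Subgroup G) fun _ => 1))
    refine ⟨m, ?_⟩
    rw [classInner, inv_mul_eq_iff_eq_mul₀ (Nat.cast_ne_zero.2 Nat.card_pos.ne'), hP'] at hm
    simp only [map_one, mul_one] at hm
    rw [← Finset.add_sum_erase _ _ (Finset.mem_univ (1 : (P : Subgroup G))),
      Finset.sum_congr rfl (g := fun _ => (χ : G → ℂ) u) (fun x hx' => hinv _ ?_ χ),
      Finset.sum_const, Finset.card_erase_of_mem (Finset.mem_univ _), Finset.card_univ,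
      ← Nat.card_eq_fintype_card, hP', OneMemClass.coe_one, ← irr_charDegree_cast, ha,
      nsmul_eq_mul] at hm
    · exact_mod_cast hm
    · rw [Subgroup.orderOf_coe]
      exact orderOf_eq_prime (by rw [sq]; exact hexp x) (Finset.mem_erase.1 hx').1
  -- squares
  have hsq : ∑ χ ∈ bset B, a χ * a χ = 4 := by
    have h1 := sum_sq_section hM hc hx hB (y := (1 : C)) (y' := (1 : C)) (by simp) (by simp)
    rw [hov, hB0] at h1
    simp only [OneMemClass.coe_one, mul_one, irr_one_conj] at h1
    rw [sum_sq_kernel N, hNidx] at h1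
    simp only [ha, map_intCast] at h1
    exact_mod_cast h1
  have hone' : a (oneIrr G) = 1 := by
    have := ha (oneIrr G)
    rw [show ((oneIrr G : IrrCharacter G) : G → ℂ) u = 1 from rfl] at this
    exact_mod_cast this.symm
  have hne0 : ∀ χ ∈ B, a χ ≠ 0 := by
    intro χ hχ h0
    have h4 := hcong χ
    rw [h0, mul_zero, add_zero] at h4
    have h4' : 4 ∣ charDegree (χ : G → ℂ) := by exact_mod_cast h4
    have hpos : charDegree (χ : G → ℂ) ≠ 0 := fun h =>
      irr_one_ne_zero χ (by rw [← irr_charDegree_cast, h, Nat.cast_zero])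
    have hle : 2 ≤ dv 2 (χ : G → ℂ) :=
      (Nat.prime_two.pow_dvd_iff_le_factorization hpos).1 h4'
    have hfac : (Nat.card G).factorization 2 = 2 := by
      have := P.card_eq_multiplicity
      rw [hP', show (4 : ℕ) = 2 ^ 2 by norm_num] at this
      exact (Nat.pow_right_injective le_rfl this).symm
    have hb := blockOf_isPBlock (M := M) χ
    have hdef : blockOf M (χ : G → ℂ) = B := (eq_blockOf hM hB hχ).symm
    have hdle : dv 2 (χ : G → ℂ) ≤ 2 := by
      obtain ⟨d, hd0, hd⟩ := irr_degree_pos χ.2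
      obtain ⟨n, ρ, hρ, hρχ⟩ := χ.2
      haveI := hρ
      have e : (n : ℂ) = d := by
        rw [← hd, ← hρχ, ρ.char_one, Module.finrank_fintype_fun_eq_card, Fintype.card_fin]
      have hdvd := finrank_dvd_card ρ
      rw [Module.finrank_fintype_fun_eq_card, Fintype.card_fin, Nat.cast_inj.1 e] at hdvd
      rw [dv, charDegree, hd]
      simp only [Complex.natCast_re, Nat.floor_natCast]
      exact le_of_le_of_eq ((Nat.factorization_le_iff_dvd hd0.ne' Nat.card_pos.ne').2 hdvd 2) hfac
    have hsing := (defect_zero_iff hM χ).1 (by omega)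
    have h1 : oneIrr G ∈ ({χ} : Set (IrrCharacter G)) := hsing ▸ hdef.symm ▸ oneIrr_mem hM
    rw [Set.mem_singleton_iff] at h1
    rw [← h1, hone'] at h0
    exact one_ne_zero h0
  have hpm : ∀ χ ∈ B, a χ = 1 ∨ a χ = -1 := by
    intro χ hχ
    have hnn : ∀ φ ∈ bset B, 0 ≤ a φ * a φ := fun φ _ => mul_self_nonneg _
    by_cases he : χ = oneIrr G
    · exact Or.inl (he ▸ hone')
    · have hsub : ({χ, oneIrr G} : Finset (IrrCharacter G)) ⊆ bset B := by
        intro φ hφ
        rcases Finset.mem_insert.1 hφ with rfl | h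
        · exact mem_bset.2 hχ
        · exact mem_bset.2 (Finset.mem_singleton.1 h ▸ oneIrr_mem hM)
      have hle := Finset.sum_le_sum_of_subset_of_nonneg (f := fun φ => a φ * a φ) hsub
        (fun φ hφ _ => hnn φ hφ)
      rw [Finset.sum_pair he, hsq, hone'] at hle
      have h2 : a χ * a χ ≤ 3 := by linarith
      have h3 : -1 ≤ a χ := by nlinarith
      have h4 : a χ ≤ 1 := by nlinarith
      have := hne0 χ hχ
      omega
  have hcard : (bset B).card = 4 := by
    have h1 : ∑ χ ∈ bset B, a χ * a χ = ∑ _χ ∈ bset B, (1 : ℤ) :=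
      Finset.sum_congr rfl fun χ hχ => by
        rcases hpm χ (mem_bset.1 hχ) with h | h <;> rw [h] <;> norm_num
    rw [hsq] at h1
    simp at h1
    exact_mod_cast h1.symm
  refine ⟨a, hcard, hone', fun χ hχ => ⟨hpm χ hχ, ?_, fun z hz => by rw [hinv z hz χ, ha],
    fun g hg => ?_⟩, fun y hy => ?_⟩
  · have h := hcong χ
    omega
  · obtain ⟨z, w, hzw, hcz, hz, hw, -, -⟩ := exists_pPart Nat.prime_two g
    obtain ⟨k, hk⟩ := hz
    have hz2 : orderOf z = 2 := by
      rcases Nat.lt_trichotomy k 1 with hk1 | hk1 | hk1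
      · exfalso
        obtain rfl : k = 0 := by omega
        rw [pow_zero, orderOf_eq_one_iff] at hk
        rw [hk, one_mul] at hzw
        exact hw (hzw ▸ hg)
      · rw [hk, hk1, pow_one]
      · exfalso
        obtain ⟨S, hS⟩ := (IsPGroup.iff_card.2 ⟨k, by rw [Nat.card_zpowers, hk]⟩ :
          IsPGroup 2 (Subgroup.zpowers z)).exists_le_sylow
        obtain ⟨x, hxS⟩ := MulAction.exists_smul_eq G S P
        have hzS : x * z * x⁻¹ ∈ (P : Subgroup G) := by
          rw [← hxS, Sylow.coe_subgroup_smul]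
          exact ⟨z, hS (Subgroup.mem_zpowers z), rfl⟩
        have h2 := hexp ⟨_, hzS⟩
        have h3 : orderOf z ∣ 2 := by
          refine orderOf_dvd_of_pow_eq_one ?_
          have h4 : x * z * x⁻¹ * (x * z * x⁻¹) = 1 := congrArg Subtype.val h2
          rw [sq]
          calc z * z = x⁻¹ * (x * z * x⁻¹ * (x * z * x⁻¹)) * x := by group
            _ = 1 := by rw [h4]; group
        rw [hk] at h3
        have := (Nat.pow_dvd_pow_iff_le_right (x := 2) (k := k) (l := 1) one_lt_two).1 (by simpa using h3)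
        omega
    obtain ⟨c, hc'⟩ := isConj_iff.1 (hone z u hz2 huo)
    have hwC : c * w * c⁻¹ ∈ C := by
      rw [hC, Subgroup.mem_centralizer_singleton_iff, ← hc']
      calc c * w * c⁻¹ * (c * z * c⁻¹) = c * (w * z) * c⁻¹ := by group
        _ = c * (z * w) * c⁻¹ := by rw [hcz.eq]
        _ = _ := by group
    have h1 := hsec χ hχ ⟨_, hwC⟩ (by rw [← Subgroup.orderOf_coe]; simpa [conj_orderOf] using hw)
    have h2 : (χ : G → ℂ) g = (χ : G → ℂ) (c * g * c⁻¹) := (irr_isClassFun χ g c).symm
    rw [h2, ← ha, ← h1, ← hzw, ← hc']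
    group
  · have h := block_orth hM hB (g := u) (h := y⁻¹)
      (⟨1, mul_one u, Commute.one_right u, hx, by simp⟩ : IsPPart 2 u u)
      (⟨y⁻¹, one_mul _, Commute.one_left _, ⟨0, by simp⟩, by rwa [orderOf_inv]⟩ : IsPPart 2 y⁻¹ 1)
      (fun h => hu1 (isConj_one_left.1 h))
    simpa [inv_inv, ha] using h

theorem klein_blockRank (hM : IsPModular 2 M) (P : Sylow 2 G) (hP : Nat.card P = 4)
    (hexp : ∀ x : P, x * x = 1) (hone : ∀ s t : G, orderOf s = 2 → orderOf t = 2 → IsConj s t) :
    blockRank 2 (principalBlock M G) = 3 := by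
  classical
  obtain ⟨a, hcard, hone', hval, hrel⟩ := klein_principal hM P hP hexp hone
  set B := principalBlock M G with hBdef
  let Φ : (B → ℂ) →ₗ[ℂ] (G → ℂ) :=
    Fintype.linearCombination ℂ (fun χ : B => pRegularPart 2 ((χ : IrrCharacter G) : G → ℂ))
  let ev : (B → ℂ) →ₗ[ℂ] ℂ := Fintype.linearCombination ℂ (fun χ : B => (a χ : ℂ))
  have hrank : blockRank 2 B + Module.finrank ℂ (LinearMap.ker Φ) = 4 := by
    have h := LinearMap.finrank_range_add_finrank_ker Φ
    rw [Fintype.range_linearCombination, Module.finrank_fintype_fun_eq_card] at h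
    rw [blockRank, Set.image_eq_range]
    refine h.trans ?_
    rw [← hcard]
    exact Fintype.card_of_subtype _ fun χ => mem_bset
  have hΦ : ∀ c : B → ℂ, ∀ g : G, Φ c g =
      if 2 ∣ orderOf g then 0 else ∑ χ : B, c χ * ((χ : IrrCharacter G) : G → ℂ) g := by
    intro c g
    simp only [Φ, Fintype.linearCombination_apply, Finset.sum_apply, Pi.smul_apply, smul_eq_mul,
      pRegularPart_apply]
    split_ifs <;> simp
  have hker1 : 1 ≤ Module.finrank ℂ (LinearMap.ker Φ) := by
    rw [Nat.one_le_iff_ne_zero, Ne, Submodule.finrank_eq_zero, Submodule.eq_bot_iff]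
    intro hall
    have hmem : (fun χ : B => (a χ : ℂ)) ∈ LinearMap.ker Φ := by
      rw [LinearMap.mem_ker]
      funext g
      rw [hΦ, Pi.zero_apply]
      split_ifs with hg
      · rfl
      · rw [← Finset.sum_subtype (bset B) (fun χ => mem_bset)
          (fun χ : IrrCharacter G => (a χ : ℂ) * (χ : G → ℂ) g)]
        exact hrel g hg
    have := congrFun (hall _ hmem) ⟨oneIrr G, oneIrr_mem hM⟩
    simp [hone'] at this
  have hker2 : Module.finrank ℂ (LinearMap.ker Φ) ≤ 1 := by
    have hinj : Function.Injective (ev.domRestrict (LinearMap.ker Φ)) := by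
      rw [← LinearMap.ker_eq_bot, Submodule.eq_bot_iff]
      rintro ⟨c, hc⟩ hev
      rw [LinearMap.mem_ker, LinearMap.domRestrict_apply] at hev
      simp only [ev, Fintype.linearCombination_apply, smul_eq_mul] at hev
      rw [LinearMap.mem_ker] at hc
      have hF : ∀ g : G, ∑ χ : B, c χ * ((χ : IrrCharacter G) : G → ℂ) g = 0 := by
        intro g
        by_cases hg : 2 ∣ orderOf g
        · rw [← hev]
          exact Finset.sum_congr rfl fun χ _ => by rw [(hval _ χ.2).2.2.2 g hg]
        · have := congrFun hc g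
          rwa [hΦ, if_neg hg] at this
      refine Subtype.ext (funext fun χ => ?_)
      show c χ = 0
      have h1 : classInner (fun g => ∑ φ : B, c φ * ((φ : IrrCharacter G) : G → ℂ) g)
          ((χ : IrrCharacter G) : G → ℂ) = c χ := by
        rw [show (fun g => ∑ φ : B, c φ * ((φ : IrrCharacter G) : G → ℂ) g) =
          ∑ φ : B, c φ • ((φ : IrrCharacter G) : G → ℂ) by funext g; simp,
          classInner_sum_left, Finset.sum_eq_single χ]
        · rw [classInner_smul_left, classInner_irr_self χ.1.2, mul_one]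
        · intro φ _ hφ
          rw [classInner_smul_left, classInner_irr_ne φ.1.2 χ.1.2
            (fun h => hφ (Subtype.ext (Subtype.ext h))), mul_zero]
        · simp
      simp only [hF] at h1
      rw [← h1]
      simp [classInner]
    exact (LinearMap.finrank_le_finrank_of_injective hinj).trans (Module.finrank_self ℂ).le
  omega

end CfsgLib.Blocks
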