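import Cfsg.Agent.Lib.Blocks.Proj
import Cfsg.Agent.Lib.Blocks.Principal

/-!
# Blocks for the prime 2: odd degree characters and inversion
-/

namespace CfsgLib.Blocks

open Cfsg CfsgLib.CharTheory
open scoped ComplexConjugate

set_option linter.unusedVariables false
set_option linter.unusedSimpArgs false
set_option linter.style.haveILetI false
set_option linter.unusedSectionVars false

universe u

variable {M : Ideal AlgInt} {G : Type u} [Group G] [Fintype G]

theorem memRing_regFn_omega_one (hM : IsPModular 2 M) (χ : IrrCharacter G) :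
    MemLocalRing M (∑ g, regFn 2 (χ : G → ℂ) g) :=
  memRing_sum hM fun g _ => regFn_mem hM χ g

theorem regS_oneIrr (χ : IrrCharacter G) (p : ℕ) :
    regS p ((oneIrr G : IrrCharacter G) : G → ℂ) (χ : G → ℂ) = ∑ g, regFn p (χ : G → ℂ) g := by
  simp only [regS, oneIrr, mul_one]

/-- A unit sum over odd order elements puts a character in the principal block. -/
theorem mem_principal_of_sum (hM : IsPModular 2 M) (χ : IrrCharacter G)
    (h : res hM (∑ g, regFn 2 (χ : G → ℂ) g) ≠ 0) : χ ∈ principalBlock M G := by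
  show SameBlock M ((oneIrr G : IrrCharacter G) : G → ℂ) (χ : G → ℂ)
  by_contra hc
  refine h ?_
  rw [← regS_oneIrr, regS_eq_zero hM hc, res_zero]

theorem res_double (hM : IsPModular 2 M) (x : AlgInt ⧸ M) : x + x = 0 := by
  haveI := res_charP hM
  exact CharTwo.add_self_eq_zero x

/-- An inversion invariant sum over odd order elements collapses at the identity. -/
theorem sum_regFn_two (hM : IsPModular 2 M) {χ : IrrCharacter G}
    (hreal : ∀ g, ¬ 2 ∣ orderOf g → (χ : G → ℂ) g⁻¹ = (χ : G → ℂ) g) :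
    res hM (∑ g, regFn 2 (χ : G → ℂ) g) = res hM ((χ : G → ℂ) 1) := by
  classical
  rw [res_sum hM fun g _ => regFn_mem hM χ g,
    ← Finset.add_sum_erase _ _ (Finset.mem_univ (1 : G))]
  have h0 : ∑ g ∈ Finset.univ.erase (1 : G), res hM (regFn 2 (χ : G → ℂ) g) = 0 := by
    refine Finset.sum_involution (fun g _ => g⁻¹) (fun g _ => ?_) (fun g hg1 hg => ?_)
      (fun g hg => ?_) (fun g _ => inv_inv g)
    · have e : regFn 2 (χ : G → ℂ) g⁻¹ = regFn 2 (χ : G → ℂ) g := by
        simp only [regFn, orderOf_inv, inv_inv]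
        split_ifs with h
        · rfl
        · rw [hreal g h]
      rw [e]; exact res_double hM _
    · intro he
      have h2 : g * g = 1 := by
        conv_lhs => arg 1; rw [← he]
        exact inv_mul_cancel g
      have hdvd : orderOf g ∣ 2 := orderOf_dvd_of_pow_eq_one (by rw [pow_two, h2])
      rcases (Nat.dvd_prime Nat.prime_two).1 hdvd with h | h
      · exact (Finset.mem_erase.1 hg1).1 (orderOf_eq_one_iff.1 h)
      · exact hg (by simp [regFn, h, res_zero hM])
    · exact Finset.mem_erase.2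
        ⟨fun h => (Finset.mem_erase.1 hg).1 (inv_eq_one.1 h), Finset.mem_univ _⟩
  rw [h0, add_zero]
  simp [regFn]

theorem res_degree_odd (hM : IsPModular 2 M) (χ : IrrCharacter G)
    (h : Odd (charDegree (χ : G → ℂ))) : res hM ((χ : G → ℂ) 1) ≠ 0 := by
  haveI := res_charP hM
  rw [← irr_charDegree_cast χ, res_natCast, Ne, CharP.cast_eq_zero_iff (AlgInt ⧸ M) 2]
  obtain ⟨k, hk⟩ := h
  omega

/-- Real characters of odd degree lie in the principal 2-block. -/
theorem mem_principal_of_real_odd (hM : IsPModular 2 M) (χ : IrrCharacter G)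
    (hr : ∀ g, ((χ : G → ℂ) g).im = 0) (ho : Odd (charDegree (χ : G → ℂ))) :
    χ ∈ principalBlock M G := by
  refine mem_principal_of_sum hM χ ?_
  rw [sum_regFn_two hM fun g _ => by rw [irr_inv]; exact Complex.conj_eq_iff_im.2 (hr g)]
  exact res_degree_odd hM χ ho

/-- A block of full defect stable under an inversion on odd order elements is principal. -/
theorem eq_principal_of_inverted (hM : IsPModular 2 M) {B : Set (IrrCharacter G)}
    (hB : IsPBlock M B) (hdef : blockDefect 2 B = (Nat.card G).factorization 2)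
    (hstab : ∀ χ ∈ B, ∃ ψ ∈ B, ∀ g : G, ¬ 2 ∣ orderOf g → (ψ : G → ℂ) g = (χ : G → ℂ) g⁻¹) :
    B = principalBlock M G := by
  classical
  haveI := res_charP hM
  obtain ⟨χ, hχ, h0⟩ := exists_height_zero hM hB
  obtain ⟨ψ, hψ, hψg⟩ := hstab χ hχ
  have h1 : ψ.1 1 = (χ : G → ℂ) 1 := by
    simpa using hψg 1 (by simp)
  have hdvψ : dv 2 (ψ : G → ℂ) = 0 ∧ dv 2 (χ : G → ℂ) = 0 := by
    have hmd := minDv_le_card hM hB
    rw [blockDefect_eq] at hdef
    have h2 : charDegree (ψ : G → ℂ) = charDegree (χ : G → ℂ) := by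
      unfold charDegree; rw [h1]
    refine ⟨?_, ?_⟩
    · unfold dv; rw [h2]; show dv 2 (χ : G → ℂ) = 0; omega
    · omega
  have hunit := not_memIdeal_omega_regFn hM hB hχ hψ h0
  have hsq : regS 2 (ψ : G → ℂ) (χ : G → ℂ) = ∑ g, (regFn 2 (χ : G → ℂ) g) ^ 2 := by
    refine Finset.sum_congr rfl fun g _ => ?_
    simp only [regFn]
    split_ifs with h
    · ring
    · rw [hψg g h]; ring
  have hsum : res hM (∑ g, regFn 2 (χ : G → ℂ) g) ≠ 0 := by
    intro h
    apply hunit
    have hm : MemLocalRing M (regS 2 (ψ : G → ℂ) (χ : G → ℂ)) := by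
      rw [hsq]; exact memRing_sum hM fun g _ => (loc hM).pow_mem (regFn_mem hM χ g) 2
    have hS : MemLocalIdeal M (regS 2 (ψ : G → ℂ) (χ : G → ℂ)) := by
      rw [← res_eq_zero_iff hM hm, hsq, res_sum hM fun g _ => (loc hM).pow_mem (regFn_mem hM χ g) 2]
      simp only [res_pow hM (regFn_mem hM χ _)]
      rw [← CharTwo.sum_sq, ← res_sum hM fun g _ => regFn_mem hM χ g, h, zero_pow two_ne_zero]
    rw [omega_regFn, div_eq_mul_inv, mul_comm]
    have hu : ¬ 2 ∣ charDegree (ψ : G → ℂ) := fun hd => by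
      have := (Nat.Prime.dvd_iff_one_le_factorization Nat.prime_two (irr_charDegree_pos ψ).ne').1 hd
      have h2 : (charDegree (ψ : G → ℂ)).factorization 2 = 0 := hdvψ.1
      omega
    refine memIdeal_mul_left hM ?_ hS
    rw [← irr_charDegree_cast ψ]
    exact natCast_inv_mem hM hu
  exact eq_blockOf hM hB hχ |>.trans
    (eq_blockOf hM principalBlock_isPBlock (mem_principal_of_sum hM χ hsum)).symm

end CfsgLib.Blocks
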