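import Cfsg.Agent.Lib.Blocks.KleinBlocks
import Cfsg.Agent.Lib.Blocks.KleinFour
import Cfsg.Agent.Lib.Blocks.Two
import Cfsg.Agent.Lib.CharTheory.FrobeniusSchur

/-!
# Groups with a Klein four Sylow subgroup: the order formula
-/

namespace CfsgLib.Blocks

open Cfsg CfsgLib.CharTheory
open scoped ComplexConjugate

set_option linter.unusedVariables false
set_option linter.unusedSimpArgs false
set_option linter.style.haveILetI false
set_option linter.unusedSectionVars false

universe u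

variable {M : Ideal AlgInt} {G : Type u} [Group G] [Fintype G]

/-- Without a normal `2`-complement a Sylow subgroup of order four is a Klein four group and all
involutions are conjugate. -/
theorem klein_sylow_fusion {g₀ : ℕ} (hg₀ : Odd g₀) (hG : Nat.card G = 4 * g₀)
    (hnc : ¬ ∃ N : Subgroup G, N.Normal ∧ Nat.card N = g₀) (P : Sylow 2 G) :
    Nat.card P = 4 ∧ (∀ x : P, x * x = 1) ∧
      ∀ s t : G, orderOf s = 2 → orderOf t = 2 → IsConj s t := by
  classical
  haveI : Fact (Nat.Prime 2) := ⟨Nat.prime_two⟩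
  have hg : ¬ 2 ∣ g₀ := hg₀.not_two_dvd_nat
  have hg0 : g₀ ≠ 0 := fun h => hg (h ▸ dvd_zero 2)
  have hP : Nat.card P = 4 := by
    rw [Sylow.card_eq_multiplicity, hG, Nat.factorization_mul (by norm_num) hg0,
      Finsupp.add_apply, Nat.factorization_eq_zero_of_not_dvd hg, add_zero,
      show (4 : ℕ) = 2 ^ 2 by norm_num, Nat.Prime.factorization_pow Nat.prime_two]
    simp
  have hcpl : ¬ HasNormalPComplement 2 G := by
    rintro ⟨Q, N, hN, hNQ⟩
    refine hnc ⟨N, hN, ?_⟩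
    have hQ : Nat.card Q = 4 := by
      rw [Sylow.card_eq_multiplicity, ← Sylow.card_eq_multiplicity P, hP]
    have h1 := hNQ.card_mul
    rw [hQ, hG] at h1
    omega
  haveI : IsMulCommutative P := IsPGroup.isMulCommutative_of_card_eq_prime_sq
    (hP.trans (by norm_num) : Nat.card P = 2 ^ 2)
  have hab : ∀ x ∈ (P : Subgroup G), ∀ y ∈ (P : Subgroup G), x * y = y * x := fun x hx y hy =>
    congrArg Subtype.val ((IsMulCommutative.is_comm (M := P)).comm ⟨x, hx⟩ ⟨y, hy⟩)
  have hnN : ¬ Subgroup.normalizer ((P : Subgroup G) : Set G) ≤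
      Subgroup.centralizer ((P : Subgroup G) : Set G) := fun h =>
    hcpl (CfsgLib.hasNormalPComplement_of_normalizer_le_centralizer P h)
  have hncyc : ¬ IsCyclic P := fun hc =>
    hnN (IsCyclic.normalizer_le_centralizer
      ((Nat.minFac_eq_two_iff _).2 (by rw [hG]; exact ⟨2 * g₀, by ring⟩)) hc)
  have hexp : ∀ x : P, x * x = 1 := fun x => by
    have hdvd : orderOf x ∣ 4 := hP ▸ orderOf_dvd_natCard (G := (P : Subgroup G)) x
    rw [show (4 : ℕ) = 2 ^ 2 by norm_num, Nat.dvd_prime_pow Nat.prime_two] at hdvd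
    obtain ⟨k, hk, hk'⟩ := hdvd
    rcases hk.lt_or_eq with h | rfl
    · rw [← sq, ← orderOf_dvd_iff_pow_eq_one, hk']
      exact (Nat.pow_dvd_pow 2 (Nat.lt_succ_iff.1 h)).trans (by norm_num)
    · exact absurd (isCyclic_of_orderOf_eq_card x (hk'.trans (hP.trans (by norm_num)).symm)) hncyc
  haveI : Nontrivial (P : Subgroup G) :=
    Finite.one_lt_card_iff_nontrivial.1 (by rw [hP]; norm_num)
  have hV : IsKleinFour (P : Subgroup G) :=
    ⟨hP, (Monoid.exponent_eq_prime_iff Nat.prime_two).2 fun x hx =>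
      orderOf_eq_prime (by rw [sq]; exact hexp x) hx⟩
  set A := autInducedBy (Subgroup.normalizer ((P : Subgroup G) : Set G)) (P : Subgroup G) with hA
  have hodd : ¬ 2 ∣ Nat.card A := by
    rw [hA, ← card_autInducedBy_eq_index le_rfl]
    intro h
    have hPC : (P : Subgroup G) ≤ Subgroup.centralizer ((P : Subgroup G) : Set G) :=
      fun x hx y hy => hab y hy x hx
    refine P.not_dvd_index ((h.trans ?_).trans
      (Subgroup.relIndex_mul_index (Subgroup.le_normalizer)).dvd)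
    exact (Subgroup.relIndex_dvd_of_le_left _ hPC).trans (dvd_mul_right _ _)
  rcases klein_aut hV A hodd with h1 | ⟨-, htr⟩
  · refine absurd ?_ hnN
    intro t ht x hx
    let α : MulAut (P : Subgroup G) :=
      { toFun := fun y => ⟨t * y * t⁻¹, (Subgroup.mem_normalizer_iff.1 ht y).1 y.2⟩
        invFun := fun y => ⟨t⁻¹ * y * t, (Subgroup.mem_normalizer_iff''.1 ht y).1 y.2⟩
        left_inv := fun y => Subtype.ext (by simp [mul_assoc])
        right_inv := fun y => Subtype.ext (by simp [mul_assoc])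
        map_mul' := fun y y' => Subtype.ext (by simp [mul_assoc]) }
    have hα : α ∈ A := Subgroup.subset_closure ⟨t, ht, fun y => rfl⟩
    rw [h1, Subgroup.mem_bot] at hα
    have h := congrArg Subtype.val (MulEquiv.congr_fun hα ⟨x, hx⟩)
    exact (mul_inv_eq_iff_eq_mul.1 h).symm
  refine ⟨hP, hexp, fun s t hs ht => ?_⟩
  have key : ∀ z : G, orderOf z = 2 → ∃ v : (P : Subgroup G), v ≠ 1 ∧ IsConj z v := by
    intro z hz
    obtain ⟨S, hS⟩ := (IsPGroup.of_card (n := 1) (by rw [Nat.card_zpowers, hz, pow_one]) :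
      IsPGroup 2 (Subgroup.zpowers z)).exists_le_sylow
    obtain ⟨x, hxS⟩ := MulAction.exists_smul_eq G S P
    have hzS : x * z * x⁻¹ ∈ (P : Subgroup G) := by
      rw [← hxS, Sylow.coe_subgroup_smul]
      exact ⟨z, hS (Subgroup.mem_zpowers z), rfl⟩
    refine ⟨⟨_, hzS⟩, fun h => ?_, isConj_iff.2 ⟨x, rfl⟩⟩
    have h' := congrArg orderOf (congrArg Subtype.val h)
    rw [OneMemClass.coe_one, orderOf_one, conj_orderOf, hz] at h'
    norm_num at h'
  obtain ⟨u, hu, hsu⟩ := key s hs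
  obtain ⟨v, hv, htv⟩ := key t ht
  obtain ⟨α, hα, hαv⟩ := htr u hu v hv
  obtain ⟨g, -, -, hg⟩ := mem_autInducedBy_iff.1 hα
  exact hsu.trans ((isConj_iff.2 ⟨g, by rw [← hg u, hαv]⟩).trans htv.symm)

/-- Outside the principal block the characters have average zero on the section of an
involution. -/
theorem sum_section_principal (hM : IsPModular 2 M) {J : G} (hJ : orderOf J = 2) {C : Subgroup G}
    [Fintype C] (hc : IsCentr J C) {N : Subgroup C} [Fintype N] [N.Normal]
    (hNodd : ¬ 2 ∣ Nat.card N) (hNidx : N.index = 4) {χ : IrrCharacter G}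
    (hχ : χ ∉ principalBlock M G) : ∑ y : N, (χ : G → ℂ) (J * ((y : C) : G)) = 0 := by
  classical
  have hx : ∃ k : ℕ, orderOf J = 2 ^ k := ⟨1, by rw [hJ, pow_one]⟩
  have hB0 := principalBlock_of_complement (G := C) hM hNodd ⟨2, by rw [hNidx]; norm_num⟩
  have hov := overBlocks_principal hM hc hx
  have h1 := sec_eq_overBlocks hM hc hx principalBlock_isPBlock χ (y := (1 : C)) (by simp)
  rw [ind_of_notMem hχ, zero_mul, hov, hB0, blockPart_apply] at h1
  -- the characters trivial on `N` sum to a multiple of the indicator of `N`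
  set A := {φ : IrrCharacter C | ∀ n ∈ N, (φ : C → ℂ) n = (φ : C → ℂ) 1}
  have he : ∀ c : C, ∑ φ ∈ bset A, (φ : C → ℂ) 1 * conj ((φ : C → ℂ) c) =
      if c ∈ N then 4 else 0 := by
    intro c
    have he : cf (ind A) = avgFn N := by
      rw [← cf_omega (avgFn_isClassFunction N)]
      congr 1
      funext φ
      by_cases h : φ ∈ A
      · rw [ind_of_mem h, (omega_avgFn N φ).2.2 h]
      · rw [ind_of_notMem h]
        exact ((omega_avgFn N φ).1.resolve_right fun h1 => h ((omega_avgFn N φ).2.1 h1)).symm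
    have h2 := congrFun he c
    rw [cf_ind, blockCoeff, finsum_mem_bset] at h2
    simp only [avgFn] at h2
    have hG : (Nat.card C : ℂ) ≠ 0 := Nat.cast_ne_zero.2 Nat.card_pos.ne'
    have hN' : (Nat.card N : ℂ) ≠ 0 := Nat.cast_ne_zero.2 Nat.card_pos.ne'
    rw [inv_mul_eq_iff_eq_mul₀ hG] at h2
    rw [h2]
    split_ifs
    · rw [← N.index_mul_card, hNidx, Nat.cast_mul, mul_inv_cancel_right₀ hN']; norm_num
    · rw [mul_zero]
  simp only [classInner] at h1
  simp only [mul_assoc, Finset.sum_mul, ← Finset.mul_sum] at h1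
  rw [Finset.sum_comm, mul_eq_zero] at h1
  have h2 := h1.resolve_left (inv_ne_zero (Nat.cast_ne_zero.2 Nat.card_pos.ne'))
  have e : ∀ c : C, ∑ φ ∈ bset A, sec J C (χ : G → ℂ) c * (conj ((φ : C → ℂ) c) * (φ : C → ℂ) 1) =
      sec J C (χ : G → ℂ) c * if c ∈ N then 4 else 0 := fun c => by
    rw [← he c, Finset.mul_sum]
    exact Finset.sum_congr rfl fun φ _ => by ring
  rw [Finset.sum_congr rfl fun c _ => e c] at h2
  simp only [mul_ite, mul_zero] at h2
  rw [← Finset.sum_filter, Finset.sum_subtype (Finset.univ.filter fun c : C => c ∈ N)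
    (p := fun c => c ∈ N) (fun c => by simp), ← Finset.sum_mul, mul_eq_zero] at h2
  exact h2.resolve_right (by norm_num)

/-- The principal block sums with a character-sum class function. -/
theorem sum_section_classFn (hM : IsPModular 2 M) {J : G} (hJ : orderOf J = 2)
    {C : Subgroup G} [Fintype C] (hc : IsCentr J C) {N : Subgroup C} [Fintype N] [N.Normal]
    (hNodd : ¬ 2 ∣ Nat.card N) (hNidx : N.index = 4) (a : IrrCharacter G → ℤ)
    (hval : ∀ χ ∈ principalBlock M G, ∀ g : G, 2 ∣ orderOf g → (χ : G → ℂ) g = (a χ : ℂ))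
    (c : IrrCharacter G → ℂ) :
    ∑ y : N, ∑ χ : IrrCharacter G, c χ * (χ : G → ℂ) (J * ((y : C) : G)) =
      (Nat.card N : ℂ) * ∑ χ ∈ bset (principalBlock M G), c χ * (a χ : ℂ) := by
  classical
  have hsing : ∀ y : N, 2 ∣ orderOf (J * ((y : C) : G)) := by
    intro y
    set Y := ((y : C) : G) with hY
    have hcom : Commute J Y := ((hc Y).1 (y : C).2).symm
    have ho : ¬ 2 ∣ orderOf Y := fun h => hNodd (h.trans (by
      rw [hY, Subgroup.orderOf_coe, Subgroup.orderOf_coe]; exact orderOf_dvd_natCard y))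
    rw [hcom.orderOf_mul_eq_mul_orderOf_of_coprime
      (by rw [hJ]; exact Nat.prime_two.coprime_iff_not_dvd.2 ho), hJ]
    exact dvd_mul_right 2 _
  rw [Finset.sum_comm, Finset.mul_sum]
  symm
  rw [← Finset.sum_subset (Finset.subset_univ (bset (principalBlock M G)))
    (f := fun χ => ∑ y : N, c χ * (χ : G → ℂ) (J * ((y : C) : G)))
    fun χ _ hχ => by
      rw [← Finset.mul_sum, sum_section_principal hM hJ hc hNodd hNidx
        (fun h => hχ (mem_bset.2 h)), mul_zero]]
  refine Finset.sum_congr rfl fun χ hχ => ?_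
  rw [Finset.sum_congr rfl fun y _ => by rw [hval χ (mem_bset.1 hχ) _ (hsing y)],
    Finset.sum_const, Finset.card_univ, ← Nat.card_eq_fintype_card, nsmul_eq_mul]

/-- The number of factorizations of the section of `J` into two involutions. -/
theorem klein_pair_count (P : Sylow 2 G) (hP : Nat.card P = 4) (hexp : ∀ x : P, x * x = 1)
    (hone : ∀ s t : G, orderOf s = 2 → orderOf t = 2 → IsConj s t) {J : G}
    (hJ : J ∈ (P : Subgroup G)) (hJ2 : orderOf J = 2)
    {C : Subgroup G} [Fintype C] (hcen : IsCentr J C) {N : Subgroup C} [N.Normal]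
    (hNodd : ¬ 2 ∣ Nat.card N) (hNidx : N.index = 4) [DecidableEq G]
    [DecidablePred fun st : G × G => ∃ y : N, st.1 * st.2 = J * ((y : C) : G)] :
    ∃ n : ℕ, n * Nat.card (Subgroup.centralizer ((P : Subgroup G) : Set G)) = Nat.card C ∧
      (((Finset.univ.filter fun u : G => orderOf u = 2) ×ˢ
        (Finset.univ.filter fun u : G => orderOf u = 2)).filter fun st : G × G =>
          ∃ y : N, st.1 * st.2 = J * ((y : C) : G)).card =
        2 * n ^ 2 := by
  classical
  haveI : Fact (Nat.Prime 2) := ⟨Nat.prime_two⟩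
  set H := Subgroup.centralizer ((P : Subgroup G) : Set G)
  have he : ∀ x ∈ (P : Subgroup G), x * x = 1 := fun x hx => congrArg Subtype.val (hexp ⟨x, hx⟩)
  have hcomm : ∀ x ∈ (P : Subgroup G), ∀ y ∈ (P : Subgroup G), x * y = y * x := fun x hx y hy => by
    have hinv : ∀ z ∈ (P : Subgroup G), z⁻¹ = z := fun z hz => inv_eq_of_mul_eq_one_right (he z hz)
    calc x * y = (x * y)⁻¹ := (hinv _ ((P : Subgroup G).mul_mem hx hy)).symm
      _ = y * x := by rw [mul_inv_rev, hinv y hy, hinv x hx]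
  have hPC : (P : Subgroup G) ≤ C := fun x hx => (hcen x).2 (hcomm x hx J hJ)
  set Q : Sylow 2 C := P.subtype hPC
  have hQmem : ∀ x : C, x ∈ (Q : Subgroup C) ↔ (x : G) ∈ (P : Subgroup G) := fun x => Iff.rfl
  have hJ1 : J ≠ 1 := fun h => by rw [h, orderOf_one] at hJ2; norm_num at hJ2
  have hinvol : ∀ z : G, orderOf z = 2 ↔ z * z = 1 ∧ z ≠ 1 := fun z => by
    rw [orderOf_eq_prime_iff, sq]
  obtain ⟨a, ha, ha1, haJ⟩ : ∃ a ∈ (P : Subgroup G), a ≠ 1 ∧ a ≠ J := by
    by_contra h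
    push Not at h
    have hsub : ((P : Subgroup G) : Set G) ⊆ {1, J} := fun x hx => by
      by_cases hx1 : x = 1
      · exact Or.inl hx1
      · exact Or.inr (h x hx hx1)
    have := (Set.ncard_le_ncard hsub).trans (Set.ncard_pair (Ne.symm hJ1)).le
    rw [← Nat.card_coe_set_eq] at this
    exact absurd (hP.symm.le.trans this) (by norm_num)
  set b := a * J with hb
  have hbP : b ∈ (P : Subgroup G) := mul_mem ha hJ
  have hb1 : b ≠ 1 := fun h => haJ (mul_right_cancel (h.trans (he J hJ).symm))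
  have hbJ : b ≠ J := fun h => ha1 (mul_eq_right.1 h)
  set a' : C := ⟨a, hPC ha⟩
  set b' : C := ⟨b, hPC hbP⟩
  set J' : C := ⟨J, hPC hJ⟩
  -- the involutions in a coset
  set T : C → Finset C := fun c => Finset.univ.filter fun s : C => IsConj c s
  have hcard : ∀ c ∈ (P : Subgroup G), c ≠ 1 → c ≠ J → ∀ hc : c ∈ C,
      (T ⟨c, hc⟩).card * Nat.card H = Nat.card C := by
    intro c hc hc1 hcJ hcC
    have h := card_isConj_mul_card_centralizer (⟨c, hcC⟩ : C)
    rw [Nat.card_eq_fintype_card, Fintype.card_subtype] at h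
    rw [← h]
    congr 1
    refine Nat.card_congr
      { toFun := fun g => ⟨⟨g, (hcen g).2 (g.2 J hJ).symm⟩, Subgroup.mem_centralizer_singleton_iff.2
          (Subtype.ext (g.2 c hc).symm)⟩
        invFun := fun g => ⟨((g : C) : G), fun z hz => ?_⟩
        left_inv := fun g => rfl
        right_inv := fun g => rfl }
    · rcases involution_cases hP hJ hc hJ1 hc1 hcJ (he J hJ) z hz with rfl | rfl | rfl | rfl
      · simp
      · exact ((hcen _).1 (g : C).2).symm.eq
      · exact (congrArg Subtype.val (Subgroup.mem_centralizer_singleton_iff.1 g.2)).symm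
      · have h1 : J * (g : C) = (g : C) * J := ((hcen _).1 (g : C).2).symm.eq
        have h2 : ((g : C) : G) * c = c * (g : C) :=
          congrArg Subtype.val (Subgroup.mem_centralizer_singleton_iff.1 g.2)
        rw [mul_assoc, ← h2, ← mul_assoc, h1, mul_assoc]
  set n := (T a').card with hn
  have hna : n * Nat.card H = Nat.card C := hcard a ha ha1 haJ _
  have hnb : (T b').card = n := by
    have := hcard b hbP hb1 hbJ (hPC hbP)
    rw [← hna] at this
    exact Nat.eq_of_mul_eq_mul_right Nat.card_pos this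
  refine ⟨n, hna, ?_⟩
  -- quotient facts
  have hQN : ∀ c : C, (c : G) ∈ (P : Subgroup G) → c ∈ N → c = 1 := by
    intro c hc hcN
    have hbot : ((Q : Subgroup C) ⊓ N) = ⊥ := by
      refine Subgroup.inf_eq_bot_of_coprime ?_
      rw [Sylow.card_eq_multiplicity]
      exact (Nat.prime_two.coprime_iff_not_dvd.2 hNodd).pow_left _
    exact (Subgroup.mem_bot).1 (hbot ▸ (⟨(hQmem c).2 hc, hcN⟩ : c ∈ (Q : Subgroup C) ⊓ N))
  have hmk : ∀ c : C, ∀ s : C, IsConj c s → (QuotientGroup.mk s : C ⧸ N) = QuotientGroup.mk c := by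
    intro c s hcs
    obtain ⟨x, rfl⟩ := isConj_iff.1 hcs
    haveI : IsMulCommutative (C ⧸ N) := IsPGroup.isMulCommutative_of_card_eq_prime_sq
      (p := 2) (by rw [← Subgroup.index_eq_card, hNidx]; norm_num)
    rw [QuotientGroup.mk_mul, QuotientGroup.mk_mul, QuotientGroup.mk_inv,
      (IsMulCommutative.is_comm (M := C ⧸ N)).comm (QuotientGroup.mk x), mul_inv_cancel_right]
  have hab' : a' * b' = J' := Subtype.ext (show a * (a * J) = J by rw [← mul_assoc, he a ha, one_mul])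
  have hba' : b' * a' = J' := Subtype.ext (show b * a = J by
    rw [hcomm b hbP a ha, hb, ← mul_assoc, he a ha, one_mul])
  -- classification of the involutions of `C`
  have hclass : ∀ s : C, orderOf (s : G) = 2 →
      IsConj a' s ∨ IsConj b' s ∨ IsConj J' s := by
    intro s hs
    rw [hinvol] at hs
    have hss : s * s = 1 := Subtype.ext hs.1
    obtain ⟨S, hS⟩ := (IsPGroup.of_card (n := 1) (by
      rw [Nat.card_zpowers, ← Subgroup.orderOf_coe, (hinvol _).2 hs, pow_one]) :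
      IsPGroup 2 (Subgroup.zpowers s)).exists_le_sylow
    obtain ⟨x, hxS⟩ := MulAction.exists_smul_eq C S Q
    have hq : x * s * x⁻¹ ∈ (Q : Subgroup C) := by
      rw [← hxS, Sylow.coe_subgroup_smul]
      exact ⟨s, hS (Subgroup.mem_zpowers s), rfl⟩
    have hconj : IsConj (x * s * x⁻¹) s := (isConj_iff.2 ⟨x, rfl⟩ : IsConj s (x * s * x⁻¹)).symm
    rcases involution_cases hP hJ ha hJ1 ha1 haJ (he J hJ) _ ((hQmem _).1 hq) with h | h | h | h
    · exact absurd (congrArg Subtype.val (conj_eq_one_iff.1 (Subtype.ext h : x * s * x⁻¹ = 1))) hs.2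
    · exact Or.inr (Or.inr ((Subtype.ext h : x * s * x⁻¹ = J') ▸ hconj))
    · exact Or.inl ((Subtype.ext h : x * s * x⁻¹ = a') ▸ hconj)
    · exact Or.inr (Or.inl ((Subtype.ext (h.trans (hcomm J hJ a ha)) : x * s * x⁻¹ = b') ▸ hconj))
  have hTinv : ∀ c : C, orderOf (c : G) = 2 → ∀ s ∈ T c, orderOf (s : G) = 2 := by
    intro c hc s hs
    obtain ⟨x, rfl⟩ := isConj_iff.1 (Finset.mem_filter.1 hs).2
    rw [Subgroup.coe_mul, Subgroup.coe_mul, Subgroup.coe_inv, conj_orderOf, hc]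
  have ho : ∀ c ∈ (P : Subgroup G), c ≠ 1 → orderOf c = 2 := fun c hc h =>
    (hinvol c).2 ⟨he c hc, h⟩
  have key : (((Finset.univ.filter fun u : G => orderOf u = 2) ×ˢ
        (Finset.univ.filter fun u : G => orderOf u = 2)).filter fun st : G × G =>
          ∃ y : N, st.1 * st.2 = J * ((y : C) : G)) =
      ((T a' ×ˢ T b') ∪ (T b' ×ˢ T a')).image fun st : C × C => ((st.1 : G), (st.2 : G)) := by
    ext ⟨s, t⟩
    simp only [Finset.mem_filter, Finset.mem_product, Finset.mem_univ, true_and, Finset.mem_image,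
      Finset.mem_union, Prod.exists, Prod.mk.injEq]
    constructor
    · rintro ⟨⟨hs, ht⟩, y, hy⟩
      obtain ⟨hs2, hs1⟩ := (hinvol s).1 hs
      obtain ⟨ht2, ht1⟩ := (hinvol t).1 ht
      have hsinv : s⁻¹ = s := inv_eq_of_mul_eq_one_right hs2
      have htinv : t⁻¹ = t := inv_eq_of_mul_eq_one_right ht2
      have hflip : s * (s * t) * s⁻¹ = (s * t)⁻¹ := by
        rw [mul_inv_rev, htinv, ← mul_assoc, hs2, one_mul]
      obtain ⟨m, hm⟩ : ∃ m, orderOf ((y : C) : G) = 2 * m + 1 := by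
        have : ¬ 2 ∣ orderOf ((y : C) : G) := fun h => hNodd (h.trans (by
          rw [Subgroup.orderOf_coe, Subgroup.orderOf_coe]; exact orderOf_dvd_natCard y))
        exact ⟨_, (Nat.two_mul_div_two_add_one_of_odd (Nat.not_even_iff_odd.1 fun h =>
          this h.two_dvd)).symm⟩
      have hcom : Commute J ((y : C) : G) := ((hcen _).1 (y : C).2).symm
      have hpow : (s * t) ^ (2 * m + 1) = J := by
        rw [hy, hcom.mul_pow, ← hm, pow_orderOf_eq_one, mul_one, hm, pow_add, pow_mul, pow_two,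
          he J hJ, one_pow, one_mul, pow_one]
      have hsC : s ∈ C := by
        rw [hcen]
        have h1 := congrArg (fun g => g ^ (2 * m + 1)) hflip
        simp only [conj_pow, inv_pow, hpow] at h1
        rw [inv_eq_of_mul_eq_one_right (he J hJ)] at h1
        exact mul_inv_eq_iff_eq_mul.1 h1
      have htC : t ∈ C := by
        have : t = s * (J * ((y : C) : G)) := by rw [← hy, ← mul_assoc, hs2, one_mul]
        rw [this]
        exact mul_mem hsC (mul_mem (hPC hJ) (y : C).2)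
      have hst : (QuotientGroup.mk (⟨s, hsC⟩ : C) : C ⧸ N) * QuotientGroup.mk (⟨t, htC⟩ : C) =
          QuotientGroup.mk J' := by
        rw [← QuotientGroup.mk_mul, show (⟨s, hsC⟩ : C) * ⟨t, htC⟩ = J' * (y : C) from Subtype.ext hy,
          QuotientGroup.mk_mul, (QuotientGroup.eq_one_iff _).2 y.2, mul_one]
      have hne : ∀ c : C, (c : G) ∈ (P : Subgroup G) → (c : G) ≠ 1 →
          (QuotientGroup.mk c : C ⧸ N) ≠ 1 := fun c hc hc1 h =>
        hc1 (congrArg Subtype.val (hQN c hc ((QuotientGroup.eq_one_iff c).1 h)))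
      refine ⟨⟨s, hsC⟩, ⟨t, htC⟩, ?_, rfl, rfl⟩
      rcases hclass ⟨s, hsC⟩ hs with h | h | h <;> rcases hclass ⟨t, htC⟩ ht with h' | h' | h' <;>
        rw [hmk _ _ h, hmk _ _ h'] at hst
      · exfalso
        rw [← QuotientGroup.mk_mul, show a' * a' = 1 from Subtype.ext (he a ha)] at hst
        exact hne J' hJ hJ1 hst.symm
      · exact Or.inl ⟨Finset.mem_filter.2 ⟨Finset.mem_univ _, h⟩,
          Finset.mem_filter.2 ⟨Finset.mem_univ _, h'⟩⟩
      · exact absurd (mul_eq_right.1 hst) (hne a' ha ha1)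
      · exact Or.inr ⟨Finset.mem_filter.2 ⟨Finset.mem_univ _, h⟩,
          Finset.mem_filter.2 ⟨Finset.mem_univ _, h'⟩⟩
      · exfalso
        rw [← QuotientGroup.mk_mul, show b' * b' = 1 from Subtype.ext (he b hbP)] at hst
        exact hne J' hJ hJ1 hst.symm
      · exact absurd (mul_eq_right.1 hst) (hne b' hbP hb1)
      · exact absurd (mul_eq_left.1 hst) (hne a' ha ha1)
      · exact absurd (mul_eq_left.1 hst) (hne b' hbP hb1)
      · exact absurd (mul_eq_left.1 hst) (hne J' hJ hJ1)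
    · rintro ⟨s', t', hst, rfl, rfl⟩
      have hys : ∀ c d : C, c * d = J' → orderOf (c : G) = 2 → orderOf (d : G) = 2 →
          s' ∈ T c → t' ∈ T d →
          (orderOf (s' : G) = 2 ∧ orderOf (t' : G) = 2) ∧
            ∃ y : N, (s' : G) * t' = J * ((y : C) : G) := by
        intro c d hcd hc hd hs ht
        refine ⟨⟨hTinv c hc _ hs, hTinv d hd _ ht⟩, ⟨J'⁻¹ * (s' * t'), ?_⟩, ?_⟩
        · rw [← QuotientGroup.eq_one_iff, QuotientGroup.mk_mul, QuotientGroup.mk_inv,
            QuotientGroup.mk_mul, hmk c s' (Finset.mem_filter.1 hs).2,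
            hmk d t' (Finset.mem_filter.1 ht).2, ← QuotientGroup.mk_mul, hcd, inv_mul_cancel]
        · show (s' : G) * t' = J * (J⁻¹ * ((s' : G) * t'))
          rw [mul_inv_cancel_left]
      rcases hst with ⟨hs, ht⟩ | ⟨hs, ht⟩
      · exact hys a' b' hab' (ho a ha ha1) (ho b hbP hb1) hs ht
      · exact hys b' a' hba' (ho b hbP hb1) (ho a ha ha1) hs ht
  rw [key, Finset.card_image_of_injective _ (fun p q h => by
    simp only [Prod.mk.injEq] at h
    exact Prod.ext (Subtype.ext h.1) (Subtype.ext h.2)),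
    Finset.card_union_of_disjoint, Finset.card_product, Finset.card_product, hnb, ← hn]
  · ring
  · rw [Finset.disjoint_left]
    intro p hp hp'
    have h1 := hmk _ _ (Finset.mem_filter.1 (Finset.mem_product.1 hp).1).2
    have h2 := hmk _ _ (Finset.mem_filter.1 (Finset.mem_product.1 hp').1).2
    have h3 : a'⁻¹ * b' ∈ N := QuotientGroup.eq.1 (h1.symm.trans h2)
    have h4 : (a'⁻¹ * b' : C) = J' := Subtype.ext (show a⁻¹ * (a * J) = J by group)
    rw [h4] at h3
    exact hJ1 (congrArg Subtype.val (hQN J' hJ h3))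

/-- The order formula of Brauer. -/
theorem klein_order_formula (hM : IsPModular 2 M) (P : Sylow 2 G) (hP : Nat.card P = 4)
    (hexp : ∀ x : P, x * x = 1) (hone : ∀ s t : G, orderOf s = 2 → orderOf t = 2 → IsConj s t)
    {J : G} (hJ : J ∈ (P : Subgroup G)) (hJ2 : orderOf J = 2) (a : IrrCharacter G → ℤ)
    (hval : ∀ χ ∈ principalBlock M G, ∀ g : G, 2 ∣ orderOf g → (χ : G → ℂ) g = (a χ : ℂ)) :
    ∃ n : ℕ, n * Nat.card (Subgroup.centralizer ((P : Subgroup G) : Set G)) =
        Nat.card (Subgroup.centralizer ({J} : Set G)) ∧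
      (Nat.card G : ℂ) * ∑ χ ∈ bset (principalBlock M G), (a χ : ℂ) ^ 3 / (χ : G → ℂ) 1 =
        8 * (Nat.card (Subgroup.centralizer ({J} : Set G)) : ℂ) * (n : ℂ) ^ 2 := by
  classical
  haveI : Fact (Nat.Prime 2) := ⟨Nat.prime_two⟩
  have hJ1 : J ≠ 1 := fun h => by rw [h, orderOf_one] at hJ2; norm_num at hJ2
  obtain ⟨N, hN, hNodd, hNidx⟩ := centralizer_complement hM P hP hexp hJ hJ1
  haveI := hN
  haveI := Fintype.ofFinite (Subgroup.centralizer ({J} : Set G))
  haveI := Fintype.ofFinite N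
  obtain ⟨n, hn, hcnt⟩ := klein_pair_count P hP hexp hone hJ hJ2 (isCentr_singleton J) hNodd hNidx
  refine ⟨n, hn, ?_⟩
  set Cl := Finset.univ.filter (fun u : G => orderOf u = 2) with hCl
  have hClc : ∀ u, u ∈ Cl ↔ IsConj J u := fun u => by
    rw [hCl, Finset.mem_filter]
    refine ⟨fun h => hone J u hJ2 h.2, fun h => ⟨Finset.mem_univ _, ?_⟩⟩
    obtain ⟨c, rfl⟩ := isConj_iff.1 h
    rw [conj_orderOf, hJ2]
  set K := Nat.card {u : G // IsConj J u} with hK
  have hKC : (K : ℂ) * (Nat.card (Subgroup.centralizer ({J} : Set G)) : ℂ) = (Nat.card G : ℂ) := by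
    exact_mod_cast card_isConj_mul_card_centralizer J
  have hcount : (∑ y : N, ∑ u ∈ Cl, ∑ w ∈ Cl,
      (if u * w = J * ((y : Subgroup.centralizer ({J} : Set G)) : G) then (1 : ℂ) else 0)) = 2 * (n : ℂ) ^ 2 := by
    have e : ∀ st : G × G, (∑ y : N, (if st.1 * st.2 = J * ((y : Subgroup.centralizer ({J} : Set G)) : G) then (1 : ℂ) else 0)) =
        if ∃ y : N, st.1 * st.2 = J * ((y : Subgroup.centralizer ({J} : Set G)) : G) then 1 else 0 := by
      intro st
      by_cases h : ∃ y : N, st.1 * st.2 = J * ((y : Subgroup.centralizer ({J} : Set G)) : G)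
      · obtain ⟨y, hy⟩ := h
        rw [if_pos ⟨y, hy⟩, Finset.sum_eq_single y, if_pos hy]
        · intro z _ hz
          rw [if_neg fun h => hz (Subtype.ext (Subtype.ext (mul_left_cancel (h.symm.trans hy))))]
        · simp
      · rw [if_neg h]
        exact Finset.sum_eq_zero fun y _ => if_neg fun hy => h ⟨y, hy⟩
    rw [Finset.sum_comm, Finset.sum_congr rfl fun u _ => Finset.sum_comm, ← Finset.sum_product',
      Finset.sum_congr rfl fun st _ => e st, Finset.sum_boole]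
    exact_mod_cast hcnt
  have hexp' : ∀ g : G, (Nat.card G : ℂ) * ∑ u ∈ Cl, ∑ w ∈ Cl, (if u * w = g then (1 : ℂ) else 0) =
      ∑ χ : IrrCharacter G, (K : ℂ) * K * ((χ : G → ℂ) J * (χ : G → ℂ) J) / (χ : G → ℂ) 1 *
        (χ : G → ℂ) g⁻¹ := by
    intro g
    simp only [Finset.mul_sum]
    have e1 : ∀ u w : G, (Nat.card G : ℂ) * (if u * w = g then (1 : ℂ) else 0) =
        ∑ χ : IrrCharacter G, (χ : G → ℂ) (u * w * g⁻¹) * (χ : G → ℂ) 1 := fun u w => by
      rw [sum_irr_apply_mul_degree, mul_ite, mul_one, mul_zero]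
      exact if_congr mul_inv_eq_one.symm rfl rfl
    simp only [e1]
    rw [Finset.sum_congr rfl fun u _ => Finset.sum_comm, Finset.sum_comm]
    refine Finset.sum_congr rfl fun χ _ => ?_
    simp only [← Finset.sum_mul]
    have h := sum_class_class_char χ.2 J J g⁻¹
    have hset : Cl = Finset.univ.filter (fun u : G => IsConj J u) := by
      ext u
      rw [hClc, Finset.mem_filter]
      simp
    rw [hset, h, ← hK]
    have := irr_one_ne_zero χ
    field_simp
  have hinv : ∀ y : N, (J * ((y : Subgroup.centralizer ({J} : Set G)) : G))⁻¹ = J * (((y⁻¹ : N) : Subgroup.centralizer ({J} : Set G)) : G) := fun y => by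
    have hcom : Commute J ((y : Subgroup.centralizer ({J} : Set G)) : G) :=
      (Subgroup.mem_centralizer_singleton_iff.1 (y : Subgroup.centralizer ({J} : Set G)).2).symm
    have hJi : J⁻¹ = J := inv_eq_of_mul_eq_one_right (by
      rw [← sq, ← hJ2, pow_orderOf_eq_one])
    push_cast
    rw [hcom.eq, mul_inv_rev, hJi]
  have he := Equiv.sum_comp (Equiv.inv N)
    (fun y : N => ∑ χ : IrrCharacter G, (K : ℂ) * K * ((χ : G → ℂ) J * (χ : G → ℂ) J) /
      (χ : G → ℂ) 1 * (χ : G → ℂ) (J * ((y : Subgroup.centralizer ({J} : Set G)) : G)))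
  simp only [Equiv.inv_apply] at he
  have hmain := congrArg (fun t => (Nat.card G : ℂ) * t) hcount
  simp only [Finset.mul_sum (s := (Finset.univ : Finset N))] at hmain
  rw [Finset.sum_congr rfl fun y _ => hexp' _, Finset.sum_congr rfl fun y _ => by rw [hinv y],
    he, sum_section_classFn hM hJ2 (isCentr_singleton J) hNodd hNidx a hval] at hmain
  have hCN : (Nat.card (Subgroup.centralizer ({J} : Set G)) : ℂ) = 4 * (Nat.card N : ℂ) := by
    exact_mod_cast (show Nat.card (Subgroup.centralizer ({J} : Set G)) = 4 * Nat.card N by rw [← hNidx, N.index_mul_card])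
  have hsum : ∑ χ ∈ bset (principalBlock M G),
      (K : ℂ) * K * ((χ : G → ℂ) J * (χ : G → ℂ) J) / (χ : G → ℂ) 1 * (a χ : ℂ) =
      (K : ℂ) * K * ∑ χ ∈ bset (principalBlock M G), (a χ : ℂ) ^ 3 / (χ : G → ℂ) 1 := by
    rw [Finset.mul_sum]
    refine Finset.sum_congr rfl fun χ hχ => ?_
    rw [hval χ (mem_bset.1 hχ) J (by rw [hJ2])]
    ring
  rw [hsum] at hmain
  have hG0 : (Nat.card G : ℂ) ≠ 0 := Nat.cast_ne_zero.2 Nat.card_pos.ne'
  set T := ∑ χ ∈ bset (principalBlock M G), (a χ : ℂ) ^ 3 / (χ : G → ℂ) 1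
  apply mul_left_cancel₀ hG0
  linear_combination (4 * (Nat.card (Subgroup.centralizer ({J} : Set G)) : ℂ)) * hmain + (K : ℂ) ^ 2 * (Nat.card (Subgroup.centralizer ({J} : Set G)) : ℂ) * T * hCN -
    ((Nat.card G : ℂ) + (K : ℂ) * Nat.card (Subgroup.centralizer ({J} : Set G))) * T * hKC

/-- Brauer's square root relation in the principal block. -/
theorem klein_indicator_sum (hM : IsPModular 2 M) (P : Sylow 2 G) (hP : Nat.card P = 4)
    (hexp : ∀ x : P, x * x = 1) {J : G}
    (hJ : J ∈ (P : Subgroup G)) (hJ2 : orderOf J = 2) (a : IrrCharacter G → ℤ)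
    (hval : ∀ χ ∈ principalBlock M G, ∀ g : G, 2 ∣ orderOf g → (χ : G → ℂ) g = (a χ : ℂ)) :
    ∑ χ ∈ bset (principalBlock M G),
      conj (∑ s : G, (χ : G → ℂ) (s * s)) * (a χ : ℂ) = 0 := by
  classical
  have hJ1 : J ≠ 1 := fun h => by rw [h, orderOf_one] at hJ2; norm_num at hJ2
  obtain ⟨N, hN, hNodd, hNidx⟩ := centralizer_complement hM P hP hexp hJ hJ1
  haveI := hN
  haveI := Fintype.ofFinite (Subgroup.centralizer ({J} : Set G))
  haveI := Fintype.ofFinite N
  set f : G → ℂ := fun g => ∑ s : G, if s * s = g then 1 else 0 with hf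
  have hfcl : IsClassFunction G f := fun g c => by
    refine Fintype.sum_equiv (MulAut.conj c⁻¹).toEquiv _ _ fun s => ?_
    refine if_congr ?_ rfl rfl
    show s * s = c * g * c⁻¹ ↔ c⁻¹ * s * c⁻¹⁻¹ * (c⁻¹ * s * c⁻¹⁻¹) = g
    constructor
    · intro h
      calc _ = c⁻¹ * (s * s) * c := by group
        _ = g := by rw [h]; group
    · intro h
      rw [← h]; group
  have hzero : ∀ y : N, f (J * ((y : Subgroup.centralizer ({J} : Set G)) : G)) = 0 := by
    intro y
    refine Finset.sum_eq_zero fun s _ => if_neg fun hs => ?_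
    haveI : Fact (Nat.Prime 2) := ⟨Nat.prime_two⟩
    have hcom : Commute J ((y : Subgroup.centralizer ({J} : Set G)) : G) :=
      (Subgroup.mem_centralizer_singleton_iff.1 (y : Subgroup.centralizer ({J} : Set G)).2).symm
    have ho : ¬ 2 ∣ orderOf ((y : Subgroup.centralizer ({J} : Set G)) : G) := fun h => hNodd (h.trans (by
      rw [Subgroup.orderOf_coe, Subgroup.orderOf_coe]; exact orderOf_dvd_natCard y))
    have h4 : 4 ∣ orderOf s := by
      have h2 : orderOf (s * s) = 2 * orderOf ((y : Subgroup.centralizer ({J} : Set G)) : G) := by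
        rw [hs, hcom.orderOf_mul_eq_mul_orderOf_of_coprime
          (by rw [hJ2]; exact Nat.prime_two.coprime_iff_not_dvd.2 ho), hJ2]
      rw [← sq, orderOf_pow' s two_ne_zero] at h2
      have hev : 2 ∣ orderOf s := by
        have hd : orderOf s / Nat.gcd (orderOf s) 2 ∣ orderOf s :=
          Nat.div_dvd_of_dvd (Nat.gcd_dvd_left _ _)
        exact (dvd_mul_right 2 _).trans (h2 ▸ hd)
      rw [Nat.gcd_eq_right hev] at h2
      obtain ⟨m, hm⟩ := hev
      exact ⟨orderOf ((y : Subgroup.centralizer ({J} : Set G)) : G), by omega⟩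
    obtain ⟨z, w, hzw, hcz, ⟨k, hk⟩, hw, -, -⟩ := exists_pPart Nat.prime_two s
    have hk2 : 2 ≤ k := by
      rw [← hzw, hcz.orderOf_mul_eq_mul_orderOf_of_coprime (by
        rw [hk]; exact (Nat.prime_two.coprime_iff_not_dvd.2 hw).pow_left k), hk] at h4
      have := Nat.Coprime.dvd_of_dvd_mul_right
        (show Nat.Coprime 4 (orderOf w) from (Nat.prime_two.coprime_iff_not_dvd.2 hw).pow_left 2) h4
      exact (Nat.pow_dvd_pow_iff_le_right (x := 2) one_lt_two).1 (by simpa using this)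
    obtain ⟨S, hS⟩ := (IsPGroup.iff_card.2 ⟨k, by rw [Nat.card_zpowers, hk]⟩ :
      IsPGroup 2 (Subgroup.zpowers z)).exists_le_sylow
    obtain ⟨x, hxS⟩ := MulAction.exists_smul_eq G S P
    have hzS : x * z * x⁻¹ ∈ (P : Subgroup G) := by
      rw [← hxS, Sylow.coe_subgroup_smul]
      exact ⟨z, hS (Subgroup.mem_zpowers z), rfl⟩
    have h3 : orderOf (x * z * x⁻¹) ∣ 2 := orderOf_dvd_of_pow_eq_one (by
      rw [sq]; exact congrArg Subtype.val (hexp ⟨_, hzS⟩))
    rw [conj_orderOf, hk] at h3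
    have := Nat.le_of_dvd two_pos h3
    have : (4 : ℕ) ≤ 2 ^ k :=
      (by norm_num : (4 : ℕ) = 2 ^ 2).le.trans (Nat.pow_le_pow_right two_pos hk2)
    omega
  have hcoef : ∀ χ : IrrCharacter G, classInner f (χ : G → ℂ) =
      (Nat.card G : ℂ)⁻¹ * conj (∑ s : G, (χ : G → ℂ) (s * s)) := by
    intro χ
    simp only [classInner, hf, Finset.sum_mul, map_sum]
    rw [Finset.sum_comm]
    congr 1
    refine Finset.sum_congr rfl fun s _ => ?_
    simp
  have h := sum_section_classFn hM hJ2 (isCentr_singleton J) hNodd hNidx a hval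
    (fun χ => classInner f (χ : G → ℂ))
  rw [Finset.sum_congr rfl fun (y : N) _ => show ∑ χ : IrrCharacter G, classInner f (χ : G → ℂ) *
      (χ : G → ℂ) (J * ((y : Subgroup.centralizer ({J} : Set G)) : G)) = 0 by
        rw [← hzero y]
        have h1 := congrFun (eq_sum_irr hfcl) (J * ((y : Subgroup.centralizer ({J} : Set G)) : G))
        simp only [Finset.sum_apply, Pi.smul_apply, smul_eq_mul] at h1
        exact h1.symm,
    Finset.sum_const_zero, eq_comm, mul_eq_zero] at h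
  have h2 := h.resolve_left (Nat.cast_ne_zero.2 Nat.card_pos.ne')
  simp only [hcoef, mul_assoc, ← Finset.mul_sum, mul_eq_zero] at h2
  exact h2.resolve_left (inv_ne_zero (Nat.cast_ne_zero.2 Nat.card_pos.ne'))

/-- The data of the principal block in the setting of the order formula. -/
theorem klein_data (hM : IsPModular 2 M) {g₀ : ℕ} (hg₀ : Odd g₀) (hG : Nat.card G = 4 * g₀)
    (hnc : ¬ ∃ N : Subgroup G, N.Normal ∧ Nat.card N = g₀) (P : Sylow 2 G) {J : G}
    (hJ : J ∈ (P : Subgroup G)) (hJ2 : orderOf J = 2) (χ₁ χ₂ χ₃ : IrrCharacter G) (ε₁ ε₂ ε₃ : ℤ)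
    (hB : principalBlock M G = {χ : IrrCharacter G |
      (χ : G → ℂ) = (fun _ => 1) ∨ χ = χ₁ ∨ χ = χ₂ ∨ χ = χ₃})
    (hdist : (χ₁ : G → ℂ) ≠ (fun _ => 1) ∧ (χ₂ : G → ℂ) ≠ (fun _ => 1) ∧
      (χ₃ : G → ℂ) ≠ (fun _ => 1) ∧ χ₁ ≠ χ₂ ∧ χ₁ ≠ χ₃ ∧ χ₂ ≠ χ₃)
    (hε : (ε₁ = 1 ∨ ε₁ = -1) ∧ (ε₂ = 1 ∨ ε₂ = -1) ∧ (ε₃ = 1 ∨ ε₃ = -1))
    (hval : (χ₁ : G → ℂ) J = ε₁ ∧ (χ₂ : G → ℂ) J = ε₂ ∧ (χ₃ : G → ℂ) J = ε₃) :
    (1 + ε₁ * (charDegree (χ₁ : G → ℂ) : ℤ) + ε₂ * (charDegree (χ₂ : G → ℂ) : ℤ) +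
      ε₃ * (charDegree (χ₃ : G → ℂ) : ℤ) = 0) ∧
    ((4 : ℤ) ∣ (charDegree (χ₁ : G → ℂ) : ℤ) - ε₁ ∧ (4 : ℤ) ∣ (charDegree (χ₂ : G → ℂ) : ℤ) - ε₂ ∧
      (4 : ℤ) ∣ (charDegree (χ₃ : G → ℂ) : ℤ) - ε₃) ∧
    (∃ n : ℕ, n * Nat.card (Subgroup.centralizer ((P : Subgroup G) : Set G)) =
        Nat.card (Subgroup.centralizer ({J} : Set G)) ∧
      (Nat.card G : ℚ) * (1 + (ε₁ : ℚ) / (charDegree (χ₁ : G → ℂ) : ℚ) +
          (ε₂ : ℚ) / (charDegree (χ₂ : G → ℂ) : ℚ) + (ε₃ : ℚ) / (charDegree (χ₃ : G → ℂ) : ℚ)) =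
        8 * (Nat.card (Subgroup.centralizer ({J} : Set G)) : ℚ) * (n : ℚ) ^ 2) ∧
    ((Nat.card G : ℂ) + (ε₁ : ℂ) * conj (∑ s : G, (χ₁ : G → ℂ) (s * s)) +
      (ε₂ : ℂ) * conj (∑ s : G, (χ₂ : G → ℂ) (s * s)) +
      (ε₃ : ℂ) * conj (∑ s : G, (χ₃ : G → ℂ) (s * s)) = 0) ∧
    (∀ χ : IrrCharacter G, χ ∈ principalBlock M G → conjIrr χ ∈ principalBlock M G) := by
  classical
  obtain ⟨hP, hexp, hone⟩ := klein_sylow_fusion hg₀ hG hnc P
  obtain ⟨a, -, ha1, hav, hrel⟩ := klein_principal hM P hP hexp hone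
  obtain ⟨h01, h02, h03, h12, h13, h23⟩ := hdist
  obtain ⟨e1, e2, e3⟩ := hval
  have hmem : ∀ χ, (χ = χ₁ ∨ χ = χ₂ ∨ χ = χ₃) → χ ∈ principalBlock M G := fun χ h => by
    rw [hB]; exact Or.inr h
  have haε : ∀ χ (e : ℤ), (χ = χ₁ ∨ χ = χ₂ ∨ χ = χ₃) → (χ : G → ℂ) J = e → a χ = e := by
    intro χ e h he
    rw [(hav χ (hmem χ h)).2.2.1 J hJ2] at he
    exact_mod_cast he
  have a1 := haε χ₁ ε₁ (Or.inl rfl) e1
  have a2 := haε χ₂ ε₂ (Or.inr (Or.inl rfl)) e2
  have a3 := haε χ₃ ε₃ (Or.inr (Or.inr rfl)) e3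
  have hbset : bset (principalBlock M G) = {oneIrr G, χ₁, χ₂, χ₃} := by
    ext χ
    rw [mem_bset, hB]
    simp only [Set.mem_setOf_eq, Finset.mem_insert, Finset.mem_singleton]
    exact or_congr_left ⟨fun h => Subtype.ext h, fun h => h ▸ rfl⟩
  have hn0 : ∀ χ : IrrCharacter G, (χ : G → ℂ) ≠ (fun _ => 1) → oneIrr G ≠ χ :=
    fun χ h e => h (e ▸ rfl)
  have hsum : ∀ f : IrrCharacter G → ℂ, ∑ χ ∈ bset (principalBlock M G), f χ =
      f (oneIrr G) + f χ₁ + f χ₂ + f χ₃ := by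
    intro f
    rw [hbset, Finset.sum_insert (by simp [hn0 _ h01, hn0 _ h02, hn0 _ h03]),
      Finset.sum_insert (by simp [h12, h13]), Finset.sum_pair h23]
    ring
  have hone1 : ∀ g : G, ((oneIrr G : IrrCharacter G) : G → ℂ) g = 1 := fun g => rfl
  have hdeg : ∀ χ : IrrCharacter G, (χ : G → ℂ) 1 = (charDegree (χ : G → ℂ) : ℂ) := fun χ =>
    (irr_charDegree_cast χ).symm
  refine ⟨?_, ⟨?_, ?_, ?_⟩, ?_, ?_, ?_⟩
  · have h := hrel 1 (by simp)
    rw [hsum, ha1, a1, a2, a3, hdeg χ₁, hdeg χ₂, hdeg χ₃, hone1] at h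
    push_cast at h
    have h' : ((1 + ε₁ * (charDegree (χ₁ : G → ℂ) : ℤ) + ε₂ * (charDegree (χ₂ : G → ℂ) : ℤ) +
      ε₃ * (charDegree (χ₃ : G → ℂ) : ℤ) : ℤ) : ℂ) = ((0 : ℤ) : ℂ) := by
      push_cast; linear_combination h
    exact_mod_cast h'
  · exact a1 ▸ (hav χ₁ (hmem _ (Or.inl rfl))).2.1
  · exact a2 ▸ (hav χ₂ (hmem _ (Or.inr (Or.inl rfl)))).2.1
  · exact a3 ▸ (hav χ₃ (hmem _ (Or.inr (Or.inr rfl)))).2.1
  · obtain ⟨n, hn, h⟩ := klein_order_formula hM P hP hexp hone hJ hJ2 a fun χ hχ => (hav χ hχ).2.2.2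
    refine ⟨n, hn, ?_⟩
    rw [hsum, ha1, a1, a2, a3, hdeg χ₁, hdeg χ₂, hdeg χ₃, hone1] at h
    have hcube : ∀ e : ℤ, e = 1 ∨ e = -1 → (e : ℂ) ^ 3 = (e : ℂ) := by
      rintro e (rfl | rfl) <;> norm_num
    rw [hcube _ hε.1, hcube _ hε.2.1, hcube _ hε.2.2] at h
    have h' : (((Nat.card G : ℚ) * (1 + (ε₁ : ℚ) / (charDegree (χ₁ : G → ℂ) : ℚ) +
          (ε₂ : ℚ) / (charDegree (χ₂ : G → ℂ) : ℚ) + (ε₃ : ℚ) / (charDegree (χ₃ : G → ℂ) : ℚ)) : ℚ) : ℂ) =
        ((8 * (Nat.card (Subgroup.centralizer ({J} : Set G)) : ℚ) * (n : ℚ) ^ 2 : ℚ) : ℂ) := by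
      push_cast
      rw [← h]
      push_cast
      ring
    exact Rat.cast_injective h'
  · have h := klein_indicator_sum hM P hP hexp hJ hJ2 a fun χ hχ => (hav χ hχ).2.2.2
    rw [hsum, ha1, a1, a2, a3] at h
    simp only [hone1, Finset.sum_const, Finset.card_univ, nsmul_eq_mul, mul_one,
      map_natCast, Int.cast_one, ← Nat.card_eq_fintype_card] at h
    linear_combination h
  · intro χ hχ
    by_contra hc
    have hJ1 : J ≠ 1 := fun h => by rw [h, orderOf_one] at hJ2; norm_num at hJ2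
    obtain ⟨N, hN, hNodd, hNidx⟩ := centralizer_complement hM P hP hexp hJ hJ1
    haveI := hN
    haveI := Fintype.ofFinite (Subgroup.centralizer ({J} : Set G))
    haveI := Fintype.ofFinite N
    have h := sum_section_principal hM hJ2 (isCentr_singleton J) hNodd hNidx hc
    simp only [conjIrr_apply, ← map_sum, map_eq_zero] at h
    have h2 := sum_section_classFn hM hJ2 (isCentr_singleton J) hNodd hNidx a
      (fun φ hφ => (hav φ hφ).2.2.2) (fun φ => if φ = χ then 1 else 0)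
    simp only [ite_mul, one_mul, zero_mul, Finset.sum_ite_eq', Finset.mem_univ, if_true,
      if_pos (mem_bset.2 hχ)] at h2
    rw [h, eq_comm, mul_eq_zero] at h2
    rcases h2 with h2 | h2
    · exact Nat.card_pos.ne' (Nat.cast_eq_zero.1 h2)
    · rcases (hav χ hχ).1 with e | e <;> rw [e] at h2 <;> norm_num at h2

/-- A real irreducible character of odd degree has indicator one. -/
theorem indicator_real_odd (χ : IrrCharacter G) (hr : conjIrr χ = χ)
    (ho : Odd (charDegree (χ : G → ℂ))) :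
    ∑ s : G, (χ : G → ℂ) (s * s) = (Nat.card G : ℂ) := by
  classical
  obtain ⟨n, ρ, hρ, hρχ⟩ := χ.2
  haveI := hρ
  have hG : (Nat.card G : ℂ) ≠ 0 := Nat.cast_ne_zero.2 Nat.card_pos.ne'
  have hnorm : ∑ s : G, ρ.character s * ρ.character s = (Nat.card G : ℂ) := by
    have h := classInner_irr_self χ.2
    rw [classInner, inv_mul_eq_one₀ hG] at h
    rw [h, hρχ]
    refine Finset.sum_congr rfl fun g _ => ?_
    rw [← conjIrr_apply, hr]
  rcases frobenius_schur ρ with ⟨h0, -⟩ | ⟨ε, -, -, h2, h3⟩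
  · exact absurd (hnorm.symm.trans h0) hG
  · have hfin : Odd (Module.finrank ℂ (Fin n → ℂ)) := by
      have h1 : (χ : G → ℂ) 1 = (Module.finrank ℂ (Fin n → ℂ) : ℂ) := by rw [← hρχ]; exact ρ.char_one
      rw [← irr_charDegree_cast, Nat.cast_inj] at h1
      rwa [← h1]
    rw [← hρχ, h2, h3 hfin, one_mul]

end CfsgLib.Blocks
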