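import Cfsg.Agent.Lib.Blocks.Induced

/-!
# Blocks of `P C(P)` and their stabilizers
-/

namespace CfsgLib.Blocks

open Cfsg CfsgLib.CharTheory

set_option linter.unusedVariables false
set_option linter.unusedSimpArgs false
set_option linter.style.haveILetI false
set_option linter.unusedSectionVars false

universe u

variable {p : ℕ} {M : Ideal AlgInt} {G : Type u} [Group G] [Fintype G] {H : Subgroup G} [Fintype H]
  {P : Subgroup G}

theorem conjHom_map_mem {K : Subgroup G} {n : G} (h : K.map (MulAut.conj n).toMonoidHom = K) :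
    n ∈ Subgroup.normalizer (K : Set G) := by
  rw [Subgroup.mem_normalizer_iff]
  intro z
  conv_rhs => rw [← h, conjMap_mem_iff]
  simp [mul_assoc]

theorem normalizer_le_normalizer_pcent (P : Subgroup G) :
    Subgroup.normalizer (P : Set G) ≤
      Subgroup.normalizer ((P ⊔ Subgroup.centralizer (P : Set G) : Subgroup G) : Set G) := by
  intro n hn
  apply conjHom_map_mem
  rw [Subgroup.map_sup, map_conj_normalizer hn,
    map_conj_normalizer (normalizer_le_normalizer_cent P hn)]

theorem pcent_le_normalizer (P : Subgroup G) :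
    P ⊔ Subgroup.centralizer (P : Set G) ≤ Subgroup.normalizer (P : Set G) :=
  sup_le Subgroup.le_normalizer (Subgroup.centralizer_le_normalizer _)

theorem relIndex_cent_pcent (P : Subgroup G) :
    (Subgroup.centralizer (P : Set G)).relIndex (P ⊔ Subgroup.centralizer (P : Set G)) =
      (Subgroup.centralizer (P : Set G)).relIndex P := by
  set N := Subgroup.normalizer (P : Set G)
  have hP : P ≤ N := Subgroup.le_normalizer
  have hC : Subgroup.centralizer (P : Set G) ≤ N := Subgroup.centralizer_le_normalizer _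
  haveI : ((Subgroup.centralizer (P : Set G)).subgroupOf N).Normal :=
    ⟨fun c hc g => (Subgroup.mem_normalizer_iff.1 (normalizer_le_normalizer_cent P g.2) c).1 hc⟩
  rw [← Subgroup.relIndex_subgroupOf (sup_le hP hC), Subgroup.subgroupOf_sup hP hC,
    Subgroup.relIndex_sup_right, Subgroup.relIndex_subgroupOf hP]

theorem sgbc_image {n : G} (hn : n ∈ Subgroup.normalizer (H : Set G))
    (b : Set (IrrCharacter H)) (g : G) :
    subgroupBlockCoeff H (irrPull (conjE hn) '' b) g = subgroupBlockCoeff H b (n⁻¹ * g * n) := by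
  have hiff := mem_normalizer_conj_iff hn (n⁻¹ * g * n)
  simp only [mul_assoc, mul_inv_cancel_left, mul_inv_cancel, mul_one] at hiff
  rw [subgroupBlockCoeff_eq, subgroupBlockCoeff_eq]
  by_cases h : g ∈ H
  · have e1 := sext_coe H (blockCoeff (irrPull (conjE hn) '' b)) ⟨g, h⟩
    have e2 := sext_coe H (blockCoeff b) (conjE hn ⟨g, h⟩)
    refine e1.trans (Eq.trans ?_ e2.symm)
    rw [blockCoeff_image]
  · rw [sext_off _ _ h, sext_off]
    rwa [mul_assoc, ← hiff]

theorem lam_image (hM : IsPModular p M) {n : G} (hn : n ∈ Subgroup.normalizer (P : Set G))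
    (hnH : n ∈ Subgroup.normalizer (H : Set G)) (b : Set (IrrCharacter H))
    (η : IrrCharacter (Subgroup.centralizer (P : Set G))) :
    lam hM P (subgroupBlockCoeff H (irrPull (conjE hnH) '' b))
        (irrPull (conjE (normalizer_le_normalizer_cent P hn)) η) =
      lam hM P (subgroupBlockCoeff H b) η := by
  rw [lam_rot]
  congr 1
  funext g
  rw [sgbc_image hnH]
  congr 1
  group

/-- A block with defect group `P` has a maximal pair there, seen in `G`. -/
theorem exists_pair_at (hM : IsPModular p M) (hPH : P ≤ H)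
    (hC : Subgroup.centralizer (P : Set G) ≤ H) {b : Set (IrrCharacter H)} (hb : IsPBlock M b)
    (hD : IsDefectGroup p M b (P.subgroupOf H)) :
    ∃ (a : BrauerPairIdx H)
      (ha : Subgroup.centralizer ((a.1.map H.subtype : Subgroup G) : Set G) ≤ H)
      (e : Set (IrrCharacter (Subgroup.centralizer (P : Set G)))),
      upIdx a ha = ⟨P, e⟩ ∧ IsMaximalBrauerPair p M b a.1 a.2 ∧ IsPBlock M e ∧ IsPGroup p P := by
  obtain ⟨e', hcmax⟩ := exists_maximal_at hM hb hD
  have hmap : (P.subgroupOf H).map H.subtype = P := Subgroup.map_subgroupOf_eq_of_le hPH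
  have ha : Subgroup.centralizer (((P.subgroupOf H).map H.subtype : Subgroup G) : Set G) ≤ H :=
    hmap.symm ▸ hC
  generalize hi : upIdx (⟨P.subgroupOf H, e'⟩ : BrauerPairIdx H) ha = i
  have hi1 : i.1 = P := by rw [← hi]; exact hmap
  obtain ⟨Q, e⟩ := i
  change Q = P at hi1
  subst hi1
  exact ⟨⟨Q.subgroupOf H, e'⟩, ha, e, hi, hcmax, isPBlock_upIdx hcmax.1.1.2 hi,
    hmap ▸ hcmax.1.1.1.map H.subtype⟩

theorem le_pairStab_pcent (hM : IsPModular p M)
    (e : Set (IrrCharacter (Subgroup.centralizer (P : Set G)))) :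
    P ⊔ Subgroup.centralizer (P : Set G) ≤ pairStab P e :=
  sup_le (self_le_pairStab hM P e) (cent_le_pairStab P e)

theorem rot_eq_of_mem_pairStab {e : Set (IrrCharacter (Subgroup.centralizer (P : Set G)))} {n : G}
    (hn : n ∈ Subgroup.normalizer (P : Set G)) :
    n ∈ pairStab P e ↔ rot hn e = e := by
  rw [mem_pairStab, stabilizesBlock_iff (normalizer_le_normalizer_cent P hn)]
  exact ⟨fun h => h.2, fun h => ⟨hn, h⟩⟩

/-- In `P C(P)` the pair at `P` of a block with defect group `P` is unique. -/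
theorem pcent_pair_unique (hM : IsPModular p M)
    (hH : H = P ⊔ Subgroup.centralizer (P : Set G))
    {a : BrauerPairIdx H}
    {ha : Subgroup.centralizer ((a.1.map H.subtype : Subgroup G) : Set G) ≤ H}
    {e : Set (IrrCharacter (Subgroup.centralizer (P : Set G)))} (h : upIdx a ha = ⟨P, e⟩)
    {b : Set (IrrCharacter H)} (hb : IsMaximalBrauerPair p M b a.1 a.2) (hP : IsPGroup p P)
    {g : Set (IrrCharacter (Subgroup.centralizer (P : Set G)))} (hg : IsPBlock M g)
    {ξ : IrrCharacter (Subgroup.centralizer (P : Set G))} (hξ : ξ ∈ g)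
    (h1 : lam hM P (subgroupBlockCoeff H b) ξ = 1) : g = e := by
  have hPH : P ≤ H := hH ▸ le_sup_left
  have hC : Subgroup.centralizer (P : Set G) ≤ H := hH ▸ le_sup_right
  obtain ⟨c, hc, hce, hcb⟩ := exists_upIdx (H := H) hPH hC hg
  have h2 := (pairOf_iff_lam_up hM hcb hce hP hb.1.2.1 hξ).2 h1
  have hc1 : c.1 = a.1 := (upIdx_subgroupOf hce).trans (upIdx_subgroupOf h).symm
  obtain ⟨R', g'⟩ := c
  change R' = a.1 at hc1
  subst hc1
  obtain ⟨n, hn, rfl⟩ := pairs_orbit hM hb h2
  have hnst : (n : G) ∈ pairStab P e := le_pairStab_pcent hM e (hH ▸ n.2)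
  have hn' := ((mem_pairStab _).1 hnst).1
  generalize hbi : (⟨a.1, rot hn a.2⟩ : BrauerPairIdx H) = c at hc hce
  rw [← conjIdx_normalizer] at hbi
  subst hbi
  rw [upIdx_conj a ha n, h, conjIdx_normalizer hn', (rot_eq_of_mem_pairStab hn').1 hnst] at hce
  exact (eq_of_heq (Sigma.mk.inj_iff.1 hce).2).symm

/-- Stabilizers of the block of `P C(P)` and of its pair agree. -/
theorem pcent_image_eq_iff (hM : IsPModular p M)
    (hH : H = P ⊔ Subgroup.centralizer (P : Set G))
    {a : BrauerPairIdx H}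
    {ha : Subgroup.centralizer ((a.1.map H.subtype : Subgroup G) : Set G) ≤ H}
    {e : Set (IrrCharacter (Subgroup.centralizer (P : Set G)))} (h : upIdx a ha = ⟨P, e⟩)
    {b : Set (IrrCharacter H)} (hb : IsMaximalBrauerPair p M b a.1 a.2) (hP : IsPGroup p P)
    {n : G} (hn : n ∈ Subgroup.normalizer (P : Set G))
    (hnH : n ∈ Subgroup.normalizer (H : Set G)) :
    irrPull (conjE hnH) '' b = b ↔ n ∈ pairStab P e := by
  rw [rot_eq_of_mem_pairStab hn]
  have he := isPBlock_upIdx hb.1.1.2 h
  obtain ⟨η, hη⟩ := bne hM he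
  have h1 : lam hM P (subgroupBlockCoeff H b) η = 1 :=
    (pairOf_iff_lam_up hM hb.1.1.2 h hP hb.1.2.1 hη).1 hb.1
  have h2 := lam_image hM hn hnH b η
  rw [h1] at h2
  have hmem : irrPull (conjE (normalizer_le_normalizer_cent P hn)) η ∈ rot hn e := ⟨η, hη, rfl⟩
  constructor
  · intro hs
    rw [hs] at h2
    exact pcent_pair_unique hM hH h hb hP (isPBlock_image _ he) hmem h2
  · intro hs
    rw [hs] at hmem
    have hb'' : IsPBlock M (irrPull (conjE hnH) '' b) := isPBlock_image _ hb.1.2.1
    exact pairOf_block_unique hM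
      ((pairOf_iff_lam_up hM hb.1.1.2 h hP hb'' hmem).2 h2) hb.1

end CfsgLib.Blocks
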