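import Cfsg.Agent.Lib.Blocks.Induced
import Cfsg.Agent.Lib.Blocks.MaxPairs
import Cfsg.Agent.Lib.Blocks.PCent
import Cfsg.Agent.S3743
import Cfsg.Prelude.Def_OddOrderLocal

/-!
# Kernels of blocks along Brauer pairs
-/

namespace CfsgLib.Blocks

open Cfsg CfsgLib.CharTheory

set_option linter.unusedVariables false
set_option linter.unusedSimpArgs false
set_option linter.style.haveILetI false
set_option linter.unusedSectionVars false

universe u

variable {p : ℕ} {M : Ideal AlgInt} {G : Type u} [Group G] [Fintype G]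

/-- Every member of the block of the pair is trivial on `O ∩ C(Q)`. -/
def KillsPair (Q : Subgroup G) (f : Set (IrrCharacter (Subgroup.centralizer (Q : Set G))))
    (O : Subgroup G) : Prop :=
  ∀ ξ ∈ f, ∀ c : Subgroup.centralizer (Q : Set G), (c : G) ∈ O →
    (ξ : Subgroup.centralizer (Q : Set G) → ℂ) c = (ξ : Subgroup.centralizer (Q : Set G) → ℂ) 1

theorem avgFn_conj_of_normalizes {O : Subgroup G} {r : G}
    (hr : r ∈ Subgroup.normalizer (O : Set G)) (x : G) : avgFn O (r * x * r⁻¹) = avgFn O x := by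
  have h : r * x * r⁻¹ ∈ O ↔ x ∈ O := ((Subgroup.mem_normalizer_iff.1 hr) x).symm
  by_cases hx : x ∈ O <;> simp [avgFn, h, hx]

theorem mul_inv_mem_self {S : Subgroup G} {c z : G} (hc : c ∈ S) (hz : z ∈ S) : c * z * c⁻¹ ∈ S :=
  S.mul_mem (S.mul_mem hc hz) (S.inv_mem hc)

theorem avgFn_subgroupOf {O C : Subgroup G} [Fintype C] (hO : O ≤ C) (c : C) :
    avgFn O (c : G) = avgFn (O.subgroupOf C) c := by
  have e : Nat.card (O.subgroupOf C) = Nat.card O :=
    Nat.card_congr (Subgroup.subgroupOfEquivOfLe hO).toEquiv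
  by_cases hc : (c : G) ∈ O
  · simp only [avgFn, if_pos hc]
    rw [if_pos (show c ∈ O.subgroupOf C from hc), e]
  · simp only [avgFn, if_neg hc]
    rw [if_neg (show ¬ c ∈ O.subgroupOf C from hc)]

theorem nice_avgFn (hM : IsPModular p M) {O Q : Subgroup G} (hp : ¬ p ∣ Nat.card O)
    (hQ : Q ≤ Subgroup.normalizer (O : Set G))
    (hC : Subgroup.centralizer (Q : Set G) ≤ Subgroup.normalizer (O : Set G)) :
    Nice M Q (avgFn O) :=
  ⟨avgFn_mem hM hp, fun r hr x => avgFn_conj_of_normalizes (hQ hr) x,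
    fun c hc x => avgFn_conj_of_normalizes (hC hc) x⟩

/-- Kernels in terms of central characters. -/
theorem killsPair_iff_lam (hM : IsPModular p M) {O Q : Subgroup G} (hp : ¬ p ∣ Nat.card O)
    (hOC : O ≤ Subgroup.centralizer (Q : Set G))
    (hC : Subgroup.centralizer (Q : Set G) ≤ Subgroup.normalizer (O : Set G))
    {f : Set (IrrCharacter (Subgroup.centralizer (Q : Set G)))} (hf : IsPBlock M f)
    {ξ : IrrCharacter (Subgroup.centralizer (Q : Set G))} (hξ : ξ ∈ f) :
    KillsPair Q f O ↔ lam hM Q (avgFn O) ξ = 1 := by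
  classical
  haveI := res_isDomain hM
  haveI := Fintype.ofFinite (Subgroup.centralizer (Q : Set G))
  have hQ : Q ≤ Subgroup.normalizer (O : Set G) := fun q hq => by
    have hcomm : ∀ z ∈ O, q * z * q⁻¹ = z := fun z hz => by
      rw [hOC hz q hq, mul_inv_cancel_right]
    exact mem_normalizer_of_forall_mem fun z hz => (hcomm z hz).symm ▸ hz
  haveI : (O.subgroupOf (Subgroup.centralizer (Q : Set G))).Normal :=
    ⟨fun x hx g => (Subgroup.mem_normalizer_iff.1 (hC g.2) x).1 hx⟩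
  have hp' : ¬ p ∣ Nat.card (O.subgroupOf (Subgroup.centralizer (Q : Set G))) := by
    rwa [Nat.card_congr (Subgroup.subgroupOfEquivOfLe hOC).toEquiv]
  have key : ∀ η : IrrCharacter (Subgroup.centralizer (Q : Set G)),
      lam hM Q (avgFn O) η = 1 ↔ ∀ c : Subgroup.centralizer (Q : Set G), (c : G) ∈ O →
        (η : Subgroup.centralizer (Q : Set G) → ℂ) c =
          (η : Subgroup.centralizer (Q : Set G) → ℂ) 1 := by
    intro η
    rw [lam, brauerOmega_eq_omega, show (fun c : Subgroup.centralizer (Q : Set G) =>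
      avgFn O (c : G)) = avgFn (O.subgroupOf (Subgroup.centralizer (Q : Set G))) from
      funext fun c => avgFn_subgroupOf hOC c]
    obtain ⟨h01, hiff⟩ := omega_avgFn (O.subgroupOf (Subgroup.centralizer (Q : Set G))) η
    refine Iff.trans ?_ (hiff.trans ⟨fun h c hc => h c hc, fun h c hc => h c hc⟩)
    rcases h01 with h | h <;> simp [h, res_zero, res_one]
  refine ⟨fun h => (key ξ).2 (h ξ hξ), fun h η hη => (key η).1 ?_⟩
  rw [lam_block_congr hM (nice_avgFn hM hp hQ hC) hf hη hξ, h]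

/-- The averages over `O` and over its fixed points agree modulo `M`. -/
theorem res_avgFn_inf (hM : IsPModular p M) {O R : Subgroup G} (hR : IsPGroup p R)
    (hp : ¬ p ∣ Nat.card O) (hN : R ≤ Subgroup.normalizer (O : Set G)) {c : G}
    (hc : c ∈ Subgroup.centralizer (R : Set G)) :
    res hM (avgFn O c) = res hM (avgFn (O ⊓ Subgroup.centralizer (R : Set G)) c) := by
  classical
  haveI := res_charP hM
  haveI : Fact p.Prime := ⟨hM.1⟩
  by_cases hcO : c ∈ O
  · simp only [avgFn, if_pos hcO, if_pos (Subgroup.mem_inf.2 ⟨hcO, hc⟩)]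
    letI : MulAction R O :=
      { smul := fun r z => ⟨(r : G) * z * (r : G)⁻¹,
          (Subgroup.mem_normalizer_iff.1 (hN r.2) z).1 z.2⟩
        one_smul := fun z => Subtype.ext (by
          show ((1 : R) : G) * z * ((1 : R) : G)⁻¹ = z; simp)
        mul_smul := fun r s z => Subtype.ext (by
          show ((r * s : R) : G) * z * ((r * s : R) : G)⁻¹ =
            (r : G) * ((s : G) * z * (s : G)⁻¹) * (r : G)⁻¹
          simp [mul_assoc]) }
    have hmod := hR.card_modEq_card_fixedPoints O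
    have hcard : Nat.card (MulAction.fixedPoints R O) =
        Nat.card (O ⊓ Subgroup.centralizer (R : Set G) : Subgroup G) := Nat.card_congr
      { toFun := fun z => ⟨(z.1 : G), z.1.2, fun r hr =>
          mul_inv_eq_iff_eq_mul.1 (congrArg Subtype.val (z.2 ⟨r, hr⟩))⟩
        invFun := fun z => ⟨⟨z.1, z.2.1⟩, fun r => Subtype.ext (by
          show (r : G) * z.1 * (r : G)⁻¹ = z.1
          rw [z.2.2 r r.2, mul_inv_cancel_right])⟩
        left_inv := fun z => rfl
        right_inv := fun z => rfl }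
    rw [hcard] at hmod
    have hp2 : ¬ p ∣ Nat.card (O ⊓ Subgroup.centralizer (R : Set G) : Subgroup G) :=
      fun h => hp ((hmod.dvd_iff dvd_rfl).2 h)
    have e : ∀ n : ℕ, ¬ p ∣ n → (n : AlgInt ⧸ M) * res hM ((n : ℂ)⁻¹) = 1 := fun n hn => by
      rw [← res_natCast hM, ← res_mul hM (memRing_natCast hM n) (natCast_inv_mem hM hn),
        mul_inv_cancel₀ (Nat.cast_ne_zero.2 (by rintro rfl; exact hn (dvd_zero p))), res_one]
    have h1 := e _ hp
    have h2 := e _ hp2
    rw [(CharP.natCast_eq_natCast (AlgInt ⧸ M) p).2 hmod] at h1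
    calc res hM ((Nat.card O : ℂ)⁻¹)
        = (((Nat.card (O ⊓ Subgroup.centralizer (R : Set G) : Subgroup G) : ℕ) : AlgInt ⧸ M) *
            res hM (((Nat.card (O ⊓ Subgroup.centralizer (R : Set G) : Subgroup G) : ℕ) : ℂ)⁻¹)) *
            res hM ((Nat.card O : ℂ)⁻¹) := by rw [h2, one_mul]
      _ = (((Nat.card (O ⊓ Subgroup.centralizer (R : Set G) : Subgroup G) : ℕ) : AlgInt ⧸ M) *
            res hM ((Nat.card O : ℂ)⁻¹)) *
            res hM (((Nat.card (O ⊓ Subgroup.centralizer (R : Set G) : Subgroup G) : ℕ) : ℂ)⁻¹) := by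
          ring
      _ = _ := by rw [h1, one_mul]
  · simp only [avgFn, if_neg hcO, if_neg fun h : c ∈ O ⊓ _ => hcO h.1]

/-- A normal inclusion transports kernels in both directions. -/
theorem killsPair_step (hM : IsPModular p M) {Q R O : Subgroup G}
    {f : Set (IrrCharacter (Subgroup.centralizer (Q : Set G)))}
    {g : Set (IrrCharacter (Subgroup.centralizer (R : Set G)))}
    (h : IsNormalSubpair p M Q f R g) (hp : ¬ p ∣ Nat.card O)
    (hOC : O ≤ Subgroup.centralizer (Q : Set G))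
    (hC : Subgroup.centralizer (Q : Set G) ≤ Subgroup.normalizer (O : Set G))
    (hR : R ≤ Subgroup.normalizer (O : Set G)) :
    KillsPair Q f O ↔ KillsPair R g (O ⊓ Subgroup.centralizer (R : Set G)) := by
  classical
  haveI : Fact p.Prime := ⟨hM.1⟩
  obtain ⟨⟨hQp, hf⟩, ⟨hRp, hg⟩, hQR, hN, hst, -⟩ := id h
  obtain ⟨η, hη⟩ := bne hM hf
  obtain ⟨ξ, hξ⟩ := bne hM hg
  have hCR : Subgroup.centralizer (R : Set G) ≤ Subgroup.normalizer (O : Set G) :=
    (centralizer_anti hQR).trans hC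
  have hCN : Subgroup.centralizer (R : Set G) ≤
      Subgroup.normalizer ((O ⊓ Subgroup.centralizer (R : Set G) : Subgroup G) : Set G) :=
    fun c hc => mem_normalizer_of_forall_mem fun z hz =>
      ⟨(Subgroup.mem_normalizer_iff.1 (hCR hc) z).1 hz.1,
        mul_inv_mem_self hc hz.2⟩
  have hp2 : ¬ p ∣ Nat.card (O ⊓ Subgroup.centralizer (R : Set G) : Subgroup G) :=
    fun h' => hp (h'.trans (Subgroup.card_dvd_of_le inf_le_left))
  have hRN : R ≤ Subgroup.normalizer ((O ⊓ Subgroup.centralizer (R : Set G) : Subgroup G) : Set G) :=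
    fun r hr => mem_normalizer_of_forall_mem fun z hz => by
      rw [hz.2 r hr, mul_inv_cancel_right]; exact hz
  rw [killsPair_iff_lam hM hp hOC hC hf hη, killsPair_iff_lam hM hp2 inf_le_right hCN hg hξ,
    ← lam_congr hM (nice_avgFn hM hp hR hCR) (nice_avgFn hM hp2 hRN hCN)
      (fun c hc => res_avgFn_inf hM hRp hp hR hc) ξ,
    lam_trans hM hRp hQR hN hf hst hη (normalSubpair_lam hM h hξ) (nice_avgFn hM hp hR hCR)
      (nice_avgFn hM hp (hQR.trans hR) hC)]

/-- Kernels of a block and of its pairs. -/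
theorem blockKer_iff_pair (hM : IsPModular p M) {X : Subgroup G} [X.Normal]
    (hp : ¬ p ∣ Nat.card X) {c : Set (IrrCharacter G)} {R : Subgroup G}
    {g : Set (IrrCharacter (Subgroup.centralizer (R : Set G)))}
    (h : IsBrauerPairOf p M c R g) :
    (∀ x ∈ X, x ∈ blockKer c) ↔ KillsPair R g (X ⊓ Subgroup.centralizer (R : Set G)) := by
  classical
  haveI := res_isDomain hM
  haveI : Fact p.Prime := ⟨hM.1⟩
  obtain ⟨ξ, hξ⟩ := bne hM h.1.2
  have hN : ∀ S : Subgroup G, S ≤ Subgroup.normalizer (X : Set G) := fun S => by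
    rw [Subgroup.normalizer_eq_top_iff.2 ‹X.Normal›]; exact le_top
  have hp2 : ¬ p ∣ Nat.card (X ⊓ Subgroup.centralizer (R : Set G) : Subgroup G) :=
    fun h' => hp (h'.trans (Subgroup.card_dvd_of_le inf_le_left))
  have hCN : Subgroup.centralizer (R : Set G) ≤
      Subgroup.normalizer ((X ⊓ Subgroup.centralizer (R : Set G) : Subgroup G) : Set G) :=
    fun c hc => mem_normalizer_of_forall_mem fun z hz =>
      ⟨(Subgroup.mem_normalizer_iff.1 (hN _ hc) z).1 hz.1, mul_inv_mem_self hc hz.2⟩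
  have hRN : R ≤ Subgroup.normalizer ((X ⊓ Subgroup.centralizer (R : Set G) : Subgroup G) : Set G) :=
    fun r hr => mem_normalizer_of_forall_mem fun z hz => by
      rw [hz.2 r hr, mul_inv_cancel_right]; exact hz
  obtain ⟨φ, hφ⟩ := exists_lam_irr hM h.1.1 ξ
  have hφc := lam_irr_mem hM h.2.1 hφ (pairOf_lam hM h hξ)
  rw [killsPair_iff_lam hM hp2 inf_le_right hCN h.1.2 hξ,
    ← lam_congr hM (nice_avgFn hM hp (hN _) (hN _)) (nice_avgFn hM hp2 hRN hCN)
      (fun c hc => res_avgFn_inf hM h.1.1 hp (hN _) hc) ξ,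
    hφ _ (avgFn_isClassFunction X) (avgFn_mem hM hp)]
  have h1 : ∀ χ : IrrCharacter G, res hM (omega (χ : G → ℂ) (avgFn X)) = 1 ↔
      ∀ n ∈ X, (χ : G → ℂ) n = (χ : G → ℂ) 1 := fun χ => by
    obtain ⟨h01, hiff⟩ := omega_avgFn X χ
    rw [← hiff]
    rcases h01 with h | h <;> simp [h, res_zero, res_one]
  rw [h1]
  refine ⟨fun hk n hn => hk n hn φ hφc, fun hk n hn χ hχ => (h1 χ).1 ?_ n hn⟩
  rw [Zloc_res_congr hM (v := fun ψ : IrrCharacter G => omega (ψ : G → ℂ) (avgFn X))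
    (omega_mem_Zloc hM (avgFn_isClassFunction X) (avgFn_mem hM hp))
    (sameBlock_of_mem hM h.2.1 hχ hφc), (h1 φ).2 hk]

/-- A pair of a block of a subgroup is a pair of the induced block. -/
theorem pairOf_of_induced (hM : IsPModular p M) {H : Subgroup G} [Fintype H]
    {a : BrauerPairIdx H}
    {ha : Subgroup.centralizer ((a.1.map H.subtype : Subgroup G) : Set G) ≤ H}
    {P : Subgroup G} {e : Set (IrrCharacter (Subgroup.centralizer (P : Set G)))}
    (h : upIdx a ha = ⟨P, e⟩) {c : Set (IrrCharacter H)} (hc : IsBrauerPairOf p M c a.1 a.2)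
    {B : Set (IrrCharacter G)} (hind : IsInducedBlock M H c B) :
    IsBrauerPairOf p M B P e := by
  classical
  haveI : Fact p.Prime := ⟨hM.1⟩
  have he := isPBlock_upIdx hc.1.2 h
  have hPp : IsPGroup p P := le_map_subtype_of_eq h ▸ hc.1.1.map H.subtype
  obtain ⟨R', g'⟩ := a
  obtain ⟨h1, h2⟩ := Sigma.mk.inj_iff.1 h
  subst h1
  have h3 := eq_of_heq h2
  subst h3
  obtain ⟨ξ, hξ⟩ := bne hM hc.1.2
  refine pairOf_of_lam hM hPp he (ξ := irrPull (upE R' ha) ξ) ⟨ξ, hξ, rfl⟩ hind.2.1 ?_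
  obtain ⟨φ, hφ⟩ := exists_lam_irr hM hc.1.1 ξ
  have hφc := lam_irr_mem hM hc.2.1 hφ (pairOf_lam hM hc hξ)
  have hcl : IsClassFunction H (fun k : H => blockCoeff B (k : G)) :=
    fun x y => blockCoeff_isClassFunction _ (x : G) (y : G)
  rw [lam, brauerOmega_up]
  show lam hM R' (fun k : H => blockCoeff B (k : G)) ξ = 1
  rw [hφ _ hcl fun k => memRing_blockCoeff hM hind.2.1 _]
  obtain ⟨χ, hχ⟩ := block_nonempty hM hind.2.1
  rw [res_omega_of_induced H hM φ χ (hind.2.2 φ hφc χ hχ) (blockCoeff_isClassFunction B)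
    (memRing_blockCoeff hM hind.2.1), ← cf_ind, omega_cf, ind_of_mem hχ, res_one]

/-- The `π'`-elements. -/
def PiElt (π : Set ℕ) (x : G) : Prop := ∀ q : ℕ, q.Prime → q ∣ orderOf x → q ∉ π

theorem piElt_conj {π : Set ℕ} {x : G} (g : G) (h : PiElt π x) : PiElt π (g * x * g⁻¹) := by
  intro q hq hd
  rw [conj_orderOf] at hd
  exact h q hq hd

theorem piElt_of_mem {π : Set ℕ} {O : Subgroup G}
    (hO : ∀ q : ℕ, q.Prime → q ∣ Nat.card O → q ∉ π) {x : G} (hx : x ∈ O) : PiElt π x :=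
  fun q hq hd => hO q hq (hd.trans (Subgroup.orderOf_dvd_natCard O hx))

theorem not_dvd_of_piSubgroup (hp : p.Prime) {π : Set ℕ} (hpπ : p ∈ π) {O : Subgroup G}
    (hO : ∀ q : ℕ, q.Prime → q ∣ Nat.card O → q ∉ π) : ¬ p ∣ Nat.card O :=
  fun h => hO p hp h hpπ

theorem piPrimes_of_elts {π : Set ℕ} {O : Subgroup G} (h : ∀ x ∈ O, PiElt π x) :
    ∀ q : ℕ, q.Prime → q ∣ Nat.card O → q ∉ π := by
  intro q hq hd
  haveI : Fact q.Prime := ⟨hq⟩
  obtain ⟨x, hx⟩ := exists_prime_orderOf_dvd_card' q hd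
  exact h x x.2 q hq (by rw [Subgroup.orderOf_coe, hx])

/-- The largest normal `π'`-subgroup of a centralizer, in the group. -/
def opCent (π : Set ℕ) (R : Subgroup G) : Subgroup G :=
  piCoreOf {q | q ∉ π} (Subgroup.centralizer (R : Set G))

theorem opCent_le (π : Set ℕ) (R : Subgroup G) :
    opCent π R ≤ Subgroup.centralizer (R : Set G) := Subgroup.map_subtype_le _

theorem card_opCent (π : Set ℕ) (R : Subgroup G) :
    ∀ q : ℕ, q.Prime → q ∣ Nat.card (opCent π R) → q ∉ π := by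
  intro q hq hd
  rw [opCent, piCoreOf, Subgroup.card_map_of_injective (Subgroup.subtype_injective _)] at hd
  exact Cfsg.Agent.S3743.card_piCore _ q hq hd

theorem le_opCent {π : Set ℕ} {R X : Subgroup G} (hX : X ≤ Subgroup.centralizer (R : Set G))
    (hN : Subgroup.centralizer (R : Set G) ≤ Subgroup.normalizer (X : Set G))
    (hπ : ∀ x ∈ X, PiElt π x) : X ≤ opCent π R := by
  haveI : (X.subgroupOf (Subgroup.centralizer (R : Set G))).Normal :=
    ⟨fun x hx g => (Subgroup.mem_normalizer_iff.1 (hN g.2) x).1 hx⟩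
  rw [← Subgroup.map_subgroupOf_eq_of_le hX]
  refine Subgroup.map_mono (le_sSup ⟨inferInstance, ?_⟩)
  rw [Nat.card_congr (Subgroup.subgroupOfEquivOfLe hX).toEquiv]
  exact piPrimes_of_elts hπ

theorem cent_le_normalizer_opCent (π : Set ℕ) (R : Subgroup G) :
    Subgroup.centralizer (R : Set G) ≤ Subgroup.normalizer (opCent π R : Set G) := fun c hc =>
  mem_normalizer_of_forall_mem fun z hz => by
    obtain ⟨w, hw, rfl⟩ := Subgroup.mem_map.1 hz
    exact ⟨⟨c, hc⟩ * w * ⟨c, hc⟩⁻¹, Subgroup.Normal.conj_mem inferInstance w hw _, rfl⟩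

/-- Conjugation carries `opCent` along. -/
theorem conj_mem_opCent {π : Set ℕ} {R : Subgroup G} (y : G) {z : G} (hz : z ∈ opCent π R) :
    y * z * y⁻¹ ∈ opCent π (R.map (MulAut.conj y).toMonoidHom) := by
  have h : (opCent π R).map (MulAut.conj y).toMonoidHom ≤
      opCent π (R.map (MulAut.conj y).toMonoidHom) := by
    refine le_opCent ?_ ?_ ?_
    · rintro _ ⟨w, hw, rfl⟩
      refine (conj_mem_cent_iff R y _).2 ?_
      show y⁻¹ * (y * w * y⁻¹) * y ∈ _
      rw [show y⁻¹ * (y * w * y⁻¹) * y = w by group]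
      exact opCent_le π R hw
    · intro c hc
      have hc' := (conj_mem_cent_iff R y c).1 hc
      refine mem_normalizer_of_forall_mem ?_
      rintro _ ⟨w, hw, rfl⟩
      refine ⟨(y⁻¹ * c * y) * w * (y⁻¹ * c * y)⁻¹,
        (Subgroup.mem_normalizer_iff.1 (cent_le_normalizer_opCent π R hc') w).1 hw, ?_⟩
      show y * ((y⁻¹ * c * y) * w * (y⁻¹ * c * y)⁻¹) * y⁻¹ = c * (y * w * y⁻¹) * c⁻¹
      group
    · rintro _ ⟨w, hw, rfl⟩
      exact piElt_conj y (piElt_of_mem (card_opCent π R) hw)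
  exact h ⟨z, hz, rfl⟩

theorem normalizer_le_normalizer_opCent (π : Set ℕ) (R : Subgroup G) :
    Subgroup.normalizer (R : Set G) ≤ Subgroup.normalizer (opCent π R : Set G) := fun y hy =>
  mem_normalizer_of_forall_mem fun z hz => by
    have h := conj_mem_opCent y hz
    rwa [map_conj_normalizer hy] at h

/-- Below a pair killing its `π'`-core every pair kills its `π'`-core. -/
theorem killsPair_descend (hM : IsPModular p M) {π : Set ℕ} (hpπ : p ∈ π) {a b : BrauerPairIdx G}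
    (h : Relation.ReflTransGen (NormalSubpairRel p M) a b)
    (hb : KillsPair b.1 b.2 (opCent π b.1)) : KillsPair a.1 a.2 (opCent π a.1) := by
  induction h using Relation.ReflTransGen.head_induction_on with
  | refl => exact hb
  | @head c d h1 h2 ih =>
    have hR : d.1 ≤ Subgroup.normalizer (opCent π c.1 : Set G) :=
      h1.2.2.2.1.trans (normalizer_le_normalizer_opCent π c.1)
    refine (killsPair_step hM h1 (not_dvd_of_piSubgroup hM.1 hpπ (card_opCent π c.1))
      (opCent_le π c.1) (cent_le_normalizer_opCent π c.1) hR).2 fun ξ hξ x hx => ih ξ hξ x ?_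
    refine le_opCent inf_le_right (fun y hy => mem_normalizer_of_forall_mem fun z hz =>
      ⟨(Subgroup.mem_normalizer_iff.1 (cent_le_normalizer_opCent π c.1
        (centralizer_anti h1.2.2.1 hy)) z).1 hz.1, mul_inv_mem_self hy hz.2⟩)
      (fun z hz => piElt_of_mem (card_opCent π c.1) hz.1) hx

/-- The `π'`-elements of `C(R)` form a group in the kernel of `g`. -/
def PiKills (π : Set ℕ) (a : BrauerPairIdx G) : Prop :=
  ∃ O : Subgroup G, (∀ x, x ∈ O ↔ x ∈ Subgroup.centralizer (a.1 : Set G) ∧ PiElt π x) ∧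
    KillsPair a.1 a.2 O

theorem piKills_ascend (hM : IsPModular p M) {π : Set ℕ} (hpπ : p ∈ π) {a b : BrauerPairIdx G}
    (h : Relation.ReflTransGen (NormalSubpairRel p M) a b) (ha : PiKills π a) : PiKills π b := by
  induction h with
  | refl => exact ha
  | @tail c d h1 h2 ih =>
    obtain ⟨O, hO, hk⟩ := ih
    have hnorm : ∀ r : G, (∀ z ∈ Subgroup.centralizer (c.1 : Set G),
        r * z * r⁻¹ ∈ Subgroup.centralizer (c.1 : Set G)) →
        r ∈ Subgroup.normalizer (O : Set G) := fun r hr =>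
      mem_normalizer_of_forall_mem fun z hz =>
        (hO _).2 ⟨hr z ((hO z).1 hz).1, piElt_conj r ((hO z).1 hz).2⟩
    have hC : Subgroup.centralizer (c.1 : Set G) ≤ Subgroup.normalizer (O : Set G) :=
      fun r hr => hnorm r fun z hz => mul_inv_mem_self hr hz
    have hR : d.1 ≤ Subgroup.normalizer (O : Set G) := fun r hr => hnorm r fun z hz =>
      (Subgroup.mem_normalizer_iff.1 (normalizer_le_normalizer_cent _ (h2.2.2.2.1 hr)) z).1 hz
    refine ⟨O ⊓ Subgroup.centralizer (d.1 : Set G), fun x => ⟨fun hx => ⟨hx.2, ((hO x).1 hx.1).2⟩,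
      fun hx => ⟨(hO x).2 ⟨centralizer_anti h2.2.2.1 hx.1, hx.2⟩, hx.1⟩⟩, ?_⟩
    exact (killsPair_step hM h2 (not_dvd_of_piSubgroup hM.1 hpπ
      (piPrimes_of_elts fun x hx => ((hO x).1 hx).2)) (fun x hx => ((hO x).1 hx).1) hC hR).1 hk

theorem piKills_conj {π : Set ℕ} {a : BrauerPairIdx G} (y : G) (h : PiKills π a) :
    PiKills π (conjIdx y a) := by
  obtain ⟨Q, f⟩ := a
  obtain ⟨O, hO, hk⟩ := h
  refine ⟨O.map (MulAut.conj y).toMonoidHom, fun x => ?_, ?_⟩
  · rw [conjMap_mem_iff, hO]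
    show _ ↔ x ∈ Subgroup.centralizer ((Q.map (MulAut.conj y).toMonoidHom : Subgroup G) : Set G) ∧ _
    rw [conj_mem_cent_iff]
    refine and_congr Iff.rfl ⟨fun h => ?_, fun h => ?_⟩
    · have := piElt_conj y h
      rwa [show y * (y⁻¹ * x * y) * y⁻¹ = x by group] at this
    · have := piElt_conj y⁻¹ h
      rwa [inv_inv] at this
  · rintro ξ' ⟨ξ, hξ, hc⟩ c' hc'
    rw [conjMap_mem_iff] at hc'
    have hm : y⁻¹ * (c' : G) * y ∈ Subgroup.centralizer (Q : Set G) := (conj_mem_cent_iff Q y _).1 c'.2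
    refine (hc ⟨_, hm⟩ c' (by show (c' : G) = y * (y⁻¹ * (c' : G) * y) * y⁻¹; group)).trans
      ((hk ξ hξ ⟨_, hm⟩ hc').trans (hc 1 1 ?_).symm)
    show (1 : G) = y * 1 * y⁻¹
    group

theorem killsPair_of_conj {π : Set ℕ} {a : BrauerPairIdx G} (y : G)
    (h : KillsPair (conjIdx y a).1 (conjIdx y a).2 (opCent π (conjIdx y a).1)) :
    KillsPair a.1 a.2 (opCent π a.1) := by
  obtain ⟨Q, f⟩ := a
  intro ξ hξ c hc
  have hm := h (irrPull (centE Q y) ξ) (by
      show irrPull (centE Q y) ξ ∈ conjBlock Q y f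
      rw [conjBlock_eq]; exact ⟨ξ, hξ, rfl⟩)
    ((centE Q y).symm c) (conj_mem_opCent y hc)
  change (ξ : Subgroup.centralizer (Q : Set G) → ℂ) (centE Q y ((centE Q y).symm c)) =
    (ξ : Subgroup.centralizer (Q : Set G) → ℂ) (centE Q y 1) at hm
  rwa [map_one, MulEquiv.apply_symm_apply] at hm

/-- The pair at `D` of the Brauer correspondent. -/
theorem exists_normalizer_pair (hM : IsPModular p M) {B : Set (IrrCharacter G)} {D : Subgroup G}
    (hBD : IsDefectGroup p M B D) [Fintype (Subgroup.normalizer (D : Set G))]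
    {B₁ : Set (IrrCharacter (Subgroup.normalizer (D : Set G)))}
    (hB₁ : IsInducedBlock M (Subgroup.normalizer (D : Set G)) B₁ B)
    (hB₁D : IsDefectGroup p M B₁ (D.subgroupOf (Subgroup.normalizer (D : Set G)))) :
    ∃ (a : BrauerPairIdx (Subgroup.normalizer (D : Set G)))
      (ha : Subgroup.centralizer
        ((a.1.map (Subgroup.normalizer (D : Set G)).subtype : Subgroup G) : Set G) ≤
          Subgroup.normalizer (D : Set G))
      (e : Set (IrrCharacter (Subgroup.centralizer (D : Set G)))),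
      upIdx a ha = ⟨D, e⟩ ∧ IsBrauerPairOf p M B₁ a.1 a.2 ∧
        IsMaximalBrauerPair p M B D e := by
  obtain ⟨a, ha, e, hup, hmax, -, -⟩ := exists_pair_at hM Subgroup.le_normalizer
    (Subgroup.centralizer_le_normalizer _) hB₁.1 hB₁D
  exact ⟨a, ha, e, hup, hmax.1,
    pair_at_defect_maximal hM (pairOf_of_induced hM hup hmax.1 hB₁) hBD⟩

theorem killsPair_upIdx {H : Subgroup G} [Fintype H] {a : BrauerPairIdx H}
    {ha : Subgroup.centralizer ((a.1.map H.subtype : Subgroup G) : Set G) ≤ H}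
    {P : Subgroup G} {e : Set (IrrCharacter (Subgroup.centralizer (P : Set G)))}
    (h : upIdx a ha = ⟨P, e⟩) {O : Subgroup G} :
    KillsPair P e O ↔ KillsPair a.1 a.2 (O.subgroupOf H) := by
  obtain ⟨R', g'⟩ := a
  obtain ⟨h1, h2⟩ := Sigma.mk.inj_iff.1 h
  subst h1
  have h3 := eq_of_heq h2
  subst h3
  constructor
  · intro hk ξ hξ c hc
    have h4 := hk (irrPull (upE R' ha) ξ) ⟨ξ, hξ, rfl⟩ ((upE R' ha).symm c) hc
    simp only [irrPull_apply, MulEquiv.apply_symm_apply, map_one] at h4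
    exact h4
  · rintro hk _ ⟨ξ, hξ, rfl⟩ c hc
    simp only [irrPull_apply, map_one]
    exact hk ξ hξ (upE R' ha c) hc

/-- The correspondent's kernel passes to the maximal pair. -/
theorem kills_of_correspondent (hM : IsPModular p M) {π : Set ℕ} (hpπ : p ∈ π)
    {D : Subgroup G} [Fintype (Subgroup.normalizer (D : Set G))]
    {B₁ : Set (IrrCharacter (Subgroup.normalizer (D : Set G)))}
    {a : BrauerPairIdx (Subgroup.normalizer (D : Set G))}
    {ha : Subgroup.centralizer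
      ((a.1.map (Subgroup.normalizer (D : Set G)).subtype : Subgroup G) : Set G) ≤
        Subgroup.normalizer (D : Set G)}
    {e : Set (IrrCharacter (Subgroup.centralizer (D : Set G)))}
    (hup : upIdx a ha = ⟨D, e⟩) (hpair : IsBrauerPairOf p M B₁ a.1 a.2)
    (hker : ∀ n : Subgroup.normalizer (D : Set G),
      n ∈ piCore {q | q ∉ π} (Subgroup.normalizer (D : Set G)) → n ∈ blockKer B₁) :
    KillsPair D e (opCent π D) := by
  have hle : opCent π D ≤ Subgroup.normalizer (D : Set G) :=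
    (opCent_le π D).trans (Subgroup.centralizer_le_normalizer _)
  haveI hn : ((opCent π D).subgroupOf (Subgroup.normalizer (D : Set G))).Normal :=
    ⟨fun x hx g => (Subgroup.mem_normalizer_iff.1 (normalizer_le_normalizer_opCent π D g.2) x).1 hx⟩
  have hcard : ∀ q : ℕ, q.Prime →
      q ∣ Nat.card ((opCent π D).subgroupOf (Subgroup.normalizer (D : Set G))) → q ∉ π := by
    rw [Nat.card_congr (Subgroup.subgroupOfEquivOfLe hle).toEquiv]; exact card_opCent π D
  have hK := (blockKer_iff_pair hM (not_dvd_of_piSubgroup hM.1 hpπ hcard) hpair).1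
    fun x hx => hker x ((le_sSup ⟨hn, hcard⟩ :
      (opCent π D).subgroupOf (Subgroup.normalizer (D : Set G)) ≤ piCore {q | q ∉ π} _) hx)
  rw [killsPair_upIdx hup]
  exact fun ξ hξ c hc => hK ξ hξ c ⟨hc, c.2⟩

/-- S4734. -/
theorem kernel_descends (hM : IsPModular p M) {π : Set ℕ} (hpπ : p ∈ π)
    {B : Set (IrrCharacter G)} {D : Subgroup G} (hBD : IsDefectGroup p M B D)
    [Fintype (Subgroup.normalizer (D : Set G))]
    {B₁ : Set (IrrCharacter (Subgroup.normalizer (D : Set G)))}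
    (hB₁ : IsInducedBlock M (Subgroup.normalizer (D : Set G)) B₁ B)
    (hB₁D : IsDefectGroup p M B₁ (D.subgroupOf (Subgroup.normalizer (D : Set G))))
    (hker : ∀ n : Subgroup.normalizer (D : Set G),
      n ∈ piCore {q | q ∉ π} (Subgroup.normalizer (D : Set G)) → n ∈ blockKer B₁)
    {G₀ : Subgroup G} [Fintype G₀] {B₀ : Set (IrrCharacter G₀)}
    (hB₀ : IsInducedBlock M G₀ B₀ B) {D₀ : Subgroup G₀} (hD₀ : IsDefectGroup p M B₀ D₀)
    (hC : Subgroup.centralizer ((D₀.map G₀.subtype : Subgroup G) : Set G) ≤ G₀) :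
    ∀ x : G₀, x ∈ piCore {q | q ∉ π} G₀ → x ∈ blockKer B₀ := by
  classical
  obtain ⟨a, ha, e, hup, hpair, hmax⟩ := exists_normalizer_pair hM hBD hB₁ hB₁D
  obtain ⟨g', hg'⟩ := exists_maximal_at hM hB₀.1 hD₀
  generalize hi : upIdx (⟨D₀, g'⟩ : BrauerPairIdx G₀) hC = i
  have hi1 : i.1 = D₀.map G₀.subtype := hi ▸ rfl
  obtain ⟨P, e₀⟩ := i
  change P = _ at hi1
  subst hi1
  obtain ⟨y, hy⟩ := exists_conj_subpair hM (a := ⟨_, e₀⟩) (m := ⟨D, e⟩) hmax
    (pairOf_of_induced hM hi hg'.1 hB₀)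
  have h1 := killsPair_descend hM hpπ hy (kills_of_correspondent hM hpπ hup hpair hker)
  have h2 : KillsPair (D₀.map G₀.subtype) e₀ (opCent π (D₀.map G₀.subtype)) :=
    killsPair_of_conj (a := ⟨_, e₀⟩) y h1
  refine (blockKer_iff_pair hM (not_dvd_of_piSubgroup hM.1 hpπ
    (Cfsg.Agent.S3743.card_piCore (G := G₀) {q | q ∉ π})) hg'.1).2 fun ξ hξ c hc => ?_
  rw [killsPair_upIdx hi] at h2
  refine h2 ξ hξ c ?_
  set X := (piCore {q | q ∉ π} G₀).map G₀.subtype with hX
  refine (le_opCent (X := X ⊓ Subgroup.centralizer ((D₀.map G₀.subtype : Subgroup G) : Set G))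
    inf_le_right (fun r hr => mem_normalizer_of_forall_mem fun z hz => ?_)
    (fun z hz => ?_)) (show ((c : G₀) : G) ∈ _ from
      ⟨⟨c, hc.1, rfl⟩, (mem_cent_map_iff D₀ c).2 hc.2⟩)
  · obtain ⟨w, hw, rfl⟩ := hz.1
    exact ⟨⟨⟨r, hC hr⟩ * w * ⟨r, hC hr⟩⁻¹, (piCore_normal _ _).conj_mem w hw _, rfl⟩,
      mul_inv_mem_self hr hz.2⟩
  · refine piElt_of_mem ?_ hz.1
    rw [hX, Subgroup.card_map_of_injective (Subgroup.subtype_injective _)]
    exact Cfsg.Agent.S3743.card_piCore _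

/-- S4728. -/
theorem kernel_ascends (hM : IsPModular p M) {π : Set ℕ} (hpπ : p ∈ π)
    {B : Set (IrrCharacter G)} {D : Subgroup G} (hBD : IsDefectGroup p M B D)
    [Fintype (Subgroup.normalizer (D : Set G))]
    {B₁ : Set (IrrCharacter (Subgroup.normalizer (D : Set G)))}
    (hB₁ : IsInducedBlock M (Subgroup.normalizer (D : Set G)) B₁ B)
    (hB₁D : IsDefectGroup p M B₁ (D.subgroupOf (Subgroup.normalizer (D : Set G))))
    {D₀ : Subgroup G} (hD₀ : IsPGroup p D₀) {H₀ : Subgroup G} [Fintype H₀]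
    (hH₀ : H₀ = D₀ ⊔ Subgroup.centralizer (D₀ : Set G)) {b : Set (IrrCharacter H₀)}
    (hb : IsInducedBlock M H₀ b B)
    (hcompl : ∀ x : Subgroup.centralizer (D₀ : Set G),
      (∀ q : ℕ, q.Prime → q ∣ orderOf x → q ∉ π) →
        x ∈ piCore {q | q ∉ π} (Subgroup.centralizer (D₀ : Set G)))
    (hkerb : ∀ x : Subgroup.centralizer (D₀ : Set G),
      x ∈ piCore {q | q ∉ π} (Subgroup.centralizer (D₀ : Set G)) →
      ∀ θ ∈ b, ∀ h : H₀, (h : G) = (x : G) → (θ : H₀ → ℂ) h = (θ : H₀ → ℂ) 1) :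
    ∀ n : Subgroup.normalizer (D : Set G),
      n ∈ piCore {q | q ∉ π} (Subgroup.normalizer (D : Set G)) → n ∈ blockKer B₁ := by
  classical
  haveI : Fact p.Prime := ⟨hM.1⟩
  obtain ⟨a, ha, e, hup, hpair, hmax⟩ := exists_normalizer_pair hM hBD hB₁ hB₁D
  have hDH : D₀ ≤ H₀ := hH₀ ▸ le_sup_left
  have hC : Subgroup.centralizer (D₀ : Set G) ≤ H₀ := hH₀ ▸ le_sup_right
  have hN : H₀ ≤ Subgroup.normalizer (D₀ : Set G) := hH₀ ▸ pcent_le_normalizer D₀
  haveI : (D₀.subgroupOf H₀).Normal :=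
    ⟨fun x hx g => (Subgroup.mem_normalizer_iff.1 (hN g.2) x).1 hx⟩
  obtain ⟨l, hl⟩ := exists_defectClass hM hb.1
  have hlC := mem_centralizer_normal hM hb.1 (P := D₀.subgroupOf H₀) hD₀.comap_subtype hl.2.1
  obtain ⟨E, hE, hDE⟩ := exists_defectGroup_ge hM hb.1 hl.2.1 (P := D₀.subgroupOf H₀)
    hD₀.comap_subtype (fun x hx => by
      rw [Subgroup.mem_centralizer_singleton_iff]; exact hlC x hx)
  obtain ⟨g, hg⟩ := exists_maximal_at hM hb.1 hE
  obtain ⟨f, ⟨hf, hfle⟩, -⟩ := existsUnique_subpair hM hg.1.1.1 hg.1.1.2 (D₀.subgroupOf H₀) hDE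
  have hfb : IsBrauerPairOf p M b (D₀.subgroupOf H₀) f :=
    (pairOf_subpair_iff hM (a := ⟨_, f⟩) (b := ⟨E, g⟩) hfle b).2 hg.1
  have hmapD : (D₀.subgroupOf H₀).map H₀.subtype = D₀ := Subgroup.map_subgroupOf_eq_of_le hDH
  have hC' : Subgroup.centralizer (((D₀.subgroupOf H₀).map H₀.subtype : Subgroup G) : Set G) ≤ H₀ :=
    hmapD.symm ▸ hC
  generalize hi : upIdx (⟨D₀.subgroupOf H₀, f⟩ : BrauerPairIdx H₀) hC' = i
  have hi1 : i.1 = D₀ := by rw [← hi]; exact hmapD
  obtain ⟨P, e₀⟩ := i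
  change P = D₀ at hi1
  subst hi1
  set O := opCent π P with hO
  have hOmem : ∀ x, x ∈ O ↔ x ∈ Subgroup.centralizer (P : Set G) ∧ PiElt π x := fun x =>
    ⟨fun hx => ⟨opCent_le π P hx, piElt_of_mem (card_opCent π P) hx⟩, fun hx =>
      ⟨⟨x, hx.1⟩, hcompl ⟨x, hx.1⟩ (fun q hq hd => hx.2 q hq (by
        rwa [← Subgroup.orderOf_coe] at hd)), rfl⟩⟩
  have hOH : O ≤ H₀ := (opCent_le π P).trans hC
  haveI : (O.subgroupOf H₀).Normal :=
    ⟨fun x hx g => (Subgroup.mem_normalizer_iff.1 (normalizer_le_normalizer_opCent π P (hN g.2)) x).1 hx⟩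
  have hpO : ¬ p ∣ Nat.card (O.subgroupOf H₀) := by
    rw [Nat.card_congr (Subgroup.subgroupOfEquivOfLe hOH).toEquiv]
    exact not_dvd_of_piSubgroup hM.1 hpπ (card_opCent π P)
  have h0 : PiKills π (⟨P, e₀⟩ : BrauerPairIdx G) := by
    refine ⟨O, hOmem, ?_⟩
    rw [killsPair_upIdx hi]
    refine fun ξ hξ c hc => (blockKer_iff_pair hM hpO hfb).1 (fun x hx θ hθ => ?_) ξ hξ c ⟨hc, c.2⟩
    obtain ⟨w, hw, hwx⟩ := (hx : (x : G) ∈ O)
    exact hkerb w hw θ hθ x hwx.symm
  obtain ⟨y, hy⟩ := exists_conj_subpair hM (a := ⟨P, e₀⟩) (m := ⟨D, e⟩) hmax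
    (pairOf_of_induced hM hi hfb hb)
  obtain ⟨O', hO', hk'⟩ := piKills_ascend hM hpπ hy (piKills_conj y h0)
  -- the core of the normalizer centralizes `D`
  intro n hn
  have hX := Cfsg.Agent.S3743.card_piCore (G := Subgroup.normalizer (D : Set G)) {q | q ∉ π}
  refine (blockKer_iff_pair hM (not_dvd_of_piSubgroup hM.1 hpπ hX) hpair).2
    (fun ξ hξ c hc => ?_) n hn
  rw [killsPair_upIdx hup] at hk'
  refine hk' ξ hξ c ?_
  have hmap : a.1.map (Subgroup.normalizer (D : Set G)).subtype = D := le_map_subtype_of_eq hup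
  refine (hO' _).2 ⟨?_, ?_⟩
  · show ((c : Subgroup.normalizer (D : Set G)) : G) ∈ Subgroup.centralizer (D : Set G)
    have h3 := (mem_cent_map_iff a.1 (c : Subgroup.normalizer (D : Set G))).2 hc.2
    rwa [hmap] at h3
  · intro q hq hd
    change q ∣ orderOf ((c : Subgroup.normalizer (D : Set G)) : G) at hd
    rw [Subgroup.orderOf_coe] at hd
    exact hX q hq (hd.trans (Subgroup.orderOf_dvd_natCard _ hc.1))

/-- A central `p`-element lies in every defect group. -/
theorem central_mem_defect (hM : IsPModular p M) {B : Set (IrrCharacter G)} (hB : IsPBlock M B)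
    {D : Subgroup G} (hD : IsDefectGroup p M B D) {y : G} (hyc : y ∈ Subgroup.center G)
    (hy : ∃ k : ℕ, orderOf y = p ^ k) : y ∈ D := by
  haveI : Fact p.Prime := ⟨hM.1⟩
  obtain ⟨l, hl⟩ := exists_defectClass hM hB
  have hcomm : ∀ g : G, Commute y g := fun g => (Subgroup.mem_center_iff.1 hyc g).symm
  obtain ⟨E, hE, hyE⟩ := exists_defectGroup_ge hM hB hl.2.1
    (P := Subgroup.zpowers y) (isPGroup_zpowers hM.1 hy) (by
      rintro z ⟨i, rfl⟩
      rw [Subgroup.mem_centralizer_singleton_iff]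
      exact ((hcomm l).zpow_left i).eq)
  obtain ⟨x, hx⟩ := defectGroup_conjugate hM hB hE hD
  rw [← hx]
  exact ⟨y, hyE (Subgroup.mem_zpowers y), by
    show x * y * x⁻¹ = y
    rw [← (hcomm x).eq, mul_inv_cancel_right]⟩

/-- S4727. -/
theorem value_mul_pi (hM : IsPModular p M) {π : Set ℕ} (hpπ : p ∈ π)
    {B : Set (IrrCharacter G)} (hB : IsPBlock M B) {D : Subgroup G} (hBD : IsDefectGroup p M B D)
    [Fintype (Subgroup.normalizer (D : Set G))]
    {B₁ : Set (IrrCharacter (Subgroup.normalizer (D : Set G)))}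
    (hB₁ : IsInducedBlock M (Subgroup.normalizer (D : Set G)) B₁ B)
    (hB₁D : IsDefectGroup p M B₁ (D.subgroupOf (Subgroup.normalizer (D : Set G))))
    (hker : ∀ n : Subgroup.normalizer (D : Set G),
      n ∈ piCore {q | q ∉ π} (Subgroup.normalizer (D : Set G)) → n ∈ blockKer B₁)
    {y : G} (hy : ∃ k : ℕ, orderOf y = p ^ k) [Fintype (Subgroup.centralizer ({y} : Set G))]
    (hC : ∀ x : Subgroup.centralizer ({y} : Set G), (∀ q : ℕ, q.Prime → q ∣ orderOf x → q ∉ π) →
      x ∈ piCore {q | q ∉ π} (Subgroup.centralizer ({y} : Set G)))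
    {χ : IrrCharacter G} (hχ : χ ∈ B) {x : Subgroup.centralizer ({y} : Set G)}
    (hx : ∀ q : ℕ, q.Prime → q ∣ orderOf (x : G) → q ∉ π) :
    (χ : G → ℂ) (y * x) = (χ : G → ℂ) y := by
  classical
  haveI : Fact p.Prime := ⟨hM.1⟩
  have hx' : ∀ q : ℕ, q.Prime → q ∣ orderOf x → q ∉ π := fun q hq hd =>
    hx q hq (by rwa [Subgroup.orderOf_coe])
  have hxr : ¬ p ∣ orderOf x := fun hd => hx' p hM.1 hd hpπ
  have h1 : ¬ p ∣ orderOf (1 : Subgroup.centralizer ({y} : Set G)) := by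
    simpa using hM.1.not_dvd_one
  have key : ∀ ψ ∈ overBlocks M (Subgroup.centralizer ({y} : Set G)) B,
      (ψ : Subgroup.centralizer ({y} : Set G) → ℂ) x =
        (ψ : Subgroup.centralizer ({y} : Set G) → ℂ) 1 := by
    intro ψ hψ
    have hb : IsInducedBlock M (Subgroup.centralizer ({y} : Set G))
        (blockOf M (ψ : _ → ℂ)) B := hψ
    obtain ⟨g, hg, S, hS⟩ : ∃ g, IsDefectClass M (blockOf M (ψ : _ → ℂ)) g ∧
        ∃ S : Sylow p (Subgroup.centralizer ({g} : Set (Subgroup.centralizer ({y} : Set G)))),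
          True := by
      obtain ⟨g, hg⟩ := exists_defectClass hM hb.1
      exact ⟨g, hg, Classical.arbitrary _, trivial⟩
    set D₀ := (S : Subgroup (Subgroup.centralizer
      ({g} : Set (Subgroup.centralizer ({y} : Set G))))).map (Subgroup.centralizer
        ({g} : Set (Subgroup.centralizer ({y} : Set G)))).subtype
    have hD₀ : IsDefectGroup p M (blockOf M (ψ : _ → ℂ)) D₀ := ⟨g, hg, S, rfl⟩
    have hyD : (⟨y, (isCentr_singleton y).self_mem⟩ : Subgroup.centralizer ({y} : Set G)) ∈ D₀ := by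
      refine central_mem_defect hM hb.1 hD₀ (Subgroup.mem_center_iff.2 fun a => Subtype.ext ?_) ?_
      · exact Subgroup.mem_centralizer_singleton_iff.1 a.2
      · exact hy.imp fun k hk => by rw [Subgroup.orderOf_mk]; exact hk
    exact kernel_descends hM hpπ hBD hB₁ hB₁D hker hb hD₀ (fun c hc => by
      rw [Subgroup.mem_centralizer_singleton_iff]
      exact (hc y ⟨_, hyD, rfl⟩).symm) x (hC x hx') ψ (mem_blockOf_self hM ψ)
  have e : ∀ z : Subgroup.centralizer ({y} : Set G), ¬ p ∣ orderOf z →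
      (χ : G → ℂ) (y * z) = ∑ ψ ∈ bset (overBlocks M (Subgroup.centralizer ({y} : Set G)) B),
        classInner (sec y (Subgroup.centralizer ({y} : Set G)) (χ : G → ℂ)) (ψ : _ → ℂ) *
          (ψ : _ → ℂ) z := by
    intro z hz
    rw [← blockPart_apply, sec_eq_overBlocks hM (isCentr_singleton y) hy hB χ hz, ind_of_mem hχ,
      one_mul]
  rw [e x hxr]
  refine Eq.trans (Finset.sum_congr rfl fun ψ hψ => ?_) ((e 1 h1).symm.trans (by simp))
  rw [key ψ (mem_bset.1 hψ)]

end CfsgLib.Blocks
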