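import Cfsg.Agent.Lib.Blocks.Rank
import Cfsg.Agent.Lib.Blocks.FongReynolds
import Cfsg.Agent.Lib.Blocks.Vanishing
import Cfsg.Agent.Lib.CharTheory.GaloisBound

/-!
# Contributions of a subsection and the bounds `k₀(B) Σ p^{2h} ≤ p^{2d} l(b)`
-/

namespace CfsgLib.Blocks

open Cfsg CfsgLib.CharTheory
open scoped ComplexConjugate

set_option linter.unusedVariables false
set_option linter.unusedSimpArgs false
set_option linter.style.haveILetI false
set_option linter.unusedSectionVars false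

universe u

variable {p : ℕ} {M : Ideal AlgInt} {G : Type u} [Group G] [Fintype G] {x : G} {H : Subgroup G}
  [Fintype H]

theorem isIntegral_natCast' (n : ℕ) : IsIntegral ℤ (n : ℂ) := by
  simpa using (isIntegral_algebraMap (R := ℤ) (A := ℂ) (x := (n : ℤ)))

theorem isIntegral_intCast' (n : ℤ) : IsIntegral ℤ (n : ℂ) := by
  simpa using (isIntegral_algebraMap (R := ℤ) (A := ℂ) (x := n))

theorem central_value_mul {K : Type*} [Group K] [Fintype K] {z : K} (hz : z ∈ Subgroup.center K)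
    (χ : IrrCharacter K) (g : K) :
    (χ : K → ℂ) (z * g) = (χ : K → ℂ) z / (χ : K → ℂ) 1 * (χ : K → ℂ) g := by
  classical
  have hcl : IsClassFunction K (fun x : K => if x = z then (1 : ℂ) else 0) := by
    intro a b
    have : b * a * b⁻¹ = z ↔ a = z := by
      constructor
      · intro h
        have h2 : b⁻¹ * z * b = z := by
          rw [mul_assoc, ← Subgroup.mem_center_iff.1 hz b, inv_mul_cancel_left]
        rw [← h2, ← h]; group
      · intro h
        rw [h, Subgroup.mem_center_iff.1 hz b, mul_inv_cancel_right]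
    simp only [this]
  have h := sum_classFun_mul_shift hcl χ g
  simpa [omega] using h

/-- The coefficients of a section function are roots of unity times natural numbers. -/
theorem sec_coeff (hM : IsPModular p M) (hH : IsCentr x H) {k : ℕ} (hk : orderOf x = p ^ k)
    (χ : IrrCharacter G) (φ : IrrCharacter H) :
    ∃ n : ℕ, ∃ ω : ℂ, classInner (fun h : H => (χ : G → ℂ) h) (φ : H → ℂ) = (n : ℂ) ∧
      ω ^ p ^ k = 1 ∧ classInner (sec x H (χ : G → ℂ)) (φ : H → ℂ) = (n : ℂ) * ω := by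
  classical
  set z : H := ⟨x, hH.self_mem⟩ with hz
  have hzc : z ∈ Subgroup.center H :=
    Subgroup.mem_center_iff.2 fun g => Subtype.ext ((hH g).1 g.2)
  have hres := isCharacter_restrict_irr H χ
  choose n hn using fun ψ : IrrCharacter H => classInner_char_nat hres (isCharacter_of_irr ψ.2)
  set ω : IrrCharacter H → ℂ := fun ψ => (ψ : H → ℂ) z / (ψ : H → ℂ) 1 with hω
  have hexp := eq_sum_irr (isClassFunction_char hres)
  have hsec : sec x H (χ : G → ℂ) = ∑ ψ : IrrCharacter H, ((n ψ : ℂ) * ω ψ) • (ψ : H → ℂ) := by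
    funext c
    simp only [Finset.sum_apply, Pi.smul_apply, smul_eq_mul]
    have h1 := congrFun hexp (z * c)
    simp only [Finset.sum_apply, Pi.smul_apply, smul_eq_mul, hn] at h1
    refine h1.trans (Finset.sum_congr rfl fun ψ _ => ?_)
    rw [central_value_mul hzc]
    ring
  refine ⟨n φ, ω φ, hn φ, ?_, ?_⟩
  · have h : orderOf z = p ^ k := by rw [hz, ← Subgroup.orderOf_coe]; exact hk
    rw [← h]
    exact central_value_pow hzc φ
  · rw [hsec, classInner_sum_left, Finset.sum_eq_single φ]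
    · rw [classInner_smul_left, classInner_irr_self φ.2, mul_one]
    · intro ψ _ hne
      rw [classInner_smul_left, classInner_irr_ne ψ.2 φ.2 (fun h => hne (Subtype.ext h)), mul_zero]
    · simp

/-- Regular pairings with the block parts, squared and summed over all characters of `G`. -/
theorem sum_sq_pairing (hM : IsPModular p M) (hH : IsCentr x H)
    (hx : ∃ k : ℕ, orderOf x = p ^ k) {b : Set (IrrCharacter H)} (hb : IsPBlock M b) (f : H → ℂ) :
    ∑ χ : IrrCharacter G,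
      (∑ c ∈ Finset.univ.filter (fun c : H => ¬ p ∣ orderOf c),
        blockPart b (sec x H (χ : G → ℂ)) c * f c) *
      conj (∑ c ∈ Finset.univ.filter (fun c : H => ¬ p ∣ orderOf c),
        blockPart b (sec x H (χ : G → ℂ)) c * f c) =
    ∑ φ ∈ bset b,
      (∑ c ∈ Finset.univ.filter (fun c : H => ¬ p ∣ orderOf c), (φ : H → ℂ) c * f c) *
      conj (∑ c ∈ Finset.univ.filter (fun c : H => ¬ p ∣ orderOf c), (φ : H → ℂ) c * f c) := by
  classical
  set R := Finset.univ.filter (fun c : H => ¬ p ∣ orderOf c) with hR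
  have hcl : ∀ ψ ∈ b, blockOf M (ψ : H → ℂ) ⊆ b := fun ψ hψ => (eq_blockOf hM hb hψ).ge
  have key : ∀ {ι : Type u} (s : Finset ι) (g : ι → H → ℂ),
      ∑ i ∈ s, (∑ c ∈ R, g i c * f c) * conj (∑ c ∈ R, g i c * f c) =
        ∑ c ∈ R, ∑ c' ∈ R, f c * conj (f c') * ∑ i ∈ s, g i c * conj (g i c') := by
    intro ι s g
    simp only [map_sum, Finset.sum_mul_sum]
    rw [Finset.sum_comm]
    refine Finset.sum_congr rfl fun c _ => ?_
    rw [Finset.sum_comm]
    refine Finset.sum_congr rfl fun c' _ => ?_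
    rw [Finset.mul_sum]
    exact Finset.sum_congr rfl fun i _ => by rw [map_mul]; ring
  rw [key, key]
  refine Finset.sum_congr rfl fun c hc => Finset.sum_congr rfl fun c' hc' => ?_
  congr 1
  rw [section_inner hM hH hx hcl hcl (Finset.mem_filter.1 hc).2 (Finset.mem_filter.1 hc').2,
    ← sum_ind_mul b]
  refine Finset.sum_congr rfl fun ψ _ => ?_
  by_cases hψ : ψ ∈ b
  · rw [ind_of_mem hψ, one_mul]
  · rw [ind_of_notMem hψ]; simp

theorem isIntegral_indFun {f : H → ℂ} (hf : IsClassFunction H f)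
    (hm : ∀ t, IsIntegral ℤ (f t)) (g : G) : IsIntegral ℤ (indFun H f g) := by
  classical
  haveI : Fintype (G ⧸ H) := Fintype.ofFinite _
  rw [indFun, extendByZero_eq_sext, ← Finset.sum_fiberwise Finset.univ
    (fun y : G => (y : G ⧸ H)) (fun y => sext H f (y⁻¹ * g * y)), Finset.mul_sum]
  refine IsIntegral.sum _ fun q _ => ?_
  have hfib : ∑ y ∈ Finset.univ.filter (fun y : G => (y : G ⧸ H) = q),
      sext H f (y⁻¹ * g * y) = (Nat.card H : ℂ) * sext H f (q.out⁻¹ * g * q.out) := by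
    rw [Nat.card_eq_fintype_card, ← Finset.card_univ, ← nsmul_eq_mul, ← Finset.sum_const]
    symm
    refine Finset.sum_bij (fun (t : H) _ => q.out * (t : G)) ?_ ?_ ?_ ?_
    · intro t _
      refine Finset.mem_filter.2 ⟨Finset.mem_univ _, ?_⟩
      conv_rhs => rw [← QuotientGroup.out_eq' q]
      rw [QuotientGroup.eq]
      simpa [mul_assoc] using t.2
    · intro a _ c _ h; exact Subtype.ext (mul_left_cancel h)
    · intro y hy
      have hy' : q.out⁻¹ * y ∈ H := by
        rw [← QuotientGroup.eq, QuotientGroup.out_eq']; exact (Finset.mem_filter.1 hy).2.symm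
      exact ⟨⟨_, hy'⟩, Finset.mem_univ _, by simp⟩
    · intro t _
      rw [← sext_conj_mem H hf (H.inv_mem t.2) (q.out⁻¹ * g * q.out)]
      congr 1
      group
  rw [hfib, inv_mul_cancel_left₀ (Nat.cast_ne_zero.2 Nat.card_pos.ne')]
  by_cases h : q.out⁻¹ * g * q.out ∈ H
  · rw [show q.out⁻¹ * g * q.out = ((⟨_, h⟩ : H) : G) from rfl, sext_coe]; exact hm _
  · rw [sext_off H f h]; exact isIntegral_zero

theorem isIntegral_omega {K : Type*} [Group K] [Fintype K] {f : K → ℂ} (hf : IsClassFunction K f)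
    (hm : ∀ g, IsIntegral ℤ (f g)) (χ : IrrCharacter K) :
    IsIntegral ℤ (omega (χ : K → ℂ) f) := by
  classical
  haveI : Fintype (ConjClasses K) := Fintype.ofFinite _
  rw [omega_eq_sum_classes hf]
  exact IsIntegral.sum _ fun C _ => (hm _).mul (isIntegral_clv (crep C) χ)

theorem isIntegral_of_coprime {u : ℂ} {a b : ℕ} (hab : a.Coprime b) (ha : IsIntegral ℤ ((a : ℂ) * u))
    (hb : IsIntegral ℤ ((b : ℂ) * u)) : IsIntegral ℤ u := by
  obtain ⟨m, n, h⟩ := (Int.isCoprime_iff_nat_coprime (a := (a : ℤ)) (b := (b : ℤ))).2 (by simpa using hab)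
  have h' : (m : ℂ) * a + (n : ℂ) * b = 1 := by exact_mod_cast h
  rw [show u = (m : ℂ) * ((a : ℂ) * u) + (n : ℂ) * ((b : ℂ) * u) by
    linear_combination -u * h']
  exact ((isIntegral_intCast' m).mul ha).add ((isIntegral_intCast' n).mul hb)

theorem res_intCast' (hM : IsPModular p M) (m : ℤ) :
    res hM (m : ℂ) = ((m : ℤ) : AlgInt ⧸ M) := map_intCast (resHom hM) m

/-- The scaled projection matrix of a block. -/
noncomputable def secQ (p : ℕ) (b : Set (IrrCharacter H)) (φ ψ : IrrCharacter H) : ℤ :=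
  open Classical in if φ ∈ b ∧ ψ ∈ b then Classical.epsilon (fun q : ℤ =>
    (p : ℂ) ^ blockDefect p b * regS p (φ : H → ℂ) (ψ : H → ℂ) = (Nat.card H : ℂ) * q) else 0

/-- The contribution of the subsection `(x, b)` to a pair of characters. -/
noncomputable def secPair (p : ℕ) (x : G) (b : Set (IrrCharacter H)) (χ ψ : G → ℂ) : ℂ :=
  (p : ℂ) ^ blockDefect p b * (Nat.card H : ℂ)⁻¹ *
    ∑ c ∈ Finset.univ.filter (fun c : H => ¬ p ∣ orderOf c),
      blockPart b (sec x H χ) c * conj (blockPart b (sec x H ψ) c)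

variable {b : Set (IrrCharacter H)} {B : Set (IrrCharacter G)}

theorem secQ_spec (hM : IsPModular p M) (hb : IsPBlock M b) {φ ψ : IrrCharacter H} (hφ : φ ∈ b)
    (hψ : ψ ∈ b) : (p : ℂ) ^ blockDefect p b * regS p (φ : H → ℂ) (ψ : H → ℂ) =
      (Nat.card H : ℂ) * secQ p b φ ψ := by
  obtain ⟨q, hq, -⟩ := exists_int_proj hM hb hφ hψ
  rw [secQ, if_pos ⟨hφ, hψ⟩]
  exact Classical.epsilon_spec (p := fun q : ℤ =>
    (p : ℂ) ^ blockDefect p b * regS p (φ : H → ℂ) (ψ : H → ℂ) = (Nat.card H : ℂ) * q) ⟨q, hq⟩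

theorem secQ_off {φ ψ : IrrCharacter H} (h : ¬ (φ ∈ b ∧ ψ ∈ b)) : secQ p b φ ψ = 0 := if_neg h

theorem secQ_symm (hM : IsPModular p M) (hb : IsPBlock M b) (φ ψ : IrrCharacter H) :
    secQ p b φ ψ = secQ p b ψ φ := by
  by_cases h : φ ∈ b ∧ ψ ∈ b
  · have h1 := secQ_spec hM hb h.1 h.2
    rw [regS_comm, secQ_spec hM hb h.2 h.1] at h1
    exact_mod_cast (mul_left_cancel₀ (Nat.cast_ne_zero.2 Nat.card_pos.ne') h1).symm
  · rw [secQ_off h, secQ_off fun h' => h ⟨h'.2, h'.1⟩]

theorem pAdic_degree {K : Type*} [Group K] [Fintype K] {C : Set (IrrCharacter K)}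
    {φ : IrrCharacter K} (hφ : φ ∈ C) :
    (φ : K → ℂ) 1 =
      (p : ℂ) ^ minDv p C * ((charDegree (φ : K → ℂ) / p ^ minDv p C : ℕ) : ℂ) := by
  have hdvd : p ^ minDv p C ∣ charDegree (φ : K → ℂ) :=
    (pow_dvd_pow p (minDv_le hφ)).trans (Nat.ordProj_dvd _ _)
  rw [← irr_charDegree_cast φ]
  exact_mod_cast (Nat.mul_div_cancel' hdvd).symm

theorem not_dvd_pprime_degree (hM : IsPModular p M) {K : Type*} [Group K] [Fintype K]
    {C : Set (IrrCharacter K)} {φ : IrrCharacter K} (h : dv p (φ : K → ℂ) = minDv p C) :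
    ¬ p ∣ charDegree (φ : K → ℂ) / p ^ minDv p C := by
  rw [← h]
  exact Nat.not_dvd_ordCompl hM.1 (irr_charDegree_pos φ).ne'

theorem secQ_omega (hM : IsPModular p M) (hb : IsPBlock M b) {φ ψ : IrrCharacter H} (hφ : φ ∈ b)
    (hψ : ψ ∈ b) :
    ((Nat.card H / p ^ (Nat.card H).factorization p : ℕ) : ℂ) * (secQ p b φ ψ : ℂ) =
      ((charDegree (φ : H → ℂ) / p ^ minDv p b : ℕ) : ℂ) *
        omega (φ : H → ℂ) (regFn p (ψ : H → ℂ)) := by
  have hp0 : (p : ℂ) ≠ 0 := Nat.cast_ne_zero.2 hM.1.ne_zero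
  set v := minDv p b with hv
  set d := blockDefect p b with hd
  have hva : v ≤ (Nat.card H).factorization p := minDv_le_card hM hb
  have hcard : (Nat.card H : ℂ) = (p : ℂ) ^ d * (p : ℂ) ^ v *
      ((Nat.card H / p ^ (Nat.card H).factorization p : ℕ) : ℂ) := by
    rw [← pow_add, hd, blockDefect_eq, Nat.sub_add_cancel hva]
    exact_mod_cast (Nat.ordProj_mul_ordCompl_eq_self (Nat.card H) p).symm
  have h := secQ_spec hM hb hφ hψ
  rw [show regS p (φ : H → ℂ) (ψ : H → ℂ) =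
    (φ : H → ℂ) 1 * omega (φ : H → ℂ) (regFn p (ψ : H → ℂ)) by
      rw [omega_regFn, mul_div_cancel₀ _ (irr_one_ne_zero φ)], pAdic_degree (p := p) hφ, hcard] at h
  refine mul_left_cancel₀ (mul_ne_zero (pow_ne_zero d hp0) (pow_ne_zero v hp0)) ?_
  linear_combination -h

theorem res_secQ (hM : IsPModular p M) (hb : IsPBlock M b) {φ ψ ξ : IrrCharacter H} (hφ : φ ∈ b)
    (hψ : ψ ∈ b) (hξ : ξ ∈ b) :
    ((Nat.card H / p ^ (Nat.card H).factorization p : ℕ) : AlgInt ⧸ M) *
        (secQ p b φ ψ : AlgInt ⧸ M) =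
      ((charDegree (φ : H → ℂ) / p ^ minDv p b : ℕ) : AlgInt ⧸ M) *
        res hM (omega (ξ : H → ℂ) (regFn p (ψ : H → ℂ))) := by
  have h := congrArg (res hM) (secQ_omega hM hb hφ hψ)
  rw [res_mul hM (memRing_natCast hM _) (memRing_intCast hM _),
    res_mul hM (memRing_natCast hM _) (memRing_omega_regFn hM φ ψ), res_natCast, res_natCast,
    res_intCast', res_omega_regFn_congr hM (φ' := ξ)
      (show SameBlock M (φ : H → ℂ) (ξ : H → ℂ) by
        have h1 : ξ ∈ blockOf M (φ : H → ℂ) := eq_blockOf hM hb hφ ▸ hξ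
        exact h1) ψ] at h
  exact h

theorem pprime_card_res_ne (hM : IsPModular p M) (K : Type*) [Group K] [Finite K] :
    ((Nat.card K / p ^ (Nat.card K).factorization p : ℕ) : AlgInt ⧸ M) ≠ 0 := by
  haveI := res_charP hM
  rw [Ne, CharP.cast_eq_zero_iff (AlgInt ⧸ M) p]
  exact Nat.not_dvd_ordCompl hM.1 Nat.card_pos.ne'

theorem secQ_not_dvd (hM : IsPModular p M) (hb : IsPBlock M b) {φ ψ : IrrCharacter H} (hφ : φ ∈ b)
    (hψ : ψ ∈ b) (h1 : dv p (φ : H → ℂ) = minDv p b) (h2 : dv p (ψ : H → ℂ) = minDv p b) :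
    ¬ (p : ℤ) ∣ secQ p b φ ψ := by
  obtain ⟨q, hq, -, hq', -, -⟩ := exists_int_proj hM hb hφ hψ
  have : secQ p b φ ψ = q := by
    have h := secQ_spec hM hb hφ hψ
    rw [hq] at h
    exact_mod_cast (mul_left_cancel₀ (Nat.cast_ne_zero.2 Nat.card_pos.ne') h).symm
  rw [this]
  exact hq' h1 h2

theorem secQ_rank_one (hM : IsPModular p M) (hb : IsPBlock M b) {ξ : IrrCharacter H} (hξ : ξ ∈ b)
    (φ ψ : IrrCharacter H) :
    (p : ℤ) ∣ secQ p b φ ψ * secQ p b ξ ξ - secQ p b φ ξ * secQ p b ξ ψ := by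
  haveI := res_isDomain hM
  haveI := res_charP hM
  by_cases h : φ ∈ b ∧ ψ ∈ b
  · rw [← CharP.intCast_eq_zero_iff (AlgInt ⧸ M) p]
    push_cast
    refine (mul_eq_zero.1 (?_ : ((Nat.card H / p ^ (Nat.card H).factorization p : ℕ) :
      AlgInt ⧸ M) ^ 2 * _ = 0)).resolve_left (pow_ne_zero 2 (pprime_card_res_ne hM H))
    have h1 := res_secQ hM hb h.1 h.2 hξ
    have h2 := res_secQ hM hb h.1 hξ hξ
    have h3 := res_secQ hM hb hξ h.2 hξ
    have h4 := res_secQ hM hb hξ hξ hξ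
    set K : AlgInt ⧸ M := ((Nat.card H / p ^ (Nat.card H).factorization p : ℕ) : AlgInt ⧸ M)
    calc K ^ 2 * ((secQ p b φ ψ : AlgInt ⧸ M) * (secQ p b ξ ξ : AlgInt ⧸ M) -
          (secQ p b φ ξ : AlgInt ⧸ M) * (secQ p b ξ ψ : AlgInt ⧸ M))
        = (K * (secQ p b φ ψ : AlgInt ⧸ M)) * (K * (secQ p b ξ ξ : AlgInt ⧸ M)) -
          (K * (secQ p b φ ξ : AlgInt ⧸ M)) * (K * (secQ p b ξ ψ : AlgInt ⧸ M)) := by ring
      _ = 0 := by rw [h1, h2, h3, h4]; ring
  · by_cases hφ : φ ∈ b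
    · have hψ : ψ ∉ b := fun hψ => h ⟨hφ, hψ⟩
      rw [secQ_off h, secQ_off (fun h' => hψ h'.2 : ¬ (ξ ∈ b ∧ ψ ∈ b))]
      simp
    · rw [secQ_off h, secQ_off (fun h' => hφ h'.1 : ¬ (φ ∈ b ∧ ξ ∈ b))]
      simp

theorem secPair_eq (hM : IsPModular p M) (hb : IsPBlock M b) (χ ψ : G → ℂ) :
    secPair p x b χ ψ = ∑ φ ∈ bset b, ∑ φ' ∈ bset b,
      classInner (sec x H χ) (φ : H → ℂ) * conj (classInner (sec x H ψ) (φ' : H → ℂ)) *
        (secQ p b φ φ' : ℂ) := by
  classical
  set R := Finset.univ.filter (fun c : H => ¬ p ∣ orderOf c) with hR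
  have e : ∑ c ∈ R, blockPart b (sec x H χ) c * conj (blockPart b (sec x H ψ) c) =
      ∑ φ ∈ bset b, ∑ φ' ∈ bset b,
        classInner (sec x H χ) (φ : H → ℂ) * conj (classInner (sec x H ψ) (φ' : H → ℂ)) *
          regS p (φ : H → ℂ) (φ' : H → ℂ) := by
    simp only [blockPart_apply, map_sum, map_mul]
    rw [Finset.sum_congr rfl fun c _ => Finset.sum_mul_sum _ _ _ _, Finset.sum_comm]
    refine Finset.sum_congr rfl fun φ _ => ?_
    rw [Finset.sum_comm]
    refine Finset.sum_congr rfl fun φ' _ => ?_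
    rw [regS_eq_sum, Finset.mul_sum]
    exact Finset.sum_congr rfl fun c _ => by rw [irr_inv]; ring
  unfold secPair
  rw [e]
  simp only [Finset.mul_sum]
  refine Finset.sum_congr rfl fun φ hφ => Finset.sum_congr rfl fun φ' hφ' => ?_
  have h := secQ_spec hM hb (mem_bset.1 hφ) (mem_bset.1 hφ')
  field_simp
  linear_combination
    (classInner (sec x H χ) (φ : H → ℂ) * conj (classInner (sec x H ψ) (φ' : H → ℂ))) * h

theorem coeff_props (hM : IsPModular p M) (hH : IsCentr x H) {k : ℕ} (hk : orderOf x = p ^ k)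
    (χ : IrrCharacter G) (φ : IrrCharacter H) :
    classInner (sec x H (χ : G → ℂ)) (φ : H → ℂ) ∈ rootField (p ^ k) ∧
      IsIntegral ℤ (classInner (sec x H (χ : G → ℂ)) (φ : H → ℂ)) := by
  obtain ⟨n, ω, hn, hω, ha⟩ := sec_coeff hM hH hk χ φ
  rw [ha]
  exact ⟨mul_mem (natCast_mem _ _) (mem_rootField (pow_ne_zero _ hM.1.ne_zero) hω),
    (isIntegral_natCast' _).mul (IsIntegral.of_pow (pow_pos hM.1.pos k) (hω ▸ isIntegral_one))⟩

theorem secPair_props (hM : IsPModular p M) (hH : IsCentr x H) {k : ℕ} (hk : orderOf x = p ^ k)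
    (hb : IsPBlock M b) (χ ψ : IrrCharacter G) :
    secPair p x b (χ : G → ℂ) (ψ : G → ℂ) ∈ rootField (p ^ k) ∧
      IsIntegral ℤ (secPair p x b (χ : G → ℂ) (ψ : G → ℂ)) := by
  have hpk := pow_ne_zero k hM.1.ne_zero
  have hc : ∀ φ : IrrCharacter H, conj (classInner (sec x H (ψ : G → ℂ)) (φ : H → ℂ)) ∈ rootField (p ^ k) ∧
      IsIntegral ℤ (conj (classInner (sec x H (ψ : G → ℂ)) (φ : H → ℂ))) := fun φ =>
    ⟨(conj_galois hpk ((rootField (p ^ k)).val) (coeff_props hM hH hk ψ φ).1).1,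
      (coeff_props hM hH hk ψ φ).2.map ((Complex.conjAe.toAlgHom).restrictScalars ℤ)⟩
  rw [secPair_eq hM hb]
  exact ⟨sum_mem fun φ _ => sum_mem fun φ' _ =>
      mul_mem (mul_mem (coeff_props hM hH hk χ φ).1 (hc φ').1) (intCast_mem _ _),
    IsIntegral.sum _ fun φ _ => IsIntegral.sum _ fun φ' _ =>
      ((coeff_props hM hH hk χ φ).2.mul (hc φ').2).mul (isIntegral_intCast' _)⟩

theorem secPair_conj (p : ℕ) (x : G) (b : Set (IrrCharacter H)) (χ ψ : G → ℂ) :
    conj (secPair p x b χ ψ) = secPair p x b ψ χ := by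
  simp only [secPair, map_mul, map_pow, map_natCast, map_inv₀, map_sum, Complex.conj_conj]
  exact congrArg _ (Finset.sum_congr rfl fun c _ => mul_comm _ _)

theorem blockPart_sec_off (hM : IsPModular p M) (hH : IsCentr x H)
    (hx : ∃ k : ℕ, orderOf x = p ^ k) (hind : IsInducedBlock M H b B) {χ : IrrCharacter G}
    (hχ : χ ∉ B) {c : H} (hc : ¬ p ∣ orderOf c) :
    blockPart b (sec x H (χ : G → ℂ)) c = 0 :=
  blockPart_sec_eq_zero hM hH hx hind.1 (blockOf_isPBlock χ) (mem_blockOf_self hM χ)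
    (fun h => hχ (by rw [isInducedBlock_unique hM hind h]; exact mem_blockOf_self hM χ)) hc

theorem secPair_off (hM : IsPModular p M) (hH : IsCentr x H)
    (hx : ∃ k : ℕ, orderOf x = p ^ k) (hind : IsInducedBlock M H b B) {χ : IrrCharacter G}
    (hχ : χ ∉ B) (ψ : G → ℂ) : secPair p x b (χ : G → ℂ) ψ = 0 := by
  rw [secPair, Finset.sum_eq_zero, mul_zero]
  intro c hc
  rw [blockPart_sec_off hM hH hx hind hχ (Finset.mem_filter.1 hc).2, zero_mul]

theorem sum_secPair_diag (hM : IsPModular p M) (hH : IsCentr x H)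
    (hx : ∃ k : ℕ, orderOf x = p ^ k) (hind : IsInducedBlock M H b B) :
    ∑ χ ∈ bset B, secPair p x b (χ : G → ℂ) (χ : G → ℂ) =
      (p : ℂ) ^ blockDefect p b * (blockRank p b : ℂ) := by
  classical
  rw [Finset.sum_subset (Finset.subset_univ _) fun χ _ hχ =>
    secPair_off hM hH hx hind (fun h => hχ (mem_bset.2 h)) _]
  simp only [secPair, ← Finset.mul_sum]
  rw [Finset.sum_comm]
  have hcl : ∀ ψ ∈ b, blockOf M (ψ : H → ℂ) ⊆ b := fun ψ hψ => (eq_blockOf hM hind.1 hψ).ge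
  rw [Finset.sum_congr rfl fun c hc =>
    section_inner hM hH hx hcl hcl (Finset.mem_filter.1 hc).2 (Finset.mem_filter.1 hc).2,
    Finset.sum_comm]
  have e : ∑ ψ : IrrCharacter H, ∑ c ∈ Finset.univ.filter (fun c : H => ¬ p ∣ orderOf c),
      ind b ψ * ind b ψ * ((ψ : H → ℂ) c * conj ((ψ : H → ℂ) c)) =
      ∑ ψ ∈ bset b, regS p (ψ : H → ℂ) (ψ : H → ℂ) := by
    rw [← sum_ind_mul b]
    refine Finset.sum_congr rfl fun ψ _ => ?_
    rw [← Finset.mul_sum, sum_reg_norm]
    by_cases h : ψ ∈ b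
    · rw [ind_of_mem h, one_mul]
    · rw [ind_of_notMem h]; ring
  rw [e, ← card_mul_blockRank hM hind.1, mul_assoc, inv_mul_cancel_left₀]
  exact Nat.cast_ne_zero.2 Nat.card_pos.ne'

theorem sum_secPair_sq (hM : IsPModular p M) (hH : IsCentr x H)
    (hx : ∃ k : ℕ, orderOf x = p ^ k) (hind : IsInducedBlock M H b B) :
    ∑ χ ∈ bset B, ∑ ψ ∈ bset B,
      secPair p x b (χ : G → ℂ) (ψ : G → ℂ) * conj (secPair p x b (χ : G → ℂ) (ψ : G → ℂ)) =
      ((p ^ (2 * blockDefect p b) * blockRank p b : ℕ) : ℂ) := by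
  classical
  have hb := hind.1
  set d := blockDefect p b with hd
  set R := Finset.univ.filter (fun c : H => ¬ p ∣ orderOf c) with hR
  have hH0 : (Nat.card H : ℂ) ≠ 0 := Nat.cast_ne_zero.2 Nat.card_pos.ne'
  rw [Finset.sum_subset (Finset.subset_univ (bset B)) fun χ _ hχ => Finset.sum_eq_zero fun ψ _ => by
    rw [secPair_off hM hH hx hind (fun h => hχ (mem_bset.2 h)), zero_mul]]
  rw [Finset.sum_congr rfl fun χ _ => Finset.sum_subset (Finset.subset_univ (bset B)) fun ψ _ hψ => by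
    rw [← secPair_conj p x b (ψ : G → ℂ) (χ : G → ℂ),
      secPair_off hM hH hx hind (fun h => hψ (mem_bset.2 h)), map_zero, zero_mul]]
  set β : IrrCharacter G → H → ℂ := fun χ => blockPart b (sec x H (χ : G → ℂ)) with hβ
  have hpair : ∀ φ φ' : IrrCharacter H, regS p (φ : H → ℂ) (φ' : H → ℂ) =
      ∑ c ∈ R, (φ : H → ℂ) c * conj ((φ' : H → ℂ) c) := by
    intro φ φ'
    rw [regS_eq_sum]
    exact Finset.sum_congr rfl fun c _ => by rw [irr_inv]
  have e : ∀ χ ψ : IrrCharacter G,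
      secPair p x b (χ : G → ℂ) (ψ : G → ℂ) * conj (secPair p x b (χ : G → ℂ) (ψ : G → ℂ)) =
      ((p : ℂ) ^ d * (Nat.card H : ℂ)⁻¹) ^ 2 * ((∑ c ∈ R, β χ c * conj (β ψ c)) *
        conj (∑ c ∈ R, β χ c * conj (β ψ c))) := by
    intro χ ψ
    simp only [secPair, map_mul, map_pow, map_natCast, map_inv₀]
    ring
  simp only [e]
  rw [Finset.sum_comm]
  simp only [← Finset.mul_sum]
  have e1 : ∀ ψ, ∑ χ : IrrCharacter G, (∑ c ∈ R, β χ c * conj (β ψ c)) *
        conj (∑ c ∈ R, β χ c * conj (β ψ c)) =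
      ∑ φ ∈ bset b, (∑ c ∈ R, β ψ c * conj ((φ : H → ℂ) c)) *
        conj (∑ c ∈ R, β ψ c * conj ((φ : H → ℂ) c)) := by
    intro ψ
    rw [sum_sq_pairing hM hH hx hb (fun c => conj (β ψ c))]
    refine Finset.sum_congr rfl fun φ _ => ?_
    simp only [map_sum, map_mul, Complex.conj_conj]
    rw [mul_comm]
    congr 1 <;> exact Finset.sum_congr rfl fun c _ => by ring
  rw [Finset.sum_congr rfl fun ψ _ => e1 ψ, Finset.sum_comm]
  rw [Finset.sum_congr rfl fun (φ : IrrCharacter H) _ => show ∑ χ : IrrCharacter G,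
      (∑ c ∈ R, β χ c * conj ((φ : H → ℂ) c)) * conj (∑ c ∈ R, β χ c * conj ((φ : H → ℂ) c)) = _
    from sum_sq_pairing hM hH hx hb (fun c => conj ((φ : H → ℂ) c))]
  simp only [← hR, ← hpair]
  have hreal : ∀ φ φ' : IrrCharacter H,
      conj (regS p (φ' : H → ℂ) (φ : H → ℂ)) = regS p (φ' : H → ℂ) (φ : H → ℂ) := by
    intro φ φ'
    rw [hpair, map_sum]
    conv_rhs => rw [← hpair, regS_comm, hpair]
    exact Finset.sum_congr rfl fun c _ => by rw [map_mul, Complex.conj_conj, mul_comm]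
  have hsq : ∀ φ ∈ bset b, ∑ φ' ∈ bset b, regS p (φ' : H → ℂ) (φ : H → ℂ) *
      conj (regS p (φ' : H → ℂ) (φ : H → ℂ)) =
      (Nat.card H : ℂ) * regS p (φ : H → ℂ) (φ : H → ℂ) := by
    intro φ hφ
    rw [← sum_regS_sq hM hb (mem_bset.1 hφ)]
    exact Finset.sum_congr rfl fun φ' _ => by rw [hreal φ φ', regS_comm, sq]
  rw [Finset.sum_congr rfl hsq, ← Finset.mul_sum, ← card_mul_blockRank hM hb]
  push_cast
  field_simp
  ring

/-- Contributions of two characters of height zero do not vanish modulo `M`. -/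
theorem secPair_res_ne (hM : IsPModular p M) (hH : IsCentr x H)
    (hx : ∃ k : ℕ, orderOf x = p ^ k) (hind : IsInducedBlock M H b B) {χ ψ : IrrCharacter G}
    (hχ : χ ∈ B) (hψ : ψ ∈ B) (h1 : dv p (χ : G → ℂ) = minDv p B)
    (h2 : dv p (ψ : G → ℂ) = minDv p B) :
    MemLocalRing M (secPair p x b (χ : G → ℂ) (ψ : G → ℂ)) ∧
      res hM (secPair p x b (χ : G → ℂ) (ψ : G → ℂ)) ≠ 0 := by
  classical
  haveI := res_isDomain hM
  haveI := res_charP hM
  obtain ⟨k, hk⟩ := hx
  have hb := hind.1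
  refine ⟨memRing_of_isIntegral hM (secPair_props hM hH hk hb χ ψ).2, fun hz0 => ?_⟩
  obtain ⟨ξ, hξ, hξ0⟩ := exists_height_zero hM hb
  choose n ω hn hω ha using fun χ : IrrCharacter G => fun φ : IrrCharacter H => sec_coeff hM hH hk χ φ
  set K := Nat.card H / p ^ (Nat.card H).factorization p with hK
  set r := charDegree (ξ : H → ℂ) / p ^ minDv p b with hr
  have hru : ¬ p ∣ r := not_dvd_pprime_degree hM hξ0
  have hrC : (r : ℂ) ≠ 0 := Nat.cast_ne_zero.2 fun h => hru (h ▸ dvd_zero p)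
  set L : IrrCharacter G → AlgInt ⧸ M := fun χ =>
    ∑ φ ∈ bset b, (n χ φ : AlgInt ⧸ M) * (secQ p b ξ φ : AlgInt ⧸ M) with hL
  have hLne : ∀ χ ∈ B, dv p (χ : G → ℂ) = minDv p B → L χ ≠ 0 := by
    intro χ hχ h0 hL0
    have hexp := eq_sum_irr (isClassFunction_char (isCharacter_restrict_irr H χ))
    have hsum : (K : ℂ) * ∑ φ ∈ bset b, (n χ φ : ℂ) * (secQ p b ξ φ : ℂ) =
        (r : ℂ) * omega (ξ : H → ℂ) (regFn p fun h : H => (χ : G → ℂ) h) := by
      have e : omega (ξ : H → ℂ) (regFn p fun h : H => (χ : G → ℂ) h) =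
          ∑ φ : IrrCharacter H, (n χ φ : ℂ) * omega (ξ : H → ℂ) (regFn p (φ : H → ℂ)) := by
        simp only [omega, ← mul_div_assoc, ← Finset.sum_div]
        congr 1
        simp only [Finset.mul_sum]
        rw [Finset.sum_comm]
        refine Finset.sum_congr rfl fun g _ => ?_
        by_cases hg : p ∣ orderOf g
        · simp [regFn, hg]
        · simp only [regFn, if_neg hg]
          have h1 := congrFun hexp g⁻¹
          simp only [Finset.sum_apply, Pi.smul_apply, smul_eq_mul, hn] at h1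
          rw [h1, Finset.sum_mul]
          exact Finset.sum_congr rfl fun φ _ => by ring
      rw [e, ← Finset.sum_subset (Finset.subset_univ (bset b)) fun φ _ hφ => by
        rw [omega_regFn, regS_eq_zero hM (fun hs => hφ (mem_bset.2 (by
          rw [eq_blockOf hM hb hξ]; exact hs))), zero_div, mul_zero]]
      simp only [Finset.mul_sum]
      refine Finset.sum_congr rfl fun φ hφ => ?_
      have := secQ_omega hM hb hξ (mem_bset.1 hφ)
      linear_combination (n χ φ : ℂ) * this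
    have hmemL : ∀ φ ∈ bset b, MemLocalRing M ((n χ φ : ℂ) * (secQ p b ξ φ : ℂ)) := fun φ _ =>
      (loc hM).mul_mem (memRing_natCast hM _) (memRing_intCast hM _)
    have hmo : MemLocalRing M (omega (ξ : H → ℂ) (regFn p fun h : H => (χ : G → ℂ) h)) := by
      rw [← inv_mul_cancel_left₀ hrC (omega (ξ : H → ℂ) (regFn p fun h : H => (χ : G → ℂ) h)),
        ← hsum]
      exact (loc hM).mul_mem (natCast_inv_mem hM hru)
        ((loc hM).mul_mem (memRing_natCast hM _) ((loc hM).sum_mem hmemL))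
    have h := congrArg (res hM) hsum
    rw [res_mul hM (memRing_natCast hM _) ((loc hM).sum_mem hmemL),
      res_mul hM (memRing_natCast hM _) hmo, res_sum hM hmemL, res_natCast, res_natCast] at h
    have e2 : ∑ φ ∈ bset b, res hM ((n χ φ : ℂ) * (secQ p b ξ φ : ℂ)) = L χ :=
      Finset.sum_congr rfl fun φ _ => by
        rw [res_mul hM (memRing_natCast hM _) (memRing_intCast hM _), res_natCast, res_intCast']
    rw [e2, hL0, mul_zero, res_induced_regFn hM H hind hξ hχ χ] at h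
    rcases mul_eq_zero.1 h.symm with h3 | h3
    · exact hru ((CharP.cast_eq_zero_iff (AlgInt ⧸ M) p _).1 h3)
    · exact not_memIdeal_omega_regFn hM hind.2.1 hχ hχ h0
        ((res_eq_zero_iff hM (memRing_omega_regFn hM χ χ)).1 h3)
  have hroot : ∀ χ φ, MemLocalRing M (ω χ φ) ∧ res hM (ω χ φ) = 1 := fun χ φ =>
    res_eq_one_of_pow hM (hω χ φ)
  have hcroot : ∀ χ φ, conj (ω χ φ) ^ p ^ k = 1 := fun χ φ => by rw [← map_pow, hω, map_one]
  set Z : AlgInt ⧸ M := ∑ φ ∈ bset b, ∑ φ' ∈ bset b,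
    (n χ φ : AlgInt ⧸ M) * (n ψ φ' : AlgInt ⧸ M) * (secQ p b φ φ' : AlgInt ⧸ M) with hZ
  have hterm : ∀ φ φ', MemLocalRing M ((n χ φ : ℂ) * ω χ φ * ((n ψ φ' : ℂ) * conj (ω ψ φ')) *
      (secQ p b φ φ' : ℂ)) := fun φ φ' =>
    (loc hM).mul_mem ((loc hM).mul_mem ((loc hM).mul_mem (memRing_natCast hM _) (hroot χ φ).1)
      ((loc hM).mul_mem (memRing_natCast hM _) (res_eq_one_of_pow hM (hcroot ψ φ')).1))
      (memRing_intCast hM _)
  have hres : Z = 0 := by
    rw [← hz0, secPair_eq hM hb]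
    simp only [ha, map_mul, map_natCast]
    rw [res_sum hM fun φ _ => (loc hM).sum_mem fun φ' _ => hterm φ φ', hZ]
    refine Finset.sum_congr rfl fun φ _ => ?_
    rw [res_sum hM fun φ' _ => hterm φ φ']
    refine Finset.sum_congr rfl fun φ' _ => ?_
    have h1 := res_eq_one_of_pow hM (hcroot ψ φ')
    rw [res_mul hM ((loc hM).mul_mem ((loc hM).mul_mem (memRing_natCast hM _) (hroot χ φ).1)
        ((loc hM).mul_mem (memRing_natCast hM _) h1.1)) (memRing_intCast hM _),
      res_mul hM ((loc hM).mul_mem (memRing_natCast hM _) (hroot χ φ).1)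
        ((loc hM).mul_mem (memRing_natCast hM _) h1.1),
      res_mul hM (memRing_natCast hM _) (hroot χ φ).1, res_mul hM (memRing_natCast hM _) h1.1,
      (hroot χ φ).2, h1.2, mul_one, mul_one, res_natCast, res_natCast, res_intCast']
  have hprod : Z * (secQ p b ξ ξ : AlgInt ⧸ M) = L χ * L ψ := by
    rw [hZ, Finset.sum_mul, hL]
    simp only
    rw [Finset.sum_mul_sum]
    refine Finset.sum_congr rfl fun φ hφ => ?_
    rw [Finset.sum_mul]
    refine Finset.sum_congr rfl fun φ' hφ' => ?_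
    obtain ⟨c, hc⟩ := secQ_rank_one hM hb hξ φ φ'
    have hp : (p : AlgInt ⧸ M) = 0 := CharP.cast_eq_zero _ _
    have h := congrArg (fun m : ℤ => (m : AlgInt ⧸ M)) hc
    simp only [Int.cast_sub, Int.cast_mul, Int.cast_natCast, hp, zero_mul] at h
    rw [secQ_symm hM hb ξ φ]
    linear_combination ((n χ φ : AlgInt ⧸ M) * (n ψ φ' : AlgInt ⧸ M)) * h
  rw [hres, zero_mul] at hprod
  exact mul_ne_zero (hLne χ hχ h1) (hLne ψ hψ h2) hprod.symm

/-- The block part is idempotent in regular pairings. -/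
theorem sum_blockPart_conj (hM : IsPModular p M) (hb : IsPBlock M b) (χ θ : IrrCharacter G) :
    ∑ c ∈ Finset.univ.filter (fun c : H => ¬ p ∣ orderOf c),
      blockPart b (sec x H (χ : G → ℂ)) c * conj (blockPart b (sec x H (θ : G → ℂ)) c) =
    ∑ c ∈ Finset.univ.filter (fun c : H => ¬ p ∣ orderOf c),
      blockPart b (sec x H (χ : G → ℂ)) c * conj (sec x H (θ : G → ℂ) c) := by
  classical
  set R := Finset.univ.filter (fun c : H => ¬ p ∣ orderOf c) with hR
  set β := blockPart b (sec x H (χ : G → ℂ)) with hβ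
  have hcl : ∀ ψ ∈ b, blockOf M (ψ : H → ℂ) ⊆ b := fun ψ hψ => (eq_blockOf hM hb hψ).ge
  have hββ : ∀ c, blockPart b β c = β c := by
    intro c
    rw [blockPart_apply, hβ, blockPart_apply]
    refine Finset.sum_congr rfl fun φ hφ => ?_
    congr 1
    have : blockPart b (sec x H (χ : G → ℂ)) = ∑ φ ∈ bset b,
        classInner (sec x H (χ : G → ℂ)) (φ : H → ℂ) • (φ : H → ℂ) := funext fun c => by
      rw [blockPart_apply]; simp
    rw [this, classInner_sum_left, Finset.sum_eq_single φ]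
    · rw [classInner_smul_left, classInner_irr_self φ.2, mul_one]
    · intro φ' _ hne'
      rw [classInner_smul_left, classInner_irr_ne φ'.2 φ.2 (fun h => hne' (Subtype.ext h)),
        mul_zero]
    · exact fun h => absurd hφ h
  rw [Finset.sum_congr rfl fun c hc => show β c * conj (blockPart b (sec x H (θ : G → ℂ)) c) =
      ∑ c' ∈ R, β c * ((Nat.card H : ℂ)⁻¹ * (conj (sec x H (θ : G → ℂ) c') *
        ∑ φ ∈ bset b, (φ : H → ℂ) c⁻¹ * (φ : H → ℂ) c')) by
    rw [blockPart_regular hM hcl _ (Finset.mem_filter.1 hc).2, map_mul, map_inv₀, map_natCast,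
      map_sum, Finset.mul_sum, Finset.mul_sum]
    refine Finset.sum_congr rfl fun c' _ => ?_
    simp only [map_mul, map_sum, irr_conjInv, inv_inv], Finset.sum_comm]
  refine Finset.sum_congr rfl fun c' hc' => ?_
  conv_rhs => rw [← hββ c', blockPart_regular hM hcl _ (Finset.mem_filter.1 hc').2]
  rw [Finset.mul_sum, Finset.sum_mul]
  refine Finset.sum_congr rfl fun c _ => ?_
  rw [Finset.mul_sum, Finset.mul_sum, Finset.mul_sum, Finset.mul_sum, Finset.mul_sum,
    Finset.sum_mul]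
  exact Finset.sum_congr rfl fun φ _ => by ring

/-- The contributions of `χ` as central character values of one class function. -/
theorem secPair_omega (hM : IsPModular p M) (hH : IsCentr x H)
    (hx : ∃ k : ℕ, orderOf x = p ^ k) (hind : IsInducedBlock M H b B)
    (hdef : blockDefect p b = blockDefect p B) (χ : IrrCharacter G) :
    ∃ f : G → ℂ, IsClassFunction G f ∧ (∀ g, IsIntegral ℤ (f g)) ∧ ∀ θ ∈ B,
      ((Nat.card G / p ^ (Nat.card G).factorization p : ℕ) : ℂ) *
          secPair p x b (χ : G → ℂ) (θ : G → ℂ) =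
        (p : ℂ) ^ (dv p (θ : G → ℂ) - minDv p B) *
          (((charDegree (θ : G → ℂ) / p ^ dv p (θ : G → ℂ) : ℕ) : ℂ) *
            omega (θ : G → ℂ) f) := by
  classical
  obtain ⟨k, hk⟩ := hx
  have hb := hind.1
  have hB := hind.2.1
  set R := Finset.univ.filter (fun c : H => ¬ p ∣ orderOf c) with hR
  set β := blockPart b (sec x H (χ : G → ℂ)) with hβ
  set X : H := ⟨x, hH.self_mem⟩ with hX
  have hXc : ∀ g : H, Commute g X := fun g => Subtype.ext ((hH g).1 g.2)
  have hβint : ∀ c, IsIntegral ℤ (β c) := fun c => by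
    rw [hβ, blockPart_apply]
    exact IsIntegral.sum _ fun φ _ =>
      (coeff_props hM hH hk χ φ).2.mul (isIntegral_of_char (isCharacter_of_irr φ.2) c)
  have hβcl : IsClassFunction H β := fun a c => by
    rw [hβ, blockPart_apply, blockPart_apply]
    exact Finset.sum_congr rfl fun φ _ => by rw [irr_isClassFun φ a c]
  set F : H → ℂ := fun h => if p ∣ orderOf (h * X) then 0 else β (h * X)⁻¹ with hF
  have hFcl : IsClassFunction H F := by
    intro a c
    have e : c * a * c⁻¹ * X = c * (a * X) * c⁻¹ := by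
      rw [mul_assoc (c * a), ((hXc c).inv_left).eq]; group
    simp only [hF, e, conj_orderOf]
    split_ifs
    · rfl
    · rw [show (c * (a * X) * c⁻¹)⁻¹ = c * (a * X)⁻¹ * c⁻¹ by group, hβcl]
  have hFint : ∀ h, IsIntegral ℤ (F h) := fun h => by
    simp only [hF]; split_ifs
    · exact isIntegral_zero
    · exact hβint _
  set f := indFun H F with hf
  have hfcl : IsClassFunction G f := indFun_isClassFunction H F
  have hfint : ∀ g, IsIntegral ℤ (f g) := isIntegral_indFun hFcl hFint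
  have hfmem : ∀ g, MemLocalRing M (f g) := fun g => memRing_of_isIntegral hM (hfint g)
  have hidem : ∀ θ : IrrCharacter G, ∑ c ∈ R, β c * conj (blockPart b (sec x H (θ : G → ℂ)) c) =
      ∑ c ∈ R, β c * conj (sec x H (θ : G → ℂ) c) := fun θ => sum_blockPart_conj hM hb χ θ
  have hkey : ∀ θ : IrrCharacter G, secPair p x b (χ : G → ℂ) (θ : G → ℂ) =
      (p : ℂ) ^ blockDefect p b * (Nat.card G : ℂ)⁻¹ *
        ((θ : G → ℂ) 1 * omega (θ : G → ℂ) f) := by
    intro θ
    rw [omega, mul_div_cancel₀ _ (irr_one_ne_zero θ)]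
    have hfr := frobenius_reciprocity H F
      (χ := fun g => conj ((θ : G → ℂ) g))
      (isClassFunction_irr (isIrrCharacter_conjChar θ.2))
    simp only [classInner, Complex.conj_conj] at hfr
    rw [← hf] at hfr
    have e : ∑ h : H, F h * (θ : G → ℂ) (h : G) = ∑ c ∈ R, β c * conj (sec x H (θ : G → ℂ) c) := by
      rw [Finset.sum_filter]
      refine Fintype.sum_equiv ((Equiv.mulRight X).trans (Equiv.inv H)) _ _ fun h => ?_
      simp only [Equiv.trans_apply, Equiv.coe_mulRight, Equiv.inv_apply, orderOf_inv, hF]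
      by_cases hd' : p ∣ orderOf (h * X)
      · simp [hd']
      · rw [if_neg hd', if_pos hd']
        congr 1
        show _ = conj ((θ : G → ℂ) (x * (((h * X)⁻¹ : H) : G)))
        rw [irr_conjInv]
        congr 1
        simp [hX]
    unfold secPair
    rw [hidem θ, ← e, mul_assoc, mul_assoc]
    congr 1
    exact hfr.symm
  set K := Nat.card G / p ^ (Nat.card G).factorization p with hK
  set v := minDv p B with hv
  have hp0 : (p : ℂ) ≠ 0 := Nat.cast_ne_zero.2 hM.1.ne_zero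
  have hK0 : (K : ℂ) ≠ 0 := Nat.cast_ne_zero.2 fun h =>
    pprime_card_res_ne hM G (by rw [← hK, h, Nat.cast_zero])
  have hG : (Nat.card G : ℂ) = (p : ℂ) ^ blockDefect p b * (p : ℂ) ^ v * (K : ℂ) := by
    rw [hdef, ← pow_add, blockDefect_eq, hv, Nat.sub_add_cancel (minDv_le_card hM hB)]
    exact_mod_cast (Nat.ordProj_mul_ordCompl_eq_self (Nat.card G) p).symm
  set r : IrrCharacter G → ℕ := fun θ =>
    charDegree (θ : G → ℂ) / p ^ dv p (θ : G → ℂ) with hr
  have hru : ∀ θ, ¬ p ∣ r θ := fun θ => Nat.not_dvd_ordCompl hM.1 (irr_charDegree_pos θ).ne'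
  have hdeg : ∀ θ ∈ B, (θ : G → ℂ) 1 =
      (p : ℂ) ^ v * (p : ℂ) ^ (dv p (θ : G → ℂ) - v) * (r θ : ℂ) := by
    intro θ hθ
    rw [← pow_add, Nat.add_sub_cancel' (minDv_le hθ), ← irr_charDegree_cast θ]
    exact_mod_cast (Nat.ordProj_mul_ordCompl_eq_self (charDegree (θ : G → ℂ)) p).symm
  have hzK : ∀ θ ∈ B, (K : ℂ) * secPair p x b (χ : G → ℂ) (θ : G → ℂ) =
      (p : ℂ) ^ (dv p (θ : G → ℂ) - v) * ((r θ : ℂ) * omega (θ : G → ℂ) f) := by
    intro θ hθ
    rw [hkey, hdeg θ hθ, hG]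
    field_simp
  exact ⟨f, hfcl, hfint, hzK⟩

/-- In a major subsection, the contribution of a height zero character and a character of
height `h` is `p ^ h` times a nonzero algebraic integer. -/
theorem secPair_div (hM : IsPModular p M) (hH : IsCentr x H)
    (hx : ∃ k : ℕ, orderOf x = p ^ k) (hind : IsInducedBlock M H b B)
    (hdef : blockDefect p b = blockDefect p B) {χ ψ : IrrCharacter G} (hχ : χ ∈ B) (hψ : ψ ∈ B)
    (h1 : dv p (χ : G → ℂ) = minDv p B) :
    ∃ u : ℂ, secPair p x b (χ : G → ℂ) (ψ : G → ℂ) =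
      (p : ℂ) ^ (dv p (ψ : G → ℂ) - minDv p B) * u ∧ IsIntegral ℤ u ∧ u ≠ 0 := by
  classical
  haveI := res_isDomain hM
  haveI := res_charP hM
  have hne := (secPair_res_ne hM hH hx hind hχ hχ h1 h1).2
  obtain ⟨f, hfcl, hfint, hzK⟩ := secPair_omega hM hH hx hind hdef χ
  have hfmem : ∀ g, MemLocalRing M (f g) := fun g => memRing_of_isIntegral hM (hfint g)
  obtain ⟨k, hk⟩ := hx
  have hb := hind.1
  have hB := hind.2.1
  set K := Nat.card G / p ^ (Nat.card G).factorization p with hK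
  set v := minDv p B with hv
  have hp0 : (p : ℂ) ≠ 0 := Nat.cast_ne_zero.2 hM.1.ne_zero
  set r : IrrCharacter G → ℕ := fun θ =>
    charDegree (θ : G → ℂ) / p ^ dv p (θ : G → ℂ) with hr
  have hru : ∀ θ, ¬ p ∣ r θ := fun θ => Nat.not_dvd_ordCompl hM.1 (irr_charDegree_pos θ).ne'
  have hωi : ∀ θ : IrrCharacter G, IsIntegral ℤ (omega (θ : G → ℂ) f) := fun θ =>
    isIntegral_omega hfcl hfint θ
  have hW : res hM (omega (χ : G → ℂ) f) ≠ 0 := by
    intro h0
    have h := congrArg (res hM) (hzK χ hχ)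
    rw [h1, Nat.sub_self, pow_zero, one_mul, res_mul hM (memRing_natCast hM _)
      (memRing_of_isIntegral hM (secPair_props hM hH hk hb χ χ).2),
      res_mul hM (memRing_natCast hM _) (memRing_of_isIntegral hM (hωi χ)), h0, mul_zero,
      mul_eq_zero, res_natCast] at h
    exact h.elim (pprime_card_res_ne hM G) hne
  have hsame : res hM (omega (ψ : G → ℂ) f) = res hM (omega (χ : G → ℂ) f) :=
    Zloc_res_congr hM (v := fun θ : IrrCharacter G => omega (θ : G → ℂ) f)
      (fun g => by rw [cf_omega hfcl]; exact hfmem g) (sameBlock_of_mem hM hB hψ hχ)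
  set h := dv p (ψ : G → ℂ) - v with hh
  refine ⟨secPair p x b (χ : G → ℂ) (ψ : G → ℂ) / (p : ℂ) ^ h,
    (mul_div_cancel₀ _ (pow_ne_zero _ hp0)).symm, ?_, ?_⟩
  · refine isIntegral_of_coprime (a := p ^ h) (b := K)
      (((hM.1.coprime_iff_not_dvd.2 (Nat.not_dvd_ordCompl hM.1 Nat.card_pos.ne'))).pow_left h) ?_ ?_
    · rw [Nat.cast_pow, mul_div_cancel₀ _ (pow_ne_zero _ hp0)]
      exact (secPair_props hM hH hk hb χ ψ).2
    · rw [mul_div_assoc', hzK ψ hψ, mul_div_cancel_left₀ _ (pow_ne_zero _ hp0)]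
      exact (isIntegral_natCast' _).mul (hωi ψ)
  · intro h0
    have := hzK ψ hψ
    rw [(div_eq_zero_iff.1 h0).resolve_right (pow_ne_zero _ hp0), mul_zero, eq_comm,
      mul_eq_zero, mul_eq_zero] at this
    rcases this with h' | h' | h'
    · exact pow_ne_zero _ hp0 h'
    · exact hru ψ (by simp only [hr]; rw [Nat.cast_eq_zero.1 h']; exact dvd_zero p)
    · rw [← hsame, h', res_zero] at hW; exact hW rfl

/-- In a major subsection, for positive height the diagonal contribution is `p ^ h` times an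
algebraic integer in the maximal ideal. -/
theorem secPair_diag_div (hM : IsPModular p M) (hH : IsCentr x H)
    (hx : ∃ k : ℕ, orderOf x = p ^ k) (hind : IsInducedBlock M H b B)
    (hdef : blockDefect p b = blockDefect p B) {ψ : IrrCharacter G} (hψ : ψ ∈ B)
    (h1 : minDv p B < dv p (ψ : G → ℂ)) :
    ∃ u : ℂ, secPair p x b (ψ : G → ℂ) (ψ : G → ℂ) =
      (p : ℂ) ^ (dv p (ψ : G → ℂ) - minDv p B) * u ∧ IsIntegral ℤ u ∧ res hM u = 0 := by
  classical
  haveI := res_isDomain hM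
  haveI := res_charP hM
  obtain ⟨χ, hχ, h0⟩ := exists_height_zero hM hind.2.1
  obtain ⟨u', hu', hu'i, -⟩ := secPair_div hM hH hx hind hdef hχ hψ h0
  obtain ⟨f, hfcl, hfint, hzK⟩ := secPair_omega hM hH hx hind hdef ψ
  have hfmem : ∀ g, MemLocalRing M (f g) := fun g => memRing_of_isIntegral hM (hfint g)
  have hint : ∀ θ : IrrCharacter G, IsIntegral ℤ (secPair p x b (ψ : G → ℂ) (θ : G → ℂ)) := by
    obtain ⟨k, hk⟩ := hx
    exact fun θ => (secPair_props hM hH hk hind.1 ψ θ).2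
  set K := Nat.card G / p ^ (Nat.card G).factorization p with hK
  set h := dv p (ψ : G → ℂ) - minDv p B with hh
  have hh0 : h ≠ 0 := by omega
  have hp0 : (p : ℂ) ≠ 0 := Nat.cast_ne_zero.2 hM.1.ne_zero
  have hωm : ∀ θ : IrrCharacter G, MemLocalRing M (omega (θ : G → ℂ) f) := fun θ =>
    memRing_of_isIntegral hM (isIntegral_omega hfcl hfint θ)
  have hsame : res hM (omega (ψ : G → ℂ) f) = res hM (omega (χ : G → ℂ) f) :=
    Zloc_res_congr hM (v := fun θ : IrrCharacter G => omega (θ : G → ℂ) f)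
      (fun g => by rw [cf_omega hfcl]; exact hfmem g) (sameBlock_of_mem hM hind.2.1 hψ hχ)
  have hW : res hM (omega (χ : G → ℂ) f) = 0 := by
    have hc : secPair p x b (ψ : G → ℂ) (χ : G → ℂ) = (p : ℂ) ^ h * conj u' := by
      rw [← secPair_conj p x b (χ : G → ℂ) (ψ : G → ℂ), hu', map_mul, map_pow, map_natCast]
    have hcm : MemLocalRing M (conj u') :=
      memRing_of_isIntegral hM (hu'i.map ((Complex.conjAe.toAlgHom).restrictScalars ℤ))
    have hz0 : res hM (secPair p x b (ψ : G → ℂ) (χ : G → ℂ)) = 0 := by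
      rw [hc, res_mul hM ((loc hM).pow_mem (memRing_natCast hM p) _) hcm,
        res_pow hM (memRing_natCast hM p), natCast_p_mem hM, zero_pow hh0, zero_mul]
    have he := congrArg (res hM) (hzK χ hχ)
    rw [h0, Nat.sub_self, pow_zero, one_mul, res_mul hM (memRing_natCast hM _)
      (memRing_of_isIntegral hM (hint χ)), hz0, mul_zero,
      res_mul hM (memRing_natCast hM _) (hωm χ), eq_comm, mul_eq_zero, res_natCast] at he
    refine he.resolve_left ?_
    rw [CharP.cast_eq_zero_iff (AlgInt ⧸ M) p, ← h0]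
    exact Nat.not_dvd_ordCompl hM.1 (irr_charDegree_pos χ).ne'
  set u := secPair p x b (ψ : G → ℂ) (ψ : G → ℂ) / (p : ℂ) ^ h with hu
  have hKu : (K : ℂ) * u =
      ((charDegree (ψ : G → ℂ) / p ^ dv p (ψ : G → ℂ) : ℕ) : ℂ) * omega (ψ : G → ℂ) f := by
    rw [hu, mul_div_assoc', hzK ψ hψ, mul_div_cancel_left₀ _ (pow_ne_zero _ hp0)]
  have hui : IsIntegral ℤ u := by
    refine isIntegral_of_coprime (a := p ^ h) (b := K)
      (((hM.1.coprime_iff_not_dvd.2 (Nat.not_dvd_ordCompl hM.1 Nat.card_pos.ne'))).pow_left h) ?_ ?_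
    · rw [Nat.cast_pow, hu, mul_div_cancel₀ _ (pow_ne_zero _ hp0)]
      exact hint ψ
    · rw [hKu]; exact (isIntegral_natCast' _).mul (isIntegral_omega hfcl hfint ψ)
  refine ⟨u, (mul_div_cancel₀ _ (pow_ne_zero _ hp0)).symm, hui, ?_⟩
  have he := congrArg (res hM) hKu
  rw [res_mul hM (memRing_natCast hM _) (memRing_of_isIntegral hM hui),
    res_mul hM (memRing_natCast hM _) (hωm ψ), hsame, hW, mul_zero, res_natCast, mul_eq_zero] at he
  exact he.resolve_left (pprime_card_res_ne hM G)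

/-- The row identity of the contributions. -/
theorem sum_secPair_row (hM : IsPModular p M) (hH : IsCentr x H)
    (hx : ∃ k : ℕ, orderOf x = p ^ k) (hind : IsInducedBlock M H b B) (χ : IrrCharacter G) :
    ∑ ψ ∈ bset B,
      secPair p x b (χ : G → ℂ) (ψ : G → ℂ) * conj (secPair p x b (χ : G → ℂ) (ψ : G → ℂ)) =
      (p : ℂ) ^ blockDefect p b * secPair p x b (χ : G → ℂ) (χ : G → ℂ) := by
  classical
  have hb := hind.1
  set R := Finset.univ.filter (fun c : H => ¬ p ∣ orderOf c) with hR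
  set β := blockPart b (sec x H (χ : G → ℂ)) with hβ
  rw [Finset.sum_subset (Finset.subset_univ (bset B)) fun ψ _ hψ => by
    rw [← secPair_conj p x b (ψ : G → ℂ) (χ : G → ℂ),
      secPair_off hM hH hx hind (fun h => hψ (mem_bset.2 h)), map_zero, zero_mul]]
  set a : ℂ := (p : ℂ) ^ blockDefect p b * (Nat.card H : ℂ)⁻¹ with ha
  have e : ∀ ψ : IrrCharacter G,
      secPair p x b (χ : G → ℂ) (ψ : G → ℂ) * conj (secPair p x b (χ : G → ℂ) (ψ : G → ℂ)) =
      a ^ 2 * ((∑ c ∈ R, blockPart b (sec x H (ψ : G → ℂ)) c * conj (β c)) *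
        conj (∑ c ∈ R, blockPart b (sec x H (ψ : G → ℂ)) c * conj (β c))) := by
    intro ψ
    rw [secPair_conj]
    simp only [secPair, ha, map_sum, map_mul, Complex.conj_conj]
    rw [← hR, Finset.sum_congr rfl fun c (_ : c ∈ R) =>
      mul_comm (conj (blockPart b (sec x H (ψ : G → ℂ)) c)) (β c)]
    ring
  simp only [e, ← Finset.mul_sum]
  rw [sum_sq_pairing hM hH hx hb (fun c => conj (β c))]
  have hcl : ∀ ψ ∈ b, blockOf M (ψ : H → ℂ) ⊆ b := fun ψ hψ => (eq_blockOf hM hb hψ).ge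
  have hββ : ∀ c, blockPart b β c = β c := by
    intro c
    rw [blockPart_apply, hβ, blockPart_apply]
    refine Finset.sum_congr rfl fun φ hφ => ?_
    congr 1
    have : blockPart b (sec x H (χ : G → ℂ)) = ∑ φ ∈ bset b,
        classInner (sec x H (χ : G → ℂ)) (φ : H → ℂ) • (φ : H → ℂ) := funext fun c => by
      rw [blockPart_apply]; simp
    rw [this, classInner_sum_left, Finset.sum_eq_single φ]
    · rw [classInner_smul_left, classInner_irr_self φ.2, mul_one]
    · intro φ' _ hne'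
      rw [classInner_smul_left, classInner_irr_ne φ'.2 φ.2 (fun h => hne' (Subtype.ext h)),
        mul_zero]
    · exact fun h => absurd hφ h
  have h2 : ∑ φ ∈ bset b, (∑ c ∈ R, (φ : H → ℂ) c * conj (β c)) *
      conj (∑ c ∈ R, (φ : H → ℂ) c * conj (β c)) =
      (Nat.card H : ℂ) * ∑ c ∈ R, β c * conj (β c) := by
    rw [Finset.mul_sum]
    conv_rhs => rw [Finset.sum_congr rfl fun c hc => show (Nat.card H : ℂ) * (β c * conj (β c)) =
      (Nat.card H : ℂ) * (blockPart b β c * conj (β c)) by rw [hββ c]]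
    rw [Finset.sum_congr rfl fun c (hc : c ∈ R) => by
      rw [blockPart_regular hM hcl β (Finset.mem_filter.1 hc).2, ← hR, ← mul_assoc, ← mul_assoc,
        mul_inv_cancel₀ (Nat.cast_ne_zero.2 Nat.card_pos.ne'), one_mul]]
    simp only [Finset.sum_mul, Finset.mul_sum, map_sum, map_mul, Complex.conj_conj]
    rw [Finset.sum_comm, Finset.sum_congr rfl fun c _ => Finset.sum_comm, Finset.sum_comm]
    refine Finset.sum_congr rfl fun c' _ => Finset.sum_congr rfl fun c _ =>
      Finset.sum_congr rfl fun φ _ => ?_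
    rw [irr_conjInv]
    ring
  rw [h2]
  unfold secPair
  rw [← hR, ← hβ, ha]
  field_simp

theorem weighted_pairs_le (hM : IsPModular p M) (hH : IsCentr x H)
    (hx : ∃ k : ℕ, orderOf x = p ^ k) (hind : IsInducedBlock M H b B)
    (S : Finset (IrrCharacter G × IrrCharacter G)) (hS : S ⊆ bset B ×ˢ bset B)
    (m : IrrCharacter G × IrrCharacter G → ℕ)
    (hdiv : ∀ i ∈ S, ∃ u : ℂ, secPair p x b (i.1 : G → ℂ) (i.2 : G → ℂ) = (p : ℂ) ^ m i * u ∧
      IsIntegral ℤ u ∧ u ≠ 0) :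
    ∑ i ∈ S, (p ^ m i) ^ 2 ≤ p ^ (2 * blockDefect p b) * blockRank p b := by
  classical
  obtain ⟨k, hk⟩ := hx
  have hx : ∃ k : ℕ, orderOf x = p ^ k := ⟨k, hk⟩
  haveI : NeZero (p ^ k) := ⟨pow_ne_zero _ hM.1.ne_zero⟩
  have hp0 : (p : ℂ) ≠ 0 := Nat.cast_ne_zero.2 hM.1.ne_zero
  set zK : IrrCharacter G × IrrCharacter G → rootField (p ^ k) := fun i =>
    ⟨secPair p x b (i.1 : G → ℂ) (i.2 : G → ℂ),
      (secPair_props hM hH hk hind.1 i.1 i.2).1⟩ with hzK
  set uK : IrrCharacter G × IrrCharacter G → rootField (p ^ k) := fun i =>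
    zK i / ((p : rootField (p ^ k)) ^ m i) with huK
  have huv : ∀ i ∈ S, ∀ u : ℂ, secPair p x b (i.1 : G → ℂ) (i.2 : G → ℂ) = (p : ℂ) ^ m i * u →
      (uK i : ℂ) = u := by
    intro i hi u hu
    show (rootField (p ^ k)).val (uK i) = u
    rw [huK, map_div₀, map_pow, map_natCast]
    show secPair p x b (i.1 : G → ℂ) (i.2 : G → ℂ) / _ = u
    rw [hu, mul_div_cancel_left₀ _ (pow_ne_zero _ hp0)]
  refine weighted_card_le S uK (fun i => (p ^ m i) ^ 2) (fun i hi => ?_) (fun i hi h0 => ?_) _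
    fun σ => ?_
  · obtain ⟨u, hu, hui, -⟩ := hdiv i hi
    rw [huv i hi u hu]; exact hui
  · obtain ⟨u, hu, -, hu0⟩ := hdiv i hi
    exact hu0 (by rw [← huv i hi u hu, h0]; rfl)
  · have hconj : ∀ i, σ ⟨conj (zK i : ℂ), (conj_galois (NeZero.ne _) σ (zK i).2).1⟩ =
        conj (σ (zK i)) := fun i => (conj_galois (NeZero.ne _) σ (zK i).2).2
    have hsum : (∑ i ∈ bset B ×ˢ bset B,
        zK i * ⟨conj (zK i : ℂ), (conj_galois (NeZero.ne _) σ (zK i).2).1⟩ : rootField (p ^ k)) =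
        ((p ^ (2 * blockDefect p b) * blockRank p b : ℕ) : rootField (p ^ k)) := by
      apply (rootField (p ^ k)).val.injective
      rw [map_sum, map_natCast, ← sum_secPair_sq hM hH hx hind, Finset.sum_product]
      rfl
    have h := congrArg σ hsum
    simp only [map_sum, map_mul, map_natCast, hconj, Complex.mul_conj] at h
    rw [← Complex.ofReal_sum] at h
    have h' : ∑ i ∈ bset B ×ˢ bset B, Complex.normSq (σ (zK i)) =
        ((p ^ (2 * blockDefect p b) * blockRank p b : ℕ) : ℝ) := by exact_mod_cast h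
    rw [← h']
    refine le_of_eq_of_le (Finset.sum_congr rfl fun i _ => ?_)
      (Finset.sum_le_sum_of_subset_of_nonneg hS fun i _ _ => Complex.normSq_nonneg _)
    rw [huK, map_div₀, map_pow, map_natCast, map_div₀ Complex.normSq, map_pow,
      Complex.normSq_natCast]
    push_cast
    field_simp [Nat.cast_ne_zero.2 hM.1.ne_zero]
    ring

/-- Brauer–Feit: `k₀(B) · Σ p^{2h} ≤ p^{2d} l(b)` for a major subsection. -/
theorem major_bound (hM : IsPModular p M) (hH : IsCentr x H)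
    (hx : ∃ k : ℕ, orderOf x = p ^ k) (hind : IsInducedBlock M H b B)
    (hdef : blockDefect p b = blockDefect p B)
    [DecidablePred fun χ : IrrCharacter G => dv p (χ : G → ℂ) = minDv p B] :
    ((bset B).filter fun χ : IrrCharacter G => dv p (χ : G → ℂ) = minDv p B).card *
        ∑ ψ ∈ bset B, (p ^ (dv p (ψ : G → ℂ) - minDv p B)) ^ 2 ≤
      p ^ (2 * blockDefect p B) * blockRank p b := by
  classical
  rw [← hdef]
  refine le_of_eq_of_le ?_ (weighted_pairs_le hM hH hx hind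
    (((bset B).filter fun χ : IrrCharacter G => dv p (χ : G → ℂ) = minDv p B) ×ˢ bset B)
    (Finset.product_subset_product (Finset.filter_subset _ _) subset_rfl)
    (fun i => dv p (i.2 : G → ℂ) - minDv p B) fun i hi => ?_)
  · rw [Finset.sum_product]
    exact ((Finset.sum_const _).trans (smul_eq_mul _ _)).symm
  · obtain ⟨hi1, hi2⟩ := Finset.mem_product.1 hi
    obtain ⟨hi1, h0⟩ := Finset.mem_filter.1 hi1
    exact secPair_div hM hH hx hind hdef (mem_bset.1 hi1) (mem_bset.1 hi2) h0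

/-- `k(B)² ≤ p^{2d} l(b)` when every height is zero. -/
theorem sq_card_le_of_heights (hM : IsPModular p M) (hH : IsCentr x H)
    (hx : ∃ k : ℕ, orderOf x = p ^ k) {b : Set (IrrCharacter H)} {B : Set (IrrCharacter G)}
    (hind : IsInducedBlock M H b B) (hh : ∀ χ ∈ B, dv p (χ : G → ℂ) = minDv p B) :
    Nat.card B ^ 2 ≤ p ^ (2 * blockDefect p b) * blockRank p b := by
  classical
  refine le_of_eq_of_le ?_ (weighted_pairs_le hM hH hx hind (bset B ×ˢ bset B) subset_rfl
    (fun _ => 0) fun i hi => ?_)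
  · simp only [pow_zero, one_pow, Finset.sum_const, smul_eq_mul, mul_one, Finset.card_product]
    rw [Nat.card_eq_fintype_card, Fintype.card_of_finset' (bset B) fun χ => mem_bset, sq]
  · obtain ⟨hi1, hi2⟩ := Finset.mem_product.1 hi
    obtain ⟨k, hk⟩ := hx
    obtain ⟨-, hne⟩ := secPair_res_ne hM hH ⟨k, hk⟩ hind (mem_bset.1 hi1) (mem_bset.1 hi2)
      (hh _ (mem_bset.1 hi1)) (hh _ (mem_bset.1 hi2))
    exact ⟨_, by rw [pow_zero, one_mul], (secPair_props hM hH hk hind.1 i.1 i.2).2,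
      fun h => hne (by rw [h, res_zero])⟩

end CfsgLib.Blocks
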