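import Cfsg.Agent.Lib.Glauberman.Invariant
import Cfsg.Agent.Lib.Blocks.Orth
import Cfsg.Agent.Lib.Blocks.SectionBound
import Cfsg.Agent.Lib.Fusion.PSolvable

/-!
# Preliminaries for lifting `p`-modular characters of `p`-solvable groups
-/

namespace CfsgLib.FongSwan

open Cfsg CfsgLib.CharTheory CfsgLib.Glauberman
open scoped ComplexConjugate

set_option linter.unusedVariables false
set_option linter.style.haveILetI false
set_option linter.unusedSectionVars false

universe u v w

variable {p : ℕ}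

/-- A normal `p'`-subgroup with `p`-solvable factor group. -/
theorem of_pPrime_ker {G : Type u} [Group G] [Finite G] {H : Type v} [Group H] (f : G →* H)
    (hf : Function.Surjective f) (hker : (Nat.card f.ker).Coprime p) (h : IsPSolvable p H) :
    IsPSolvable p G := by
  obtain ⟨n, K, h0, h1, hm, hn, hidx⟩ := h
  let L : Fin (n + 2) → Subgroup G := Fin.cases ⊥ fun i => (K i).comap f
  have hL : ∀ i, L (Fin.succ i) = (K i).comap f := fun i => rfl
  refine ⟨n + 1, L, rfl, ?_, ?_, ?_, fun i => ?_⟩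
  · rw [← Fin.succ_last, hL, h1, Subgroup.comap_top]
  · refine Fin.monotone_iff_le_succ.mpr fun i => ?_
    induction i using Fin.cases with
    | zero => exact bot_le
    | succ j =>
      rw [Fin.castSucc_succ, hL, hL]
      exact Subgroup.comap_mono (hm (Fin.castSucc_lt_succ).le)
  · intro i
    induction i using Fin.cases with
    | zero => exact inferInstanceAs (⊥ : Subgroup G).Normal
    | succ j => rw [hL]; exact (hn j).comap f
  · induction i using Fin.cases with
    | zero =>
      refine Or.inr ?_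
      rw [hL, h0]
      show ((⊥ : Subgroup G).relIndex ((⊥ : Subgroup H).comap f)).Coprime p
      rw [Subgroup.relIndex_bot_left, MonoidHom.comap_bot]
      exact hker
    | succ j =>
      rw [Fin.castSucc_succ, hL, hL, Subgroup.relIndex_comap, Subgroup.map_comap_eq_self_of_surjective hf]
      exact hidx j

/-- A regular element of a homomorphic image has a regular preimage. -/
theorem exists_regular_preimage {G : Type u} [Group G] [Finite G] {H : Type v} [Group H] [Finite H]
    (hp : p.Prime) (f : G →* H) (hf : Function.Surjective f) {y : H} (hy : ¬ p ∣ orderOf y) :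
    ∃ x : G, ¬ p ∣ orderOf x ∧ f x = y := by
  obtain ⟨g, rfl⟩ := hf y
  obtain ⟨u, w, huw, hc, ⟨k, hu⟩, hw, ⟨j, hj⟩, -⟩ := CfsgLib.Blocks.exists_pPart hp g
  refine ⟨w, hw, ?_⟩
  have h1 : f u = 1 := by
    rw [← orderOf_eq_one_iff]
    refine Nat.eq_one_of_dvd_coprimes ((hp.coprime_iff_not_dvd.2 hy).pow_left k) ?_ ?_
    · rw [← hu]; exact orderOf_map_dvd f u
    · have hj' : g ^ j = u := hj
      rw [← hj', map_zpow]
      exact orderOf_dvd_of_mem_zpowers ⟨j, rfl⟩
  rw [← huw, map_mul, h1, one_mul]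

/-- A regular element of a subgroup of `p'`-order. -/
theorem regular_of_mem {G : Type u} [Group G] [Finite G] {H : Subgroup G} (hH : ¬ p ∣ Nat.card H)
    {x : G} (hx : x ∈ H) : ¬ p ∣ orderOf x := fun h => hH (h.trans (by
      rw [← Subgroup.orderOf_mk x hx]; exact orderOf_dvd_natCard _))

/-- A group all of whose elements are `p`-regular. -/
theorem not_dvd_card_of_forall {G : Type u} [Group G] [Finite G] (hp : p.Prime)
    (h : ∀ x : G, ¬ p ∣ orderOf x) : ¬ p ∣ Nat.card G := fun hd => by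
  haveI : Fact p.Prime := ⟨hp⟩
  obtain ⟨x, hx⟩ := exists_prime_orderOf_dvd_card' p hd
  exact h x (hx ▸ dvd_rfl)

/-- Two regular preimages are conjugate when the kernel is a `p`-group. -/
theorem isConj_of_regular_preimage {G : Type u} [Group G] [Finite G] {H : Type v} [Group H]
    (hp : p.Prime) (f : G →* H) (hker : IsPGroup p f.ker) {x y : G} (hx : ¬ p ∣ orderOf x)
    (hy : ¬ p ∣ orderOf y) (he : f x = f y) : IsConj x y := by
  haveI : Fact p.Prime := ⟨hp⟩
  set U := (Subgroup.zpowers (f x)).comap f with hU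
  have hxU : x ∈ U := ⟨1, by simp⟩
  have hyU : y ∈ U := ⟨1, by simp [he]⟩
  set Q := f.ker.subgroupOf U with hQdef
  haveI : Q.Normal := Subgroup.Normal.comap inferInstance _
  have hQ : IsPGroup p Q := hker.comap_of_injective U.subtype U.subtype_injective
  let x' : U := ⟨x, hxU⟩
  let y' : U := ⟨y, hyU⟩
  have hgen : ∀ z : U, f (z : G) ∈ Subgroup.zpowers (f x) := fun z => z.2
  have hsup : ∀ z : U, f (z : G) = f x → Q ⊔ Subgroup.zpowers z = ⊤ := fun z hz => by
    refine eq_top_iff.2 fun w _ => ?_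
    obtain ⟨j, hj⟩ := hgen w
    rw [Subgroup.mem_sup_of_normal_left]
    refine ⟨w * (z ^ j)⁻¹, ?_, z ^ j, ⟨j, rfl⟩, by group⟩
    show f ((w : G) * ((z ^ j : U) : G)⁻¹) = 1
    rw [Subgroup.coe_zpow, map_mul, map_inv, map_zpow, hz, mul_inv_eq_one]
    exact hj.symm
  obtain ⟨g, hg⟩ := CfsgLib.Glauberman.Invariant.exists_conj_le Q (Subgroup.zpowers x')
    (Subgroup.zpowers y') (by
      obtain ⟨k, hk⟩ := hQ.exists_card_eq
      rw [hk, Nat.card_zpowers, Subgroup.orderOf_mk]
      exact (hp.coprime_iff_not_dvd.2 hx).pow_left k)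
    (hsup x' rfl) (hsup y' he.symm) (Or.inl (haveI := hQ.isNilpotent; inferInstance))
  obtain ⟨j, hj⟩ := hg x' ⟨1, zpow_one _⟩
  have hj' : y ^ j = (g : G) * x * (g : G)⁻¹ := congrArg Subtype.val hj
  refine isConj_iff.2 ⟨(g : G), hj'.symm.trans ?_⟩
  obtain ⟨i, hi⟩ := hgen g
  have hi' : f x ^ i = f (g : G) := hi
  have h1 : f (y ^ j * y⁻¹) = 1 := by
    rw [hj', map_mul, map_mul, map_mul, map_inv, map_inv, ← hi', ← he, ← zpow_add_one, ← zpow_neg,
      ← zpow_add, show i + 1 + -i = 1 by ring, zpow_one, mul_inv_cancel]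
  obtain ⟨k, hk⟩ := hker ⟨y ^ j * y⁻¹, h1⟩
  have h2 : (y ^ j * y⁻¹) ^ p ^ k = 1 := congrArg Subtype.val hk
  refine mul_inv_eq_one.1 (orderOf_eq_one_iff.1
    (Nat.eq_one_of_dvd_coprimes ((hp.coprime_iff_not_dvd.2 hy).pow_left k)
      (orderOf_dvd_of_pow_eq_one h2) ?_))
  exact orderOf_dvd_of_mem_zpowers ⟨j - 1, by
    show y ^ (j - 1) = _
    rw [zpow_sub_one]⟩

variable {G : Type u} [Group G] [Fintype G]

/-- Inner products along a surjection. -/
theorem classInner_comp_surj {H : Type v} [Group H] [Fintype H] (f : H →* G)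
    (hf : Function.Surjective f) (a b : G → ℂ) :
    classInner (fun h => a (f h)) (fun h => b (f h)) = classInner a b := by
  classical
  have hfib : ∀ g : G, (Finset.univ.filter fun h => f h = g).card = Nat.card f.ker := by
    intro g
    obtain ⟨h₀, rfl⟩ := hf g
    rw [← Fintype.card_subtype, ← Nat.card_eq_fintype_card]
    exact Nat.card_congr
      { toFun := fun h => ⟨h₀⁻¹ * h.1, by rw [MonoidHom.mem_ker, map_mul, map_inv, h.2, inv_mul_cancel]⟩
        invFun := fun k => ⟨h₀ * k.1, by rw [map_mul, MonoidHom.mem_ker.1 k.2, mul_one]⟩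
        left_inv := fun h => Subtype.ext (by simp)
        right_inv := fun k => Subtype.ext (by simp) }
  unfold classInner
  rw [← Finset.sum_fiberwise Finset.univ f, Finset.sum_congr rfl fun g _ => by
    rw [Finset.sum_congr rfl (fun h hh => by rw [(Finset.mem_filter.1 hh).2] :
      ∀ h ∈ Finset.univ.filter (fun h => f h = g), a (f h) * conj (b (f h)) = a g * conj (b g)),
      Finset.sum_const, hfib, nsmul_eq_mul], ← Finset.mul_sum,
    ← Subgroup.card_mul_index f.ker, Subgroup.index_ker,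
    Nat.card_congr (Subgroup.topEquiv.toEquiv.symm : G ≃ (⊤ : Subgroup G)),
    ← MonoidHom.range_eq_top.2 hf, Nat.cast_mul, mul_inv,
    mul_comm (Nat.card f.ker : ℂ)⁻¹, mul_assoc,
    inv_mul_cancel_left₀ (Nat.cast_ne_zero.2 (Nat.card_pos (α := f.ker)).ne')]

theorem mult_one_iff {H : Type v} [Group H] [Fintype H] (f : H →* G) (χ : IrrCharacter G)
    (β : IrrCharacter H) {n : ℕ}
    : mult f χ β = n ↔ classInner (fun h => (χ : G → ℂ) (f h)) (β : H → ℂ) = n :=
  ⟨fun h => by rw [mult_spec, h], mult_eq f χ β⟩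

theorem mult_ne_zero_iff {H : Type v} [Group H] [Fintype H] (f : H →* G) (χ : IrrCharacter G)
    (β : IrrCharacter H) :
    mult f χ β ≠ 0 ↔ classInner (fun h => (χ : G → ℂ) (f h)) (β : H → ℂ) ≠ 0 := by
  rw [mult_spec, Nat.cast_ne_zero]

/-- Multiplicities through an intermediate group. -/
theorem mult_comp_ne_zero {H : Type v} [Group H] [Fintype H] {K : Type w} [Group K] [Fintype K]
    {ι : H →* G} {κ : K →* H} {χ : IrrCharacter G} {β : IrrCharacter H} {γ : IrrCharacter K}
    (h1 : mult ι χ β ≠ 0) (h2 : mult κ β γ ≠ 0) : mult (ι.comp κ) χ γ ≠ 0 := by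
  rw [mult_comp]
  exact fun h => Nat.mul_ne_zero h1 h2 (Finset.sum_eq_zero_iff.1 h β (Finset.mem_univ _))

theorem exists_mult_of_comp {H : Type v} [Group H] [Fintype H] {K : Type w} [Group K] [Fintype K]
    {ι : H →* G} {κ : K →* H} {χ : IrrCharacter G} {γ : IrrCharacter K}
    (h : mult (ι.comp κ) χ γ ≠ 0) : ∃ β, mult ι χ β ≠ 0 ∧ mult κ β γ ≠ 0 := by
  rw [mult_comp] at h
  obtain ⟨β, -, hβ⟩ := Finset.exists_ne_zero_of_sum_ne_zero h
  exact ⟨β, mul_ne_zero_iff.1 hβ⟩

/-- A linear character below a central subgroup: the scalar of a character. -/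
theorem central_apply {Z : Subgroup G} [Fintype Z] (hZ : Z ≤ Subgroup.center G)
    {χ : IrrCharacter G} {μ : IrrCharacter Z} (h : mult Z.subtype χ μ ≠ 0) (z : Z) :
    (χ : G → ℂ) z = (χ : G → ℂ) 1 * ((μ : Z → ℂ) z / (μ : Z → ℂ) 1) := by
  haveI : Z.Normal := ⟨fun a ha g => by
    rwa [Subgroup.mem_center_iff.1 (hZ ha) g, mul_inv_cancel_right]⟩
  rw [mult_ne_zero_iff] at h
  have h2 := clifford_invariant Z χ.2 μ.2 h fun g => funext fun n => congrArg (μ : Z → ℂ)
    (Subtype.ext (by
      show g * (n : G) * g⁻¹ = n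
      rw [Subgroup.mem_center_iff.1 (hZ n.2) g, mul_inv_cancel_right]))
  have e1 := congrFun h2 z
  have e2 := congrFun h2 1
  simp only [Pi.smul_apply, smul_eq_mul] at e1 e2
  rw [show (χ : G → ℂ) 1 = (χ : G → ℂ) ((1 : Z) : G) from rfl, e2, e1,
    mul_assoc, mul_div_cancel₀ _ (irr_ne_zero μ.2)]

/-- Congruent functions induce congruent functions. -/
theorem indFun_congr_regular (T : Subgroup G) {ι : Type v} [Fintype ι] (f : T → ℂ)
    (c : ι → ℂ) (g : ι → T → ℂ) (h : ∀ t : T, ¬ p ∣ orderOf t → f t = ∑ i, c i * g i t) {x : G}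
    (hx : ¬ p ∣ orderOf x) : indFun T f x = ∑ i, c i * indFun T (g i) x := by
  simp only [indFun, Finset.mul_sum]
  rw [Finset.sum_comm]
  refine Finset.sum_congr rfl fun a _ => ?_
  by_cases ha : a⁻¹ * x * a ∈ T
  · rw [extendByZero_of_mem _ _ ha, h _ (by
      rw [Subgroup.orderOf_mk]
      have : a⁻¹ * x * a = MulAut.conj a⁻¹ x := by simp
      rwa [this, MulEquiv.orderOf_eq]),
      Finset.mul_sum]
    exact Finset.sum_congr rfl fun i _ => by rw [extendByZero_of_mem _ _ ha]; ring
  · rw [extendByZero_of_not_mem _ _ ha, mul_zero]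
    exact (Finset.sum_eq_zero fun i _ => by rw [extendByZero_of_not_mem _ _ ha]; ring).symm

end CfsgLib.FongSwan
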