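import Cfsg.Agent.Lib.Blocks.FongPSolvable
import Cfsg.Agent.Lib.Blocks.HallHigman
import Cfsg.Agent.Lib.Glauberman.PGroup
import Cfsg.Agent.Lib.Glauberman.Ambient

/-!
# Fong: the blocks of centralizers of `p`-subgroups under the block over a stable character
-/

namespace CfsgLib.Blocks

open Cfsg CfsgLib.CharTheory CfsgLib.Glauberman
open scoped ComplexConjugate

set_option linter.unusedVariables false
set_option linter.unusedSimpArgs false
set_option linter.style.haveILetI false
set_option linter.unusedSectionVars false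
set_option maxHeartbeats 400000

universe u

variable {p : ℕ} {M : Ideal AlgInt} {G : Type u} [Group G] [Fintype G]

/-- Induction from `C(P)` is the pair relation. -/
theorem induced_centralizer_iff (hM : IsPModular p M) {P : Subgroup G} (hP : IsPGroup p P)
    [Fintype (Subgroup.centralizer (P : Set G))] {B : Set (IrrCharacter G)}
    {f : Set (IrrCharacter (Subgroup.centralizer (P : Set G)))} :
    IsInducedBlock M (Subgroup.centralizer (P : Set G)) f B ↔ IsBrauerPairOf p M B P f := by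
  classical
  constructor
  · intro h
    obtain ⟨ξ, hξ⟩ := block_nonempty hM h.1
    obtain ⟨φ, hφ⟩ := block_nonempty hM h.2.1
    refine pairOf_of_lam hM hP h.1 hξ h.2.1 ?_
    rw [lam, brauerOmega_eq_omega, res_omega_of_induced _ hM ξ φ (h.2.2 ξ hξ φ hφ)
      (blockCoeff_isClassFunction B) (memRing_blockCoeff hM h.2.1), ← cf_ind, omega_cf,
      ind_of_mem hφ, res_one]
  · intro h
    obtain ⟨ξ, hξ⟩ := bne hM h.1.2
    obtain ⟨φ, hφ⟩ := exists_lam_irr hM hP ξ
    refine isInducedBlock_of_congr _ hM h.1.2 h.2.1 hξ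
      (lam_irr_mem hM h.2.1 hφ (pairOf_lam hM h hξ)) fun g => ?_
    rw [memIdeal_sub_iff hM (memRing_inducedCentralChar _ hM ξ g)
      (show MemLocalRing M (centralChar (φ : G → ℂ) g) from memRing_clv hM g φ),
      ← omega_restrict_classInd _ g, ← omega_classInd g φ,
      ← hφ _ (isClassFunction_classInd g) (memRing_classInd hM g), lam, brauerOmega_eq_omega]

theorem exists_degree_not_dvd (hM : IsPModular p M) {K : Type u} [Group K] [Fintype K]
    (hK : ¬ p ∣ Nat.card K) (θ : IrrCharacter K) :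
    ∃ d : ℕ, (θ : K → ℂ) 1 = d ∧ ¬ p ∣ d := by
  obtain ⟨d, hd0, hd⟩ := irr_degree_pos θ.2
  refine ⟨d, hd, fun hp => hK (hp.trans ?_)⟩
  obtain ⟨n, ρ, hρ, hρχ⟩ := θ.2
  haveI := hρ
  have e : (n : ℂ) = d := by
    rw [← hd, ← hρχ, ρ.char_one, Module.finrank_fintype_fun_eq_card, Fintype.card_fin]
  have := finrank_dvd_card ρ
  rw [Module.finrank_fintype_fun_eq_card, Fintype.card_fin, Nat.cast_inj.1 e] at this
  exact this

/-- Thompson's `P × Q` lemma inside an ambient group. -/
theorem pxq [Fact p.Prime] {V R : Subgroup G} (hV : IsPGroup p V) (hR : IsPGroup p R)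
    (hRV : R ≤ Subgroup.normalizer (V : Set G)) {x : G}
    (hxV : x ∈ Subgroup.normalizer (V : Set G)) (hxR : ∀ r ∈ R, r * x = x * r)
    (hx : (orderOf x).Coprime p)
    (hfix : V ⊓ Subgroup.centralizer (R : Set G) ≤ Subgroup.centralizer ({x} : Set G)) :
    V ≤ Subgroup.centralizer ({x} : Set G) := by
  classical
  set U := V ⊓ Subgroup.centralizer ({x} : Set G) with hU
  suffices hUV : U = V by rw [← hUV]; exact inf_le_right
  by_contra hne
  obtain ⟨j, hj⟩ := IsPGroup.iff_card.1 hV
  set N := V ⊓ Subgroup.normalizer (U : Set G) with hN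
  have hlt : U < V := lt_of_le_of_ne inf_le_left hne
  have hrU : ∀ r ∈ R, r ∈ Subgroup.normalizer (U : Set G) := by
    intro r hr
    rw [Subgroup.mem_normalizer_iff]
    intro u
    rw [hU, Subgroup.mem_inf, Subgroup.mem_inf, ← (Subgroup.mem_normalizer_iff.1 (hRV hr) u)]
    refine and_congr Iff.rfl ?_
    rw [Subgroup.mem_centralizer_singleton_iff, Subgroup.mem_centralizer_singleton_iff]
    have h := hxR r hr
    have h' : r⁻¹ * x = x * r⁻¹ := by
      rw [eq_mul_inv_iff_mul_eq, mul_assoc, ← h, inv_mul_cancel_left]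
    constructor
    · intro hu
      calc r * u * r⁻¹ * x = r * (u * x) * r⁻¹ := by rw [mul_assoc (r * u), h']; group
        _ = r * x * u * r⁻¹ := by rw [hu]; group
        _ = x * (r * u * r⁻¹) := by rw [h]; group
    · intro hu
      calc u * x = r⁻¹ * (r * u * r⁻¹ * (r * x * r⁻¹)) * r := by group
        _ = r⁻¹ * (r * u * r⁻¹ * x) * r := by rw [h, mul_inv_cancel_right]
        _ = r⁻¹ * x * r * u := by rw [hu]; group
        _ = x * u := by rw [h']; group
  -- a coset fixed by `R`
  obtain ⟨n, hnN, hnU, hnfix⟩ : ∃ n ∈ N, n ∉ U ∧ ∀ r ∈ R, n⁻¹ * (r * n * r⁻¹) ∈ U := by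
    have hUN : U < N := by
      obtain ⟨y, hy, hyU⟩ := SetLike.exists_of_lt
        (haveI := hV.isNilpotent; Group.normalizerCondition_of_isNilpotent (U.subgroupOf V) (lt_top_iff_ne_top.2 fun h =>
          hne (le_antisymm inf_le_left (Subgroup.subgroupOf_eq_top.1 h))))
      refine lt_of_le_of_ne (le_inf inf_le_left Subgroup.le_normalizer) fun h => hyU ?_
      rw [Subgroup.mem_subgroupOf, h, Subgroup.mem_inf]
      refine ⟨y.2, ?_⟩
      rw [Subgroup.mem_normalizer_iff] at hy ⊢
      intro u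
      constructor
      · intro hu
        exact Subgroup.mem_subgroupOf.1 ((hy ⟨u, hlt.le hu⟩).1 hu)
      · intro hu
        have huV : u ∈ V := by
          have := V.mul_mem (V.mul_mem (V.inv_mem y.2) (hlt.le hu)) y.2
          simpa [mul_assoc] using this
        exact Subgroup.mem_subgroupOf.1 ((hy ⟨u, huV⟩).2 hu)
    have hrN : ∀ r ∈ R, r ∈ Subgroup.normalizer (N : Set G) := by
      intro r hr
      apply conjHom_map_mem
      rw [hN, Subgroup.map_inf _ _ _ (MulAut.conj r).injective, map_conj_normalizer (hRV hr)]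
      congr 1
      apply map_conj_normalizer
      exact (Subgroup.le_normalizer : Subgroup.normalizer (U : Set G) ≤ _) (hrU r hr)
    letI : MulAction R (N ⧸ U.subgroupOf N) :=
      { smul := fun r => Quotient.map'
          (fun m : N => (⟨r * m * (r : G)⁻¹, (Subgroup.mem_normalizer_iff.1 (hrN r r.2) m).1 m.2⟩ : N))
          (fun a b hab => by
            rw [QuotientGroup.leftRel_apply, Subgroup.mem_subgroupOf] at hab ⊢
            simp only [Subgroup.coe_mul, Subgroup.coe_inv] at hab ⊢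
            rw [show ((r : G) * a * (r : G)⁻¹)⁻¹ * ((r : G) * b * (r : G)⁻¹) =
              r * ((a : G)⁻¹ * b) * (r : G)⁻¹ by group]
            exact (Subgroup.mem_normalizer_iff.1 (hrU r r.2) _).1 hab)
        one_smul := fun q => by
          induction q using QuotientGroup.induction_on with
          | H z => exact congrArg QuotientGroup.mk (Subtype.ext (by simp))
        mul_smul := fun r s q => by
          induction q using QuotientGroup.induction_on with
          | H z => exact congrArg QuotientGroup.mk (Subtype.ext (by simp [mul_assoc])) }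
    have hcard : p ∣ Nat.card (N ⧸ U.subgroupOf N) := by
      have hNp : IsPGroup p N := hV.to_le inf_le_left
      obtain ⟨i, hi⟩ := hNp.index (U.subgroupOf N)
      rw [← Subgroup.index_eq_card, hi]
      refine dvd_pow_self p fun h0 => hUN.ne ?_
      rw [h0, pow_zero, Subgroup.index_eq_one, Subgroup.subgroupOf_eq_top] at hi
      exact le_antisymm hUN.le hi
    obtain ⟨q, hq, hq1⟩ := hR.exists_fixed_point_of_prime_dvd_card_of_fixed_point
      (N ⧸ U.subgroupOf N) hcard (a := QuotientGroup.mk 1) (fun r => by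
        exact congrArg QuotientGroup.mk (Subtype.ext (by simp)))
    induction q using QuotientGroup.induction_on with
    | H m =>
      refine ⟨m, m.2, fun h => hq1 (QuotientGroup.eq.2 ?_), fun r hr => ?_⟩
      · rw [Subgroup.mem_subgroupOf]; simpa using h
      · have := QuotientGroup.eq.1 (hq ⟨r, hr⟩).symm
        exact Subgroup.mem_subgroupOf.1 this
  have hcentU : ∀ u ∈ U, u * x = x * u := fun u hu =>
    Subgroup.mem_centralizer_singleton_iff.1 hu.2
  set z := n⁻¹ * (x * n * x⁻¹) with hz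
  have hzV : z ∈ V := V.mul_mem (V.inv_mem hnN.1)
    ((Subgroup.mem_normalizer_iff.1 hxV n).1 hnN.1)
  have hzC : ∀ u ∈ U, u * z = z * u := by
    intro u hu
    have h1 := hcentU _ ((Subgroup.mem_normalizer_iff.1 hnN.2 u).1 hu)
    have h2 := hcentU u hu
    rw [hz]
    calc u * (n⁻¹ * (x * n * x⁻¹)) = n⁻¹ * (n * u * n⁻¹ * x) * n * x⁻¹ := by group
      _ = n⁻¹ * x * n * (u * x⁻¹) := by rw [h1]; group
      _ = n⁻¹ * x * n * (x⁻¹ * u) := by rw [(show Commute u x from h2).inv_right.eq]
      _ = n⁻¹ * (x * n * x⁻¹) * u := by group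
  have hzR : z ∈ Subgroup.centralizer (R : Set G) := by
    intro r hr
    obtain ⟨u, hu, hru⟩ : ∃ u ∈ U, r * n * r⁻¹ = n * u :=
      ⟨_, hnfix r hr, by group⟩
    have hrx : r * x = x * r := hxR r hr
    have h3 : r * z * r⁻¹ = z := by
      have hx' : (r * x * r⁻¹) = x := by rw [hrx, mul_inv_cancel_right]
      calc r * z * r⁻¹ = (r * n * r⁻¹)⁻¹ * ((r * x * r⁻¹) * (r * n * r⁻¹) * (r * x * r⁻¹)⁻¹) := by
            rw [hz]; group
        _ = u⁻¹ * (n⁻¹ * (x * n * (u * x⁻¹))) := by rw [hx', hru]; group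
        _ = u⁻¹ * (z * u) := by
            rw [(show Commute u x from hcentU u hu).inv_right.eq, hz]; group
        _ = z := by rw [← hzC u hu, inv_mul_cancel_left]
    exact mul_inv_eq_iff_eq_mul.1 h3
  have hzU : z ∈ U := ⟨hzV, hfix ⟨hzV, hzR⟩⟩
  have hzx := hcentU z hzU
  have hpow : ∀ i : ℕ, x ^ i * n * (x ^ i)⁻¹ = n * z ^ i := by
    intro i
    induction i with
    | zero => simp
    | succ i ih =>
      rw [pow_succ', mul_inv_rev, show x * x ^ i * n * ((x ^ i)⁻¹ * x⁻¹) =
        x * (x ^ i * n * (x ^ i)⁻¹) * x⁻¹ by group, ih,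
        show x * (n * z ^ i) * x⁻¹ = (x * n * x⁻¹) * (x * z ^ i * x⁻¹) by group,
        (show Commute x z from hzx.symm).pow_right i |>.eq, mul_inv_cancel_right, pow_succ',
        ← mul_assoc n z]
      congr 1
      rw [hz]; group
  have hz1 : z = 1 := by
    have h := hpow (orderOf x)
    rw [pow_orderOf_eq_one, one_mul, inv_one, mul_one] at h
    have h2 : z ^ orderOf x = 1 := mul_eq_left.1 h.symm
    refine orderOf_eq_one_iff.1 (Nat.eq_one_of_dvd_coprimes (hx.pow_right j)
      (orderOf_dvd_of_pow_eq_one h2) ?_)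
    rw [← hj, ← Subgroup.orderOf_mk z hzV]
    exact orderOf_dvd_natCard _
  refine hnU ⟨hnN.1, Subgroup.mem_centralizer_singleton_iff.2 ?_⟩
  rw [hz, inv_mul_eq_one] at hz1
  exact mul_inv_eq_iff_eq_mul.1 hz1.symm |>.symm

/-- All blocks of `C(R)` under the block over `θ` coincide. -/
theorem fong_local_unique (hM : IsPModular p M) {K L Q : Subgroup G} [K.Normal] [L.Normal]
    [Fintype K] (hK : ¬ p ∣ Nat.card K) (hKL : K ≤ L) (hidx : ∃ k : ℕ, K.relIndex L = p ^ k)
    (hQL : Q ≤ L) (hQp : IsPGroup p Q) (hQS : ¬ p ∣ Q.relIndex L)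
    (hCQ : Subgroup.centralizer (Q : Set G) ≤ L) (θ : IrrCharacter K)
    (hθ : ∀ g : G, IsConjCharOf K g (θ : K → ℂ) (θ : K → ℂ)) {R : Subgroup G}
    (hR : IsPGroup p R) :
    ∃ f₀ : Set (IrrCharacter (Subgroup.centralizer (R : Set G))),
      ∀ f, IsPBlock M f → ∀ ξ ∈ f, lam hM R (subgroupBlockCoeff K {θ}) ξ = 1 → f = f₀ := by
  classical
  haveI : Fact p.Prime := ⟨hM.1⟩
  haveI := res_isDomain hM
  set H := Subgroup.centralizer (R : Set G) with hH
  haveI := Fintype.ofFinite H
  set KH := K.subgroupOf H with hKH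
  haveI := Fintype.ofFinite KH
  have hKHp : ¬ p ∣ Nat.card KH := fun h => hK (h.trans (by
    rw [← Subgroup.card_map_of_injective (f := H.subtype) H.subtype_injective,
      Subgroup.subgroupOf_map_subtype]
    exact Subgroup.card_dvd_of_le inf_le_left))
  -- the correspondent
  have hnorm : ∀ s ∈ R, ∀ g ∈ K, s * g * s⁻¹ ∈ K :=
    fun s _ g hg => (‹K.Normal›).conj_mem g hg s
  let ι : KH →* K :=
    { toFun := fun c => ⟨((c : H) : G), c.2⟩
      map_one' := rfl
      map_mul' := fun _ _ => rfl }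
  have hsetup : Setup p M (conjHom K R hnorm) ι := by
    refine ⟨hM, hR, hK, fun a b h => Subtype.ext (Subtype.ext (congrArg Subtype.val h :)),
      fun g => ⟨?_, fun hg => ?_⟩⟩
    · rintro ⟨c, rfl⟩ s
      exact Subtype.ext (mul_inv_eq_iff_eq_mul.2 ((c : H).2 s s.2))
    · have hgH : (g : G) ∈ H := fun s hs =>
        mul_inv_eq_iff_eq_mul.1 (congrArg Subtype.val (hg ⟨s, hs⟩))
      exact ⟨⟨⟨g, hgH⟩, g.2⟩, rfl⟩
  obtain ⟨β, hβ, hβu⟩ := hsetup.exists_unique_under θ
    ((inv_iff K R hnorm _).1 fun s hs g g' e => hθ s g g' e)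
  obtain ⟨dθ, hdθ, hdθp⟩ := exists_degree_not_dvd hM hK θ
  set F : H → ℂ := fun h => subgroupBlockCoeff K ({θ} : Set (IrrCharacter K)) h with hF
  have hone := isPBlock_singleton_of_coprime hM hK θ
  have hstK : ∀ x : G, StabilizesBlock K {θ} x := fun x =>
    ⟨mem_normalizer_normal x, fun χ hχ => ⟨θ, rfl, by rw [Set.mem_singleton_iff] at hχ
                                                      subst hχ
                                                      exact hθ x⟩⟩
  have hFG : IsClassFunction G (subgroupBlockCoeff K ({θ} : Set (IrrCharacter K))) := by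
    have := covFn_cls (N := K) (G := G) ({θ} : Set (IrrCharacter K))
    rwa [covFn_of_stable hstK] at this
  have hFGm : ∀ x, MemLocalRing M (subgroupBlockCoeff K ({θ} : Set (IrrCharacter K)) x) := by
    intro x
    have := covFn_mem (N := K) (G := G) hM hone x
    rwa [covFn_of_stable hstK] at this
  have hFc : IsClassFunction H F := fun a b => hFG (a : G) (b : G)
  have hFoff : ∀ h ∉ KH, F h = 0 := fun h hh => sext_off K _ hh
  have hval : ∀ β' : IrrCharacter KH,
      res hM (omega (β' : KH → ℂ) (fun k : KH => F k)) ≠ 0 ↔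
        (mult ι θ β' : AlgInt ⧸ M) ≠ 0 := by
    intro β'
    obtain ⟨d, hd, hdp⟩ := exists_degree_not_dvd hM hKHp β'
    have hm := mult_spec ι θ β'
    rw [classInner, inv_mul_eq_iff_eq_mul₀ (Nat.cast_ne_zero.2 Nat.card_pos.ne')] at hm
    have hm' := congrArg conj hm
    simp only [map_sum, map_mul, Complex.conj_natCast, Complex.conj_conj] at hm'
    have hid : (Nat.card K : ℂ) * (d : ℂ) * omega (β' : KH → ℂ) (fun k : KH => F k) =
        (dθ : ℂ) * ((Nat.card KH : ℂ) * (mult ι θ β' : ℂ)) := by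
      rw [← hm', omega, hd]
      have hFv : ∀ k : KH, F k = (Nat.card K : ℂ)⁻¹ * ((dθ : ℂ) * conj ((θ : K → ℂ) (ι k))) := by
        intro k
        show subgroupBlockCoeff K {θ} (((ι k : K)) : G) = _
        rw [sgbc_coe]
        simp only [blockCoeff, finsum_mem_singleton, hdθ]
      simp only [hFv]
      have h1 : (Nat.card K : ℂ) ≠ 0 := Nat.cast_ne_zero.2 Nat.card_pos.ne'
      have h2 : (d : ℂ) ≠ 0 := hd ▸ irr_one_ne_zero β'
      rw [mul_assoc (Nat.card K : ℂ), mul_div_cancel₀ _ h2, Finset.mul_sum, Finset.mul_sum]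
      refine Finset.sum_congr rfl fun k _ => ?_
      field_simp
    have hωm : MemLocalRing M (omega (β' : KH → ℂ) (fun k : KH => F k)) :=
      memRing_omega (f := fun k : KH => F k) hM (fun a b => hFc (a : H) (b : H)) (fun k => hFGm _) β'
    have hn : ∀ n : ℕ, MemLocalRing M (n : ℂ) := natCast_mem (loc hM)
    have hres := congrArg (res hM) hid
    rw [res_mul hM ((loc hM).mul_mem (hn _) (hn _)) hωm, res_mul hM (hn _) (hn _),
      res_mul hM (hn _) ((loc hM).mul_mem (hn _) (hn _)), res_mul hM (hn _) (hn _), res_natCast,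
      res_natCast, res_natCast, res_natCast, res_natCast] at hres
    have h1 : (Nat.card K : AlgInt ⧸ M) * (d : AlgInt ⧸ M) ≠ 0 :=
      mul_ne_zero (Glauberman.natCast_ne_zero hM hK) (Glauberman.natCast_ne_zero hM hdp)
    constructor
    · intro h h0
      rw [h0, mul_zero, mul_zero] at hres
      exact h ((mul_eq_zero.1 hres).resolve_left h1)
    · intro h h0
      rw [h0, mul_zero] at hres
      exact (mul_ne_zero (Glauberman.natCast_ne_zero hM hdθp)
        (mul_ne_zero (Glauberman.natCast_ne_zero hM hKHp) h)) hres.symm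
  have hkey : ∀ (ξ : IrrCharacter H) (φ : IrrCharacter KH),
      classInner (fun k : KH => (ξ : H → ℂ) k) (φ : KH → ℂ) ≠ 0 →
      (res hM (omega (ξ : H → ℂ) F) ≠ 0 ↔ φ = β) := by
    intro ξ φ h
    rw [omega_eq_of_constituent h hFc hFoff, hval φ]
    exact ⟨fun hm => by_contra fun hne => hm (hβu φ hne), fun e => e ▸ hβ⟩
  obtain ⟨ξ₀, hξ₀⟩ := exists_over (G := H) β
  have hβinv : ∀ g : H, IsConjCharOf KH g (β : KH → ℂ) (β : KH → ℂ) := by
    intro g k k' hk
    set ψ := irrPull (conjE (mem_normalizer_normal (N := KH) g)) β with hψ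
    have hψc : classInner (fun n : KH => (ξ₀ : H → ℂ) n) (ψ : KH → ℂ) ≠ 0 := by
      rw [hψ, irrPull_conjE_eq, classInner_res_conjNormFun KH g⁻¹ (isClassFunction_irr ξ₀.2)]
      exact hξ₀
    have h1 := (hkey ξ₀ ψ hψc).1 ((hkey ξ₀ β hξ₀).2 rfl)
    have h2 := congrArg (fun c : IrrCharacter KH => (c : KH → ℂ) k') h1
    simp only [hψ, irrPull_apply] at h2
    rw [← h2]
    refine congrArg _ (Subtype.ext ?_)
    show g⁻¹ * (k' : H) * g = k
    rw [hk]; group
  -- the normal subgroup of `C(R)`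
  set π := QuotientGroup.mk' K with hπ
  set V := L.map π with hV
  haveI : V.Normal := (‹L.Normal›).map π (QuotientGroup.mk'_surjective K)
  have hker : (⊥ : Subgroup (G ⧸ K)).comap π = K := by
    rw [MonoidHom.comap_bot, hπ, QuotientGroup.ker_mk']
  obtain ⟨k, hk⟩ := hidx
  have hVcard : Nat.card V = p ^ k := by
    rw [← hk, ← Subgroup.relIndex_bot_left, hV, ← Subgroup.relIndex_comap, hker]
  have hVp : IsPGroup p V := IsPGroup.iff_card.2 ⟨k, hVcard⟩
  have hVQ : V ≤ Q.map π := by
    have hle : Q.map π ≤ V := Subgroup.map_mono hQL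
    refine Subgroup.relIndex_eq_one.1 (Nat.eq_one_of_dvd_coprimes
      ((hM.1.coprime_iff_not_dvd.2 hQS).pow_left k) ?_ ?_)
    · rw [← hVcard]; exact Subgroup.index_dvd_card _
    · have h2 : ((Q.map π).comap π).relIndex L = (Q.map π).relIndex V :=
        Subgroup.relIndex_comap _ _ _
      rw [← h2]
      exact Subgroup.relIndex_dvd_of_le_left _ (Subgroup.le_comap_map _ _)
  have hCV : ∀ y, (∀ v ∈ V, v * y = y * v) → y ∈ V := by
    intro y hy
    obtain ⟨g, rfl⟩ := QuotientGroup.mk'_surjective K y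
    obtain ⟨Q', rfl⟩ : ∃ Q' : Subgroup L, Q'.map L.subtype = Q :=
      ⟨Q.subgroupOf L, Subgroup.map_subgroupOf_eq_of_le hQL⟩
    have hQ'p : IsPGroup p Q' :=
      hQp.of_equiv (Subgroup.equivMapOfInjective Q' L.subtype L.subtype_injective).symm
    have hQ'i : ¬ p ∣ Q'.index := by
      rwa [Subgroup.relIndex, Subgroup.subgroupOf,
        Subgroup.comap_map_eq_self_of_injective L.subtype_injective] at hQS
    set gc : MulAut L := MulAut.conjNormal g with hgc
    have hQ''p : IsPGroup p (Q'.map gc.toMonoidHom) := hQ'p.map _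
    have hQ''i : ¬ p ∣ (Q'.map gc.toMonoidHom).index := by
      show ¬ p ∣ (Q'.map (gc : L →* L)).index
      rwa [Subgroup.index_map_equiv]
    obtain ⟨l, hl⟩ := MulAction.exists_smul_eq L (hQ''p.toSylow hQ''i) (hQ'p.toSylow hQ'i)
    have h1 := congrArg (fun S : Sylow p L => (S : Subgroup L)) hl
    simp only [Sylow.coe_subgroup_smul, IsPGroup.toSylow_coe] at h1
    -- `l = a * b` with `a ∈ K` and `b ∈ Q'`
    obtain ⟨q, hq, hql⟩ := hVQ ⟨l, l.2, rfl⟩
    obtain ⟨b, hb, rfl⟩ := hq
    have ha : (b : G)⁻¹ * l ∈ K := QuotientGroup.eq.1 hql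
    set a : G := (b : G)⁻¹ * l with hadef
    have hstep : ∀ s ∈ Q', a * (g * (s : G) * g⁻¹) * a⁻¹ ∈ Q'.map L.subtype := by
      intro s hs
      have h2 : l * gc s * l⁻¹ ∈ Q' := h1.le ⟨gc s, ⟨s, hs, rfl⟩, rfl⟩
      refine ⟨b⁻¹ * (l * gc s * l⁻¹) * b, Q'.mul_mem (Q'.mul_mem (Q'.inv_mem hb) h2) hb, ?_⟩
      simp [hgc, hadef, MulAut.conjNormal_apply, mul_assoc]
    have hag : a * g ∈ Subgroup.centralizer ((Q'.map L.subtype : Subgroup G) : Set G) := by
      rintro _ ⟨s, hs, rfl⟩
      set t := a * g * (s : G) * (a * g)⁻¹ * (s : G)⁻¹ with ht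
      have ht1 : t ∈ Q'.map L.subtype := by
        refine (Q'.map L.subtype).mul_mem ?_ ((Q'.map L.subtype).inv_mem ⟨s, hs, rfl⟩)
        rw [show a * g * (s : G) * (a * g)⁻¹ = a * (g * (s : G) * g⁻¹) * a⁻¹ by group]
        exact hstep s hs
      have ht2 : t ∈ K := by
        rw [← QuotientGroup.eq_one_iff, ← QuotientGroup.mk'_apply, ← hπ, ht]
        have ha1 : π a = 1 := by rw [hπ, QuotientGroup.mk'_apply, QuotientGroup.eq_one_iff]; exact ha
        have h3 := hy (π (s : G)) ⟨s, s.2, rfl⟩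
        simp only [map_mul, map_inv, ha1, one_mul]
        rw [← h3, mul_inv_cancel_right, mul_inv_cancel]
      obtain ⟨j, hj⟩ := IsPGroup.iff_card.1 hQp
      have ht3 : t = 1 := orderOf_eq_one_iff.1 (Nat.eq_one_of_dvd_coprimes
        ((hM.1.coprime_iff_not_dvd.2 hK).pow_left j)
        (hj ▸ Subgroup.orderOf_mk t ht1 ▸ orderOf_dvd_natCard _)
        (Subgroup.orderOf_mk t ht2 ▸ orderOf_dvd_natCard _))
      rw [ht, mul_inv_eq_one, mul_inv_eq_iff_eq_mul] at ht3
      exact ht3.symm
    have hgL : g ∈ L := by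
      have := L.mul_mem (L.inv_mem (hKL ha)) (hCQ hag)
      simpa using this
    exact ⟨g, hgL, rfl⟩
  set Rb := R.map π with hRb
  set Hb := H.map π with hHb
  set W := V ⊓ Subgroup.centralizer (Rb : Set (G ⧸ K)) with hW
  have hHR : Hb ≤ Subgroup.centralizer (Rb : Set (G ⧸ K)) := by
    rintro _ ⟨h, hh, rfl⟩ _ ⟨r, hr, rfl⟩
    rw [← map_mul, ← map_mul, hh r hr]
  have hWH : W ≤ Hb := by
    rintro y ⟨hyV, hyR⟩
    obtain ⟨l, hl, rfl⟩ := hyV
    let X := {z : G // π z = π l}
    letI : MulAction R X :=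
      { smul := fun r z => ⟨r * z * (r : G)⁻¹, by
          rw [map_mul, map_mul, z.2, map_inv, hyR _ ⟨r, r.2, rfl⟩, mul_inv_cancel_right]⟩
        one_smul := fun z => Subtype.ext (by show ((1 : R) : G) * z * ((1 : R) : G)⁻¹ = _; simp)
        mul_smul := fun r s z => Subtype.ext (by
          show ((r * s : R) : G) * z * ((r * s : R) : G)⁻¹ = (r : G) * (s * z * (s : G)⁻¹) * (r : G)⁻¹
          simp [mul_assoc]) }
    let e : X ≃ K :=
      { toFun := fun z => ⟨l⁻¹ * z, by
          rw [← QuotientGroup.eq_one_iff, ← QuotientGroup.mk'_apply, ← hπ, map_mul, map_inv, z.2,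
            inv_mul_cancel]⟩
        invFun := fun c => ⟨l * c, by
          rw [map_mul, show π (c : G) = 1 by
            rw [hπ, QuotientGroup.mk'_apply, QuotientGroup.eq_one_iff]; exact c.2, mul_one]⟩
        left_inv := fun z => Subtype.ext (by simp)
        right_inv := fun c => Subtype.ext (by simp) }
    obtain ⟨z, hz⟩ := hR.nonempty_fixed_point_of_prime_not_dvd_card X
      (by rw [Nat.card_congr e]; exact hK)
    exact ⟨z.1, fun r hr => mul_inv_eq_iff_eq_mul.1 (congrArg Subtype.val (hz ⟨r, hr⟩)), z.2⟩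
  set Cb := Hb ⊓ Subgroup.centralizer (W : Set (G ⧸ K)) with hCb
  have hCbp : IsPGroup p Cb := by
    rintro ⟨y, hyH, hyW⟩
    set a := (orderOf y).factorization p
    refine ⟨a, Subtype.ext ?_⟩
    show y ^ p ^ a = 1
    set x := y ^ p ^ a with hx
    have hxo : (orderOf x).Coprime p := by
      rw [hx, orderOf_pow_of_dvd (pow_ne_zero _ hM.1.ne_zero) (Nat.ordProj_dvd _ _)]
      exact (Nat.coprime_ordCompl hM.1 (orderOf_pos y).ne').symm
    have hxV := pxq hVp (hR.map π) (by rw [Subgroup.normalizer_eq_top (H := V)]; exact le_top)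
      (by rw [Subgroup.normalizer_eq_top (H := V)]; trivial)
      (fun r hr => (hHR (Hb.pow_mem hyH _) r hr)) hxo
      (fun v hv => Subgroup.mem_centralizer_singleton_iff.2
        ((Subgroup.centralizer (W : Set (G ⧸ K))).pow_mem hyW _ v hv))
    have hxmem : x ∈ V := hCV x fun v hv => Subgroup.mem_centralizer_singleton_iff.1 (hxV hv)
    refine orderOf_eq_one_iff.1 (Nat.eq_one_of_dvd_coprimes (hxo.pow_right k) dvd_rfl ?_)
    rw [← hVcard, ← Subgroup.orderOf_mk x hxmem]
    exact orderOf_dvd_natCard _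
  set T := W ⊔ Cb with hT
  have hTp : IsPGroup p T :=
    (hVp.to_le inf_le_left).to_sup_of_normal_left' hCbp
      (inf_le_right.trans (Subgroup.centralizer_le_normalizer _))
  have hTH : T ≤ Hb := sup_le hWH inf_le_left
  have hnW : Hb ≤ Subgroup.normalizer (W : Set (G ⧸ K)) := by
    intro h hh
    apply conjHom_map_mem
    rw [hW, Subgroup.map_inf _ _ _ (MulAut.conj h).injective,
      map_conj_normalizer (show h ∈ Subgroup.normalizer (V : Set (G ⧸ K)) from
        mem_normalizer_normal h)]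
    congr 1
    exact map_conj_normalizer (Subgroup.le_normalizer (hHR hh))
  have hnT : Hb ≤ Subgroup.normalizer (T : Set (G ⧸ K)) := by
    intro h hh
    apply conjHom_map_mem
    rw [hT, Subgroup.map_sup, map_conj_normalizer (hnW hh), hCb,
      Subgroup.map_inf _ _ _ (MulAut.conj h).injective,
      map_conj_normalizer (Subgroup.le_normalizer hh),
      map_conj_normalizer (normalizer_le_normalizer_cent W (hnW hh))]
  set ψ := π.comp H.subtype with hψ
  set LH := T.comap ψ with hLH
  haveI : LH.Normal := ⟨fun n hn h => by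
    rw [hLH, Subgroup.mem_comap] at hn ⊢
    rw [map_mul, map_mul, map_inv]
    exact (Subgroup.mem_normalizer_iff.1 (hnT ⟨h, h.2, rfl⟩) _).1 hn⟩
  haveI := Fintype.ofFinite LH
  have hkerψ : (⊥ : Subgroup (G ⧸ K)).comap ψ = KH := by
    rw [hψ, ← Subgroup.comap_comap, hker]; rfl
  have hKLH : KH ≤ LH := hkerψ ▸ Subgroup.comap_mono bot_le
  have hmapLH : LH.map ψ = T := by
    rw [hLH, Subgroup.map_comap_eq, inf_eq_right]
    intro y hy
    obtain ⟨h, hh, rfl⟩ := hTH hy
    exact ⟨⟨h, hh⟩, rfl⟩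
  obtain ⟨i, hi⟩ := IsPGroup.iff_card.1 hTp
  have hidxH : KH.relIndex LH = p ^ i := by
    rw [← hkerψ, Subgroup.relIndex_comap, hmapLH, Subgroup.relIndex_bot_left, hi]
  obtain ⟨S⟩ : Nonempty (Sylow p LH) := inferInstance
  set QH := (S : Subgroup LH).map LH.subtype with hQH
  have hQHS : ¬ p ∣ QH.relIndex LH := by
    rw [hQH, Subgroup.relIndex, Subgroup.subgroupOf,
      Subgroup.comap_map_eq_self_of_injective LH.subtype_injective]
    exact S.not_dvd_index
  have hTQ : T ≤ QH.map ψ := by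
    refine Subgroup.relIndex_eq_one.1 (Nat.eq_one_of_dvd_coprimes
      ((hM.1.coprime_iff_not_dvd.2 hQHS).pow_left i) ?_ ?_)
    · rw [← hi]; exact Subgroup.index_dvd_card _
    · have h2 : ((QH.map ψ).comap ψ).relIndex LH = (QH.map ψ).relIndex T := by
        rw [Subgroup.relIndex_comap, hmapLH]
      rw [← h2]
      exact Subgroup.relIndex_dvd_of_le_left _ (Subgroup.le_comap_map _ _)
  obtain ⟨B', hB', hmem, -, -⟩ := fong_core hM hKHp hKLH ⟨i, hidxH⟩
    (Subgroup.map_subtype_le _ : QH ≤ LH) (S.isPGroup'.map _) hQHS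
    (fun c hc => by
      rw [hLH, Subgroup.mem_comap]
      refine (le_sup_right : Cb ≤ T) ⟨⟨c, c.2, rfl⟩, fun w hw => ?_⟩
      obtain ⟨q, hq, hqw⟩ := hTQ ((le_sup_left : W ≤ T) hw)
      rw [← hqw, ← map_mul, ← map_mul, hc q hq])
    β hβinv
  refine ⟨B', fun f hf ξ hξ h1 => ?_⟩
  rw [lam, brauerOmega_eq_omega] at h1
  obtain ⟨φ, hφ⟩ := exists_res_constituent (N := KH) ξ
  have hφβ : φ = β := (hkey ξ φ hφ).1 (by rw [h1]; exact one_ne_zero)
  have hξB : ξ ∈ B' := (hmem ξ).2 (hφβ ▸ hφ)
  exact (eq_blockOf hM hf hξ).trans (eq_blockOf hM hB' hξB).symm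

end CfsgLib.Blocks
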