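import Cfsg.Agent.Lib.Blocks.AbelianFreeInvolution
import Cfsg.Agent.Lib.Basic
import Cfsg.Agent.Lib.PComplement

/-!
# Abelian Sylow 2-subgroups of rank two: the theorem on normal Sylow subgroups
-/

namespace CfsgLib.Blocks.AbelianFree

open Cfsg CfsgLib.CharTheory

set_option linter.unusedVariables false
set_option linter.style.haveILetI false
set_option linter.unusedSectionVars false

universe u

variable {G : Type u} [Group G] [Finite G]

/-- With a three-element automiser and more than four elements no involution generates normally. -/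
theorem no_generator {P : Sylow 2 G} [Fintype G] (h : Free P 3) (hm2 : 3 + 1 < Nat.card P) {t : G}
    (ht : orderOf t = 2) (htop : ∀ K : Subgroup G, K.Normal → t ∈ K → K = ⊤) : False := by
  classical
  haveI : Fintype (P : Subgroup G) := Fintype.ofFinite _
  haveI : Fintype (Subgroup.normalizer ((P : Subgroup G) : Set G)) := Fintype.ofFinite _
  obtain ⟨M, hM⟩ := exists_isPModular (p := 2) Nat.prime_two
  obtain ⟨ζ, δ, a, X, Y, S, hX3, hpm⟩ := h.exists_shape_three hM hm2
  obtain ⟨c₂, c₃, h23, hpair⟩ := Finset.card_eq_two.1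
    (show (X.erase (oneIrr G)).card = 2 by rw [Finset.card_erase_of_mem S.one.1, hX3])
  have hX : X = {oneIrr G, c₂, c₃} := by rw [← hpair, Finset.insert_erase S.one.1]
  obtain ⟨η, hη⟩ := Finset.card_pos.1 (show 0 < Y.card by have := S.two_le; omega)
  exact S.involution_two hM h hm2 hη hX
    (Finset.ne_of_mem_erase (show c₂ ∈ X.erase (oneIrr G) by rw [hpair]; simp))
    (Finset.ne_of_mem_erase (show c₃ ∈ X.erase (oneIrr G) by rw [hpair]; simp)) h23 hpm ht htop

/-- An abelian subgroup with three involutions. -/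
structure ThreeInv (P : Sylow 2 G) : Prop where
  comm : ∀ x ∈ (P : Subgroup G), ∀ y ∈ (P : Subgroup G), x * y = y * x
  count : Nat.card {x : (P : Subgroup G) // x * x = 1 ∧ x ≠ 1} = 3

variable {P : Sylow 2 G}

theorem ThreeInv.pow_mem_centralizer (h : ThreeInv P) :
    ∃ k, Odd k ∧ (Subgroup.centralizer ((P : Subgroup G) : Set G)).relIndex
        (Subgroup.normalizer ((P : Subgroup G) : Set G)) = k ∧
      ∀ n ∈ Subgroup.normalizer ((P : Subgroup G) : Set G),
        n ^ k ∈ Subgroup.centralizer ((P : Subgroup G) : Set G) := by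
  haveI : Fact (Nat.Prime 2) := ⟨Nat.prime_two⟩
  set N := Subgroup.normalizer ((P : Subgroup G) : Set G)
  set C := Subgroup.centralizer ((P : Subgroup G) : Set G)
  refine ⟨_, ?_, rfl, fun n hn => ?_⟩
  · have hPC : (P : Subgroup G) ≤ C := fun x hx =>
      Subgroup.mem_centralizer_iff.2 fun y hy => h.comm y hy x hx
    rw [Nat.odd_iff, ← Nat.two_dvd_ne_zero]
    intro h2
    exact P.not_dvd_index ((h2.trans (Subgroup.relIndex_dvd_of_le_left N hPC)).trans
      ((dvd_mul_right _ _).trans
        (Subgroup.relIndex_mul_index (Subgroup.le_normalizer)).dvd))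
  · haveI : (C.subgroupOf N).Normal := by
      rw [← Subgroup.normalizerMonoidHom_ker]
      exact MonoidHom.normal_ker _
    have h1 : (QuotientGroup.mk' (C.subgroupOf N) ⟨n, hn⟩) ^ C.relIndex N = 1 := by
      rw [Subgroup.relIndex, Subgroup.index_eq_card]
      exact pow_card_eq_one'
    rw [← map_pow, QuotientGroup.mk'_apply, QuotientGroup.eq_one_iff] at h1
    exact h1

/-- An element of the normaliser fixing the involutions centralises the subgroup. -/
theorem ThreeInv.centralizes (h : ThreeInv P) {n : G}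
    (hn : n ∈ Subgroup.normalizer ((P : Subgroup G) : Set G))
    (hfix : ∀ x ∈ (P : Subgroup G), x * x = 1 → n * x * n⁻¹ = x) :
    n ∈ Subgroup.centralizer ((P : Subgroup G) : Set G) := by
  haveI : Fact (Nat.Prime 2) := ⟨Nat.prime_two⟩
  obtain ⟨k, hodd, -, hk⟩ := h.pow_mem_centralizer
  have key : ∀ j : ℕ, ∀ x ∈ (P : Subgroup G), x ^ 2 ^ j = 1 → n * x * n⁻¹ = x := by
    intro j
    induction j with
    | zero => intro x _ hx; rw [pow_zero, pow_one] at hx; simp [hx]
    | succ j ih =>
      intro x hx hxp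
      have hnx : n * x * n⁻¹ ∈ (P : Subgroup G) := (Subgroup.mem_normalizer_iff.1 hn x).1 hx
      have hsq : n * (x * x) * n⁻¹ = x * x :=
        ih _ (Subgroup.mul_mem _ hx hx) (by rw [← pow_two, ← pow_mul, ← pow_succ', hxp])
      set d := n * x * n⁻¹ * x⁻¹ with hd
      have hdP : d ∈ (P : Subgroup G) := Subgroup.mul_mem _ hnx (Subgroup.inv_mem _ hx)
      have hcx : Commute (n * x * n⁻¹) x⁻¹ := h.comm _ hnx _ (Subgroup.inv_mem _ hx)
      have hdd : d * d = 1 := by
        rw [hd, hcx.symm.mul_mul_mul_comm, conj_mul, hsq, ← mul_inv_rev, mul_inv_cancel]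
      have hnd := hfix d hdP hdd
      have hiter : ∀ i : ℕ, n ^ i * x * (n ^ i)⁻¹ = d ^ i * x := by
        intro i
        induction i with
        | zero => simp
        | succ i ihi =>
          have e1 : n * d ^ i * n⁻¹ = d ^ i := by
            rw [show n * d ^ i * n⁻¹ = (n * d * n⁻¹) ^ i by rw [conj_pow], hnd]
          calc n ^ (i + 1) * x * (n ^ (i + 1))⁻¹ = n * (n ^ i * x * (n ^ i)⁻¹) * n⁻¹ := by
                rw [pow_succ' n i]; group
            _ = (n * d ^ i * n⁻¹) * (n * x * n⁻¹) := by rw [ihi]; group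
            _ = d ^ i * (d * x) := by rw [e1, hd, inv_mul_cancel_right]
            _ = _ := by rw [← mul_assoc, pow_succ]
      have h1 := hiter k
      rw [← Subgroup.mem_centralizer_iff.1 (hk n hn) x hx, mul_inv_cancel_right] at h1
      obtain ⟨l, rfl⟩ := hodd
      rw [pow_succ, pow_mul, pow_two d, hdd, one_pow, one_mul] at h1
      exact (mul_right_cancel ((one_mul x).trans h1)).symm |> fun e => by
        rw [hd, mul_inv_eq_one] at e; exact e
  refine Subgroup.mem_centralizer_iff.2 fun x hx => ?_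
  obtain ⟨j, hj⟩ := P.2 ⟨x, hx⟩
  exact (mul_inv_eq_iff_eq_mul.1 (key j x hx (by simpa using congrArg Subtype.val hj))).symm

theorem ThreeInv.free (h : ThreeInv P) {y n : G} (hy : y ∈ (P : Subgroup G)) (hy1 : y ≠ 1)
    (hn : n ∈ Subgroup.normalizer ((P : Subgroup G) : Set G)) (hc : n * y = y * n) :
    n ∈ Subgroup.centralizer ((P : Subgroup G) : Set G) := by
  classical
  haveI : Fact (Nat.Prime 2) := ⟨Nat.prime_two⟩
  obtain ⟨k, hodd, -, hk⟩ := h.pow_mem_centralizer
  -- a power of `y` is an involution fixed by `n`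
  obtain ⟨j, hj⟩ := (IsPGroup.iff_orderOf.1 P.2) ⟨y, hy⟩
  rw [← Subgroup.orderOf_coe] at hj
  have hj0 : j ≠ 0 := fun e => hy1 (orderOf_eq_one_iff.1 (by rw [hj, e, pow_zero]))
  set s := y ^ 2 ^ (j - 1) with hs
  have hss : s * s = 1 := by
    rw [hs, ← pow_add, ← mul_two, ← pow_succ, Nat.sub_add_cancel (Nat.pos_of_ne_zero hj0), ← hj,
      pow_orderOf_eq_one]
  have hs1 : s ≠ 1 := fun e => by
    have := Nat.le_of_dvd (by positivity) (orderOf_dvd_of_pow_eq_one e)
    rw [hj] at this
    have := Nat.pow_lt_pow_right (show 1 < 2 by norm_num) (show j - 1 < j by omega)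
    omega
  have hsP : s ∈ (P : Subgroup G) := Subgroup.pow_mem _ hy _
  have hns : n * s * n⁻¹ = s := by
    rw [((show Commute n y from hc).pow_right _).eq, mul_inv_cancel_right]
  -- the square fixes all involutions
  let I := {x : (P : Subgroup G) // x * x = 1 ∧ x ≠ 1}
  have hmem : ∀ x : I, n * ((x : (P : Subgroup G)) : G) * n⁻¹ ∈ (P : Subgroup G) := fun x =>
    (Subgroup.mem_normalizer_iff.1 hn _).1 (x : (P : Subgroup G)).2
  let σ : I → I := fun x => ⟨⟨_, hmem x⟩, Subtype.ext (by
      show n * _ * n⁻¹ * (n * _ * n⁻¹) = 1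
      rw [conj_mul, show ((x : (P : Subgroup G)) : G) * (x : (P : Subgroup G)) = 1 from
        congrArg Subtype.val x.2.1]
      simp), fun e => x.2.2 (Subtype.ext (conj_eq_one_iff.1 (congrArg Subtype.val e)))⟩
  have hσ : Function.Injective σ := fun a b e => Subtype.ext (Subtype.ext
    (conj_injective (congrArg (fun z : I => ((z : (P : Subgroup G)) : G)) e)))
  let s' : I := ⟨⟨s, hsP⟩, Subtype.ext hss, fun e => hs1 (congrArg Subtype.val e)⟩
  have hσs : σ s' = s' := Subtype.ext (Subtype.ext hns)
  haveI : Fintype I := Fintype.ofFinite I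
  have hcard : Fintype.card I = 3 := by rw [← Nat.card_eq_fintype_card]; exact h.count
  have hsq : ∀ x : I, σ (σ x) = x := by
    intro x
    by_contra hne
    have hxs : x ≠ s' := fun e => hne (by rw [e, hσs, hσs])
    have h1 : σ x ≠ x := fun e => hne (by rw [e, e])
    have h2 : σ x ≠ s' := fun e => hxs (hσ (e.trans hσs.symm))
    have h3 : σ (σ x) ≠ s' := fun e => h2 (hσ (e.trans hσs.symm))
    have h4 : σ (σ x) ≠ σ x := fun e => h1 (hσ e)
    have h5 := Finset.card_le_univ ({s', x, σ x, σ (σ x)} : Finset I)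
    rw [hcard, Finset.card_insert_of_notMem (by simp [Ne.symm hxs, Ne.symm h2, Ne.symm h3]),
      Finset.card_insert_of_notMem (by simp [Ne.symm h1, Ne.symm hne]),
      Finset.card_pair (Ne.symm h4)] at h5
    omega
  have hn2 : n * n ∈ Subgroup.centralizer ((P : Subgroup G) : Set G) := by
    refine h.centralizes (Subgroup.mul_mem _ hn hn) fun x hx hxx => ?_
    rcases eq_or_ne x 1 with rfl | hx1
    · simp
    have := congrArg (fun z : I => ((z : (P : Subgroup G)) : G))
      (hsq ⟨⟨x, hx⟩, Subtype.ext hxx, fun e => hx1 (congrArg Subtype.val e)⟩)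
    simpa [σ, mul_assoc] using this
  obtain ⟨l, rfl⟩ := hodd
  have h1 := hk n hn
  rw [pow_succ, pow_mul, pow_two] at h1
  exact (Subgroup.mul_mem_cancel_left _ (Subgroup.pow_mem _ hn2 l)).1 h1

theorem ThreeInv.automiser (h : ThreeInv P) :
    (Subgroup.normalizer ((P : Subgroup G) : Set G) ≤
        Subgroup.centralizer ((P : Subgroup G) : Set G)) ∨
      ∀ [Fintype G], Free P 3 := by
  classical
  haveI : Fact (Nat.Prime 2) := ⟨Nat.prime_two⟩
  set N := Subgroup.normalizer ((P : Subgroup G) : Set G) with hN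
  set C := Subgroup.centralizer ((P : Subgroup G) : Set G) with hC
  refine or_iff_not_imp_left.2 fun hne => ?_
  intro _
  have hfree : ∀ y : G, y ∈ (P : Subgroup G) → y ≠ 1 →
      Subgroup.centralizer ({y} : Set G) ⊓ N = C := fun y hy hy1 => le_antisymm
    (fun n hn => h.free hy hy1 hn.2 (Subgroup.mem_centralizer_singleton_iff.1 hn.1))
    (fun n hn => ⟨Subgroup.mem_centralizer_singleton_iff.2
      (Subgroup.mem_centralizer_iff.1 hn y hy).symm,
      CfsgLib.CharTheory.SmallDegree.cen_le_norm (P : Subgroup G) hn⟩)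
  haveI : Nonempty {x : (P : Subgroup G) // x * x = 1 ∧ x ≠ 1} :=
    Finite.card_pos_iff.1 (by rw [h.count]; norm_num)
  obtain ⟨w, hww, hw1⟩ := (inferInstance : Nonempty {x : (P : Subgroup G) // x * x = 1 ∧ x ≠ 1})
  set m := C.relIndex N with hm
  have hF : Free P m := ⟨Nat.prime_two, h.comm, rfl, hfree⟩
  haveI : Fintype (P : Subgroup G) := Fintype.ofFinite _
  haveI : Fintype N := Fintype.ofFinite _
  have hle : m ≤ 3 := by
    rw [← hF.fibre_card (y := w) fun e => hw1 (Subtype.ext e), ← h.count]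
    refine Nat.card_le_card_of_injective (fun z => ⟨z.1, ?_, ?_⟩) fun a b e =>
      Subtype.ext (congrArg (fun z => z.1) e)
    · obtain ⟨g, hg⟩ := isConj_iff.1 z.2
      exact Subtype.ext (by
        rw [Subgroup.coe_mul, ← hg, conj_mul, show (w : G) * w = 1 from congrArg Subtype.val hww]
        simp)
    · intro e
      have := z.2
      rw [e, OneMemClass.coe_one, isConj_one_left] at this
      exact hw1 (Subtype.ext this)
  obtain ⟨k, hodd, hkeq, -⟩ := h.pow_mem_centralizer
  have hm1 : m ≠ 1 := fun e => hne (Subgroup.relIndex_eq_one.1 e)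
  have hm3 : m = 3 := by
    obtain ⟨l, rfl⟩ := hodd
    have : m = 2 * l + 1 := hkeq
    omega
  exact hm3 ▸ hF

/-- A normal subgroup with a normal complement is a `2`-group when there is no odd core. -/
theorem isPGroup_of_complement (hO : ∀ N : Subgroup G, N.Normal → Odd (Nat.card N) → N = ⊥)
    {H : Subgroup G} [H.Normal] (hH : HasNormalPComplement 2 H) : IsPGroup 2 H := by
  haveI : Fact (Nat.Prime 2) := ⟨Nat.prime_two⟩
  have h1 : pPrimeCore 2 G = ⊥ := by
    refine hO _ inferInstance ?_
    rw [Nat.odd_iff, ← Nat.two_dvd_ne_zero]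
    exact not_dvd_card_pPrimeCore Nat.prime_two
  have h2 : pPrimeCore 2 H = ⊥ := by
    rw [← (Subgroup.map_eq_bot_iff_of_injective _ H.subtype_injective)]
    exact le_bot_iff.1 (h1 ▸ map_pPrimeCore_le 2 H)
  have hq := hasNormalPComplement_iff.1 hH
  intro x
  obtain ⟨k, hk⟩ := hq (QuotientGroup.mk' (pPrimeCore 2 H) x)
  refine ⟨k, ?_⟩
  rw [← map_pow, QuotientGroup.mk'_apply, QuotientGroup.eq_one_iff, h2, Subgroup.mem_bot] at hk
  exact hk

theorem normal_conclusion (hO : ∀ N : Subgroup G, N.Normal → Odd (Nat.card N) → N = ⊥)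
    (h : ThreeInv P) (hn : (P : Subgroup G).Normal) :
    (P : Subgroup G).Normal ∧ Subgroup.centralizer (P : Set G) = (P : Subgroup G) ∧
      ((P : Subgroup G).index = 1 ∨ (P : Subgroup G).index = 3) := by
  haveI : Fact (Nat.Prime 2) := ⟨Nat.prime_two⟩
  set C := Subgroup.centralizer ((P : Subgroup G) : Set G) with hC
  haveI := hn
  have hPC : (P : Subgroup G) ≤ C := fun x hx =>
    Subgroup.mem_centralizer_iff.2 fun y hy => h.comm y hy x hx
  haveI : C.Normal := by rw [hC]; infer_instance
  have hcen : C = (P : Subgroup G) := by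
    refine P.3 (isPGroup_of_complement hO ?_) hPC
    set Q : Sylow 2 C := P.subtype hPC
    refine hasNormalPComplement_of_normalizer_le_centralizer Q fun t _ => ?_
    exact Subgroup.mem_centralizer_iff.2 fun z hz =>
      Subtype.ext (Subgroup.mem_centralizer_iff.1 t.2 _ hz)
  refine ⟨hn, hcen, ?_⟩
  have htop : Subgroup.normalizer ((P : Subgroup G) : Set G) = ⊤ := Subgroup.normalizer_eq_top _
  rcases h.automiser with hle | hF
  · left
    rw [Subgroup.index_eq_one, eq_top_iff, ← htop]
    exact hle.trans hcen.le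
  · right
    haveI := Fintype.ofFinite G
    have := hF.rel
    rwa [htop, Subgroup.relIndex_top_right, ← hC, hcen] at this

/-- Brauer's theorem. -/
theorem brauer_rank_two (h : ThreeInv P) (hbig : 4 < Nat.card P)
    (hex : ∃ y : (P : Subgroup G), y * y ≠ 1)
    (hO : ∀ N : Subgroup G, N.Normal → Odd (Nat.card N) → N = ⊥) :
    (P : Subgroup G).Normal ∧ Subgroup.centralizer (P : Set G) = (P : Subgroup G) ∧
      ((P : Subgroup G).index = 1 ∨ (P : Subgroup G).index = 3) := by
  classical
  haveI : Fact (Nat.Prime 2) := ⟨Nat.prime_two⟩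
  haveI := Fintype.ofFinite G
  refine normal_conclusion hO h ?_
  rcases h.automiser with hle | hF'
  · have hGP : IsPGroup 2 (⊤ : Subgroup G) := by
      haveI : (⊤ : Subgroup G).Normal := inferInstance
      have htopT : Subgroup.normalizer ((P : Subgroup G) : Set G) ≤
          Subgroup.centralizer ((P : Subgroup G) : Set G) := hle
      have hc := hasNormalPComplement_of_normalizer_le_centralizer P htopT
      obtain ⟨S, K, hK, hcpl⟩ := hc
      haveI := hK
      have hKbot : K = ⊥ := hO K hK (by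
        rw [Nat.odd_iff, ← Nat.two_dvd_ne_zero, ← hcpl.index_eq_card]
        exact S.not_dvd_index)
      have hS : (S : Subgroup G) = ⊤ := by
        rw [hKbot] at hcpl
        exact Subgroup.isComplement'_bot_left.1 hcpl
      exact hS ▸ S.2
    rw [P.3 hGP le_top |>.symm]
    infer_instance
  have hF : Free P 3 := hF'
  haveI : Fintype (P : Subgroup G) := Fintype.ofFinite _
  haveI : Fintype (Subgroup.normalizer ((P : Subgroup G) : Set G)) := Fintype.ofFinite _
  haveI : Nonempty {x : (P : Subgroup G) // x * x = 1 ∧ x ≠ 1} :=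
    Finite.card_pos_iff.1 (by rw [h.count]; norm_num)
  obtain ⟨w, hww, hw1⟩ := (inferInstance : Nonempty {x : (P : Subgroup G) // x * x = 1 ∧ x ≠ 1})
  have hw1' : (w : G) ≠ 1 := fun e => hw1 (Subtype.ext e)
  have hfus : ∀ u : (P : Subgroup G), u * u = 1 → u ≠ 1 → IsConj (w : G) u := by
    have hbij := Function.Injective.bijective_of_nat_card_le
      (f := fun z : {u : (P : Subgroup G) // IsConj (w : G) u} =>
        (⟨z.1, by
          obtain ⟨g, hg⟩ := isConj_iff.1 z.2
          exact Subtype.ext (by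
            rw [Subgroup.coe_mul, ← hg, conj_mul,
              show (w : G) * w = 1 from congrArg Subtype.val hww]
            simp), by
          intro e
          have := z.2
          rw [e, OneMemClass.coe_one, isConj_one_left] at this
          exact hw1' this⟩ : {x : (P : Subgroup G) // x * x = 1 ∧ x ≠ 1}))
      (fun a b e => Subtype.ext (congrArg (fun z => z.1) e))
      (by rw [h.count, hF.fibre_card hw1'])
    intro u h1 h2
    obtain ⟨z, hz⟩ := hbij.2 ⟨u, h1, h2⟩
    have : z.1 = u := congrArg (fun z => z.1) hz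
    exact this ▸ z.2
  -- all involutions lie in the proper normal closure of one of them
  have hall : ∀ g : G, orderOf g = 2 → IsConj (w : G) g := by
    intro g hg
    obtain ⟨u, hu⟩ := hF.conj_mem (z := g) ⟨1, by rw [hg, pow_one]⟩
    have h2 : (u : G) * u = 1 := by
      obtain ⟨c, hc⟩ := isConj_iff.1 hu
      rw [← hc, conj_mul, ← pow_two g, ← hg, pow_orderOf_eq_one]
      simp
    have h3 : u ≠ 1 := fun e => by
      rw [e, OneMemClass.coe_one, isConj_one_left] at hu
      rw [hu, orderOf_one] at hg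
      norm_num at hg
    exact (hfus u (Subtype.ext h2) h3).trans hu.symm
  have hword : orderOf (w : G) = 2 :=
    orderOf_eq_prime (by rw [pow_two]; exact congrArg Subtype.val hww) hw1'
  set K := Subgroup.normalClosure ({(w : G)} : Set G) with hK
  have hwK : (w : G) ∈ K := Subgroup.subset_normalClosure rfl
  have hinvK : ∀ g : G, orderOf g = 2 → g ∈ K := fun g hg => by
    obtain ⟨c, hc⟩ := isConj_iff.1 (hall g hg)
    rw [← hc]
    exact Subgroup.Normal.conj_mem inferInstance _ hwK c
  have hKtop : K ≠ ⊤ := fun e => no_generator hF (by omega) hword fun L hL hwL =>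
    top_le_iff.1 (e ▸ Subgroup.normalClosure_le_normal (Set.singleton_subset_iff.2 hwL))
  have hcomm : ∀ x ∈ (P : Subgroup G), x ∈ commutator G := by
    intro x hx
    obtain ⟨n, hn, hnC⟩ : ∃ n ∈ Subgroup.normalizer ((P : Subgroup G) : Set G),
        n ∉ Subgroup.centralizer ((P : Subgroup G) : Set G) := by
      by_contra hno
      push Not at hno
      have := Subgroup.relIndex_eq_one.2 hno
      rw [hF.rel] at this
      omega
    have hnx : ∀ x : (P : Subgroup G), n * (x : G) * n⁻¹ ∈ (P : Subgroup G) :=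
      fun x => (Subgroup.mem_normalizer_iff.1 hn x).1 x.2
    let d : ↥(P : Subgroup G) → ↥(P : Subgroup G) := fun x =>
      ⟨n * (x : G) * n⁻¹ * (x : G)⁻¹,
        (P : Subgroup G).mul_mem (hnx x) (Subgroup.inv_mem _ x.2)⟩
    have hd : Function.Surjective d := Finite.injective_iff_surjective.1 fun a b e => by
      have e' : n * (a : G) * n⁻¹ * (a : G)⁻¹ = n * (b : G) * n⁻¹ * (b : G)⁻¹ :=
        congrArg Subtype.val e
      by_contra hab
      have hz : ((b : G)⁻¹ * a) ≠ 1 := fun hz => hab (Subtype.ext (inv_mul_eq_one.1 hz).symm)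
      refine hnC (h.free (Subgroup.mul_mem _ (Subgroup.inv_mem _ b.2) a.2) hz hn
        (mul_inv_eq_iff_eq_mul.1 ?_))
      have hw : n * (a : G) * n⁻¹ = n * (b : G) * n⁻¹ * (b : G)⁻¹ * a := by
        rw [← e', inv_mul_cancel_right]
      calc n * ((b : G)⁻¹ * a) * n⁻¹ = (n * (b : G) * n⁻¹)⁻¹ * (n * (a : G) * n⁻¹) := by group
        _ = (b : G)⁻¹ * a := by rw [hw]; group
    obtain ⟨a, ha⟩ := hd ⟨x, hx⟩
    rw [← show n * (a : G) * n⁻¹ * (a : G)⁻¹ = x from congrArg Subtype.val ha]
    exact Subgroup.commutator_mem_commutator (Subgroup.mem_top _) (Subgroup.mem_top _)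
  by_cases hPK : (P : Subgroup G) ≤ K
  · -- the Sylow subgroup lies in the normal closure
    set PK : Sylow 2 K := P.subtype hPK with hPKdef
    have hmem : ∀ x : K, x ∈ (PK : Subgroup K) ↔ (x : G) ∈ (P : Subgroup G) := fun x => Iff.rfl
    let emb : ↥(PK : Subgroup K) ≃* ↥(P : Subgroup G) :=
      { toFun := fun x => ⟨((x : K) : G), (hmem x).1 x.2⟩
        invFun := fun z => ⟨⟨z, hPK z.2⟩, (hmem _).2 z.2⟩
        left_inv := fun x => rfl
        right_inv := fun z => rfl
        map_mul' := fun x y => rfl }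
    have hT : ThreeInv PK :=
      ⟨fun x hx y hy => Subtype.ext (h.comm _ ((hmem x).1 hx) _ ((hmem y).1 hy)), by
        rw [← h.count]
        exact Nat.card_congr (Equiv.subtypeEquiv emb.toEquiv fun x => by
          show x * x = 1 ∧ x ≠ 1 ↔ emb x * emb x = 1 ∧ emb x ≠ 1
          rw [← map_mul, map_eq_one_iff emb emb.injective, ne_eq (emb x),
            map_eq_one_iff emb emb.injective])⟩
    rcases hT.automiser with hle | hFK'
    · have hpg := isPGroup_of_complement hO (H := K)
        (hasNormalPComplement_of_normalizer_le_centralizer PK hle)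
      rw [← P.3 hpg hPK]
      infer_instance
    · exfalso
      have hFK : Free PK 3 := hFK'
      haveI : Fintype (PK : Subgroup K) := Fintype.ofFinite _
      haveI : Fintype (Subgroup.normalizer ((PK : Subgroup K) : Set K)) := Fintype.ofFinite _
      set w' : K := ⟨w, hwK⟩ with hw'
      have hord : orderOf w' = 2 := by rw [← hword]; exact (Subgroup.orderOf_coe w').symm
      refine no_generator hFK (by
        have : Nat.card PK = Nat.card P := Nat.card_congr emb.toEquiv
        omega) hord fun L hL hwL => ?_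
      have hbij := Function.Injective.bijective_of_nat_card_le
        (f := fun z : {u : (PK : Subgroup K) // IsConj w' (u : K)} =>
          (⟨z.1, by
            obtain ⟨g, hg⟩ := isConj_iff.1 z.2
            exact Subtype.ext (by
              rw [Subgroup.coe_mul, ← hg, conj_mul, show w' * w' = 1 by
                rw [← pow_two, ← hord, pow_orderOf_eq_one]]
              simp), by
            intro e
            have := z.2
            rw [e, OneMemClass.coe_one, isConj_one_left] at this
            exact hw1' (congrArg Subtype.val this)⟩ :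
            {x : (PK : Subgroup K) // x * x = 1 ∧ x ≠ 1}))
        (fun a b e => Subtype.ext (congrArg (fun z => z.1) e))
        (by
          rw [hT.count, hFK.fibre_card (y := ⟨w', (hmem w').2 w.2⟩)
            fun e => hw1' (congrArg Subtype.val e)])
      have hKconj : ∀ g : K, orderOf g = 2 → g ∈ L := by
        intro g hg
        obtain ⟨u, hu⟩ := hFK.conj_mem (z := g) ⟨1, by rw [hg, pow_one]⟩
        have hgg : g ^ 2 = 1 := orderOf_dvd_iff_pow_eq_one.1 (by rw [hg])
        have h2 : u * u = 1 ∧ u ≠ 1 := by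
          obtain ⟨c, hc⟩ := isConj_iff.1 hu
          refine ⟨Subtype.ext ?_, fun e => ?_⟩
          · rw [Subgroup.coe_mul, ← hc, conj_mul, ← pow_two g, hgg]
            simp
          · rw [e, OneMemClass.coe_one, isConj_one_left] at hu
            rw [hu, orderOf_one] at hg
            norm_num at hg
        obtain ⟨z, hz⟩ := hbij.2 ⟨u, h2⟩
        have hzu : z.1 = u := congrArg (fun z => z.1) hz
        obtain ⟨c, hc⟩ := isConj_iff.1 ((hzu ▸ z.2 : IsConj w' (u : K)).trans hu.symm)
        rw [← hc]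
        exact hL.conj_mem _ hwL c
      have hKL : K ≤ L.map K.subtype := by
        refine (Subgroup.closure_le _).2 fun g hg => ?_
        obtain ⟨a, ha, hag⟩ := Group.mem_conjugatesOfSet_iff.1 hg
        rw [Set.mem_singleton_iff] at ha
        subst ha
        obtain ⟨c, rfl⟩ := isConj_iff.1 hag
        have ho : orderOf (c * (w : G) * c⁻¹) = 2 := by rw [conj_orderOf, hword]
        refine ⟨⟨_, hinvK _ ho⟩, hKconj _ ?_, rfl⟩
        exact (Subgroup.orderOf_coe (⟨_, hinvK _ ho⟩ : K)).symm.trans ho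
      rw [eq_top_iff]
      intro x _
      obtain ⟨y, hy, hyx⟩ := hKL x.2
      rwa [← Subtype.ext hyx]
  -- the Sylow subgroup of the normal closure is proper
  set Q := (P : Subgroup G) ⊓ K with hQ
  have hwQ : (w : G) ∈ Q := ⟨w.2, hwK⟩
  set Cq := Subgroup.centralizer (Q : Set G) with hCq
  have hPCq : (P : Subgroup G) ≤ Cq := fun x hx =>
    Subgroup.mem_centralizer_iff.2 fun y hy => h.comm y hy.1 x hx
  have hCqcompl : HasNormalPComplement 2 Cq := by
    refine hasNormalPComplement_of_normalizer_le_centralizer (P.subtype hPCq) fun t ht => ?_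
    have hN : (t : G) ∈ Subgroup.normalizer ((P : Subgroup G) : Set G) := by
      refine Subgroup.mem_normalizer_iff.2 fun z => ⟨fun hz => ?_, fun hz => ?_⟩
      · exact (Subgroup.mem_normalizer_iff.1 ht ⟨z, hPCq hz⟩).1 hz
      · have hzC : z ∈ Cq := by
          have := Cq.mul_mem (Cq.mul_mem (Cq.inv_mem t.2) (hPCq hz)) t.2
          simpa [mul_assoc] using this
        exact (Subgroup.mem_normalizer_iff.1 ht ⟨z, hzC⟩).2 hz
    have h1 := h.free w.2 hw1' hN (Subgroup.mem_centralizer_iff.1 t.2 w hwQ).symm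
    exact Subgroup.mem_centralizer_iff.2 fun z hz =>
      Subtype.ext (Subgroup.mem_centralizer_iff.1 h1 _ hz)
  obtain ⟨QK, hQK⟩ : ∃ QK : Sylow 2 K, (QK : Subgroup K) = (P : Subgroup G).subgroupOf K := by
    have hp : IsPGroup 2 ((P : Subgroup G).subgroupOf K) := P.2.comap_subtype
    have hrel : (P : Subgroup G).relIndex K =
        (P : Subgroup G).relIndex ((P : Subgroup G) ⊔ K) := by
      have e1 := Subgroup.relIndex_sup_right (P : Subgroup G) K
      have e2 : Nat.card ((P : Subgroup G).subgroupOf K) * (P : Subgroup G).relIndex K = Nat.card K :=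
        Subgroup.card_mul_index _
      have e3 : Nat.card (K.subgroupOf (P : Subgroup G)) * K.relIndex (P : Subgroup G) = Nat.card P :=
        Subgroup.card_mul_index _
      have e4 : Nat.card K * K.relIndex ((P : Subgroup G) ⊔ K) =
          Nat.card ((P : Subgroup G) ⊔ K : Subgroup G) := by
        rw [← Nat.card_congr (Subgroup.subgroupOfEquivOfLe
          (le_sup_right : K ≤ (P : Subgroup G) ⊔ K)).toEquiv]
        exact Subgroup.card_mul_index _
      have e5 : Nat.card P * (P : Subgroup G).relIndex ((P : Subgroup G) ⊔ K) =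
          Nat.card ((P : Subgroup G) ⊔ K : Subgroup G) := by
        rw [← Nat.card_congr (Subgroup.subgroupOfEquivOfLe
          (le_sup_left : (P : Subgroup G) ≤ (P : Subgroup G) ⊔ K)).toEquiv]
        exact Subgroup.card_mul_index _
      have e6 : Nat.card ((P : Subgroup G).subgroupOf K) =
          Nat.card (K.subgroupOf (P : Subgroup G)) :=
        Nat.card_congr
          { toFun := fun z => ⟨⟨((z : K) : G), z.2⟩, (z : K).2⟩
            invFun := fun z => ⟨⟨((z : (P : Subgroup G)) : G), z.2⟩, (z : (P : Subgroup G)).2⟩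
            left_inv := fun z => rfl
            right_inv := fun z => rfl }
      refine Nat.eq_of_mul_eq_mul_left (Nat.card_pos (α := P)) ?_
      rw [e5, ← e4, e1, ← e2, e6, ← e3]
      ring
    have hidx : ¬ 2 ∣ ((P : Subgroup G).subgroupOf K).index := fun hd =>
      P.not_dvd_index ((hd.trans (dvd_of_eq hrel)).trans
        ((dvd_mul_right _ _).trans (Subgroup.relIndex_mul_index le_sup_left).dvd))
    exact ⟨hp.toSylow hidx, rfl⟩
  have hQKmap : (QK : Subgroup K).map K.subtype = Q := by
    rw [hQK, Subgroup.subgroupOf_map_subtype, hQ]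
  have hFrat : Subgroup.normalizer (Q : Set G) ⊔ K = ⊤ := by
    rw [← hQKmap]
    exact Sylow.normalizer_sup_eq_top QK
  have hNQ : Subgroup.normalizer ((P : Subgroup G) : Set G) ≤ Subgroup.normalizer (Q : Set G) := by
    intro n hn
    refine Subgroup.mem_normalizer_iff.2 fun z => ?_
    have e1 : z ∈ (P : Subgroup G) ↔ n * z * n⁻¹ ∈ (P : Subgroup G) :=
      Subgroup.mem_normalizer_iff.1 hn z
    have e2 : z ∈ K ↔ n * z * n⁻¹ ∈ K := Subgroup.mem_normalizer_iff.1
      ((Subgroup.normalizer_eq_top K).symm ▸ Subgroup.mem_top n) z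
    exact and_congr e1 e2
  set D := (pPrimeCore 2 Cq).map Cq.subtype with hDdef
  have hCqN : ∀ g ∈ Subgroup.normalizer (Q : Set G), Cq.map (MulAut.conj g).toMonoidHom = Cq := by
    intro g hg
    have hle : Cq.map (MulAut.conj g).toMonoidHom ≤ Cq := by
      rintro _ ⟨c, hc, rfl⟩
      refine Subgroup.mem_centralizer_iff.2 fun q hq => ?_
      have hq' : g⁻¹ * q * g ∈ Q := (Subgroup.mem_normalizer_iff''.1 hg q).1 hq
      have h1 := Subgroup.mem_centralizer_iff.1 hc _ hq'
      show q * (g * c * g⁻¹) = g * c * g⁻¹ * q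
      calc q * (g * c * g⁻¹) = g * ((g⁻¹ * q * g) * c) * g⁻¹ := by group
        _ = g * (c * (g⁻¹ * q * g)) * g⁻¹ := by rw [h1]
        _ = _ := by group
    exact Subgroup.eq_of_le_of_card_ge hle (Subgroup.card_map_of_injective
      (f := (MulAut.conj g).toMonoidHom) (MulAut.conj g).injective).ge
  have hDodd : Odd (Nat.card D) := by
    rw [hDdef, Subgroup.card_map_of_injective Cq.subtype_injective, Nat.odd_iff,
      ← Nat.two_dvd_ne_zero]
    exact not_dvd_card_pPrimeCore Nat.prime_two
  have hDN : ∀ g ∈ Subgroup.normalizer (Q : Set G), ∀ d ∈ D, g * d * g⁻¹ ∈ D := by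
    intro g hg d hd
    have hmemC : ∀ c : Cq, g * c * g⁻¹ ∈ Cq := fun c => by
      have : g * c * g⁻¹ ∈ Cq.map (MulAut.conj g).toMonoidHom := ⟨c, c.2, rfl⟩
      rwa [hCqN g hg] at this
    let φ : Cq →* Cq := MonoidHom.mk' (fun c => ⟨g * c * g⁻¹, hmemC c⟩)
      fun a b => Subtype.ext (by simp [mul_assoc])
    have hφ : Function.Bijective φ := Finite.injective_iff_bijective.1 fun a b e =>
      Subtype.ext (conj_injective (congrArg Subtype.val e))
    obtain ⟨c, hc, rfl⟩ := hd
    have h1 := (pPrimeCore_map_equiv 2 (MulEquiv.ofBijective φ hφ)).le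
      (Subgroup.mem_map_of_mem _ hc)
    exact ⟨_, h1, rfl⟩
  by_cases hNK : ∀ x : K, x ∈ Subgroup.normalizer ((QK : Subgroup K) : Set K) → (x : G) ∈ Cq
  · -- the normal closure is a four group
    have hpg := isPGroup_of_complement hO (H := K)
      (hasNormalPComplement_of_normalizer_le_centralizer QK fun x hx =>
        Subgroup.mem_centralizer_iff.2 fun z hz => Subtype.ext
          (Subgroup.mem_centralizer_iff.1 (hNK x hx) _ (hQKmap ▸ ⟨z, hz, rfl⟩)))
    have hKQ : K = Q := by
      rw [← hQKmap]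
      have htop' : (QK : Subgroup K) = ⊤ :=
        (QK.3 (show IsPGroup 2 (⊤ : Subgroup K) from hpg.to_subgroup ⊤) le_top).symm
      rw [htop', ← MonoidHom.range_eq_map, Subgroup.range_subtype]
    haveI : Q.Normal := hKQ ▸ (inferInstance : K.Normal)
    haveI : Cq.Normal := by rw [hCq]; infer_instance
    rw [← P.3 (isPGroup_of_complement hO hCqcompl) hPCq]
    infer_instance
  -- otherwise an abelian two-quotient contradicts perfectness
  exfalso
  push Not at hNK
  obtain ⟨x, hx, hxC⟩ := hNK
  have hxN : (x : G) ∈ Subgroup.normalizer (Q : Set G) := by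
    rw [← hQKmap]
    refine Subgroup.mem_normalizer_iff.2 fun z => ⟨?_, ?_⟩
    · rintro ⟨q, hq, rfl⟩
      exact ⟨x * q * x⁻¹, (Subgroup.mem_normalizer_iff.1 hx q).1 hq, by simp⟩
    · rintro ⟨q, hq, e⟩
      refine ⟨x⁻¹ * q * x, (Subgroup.mem_normalizer_iff''.1 hx q).1 hq, ?_⟩
      have e' : (q : G) = (x : G) * z * (x : G)⁻¹ := e
      simp [e', mul_assoc]
  -- a Frattini argument inside the centraliser
  have hdec : ∀ g ∈ Subgroup.normalizer (Q : Set G),
      ∃ c ∈ Cq, c⁻¹ * g ∈ Subgroup.normalizer ((P : Subgroup G) : Set G) := by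
    intro g hg
    have hPg : (P : Subgroup G).map (MulAut.conj g).toMonoidHom ≤ Cq :=
      hCqN g hg ▸ Subgroup.map_mono hPCq
    have hgP : ((g • P : Sylow 2 G) : Subgroup G) =
        (P : Subgroup G).map (MulAut.conj g).toMonoidHom := by
      rw [Sylow.coe_subgroup_smul]; rfl
    obtain ⟨c, hc⟩ := MulAction.exists_smul_eq Cq (P.subtype hPCq)
      ((g • P).subtype (by rw [hgP]; exact hPg))
    refine ⟨c, c.2, ?_⟩
    rw [Sylow.smul_subtype hPCq] at hc
    have h1 : ((c : G) • P : Sylow 2 G) = g • P := Sylow.subtype_injective hc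
    refine Sylow.smul_eq_iff_mem_normalizer.1 ?_
    rw [mul_smul, ← h1, inv_smul_smul]
  obtain ⟨c, hc, hn'⟩ := hdec x hxN
  set n' := c⁻¹ * (x : G) with hn'def
  have hn'C : n' ∉ Subgroup.centralizer ((P : Subgroup G) : Set G) := fun hh => hxC (by
    rw [show (x : G) = c * n' by rw [hn'def, mul_inv_cancel_left]]
    refine Cq.mul_mem hc (Subgroup.mem_centralizer_iff.2 fun q hq => ?_)
    exact Subgroup.mem_centralizer_iff.1 hh q hq.1)
  set M := K ⊔ D with hM
  have hMn : M.Normal := by
    rw [← Subgroup.normalizer_eq_top_iff, eq_top_iff, ← hFrat]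
    refine sup_le (fun g hg => ?_) (le_sup_left.trans Subgroup.le_normalizer)
    have hle : M.map (MulAut.conj g).toMonoidHom ≤ M := by
      rw [Subgroup.map_sup]
      refine sup_le ?_ ?_
      · rintro _ ⟨k, hk, rfl⟩
        exact Subgroup.mem_sup_left (Subgroup.Normal.conj_mem inferInstance k hk g)
      · rintro _ ⟨d, hd, rfl⟩
        exact Subgroup.mem_sup_right (hDN g hg d hd)
    have heq := Subgroup.eq_of_le_of_card_ge hle (Subgroup.card_map_of_injective
      (f := (MulAut.conj g).toMonoidHom) (MulAut.conj g).injective).ge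
    refine Subgroup.mem_normalizer_iff.2 fun z => ⟨fun hz => ?_, fun hz => ?_⟩
    · exact heq.le ⟨z, hz, rfl⟩
    · rw [← heq] at hz
      obtain ⟨y, hy, e⟩ := hz
      rwa [← conj_injective (show g * y * g⁻¹ = g * z * g⁻¹ from e)]
  haveI := hMn
  have hCqle : Cq ≤ M ⊔ (P : Subgroup G) := by
    intro c hc
    have h1 := pPrimeCore_isComplement'_sylow (hasNormalPComplement_iff.1 hCqcompl)
      (P.subtype hPCq)
    obtain ⟨⟨a, b⟩, e⟩ := h1.2 ⟨c, hc⟩
    rw [show c = ((a : Cq) : G) * ((b : Cq) : G) from (congrArg Subtype.val e).symm]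
    exact Subgroup.mul_mem _ (Subgroup.mem_sup_left (Subgroup.mem_sup_right
      (Subgroup.mem_map_of_mem _ a.2))) (Subgroup.mem_sup_right b.2)
  have hn'M : n' ∈ M ⊔ (P : Subgroup G) :=
    Subgroup.mul_mem _ (Subgroup.inv_mem _ (hCqle hc))
      (Subgroup.mem_sup_left (Subgroup.mem_sup_left x.2))
  have hNle : Subgroup.normalizer ((P : Subgroup G) : Set G) ≤ M ⊔ (P : Subgroup G) := by
    intro n hn
    haveI : Fact (Nat.Prime 3) := ⟨Nat.prime_three⟩
    set N := Subgroup.normalizer ((P : Subgroup G) : Set G)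
    set C := Subgroup.centralizer ((P : Subgroup G) : Set G)
    haveI : (C.subgroupOf N).Normal := by
      rw [← Subgroup.normalizerMonoidHom_ker]
      exact MonoidHom.normal_ker _
    have hz := mem_zpowers_of_prime_card (p := 3)
      (by rw [← Subgroup.index_eq_card]; exact hF.rel)
      (g := QuotientGroup.mk' (C.subgroupOf N) ⟨n', hn'⟩)
      (g' := QuotientGroup.mk' (C.subgroupOf N) ⟨n, hn⟩) (fun e => hn'C (by
        rw [QuotientGroup.mk'_apply, QuotientGroup.eq_one_iff] at e
        exact e))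
    obtain ⟨i, hi⟩ := Subgroup.mem_zpowers_iff.1 hz
    rw [← map_zpow] at hi
    rw [QuotientGroup.mk'_apply, QuotientGroup.mk'_apply, QuotientGroup.eq] at hi
    have h2 : (n' ^ i)⁻¹ * n ∈ C := hi
    have h3 : (n' ^ i)⁻¹ * n ∈ Cq := Subgroup.mem_centralizer_iff.2 fun q hq =>
      Subgroup.mem_centralizer_iff.1 h2 q hq.1
    rw [show n = n' ^ i * ((n' ^ i)⁻¹ * n) by rw [mul_inv_cancel_left]]
    exact Subgroup.mul_mem _ (Subgroup.zpow_mem _ hn'M i) (hCqle h3)
  have htop : M ⊔ (P : Subgroup G) = ⊤ := by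
    rw [eq_top_iff, ← hFrat]
    refine sup_le (fun g hg => ?_) (le_sup_left.trans le_sup_left)
    obtain ⟨c, hc, hcn⟩ := hdec g hg
    rw [show g = c * (c⁻¹ * g) by rw [mul_inv_cancel_left]]
    exact Subgroup.mul_mem _ (hCqle hc) (hNle hcn)
  have habel : commutator G ≤ M := by
    rw [commutator, Subgroup.commutator_le]
    intro a _ b _
    have hrep : ∀ g : G, ∃ z ∈ (P : Subgroup G), (g : G ⧸ M) = (z : G ⧸ M) := fun g => by
      have hg : g ∈ M ⊔ (P : Subgroup G) := htop ▸ Subgroup.mem_top g
      rw [← SetLike.mem_coe, Subgroup.normal_mul] at hg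
      obtain ⟨y, hy, z, hz, rfl⟩ := hg
      exact ⟨z, hz, by rw [QuotientGroup.mk_mul, (QuotientGroup.eq_one_iff y).2 hy, one_mul]⟩
    obtain ⟨za, hza, ea⟩ := hrep a
    obtain ⟨zb, hzb, eb⟩ := hrep b
    rw [← QuotientGroup.eq_one_iff, commutatorElement_def]
    simp only [QuotientGroup.mk_mul, QuotientGroup.mk_inv]
    rw [ea, eb, ← QuotientGroup.mk_inv, ← QuotientGroup.mk_inv, ← QuotientGroup.mk_mul,
      ← QuotientGroup.mk_mul, ← QuotientGroup.mk_mul, h.comm za hza zb hzb, mul_inv_cancel_right,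
      mul_inv_cancel, QuotientGroup.mk_one]
  have hPM : (P : Subgroup G) ≤ M := fun z hz => habel (hcomm z hz)
  -- the elements of `P` have trivial image modulo the odd part
  refine hPK fun z hz => ?_
  have hzM := hPM hz
  rw [hM, ← SetLike.mem_coe, Subgroup.normal_mul] at hzM
  obtain ⟨y, hy, d, hd, rfl⟩ := hzM
  rw [← QuotientGroup.eq_one_iff, ← orderOf_eq_one_iff]
  obtain ⟨j, hj⟩ := (IsPGroup.iff_orderOf.1 P.2) ⟨y * d, hz⟩
  rw [← Subgroup.orderOf_coe] at hj
  refine Nat.eq_one_of_dvd_coprimes (a := 2 ^ j) (b := Nat.card D)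
    ((Nat.coprime_two_left.2 hDodd).pow_left j)
    (hj ▸ orderOf_map_dvd (QuotientGroup.mk' K) (y * d)) ?_
  rw [QuotientGroup.mk_mul, (QuotientGroup.eq_one_iff y).2 hy, one_mul]
  exact (orderOf_map_dvd (QuotientGroup.mk' K) d).trans (Subgroup.orderOf_dvd_natCard D hd)

end CfsgLib.Blocks.AbelianFree
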