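import Cfsg.Agent.Lib.Blocks.RegInt
import Cfsg.Agent.Lib.Blocks.Apply
import Cfsg.Agent.Lib.Blocks.InducedChar
import Cfsg.Agent.Lib.CharTheory.Coherence

/-!
# Regular parts of characters in a block and degrees of block parts
-/

namespace CfsgLib.Blocks.RegularParts

open Cfsg CfsgLib.CharTheory CfsgLib.Blocks
open scoped ComplexConjugate

set_option linter.unusedVariables false
set_option linter.style.haveILetI false
set_option linter.unusedSectionVars false

universe u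

variable {p : ℕ} {M : Ideal AlgInt} {G : Type u} [Group G] [Fintype G]

theorem classInner_regular (c : ℂ) (φ : G → ℂ) (ψ : IrrCharacter G) :
    classInner (fun g : G => if p ∣ orderOf g then (0 : ℂ) else c * φ g) (ψ : G → ℂ) =
      c * regS p φ (ψ : G → ℂ) / (Nat.card G : ℂ) := by
  rw [classInner, regS, Finset.mul_sum, Finset.mul_sum, Finset.sum_div]
  refine Finset.sum_congr rfl fun g _ => ?_
  simp only [regFn, irr_conjInv]
  split_ifs <;> ring

/-- The scaled regular part of a combination in a block is in the span of the block. -/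
theorem regular_span (hM : IsPModular p M) {B : Set (IrrCharacter G)} (hB : IsPBlock M B)
    {χ : G → ℂ} (hχ : ∃ n : IrrCharacter G → ℤ, ∀ g : G, χ g = ∑ᶠ ψ ∈ B, (n ψ : ℂ) * (ψ : G → ℂ) g) :
    ∃ n : IrrCharacter G → ℤ, ∀ g : G, (p ^ blockDefect p B : ℂ) * pRegularPart p χ g =
      ∑ᶠ ψ ∈ B, (n ψ : ℂ) * (ψ : G → ℂ) g := by
  classical
  obtain ⟨n, hn⟩ := hχ
  have hq : ∀ φ ψ : IrrCharacter G, ∃ q : ℤ, φ ∈ B → ψ ∈ B →
      (p : ℂ) ^ blockDefect p B * regS p (φ : G → ℂ) (ψ : G → ℂ) = (Nat.card G : ℂ) * q := by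
    intro φ ψ
    by_cases h : φ ∈ B ∧ ψ ∈ B
    · obtain ⟨q, hq, -⟩ := exists_int_proj hM hB h.1 h.2
      exact ⟨q, fun _ _ => hq⟩
    · exact ⟨0, fun h1 h2 => absurd ⟨h1, h2⟩ h⟩
  choose q hq using hq
  refine ⟨fun ξ => ∑ φ ∈ bset B, n φ * q φ ξ, fun g => ?_⟩
  rw [finsum_mem_bset]
  have hG : (Nat.card G : ℂ) ≠ 0 := Nat.cast_ne_zero.2 Nat.card_pos.ne'
  refine mul_left_cancel₀ hG ?_
  rw [Finset.mul_sum]
  have e : ∀ ξ ∈ bset B, (Nat.card G : ℂ) *
      (((∑ φ ∈ bset B, n φ * q φ ξ : ℤ) : ℂ) * (ξ : G → ℂ) g) =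
      (p : ℂ) ^ blockDefect p B *
        ∑ φ ∈ bset B, (n φ : ℂ) * (regS p (φ : G → ℂ) (ξ : G → ℂ) * (ξ : G → ℂ) g) := by
    intro ξ hξ
    push_cast
    rw [Finset.sum_mul, Finset.mul_sum, Finset.mul_sum]
    refine Finset.sum_congr rfl fun φ hφ => ?_
    have h := hq φ ξ (mem_bset.1 hφ) (mem_bset.1 hξ)
    linear_combination (-(n φ : ℂ) * (ξ : G → ℂ) g) * h
  rw [Finset.sum_congr rfl e, ← Finset.mul_sum, Finset.sum_comm]
  simp only [← Finset.mul_sum, sum_regS_mul hM hB _ g]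
  by_cases hg : p ∣ orderOf g
  · simp [pRegularPart, IsPRegular, hg]
  · simp only [pRegularPart, IsPRegular, hg, not_false_iff, if_true, if_false, hn g,
      finsum_mem_bset, Finset.mul_sum]
    refine Finset.sum_congr rfl fun φ hφ => ?_
    rw [ind_of_mem (mem_bset.1 hφ)]
    ring

/-- The `p`-part multiples of regular parts of irreducible characters. -/
theorem inner_regular_coeff (hM : IsPModular p M) (χ ψ : IrrCharacter G) :
    ∃ q : ℤ,
      (p : ℂ) ^ (Nat.card G).factorization p * regS p (χ : G → ℂ) (ψ : G → ℂ) / (Nat.card G : ℂ) =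
        (p : ℂ) ^ minDv p (blockOf M (χ : G → ℂ)) * q ∧
      (ψ ∉ blockOf M (χ : G → ℂ) → q = 0) ∧
      (ψ ∈ blockOf M (χ : G → ℂ) →
        ((p : ℤ) ^ (dv p (χ : G → ℂ) - minDv p (blockOf M (χ : G → ℂ))) ∣ q) ∧
        ((p : ℤ) ^ (dv p (ψ : G → ℂ) - minDv p (blockOf M (χ : G → ℂ))) ∣ q) ∧
        (dv p (ψ : G → ℂ) = minDv p (blockOf M (χ : G → ℂ)) → q ≠ 0 ∧
          ¬ (p : ℤ) ^ (dv p (χ : G → ℂ) - minDv p (blockOf M (χ : G → ℂ)) + 1) ∣ q) ∧
        (dv p (χ : G → ℂ) = minDv p (blockOf M (χ : G → ℂ)) → q ≠ 0 ∧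
          ¬ (p : ℤ) ^ (dv p (ψ : G → ℂ) - minDv p (blockOf M (χ : G → ℂ)) + 1) ∣ q) ∧
        (minDv p (blockOf M (χ : G → ℂ)) < dv p (χ : G → ℂ) →
          (p : ℤ) ^ (dv p (ψ : G → ℂ) - minDv p (blockOf M (χ : G → ℂ)) + 1) ∣ q)) := by
  classical
  set B := blockOf M (χ : G → ℂ) with hBdef
  have hB : IsPBlock M B := blockOf_isPBlock χ
  have hχ : χ ∈ B := mem_blockOf_self hM χ
  by_cases hψ : ψ ∈ B
  swap
  · refine ⟨0, ?_, fun _ => rfl, fun h => absurd h hψ⟩
    rw [regS_eq_zero hM hψ]; simp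
  obtain ⟨q, hq, h1, h2, h3, h4⟩ := exists_int_proj hM hB hχ hψ
  obtain ⟨q', hq', h1', h2', h3', h4'⟩ := exists_int_proj hM hB hψ hχ
  have hG : (Nat.card G : ℂ) ≠ 0 := Nat.cast_ne_zero.2 Nat.card_pos.ne'
  have hqq : q' = q := by
    have h := hq'.symm.trans ((congrArg _ (regS_comm (p := p) (ψ : G → ℂ) (χ : G → ℂ))).trans hq)
    exact_mod_cast mul_left_cancel₀ hG h
  subst hqq
  have hv : minDv p B ≤ (Nat.card G).factorization p := minDv_le_card hM hB
  refine ⟨q', ?_, fun h => absurd hψ h, fun _ => ⟨h1, h1', fun he => ?_, fun he => ?_, h4'⟩⟩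
  · rw [div_eq_iff hG, mul_assoc, mul_comm (q' : ℂ), ← hq, ← mul_assoc, ← pow_add, blockDefect_eq,
      show minDv p B + ((Nat.card G).factorization p - minDv p B) = (Nat.card G).factorization p by
        omega]
  · rcases Nat.eq_or_lt_of_le (minDv_le (p := p) hχ) with h | h
    · have := h2 h.symm he
      refine ⟨fun h0 => this (h0 ▸ dvd_zero _), ?_⟩
      rw [h, Nat.sub_self, zero_add, pow_one]; exact this
    · exact h3' he h
  · rcases Nat.eq_or_lt_of_le (minDv_le (p := p) hψ) with h | h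
    · have := h2 he h.symm
      refine ⟨fun h0 => this (h0 ▸ dvd_zero _), ?_⟩
      rw [h, Nat.sub_self, zero_add, pow_one]; exact this
    · exact h3 he h

/-- A generalized character vanishing off the regular elements has degree divisible by the
`p`-part of the group order. -/
theorem dvd_degree_of_vanish [Fact p.Prime] {θ : G → ℂ} (hθ : IsGeneralizedCharacter G θ)
    (hvan : ∀ g, p ∣ orderOf g → θ g = 0) :
    ∃ k : ℤ, θ 1 = ((p : ℂ) ^ (Nat.card G).factorization p) * k := by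
  classical
  obtain ⟨a, b, ha, hb, rfl⟩ := hθ
  obtain ⟨P⟩ := (inferInstance : Nonempty (Sylow p G))
  haveI := Fintype.ofFinite (P : Subgroup G)
  obtain ⟨z, hz⟩ := classInner_genChar_int
    (isGenChar_sub (isGenChar_of_char (isCharacter_restrict ha (P : Subgroup G)))
      (isGenChar_of_char (isCharacter_restrict hb (P : Subgroup G))))
    (isGenChar_of_char (isCharacter_one (G := (P : Subgroup G))))
  refine ⟨z, ?_⟩
  have hcard : ((Nat.card (P : Subgroup G) : ℕ) : ℂ) = (p : ℂ) ^ (Nat.card G).factorization p := by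
    rw [Sylow.card_eq_multiplicity P]; push_cast; rfl
  have hne : ((Nat.card (P : Subgroup G) : ℕ) : ℂ) ≠ 0 := Nat.cast_ne_zero.2 Nat.card_pos.ne'
  rw [← hcard, ← hz, classInner, ← mul_assoc, mul_inv_cancel₀ hne, one_mul,
    Finset.sum_eq_single (1 : (P : Subgroup G)) (fun u _ hu => ?_) (by simp)]
  · simp
  · obtain ⟨k, hk⟩ := IsPGroup.iff_orderOf.1 P.2 u
    have h := hvan (u : G) (by
      rw [Subgroup.orderOf_coe, show orderOf u = p ^ k from hk]
      refine dvd_pow_self p ?_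
      rintro rfl
      exact hu (orderOf_eq_one_iff.1 hk))
    simp only [Pi.sub_apply] at h ⊢
    rw [h, zero_mul]

/-- Degree of a block part of an induced character as a central character value. -/
theorem blockPart_indFun_one (H : Subgroup G) [Fintype H] (ξ : IrrCharacter H)
    (B : Set (IrrCharacter G)) :
    blockPart B (indFun H (ξ : H → ℂ)) 1 =
      indFun H (ξ : H → ℂ) 1 * omega (ξ : H → ℂ) (fun h : H => blockCoeff B h) := by
  classical
  have hG : (Nat.card G : ℂ) ≠ 0 := Nat.cast_ne_zero.2 Nat.card_pos.ne'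
  have hH : (Nat.card H : ℂ) ≠ 0 := Nat.cast_ne_zero.2 Nat.card_pos.ne'
  have hidx : (Nat.card G : ℂ) = (H.index : ℂ) * (Nat.card H : ℂ) := by
    rw [← Nat.cast_mul, Subgroup.index_mul_card]
  have h1 : blockPart B (indFun H (ξ : H → ℂ)) 1 =
      ∑ χ ∈ bset B, classInner (indFun H (ξ : H → ℂ)) (χ : G → ℂ) * (χ : G → ℂ) 1 := by
    rw [blockPart, finsum_mem_bset]
    exact Finset.sum_congr rfl fun χ _ => by rw [classInner_congr_inst]
  rw [h1, indFun_apply_one, omega, Finset.sum_congr rfl fun χ _ => by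
    rw [frobenius_reciprocity H (ξ : H → ℂ) (irr_isClassFun χ), classInner]]
  rw [mul_div_assoc', mul_assoc, mul_comm ((ξ : H → ℂ) 1) (∑ h, _), ← mul_assoc,
    mul_div_cancel_right₀ _ (irr_one_ne_zero ξ), Finset.mul_sum]
  simp only [blockCoeff, finsum_mem_bset, Finset.mul_sum, Finset.sum_mul]
  rw [Finset.sum_comm]
  refine Finset.sum_congr rfl fun h _ => Finset.sum_congr rfl fun χ _ => ?_
  rw [hidx]
  have hi : (H.index : ℂ) ≠ 0 := Nat.cast_ne_zero.2 Subgroup.index_ne_zero_of_finite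
  field_simp

/-- Valuations of degrees of block parts of an induced character. -/
theorem blockPart_degree (hM : IsPModular p M) (H : Subgroup G) [Fintype H]
    {b : Set (IrrCharacter H)} {B₀ : Set (IrrCharacter G)} (hind : IsInducedBlock M H b B₀)
    {ξ : IrrCharacter H} (hξ : ξ ∈ b) :
    (∃ n : ℕ, blockPart B₀ (indFun H (ξ : H → ℂ)) 1 = (n : ℂ) ∧ n ≠ 0 ∧
      n.factorization p = (charDegree (indFun H (ξ : H → ℂ))).factorization p) ∧
    ∀ B : Set (IrrCharacter G), IsPBlock M B → B ≠ B₀ →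
      ∃ n : ℕ, blockPart B (indFun H (ξ : H → ℂ)) 1 = (n : ℂ) ∧
        (n = 0 ∨ (charDegree (indFun H (ξ : H → ℂ))).factorization p < n.factorization p) := by
  classical
  haveI := res_isDomain hM
  have hchar : IsCharacter G (indFun H (ξ : H → ℂ)) := isCharacter_indFun H (isCharacter_of_irr ξ.2)
  obtain ⟨φ, hφ⟩ := block_nonempty hM hind.2.1
  set N := H.index * charDegree (ξ : H → ℂ) with hN
  have hN1 : indFun H (ξ : H → ℂ) 1 = (N : ℂ) := by
    rw [indFun_apply_one, hN, Nat.cast_mul, irr_charDegree_cast ξ]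
  have hN0 : N ≠ 0 := Nat.mul_ne_zero Subgroup.index_ne_zero_of_finite (irr_charDegree_pos ξ).ne'
  have hdeg : charDegree (indFun H (ξ : H → ℂ)) = N := by
    rw [charDegree, hN1]; simp
  rw [hdeg]
  have hnat : ∀ B : Set (IrrCharacter G),
      ∃ n : ℕ, blockPart B (indFun H (ξ : H → ℂ)) 1 = (n : ℂ) := by
    intro B
    choose f hf using fun χ : IrrCharacter G =>
      classInner_char_nat hchar (isCharacter_of_irr χ.2)
    refine ⟨∑ χ ∈ bset B, f χ * charDegree (χ : G → ℂ), ?_⟩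
    rw [blockPart, finsum_mem_bset]
    push_cast
    exact Finset.sum_congr rfl fun χ _ => by rw [classInner_congr_inst, hf, irr_charDegree_cast]
  have hres : ∀ B : Set (IrrCharacter G), IsPBlock M B → ∀ n : ℕ,
      blockPart B (indFun H (ξ : H → ℂ)) 1 = (n : ℂ) →
      (n : ℂ) / (N : ℂ) = omega (ξ : H → ℂ) (fun h : H => blockCoeff B h) ∧
      res hM ((n : ℂ) / (N : ℂ)) = if B = B₀ then 1 else 0 := by
    intro B hB n hn
    have h1 : (n : ℂ) / (N : ℂ) = omega (ξ : H → ℂ) (fun h : H => blockCoeff B h) := by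
      rw [← hn, blockPart_indFun_one, hN1, mul_div_cancel_left₀ _ (Nat.cast_ne_zero.2 hN0)]
    refine ⟨h1, ?_⟩
    rw [h1, res_omega_of_induced H hM ξ φ (hind.2.2 ξ hξ φ hφ) (blockCoeff_isClassFunction B)
      (memRing_blockCoeff hM hB), ← cf_ind, omega_cf]
    by_cases h : B = B₀
    · subst h; rw [ind_of_mem hφ, if_pos rfl, res_one]
    · rw [if_neg h, ind_of_notMem fun hm => h ((eq_blockOf hM hB hm).trans
        (eq_blockOf hM hind.2.1 hφ).symm), res_zero]
  have hmem : ∀ B : Set (IrrCharacter G), IsPBlock M B → ∀ n : ℕ,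
      blockPart B (indFun H (ξ : H → ℂ)) 1 = (n : ℂ) → MemLocalRing M ((n : ℂ) / (N : ℂ)) := by
    intro B hB n hn
    rw [(hres B hB n hn).1]
    exact memRing_omega (G := H) hM (fun a c => blockCoeff_isClassFunction B (a : G) (c : G))
      (fun h => memRing_blockCoeff hM hB _) ξ
  have hlt : ∀ B : Set (IrrCharacter G), IsPBlock M B → ∀ n : ℕ, n ≠ 0 →
      blockPart B (indFun H (ξ : H → ℂ)) 1 = (n : ℂ) → N.factorization p ≤ n.factorization p := by
    intro B hB n hn0 hn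
    by_contra hlt
    push Not at hlt
    have h1 := (natDiv_mem_loc hM (p := p) hN0 hn0 hlt.le)
    have h2 : res hM ((N : ℂ) / (n : ℂ) * ((n : ℂ) / (N : ℂ))) = 1 := by
      rw [div_mul_div_cancel₀ (Nat.cast_ne_zero.2 hn0), div_self (Nat.cast_ne_zero.2 hN0), res_one]
    rw [res_mul hM h1.1 (hmem B hB n hn), (res_eq_zero_iff hM h1.1).2 (h1.2.1 hlt), zero_mul] at h2
    exact zero_ne_one h2
  refine ⟨?_, fun B hB hne => ?_⟩
  · obtain ⟨n, hn⟩ := hnat B₀
    have h := (hres B₀ hind.2.1 n hn).2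
    rw [if_pos rfl] at h
    have hn0 : n ≠ 0 := by
      rintro rfl
      rw [Nat.cast_zero, zero_div, res_zero] at h
      exact zero_ne_one h
    refine ⟨n, hn, hn0, ?_⟩
    rcases Nat.eq_or_lt_of_le (hlt B₀ hind.2.1 n hn0 hn) with he | hl
    · exact he.symm
    · have h1 := natDiv_mem_loc hM (p := p) hn0 hN0 hl.le
      rw [(res_eq_zero_iff hM h1.1).2 (h1.2.1 hl)] at h
      exact absurd h zero_ne_one
  · obtain ⟨n, hn⟩ := hnat B
    refine ⟨n, hn, or_iff_not_imp_left.2 fun hn0 => ?_⟩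
    have h := (hres B hB n hn).2
    rw [if_neg hne] at h
    rcases Nat.eq_or_lt_of_le (hlt B hB n hn0 hn) with he | hl
    · have h1 := natDiv_mem_loc hM (p := p) hn0 hN0 he.le
      exact absurd ((res_eq_zero_iff hM h1.1).1 h) (h1.2.2 he)
    · exact hl

end CfsgLib.Blocks.RegularParts
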