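import Cfsg.Agent.Lib.Blocks.GroupAlgebra
import Cfsg.Agent.Lib.Blocks.Heights
import Mathlib.FieldTheory.IsAlgClosed.Basic
import Mathlib.LinearAlgebra.Matrix.Rank

/-!
# The modular block algebra: residue field, dimension and cocenter
-/

namespace CfsgLib.Blocks

open Cfsg CfsgLib.CharTheory Polynomial
open scoped ComplexConjugate

set_option linter.unusedVariables false
set_option linter.unusedSimpArgs false
set_option linter.style.haveILetI false
set_option linter.unusedSectionVars false

universe u

variable {p : ℕ} {M : Ideal AlgInt} {G : Type u} [Group G] [Fintype G]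

/-- The residue field is algebraically closed. -/
theorem res_isAlgClosed (hM : IsPModular p M) :
    haveI := hM.2.1
    letI := Ideal.Quotient.field M
    IsAlgClosed (AlgInt ⧸ M) := by
  haveI := hM.2.1
  letI := Ideal.Quotient.field M
  refine IsAlgClosed.of_exists_root _ fun f hf hirr => ?_
  obtain ⟨F, hFmap, hdeg, hF⟩ := lifts_and_degree_eq_and_monic (f := Ideal.Quotient.mk M)
    ((lifts_iff_coeff_lifts f).2 fun n => Ideal.Quotient.mk_surjective _) hf
  have hd : (F.map (algebraMap AlgInt ℂ)).degree ≠ 0 := by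
    rw [hF.degree_map, hdeg]; exact (degree_pos_of_irreducible hirr).ne'
  obtain ⟨z, hz⟩ := IsAlgClosed.exists_root _ hd
  have hzi : IsIntegral AlgInt z := ⟨F, hF, by rwa [IsRoot, eval_map] at hz⟩
  haveI : Algebra.IsIntegral ℤ AlgInt := integralClosure.AlgebraIsIntegral
  have hzZ : IsIntegral ℤ z := isIntegral_trans z hzi
  refine ⟨Ideal.Quotient.mk M ⟨z, hzZ⟩, ?_⟩
  rw [← hFmap, eval_map, eval₂_hom]
  have : F.eval (⟨z, hzZ⟩ : AlgInt) = 0 := by
    apply Subtype.ext
    rw [IsRoot, eval_map] at hz
    show algebraMap AlgInt ℂ (F.eval _) = 0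
    rw [← eval₂_hom]
    exact hz
  rw [this, map_zero]

theorem finrank_idem {K : Type*} [Field K] {ι : Type*} [Fintype ι] [DecidableEq ι]
    (P : Matrix ι ι K) (hP : P * P = P) :
    Module.finrank K (LinearMap.range (Matrix.toLin' P)) +
      Module.finrank K (LinearMap.range (Matrix.toLin' (1 - P))) = Fintype.card ι := by
  have h : LinearMap.range (Matrix.toLin' (1 - P)) = LinearMap.ker (Matrix.toLin' P) := by
    apply le_antisymm
    · rintro _ ⟨v, rfl⟩
      rw [LinearMap.mem_ker, Matrix.toLin'_apply, Matrix.toLin'_apply, Matrix.mulVec_mulVec,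
        mul_sub, mul_one, hP, sub_self, Matrix.zero_mulVec]
    · intro v hv
      refine ⟨v, ?_⟩
      rw [LinearMap.mem_ker] at hv
      rw [map_sub, LinearMap.sub_apply, hv, sub_zero, Matrix.toLin'_one, LinearMap.id_apply]
  rw [h, LinearMap.finrank_range_add_finrank_ker, Module.finrank_fintype_fun_eq_card]

/-- Reduction does not increase the rank of an idempotent. -/
theorem res_rank_le (hM : IsPModular p M) {ι : Type*} [Fintype ι] [DecidableEq ι]
    (P : Matrix ι ι ℂ) (hmem : ∀ i j, MemLocalRing M (P i j)) (hP : P * P = P) :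
    haveI := hM.2.1
    letI := Ideal.Quotient.field M
    Module.finrank (AlgInt ⧸ M) (LinearMap.range (Matrix.toLin' (P.map (res hM)))) ≤
      Module.finrank ℂ (LinearMap.range (Matrix.toLin' P)) := by
  haveI := hM.2.1
  letI := Ideal.Quotient.field M
  classical
  set P₀ : Matrix ι ι (loc hM) := Matrix.of fun i j => ⟨P i j, hmem i j⟩ with hP₀
  have hP0 : P₀.map (loc hM).subtype = P := by ext i j; rfl
  have hPr : P₀.map (resHom hM) = P.map (res hM) := by ext i j; rfl
  set Q := P.map (res hM) with hQ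
  have hQ2 : Q * Q = Q := by
    rw [← hPr, ← Matrix.map_mul]
    congr 1
    refine Matrix.map_injective (f := (loc hM).subtype) Subtype.val_injective ?_
    simp only [Matrix.map_mul, hP0, hP]
  set f := Matrix.toLin' Q with hf
  set W := LinearMap.range f
  set s := Module.finrank (AlgInt ⧸ M) W
  let e : W ≃ₗ[AlgInt ⧸ M] (Fin s → AlgInt ⧸ M) := (Module.finBasis _ W).equivFun
  let a : (Fin s → AlgInt ⧸ M) →ₗ[AlgInt ⧸ M] (ι → AlgInt ⧸ M) := W.subtype.comp e.symm.toLinearMap
  let b : (ι → AlgInt ⧸ M) →ₗ[AlgInt ⧸ M] (Fin s → AlgInt ⧸ M) := e.toLinearMap.comp f.rangeRestrict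
  have hff : ∀ v, f (f v) = f v := fun v => by
    rw [hf, Matrix.toLin'_apply, Matrix.toLin'_apply, Matrix.mulVec_mulVec, hQ2]
  have hbfa : b.comp (f.comp a) = LinearMap.id := by
    apply LinearMap.ext; intro v
    obtain ⟨w, hw⟩ := (e.symm v).2
    have h1 : f ((e.symm v : W) : ι → AlgInt ⧸ M) = ((e.symm v : W) : ι → AlgInt ⧸ M) := by
      rw [← hw, hff]
    show e (f.rangeRestrict (f ((e.symm v : W) : ι → AlgInt ⧸ M))) = v
    have h2 : f.rangeRestrict (f ((e.symm v : W) : ι → AlgInt ⧸ M)) = e.symm v :=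
      Subtype.ext (show f (f _) = _ by rw [h1, h1])
    rw [h2, e.apply_symm_apply]
  have hprod : LinearMap.toMatrix' b * (Q * LinearMap.toMatrix' a) = 1 := by
    have := congrArg LinearMap.toMatrix' hbfa
    rwa [LinearMap.toMatrix'_comp, LinearMap.toMatrix'_comp, hf, LinearMap.toMatrix'_toLin',
      LinearMap.toMatrix'_id] at this
  have hsurj : Function.Surjective (resHom hM) := by
    intro x
    obtain ⟨z, rfl⟩ := Ideal.Quotient.mk_surjective x
    exact ⟨⟨_, memRing_coe hM z⟩, res_coe hM z⟩
  choose g hg using hsurj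
  set Y : Matrix (Fin s) ι (loc hM) := (LinearMap.toMatrix' b).map g
  set X : Matrix ι (Fin s) (loc hM) := (LinearMap.toMatrix' a).map g
  have hY : Y.map (resHom hM) = LinearMap.toMatrix' b := by ext i j; exact hg _
  have hX : X.map (resHom hM) = LinearMap.toMatrix' a := by ext i j; exact hg _
  set Z := Y * (P₀ * X) with hZ
  have hZr : Z.map (resHom hM) = 1 := by
    rw [hZ, Matrix.map_mul, Matrix.map_mul, hY, hX, hPr, hprod]
  have hdet : resHom hM Z.det = 1 := by
    rw [RingHom.map_det, RingHom.mapMatrix_apply, hZr, Matrix.det_one]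
  have hunit : IsUnit (Z.map (loc hM).subtype) := by
    rw [Matrix.isUnit_iff_isUnit_det, ← RingHom.mapMatrix_apply, ← RingHom.map_det,
      isUnit_iff_ne_zero]
    intro h0
    rw [show Z.det = 0 from Subtype.val_injective h0, map_zero] at hdet
    exact zero_ne_one hdet
  have h1 := Matrix.rank_of_isUnit _ hunit
  rw [Fintype.card_fin] at h1
  rw [← h1, hZ, Matrix.map_mul, Matrix.map_mul, hP0]
  refine (Matrix.rank_mul_le_right _ _).trans ((Matrix.rank_mul_le_left _ _).trans (le_of_eq ?_))
  rw [Matrix.rank, Matrix.toLin'_apply']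

/-- Reduction preserves the rank of an idempotent. -/
theorem res_rank (hM : IsPModular p M) {ι : Type*} [Fintype ι] [DecidableEq ι]
    (P : Matrix ι ι ℂ) (hmem : ∀ i j, MemLocalRing M (P i j)) (hP : P * P = P) (r : ℕ)
    (htr : P.trace = (r : ℂ)) :
    haveI := hM.2.1
    letI := Ideal.Quotient.field M
    (P.map (res hM)) * (P.map (res hM)) = P.map (res hM) ∧
      Module.finrank (AlgInt ⧸ M) (LinearMap.range (Matrix.toLin' (P.map (res hM)))) = r := by
  haveI := hM.2.1
  letI := Ideal.Quotient.field M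
  classical
  have hQ2 : (P.map (res hM)) * (P.map (res hM)) = P.map (res hM) := by
    ext i j
    have h := congrArg (res hM) (congrFun (congrFun hP i) j)
    rw [Matrix.mul_apply, res_sum hM (fun l _ => (loc hM).mul_mem (hmem i l) (hmem l j))] at h
    rw [Matrix.map_apply, ← h, Matrix.mul_apply]
    exact Finset.sum_congr rfl fun l _ => by
      rw [res_mul hM (hmem i l) (hmem l j)]; rfl
  refine ⟨hQ2, ?_⟩
  have hmem' : ∀ i j, MemLocalRing M ((1 - P) i j) := fun i j => by
    rw [Matrix.sub_apply, Matrix.one_apply]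
    refine (loc hM).sub_mem ?_ (hmem i j)
    split_ifs
    · exact (loc hM).one_mem
    · exact (loc hM).zero_mem
  have hP' : (1 - P) * (1 - P) = 1 - P := by
    rw [mul_sub, sub_mul, sub_mul, one_mul, mul_one, hP, one_mul, sub_self, sub_zero]
  have hmap : (1 - P).map (res hM) = 1 - P.map (res hM) := by
    ext i j
    rw [Matrix.map_apply, Matrix.sub_apply, Matrix.sub_apply, Matrix.map_apply,
      res_sub hM ?_ (hmem i j)]
    · congr 1
      by_cases h : i = j
      · subst h; rw [Matrix.one_apply_eq, Matrix.one_apply_eq, res_one]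
      · rw [Matrix.one_apply_ne h, Matrix.one_apply_ne h, res_zero]
    · rw [Matrix.one_apply]; split_ifs
      · exact (loc hM).one_mem
      · exact (loc hM).zero_mem
  have h1 := res_rank_le hM P hmem hP
  have h2 := res_rank_le hM (1 - P) hmem' hP'
  rw [hmap] at h2
  have h3 := finrank_idem P hP
  have h4 := finrank_idem (P.map (res hM)) hQ2
  have hproj : LinearMap.IsProj (LinearMap.range (Matrix.toLin' P)) (Matrix.toLin' P) := by
    refine ⟨fun v => ⟨v, rfl⟩, ?_⟩
    rintro _ ⟨w, rfl⟩
    rw [Matrix.toLin'_apply, Matrix.toLin'_apply, Matrix.mulVec_mulVec, hP]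
  have ht := hproj.trace
  rw [Matrix.trace_toLin'_eq, htr] at ht
  have : Module.finrank ℂ (LinearMap.range (Matrix.toLin' P)) = r := by exact_mod_cast ht.symm
  omega

/-- The modular block algebra: if a block has at most two members then `|G|_p ^ 2` divides twice
the sum of the squares of its degrees. -/
theorem ordProj_sq_dvd_of_card_le_two [Fact p.Prime] (hM : IsPModular p M)
    {B : Set (IrrCharacter G)} (hB : IsPBlock M B) (hk : (bset B).card ≤ 2) :
    (p ^ (Nat.card G).factorization p) ^ 2 ∣
      2 * ∑ χ ∈ bset B, charDegree (χ : G → ℂ) ^ 2 := by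
  classical
  haveI := hM.2.1
  letI := Ideal.Quotient.field M
  haveI : IsAlgClosed (AlgInt ⧸ M) := res_isAlgClosed hM
  haveI := res_charP hM
  have hG : (Nat.card G : ℂ) ≠ 0 := Nat.cast_ne_zero.2 Nat.card_pos.ne'
  set b : G → ℂ := blockCoeff B with hb
  have hbcf : b = cf (ind B) := (cf_ind B).symm
  have hbcl : IsClassFunction G b := hbcf ▸ cf_isClassFunction _
  have hbm : ∀ g, MemLocalRing M (b g) := memRing_blockCoeff hM hB
  have hbω : ∀ χ : IrrCharacter G, omega (χ : G → ℂ) b = ind B χ := fun χ => by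
    rw [hbcf, omega_cf]
  have hind : ind B * ind B = ind B := by
    funext χ
    by_cases h : χ ∈ B
    · simp [ind_of_mem h]
    · simp [ind_of_notMem h]
  -- left multiplication
  have hE : Lmat b * Lmat b = Lmat b := by rw [Lmat_mul, hbcf, ← cf_mul, hind]
  have hEtr : (Lmat b).trace = ((∑ χ ∈ bset B, charDegree (χ : G → ℂ) ^ 2 : ℕ) : ℂ) := by
    simp only [Matrix.trace, Matrix.diag, Lmat, Matrix.of_apply, mul_inv_cancel]
    rw [Finset.sum_const, Finset.card_univ, ← Nat.card_eq_fintype_card, nsmul_eq_mul, hb, blockCoeff,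
      mul_inv_cancel_left₀ hG, finsum_mem_bset]
    push_cast
    exact Finset.sum_congr rfl fun χ _ => by rw [irr_one_conj, sq, irr_charDegree_cast]
  obtain ⟨hE2, hEr⟩ := res_rank hM (Lmat b) (fun i j => hbm _) hE _ hEtr
  -- the class operator
  set rep : ConjClasses G → G := crep with hrep
  set T₀ : Matrix (ConjClasses G) (ConjClasses G) ℂ := Matrix.of fun D C =>
    ∑ x ∈ Finset.univ.filter (fun x => ConjClasses.mk x = D), b (x * (rep C)⁻¹) with hT₀
  set X : Matrix (IrrCharacter G) (ConjClasses G) ℂ := Matrix.of fun χ C => (χ : G → ℂ) (rep C)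
    with hX
  set Y : Matrix (ConjClasses G) (IrrCharacter G) ℂ := Matrix.of fun C χ =>
    conj ((χ : G → ℂ) (rep C)) / (Nat.card (Subgroup.centralizer ({rep C} : Set G)) : ℂ) with hY
  have hYX : Y * X = 1 := by
    ext C D
    simp only [Matrix.mul_apply, hX, hY, Matrix.of_apply, div_mul_eq_mul_div, ← Finset.sum_div]
    have hs : ∑ χ : IrrCharacter G, conj ((χ : G → ℂ) (rep C)) * (χ : G → ℂ) (rep D) =
        if IsConj (rep D) (rep C) then
          (Nat.card (Subgroup.centralizer ({rep D} : Set G)) : ℂ) else 0 :=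
      (Finset.sum_congr rfl fun χ _ => mul_comm _ _).trans (sum_irr_mul_conj (rep D) (rep C))
    rw [hs]
    by_cases h : C = D
    · subst h
      rw [if_pos (IsConj.refl _), Matrix.one_apply_eq, div_self]
      exact Nat.cast_ne_zero.2 Nat.card_pos.ne'
    · rw [if_neg, Matrix.one_apply_ne h, zero_div]
      intro hc
      exact h (by rw [← mk_crep C, ← mk_crep D]; exact ConjClasses.mk_eq_mk_iff_isConj.2 hc.symm)
  have hXT : X * T₀ = Matrix.diagonal (ind B) * X := by
    ext χ C
    rw [Matrix.diagonal_mul, ← hbω χ, hX, Matrix.of_apply]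
    simp only [Matrix.mul_apply, hT₀, Matrix.of_apply, ← sum_classFun_mul_shift hbcl χ,
      Finset.mul_sum]
    rw [Finset.sum_congr rfl fun D _ => Finset.sum_congr rfl fun x hx => by
      rw [classFun_eq_of_isConj (irr_isClassFun χ) (a := rep D) (b := x)
        ((Finset.mem_filter.1 hx).2 ▸ isConj_crep x)]]
    rw [Finset.sum_fiberwise]
    refine Fintype.sum_equiv (Equiv.mulRight (rep C)⁻¹) _ _ fun x => ?_
    simp [mul_comm]
  have hT0 : T₀ = Y * (Matrix.diagonal (ind B) * X) := by
    rw [← hXT, ← Matrix.mul_assoc, hYX, Matrix.one_mul]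
  have hT2 : T₀ * T₀ = T₀ := by
    conv_lhs => arg 1; rw [hT0]
    rw [Matrix.mul_assoc, Matrix.mul_assoc, hXT, ← Matrix.mul_assoc (Matrix.diagonal (ind B)),
      Matrix.diagonal_mul_diagonal,
      show (fun i => ind B i * ind B i) = ind B from hind, ← hT0]
  have hTtr : T₀.trace = ((bset B).card : ℂ) := by
    rw [hT0, Matrix.trace]
    simp only [Matrix.diag, Matrix.mul_apply (M := Y), Matrix.diagonal_mul]
    simp only [hX, hY, Matrix.of_apply]
    rw [Finset.sum_comm, Finset.sum_congr rfl fun χ _ => Finset.sum_congr rfl fun C _ =>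
      show _ = ind B χ * (conj ((χ : G → ℂ) (rep C)) /
        (Nat.card (Subgroup.centralizer ({rep C} : Set G)) : ℂ) * (χ : G → ℂ) (rep C)) by ring]
    simp only [← Finset.mul_sum]
    rw [sum_ind_mul, Finset.cast_card]
    refine Finset.sum_congr rfl fun χ _ => ?_
    have h1 := classInner_irr_self χ.2
    rw [← h1, classInner, Finset.mul_sum,
      ← Finset.sum_fiberwise Finset.univ (fun g : G => ConjClasses.mk g)]
    refine Finset.sum_congr rfl fun C _ => ?_
    rw [Finset.sum_congr rfl fun g hg => by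
      rw [← classFun_eq_of_isConj (irr_isClassFun χ) (a := rep C) (b := g)
        ((Finset.mem_filter.1 hg).2 ▸ isConj_crep g)], Finset.sum_const, nsmul_eq_mul]
    have hcard : ((Finset.univ.filter fun g : G => ConjClasses.mk g = C).card : ℂ) *
        (Nat.card (Subgroup.centralizer ({rep C} : Set G)) : ℂ) = (Nat.card G : ℂ) := by
      rw [← Nat.cast_mul, ← card_isConj_mul_card_centralizer (rep C)]
      refine congrArg (fun n : ℕ => ((n * _ : ℕ) : ℂ)) ?_
      rw [Nat.card_eq_fintype_card, Fintype.card_subtype]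
      refine congrArg Finset.card ?_
      ext g
      simp only [Finset.mem_filter, Finset.mem_univ, true_and]
      conv_lhs => rw [← mk_crep C, ConjClasses.mk_eq_mk_iff_isConj, isConj_comm]
    have hc0 : (Nat.card (Subgroup.centralizer ({rep C} : Set G)) : ℂ) ≠ 0 :=
      Nat.cast_ne_zero.2 Nat.card_pos.ne'
    field_simp
    linear_combination -((conj ((χ : G → ℂ) (rep C))) * (χ : G → ℂ) (rep C)) * hcard
  have hTm : ∀ D C, MemLocalRing M (T₀ D C) := fun D C =>
    memRing_sum hM fun x _ => hbm _
  obtain ⟨-, hTr⟩ := res_rank hM T₀ hTm hT2 _ hTtr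
  -- the idempotent of the group algebra
  set e : MonoidAlgebra (AlgInt ⧸ M) G :=
    ∑ g, MonoidAlgebra.single g (res hM (b g)) with he
  have hec : ∀ a, e.coeff a = res hM (b a) := fun a => by
    rw [he, MonoidAlgebra.coeff_sum, Finsupp.finsetSum_apply,
      Finset.sum_eq_single a (fun g _ h => by
        rw [MonoidAlgebra.coeff_single, Finsupp.single_eq_of_ne h.symm]) (by simp),
      MonoidAlgebra.coeff_single, Finsupp.single_eq_same]
  set Φ : MonoidAlgebra (AlgInt ⧸ M) G ≃ₗ[AlgInt ⧸ M] (G → AlgInt ⧸ M) :=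
    (MonoidAlgebra.coeffLinearEquiv _).trans (Finsupp.linearEquivFunOnFinite _ _ _)
  have hΦ : ∀ x, Φ (e * x) = Matrix.toLin' ((Lmat b).map (res hM)) (Φ x) := by
    intro x
    induction x using MonoidAlgebra.induction_linear with
    | zero => simp
    | add u v hu hv => simp only [mul_add, map_add, hu, hv]
    | single g r =>
      rw [show MonoidAlgebra.single g r = r • MonoidAlgebra.of (AlgInt ⧸ M) G g by simp,
        mul_smul_comm, map_smul, map_smul, map_smul]
      congr 1
      funext a
      show (e * MonoidAlgebra.of (AlgInt ⧸ M) G g).coeff a =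
        (Matrix.mulVec ((Lmat b).map (res hM))
          fun c => (MonoidAlgebra.of (AlgInt ⧸ M) G g).coeff c) a
      rw [coeff_mul_of, hec, Matrix.mulVec, dotProduct, Finset.sum_eq_single g
        (fun c _ h => by rw [MonoidAlgebra.of_apply, MonoidAlgebra.coeff_single,
          Finsupp.single_eq_of_ne h, mul_zero]) (by simp),
        MonoidAlgebra.of_apply, MonoidAlgebra.coeff_single, Finsupp.single_eq_same, mul_one]
      rfl
  have hid : IsIdempotentElem e := by
    apply Φ.injective
    have h0 : Φ e = Matrix.toLin' ((Lmat b).map (res hM)) (Φ 1) := by rw [← hΦ, mul_one]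
    rw [hΦ, h0, Matrix.toLin'_apply, Matrix.toLin'_apply, Matrix.mulVec_mulVec, hE2]
  have hcen : ∀ x, e * x = x * e := by
    intro x
    induction x using MonoidAlgebra.induction_linear with
    | zero => simp
    | add u v hu hv => simp only [mul_add, add_mul, hu, hv]
    | single g r =>
      rw [show MonoidAlgebra.single g r = r • MonoidAlgebra.of (AlgInt ⧸ M) G g by simp,
        mul_smul_comm, smul_mul_assoc]
      congr 1
      refine MonoidAlgebra.ext (Finsupp.ext fun a => ?_)
      rw [coeff_mul_of, coeff_of_mul, hec, hec]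
      congr 1
      have := hbcl (g⁻¹ * a) g
      rw [mul_inv_cancel_left] at this
      exact this
  have hmain := groupAlgebra_bound (k := AlgInt ⧸ M) (default : Sylow p G) e hid hcen rep mk_crep
    (T₀.map (res hM)) (fun D C => by
      rw [Matrix.map_apply, hT₀, Matrix.of_apply, res_sum hM fun x _ => hbm _]
      exact Finset.sum_congr rfl fun x _ => by rw [coeff_mul_of, hec]) (hTr ▸ hk)
  rw [Sylow.card_eq_multiplicity] at hmain
  have hrange : (LinearMap.range (LinearMap.mulLeft (AlgInt ⧸ M) e)).map Φ.toLinearMap =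
      LinearMap.range (Matrix.toLin' ((Lmat b).map (res hM))) := by
    apply le_antisymm
    · rintro _ ⟨_, ⟨x, rfl⟩, rfl⟩
      exact ⟨Φ x, (hΦ x).symm⟩
    · rintro _ ⟨v, rfl⟩
      exact ⟨e * Φ.symm v, ⟨Φ.symm v, rfl⟩, (hΦ _).trans (by rw [Φ.apply_symm_apply])⟩
  rw [← LinearEquiv.finrank_map_eq Φ, hrange, hEr] at hmain
  exact hmain

end CfsgLib.Blocks
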