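import Mathlib.RingTheory.SimpleModule.IsAlgClosed
import Mathlib.RingTheory.Artinian.Module
import Mathlib.RingTheory.Idempotents
import Mathlib.RingTheory.HopkinsLevitzki

/-!
# Finite dimensional symmetric algebras with a small cocenter

The dimension of an algebra whose space of commutators has codimension at most two, in terms of
a number dividing the dimension of each projective left ideal.
-/

namespace CfsgLib.Blocks

open Module

set_option linter.unusedVariables false
set_option linter.unusedSimpArgs false
set_option linter.unusedSectionVars false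

section

variable (k : Type*) {A : Type*} [Field k] [Ring A] [Algebra k A]

/-- The span of the commutators. -/
def commSub (A : Type*) [Ring A] [Algebra k A] : Submodule k A :=
  Submodule.span k (Set.range fun q : A × A => q.1 * q.2 - q.2 * q.1)

theorem comm_mem (a b : A) : a * b - b * a ∈ commSub k A :=
  Submodule.subset_span ⟨(a, b), rfl⟩

variable {k}

theorem commSub_le_ker {W : Type*} [AddCommGroup W] [Module k W] (f : A →ₗ[k] W)
    (h : ∀ a b : A, f (a * b) = f (b * a)) : commSub k A ≤ LinearMap.ker f := by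
  refine Submodule.span_le.2 ?_
  rintro _ ⟨q, rfl⟩
  simp only [SetLike.mem_coe, LinearMap.mem_ker, map_sub, h q.1 q.2, sub_self]

/-- A finite dimensional algebra maps onto a product of matrix algebras with nilpotent kernel. -/
theorem exists_pi_quotient [IsAlgClosed k] [FiniteDimensional k A] :
    ∃ (r : ℕ) (d : Fin r → ℕ) (π : A →ₐ[k] Π i, Matrix (Fin (d i)) (Fin (d i)) k),
      (∀ i, NeZero (d i)) ∧ Function.Surjective π ∧
        ∃ m : ℕ, (LinearMap.ker π.toLinearMap) ^ m = ⊥ := by
  haveI : IsArtinianRing A := IsArtinianRing.of_finite k A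
  set J := Ring.jacobson A with hJ
  haveI : IsSemisimpleRing (A ⧸ J) := IsSemiprimaryRing.isSemisimpleRing
  haveI : FiniteDimensional k (A ⧸ J) :=
    Module.Finite.of_surjective (Ideal.Quotient.mkₐ k J).toLinearMap Ideal.Quotient.mk_surjective
  obtain ⟨r, d, hd, ⟨e⟩⟩ :=
    IsSemisimpleRing.exists_algEquiv_pi_matrix_of_isAlgClosed k (A ⧸ J)
  refine ⟨r, d, e.toAlgHom.comp (Ideal.Quotient.mkₐ k J), hd,
    e.surjective.comp Ideal.Quotient.mk_surjective, ?_⟩
  obtain ⟨m, hm⟩ := (IsSemiprimaryRing.isNilpotent : IsNilpotent J)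
  refine ⟨m + 1, le_bot_iff.1 ?_⟩
  set L := LinearMap.ker (e.toAlgHom.comp (Ideal.Quotient.mkₐ k J)).toLinearMap
  have hL : ∀ x ∈ L, x ∈ J := by
    intro x hx
    have hx' : e (Ideal.Quotient.mk J x) = 0 := hx
    rw [← map_zero e, e.injective.eq_iff] at hx'
    exact Ideal.Quotient.eq_zero_iff_mem.1 hx'
  have key : ∀ i : ℕ, L ^ (i + 1) ≤ (J ^ (i + 1) : Ideal A).restrictScalars k := by
    intro i
    induction i with
    | zero =>
      intro x hx
      rw [pow_one] at hx
      show x ∈ J ^ (0 + 1)
      rw [zero_add, Submodule.pow_one]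
      exact hL x hx
    | succ i ih =>
      rw [pow_succ' L (i + 1), Submodule.mul_le]
      intro a ha b hb
      show a * b ∈ J ^ (i + 1 + 1)
      rw [Ideal.IsTwoSided.pow_succ (i + 1)]
      exact Ideal.mul_mem_mul (hL a ha) (ih hb)
  intro x hx
  have := key m hx
  rw [Submodule.restrictScalars_mem, Ideal.IsTwoSided.pow_succ m, hm] at this
  simpa using this

/-- Products of a matrix idempotent congruent to zero. -/
theorem idem_entries_zero {ι : Type*} [Fintype ι] [DecidableEq ι] (L : Submodule k A) {m : ℕ}
    (hm : L ^ m = ⊥) (D : Matrix ι ι A) (hD : D * D = D) (h : ∀ i j, D i j ∈ L) : D = 0 := by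
  have key : ∀ s : ℕ, ∀ i j, D i j ∈ L ^ (s + 1) := by
    intro s
    induction s with
    | zero => simpa using h
    | succ s ih =>
      intro i j
      rw [← hD, Matrix.mul_apply, pow_succ]
      exact Submodule.sum_mem _ fun l _ => Submodule.mul_mem_mul (ih i l) (h l j)
  ext i j
  have := key m i j
  rw [pow_succ, hm] at this
  simpa using this

/-- The core: an algebra with simple top `M n` and cocenter of dimension at most two. -/
theorem simple_top_bound [FiniteDimensional k A] {n : ℕ} [NeZero n]
    (π : A →ₐ[k] Matrix (Fin n) (Fin n) k) (hπ : Function.Surjective π) {m : ℕ}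
    (hm : (LinearMap.ker π.toLinearMap) ^ m = ⊥) (hC : finrank k (A ⧸ commSub k A) ≤ 2)
    {q : ℕ} (hdiv : ∀ ε : A, IsIdempotentElem ε →
      q ∣ finrank k (LinearMap.range (LinearMap.mulRight k ε))) :
    q ^ 2 ∣ 2 * finrank k A := by
  classical
  set L := LinearMap.ker π.toLinearMap with hL
  have hLmem : ∀ x, x ∈ L ↔ π x = 0 := fun x => Iff.rfl
  have hnil : ∀ x, π x = 0 → x ^ m = 0 := by
    intro x hx
    have := Submodule.pow_mem_pow L ((hLmem x).2 hx) m
    rw [hm] at this
    simpa using this
  set E : Fin n → Fin n → Matrix (Fin n) (Fin n) k := fun i j => Matrix.single i j 1 with hE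
  have hEE : ∀ i j l, E i j * E j l = E i l := fun i j l => by simp [hE]
  have hEE0 : ∀ i j j' l, j ≠ j' → E i j * E j' l = 0 := fun i j j' l h => by simp [hE, h]
  obtain ⟨ε, hεi, hεπ⟩ := exists_isIdempotentElem_eq_of_ker_isNilpotent π.toRingHom
    (fun x hx => ⟨m, hnil x (RingHom.mem_ker.1 hx)⟩) (E 0 0) (hπ _) (hEE 0 0 0)
  have hεπ' : π ε = E 0 0 := hεπ
  choose a ha using fun i : Fin n => hπ (E i 0)
  choose b hb using fun i : Fin n => hπ (E 0 i)
  set u : Fin n → A := fun i => a i * ε with hu
  set v₀ : Fin n → A := fun i => ε * b i with hv₀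
  set w := ∑ i, u i * v₀ i with hw
  have hwπ : π w = 1 := by
    rw [hw, map_sum]
    have : ∀ i, π (u i * v₀ i) = E i i := fun i => by
      simp only [hu, hv₀, map_mul, ha, hb, hεπ', hEE]
    simp only [this, hE]
    ext i j
    rw [Matrix.sum_apply, Finset.sum_eq_single i (fun l _ hl => by simp [hl]) (by simp)]
    by_cases h : i = j <;> simp [h, Matrix.one_apply]
  have hwu : IsUnit w := by
    have hz : IsNilpotent (1 - w) := ⟨m, hnil _ (by rw [map_sub, map_one, hwπ, sub_self])⟩
    simpa using hz.isUnit_one_sub
  obtain ⟨w', rfl'⟩ := hwu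
  set v : Fin n → A := fun i => v₀ i * (↑w'⁻¹ : A) with hv
  have hw'π : π (↑w'⁻¹ : A) = 1 := by
    have := congrArg π (Units.inv_mul w')
    rw [map_mul, map_one, rfl', hwπ, mul_one] at this
    exact this
  have huπ : ∀ i, π (u i) = E i 0 := fun i => by simp only [hu, map_mul, ha, hεπ', hEE]
  have hvπ : ∀ i, π (v i) = E 0 i := fun i => by
    simp only [hv, hv₀, map_mul, hb, hεπ', hEE, hw'π, mul_one]
  have huε : ∀ i, u i * ε = u i := fun i => by simp only [hu, mul_assoc, hεi.eq]
  have hεv : ∀ i, ε * v i = v i := fun i => by simp only [hv, hv₀, ← mul_assoc, hεi.eq]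
  have huv : ∑ i, u i * v i = 1 := by
    simp only [hv, ← mul_assoc, ← Finset.sum_mul]
    rw [← hw, ← rfl', Units.mul_inv]
  have hvu : ∀ i j, v i * u j = if i = j then ε else 0 := by
    set P : Matrix (Fin n) (Fin n) A := Matrix.of fun i j => v i * u j with hP
    have hP2 : P * P = P := by
      ext i j
      rw [Matrix.mul_apply]
      simp only [hP, Matrix.of_apply]
      rw [show ∑ l, v i * u l * (v l * u j) = v i * (∑ l, u l * v l) * u j by
        simp only [Finset.mul_sum, Finset.sum_mul, mul_assoc], huv, mul_one]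
    set e1 : Matrix (Fin n) (Fin n) A := Matrix.diagonal fun _ => ε with he1
    have he : e1 * e1 = e1 := by simp [he1, Matrix.diagonal_mul_diagonal, hεi.eq]
    have heP : e1 * P = P := by
      ext i j
      simp only [he1, Matrix.diagonal_mul, hP, Matrix.of_apply, ← mul_assoc, hεv]
    have hPe : P * e1 = P := by
      ext i j
      simp only [he1, Matrix.mul_diagonal, hP, Matrix.of_apply, mul_assoc, huε]
    have hD : (e1 - P) * (e1 - P) = e1 - P := by
      rw [mul_sub, sub_mul, sub_mul, he, hP2, heP, hPe]; abel
    have h0 := idem_entries_zero L hm (e1 - P) hD fun i j => by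
      rw [hLmem, Matrix.sub_apply, map_sub, hP, Matrix.of_apply, map_mul, hvπ, huπ, he1]
      by_cases h : i = j
      · subst h
        rw [Matrix.diagonal_apply_eq, hεπ', hEE, sub_self]
      · rw [Matrix.diagonal_apply_ne _ h, map_zero, hEE0 _ _ _ _ h, sub_self]
    intro i j
    have := congrFun (congrFun (sub_eq_zero.1 h0) i) j
    rw [hP, Matrix.of_apply, he1, Matrix.diagonal_apply] at this
    exact this.symm
  -- the corner
  let cl : A →ₗ[k] A := (LinearMap.mulLeft k ε).comp (LinearMap.mulRight k ε)
  set R := LinearMap.range cl with hR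
  have hRmem : ∀ x, x ∈ R ↔ ε * x * ε = x := by
    intro x
    constructor
    · rintro ⟨y, rfl⟩
      show ε * (ε * (y * ε)) * ε = ε * (y * ε)
      simp only [← mul_assoc, hεi.eq]
      simp only [mul_assoc, hεi.eq]
    · intro h
      exact ⟨x, (mul_assoc _ _ _).symm.trans h⟩
  have hvau : ∀ (x : A) i j, v i * x * u j ∈ R := fun x i j => by
    rw [hRmem, show ε * (v i * x * u j) * ε = ε * v i * x * (u j * ε) by simp only [mul_assoc],
      hεv, huε]
  -- `A` is the matrix algebra over the corner
  let Φ : A →ₗ[k] (Fin n → Fin n → R) :=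
    { toFun := fun x i j => ⟨v i * x * u j, hvau x i j⟩
      map_add' := fun x y => by
        funext i j; apply Subtype.ext; simp [mul_add, add_mul]
      map_smul' := fun c x => by
        funext i j; apply Subtype.ext; simp }
  let Ψ : (Fin n → Fin n → R) →ₗ[k] A :=
    { toFun := fun f => ∑ i, ∑ j, u i * (f i j : A) * v j
      map_add' := fun f g => by
        simp [mul_add, add_mul, Finset.sum_add_distrib]
      map_smul' := fun c f => by
        simp [Finset.smul_sum] }
  have hΨΦ : ∀ x, Ψ (Φ x) = x := by
    intro x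
    show ∑ i, ∑ j, u i * (v i * x * u j) * v j = x
    calc ∑ i, ∑ j, u i * (v i * x * u j) * v j = (∑ i, u i * v i) * x * ∑ j, u j * v j := by
          rw [Finset.sum_mul, Finset.sum_mul]
          exact Finset.sum_congr rfl fun i _ => by simp only [Finset.mul_sum, mul_assoc]
      _ = x := by rw [huv, one_mul, mul_one]
  have hεR : ∀ r : R, ε * (r : A) = r ∧ (r : A) * ε = r := by
    rintro ⟨r, hr⟩
    have h := (hRmem r).1 hr
    constructor
    · show ε * r = r
      conv_lhs => rw [← h]
      simp only [← mul_assoc, hεi.eq]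
      exact h
    · show r * ε = r
      conv_lhs => rw [← h]
      rw [mul_assoc, hεi.eq]
      exact h
  have hΦΨ : ∀ f, Φ (Ψ f) = f := by
    intro f
    funext i j
    apply Subtype.ext
    show v i * (∑ i', ∑ j', u i' * (f i' j' : A) * v j') * u j = f i j
    rw [Finset.mul_sum, Finset.sum_mul, Finset.sum_eq_single i, Finset.mul_sum, Finset.sum_mul,
      Finset.sum_eq_single j]
    · rw [show v i * (u i * (f i j : A) * v j) * u j = v i * u i * (f i j : A) * (v j * u j) by
        simp only [mul_assoc], hvu, hvu, if_pos rfl, if_pos rfl, (hεR _).1, (hεR _).2]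
    · intro j' _ h
      rw [show v i * (u i * (f i j' : A) * v j') * u j =
        v i * u i * (f i j' : A) * (v j' * u j) by simp only [mul_assoc], hvu j', if_neg h, mul_zero]
    · simp
    · intro i' _ h
      rw [Finset.mul_sum, Finset.sum_mul]
      exact Finset.sum_eq_zero fun j' _ => by
        rw [show v i * (u i' * (f i' j' : A) * v j') * u j =
          v i * u i' * (f i' j' : A) * (v j' * u j) by simp only [mul_assoc], hvu i,
          if_neg (Ne.symm h), zero_mul, zero_mul]
    · simp
  have hdimA : finrank k A = n * (n * finrank k R) := by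
    rw [(LinearEquiv.ofLinear Φ Ψ (LinearMap.ext hΦΨ) (LinearMap.ext hΨΦ)).finrank_eq]
    simp [Module.finrank_pi_fintype]
  -- the projective left ideal
  set X := LinearMap.range (LinearMap.mulRight k ε) with hX
  have hXmem : ∀ x, x ∈ X ↔ x * ε = x := fun x =>
    ⟨fun ⟨y, hy⟩ => by rw [← hy]; show y * ε * ε = y * ε; rw [mul_assoc, hεi.eq],
      fun h => ⟨x, h⟩⟩
  let Λ : X →ₗ[k] (Fin n → R) :=
    { toFun := fun x i => ⟨v i * (x : A), by
        rw [hRmem, ← mul_assoc, hεv, mul_assoc, (hXmem _).1 x.2]⟩
      map_add' := fun x y => by funext i; apply Subtype.ext; simp [mul_add]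
      map_smul' := fun c x => by funext i; apply Subtype.ext; simp }
  let Λ' : (Fin n → R) →ₗ[k] X :=
    { toFun := fun f => ⟨∑ i, u i * (f i : A), by
        rw [hXmem, Finset.sum_mul]
        exact Finset.sum_congr rfl fun i _ => by rw [mul_assoc, (hεR _).2]⟩
      map_add' := fun f g => by apply Subtype.ext; simp [mul_add, Finset.sum_add_distrib]
      map_smul' := fun c f => by apply Subtype.ext; simp [Finset.smul_sum] }
  have hdimX : finrank k X = n * finrank k R := by
    rw [(LinearEquiv.ofLinear Λ Λ' (LinearMap.ext fun f => by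
      funext i; apply Subtype.ext
      show v i * (∑ l, u l * (f l : A)) = f i
      rw [Finset.mul_sum, Finset.sum_eq_single i
        (fun l _ h => by rw [← mul_assoc, hvu, if_neg (Ne.symm h), zero_mul]) (by simp),
        ← mul_assoc, hvu, if_pos rfl, (hεR _).1]) (LinearMap.ext fun x => by
      apply Subtype.ext
      show ∑ i, u i * (v i * (x : A)) = x
      simp only [← mul_assoc, ← Finset.sum_mul, huv, one_mul])).finrank_eq]
    simp [Module.finrank_pi_fintype]
  -- the corner has dimension at most two
  have hRmul : ∀ x ∈ R, ∀ y ∈ R, x * y ∈ R := fun x hx y hy => by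
    rw [hRmem, ← mul_assoc, (hεR ⟨x, hx⟩).1, mul_assoc, (hεR ⟨y, hy⟩).2]
  set cR : Submodule k A :=
    Submodule.span k ((fun q : A × A => q.1 * q.2 - q.2 * q.1) '' ((R : Set A) ×ˢ (R : Set A)))
    with hcR
  have hcR_mem : ∀ x ∈ R, ∀ y ∈ R, x * y - y * x ∈ cR := fun x hx y hy =>
    Submodule.subset_span ⟨(x, y), ⟨hx, hy⟩, rfl⟩
  let τ : A →ₗ[k] A :=
    { toFun := fun x => ∑ i, v i * x * u i
      map_add' := fun x y => by simp [mul_add, add_mul, Finset.sum_add_distrib]
      map_smul' := fun c x => by simp [Finset.smul_sum] }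
  have hτR : ∀ r ∈ R, τ r - r ∈ cR := by
    intro r hr
    have e : r = ∑ i, (ε * u i) * (v i * r) := by
      rw [show ∑ i, ε * u i * (v i * r) = ε * (∑ i, u i * v i) * r by
        simp only [Finset.mul_sum, Finset.sum_mul, mul_assoc], huv, mul_one, (hεR ⟨r, hr⟩).1]
    have e' : τ r - r = ∑ i, ((v i * r) * (ε * u i) - (ε * u i) * (v i * r)) := by
      rw [Finset.sum_sub_distrib, ← e]
      congr 1
      show ∑ i, v i * r * u i = _
      refine Finset.sum_congr rfl fun i _ => ?_
      rw [mul_assoc (v i) r (ε * u i), ← mul_assoc r ε, (hεR ⟨r, hr⟩).2, mul_assoc]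
    rw [e']
    refine Submodule.sum_mem _ fun i _ => hcR_mem _ ?_ _ ?_
    · rw [hRmem, ← mul_assoc, hεv, mul_assoc (v i), (hεR ⟨r, hr⟩).2]
    · rw [hRmem, ← mul_assoc, hεi.eq, mul_assoc, huε]
  have hτc : ∀ x ∈ commSub k A, τ x ∈ cR := by
    intro x hx
    refine (Submodule.span_le.2 ?_ : commSub k A ≤ cR.comap τ) hx
    rintro _ ⟨⟨x, y⟩, rfl⟩
    show τ (x * y - y * x) ∈ cR
    rw [map_sub]
    have e : ∀ x y : A, τ (x * y) = ∑ i, ∑ j, (v i * x * u j) * (v j * y * u i) := by
      intro x y
      show ∑ i, v i * (x * y) * u i = _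
      refine Finset.sum_congr rfl fun i _ => ?_
      calc v i * (x * y) * u i = v i * x * (∑ j, u j * v j) * (y * u i) := by
            rw [huv, mul_one]; simp only [mul_assoc]
        _ = _ := by
            simp only [Finset.mul_sum, Finset.sum_mul, mul_assoc]
    rw [e x y, e y x, Finset.sum_comm (f := fun i j => (v i * y * u j) * (v j * x * u i)),
      ← Finset.sum_sub_distrib]
    refine Submodule.sum_mem _ fun i _ => ?_
    rw [← Finset.sum_sub_distrib]
    exact Submodule.sum_mem _ fun j _ => hcR_mem _ (hvau _ _ _) _ (hvau _ _ _)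
  -- commutativity of the corner
  set N : Submodule k A := R ⊓ L with hN
  have hNle : N ≤ R := inf_le_left
  have hdec : ∀ r ∈ R, ∃ c : k, r - c • ε ∈ N := by
    intro r hr
    refine ⟨π r 0 0, Submodule.sub_mem _ hr (Submodule.smul_mem _ _ ((hRmem ε).2 (by
      rw [hεi.eq, hεi.eq]))), ?_⟩
    show π (r - π r 0 0 • ε) = 0
    rw [map_sub, map_smul, hεπ']
    conv_lhs => arg 1; rw [← (hRmem r).1 hr, map_mul, map_mul, hεπ', hE,
      Matrix.single_mul_mul_single]
    simp [hE]
  have hcRN : cR ≤ N * N := by
    refine Submodule.span_le.2 ?_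
    rintro _ ⟨⟨x, y⟩, ⟨hx, hy⟩, rfl⟩
    obtain ⟨c, hc⟩ := hdec x hx
    obtain ⟨c', hc'⟩ := hdec y hy
    have e : x * y - y * x = (x - c • ε) * (y - c' • ε) - (y - c' • ε) * (x - c • ε) := by
      simp only [mul_sub, sub_mul, smul_mul_assoc, mul_smul_comm, smul_sub, smul_smul,
        (hεR ⟨x, hx⟩).1, (hεR ⟨x, hx⟩).2, (hεR ⟨y, hy⟩).1, (hεR ⟨y, hy⟩).2, hεi.eq]
      rw [mul_comm c c']
      abel
    show x * y - y * x ∈ N * N
    rw [e]
    exact Submodule.sub_mem _ (Submodule.mul_mem_mul hc hc') (Submodule.mul_mem_mul hc' hc)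
  have hRker : ∀ r ∈ R, r ∈ commSub k A → r ∈ cR := fun r hr hr' => by
    have := Submodule.sub_mem _ (hτc r hr') (hτR r hr)
    simpa using this
  -- the corner modulo commutators
  let q₀ : R →ₗ[k] A ⧸ commSub k A := (commSub k A).mkQ.comp R.subtype
  have hεR' : ε ∈ R := (hRmem ε).2 (by rw [hεi.eq, hεi.eq])
  have hNtwo : ∃ t ∈ N, N ≤ Submodule.span k {t} ⊔ N * N := by
    by_contra hne
    push Not at hne
    obtain ⟨t, ht, hts⟩ : ∃ t ∈ N, t ∉ (N * N : Submodule k A) := by
      by_contra h
      push Not at h
      exact hne 0 N.zero_mem (fun x hx => Submodule.mem_sup_right (h x hx))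
    obtain ⟨s, hs, hss⟩ := SetLike.not_le_iff_exists.1 (hne t ht)
    have hli : LinearIndependent k (fun i : Fin 3 => q₀ (![⟨ε, hεR'⟩, ⟨t, hNle ht⟩, ⟨s, hNle hs⟩] i)) := by
      rw [Fintype.linearIndependent_iff]
      intro c hc
      rw [Fin.sum_univ_three] at hc
      simp only [Matrix.cons_val_zero, Matrix.cons_val_one, Matrix.cons_val] at hc
      have hc' : c 0 • ε + c 1 • t + c 2 • s ∈ commSub k A := by
        rw [← Submodule.Quotient.mk_eq_zero]
        exact hc
      have hmem : c 0 • ε + c 1 • t + c 2 • s ∈ R :=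
        Submodule.add_mem _ (Submodule.add_mem _ (R.smul_mem _ hεR') (R.smul_mem _ (hNle ht)))
          (R.smul_mem _ (hNle hs))
      have h2 := hcRN (hRker _ hmem hc')
      have hNL : N * N ≤ L := by
        rw [Submodule.mul_le]
        intro x hx y hy
        show π (x * y) = 0
        rw [map_mul, (hLmem x).1 hx.2, zero_mul]
      have h0 : c 0 = 0 := by
        have hz : π (c 0 • ε + c 1 • t + c 2 • s) = 0 := hNL h2
        rw [map_add, map_add, map_smul, map_smul, map_smul, (hLmem t).1 ht.2, (hLmem s).1 hs.2,
          smul_zero, smul_zero, add_zero, add_zero, hεπ'] at hz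
        simpa [hE] using congrFun (congrFun hz 0) 0
      rw [h0, zero_smul, zero_add] at h2
      have hc2 : c 2 = 0 := by
        by_contra h
        apply hss
        have : s = (c 2)⁻¹ • ((c 1 • t + c 2 • s) - c 1 • t) := by
          rw [add_sub_cancel_left, smul_smul, inv_mul_cancel₀ h, one_smul]
        rw [this]
        exact Submodule.smul_mem _ _ (Submodule.sub_mem _ (Submodule.mem_sup_right h2)
          (Submodule.mem_sup_left (Submodule.mem_span_singleton.2 ⟨c 1, rfl⟩)))
      rw [hc2, zero_smul, add_zero] at h2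
      have hc1 : c 1 = 0 := by
        by_contra h
        apply hts
        have := (N * N).smul_mem (c 1)⁻¹ h2
        rwa [smul_smul, inv_mul_cancel₀ h, one_smul] at this
      intro i
      fin_cases i <;> assumption
    have := hli.fintype_card_le_finrank
    simp only [Fintype.card_fin] at this
    omega
  obtain ⟨t, ht, htN⟩ := hNtwo
  have hNN : N * N ≤ N := by
    rw [Submodule.mul_le]
    intro x hx y hy
    exact ⟨hRmul x hx.1 y hy.1, show π (x * y) = 0 by rw [map_mul, (hLmem x).1 hx.2, zero_mul]⟩
  have hgrade : ∀ i : ℕ, N ^ (i + 1) ≤ Submodule.span k {t ^ (i + 1)} ⊔ N ^ (i + 2) := by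
    intro i
    induction i with
    | zero => simpa [pow_succ] using htN
    | succ i ih =>
      rw [pow_succ N (i + 1)]
      refine le_trans (mul_le_mul' ih htN) ?_
      have hN2 : N * N = N ^ 2 := (pow_two N).symm
      have hts : Submodule.span k {t} ≤ N := (Submodule.span_singleton_le_iff_mem _ _).2 ht
      have htp : Submodule.span k {t ^ (i + 1)} ≤ N ^ (i + 1) :=
        (Submodule.span_singleton_le_iff_mem _ _).2 (Submodule.pow_mem_pow N ht _)
      rw [Submodule.sup_mul, Submodule.mul_sup, Submodule.mul_sup]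
      refine sup_le (sup_le ?_ ?_) (sup_le ?_ ?_)
      · rw [Submodule.span_mul_span, Set.singleton_mul_singleton, ← pow_succ]
        exact le_sup_left
      · refine le_sup_of_le_right ?_
        exact (mul_le_mul' htp hN2.le).trans (pow_add N (i + 1) 2).ge
      · refine le_sup_of_le_right ?_
        rw [show i + 1 + 2 = (i + 2) + 1 from rfl, pow_succ N (i + 2)]
        exact mul_le_mul' le_rfl hts
      · refine le_sup_of_le_right ?_
        rw [hN2, ← pow_add]
        calc N ^ (i + 2 + 2) = N ^ (i + 2) * (N * N) := by rw [pow_add, hN2]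
          _ ≤ N ^ (i + 2) * N := mul_le_mul' le_rfl hNN
          _ = N ^ (i + 1 + 2) := (pow_succ N (i + 2)).symm
  set K : Submodule k A := Submodule.span k (Set.range fun i : ℕ => t ^ (i + 1)) with hK
  have hNK : N ≤ K := by
    have hNm : N ^ (m + 1) = ⊥ := le_bot_iff.1 (by
      calc N ^ (m + 1) ≤ L ^ (m + 1) := by gcongr; exact inf_le_right
        _ = ⊥ := by rw [pow_succ, hm, Submodule.bot_mul])
    have key : ∀ l i : ℕ, i + l = m → N ^ (i + 1) ≤ K := by
      intro l
      induction l with
      | zero => intro i hi; rw [show i = m by omega, hNm]; exact bot_le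
      | succ l ih =>
        intro i hi
        exact (hgrade i).trans (sup_le ((Submodule.span_singleton_le_iff_mem _ _).2
          (Submodule.subset_span ⟨i, rfl⟩)) (ih (i + 1) (by omega)))
    simpa using key m 0 (by omega)
  have hKcomm : ∀ x ∈ K, ∀ y ∈ K, x * y = y * x := by
    intro x hx y hy
    induction hx, hy using Submodule.span_induction₂ with
    | mem_mem x y hx hy =>
      obtain ⟨i, rfl⟩ := hx; obtain ⟨j, rfl⟩ := hy
      exact pow_mul_comm t _ _
    | zero_left => simp
    | zero_right => simp
    | add_left x x' y _ _ _ h h' => rw [add_mul, mul_add, h, h']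
    | add_right x y y' _ _ _ h h' => rw [add_mul, mul_add, h, h']
    | smul_left c x y _ _ h => rw [smul_mul_assoc, mul_smul_comm, h]
    | smul_right c x y _ _ h => rw [smul_mul_assoc, mul_smul_comm, h]
  have hcR0 : cR = ⊥ := by
    refine le_bot_iff.1 (Submodule.span_le.2 ?_)
    rintro _ ⟨⟨x, y⟩, ⟨hx, hy⟩, rfl⟩
    obtain ⟨c, hc⟩ := hdec x hx
    obtain ⟨c', hc'⟩ := hdec y hy
    show x * y - y * x ∈ (⊥ : Submodule k A)
    have h := hKcomm _ (hNK hc) _ (hNK hc')
    rw [Submodule.mem_bot]
    calc x * y - y * x = (x - c • ε) * (y - c' • ε) - (y - c' • ε) * (x - c • ε) := by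
          simp only [mul_sub, sub_mul, smul_mul_assoc, mul_smul_comm, smul_sub, smul_smul,
            (hεR ⟨x, hx⟩).1, (hεR ⟨x, hx⟩).2, (hεR ⟨y, hy⟩).1, (hεR ⟨y, hy⟩).2, hεi.eq]
          rw [mul_comm c c']
          abel
      _ = 0 := by rw [h, sub_self]
  have hinj : Function.Injective q₀ := by
    rw [← LinearMap.ker_eq_bot, Submodule.eq_bot_iff]
    intro r hr
    have h1 : (r : A) ∈ commSub k A := (Submodule.Quotient.mk_eq_zero _).1 hr
    have h2 := hRker _ r.2 h1
    rw [hcR0, Submodule.mem_bot] at h2
    exact Subtype.ext h2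
  have hc2 : finrank k R ≤ 2 := (LinearMap.finrank_le_finrank_of_injective hinj).trans hC
  have hq := hdiv ε hεi
  rw [← hX, hdimX] at hq
  rw [hdimA]
  refine (pow_dvd_pow_of_dvd hq 2).trans ?_
  obtain h | h | h : finrank k R = 0 ∨ finrank k R = 1 ∨ finrank k R = 2 := by omega
  · simp [h]
  · rw [h]; exact Dvd.intro_left 2 (by ring)
  · rw [h]; exact dvd_of_eq (by ring)

/-- A symmetric algebra with cocenter of dimension at most two. -/
theorem small_cocenter_bound [IsAlgClosed k] [FiniteDimensional k A]
    (hC : finrank k (A ⧸ commSub k A) ≤ 2) (t : A →ₗ[k] k) (hts : ∀ a b : A, t (a * b) = t (b * a))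
    (htn : ∀ a : A, (∀ b, t (a * b) = 0) → a = 0)
    {q : ℕ} (hdiv : ∀ ε : A, IsIdempotentElem ε →
      q ∣ finrank k (LinearMap.range (LinearMap.mulRight k ε))) :
    q ^ 2 ∣ 2 * finrank k A := by
  classical
  obtain ⟨r, d, π, hd, hπ, m, hm⟩ := exists_pi_quotient (k := k) (A := A)
  by_cases hπi : Function.Injective π
  · let e := AlgEquiv.ofBijective π ⟨hπi, hπ⟩
    have hqd : ∀ i, q ∣ d i := by
      intro i
      haveI := hd i
      set E0 : Π i, Matrix (Fin (d i)) (Fin (d i)) k := Pi.single i (Matrix.single 0 0 1) with hE0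
      have hE0i : IsIdempotentElem E0 := by
        show E0 * E0 = E0
        rw [hE0, ← Pi.single_mul]; simp
      have hid : IsIdempotentElem (e.symm E0) := hE0i.map e.symm
      have h := hdiv _ hid
      let Γ : (Fin (d i) → k) →ₗ[k] A :=
        e.symm.toLinearMap.comp
          { toFun := fun v => Pi.single i (Matrix.of fun a b => if b = 0 then v a else 0)
            map_add' := fun v w => by
              rw [← Pi.single_add]; congr 1; ext a b; by_cases h : b = 0 <;> simp [h]
            map_smul' := fun c v => by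
              rw [RingHom.id_apply, ← Pi.single_smul]; congr 1; ext a b
              by_cases h : b = 0 <;> simp [h] }
      have hΓi : Function.Injective Γ := by
        intro v w h
        have h' := congrFun (e.symm.injective h) i
        simp only [LinearMap.coe_mk, AddHom.coe_mk, Pi.single_eq_same] at h'
        funext a
        simpa using congrFun (congrFun h' a) 0
      have hrange : LinearMap.range Γ = LinearMap.range (LinearMap.mulRight k (e.symm E0)) := by
        apply le_antisymm
        · rintro _ ⟨v, rfl⟩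
          refine ⟨Γ v, ?_⟩
          show e.symm _ * e.symm E0 = e.symm _
          rw [← map_mul]; congr 1
          rw [hE0, LinearMap.coe_mk, AddHom.coe_mk, ← Pi.single_mul]; congr 1
          ext a b
          rw [Matrix.mul_apply, Finset.sum_eq_single 0]
          · by_cases h : b = 0 <;> simp [Matrix.single, h, eq_comm]
          · intro l _ hl; simp [hl]
          · simp
        · rintro _ ⟨x, rfl⟩
          refine ⟨fun a => e x i a 0, ?_⟩
          apply e.injective
          show e (e.symm _) = e (x * e.symm E0)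
          rw [map_mul, e.apply_symm_apply, e.apply_symm_apply]
          funext j
          by_cases hj : j = i
          · subst hj
            rw [hE0, Pi.mul_apply, Pi.single_eq_same]
            simp only [LinearMap.coe_mk, AddHom.coe_mk, Pi.single_eq_same]
            ext a b
            rw [Matrix.mul_apply, Finset.sum_eq_single 0]
            · by_cases h : b = 0 <;> simp [Matrix.single, h, eq_comm]
            · intro l _ hl; simp [Matrix.single, Ne.symm hl]
            · simp
          · rw [hE0, Pi.mul_apply, Pi.single_eq_of_ne hj, mul_zero]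
            simp only [LinearMap.coe_mk, AddHom.coe_mk, Pi.single_eq_of_ne hj]
      rw [← hrange, LinearMap.finrank_range_of_inj hΓi, Module.finrank_fin_fun] at h
      exact h
    rw [e.toLinearEquiv.finrank_eq, Module.finrank_pi_fintype]
    refine Dvd.dvd.mul_left (Finset.dvd_sum fun i _ => ?_) 2
    rw [Module.finrank_matrix]
    simp only [Fintype.card_fin, Module.finrank_self, mul_one, pow_two]
    exact mul_dvd_mul (hqd i) (hqd i)
  · -- a single simple factor
    let T : A →ₗ[k] (Fin r → k) :=
      { toFun := fun a i => (π a i).trace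
        map_add' := fun a b => by funext i; simp [Matrix.trace_add]
        map_smul' := fun c a => by funext i; simp [Matrix.trace_smul] }
    have hT : commSub k A ≤ LinearMap.ker T := commSub_le_ker T fun a b => by
      funext i
      show (π (a * b) i).trace = (π (b * a) i).trace
      rw [map_mul, map_mul, Pi.mul_apply, Pi.mul_apply, Matrix.trace_mul_comm]
    have hTs : Function.Surjective T := by
      intro c
      obtain ⟨a, ha⟩ := hπ fun i => haveI := hd i; Matrix.single 0 0 (c i)
      refine ⟨a, funext fun i => ?_⟩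
      haveI := hd i
      show (π a i).trace = c i
      rw [ha]; exact Matrix.trace_single_eq_same _ _
    have hr : r ≤ finrank k (A ⧸ commSub k A) := by
      have hs : Function.Surjective ((commSub k A).liftQ T hT) := fun c => by
        obtain ⟨a, rfl⟩ := hTs c
        exact ⟨Submodule.Quotient.mk a, rfl⟩
      simpa using LinearMap.finrank_le_finrank_of_surjective hs
    have hr1 : r ≤ 1 := by
      by_contra hr2
      apply hπi
      have hbij : Function.Bijective ((commSub k A).liftQ T hT) := by
        have hs : Function.Surjective ((commSub k A).liftQ T hT) := fun c => by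
          obtain ⟨a, rfl⟩ := hTs c
          exact ⟨Submodule.Quotient.mk a, rfl⟩
        refine ⟨(LinearMap.injective_iff_surjective_of_finrank_eq_finrank ?_).2 hs, hs⟩
        rw [Module.finrank_fin_fun]; omega
      rw [injective_iff_map_eq_zero]
      intro a ha
      refine htn a fun b => ?_
      have hmem : a * b ∈ commSub k A := by
        rw [← Submodule.Quotient.mk_eq_zero]
        apply hbij.1
        rw [map_zero]
        funext i
        show (π (a * b) i).trace = 0
        rw [map_mul, ha]; simp
      exact commSub_le_ker t hts hmem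
    rcases Nat.le_one_iff_eq_zero_or_eq_one.1 hr1 with rfl | rfl
    · haveI : Subsingleton A := by
        refine subsingleton_of_zero_eq_one ?_
        have h1 : π (1 : A) = 0 := Subsingleton.elim _ _
        have : (1 : A) ∈ LinearMap.ker π.toLinearMap := h1
        have := Submodule.pow_mem_pow _ this m
        rw [hm, one_pow] at this
        exact ((Submodule.mem_bot k).1 this).symm
      simp [Module.finrank_zero_of_subsingleton]
    · haveI := hd 0
      refine simple_top_bound ((Pi.evalAlgHom k _ 0).comp π)
        ((Function.surjective_eval 0).comp hπ) (m := m) ?_ hC hdiv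
      refine le_bot_iff.1 (le_trans (le_of_eq ?_) hm.le)
      congr 1
      ext a
      show (π a 0 = 0) ↔ π a = 0
      exact ⟨fun h => funext fun i => by rw [Subsingleton.elim i 0, h]; rfl,
        fun h => by rw [h]; rfl⟩

end

end CfsgLib.Blocks
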