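import Cfsg.Agent.Lib.CharTheory.GaloisBound
import Cfsg.Prelude.Def_Blocks
import Mathlib.Algebra.CharP.Lemmas
import Mathlib.FieldTheory.Finite.Basic

/-!
# Arithmetic in cyclotomic fields of algebraic integers of absolute value one
-/

namespace CfsgLib.Blocks

open Cfsg CfsgLib.CharTheory
open scoped ComplexConjugate

set_option linter.unusedVariables false
set_option linter.unusedSimpArgs false
set_option linter.unusedSectionVars false

variable {n : ℕ} [NeZero n]

/-- A totally positive algebraic integer with average conjugate at most one is one. -/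
theorem eq_one_of_sum_pos (w : rootField n) (hint : IsIntegral ℤ (w : ℂ))
    (hpos : ∀ σ : rootField n →ₐ[ℚ] ℂ, ∃ r : ℝ, 0 < r ∧ σ w = (r : ℂ))
    (hle : ∑ σ : rootField n →ₐ[ℚ] ℂ, (σ w).re ≤
      (Fintype.card (rootField n →ₐ[ℚ] ℂ) : ℝ)) (σ : rootField n →ₐ[ℚ] ℂ) : σ w = 1 := by
  classical
  haveI : Algebra.IsAlgebraic ℚ (rootField n) := Algebra.IsAlgebraic.of_finite _ _
  choose x hpos hσw using hpos
  have hprod := Algebra.norm_eq_prod_embeddings ℚ ℂ w
  simp only [hσw] at hprod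
  rw [← Complex.ofReal_prod] at hprod
  have hai : IsIntegral ℤ w :=
    (isIntegral_algHom_iff (((rootField n).val).restrictScalars ℤ) Subtype.val_injective).1 hint
  have hint' : IsIntegral ℤ (((Algebra.norm ℚ w : ℚ)) : ℂ) := by
    rw [show ((Algebra.norm ℚ w : ℚ) : ℂ) = algebraMap ℚ ℂ (Algebra.norm ℚ w) from
      (eq_ratCast (algebraMap ℚ ℂ) _).symm, Algebra.norm_eq_prod_embeddings ℚ ℂ w]
    exact IsIntegral.prod _ fun σ _ => hai.map (σ.restrictScalars ℤ)
  obtain ⟨k, hk⟩ := exists_int_of_isIntegral_ratCast hint'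
  have hP : (1 : ℝ) ≤ ∏ σ, x σ := by
    rw [eq_ratCast, hk, Rat.cast_intCast] at hprod
    have hk' : ((k : ℤ) : ℝ) = ∏ σ, x σ := by exact_mod_cast hprod
    have h1 : (0 : ℝ) < k := hk' ▸ Finset.prod_pos fun σ _ => hpos σ
    rw [← hk']
    exact_mod_cast (show (0 : ℤ) < k by exact_mod_cast h1)
  have hlog : 0 ≤ ∑ σ, Real.log (x σ) := by
    rw [← Real.log_prod fun σ _ => (hpos σ).ne']
    exact Real.log_nonneg hP
  by_contra hne
  have hne' : x σ ≠ 1 := fun h => hne (by rw [hσw, h, Complex.ofReal_one])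
  have hlt : ∑ σ, Real.log (x σ) < ∑ σ, (x σ - 1) :=
    Finset.sum_lt_sum (fun σ _ => Real.log_le_sub_one_of_pos (hpos σ))
      ⟨σ, Finset.mem_univ _, Real.log_lt_sub_one_of_pos (hpos σ) hne'⟩
  rw [Finset.sum_sub_distrib, Finset.sum_const, Finset.card_univ, nsmul_eq_mul, mul_one] at hlt
  rw [Finset.sum_congr rfl fun σ _ => show (σ w).re = x σ by rw [hσw, Complex.ofReal_re]] at hle
  linarith

/-- A nonzero algebraic integer with average square norm at most one has all conjugates of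
absolute value one. -/
theorem normSq_eq_one_of_le (a : rootField n) (hint : IsIntegral ℤ (a : ℂ)) (h0 : a ≠ 0)
    (hle : ∑ σ : rootField n →ₐ[ℚ] ℂ, Complex.normSq (σ a) ≤
      (Fintype.card (rootField n →ₐ[ℚ] ℂ) : ℝ)) (σ : rootField n →ₐ[ℚ] ℂ) :
    Complex.normSq (σ a) = 1 := by
  have hn : n ≠ 0 := NeZero.ne n
  obtain ⟨hc, -⟩ := conj_galois hn ((rootField n).val) a.2
  have hσw : ∀ σ : rootField n →ₐ[ℚ] ℂ,
      σ (a * ⟨conj (a : ℂ), hc⟩) = (Complex.normSq (σ a) : ℂ) := by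
    intro σ
    obtain ⟨hc', he⟩ := conj_galois hn σ a.2
    rw [map_mul, show σ ⟨conj (a : ℂ), hc⟩ = conj (σ ⟨(a : ℂ), a.2⟩) from he, Complex.mul_conj]
  have h := eq_one_of_sum_pos (a * ⟨conj (a : ℂ), hc⟩)
    (hint.mul (hint.map ((Complex.conjAe.toAlgHom).restrictScalars ℤ)))
    (fun σ => ⟨_, Complex.normSq_pos.2 (by rw [Ne, map_eq_zero_iff σ σ.injective]; exact h0),
      hσw σ⟩)
    (le_of_eq_of_le (Finset.sum_congr rfl fun σ _ => by rw [hσw σ, Complex.ofReal_re]) hle) σ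
  rw [hσw] at h
  exact_mod_cast h

/-- An algebraic integer with all conjugates inside the unit disc is zero. -/
theorem eq_zero_of_small (a : rootField n) (hint : IsIntegral ℤ (a : ℂ))
    (h : ∀ σ : rootField n →ₐ[ℚ] ℂ, Complex.normSq (σ a) < 1) : a = 0 := by
  by_contra h0
  have hne : (Finset.univ : Finset (rootField n →ₐ[ℚ] ℂ)).Nonempty :=
    ⟨(rootField n).val, Finset.mem_univ _⟩
  have h1 := card_le_sum_normSq (NeZero.ne n) a hint h0
  have h2 := Finset.sum_lt_sum_of_nonempty hne fun σ (_ : σ ∈ Finset.univ) => h σ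
  rw [Finset.sum_const, Finset.card_univ, nsmul_eq_mul, mul_one] at h2
  linarith

theorem normSq_sub_le (z : ℂ) (k : ℤ) (hz : Complex.normSq z = 1) :
    Complex.normSq (z - k) ≤ (1 + |(k : ℝ)|) ^ 2 := by
  rw [Complex.normSq_eq_norm_sq]
  have h1 : ‖z‖ = 1 := by
    rw [Complex.normSq_eq_norm_sq] at hz
    exact (pow_eq_one_iff_of_nonneg (norm_nonneg z) (by norm_num)).1 hz
  have h2 : ‖z - (k : ℂ)‖ ≤ 1 + |(k : ℝ)| := by
    refine (norm_sub_le _ _).trans (le_of_eq ?_)
    rw [h1, Complex.norm_intCast]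
  exact pow_le_pow_left₀ (norm_nonneg _) h2 2

/-- An algebraic integer of absolute value one congruent to an integer modulo `p` is a sign. -/
theorem sign_of_congr {p : ℕ} (hp : p.Prime) (g : rootField n) (hint : IsIntegral ℤ (g : ℂ))
    (hg : ∀ σ : rootField n →ₐ[ℚ] ℂ, Complex.normSq (σ g) = 1) (K : ℤ)
    (hK : IsIntegral ℤ (((g : ℂ) - K) / p)) :
    ((g : ℂ) = 1 ∨ (g : ℂ) = -1) ∧ ¬ (p : ℤ) ∣ K := by
  have hp0 : (p : ℂ) ≠ 0 := Nat.cast_ne_zero.2 hp.ne_zero
  have hpR : (0 : ℝ) < p := by exact_mod_cast hp.pos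
  have hgne : (g : ℂ) ≠ 0 := fun h => by
    have : Complex.normSq (g : ℂ) = 1 := hg (rootField n).val
    rw [h, map_zero] at this
    exact zero_ne_one this
  have hmove : ∀ k : ℤ, (p : ℤ) ∣ K - k → IsIntegral ℤ (((g : ℂ) - k) / p) := by
    rintro k ⟨q, hq⟩
    have e : ((g : ℂ) - k) / p = ((g : ℂ) - K) / p + (q : ℂ) := by
      have h2 := congrArg (fun z : ℤ => (z : ℂ)) hq
      push_cast at h2
      field_simp
      linear_combination h2
    rw [e]
    exact hK.add (by simpa using (isIntegral_algebraMap (R := ℤ) (A := ℂ) (x := q)))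
  set X : ℤ → rootField n := fun k => (g - (k : rootField n)) / (p : rootField n) with hX
  have hXc : ∀ k : ℤ, ((X k : rootField n) : ℂ) = ((g : ℂ) - k) / p := fun k => by
    show (rootField n).val (X k) = _
    rw [hX, map_div₀, map_sub, map_intCast, map_natCast]
    rfl
  have hXσ : ∀ (k : ℤ) (σ : rootField n →ₐ[ℚ] ℂ),
      Complex.normSq (σ (X k)) = Complex.normSq (σ g - k) / (p : ℝ) ^ 2 := fun k σ => by
    rw [hX, map_div₀, map_sub, map_intCast, map_natCast, map_div₀, Complex.normSq_natCast, sq]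
  have hsmall : ∀ k : ℤ, (p : ℤ) ∣ K - k → 1 + |(k : ℝ)| < p → (g : ℂ) = k := by
    intro k hd hk
    have h0 := eq_zero_of_small (X k) (hXc k ▸ hmove k hd) fun σ => by
      rw [hXσ, div_lt_one (by positivity)]
      exact (normSq_sub_le _ k (hg σ)).trans_lt (pow_lt_pow_left₀ hk (by positivity) two_ne_zero)
    have h1 := hXc k
    rw [h0] at h1
    exact sub_eq_zero.1 ((div_eq_zero_iff.1 h1.symm).resolve_right hp0)
  have hnd : ¬ (p : ℤ) ∣ K := fun hd => hgne (by
    simpa using hsmall 0 (by simpa using hd) (by simpa using (by exact_mod_cast hp.one_lt :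
      (1 : ℝ) < p)))
  refine ⟨?_, hnd⟩
  rcases hp.eq_two_or_odd' with rfl | hodd
  · -- `(g - 1) / 2` has all conjugates in the closed unit disc
    have hd : ((2 : ℕ) : ℤ) ∣ K - 1 := by
      rcases Int.even_or_odd K with h | h
      · exact absurd h.two_dvd (by simpa using hnd)
      · obtain ⟨r, hr⟩ := h; exact ⟨r, by push_cast; omega⟩
    have hb : ∀ σ : rootField n →ₐ[ℚ] ℂ, Complex.normSq (σ (X 1)) ≤ 1 := fun σ => by
      rw [hXσ, div_le_one (by positivity)]
      refine (normSq_sub_le _ 1 (hg σ)).trans (le_of_eq ?_)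
      norm_num
    by_cases h0 : X 1 = 0
    · left
      have h1 := hXc 1
      rw [h0, Int.cast_one] at h1
      exact sub_eq_zero.1 ((div_eq_zero_iff.1 h1.symm).resolve_right hp0)
    · right
      have h1 := normSq_eq_one_of_le (X 1) (hXc 1 ▸ hmove 1 hd) h0 (by
        refine (Finset.sum_le_sum fun σ _ => hb σ).trans (le_of_eq ?_)
        simp) (rootField n).val
      change Complex.normSq ((X 1 : rootField n) : ℂ) = 1 at h1
      rw [hXc 1, map_div₀, Complex.normSq_natCast] at h1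
      have h2 : Complex.normSq (g : ℂ) = 1 := hg (rootField n).val
      simp only [Complex.normSq_apply, Int.cast_one, Complex.sub_re, Complex.sub_im,
        Complex.one_re, Complex.one_im] at h1 h2
      push_cast at h1
      apply Complex.ext <;> simp only [Complex.neg_re, Complex.one_re, Complex.neg_im,
        Complex.one_im] <;> nlinarith
  · have hp3 : 3 ≤ p := by rcases hodd with ⟨r, hr⟩; have := hp.two_le; omega
    have hd : (p : ℤ) ∣ K - K.bmod p := Int.dvd_self_sub_bmod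
    have hk : 1 + |((K.bmod p : ℤ) : ℝ)| < p := by
      have h1 : -((p : ℤ) / 2) ≤ K.bmod p := Int.le_bmod hp.pos
      have h2 : K.bmod p < ((p : ℤ) + 1) / 2 := Int.bmod_lt hp.pos
      have h3 : 1 + |K.bmod p| < (p : ℤ) := by
        rcases abs_cases (K.bmod p) with ⟨h, -⟩ | ⟨h, -⟩ <;> rw [h] <;> omega
      exact_mod_cast h3
    have hgk := hsmall _ hd hk
    have h2 : Complex.normSq (g : ℂ) = 1 := hg (rootField n).val
    rw [hgk, Complex.normSq_intCast] at h2
    have h3 : K.bmod p * K.bmod p = 1 := by exact_mod_cast (by rw [← h2] :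
      ((K.bmod p : ℤ) : ℝ) * ((K.bmod p : ℤ) : ℝ) = 1)
    rcases Int.mul_eq_one_iff_eq_one_or_neg_one.1 h3 with ⟨h, -⟩ | ⟨h, -⟩
    · left; rw [hgk, h, Int.cast_one]
    · right; rw [hgk, h, Int.cast_neg, Int.cast_one]

/-- For an odd prime the sign is determined by the residue. -/
theorem sign_unique {p : ℕ} (hp : p.Prime) (hodd : p ≠ 2) {g g' : ℂ} (hg : g = 1 ∨ g = -1)
    (hg' : g' = 1 ∨ g' = -1) (h : IsIntegral ℤ ((g - g') / p)) : g = g' := by
  have key : ∀ c : ℤ, IsIntegral ℤ ((c : ℂ) / p) → (p : ℤ) ∣ c := by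
    intro c hc
    have e : ((c : ℂ) / p) = (((c : ℚ) / p : ℚ) : ℂ) := by push_cast; rfl
    obtain ⟨k, hk⟩ := exists_int_of_isIntegral_ratCast (e ▸ hc)
    refine ⟨k, ?_⟩
    have hp0 : (p : ℚ) ≠ 0 := Nat.cast_ne_zero.2 hp.ne_zero
    rw [div_eq_iff hp0] at hk
    exact_mod_cast hk.trans (mul_comm _ _)
  have h2 : ¬ (p : ℤ) ∣ 2 := fun h2 => hodd
    ((Nat.prime_dvd_prime_iff_eq hp Nat.prime_two).1 (Int.natCast_dvd_natCast.1 h2))
  rcases hg with rfl | rfl <;> rcases hg' with rfl | rfl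
  · rfl
  · exact absurd (key 2 (by convert h using 2; norm_num)) h2
  · exact absurd (dvd_neg.1 (key (-2) (by convert h using 2; norm_num))) h2
  · rfl

/-- `(∑ k x)^p ≡ ∑ k x^p` modulo `p`. -/
theorem isIntegral_sum_pow {p : ℕ} (hp : p.Prime) {ι : Type*} (s : Finset ι) (k : ι → ℤ)
    (x : ι → ℂ) (hx : ∀ i ∈ s, IsIntegral ℤ (x i)) :
    IsIntegral ℤ (((∑ i ∈ s, (k i : ℂ) * x i) ^ p - ∑ i ∈ s, (k i : ℂ) * x i ^ p) / p) := by
  classical
  have hp0 : (p : ℂ) ≠ 0 := Nat.cast_ne_zero.2 hp.ne_zero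
  have hI : ∀ z : ℤ, IsIntegral ℤ (z : ℂ) := fun z => by
    simpa using (isIntegral_algebraMap (R := ℤ) (A := ℂ) (x := z))
  induction s using Finset.induction_on with
  | empty => simp [zero_pow hp.ne_zero, isIntegral_zero]
  | insert j s hj ih =>
    have hxs : ∀ i ∈ s, IsIntegral ℤ (x i) := fun i hi => hx i (Finset.mem_insert_of_mem hi)
    set A : AlgInt := ⟨(k j : ℂ) * x j,
      (hI _).mul (hx j (Finset.mem_insert_self _ _))⟩ with hA
    set B : AlgInt := ⟨∑ i ∈ s, (k i : ℂ) * x i,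
      IsIntegral.sum _ fun i hi => (hI _).mul (hxs i hi)⟩ with hB
    obtain ⟨r, hr⟩ := exists_add_pow_prime_eq hp A B
    have hr' := congrArg (fun z : AlgInt => (z : ℂ)) hr
    simp only [hA, hB, AddMemClass.coe_add, SubmonoidClass.coe_pow, MulMemClass.coe_mul] at hr'
    push_cast at hr'
    obtain ⟨q, hq⟩ : (p : ℤ) ∣ k j ^ p - k j := by
      haveI := Fact.mk hp
      rw [← ZMod.intCast_zmod_eq_zero_iff_dvd]
      push_cast
      rw [ZMod.pow_card, sub_self]
    have hq' := congrArg (fun z : ℤ => (z : ℂ)) hq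
    push_cast at hq'
    rw [Finset.sum_insert hj, Finset.sum_insert hj, hr']
    have e : (((k j : ℂ) * x j) ^ p + (∑ i ∈ s, (k i : ℂ) * x i) ^ p +
        (p : ℂ) * ((k j : ℂ) * x j) * (∑ i ∈ s, (k i : ℂ) * x i) * (r : ℂ) -
        ((k j : ℂ) * x j ^ p + ∑ i ∈ s, (k i : ℂ) * x i ^ p)) / p =
        ((∑ i ∈ s, (k i : ℂ) * x i) ^ p - ∑ i ∈ s, (k i : ℂ) * x i ^ p) / p +
          (q : ℂ) * x j ^ p + ((k j : ℂ) * x j) * (∑ i ∈ s, (k i : ℂ) * x i) * (r : ℂ) := by
      field_simp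
      linear_combination x j ^ p * hq'
    rw [e]
    exact ((ih hxs).add ((hI q).mul ((hx j (Finset.mem_insert_self _ _)).pow p))).add
      (((A.2).mul B.2).mul r.2)

end CfsgLib.Blocks
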