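import Cfsg.Agent.Lib.Blocks.CyclicSection
import Cfsg.Agent.Lib.Blocks.CyclicArith

/-!
# Nested local projections of the characters of a block with cyclic defect group
-/

namespace CfsgLib.Blocks

open Cfsg CfsgLib.CharTheory
open scoped ComplexConjugate

set_option linter.unusedVariables false
set_option linter.unusedSimpArgs false
set_option linter.style.haveILetI false
set_option linter.unusedSectionVars false

universe u

variable {p : ℕ} {M : Ideal AlgInt} {G : Type u} [Group G] [Fintype G]

theorem cval_congr {u : G} {a : BrauerPairIdx G} {F F' : G → ℂ}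
    (h : ∀ c ∈ Subgroup.centralizer (a.1 : Set G), F (u * c) = F' (u * c)) :
    cval u a F = cval u a F' := by
  unfold cval
  rw [show sec u (Subgroup.centralizer (a.1 : Set G)) F =
    sec u (Subgroup.centralizer (a.1 : Set G)) F' from funext fun c => h c c.2]

theorem cval_smul (u : G) (a : BrauerPairIdx G) (k : ℂ) (F : G → ℂ) :
    cval u a (fun g => k * F g) = k * cval u a F := by
  have h := cval_sum u a ({()} : Finset Unit) (fun _ => k) (fun _ => F)
  simpa using h

theorem cval_upIdx {H : Subgroup G} [Fintype H] (x : BrauerPairIdx H)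
    (ha : Subgroup.centralizer ((x.1.map H.subtype : Subgroup G) : Set G) ≤ H) (u : H)
    (F : G → ℂ) : cval (u : G) (upIdx x ha) F = cval u x (fun h : H => F h) := by
  classical
  obtain ⟨R, g⟩ := x
  haveI := Fintype.ofFinite (Subgroup.centralizer (R : Set H))
  haveI := Fintype.ofFinite
    (Subgroup.centralizer ((R.map H.subtype : Subgroup G) : Set G))
  show blockPart (irrPull (upE R ha) '' g) (sec (u : G) (Subgroup.centralizer
      ((R.map H.subtype : Subgroup G) : Set G)) F) 1 / (bdeg (irrPull (upE R ha) '' g) : ℂ) =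
    blockPart g (sec u (Subgroup.centralizer (R : Set H)) (fun h : H => F h)) 1 / (bdeg g : ℂ)
  rw [bdeg_image, show sec (u : G) (Subgroup.centralizer
      ((R.map H.subtype : Subgroup G) : Set G)) F = fun c =>
      sec u (Subgroup.centralizer (R : Set H)) (fun h : H => F h) (upE R ha c) from rfl,
    blockPart_image, map_one]

theorem cval_sext_expand {H : Subgroup G} [Fintype H] {u : G} (hu : u ∈ H) {a : BrauerPairIdx G}
    (hC : Subgroup.centralizer (a.1 : Set G) ≤ H) {F : G → ℂ} (k : IrrCharacter H → ℂ)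
    (hk : ∀ h : H, F h = ∑ ξ, k ξ * (ξ : H → ℂ) h) :
    cval u a F = ∑ ξ, k ξ * cval u a (sext H (ξ : H → ℂ)) := by
  rw [← cval_sum]
  refine cval_congr fun c hc => ?_
  have hm : u * c ∈ H := H.mul_mem hu (hC hc)
  rw [show u * c = ((⟨u * c, hm⟩ : H) : G) from rfl, hk]
  exact Finset.sum_congr rfl fun ξ _ => by rw [sext_coe]

theorem cval_central {H : Subgroup G} [Fintype H] {v : H} (hv : v ∈ Subgroup.center H)
    {a : BrauerPairIdx G} (hC : Subgroup.centralizer (a.1 : Set G) ≤ H) (ξ : IrrCharacter H) :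
    cval (v : G) a (sext H (ξ : H → ℂ)) =
      (ξ : H → ℂ) v / (ξ : H → ℂ) 1 * cval (1 : G) a (sext H (ξ : H → ℂ)) := by
  rw [← cval_smul]
  classical
  obtain ⟨Q, b⟩ := a
  haveI := Fintype.ofFinite (Subgroup.centralizer (Q : Set G))
  simp only [cval]
  congr 2
  funext c
  simp only [sec]
  have hc : (c : G) ∈ H := hC c.2
  rw [show ((v : G) * (c : G)) = ((v * ⟨c, hc⟩ : H) : G) from rfl, sext_coe, central_value_mul hv,
    one_mul]
  exact congrArg _ (sext_coe H (ξ : H → ℂ) ⟨c, hc⟩).symm

theorem cval_one_congr (hM : IsPModular p M) {Q : Subgroup G}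
    {b : Set (IrrCharacter (Subgroup.centralizer (Q : Set G)))} (hb : IsPBlock M b) {F F' : G → ℂ}
    (h : ∀ c ∈ Subgroup.centralizer (Q : Set G), ¬ p ∣ orderOf c → F c = F' c) :
    cval (1 : G) ⟨Q, b⟩ F = cval (1 : G) ⟨Q, b⟩ F' := by
  classical
  haveI := Fintype.ofFinite (Subgroup.centralizer (Q : Set G))
  have h1 : ¬ p ∣ orderOf (1 : Subgroup.centralizer (Q : Set G)) := by
    rw [orderOf_one]; exact hM.1.not_dvd_one
  have hU : ∀ ψ ∈ b, blockOf M (ψ : Subgroup.centralizer (Q : Set G) → ℂ) ⊆ b :=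
    fun ψ hψ => (eq_blockOf hM hb hψ).ge
  simp only [cval, blockPart_regular hM hU _ h1]
  congr 2
  refine Finset.sum_congr rfl fun c hc => ?_
  simp only [sec, one_mul]
  rw [h c c.2 (by rw [Subgroup.orderOf_coe]; exact (Finset.mem_filter.1 hc).2)]

theorem cval_self (hM : IsPModular p M) {Q : Subgroup G}
    [Fintype (Subgroup.centralizer (Q : Set G))]
    {b : Set (IrrCharacter (Subgroup.centralizer (Q : Set G)))}
    {d : IrrCharacter (Subgroup.centralizer (Q : Set G)) → ℕ}
    (hf : 0 < bdeg b) (hdeg : ∀ χ ∈ b,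
      charDegree (χ : Subgroup.centralizer (Q : Set G) → ℂ) = d χ * bdeg b)
    (θ : IrrCharacter (Subgroup.centralizer (Q : Set G))) :
    cval (1 : G) ⟨Q, b⟩ (sext (Subgroup.centralizer (Q : Set G))
      (θ : Subgroup.centralizer (Q : Set G) → ℂ)) = ind b θ * (d θ : ℂ) := by
  classical
  have e : sec (1 : G) (Subgroup.centralizer (Q : Set G)) (sext (Subgroup.centralizer (Q : Set G))
      (θ : Subgroup.centralizer (Q : Set G) → ℂ)) =
      (θ : Subgroup.centralizer (Q : Set G) → ℂ) := funext fun c => by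
    simp only [sec, one_mul, sext_coe]
  simp only [cval]
  rw [e, blockPart_linear]
  by_cases hθ : θ ∈ b
  · rw [ind_of_mem hθ, one_mul, one_mul, ← irr_charDegree_cast θ, hdeg θ hθ, Nat.cast_mul,
      mul_div_cancel_right₀ _ (Nat.cast_ne_zero.2 hf.ne')]
  · rw [ind_of_notMem hθ]; simp

namespace CycData

variable {B : Set (IrrCharacter G)} {P : Subgroup G}
  {c : Set (IrrCharacter (Subgroup.centralizer (P : Set G)))} {a : ℕ} (h : CycData p M B P c a)

include h

/-- The pair at `Q` as a pair of the block at `Q' ≤ Q`. -/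
theorem pair_in {Q' Q : Subgroup G} (h1 : Q' ≤ Q) (h2 : Q ≤ P)
    [Fintype (Subgroup.centralizer (Q' : Set G))] :
    ∃ (x : BrauerPairIdx (Subgroup.centralizer (Q' : Set G)))
      (hx : Subgroup.centralizer ((x.1.map (Subgroup.centralizer (Q' : Set G)).subtype :
        Subgroup G) : Set G) ≤ Subgroup.centralizer (Q' : Set G)),
      upIdx x hx = belowIdx p M P c Q ∧
        IsBrauerPairOf p M (belowIdx p M P c Q').2 x.1 x.2 := by
  classical
  obtain ⟨hb, hle⟩ := h.below_spec h2
  have hQC : Q ≤ Subgroup.centralizer (Q' : Set G) := h2.trans (h.le_centralizer (h1.trans h2))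
  obtain ⟨x, hx, hup, hxb⟩ := exists_upIdx (H := Subgroup.centralizer (Q' : Set G))
    hQC (centralizer_anti h1) hb
  have hRp : IsPGroup p x.1 := by
    have hmap : x.1.map (Subgroup.centralizer (Q' : Set G)).subtype = Q := le_map_subtype_of_eq hup
    exact (h.isP.to_le h2).of_equiv ((Subgroup.equivMapOfInjective x.1 _
      Subtype.coe_injective).trans (MulEquiv.subgroupCongr hmap)).symm
  obtain ⟨f', hf'⟩ := exists_block_of_pair h.mod hRp hxb
  have hstep := normalSubpair_of_pairOf h.mod h1 (h.isP.to_le h2) hQC hf'.2.1 hb hup hf'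
  obtain ⟨g1, g2⟩ := h.below_spec (h1.trans h2)
  have e : f' = (belowIdx p M P c Q').2 := subpair_unique h.mod h.isP h.isBlockC hf'.2.1 g1
    (Relation.ReflTransGen.trans (Relation.ReflTransGen.single
      (show NormalSubpairRel p M ⟨Q', f'⟩ ⟨Q, (belowIdx p M P c Q).2⟩ from hstep))
      (show Relation.ReflTransGen (NormalSubpairRel p M) ⟨Q, (belowIdx p M P c Q).2⟩ ⟨P, c⟩
        from hle)) g2
  exact ⟨x, hx, hup, e ▸ hf'⟩

/-- Second main theorem inside a local subgroup. -/
theorem cval_off_local {Q' : Subgroup G} [Fintype (Subgroup.centralizer (Q' : Set G))] {u : G}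
    (hu : u ∈ P) (h1 : Q' ≤ Subgroup.zpowers u)
    {ξ : IrrCharacter (Subgroup.centralizer (Q' : Set G))}
    (hξ : ξ ∉ (belowIdx p M P c Q').2) :
    cval u (belowIdx p M P c (Subgroup.zpowers u))
      (sext (Subgroup.centralizer (Q' : Set G))
        (ξ : Subgroup.centralizer (Q' : Set G) → ℂ)) = 0 := by
  classical
  set H := Subgroup.centralizer (Q' : Set G) with hH
  obtain ⟨x, hx, hup, hpair⟩ := h.pair_in h1 (h.zpowers_le hu)
  have hmap : x.1.map H.subtype = Subgroup.zpowers u := le_map_subtype_of_eq hup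
  have huH : u ∈ H := h.le_centralizer (h1.trans (h.zpowers_le hu)) hu
  set U : H := ⟨u, huH⟩ with hU
  have hR : x.1 = Subgroup.zpowers U := by
    apply Subgroup.map_injective (f := H.subtype) Subtype.coe_injective
    rw [hmap, MonoidHom.map_zpowers]
    rfl
  rw [← hup, show u = (U : G) from rfl, cval_upIdx]
  simp only [hH, sext_coe]
  obtain ⟨R, g⟩ := x
  change R = Subgroup.zpowers U at hR
  subst hR
  haveI := Fintype.ofFinite (Subgroup.centralizer ((Subgroup.zpowers U : Subgroup H) : Set H))
  have hord : ∃ k : ℕ, orderOf U = p ^ k := by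
    rw [hU, Subgroup.orderOf_mk]; exact h.ord hu
  exact cval_off h.mod (isCentr_zpowers U) hord ((induced_centralizer_iff h.mod hpair.1.1).2 hpair)
    hξ

/-- The values on the subsections, completed by one at the identity. -/
noncomputable def dval (_h : CycData p M B P c a) (v : G) (χ : IrrCharacter G) : ℂ :=
  open Classical in if v = 1 then 1 else dsec p M P c v (χ : G → ℂ)

theorem dval_one (χ : IrrCharacter G) : h.dval 1 χ = 1 := by simp [dval]

theorem dval_eq {v : G} (hv : v ≠ 1) (χ : IrrCharacter G) :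
    h.dval v χ = dsec p M P c v (χ : G → ℂ) := by simp [dval, hv]

/-- The nested projection at `Q` of a character: an integral combination of the characters of
`C(Q)` with the values of `χ` on all elements of `Q`, up to integral factors independent of `χ`. -/
theorem exists_nested (hreg : ∀ χ ∈ B, ∀ χ' ∈ B, ∀ x : G, ¬ p ∣ orderOf x →
      (χ : G → ℂ) x = (χ' : G → ℂ) x) :
    ∀ (n : ℕ) (u : G), u ∈ P → u ≠ 1 → orderOf u = p ^ n →
      ∀ [Fintype (Subgroup.centralizer ((Subgroup.zpowers u : Subgroup G) : Set G))],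
      ∃ m : G → ℤ, (∀ v, Subgroup.zpowers v = Subgroup.zpowers u → m v = 1) ∧
        ∀ ψ ∈ B, ∃ F : IrrCharacter (Subgroup.centralizer
            ((Subgroup.zpowers u : Subgroup G) : Set G)) → ℤ,
          (∀ w ∈ P, Subgroup.zpowers u ≤ Subgroup.zpowers w →
            ∑ θ, (F θ : ℂ) * cval w (belowIdx p M P c (Subgroup.zpowers w))
              (sext _ (θ : Subgroup.centralizer
                ((Subgroup.zpowers u : Subgroup G) : Set G) → ℂ)) =
              dsec p M P c w (ψ : G → ℂ)) ∧
          ∀ v ∈ Subgroup.zpowers u,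
            ∑ θ, (F θ : ℂ) * cval v (belowIdx p M P c (Subgroup.zpowers u))
              (sext _ (θ : Subgroup.centralizer
                ((Subgroup.zpowers u : Subgroup G) : Set G) → ℂ)) = (m v : ℂ) * h.dval v ψ := by
  classical
  haveI : ∀ Q : Subgroup G, Fintype (Subgroup.centralizer (Q : Set G)) :=
    fun Q => Fintype.ofFinite _
  intro n
  induction n with
  | zero =>
    intro u _ hu1 hord
    exact absurd (orderOf_eq_one_iff.1 (by rw [hord, pow_zero])) hu1
  | succ n ih =>
    intro u hu hu1 hord inst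
    set Q := Subgroup.zpowers u with hQ
    set H := Subgroup.centralizer (Q : Set G) with hH
    have hQP : Q ≤ P := h.zpowers_le hu
    obtain ⟨φ, d, nn, hf, -, -, hval, hdeg, -, hdn, -⟩ := single_block h.mod (h.below_spec hQP).1
      (h.below_props hQP (zpowers_ne_bot hu1)).2.2.1
    have hup : orderOf (u ^ p) = p ^ n := by
      rw [orderOf_pow_of_dvd h.prime.ne_zero (by rw [hord, pow_succ']; exact dvd_mul_right _ _),
        hord, pow_succ', Nat.mul_div_cancel_left _ h.prime.pos]
    have hgen : ∀ v ∈ Q, Subgroup.zpowers v ≠ Q → v ∈ Subgroup.zpowers (u ^ p) := by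
      rintro v ⟨i, rfl⟩ hne
      by_cases hd : (p : ℤ) ∣ i
      · obtain ⟨j, rfl⟩ := hd
        exact ⟨j, by
          show (u ^ p) ^ j = u ^ ((p : ℤ) * j)
          rw [zpow_mul, zpow_natCast]⟩
      · refine absurd (le_antisymm (Subgroup.zpowers_le.2 (Q.zpow_mem (Subgroup.mem_zpowers u) i)) (Subgroup.zpowers_le.2 ?_)) hne
        obtain ⟨r, s, hrs⟩ : IsCoprime i ((p ^ (n + 1) : ℕ) : ℤ) := by
          push_cast
          exact ((Nat.prime_iff_prime_int.1 h.prime).coprime_iff_not_dvd.2 hd).symm.pow_right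
        refine Subgroup.mem_zpowers_iff.2 ⟨r, ?_⟩
        show (u ^ i) ^ r = u
        have h1 : u ^ (((p ^ (n + 1) : ℕ) : ℤ)) = 1 := by
          rw [zpow_natCast, ← hord, pow_orderOf_eq_one]
        rw [← zpow_mul, show i * r = 1 - s * ((p ^ (n + 1) : ℕ) : ℤ) by linarith, zpow_sub, zpow_one,
          mul_comm s, zpow_mul, h1, one_zpow, inv_one, mul_one]
    -- the data one level below
    obtain ⟨m', hF'⟩ : ∃ (m' : G → ℤ), ∀ ψ ∈ B, ∃ F : G → ℂ,
          (∀ w ∈ P, Q ≤ Subgroup.zpowers w →
            cval w (belowIdx p M P c (Subgroup.zpowers w)) F = dsec p M P c w (ψ : G → ℂ)) ∧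
          (∃ k : IrrCharacter H → ℤ, ∀ y : H, F (y : G) = ∑ θ, (k θ : ℂ) * (θ : H → ℂ) y) ∧
          ∀ v ∈ Subgroup.zpowers (u ^ p),
            cval v (belowIdx p M P c Q) F = (m' v : ℂ) * h.dval v ψ := by
      rcases eq_or_ne (u ^ p) 1 with hp1 | hp1
      · -- the first level: the character itself
        have hres : ∀ ψ : IrrCharacter G, ∃ k : IrrCharacter H → ℕ, ∀ y : H, (ψ : G → ℂ) y =
            ∑ θ, (k θ : ℂ) * (θ : H → ℂ) y := fun ψ => by
          choose k hk using fun θ : IrrCharacter H =>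
            classInner_char_nat (isCharacter_restrict_irr H ψ) (isCharacter_of_irr θ.2)
          refine ⟨k, fun y => ?_⟩
          have := congrFun (eq_sum_irr (isClassFunction_char (isCharacter_restrict_irr H ψ))) y
          simpa [hk] using this
        obtain ⟨ψ₀, hψ₀⟩ := block_nonempty h.mod h.isBlock
        obtain ⟨k₀, hk₀⟩ := hres ψ₀
        refine ⟨fun _ => ∑ θ ∈ bset (belowIdx p M P c Q).2, (k₀ θ : ℤ) * d θ, fun ψ hψ =>
          ⟨(ψ : G → ℂ), fun w _ _ => rfl, ?_, fun v hv => ?_⟩⟩
        · obtain ⟨k, hk⟩ := hres ψ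
          exact ⟨fun θ => (k θ : ℤ), fun y => by simpa using hk y⟩
        · rw [hp1, Subgroup.zpowers_one_eq_bot, Subgroup.mem_bot] at hv
          subst hv
          rw [h.dval_one, mul_one]
          have e1 : cval (1 : G) (belowIdx p M P c Q) (ψ : G → ℂ) =
              cval (1 : G) (belowIdx p M P c Q) (ψ₀ : G → ℂ) :=
            cval_one_congr h.mod (h.below_spec hQP).1 fun y _ hy => hreg ψ hψ ψ₀ hψ₀ y hy
          rw [e1, cval_sext_expand H.one_mem le_rfl (fun θ => (k₀ θ : ℂ)) hk₀]
          push_cast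
          rw [← sum_ind_mul (belowIdx p M P c Q).2]
          refine Finset.sum_congr rfl fun θ _ => ?_
          rw [cval_self h.mod hf hdeg θ]
          ring
      · have hu' : u ^ p ∈ P := P.pow_mem hu p
        set Q' := Subgroup.zpowers (u ^ p) with hQ'
        set H' := Subgroup.centralizer (Q' : Set G) with hH'
        obtain ⟨m, hm1, hm⟩ := ih (u ^ p) hu' hp1 hup
        have hQQ : Q' ≤ Q := Subgroup.zpowers_le.2 (Q.pow_mem (Subgroup.mem_zpowers u) p)
        obtain ⟨φ', d', n', hf', -, hφ', hval', hdeg', -, hdn', -⟩ := single_block h.mod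
          (h.below_spec (hQQ.trans hQP)).1
          (h.below_props (hQQ.trans hQP) (zpowers_ne_bot hp1)).2.2.1
        have hHH : H ≤ H' := centralizer_anti hQQ
        -- the multiplier
        set K : ℂ := cval (1 : G) (belowIdx p M P c Q) (sext H' φ') with hKdef
        have hK : ∀ ξ ∈ (belowIdx p M P c Q').2,
            cval (1 : G) (belowIdx p M P c Q) (sext H' (ξ : H' → ℂ)) = (d' ξ : ℂ) * K := by
          intro ξ hξ
          rw [hKdef, ← cval_smul]
          refine cval_one_congr h.mod (h.below_spec hQP).1 fun y hy hyr => ?_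
          rw [show y = ((⟨y, hHH hy⟩ : H') : G) from rfl, sext_coe, sext_coe]
          exact hval' ξ hξ _ (by rwa [Subgroup.orderOf_mk])
        have hres : ∀ ξ : IrrCharacter H', ∃ k : IrrCharacter H → ℕ, ∀ y : H,
            sext H' (ξ : H' → ℂ) y = ∑ θ, (k θ : ℂ) * (θ : H → ℂ) y := fun ξ => by
          have hc : IsCharacter H (fun y : H => (ξ : H' → ℂ) (Subgroup.inclusion hHH y)) :=
            isCharacter_comp (isCharacter_of_irr ξ.2) (Subgroup.inclusion hHH)
          choose k hk using fun θ : IrrCharacter H =>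
            classInner_char_nat hc (isCharacter_of_irr θ.2)
          refine ⟨k, fun y => ?_⟩
          rw [show (y : G) = ((Subgroup.inclusion hHH y : H') : G) from rfl, sext_coe]
          have := congrFun (eq_sum_irr (isClassFunction_char hc)) y
          simpa [hk] using this
        choose kk hkk using hres
        obtain ⟨K', hK'⟩ : ∃ K' : ℤ, K = (K' : ℂ) := by
          refine ⟨∑ ξ ∈ bset (belowIdx p M P c Q').2,
            n' ξ * ∑ θ ∈ bset (belowIdx p M P c Q).2, (kk ξ θ : ℤ) * d θ, ?_⟩
          have h1 : K = ∑ ξ ∈ bset (belowIdx p M P c Q').2, (n' ξ : ℂ) * ((d' ξ : ℂ) * K) := by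
            have h2 := congrArg (fun z : ℤ => (z : ℂ)) hdn'
            push_cast at h2
            conv_lhs => rw [← one_mul K, ← h2, Finset.sum_mul]
            exact Finset.sum_congr rfl fun ξ _ => by ring
          rw [h1]
          push_cast
          refine Finset.sum_congr rfl fun ξ hξ => ?_
          rw [← hK ξ (mem_bset.1 hξ), cval_sext_expand H.one_mem le_rfl
            (fun θ => (kk ξ θ : ℂ)) (hkk ξ), ← sum_ind_mul (belowIdx p M P c Q).2]
          refine congrArg ((n' ξ : ℂ) * ·) (Finset.sum_congr rfl fun θ _ => ?_)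
          rw [cval_self h.mod hf hdeg θ]
          ring
        refine ⟨fun v => K' * m v, fun ψ hψ => ?_⟩
        obtain ⟨F', hFw, hFv⟩ := hm ψ hψ
        -- keep the local block only
        set F : G → ℂ := fun g => ∑ ξ, ((F' ξ : ℂ) * ind (belowIdx p M P c Q').2 ξ) *
          sext H' (ξ : H' → ℂ) g with hF
        refine ⟨F, fun w hw hle => ?_, ?_, fun v hv => ?_⟩
        · rw [hF, cval_sum, ← hFw w hw (hQQ.trans hle)]
          refine Finset.sum_congr rfl fun ξ _ => ?_
          by_cases hξ : ξ ∈ (belowIdx p M P c Q').2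
          · rw [ind_of_mem hξ, mul_one]
          · rw [h.cval_off_local hw (hQQ.trans hle) hξ, mul_zero, mul_zero]
        · refine ⟨fun θ => ∑ ξ ∈ bset (belowIdx p M P c Q').2, F' ξ * (kk ξ θ : ℤ), fun y => ?_⟩
          simp only [hF, hkk, Finset.mul_sum]
          rw [Finset.sum_comm]
          refine Finset.sum_congr rfl fun θ _ => ?_
          push_cast
          rw [Finset.sum_mul, ← sum_ind_mul (belowIdx p M P c Q').2]
          exact Finset.sum_congr rfl fun ξ _ => by ring
        · push_cast
          rw [mul_assoc, ← hFv v hv, hF, cval_sum, Finset.mul_sum]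
          refine Finset.sum_congr rfl fun ξ _ => ?_
          have hvH : v ∈ H' := (h.le_centralizer (hQQ.trans hQP)) (hQQ.trans hQP hv)
          have hvc : (⟨v, hvH⟩ : H') ∈ Subgroup.center H' :=
            Subgroup.mem_center_iff.2 fun y => Subtype.ext (y.2 v hv).symm
          have e := fun (R : Subgroup G) (hR : Subgroup.centralizer (R : Set G) ≤ H') =>
            cval_central (v := (⟨v, hvH⟩ : H')) hvc (a := belowIdx p M P c R) hR ξ
          rw [e Q hHH, e Q' le_rfl, cval_self h.mod hf' hdeg' ξ]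
          by_cases hξ : ξ ∈ (belowIdx p M P c Q').2
          · rw [ind_of_mem hξ, hK ξ hξ, hK']
            ring
          · rw [ind_of_notMem hξ]
            ring
    -- the new level
    refine ⟨fun v => if v ∈ Subgroup.zpowers (u ^ p) then m' v else 1, fun v hv => ?_, fun ψ hψ => ?_⟩
    · refine if_neg fun hvp => ?_
      have h1 := Subgroup.card_le_of_le (Subgroup.zpowers_le.2 hvp)
      rw [hv, Nat.card_zpowers, Nat.card_zpowers, hord, hup, pow_succ] at h1
      exact absurd h1 (not_le.2 (lt_mul_of_one_lt_right (pow_pos h.prime.pos n) h.prime.one_lt))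
    obtain ⟨F, hFw, ⟨k, hk⟩, hFv⟩ := hF' ψ hψ
    have huH : ∀ {v : G}, v ∈ Q → v ∈ H := fun {v} hv => h.le_centralizer hQP (hQP hv)
    refine ⟨k, fun w hw hle => ?_, fun v hv => ?_⟩
    · have hwH : w ∈ H := h.le_centralizer hQP hw
      rw [← cval_sext_expand hwH (centralizer_anti hle) (fun θ => (k θ : ℂ)) hk]
      exact hFw w hw hle
    · rw [← cval_sext_expand (huH hv) le_rfl (fun θ => (k θ : ℂ)) hk]
      by_cases hvp : v ∈ Subgroup.zpowers (u ^ p)
      · simp only [if_pos hvp]
        exact hFv v hvp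
      · simp only [if_neg hvp, Int.cast_one, one_mul]
        have hvQ : Subgroup.zpowers v = Q := by
          by_contra hne
          exact hvp (hgen v hv hne)
        rw [h.dval_eq (fun h1 => hvp (by rw [h1]; exact Subgroup.one_mem _))]
        have := hFw v (hQP hv) hvQ.ge
        rwa [hvQ] at this

end CycData

end CfsgLib.Blocks
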