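import Cfsg.Agent.Lib.Blocks.CyclicSection
import Cfsg.Agent.Lib.Blocks.CyclicNested
import Cfsg.Agent.Lib.Blocks.Nilpotent

/-!
# Blocks with abelian defect group whose proper subsections have one Brauer character each
-/

namespace CfsgLib.Blocks

open Cfsg CfsgLib.CharTheory
open scoped ComplexConjugate

set_option linter.unusedVariables false
set_option linter.unusedSimpArgs false
set_option linter.style.haveILetI false
set_option linter.unusedSectionVars false

universe u

variable {p : ℕ} {M : Ideal AlgInt} {G : Type u} [Group G] [Fintype G]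

/-- A block with an abelian defect group of order `p ^ a`, whose subsections at elements `≠ 1`
have one Brauer character each. -/
structure AbData (p : ℕ) (M : Ideal AlgInt) (B : Set (IrrCharacter G)) (P : Subgroup G)
    (c : Set (IrrCharacter (Subgroup.centralizer (P : Set G)))) (a : ℕ) : Prop where
  mod : IsPModular p M
  max : IsMaximalBrauerPair p M B P c
  comm : ∀ x ∈ P, ∀ y ∈ P, x * y = y * x
  card : Nat.card P = p ^ a
  rankOne : ∀ u ∈ P, u ≠ 1 → blockRank p (belowIdx p M P c (Subgroup.zpowers u)).2 = 1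

theorem CycData.toAb {B : Set (IrrCharacter G)} {P : Subgroup G}
    {c : Set (IrrCharacter (Subgroup.centralizer (P : Set G)))} {a : ℕ} (h : CycData p M B P c a) :
    AbData p M B P c a :=
  ⟨h.mod, h.max, h.comm, h.card, fun u hu hu1 =>
    (h.below_props (h.zpowers_le hu) (CycData.zpowers_ne_bot hu1)).2.2.1⟩

namespace AbData

variable {B : Set (IrrCharacter G)} {P : Subgroup G}
  {c : Set (IrrCharacter (Subgroup.centralizer (P : Set G)))} {a : ℕ} (h : AbData p M B P c a)

include h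

theorem prime : p.Prime := h.mod.1

theorem isP : IsPGroup p P := h.max.1.1.1

theorem isBlock : IsPBlock M B := h.max.1.2.1

theorem isBlockC : IsPBlock M c := h.max.1.1.2

theorem isDefect : IsDefectGroup p M B P := maximal_isDefectGroup h.mod h.max

theorem defect : blockDefect p B = a :=
  (Nat.pow_right_injective h.prime.two_le
    (h.card.symm.trans (card_defectGroup h.mod h.isBlock h.isDefect))).symm

theorem le_centralizer {Q : Subgroup G} (hQ : Q ≤ P) : P ≤ Subgroup.centralizer (Q : Set G) :=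
  fun x hx q hq => h.comm q (hQ hq) x hx

theorem zpowers_le {u : G} (hu : u ∈ P) : Subgroup.zpowers u ≤ P := Subgroup.zpowers_le.2 hu

theorem ord {u : G} (hu : u ∈ P) : ∃ k : ℕ, orderOf u = p ^ k := by
  haveI : Fact p.Prime := ⟨h.prime⟩
  obtain ⟨k, hk⟩ := IsPGroup.iff_orderOf.1 h.isP ⟨u, hu⟩
  exact ⟨k, by rw [← hk, Subgroup.orderOf_mk]⟩

theorem below_spec {Q : Subgroup G} (hQ : Q ≤ P) :
    IsPBlock M (belowIdx p M P c Q).2 ∧ SubpairLE p M Q (belowIdx p M P c Q).2 P c := by
  obtain ⟨f, hf, -⟩ := existsUnique_subpair h.mod h.isP h.isBlockC Q hQ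
  exact Classical.epsilon_spec (p := fun f => IsPBlock M f ∧ SubpairLE p M Q f P c) ⟨f, hf⟩

theorem below_eq {a' : BrauerPairIdx G} (hb : IsPBlock M a'.2)
    (hle : Relation.ReflTransGen (NormalSubpairRel p M) a' ⟨P, c⟩) :
    a' = belowIdx p M P c a'.1 := by
  obtain ⟨Q, f⟩ := a'
  obtain ⟨h1, h2⟩ := h.below_spec (Q := Q) (subpairLE_le hle)
  exact congrArg (Sigma.mk Q) (subpair_unique h.mod h.isP h.isBlockC hb h1 hle h2)

theorem induced_below {Q : Subgroup G} (hQ : Q ≤ P)
    [Fintype (Subgroup.centralizer (Q : Set G))] :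
    IsInducedBlock M (Subgroup.centralizer (Q : Set G)) (belowIdx p M P c Q).2 B :=
  (induced_centralizer_iff h.mod (h.isP.to_le hQ)).2
    ((pairOf_subpair_iff h.mod (a := ⟨Q, (belowIdx p M P c Q).2⟩) (b := ⟨P, c⟩)
      (h.below_spec hQ).2 B).2 h.max.1)

theorem defect_below {Q : Subgroup G} (hQ : Q ≤ P) :
    blockDefect p (belowIdx p M P c Q).2 = a := by
  obtain ⟨hf, hle⟩ := h.below_spec hQ
  have e1 := card_centP_le h.mod h.isP hQ hf h.isBlockC hle
  rw [inf_eq_left.2 (h.le_centralizer hQ), h.card] at e1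
  obtain ⟨w, -, e2⟩ := exists_conj_centP h.mod h.max hf hle
  exact Nat.pow_right_injective h.prime.two_le
    (le_antisymm (e2.le.trans ((Subgroup.card_le_of_le inf_le_left).trans h.card.le)) e1)

theorem mem_stab_conj {t u : G} (ht : t ∈ pairStab P c) (hu : u ∈ P) : t * u * t⁻¹ ∈ P :=
  (Subgroup.mem_normalizer_iff.1 ((mem_pairStab t).1 ht).1 u).1 hu

theorem conjIdx_below {t : G} (ht : t ∈ pairStab P c) {Q : Subgroup G} (hQ : Q ≤ P) :
    conjIdx t (belowIdx p M P c Q) = belowIdx p M P c (Q.map (MulAut.conj t).toMonoidHom) := by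
  have hfix : conjIdx t (⟨P, c⟩ : BrauerPairIdx G) = ⟨P, c⟩ := ht
  obtain ⟨h1, h2⟩ := h.below_spec hQ
  have h3 := subpair_conj h.mod
    (show Relation.ReflTransGen (NormalSubpairRel p M) (belowIdx p M P c Q) ⟨P, c⟩ from h2) t
  rw [hfix] at h3
  exact h.below_eq (a' := conjIdx t (belowIdx p M P c Q)) (isPBlock_conjBlock h1 t) h3

theorem dsec_conj {t u : G} (ht : t ∈ pairStab P c) (hu : u ∈ P) (χ : IrrCharacter G) :
    dsec p M P c (t * u * t⁻¹) (χ : G → ℂ) = dsec p M P c u (χ : G → ℂ) := by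
  unfold dsec
  conv_rhs => rw [← cval_conj χ t u, h.conjIdx_below ht (h.zpowers_le hu), zpowers_conj]

theorem dsec_off {u : G} (hu : u ∈ P) {χ : IrrCharacter G} (hχ : χ ∉ B) :
    dsec p M P c u (χ : G → ℂ) = 0 := by
  haveI := Fintype.ofFinite (Subgroup.centralizer ((Subgroup.zpowers u : Subgroup G) : Set G))
  exact cval_off h.mod (isCentr_zpowers u) (h.ord hu) (h.induced_below (h.zpowers_le hu)) hχ

theorem secPair_eq {u : G} (hu : u ∈ P) (hu1 : u ≠ 1)
    [Fintype (Subgroup.centralizer ((Subgroup.zpowers u : Subgroup G) : Set G))] (F F' : G → ℂ) :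
    secPair p u (belowIdx p M P c (Subgroup.zpowers u)).2 F F' =
      dsec p M P c u F * conj (dsec p M P c u F') :=
  secPair_eq_cval h.mod (h.below_spec (h.zpowers_le hu)).1 (h.rankOne u hu hu1) u F F'

/-- Subsections below the pair are conjugate only by the stabilizer. -/
theorem conj_related {u v : G} (hu : u ∈ P) (hv : v ∈ P) {g : G} (hg : g * u * g⁻¹ = v)
    (hidx : conjIdx g (belowIdx p M P c (Subgroup.zpowers u)) =
      belowIdx p M P c (Subgroup.zpowers v)) :
    ∃ t ∈ pairStab P c, t * u * t⁻¹ = v := by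
  have hF := blockFusion_isBlockFusion h.mod h.max
  obtain ⟨-, h1⟩ := h.below_spec (h.zpowers_le hu)
  have h2 : Relation.ReflTransGen (NormalSubpairRel p M)
      (conjIdx g (belowIdx p M P c (Subgroup.zpowers u))) ⟨P, c⟩ := by
    rw [hidx]; exact (h.below_spec (h.zpowers_le hv)).2
  have hmem : conjHom (Subgroup.zpowers u) g ∈
      (blockFusion h.mod h.max).Hom (Subgroup.zpowers u) :=
    (hF.2 (Subgroup.zpowers u) _).2 ⟨h.zpowers_le hu, g, fun _ => rfl,
      subpairLE_le h2, _, h1, h2⟩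
  obtain ⟨t, ht, hte⟩ := exists_extend_abelian h.mod hF h.comm hmem
  exact ⟨t, ht, (hte ⟨u, Subgroup.mem_zpowers u⟩).symm.trans hg⟩

/-- The values on two subsections are orthogonal, with squares summing to `p ^ a`. -/
theorem dsec_orth {u v : G} (hu : u ∈ P) (hu1 : u ≠ 1) (hv : v ∈ P) (hv1 : v ≠ 1)
    [Decidable (∃ t ∈ pairStab P c, t * u * t⁻¹ = v)] :
    ∑ χ ∈ bset B, dsec p M P c u (χ : G → ℂ) * conj (dsec p M P c v (χ : G → ℂ)) =
      if ∃ t ∈ pairStab P c, t * u * t⁻¹ = v then (p : ℂ) ^ a else 0 := by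
  classical
  haveI : ∀ Q : Subgroup G, Fintype (Subgroup.centralizer (Q : Set G)) :=
    fun Q => Fintype.ofFinite _
  have hsum : ∑ χ ∈ bset B, dsec p M P c u (χ : G → ℂ) * conj (dsec p M P c v (χ : G → ℂ)) =
      ∑ χ : IrrCharacter G, dsec p M P c u (χ : G → ℂ) * conj (dsec p M P c v (χ : G → ℂ)) :=
    Finset.sum_subset (Finset.subset_univ _) fun χ _ hχ => by
      rw [h.dsec_off hu (fun h' => hχ (mem_bset.2 h')), zero_mul]
  have hb := fun {w : G} (hw : w ∈ P) => (h.below_spec (h.zpowers_le hw)).1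
  split_ifs with hr
  · obtain ⟨t, ht, rfl⟩ := hr
    simp only [h.dsec_conj ht hu]
    rw [← h.defect_below (h.zpowers_le hu)]
    exact sum_cval_sq h.mod (isCentr_zpowers u) (h.ord hu) (h.induced_below (h.zpowers_le hu))
      (h.rankOne u hu hu1)
  · rw [hsum]
    by_cases hc : IsConj u v
    · obtain ⟨g, rfl⟩ := isConj_iff.1 hc
      set a' := conjIdx g⁻¹ (belowIdx p M P c (Subgroup.zpowers (g * u * g⁻¹))) with ha'
      have hgu : g⁻¹ * (g * u * g⁻¹) * g⁻¹⁻¹ = u := by group
      have e : ∀ χ : IrrCharacter G, dsec p M P c (g * u * g⁻¹) (χ : G → ℂ) =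
          cval u a' (χ : G → ℂ) := fun χ => by
        have e2 := cval_conj χ g⁻¹ (g * u * g⁻¹) (belowIdx p M P c (Subgroup.zpowers (g * u * g⁻¹)))
        rw [hgu] at e2
        exact e2.symm
      simp only [e]
      have hblk : IsPBlock M a'.2 := isPBlock_conjBlock (hb hv) g⁻¹
      have h1 : a'.1 = Subgroup.zpowers u := by
        show (Subgroup.zpowers (g * u * g⁻¹)).map (MulAut.conj g⁻¹).toMonoidHom = _
        rw [zpowers_conj, hgu]
      have hback : conjIdx g a' = belowIdx p M P c (Subgroup.zpowers (g * u * g⁻¹)) := by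
        rw [ha', conjIdx_mul, mul_inv_cancel, conjIdx_one]
      obtain ⟨Q, b'⟩ := a'
      change Q = Subgroup.zpowers u at h1
      subst h1
      refine sum_cval_disjoint h.mod (isCentr_zpowers u) (h.ord hu) (hb hu) hblk fun heq => hr ?_
      refine h.conj_related hu hv (g := g) rfl ?_
      rw [← hback, ← heq]
    · exact sum_cval_ne h.mod (hb hv) (isCentr_zpowers u) (isCentr_zpowers v) (h.ord hu)
        (h.ord hv) (hb hu) hc

/-- The values are orthogonal to the values at regular elements. -/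
theorem dsec_regular {u : G} (hu : u ∈ P) (hu1 : u ≠ 1) {s : G} (hs : ¬ p ∣ orderOf s) :
    ∑ χ ∈ bset B, dsec p M P c u (χ : G → ℂ) * (χ : G → ℂ) s = 0 := by
  classical
  haveI : ∀ Q : Subgroup G, Fintype (Subgroup.centralizer (Q : Set G)) :=
    fun Q => Fintype.ofFinite _
  rw [Finset.sum_subset (Finset.subset_univ _) fun χ _ hχ => by
    rw [h.dsec_off hu (fun h' => hχ (mem_bset.2 h')), zero_mul]]
  have e : ∀ χ : IrrCharacter G, (χ : G → ℂ) s = conj ((χ : G → ℂ) s⁻¹) := fun χ => by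
    rw [irr_conjInv, inv_inv]
  simp only [e]
  refine sum_cval_mul_conj_irr h.mod (h.below_spec (h.zpowers_le hu)).1 fun y hy hcj => ?_
  obtain ⟨g, hg⟩ := isConj_iff.1 hcj
  have hcm : Commute (g * u * g⁻¹) (g * (y : G) * g⁻¹) :=
    ((isCentr_zpowers u _).1 y.2).symm.map (MulAut.conj g).toMonoidHom
  obtain ⟨e1, -⟩ := pPart_unique h.prime hcm (Commute.one_left s⁻¹)
    ((h.ord hu).imp fun k hk => by rw [conj_orderOf, hk]) ⟨0, orderOf_one⟩
    (by rw [conj_orderOf, Subgroup.orderOf_coe]; exact hy) (by rwa [orderOf_inv])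
    (by rw [one_mul, ← hg]; group)
  exact hu1 (conj_eq_one_iff.1 e1)

/-- No value vanishes; a unit value means height zero. -/
theorem dsec_ne_zero {u : G} (hu : u ∈ P) (hu1 : u ≠ 1) {ψ : IrrCharacter G} (hψ : ψ ∈ B) :
    dsec p M P c u (ψ : G → ℂ) ≠ 0 := by
  haveI := Fintype.ofFinite (Subgroup.centralizer ((Subgroup.zpowers u : Subgroup G) : Set G))
  obtain ⟨χ, hχ, h0⟩ := exists_height_zero h.mod h.isBlock
  obtain ⟨w, hw, -, hw0⟩ := secPair_div h.mod (isCentr_zpowers u) (h.ord hu)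
    (h.induced_below (h.zpowers_le hu))
    ((h.defect_below (h.zpowers_le hu)).trans h.defect.symm) hχ hψ h0
  intro h1
  rw [h.secPair_eq hu hu1, h1, map_zero, mul_zero] at hw
  exact mul_ne_zero (pow_ne_zero _ (Nat.cast_ne_zero.2 h.prime.ne_zero)) hw0 hw.symm

/-- The values at a singular element are combinations of the values on the subsections. -/
theorem singular_expansion_div {x : G} (hx : p ∣ orderOf x) :
    ∃ w : G → ℂ, (∀ v, IsIntegral ℤ (w v)) ∧
      (∀ v, MemLocalRing M (w v * (p : ℂ) ^ a /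
        (Nat.card (Subgroup.centralizer ({x} : Set G)) : ℂ))) ∧ ∀ χ ∈ B, (χ : G → ℂ) x =
      ∑ v ∈ (Set.toFinite {v : G | v ∈ P ∧ v ≠ 1}).toFinset,
        w v * dsec p M P c v (χ : G → ℂ) := by
  classical
  haveI : ∀ Q : Subgroup G, Fintype (Subgroup.centralizer (Q : Set G)) :=
    fun Q => Fintype.ofFinite _
  obtain ⟨z, s, hzs, hcz, hz, hs, hzx, hsx⟩ := exists_pPart h.prime x
  have hz1 : z ≠ 1 := by
    rintro rfl
    rw [one_mul] at hzs
    exact hs (hzs ▸ hx)
  set H := Subgroup.centralizer ((Subgroup.zpowers z : Subgroup G) : Set G) with hH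
  let S : H := ⟨s, (isCentr_zpowers z s).2 hcz.symm⟩
  have hS : ¬ p ∣ orderOf S := by rw [← Subgroup.orderOf_coe]; exact hs
  set V := (Set.toFinite {v : G | v ∈ P ∧ v ≠ 1}).toFinset with hV
  have key : ∀ b : Set (IrrCharacter H), IsPBlock M b → b ⊆ overBlocks M H B →
      ∃ (v : G) (k : ℂ), v ∈ V ∧ IsIntegral ℤ k ∧ MemLocalRing M (k * (p : ℂ) ^ a /
        (Nat.card (Subgroup.centralizer ({x} : Set G)) : ℂ)) ∧ ∀ χ ∈ B,
        blockPart b (sec z H (χ : G → ℂ)) S = k * dsec p M P c v (χ : G → ℂ) := by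
    intro b hb hbo
    obtain ⟨ψ, hψ⟩ := block_nonempty h.mod hb
    have hind : IsInducedBlock M H b B := by
      have h4 : IsInducedBlock M H (blockOf M (ψ : H → ℂ)) B := hbo hψ
      rw [← eq_blockOf h.mod hb hψ] at h4
      exact h4
    have hpair := (induced_centralizer_iff h.mod (isPGroup_zpowers h.prime hz)).1 hind
    obtain ⟨g, hg⟩ := exists_conj_subpair h.mod (a := ⟨Subgroup.zpowers z, b⟩) (m := ⟨P, c⟩)
      h.max hpair
    set v := g * z * g⁻¹ with hv
    have hz' : (Subgroup.zpowers z).map (MulAut.conj g).toMonoidHom = Subgroup.zpowers v :=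
      zpowers_conj g z
    have hvP : v ∈ P := by
      have h1 := subpairLE_le hg
      rw [show (conjIdx g (⟨Subgroup.zpowers z, b⟩ : BrauerPairIdx G)).1 = Subgroup.zpowers v
        from hz'] at h1
      exact h1 (Subgroup.mem_zpowers v)
    have hv1 : v ≠ 1 := fun h1 => hz1 (conj_eq_one_iff.1 h1)
    have heq' := h.below_eq (isPBlock_conjBlock hb g) hg
    set Q' := (Subgroup.zpowers z).map (MulAut.conj g).toMonoidHom with hQ'
    change (⟨Q', conjBlock _ g b⟩ : BrauerPairIdx G) = belowIdx p M P c Q' at heq'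
    have hQP : Q' ≤ P := hz' ▸ h.zpowers_le hvP
    have hb2 : conjBlock _ g b = (belowIdx p M P c Q').2 :=
      eq_of_heq (Sigma.mk.inj_iff.1 heq').2
    obtain ⟨φ, d, n, hf, -, hφn, hval, hdeg, -, -, hsq⟩ := single_block h.mod (h.below_spec hQP).1
      ((congrArg (fun R : Subgroup G => blockRank p (belowIdx p M P c R).2) hz').trans (h.rankOne v hvP hv1))
    set S' : Subgroup.centralizer (Q' : Set G) := (centE (Subgroup.zpowers z) g).symm S with hS'
    have hS'reg : ¬ p ∣ orderOf S' := by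
      rw [← Subgroup.orderOf_coe]
      show ¬ p ∣ orderOf (g * (S : G) * g⁻¹)
      rw [conj_orderOf]; exact hs
    have hint : IsIntegral ℤ (φ S') := by
      rw [hφn S' hS'reg]
      exact IsIntegral.sum _ fun ψ _ =>
        (isIntegral_intCast' _).mul (isIntegral_of_char (isCharacter_of_irr ψ.2) _)
    have hdiv : MemLocalRing M (φ S' * (p : ℂ) ^ a /
        (Nat.card (Subgroup.centralizer ({x} : Set G)) : ℂ)) := by
      have h3 := single_block_div h.mod (h.below_spec hQP).1 hf hval hdeg hsq hS'reg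
      rw [h.defect_below hQP, card_cent_equiv (centE (Subgroup.zpowers z) g) S', hS',
        MulEquiv.apply_symm_apply,
        card_cent_section (isCentr_zpowers z) S.2 (hzs.symm ▸ hzx) (hzs.symm ▸ hsx), hzs] at h3
      exact h3
    refine ⟨v, φ S', (Set.Finite.mem_toFinset _).2 ⟨hvP, hv1⟩, hint, hdiv, fun χ hχ => ?_⟩
    have h2 := blockPart_conj χ g z (Subgroup.zpowers z) b S'
    rw [hS', MulEquiv.apply_symm_apply] at h2
    rw [← h2, hb2, ← hS']
    refine (blockPart_eq_cval h.mod hf hdeg hval _ _ ?_).trans ?_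
    · rw [← Subgroup.orderOf_coe]
      show ¬ p ∣ orderOf (g * (S : G) * g⁻¹)
      rw [conj_orderOf]; exact hs
    · rw [mul_comm]
      refine congrArg (φ S' * ·) ?_
      show cval v (belowIdx p M P c Q') (χ : G → ℂ) = _
      rw [hz']
      rfl
  choose! vv kk hmem hint hdiv hkk using key
  set K := Finset.univ.filter (fun b : Set (IrrCharacter H) => IsPBlock M b ∧ b ⊆ overBlocks M H B)
    with hK
  refine ⟨fun v => ∑ b ∈ K.filter (fun b => vv b = v), kk b, fun v => IsIntegral.sum _ fun b hb =>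
    hint b (Finset.mem_filter.1 (Finset.mem_filter.1 hb).1).2.1 (Finset.mem_filter.1 (Finset.mem_filter.1 hb).1).2.2,
    fun v => by
      rw [Finset.sum_mul, Finset.sum_div]
      exact memRing_sum h.mod fun b hb => hdiv b (Finset.mem_filter.1 (Finset.mem_filter.1 hb).1).2.1
        (Finset.mem_filter.1 (Finset.mem_filter.1 hb).1).2.2,
    fun χ hχ => ?_⟩
  have h1 := sec_eq_overBlocks h.mod (isCentr_zpowers z) hz h.isBlock χ hS
  rw [ind_of_mem hχ, one_mul, sum_blockPart_eq h.mod _ (fun ψ hψ φ hφ => by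
    show IsInducedBlock M H (blockOf M (φ : H → ℂ)) B
    rw [blockOf_eq_of_mem h.mod hφ]; exact hψ)] at h1
  rw [← hzs, show (χ : G → ℂ) (z * s) = (χ : G → ℂ) (z * (S : G)) from rfl, ← h1, ← hK,
    ← Finset.sum_fiberwise_of_maps_to (t := V) (g := vv) (fun b hb =>
      hmem b (Finset.mem_filter.1 hb).2.1 (Finset.mem_filter.1 hb).2.2)]
  refine Finset.sum_congr rfl fun v _ => ?_
  rw [Finset.sum_mul]
  refine Finset.sum_congr rfl fun b hb => ?_
  obtain ⟨hb1, hb2⟩ := Finset.mem_filter.1 hb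
  obtain ⟨-, hb3, hb4⟩ := Finset.mem_filter.1 hb1
  rw [hkk b hb3 hb4 χ hχ, hb2]

theorem singular_expansion_int {x : G} (hx : p ∣ orderOf x) :
    ∃ w : G → ℂ, (∀ v, IsIntegral ℤ (w v)) ∧ ∀ χ ∈ B, (χ : G → ℂ) x =
      ∑ v ∈ (Set.toFinite {v : G | v ∈ P ∧ v ≠ 1}).toFinset,
        w v * dsec p M P c v (χ : G → ℂ) := by
  obtain ⟨w, h1, -, h2⟩ := h.singular_expansion_div hx
  exact ⟨w, h1, h2⟩

/-- Values at inverse elements. -/
theorem dsec_conj_inv {v : G} (hv : v ∈ P) (hv1 : v ≠ 1) (χ : IrrCharacter G) :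
    conj (dsec p M P c v (χ : G → ℂ)) = dsec p M P c v⁻¹ (χ : G → ℂ) := by
  classical
  set Q := Subgroup.zpowers v with hQ
  set H := Subgroup.centralizer (Q : Set G) with hH
  haveI : Fintype H := Fintype.ofFinite _
  obtain ⟨φ, d, n, hf, -, -, -, hdeg, -⟩ :=
    single_block h.mod (h.below_spec (h.zpowers_le hv)).1 (h.rankOne v hv hv1)
  choose k hk using fun θ : IrrCharacter H =>
    classInner_char_nat (isCharacter_restrict_irr H χ) (isCharacter_of_irr θ.2)
  have hexp : ∀ y : H, (χ : G → ℂ) y = ∑ θ, (k θ : ℂ) * (θ : H → ℂ) y := fun y => by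
    have := congrFun (eq_sum_irr (isClassFunction_char (isCharacter_restrict_irr H χ))) y
    simpa [hk] using this
  have hvH : v ∈ H := (isCentr_zpowers v).self_mem
  set z : H := ⟨v, hvH⟩ with hz
  have hzc : z ∈ Subgroup.center H :=
    Subgroup.mem_center_iff.2 fun g => Subtype.ext ((isCentr_zpowers v g).1 g.2)
  have key : ∀ y : H, y ∈ Subgroup.center H →
      cval (y : G) (belowIdx p M P c Q) (χ : G → ℂ) =
        ∑ θ : IrrCharacter H, (k θ : ℂ) * ((θ : H → ℂ) y / (θ : H → ℂ) 1) *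
          (ind (belowIdx p M P c Q).2 θ * (d θ : ℂ)) := by
    intro y hy
    rw [cval_sext_expand (H := H) (a := belowIdx p M P c Q) y.2 le_rfl (fun θ => (k θ : ℂ)) hexp]
    refine Finset.sum_congr rfl fun θ _ => ?_
    rw [cval_central hy le_rfl θ, cval_self h.mod hf hdeg θ]
    ring
  show conj (cval v (belowIdx p M P c Q) (χ : G → ℂ)) =
    cval v⁻¹ (belowIdx p M P c (Subgroup.zpowers v⁻¹)) (χ : G → ℂ)
  rw [Subgroup.zpowers_inv, ← hQ, show v = ((z : H) : G) from rfl,
    show ((z : H) : G)⁻¹ = ((z⁻¹ : H) : G) from rfl, key z hzc, key z⁻¹ (inv_mem hzc), map_sum]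
  refine Finset.sum_congr rfl fun θ _ => ?_
  rw [map_mul, map_mul, map_mul, map_div₀, irr_conjInv, irr_conjInv, inv_one, map_natCast,
    map_natCast]
  by_cases hθ : θ ∈ (belowIdx p M P c Q).2
  · rw [ind_of_mem hθ, map_one]
  · rw [ind_of_notMem hθ, map_zero]

end AbData

end CfsgLib.Blocks
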