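import Mathlib

/-!
# Integral matrices with Gram matrix `δ + m` and a positive orthogonal vector
-/

namespace CfsgLib.Blocks.AbelianFree

set_option linter.unusedVariables false
set_option linter.unusedSectionVars false

variable {ι I : Type*} [Fintype ι] [DecidableEq ι] [DecidableEq I]

/-- The properties of the matrix. -/
structure Data (B : Finset I) (g : I → ι → ℤ) (w : I → ℤ) (m : ℕ) : Prop where
  gram : ∀ O O', ∑ χ ∈ B, g χ O * g χ O' = (if O = O' then 1 else 0) + (m : ℤ)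
  deg : ∀ O, ∑ χ ∈ B, g χ O * w χ = 0
  wpos : ∀ χ ∈ B, 0 < w χ
  card : 2 ≤ Fintype.card ι

variable {B : Finset I} {g : I → ι → ℤ} {w : I → ℤ} {m : ℕ}

/-- Two columns differ in exactly two places, with opposite signs. -/
theorem Data.diff (h : Data B g w m) {O O' : ι} (hne : O ≠ O') :
    ∃ a ∈ B, ∃ b ∈ B, a ≠ b ∧ g a O - g a O' = 1 ∧ g b O - g b O' = -1 ∧
      ∀ χ ∈ B, χ ≠ a → χ ≠ b → g χ O = g χ O' := by
  set v : I → ℤ := fun χ => g χ O - g χ O' with hv
  have hsq : ∑ χ ∈ B, v χ ^ 2 = 2 := by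
    simp only [hv, sq, sub_mul, mul_sub, Finset.sum_sub_distrib]
    rw [h.gram, h.gram, h.gram, h.gram, if_pos rfl, if_pos rfl, if_neg hne, if_neg (Ne.symm hne)]
    ring
  have hw : ∑ χ ∈ B, v χ * w χ = 0 := by
    simp only [hv, sub_mul, Finset.sum_sub_distrib]
    rw [h.deg, h.deg, sub_zero]
  obtain ⟨a, ha, hapos⟩ : ∃ a ∈ B, 0 < v a := by
    by_contra hno
    push Not at hno
    have h0 : ∀ χ ∈ B, v χ * w χ ≤ 0 := fun χ hχ =>
      mul_nonpos_of_nonpos_of_nonneg (hno χ hχ) (h.wpos χ hχ).le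
    have h1 := (Finset.sum_eq_zero_iff_of_nonpos h0).1 hw
    rw [Finset.sum_eq_zero fun χ hχ => by
      rw [(mul_eq_zero.1 (h1 χ hχ)).resolve_right (h.wpos χ hχ).ne']; ring] at hsq
    norm_num at hsq
  obtain ⟨b, hb, hbneg⟩ : ∃ b ∈ B, v b < 0 := by
    by_contra hno
    push Not at hno
    have h0 : ∀ χ ∈ B, 0 ≤ v χ * w χ := fun χ hχ => mul_nonneg (hno χ hχ) (h.wpos χ hχ).le
    have h1 := (Finset.sum_eq_zero_iff_of_nonneg h0).1 hw a ha
    exact (mul_pos hapos (h.wpos a ha)).ne' h1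
  have hab : a ≠ b := fun e => by rw [e] at hapos; omega
  rw [← Finset.add_sum_erase _ _ ha, ← Finset.add_sum_erase _ _
    (Finset.mem_erase.2 ⟨Ne.symm hab, hb⟩ : b ∈ B.erase a)] at hsq
  have hrest : 0 ≤ ∑ χ ∈ (B.erase a).erase b, v χ ^ 2 := Finset.sum_nonneg fun χ _ => sq_nonneg _
  have ha1 : v a = 1 := by nlinarith
  have hb1 : v b = -1 := by nlinarith
  refine ⟨a, ha, b, hb, hab, ha1, hb1, fun χ hχ h1 h2 => ?_⟩
  have h3 : ∑ χ ∈ (B.erase a).erase b, v χ ^ 2 = 0 := by
    rw [ha1, hb1] at hsq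
    linarith
  have h4 := (Finset.sum_eq_zero_iff_of_nonneg fun χ _ => sq_nonneg _).1 h3 χ
    (Finset.mem_erase.2 ⟨h2, Finset.mem_erase.2 ⟨h1, hχ⟩⟩)
  exact sub_eq_zero.1 (pow_eq_zero_iff two_ne_zero |>.1 h4)

/-- The structure of the matrix. -/
theorem Data.classify (h : Data B g w m) :
    ∃ (ζ : ι → I) (δ d : ℤ) (a : I → ℤ), (δ = 1 ∨ δ = -1) ∧ (∀ O, ζ O ∈ B) ∧
      Function.Injective ζ ∧ (∀ O O', g (ζ O) O' = d + if O = O' then δ else 0) ∧
      (∀ χ ∈ B, (∀ O, ζ O ≠ χ) → ∀ O, g χ O = a χ) ∧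
      (d + δ) ^ 2 + ((Fintype.card ι : ℤ) - 1) * d ^ 2 +
        ∑ χ ∈ B.filter (fun χ => ∀ O, ζ O ≠ χ), a χ ^ 2 = (m : ℤ) + 1 := by
  classical
  haveI : Nonempty ι := Fintype.card_pos_iff.1 (by have := h.card; omega)
  obtain ⟨O0⟩ : Nonempty ι := inferInstance
  obtain ⟨O1, h01⟩ := Fintype.exists_ne_of_one_lt_card h.card O0
  choose A hA Bn hB hAB hA1 hB1 hrest using
    fun O : {O // O ≠ O0} => h.diff (Ne.symm O.2)
  -- the vectors `g · O0 - g · O` share exactly one end
  have hpair : ∀ O O' : {O // O ≠ O0}, O ≠ O' →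
      (A O = A O' ∧ Bn O ≠ Bn O') ∨ (A O ≠ A O' ∧ Bn O = Bn O') := by
    intro O O' hne
    have hsum : ∑ χ ∈ B, (g χ O0 - g χ O) * (g χ O0 - g χ O') = 1 := by
      simp only [sub_mul, mul_sub, Finset.sum_sub_distrib]
      rw [h.gram, h.gram, h.gram, h.gram, if_pos rfl, if_neg (Ne.symm O'.2), if_neg O.2,
        if_neg fun e => hne (Subtype.ext e)]
      ring
    have hfull : ∀ χ ∈ B, g χ O0 - g χ O =
        (if χ = A O then 1 else 0) - if χ = Bn O then 1 else 0 := by
      intro χ hχ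
      rcases eq_or_ne χ (A O) with rfl | h1
      · rw [if_pos rfl, if_neg (hAB O), hA1]; norm_num
      · rcases eq_or_ne χ (Bn O) with rfl | h2
        · rw [if_neg h1, if_pos rfl, hB1]; norm_num
        · rw [if_neg h1, if_neg h2, hrest O χ hχ h1 h2, sub_self, sub_zero]
    rw [Finset.sum_congr rfl fun χ hχ => by rw [hfull χ hχ]] at hsum
    simp only [sub_mul, ite_mul, one_mul, zero_mul, Finset.sum_sub_distrib, Finset.sum_ite_eq',
      hA O, hB O, if_true] at hsum
    have hfull' : ∀ χ ∈ B, g χ O0 - g χ O' =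
        (if χ = A O' then 1 else 0) - if χ = Bn O' then 1 else 0 := by
      intro χ hχ
      rcases eq_or_ne χ (A O') with rfl | h1
      · rw [if_pos rfl, if_neg (hAB O'), hA1]; norm_num
      · rcases eq_or_ne χ (Bn O') with rfl | h2
        · rw [if_neg h1, if_pos rfl, hB1]; norm_num
        · rw [if_neg h1, if_neg h2, hrest O' χ hχ h1 h2, sub_self, sub_zero]
    rw [hfull' _ (hA O), hfull' _ (hB O)] at hsum
    have := hAB O
    have := hAB O'
    by_cases e1 : A O = A O'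
    · by_cases e2 : Bn O = Bn O'
      · rw [← e1, ← e2, if_pos rfl, if_pos rfl, if_neg (hAB O), if_neg (Ne.symm (hAB O))] at hsum
        norm_num at hsum
      · exact Or.inl ⟨e1, e2⟩
    · by_cases e2 : Bn O = Bn O'
      · exact Or.inr ⟨e1, e2⟩
      · rw [if_neg e1, if_neg e2] at hsum
        split_ifs at hsum <;> simp at hsum
  -- the common end and the matrix
  obtain ⟨ζ, δ, c, hδ, hζB, hζ, hg⟩ : ∃ (ζ : ι → I) (δ : ℤ) (c : I → ℤ), (δ = 1 ∨ δ = -1) ∧
      (∀ O, ζ O ∈ B) ∧ Function.Injective ζ ∧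
      ∀ χ ∈ B, ∀ O, g χ O = c χ + if ζ O = χ then δ else 0 := by
    have hbuild : ∀ (e : I) (δ : ℤ) (E : {O // O ≠ O0} → I), (δ = 1 ∨ δ = -1) → e ∈ B →
        (∀ O, E O ∈ B) → (∀ O, E O ≠ e) → Function.Injective E →
        (∀ O, g e O0 - g e O.1 = δ ∧ g (E O) O0 - g (E O) O.1 = -δ ∧
          ∀ χ ∈ B, χ ≠ e → χ ≠ E O → g χ O0 = g χ O.1) →
        ∃ (ζ : ι → I) (δ : ℤ) (c : I → ℤ), (δ = 1 ∨ δ = -1) ∧ (∀ O, ζ O ∈ B) ∧
          Function.Injective ζ ∧ ∀ χ ∈ B, ∀ O, g χ O = c χ + if ζ O = χ then δ else 0 := by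
      intro e δ E hδ he hE hEne hEinj hspec
      refine ⟨fun O => if hO : O = O0 then e else E ⟨O, hO⟩, δ,
        fun χ => g χ O0 - if e = χ then δ else 0, hδ, fun O => ?_, ?_, fun χ hχ O => ?_⟩
      · dsimp only
        split_ifs
        exacts [he, hE _]
      · intro O O' heq
        dsimp only at heq
        split_ifs at heq with h1 h2 h2
        · rw [h1, h2]
        · exact absurd heq.symm (hEne _)
        · exact absurd heq (hEne _)
        · exact congrArg Subtype.val (hEinj heq)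
      · dsimp only
        by_cases hO : O = O0
        · subst hO
          simp only [dite_true, sub_add_cancel]
        · simp only [dif_neg hO]
          obtain ⟨h1, h2, h3⟩ := hspec ⟨O, hO⟩
          dsimp only at h1 h2 h3
          by_cases he' : e = χ
          · subst he'
            rw [if_pos rfl, if_neg (hEne _)]
            linarith
          · rw [if_neg he']
            by_cases hE' : E ⟨O, hO⟩ = χ
            · rw [if_pos hE']
              rw [hE'] at h2
              linarith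
            · rw [if_neg hE', h3 χ hχ (Ne.symm he') (Ne.symm hE')]
              ring
    by_cases hshare : ∀ O, A O = A ⟨O1, h01⟩
    · refine hbuild (A ⟨O1, h01⟩) 1 Bn (Or.inl rfl) (hA _) hB
        (fun O => hshare O ▸ Ne.symm (hAB O)) ?_ fun O => ⟨?_, hB1 O, ?_⟩
      · intro O O' e
        by_contra hne
        rcases hpair O O' hne with ⟨-, h2⟩ | ⟨h2, -⟩
        · exact h2 e
        · exact h2 ((hshare O).trans (hshare O').symm)
      · rw [← hshare O]; exact hA1 O
      · rw [← hshare O]; exact hrest O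
    · push Not at hshare
      obtain ⟨O2, hO2⟩ := hshare
      have hb : ∀ O, Bn O = Bn ⟨O1, h01⟩ := by
        intro O
        have e12 : Bn O2 = Bn ⟨O1, h01⟩ := by
          rcases hpair O2 ⟨O1, h01⟩ fun e => hO2 (e ▸ rfl) with ⟨h2, -⟩ | ⟨-, h2⟩
          · exact absurd h2 hO2
          · exact h2
        rcases eq_or_ne O ⟨O1, h01⟩ with rfl | n1
        · rfl
        rcases eq_or_ne O O2 with rfl | n2
        · exact e12
        rcases hpair O ⟨O1, h01⟩ n1 with ⟨h2, h3⟩ | ⟨-, h3⟩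
        · rcases hpair O O2 n2 with ⟨h4, -⟩ | ⟨-, h4⟩
          · exact absurd (h4.symm.trans h2) hO2
          · exact absurd (h4.trans e12) h3
        · exact h3
      refine hbuild (Bn ⟨O1, h01⟩) (-1) A (Or.inr rfl) (hB _) hA (fun O => hb O ▸ hAB O) ?_
        fun O => ⟨?_, by rw [hA1 O]; norm_num, fun χ hχ h1 h2 => hrest O χ hχ h2 (hb O ▸ h1)⟩
      · intro O O' e
        by_contra hne
        rcases hpair O O' hne with ⟨-, h2⟩ | ⟨h2, -⟩
        · exact h2 ((hb O).trans (hb O').symm)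
        · exact h2 e
      · rw [← hb O]; exact hB1 O
  have hδ2 : δ * δ = 1 := by rcases hδ with rfl | rfl <;> norm_num
  have hcross : ∀ O O', ∑ χ ∈ B, c χ * c χ + δ * c (ζ O) + δ * c (ζ O') +
      (if O = O' then 1 else 0) = (if O = O' then 1 else 0) + (m : ℤ) := by
    intro O O'
    rw [← h.gram O O', show ∑ χ ∈ B, g χ O * g χ O' = ∑ χ ∈ B,
      (c χ + if ζ O = χ then δ else 0) * (c χ + if ζ O' = χ then δ else 0) from
      Finset.sum_congr rfl fun χ hχ => by rw [hg χ hχ O, hg χ hχ O']]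
    simp only [add_mul, mul_add, ite_mul, mul_ite, zero_mul, mul_zero, Finset.sum_add_distrib,
      Finset.sum_ite_eq, hζB O, hζB O', if_true, hδ2]
    rw [show (if ζ O = ζ O' then (1 : ℤ) else 0) = if O = O' then 1 else 0 from
      if_congr hζ.eq_iff rfl rfl]
    ring
  have hconst : ∀ O, c (ζ O) = c (ζ O0) := by
    intro O
    have h1 := hcross O O
    have h2 := hcross O0 O0
    rw [if_pos rfl] at h1 h2
    rcases hδ with rfl | rfl <;> linarith
  refine ⟨ζ, δ, c (ζ O0), c, hδ, hζB, hζ, fun O O' => ?_, fun χ hχ hne O => ?_, ?_⟩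
  · rw [hg _ (hζB O) O', hconst O,
      if_congr ⟨fun e => (hζ e).symm, fun e => congrArg ζ e.symm⟩ rfl rfl]
  · rw [hg χ hχ O, if_neg (hne O), add_zero]
  · have h1 := h.gram O0 O0
    have hdisj : Disjoint (Finset.univ.image ζ) (B.filter fun χ => ∀ O, ζ O ≠ χ) := by
      rw [Finset.disjoint_left]
      intro χ hχ hχ'
      obtain ⟨O, -, rfl⟩ := Finset.mem_image.1 hχ
      exact (Finset.mem_filter.1 hχ').2 O rfl
    have hBu : B = Finset.univ.image ζ ∪ B.filter fun χ => ∀ O, ζ O ≠ χ := by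
      ext χ
      simp only [Finset.mem_union, Finset.mem_image, Finset.mem_univ, true_and, Finset.mem_filter]
      refine ⟨fun hχ => ?_, fun hχ => ?_⟩
      · by_cases he : ∃ O, ζ O = χ
        · exact Or.inl he
        · exact Or.inr ⟨hχ, fun O e => he ⟨O, e⟩⟩
      · rcases hχ with ⟨O, rfl⟩ | hχ
        exacts [hζB O, hχ.1]
    rw [hBu, Finset.sum_union hdisj, Finset.sum_image fun _ _ _ _ e => hζ e, if_pos rfl,
      Finset.sum_congr (s₁ := B.filter fun χ => ∀ O, ζ O ≠ χ) rfl fun χ hχ => by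
        rw [hg χ (Finset.mem_filter.1 hχ).1 O0, if_neg ((Finset.mem_filter.1 hχ).2 O0), add_zero],
      Finset.sum_congr (s₁ := Finset.univ) rfl fun O _ => by
        rw [hg _ (hζB O) O0, hconst O,
          if_congr ⟨fun e => (hζ e).symm, fun e => congrArg ζ e.symm⟩ rfl rfl],
      ← Finset.add_sum_erase _ _ (Finset.mem_univ O0), if_pos rfl,
      Finset.sum_congr rfl fun O hO => by rw [if_neg (Finset.ne_of_mem_erase hO), add_zero],
      Finset.sum_const, Finset.card_erase_of_mem (Finset.mem_univ _), Finset.card_univ,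
      nsmul_eq_mul, Nat.cast_sub (by have := h.card; omega)] at h1
    rw [show ∑ χ ∈ B.filter (fun χ => ∀ O, ζ O ≠ χ), c χ ^ 2 =
      ∑ χ ∈ B.filter (fun χ => ∀ O, ζ O ≠ χ), c χ * c χ from
      Finset.sum_congr rfl fun χ _ => sq _]
    push_cast at h1
    linarith

end CfsgLib.Blocks.AbelianFree
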