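/-
A lower bound for a positive integral Hermitian form which has rank one modulo `p`
and becomes a projection after division by `p`.
-/
import Cfsg.Agent.Lib.CharTheory.GaloisBound
import Mathlib.Analysis.Matrix.PosDef
import Mathlib.LinearAlgebra.Matrix.SchurComplement
import Mathlib.LinearAlgebra.Matrix.Charpoly.Coeff
import Mathlib.LinearAlgebra.Trace
import Mathlib.LinearAlgebra.Dimension.Finrank

namespace CfsgLib.Blocks.RankOne

open Matrix Polynomial
open scoped ComplexOrder ComplexConjugate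

variable {τ : Type*} [Fintype τ] [DecidableEq τ]

/-- An idempotent matrix factors through its range. -/
theorem idem_factor (P : Matrix τ τ ℂ) (hP : P * P = P) {r : ℕ} (htr : P.trace = (r : ℂ)) :
    (∃ (A : Matrix τ (Fin r) ℂ) (B : Matrix (Fin r) τ ℂ), A * B = P ∧ B * A = 1) ∧
      Module.finrank ℂ (LinearMap.range (Matrix.toLin' P)) = r := by
  classical
  set f := Matrix.toLin' P with hf
  set V := LinearMap.range f
  have hff : ∀ y, f (f y) = f y := fun y => by
    rw [hf, ← LinearMap.comp_apply, ← Matrix.toLin'_mul, hP]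
  set e : Module.Basis (Fin (Module.finrank ℂ V)) ℂ V := Module.finBasis ℂ V with he
  set std := Pi.basisFun ℂ τ with hstd
  set A := LinearMap.toMatrix e std V.subtype with hA
  set B := LinearMap.toMatrix std e f.rangeRestrict with hB
  have hAB : A * B = P := by
    rw [hA, hB, ← LinearMap.toMatrix_comp, LinearMap.subtype_comp_codRestrict, hf, hstd,
      LinearMap.toMatrix_eq_toMatrix', LinearMap.toMatrix'_toLin']
  have hBA : B * A = 1 := by
    rw [hA, hB, ← LinearMap.toMatrix_comp, ← LinearMap.toMatrix_id e]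
    congr 1
    refine LinearMap.ext fun v => Subtype.ext ?_
    obtain ⟨y, hy⟩ := v.2
    show f (v : τ → ℂ) = v
    rw [← hy, hff]
  have hr : Module.finrank ℂ V = r := by
    have : (Module.finrank ℂ V : ℂ) = (r : ℂ) := by
      rw [← htr, ← hAB, Matrix.trace_mul_comm, hBA, Matrix.trace_one, Fintype.card_fin]
    exact_mod_cast this
  refine ⟨?_, hr⟩
  subst hr
  exact ⟨A, B, hAB, hBA⟩

/-- The principal minors of size `r` of an idempotent of trace `r` sum to one. -/
theorem sum_minors_idem (P : Matrix τ τ ℂ) (hP : P * P = P) {r : ℕ} (htr : P.trace = (r : ℂ)) :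
    ∑ s ∈ Finset.univ.powersetCard r,
      (P.submatrix (Subtype.val : s → τ) (Subtype.val : s → τ)).det = 1 := by
  classical
  obtain ⟨⟨A, B, hAB, hBA⟩, -⟩ := idem_factor P hP htr
  rw [← coeff_det_one_add_X_smul_eq_sum_minors]
  have h : det (1 + (X : ℂ[X]) • P.map C) = (1 + X) ^ r := by
    rw [← hAB, Matrix.map_mul, ← Matrix.smul_mul, det_one_add_mul_comm, Matrix.mul_smul,
      ← Matrix.map_mul, hBA, Matrix.map_one _ (map_zero C) (map_one C)]
    have e : (1 : Matrix (Fin r) (Fin r) ℂ[X]) + (X : ℂ[X]) • 1 =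
        Matrix.diagonal fun _ => (1 + X : ℂ[X]) := by
      ext i j
      by_cases hij : i = j
      · subst hij; simp
      · simp [hij]
    rw [e, Matrix.det_diagonal, Finset.prod_const, Finset.card_univ, Fintype.card_fin]
  rw [h, add_comm, coeff_X_add_one_pow, Nat.choose_self, Nat.cast_one]

/-- The columns of `P` in `J`, followed by `v`. -/
noncomputable def colMat (P : Matrix τ τ ℂ) (v : τ → ℂ) (J : Finset τ) :
    Matrix τ (J ⊕ Unit) ℂ :=
  Matrix.of fun i => Sum.elim (fun j => P i j) (fun _ => v i)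

/-- The Gram determinant of `colMat`. -/
noncomputable def gram (P : Matrix τ τ ℂ) (v : τ → ℂ) (J : Finset τ) : ℂ :=
  ((colMat P v J)ᴴ * colMat P v J).det

theorem gram_nonneg (P : Matrix τ τ ℂ) (v : τ → ℂ) (J : Finset τ) : 0 ≤ gram P v J :=
  (Matrix.posSemidef_conjTranspose_mul_self _).det_nonneg

theorem gram_eq (P : Matrix τ τ ℂ) (hH : P.IsHermitian) (hP : P * P = P) (v : τ → ℂ)
    (hv : P *ᵥ v = v) (J : Finset τ) :
    gram P v J = (Matrix.fromBlocks
      (P.submatrix (Subtype.val : J → τ) Subtype.val)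
      (Matrix.of fun (j : J) (_ : Unit) => v j)
      (Matrix.of fun (_ : Unit) (j : J) => conj (v j))
      (Matrix.of fun _ _ => star v ⬝ᵥ v)).det := by
  have hconj : ∀ i j, conj (P i j) = P j i := fun i j => hH.apply j i
  have hv' : ∀ i, ∑ k, P i k * v k = v i := fun i => congrFun hv i
  unfold gram
  congr 1
  ext (i | i) (j | j) <;> simp only [Matrix.mul_apply, Matrix.conjTranspose_apply, colMat,
    Matrix.of_apply, Sum.elim_inl, Sum.elim_inr, Matrix.fromBlocks_apply₁₁,
    Matrix.fromBlocks_apply₁₂, Matrix.fromBlocks_apply₂₁, Matrix.fromBlocks_apply₂₂,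
    Matrix.submatrix_apply, Complex.star_def]
  · conv_rhs => rw [← hP, Matrix.mul_apply]
    exact Finset.sum_congr rfl fun k _ => by rw [hconj]
  · rw [← hv' i]
    exact Finset.sum_congr rfl fun k _ => by rw [hconj]
  · rw [← hv' j, map_sum]
    exact Finset.sum_congr rfl fun k _ => by rw [map_mul, hconj, mul_comm]
  · rfl

theorem gram_ne_zero (P : Matrix τ τ ℂ) (v : τ → ℂ) (J : Finset τ)
    (h : LinearIndependent ℂ fun k : J ⊕ Unit => fun i => colMat P v J i k) :
    gram P v J ≠ 0 := by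
  intro h0
  obtain ⟨y, hy, hy0⟩ := Matrix.exists_mulVec_eq_zero_iff.2 h0
  have h1 : colMat P v J *ᵥ y = 0 := (conjTranspose_mul_self_mulVec_eq_zero _ _).1 hy0
  refine hy (funext fun k => Fintype.linearIndependent_iff.1 h y (funext fun i => ?_) k)
  have := congrFun h1 i
  simpa [Matrix.mulVec, dotProduct, mul_comm] using this

theorem sum_gram_le (P : Matrix τ τ ℂ) (hH : P.IsHermitian) (hP : P * P = P) {r : ℕ}
    (htr : P.trace = ((r + 1 : ℕ) : ℂ)) (v : τ → ℂ) (hv : P *ᵥ v = v) (hv0 : v ≠ 0)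
    (F : Finset (Finset τ)) (hF : ∀ J ∈ F, J.card = r) :
    ∑ J ∈ F, gram P v J ≤ star v ⬝ᵥ v := by
  classical
  set n := star v ⬝ᵥ v with hn
  have hn0 : n ≠ 0 := fun h => hv0 (dotProduct_star_self_eq_zero.1 h)
  have hnreal : conj n = n := by
    rw [hn, dotProduct, map_sum]
    exact Finset.sum_congr rfl fun i _ => by
      rw [Pi.star_apply, Complex.star_def, map_mul, Complex.conj_conj, mul_comm]
  set P' : Matrix τ τ ℂ := Matrix.of fun i j => P i j - v i * conj (v j) / n with hP'
  have hconj : ∀ i j, conj (P i j) = P j i := fun i j => hH.apply j i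
  have hv' : ∀ i, ∑ k, P i k * v k = v i := fun i => congrFun hv i
  have hv'' : ∀ j, ∑ k, conj (v k) * P k j = conj (v j) := fun j => by
    rw [← hv' j, map_sum]
    exact Finset.sum_congr rfl fun k _ => by rw [map_mul, hconj, mul_comm]
  have hn' : ∑ k, conj (v k) * v k = n := rfl
  have hPP : ∀ i j, ∑ k, P i k * P k j = P i j := fun i j => by
    conv_rhs => rw [← hP, Matrix.mul_apply]
  have hH' : P'.IsHermitian := by
    ext i j
    show conj (P j i - v j * conj (v i) / n) = P i j - v i * conj (v j) / n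
    rw [map_sub, map_div₀, map_mul, Complex.conj_conj, hconj, hnreal]
    ring
  have hP'2 : P' * P' = P' := by
    ext i j
    show ∑ k, (P i k - v i * conj (v k) / n) * (P k j - v k * conj (v j) / n) =
      P i j - v i * conj (v j) / n
    have e : ∀ k, (P i k - v i * conj (v k) / n) * (P k j - v k * conj (v j) / n) =
        P i k * P k j - (P i k * v k) * (conj (v j) / n) - v i / n * (conj (v k) * P k j) +
          v i / n * (conj (v j) / n) * (conj (v k) * v k) := fun k => by ring
    simp only [e, Finset.sum_add_distrib, Finset.sum_sub_distrib, ← Finset.sum_mul,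
      ← Finset.mul_sum, hv', hv'', hn', hPP]
    field_simp
    ring
  have htr' : P'.trace = (r : ℂ) := by
    show ∑ i, (P i i - v i * conj (v i) / n) = _
    have h : ∑ i, P i i = ((r + 1 : ℕ) : ℂ) := htr
    rw [Finset.sum_sub_distrib, ← Finset.sum_div, h,
      show ∑ i, v i * conj (v i) = n from (Finset.sum_congr rfl fun i _ => mul_comm _ _).trans hn',
      div_self hn0]
    push_cast; ring
  have hpsd : P'.PosSemidef := by
    rw [← hP'2]
    nth_rw 1 [← hH'.eq]
    exact Matrix.posSemidef_conjTranspose_mul_self _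
  have hg : ∀ J : Finset τ, gram P v J =
      n * (P'.submatrix (Subtype.val : J → τ) Subtype.val).det := by
    intro J
    rw [gram_eq P hH hP v hv J]
    haveI : Invertible (Matrix.of fun (_ : Unit) (_ : Unit) => n) :=
      { invOf := Matrix.of fun _ _ => n⁻¹
        invOf_mul_self := by ext; simp [Matrix.mul_apply, hn0]
        mul_invOf_self := by ext; simp [Matrix.mul_apply, hn0] }
    rw [Matrix.det_fromBlocks₂₂]
    congr 1
    · rw [Matrix.det_unique]; simp [hn]
    · congr 1
      ext i j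
      show P i j - _ = P i j - v i * conj (v j) / n
      rw [show (⅟(Matrix.of fun (_ : Unit) (_ : Unit) => n)) = Matrix.of fun _ _ => n⁻¹
        from invOf_eq_right_inv (by ext; simp [Matrix.mul_apply, hn0])]
      simp [Matrix.mul_apply]
      ring
  calc ∑ J ∈ F, gram P v J
      ≤ ∑ J ∈ Finset.univ.powersetCard r, gram P v J :=
        Finset.sum_le_sum_of_subset_of_nonneg
          (fun J hJ => Finset.mem_powersetCard.2 ⟨Finset.subset_univ _, hF J hJ⟩)
          (fun J _ _ => gram_nonneg P v J)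
    _ = n := by
        simp only [hg, ← Finset.mul_sum]
        rw [sum_minors_idem P' hP'2 htr', mul_one]

omit [DecidableEq τ] in
theorem mulVec_mem_span (P : Matrix τ τ ℂ) (v : τ → ℂ) (hv : P *ᵥ v = v) :
    v ∈ Submodule.span ℂ (Set.range fun j => fun i => P i j) := by
  rw [Submodule.mem_span_range_iff_exists_fun]
  refine ⟨v, funext fun i => ?_⟩
  conv_rhs => rw [← hv]
  simp [Matrix.mulVec, dotProduct, mul_comm]

/-- Without coloops there are enough independent families of columns through `v`. -/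
theorem exists_family (P : Matrix τ τ ℂ) (hP : P * P = P) {r : ℕ}
    (htr : P.trace = ((r + 1 : ℕ) : ℂ)) (hne : ∀ b, P b b ≠ 1) (v : τ → ℂ) (hv : P *ᵥ v = v)
    (hv0 : v ≠ 0) :
    ∃ F : Finset (Finset τ), r + 1 ≤ F.card ∧ ∀ J ∈ F, J.card = r ∧ gram P v J ≠ 0 := by
  classical
  set col : τ → τ → ℂ := fun j i => P i j with hcol
  obtain ⟨κ, a, hinj, hspan, hli⟩ := exists_linearIndependent' ℂ col
  haveI : Fintype κ := Fintype.ofInjective a hinj
  have hli' : LinearIndependent ℂ fun k => col (a k) := hli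
  have hspan' : Submodule.span ℂ (Set.range fun k => col (a k)) =
      Submodule.span ℂ (Set.range col) := hspan
  have hrange : LinearMap.range (Matrix.toLin' P) = Submodule.span ℂ (Set.range col) := by
    rw [Matrix.range_toLin']
    rfl
  have hκ : Fintype.card κ = r + 1 := by
    rw [← (idem_factor P hP htr).2, hrange, ← hspan', finrank_span_eq_card hli']
  have hcoord : ∀ j, ∃ c : κ → ℂ, ∑ k, c k • col (a k) = col j := fun j =>
    Submodule.mem_span_range_iff_exists_fun ℂ |>.1
      (hspan' ▸ Submodule.subset_span ⟨j, rfl⟩)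
  choose C hC using hcoord
  obtain ⟨c, hc⟩ : ∃ c : κ → ℂ, ∑ k, c k • col (a k) = v :=
    Submodule.mem_span_range_iff_exists_fun ℂ |>.1 (hspan' ▸ mulVec_mem_span P v hv)
  have hCa : ∀ k, C (a k) = Pi.single k 1 := fun k => by
    have h := Fintype.linearIndependent_iff.1 hli' (fun k' => C (a k) k' - (Pi.single k 1 : κ → ℂ) k') (by
      simp only [sub_smul, Finset.sum_sub_distrib, hC, Pi.single_apply, ite_smul, one_smul,
        zero_smul, Finset.sum_ite_eq', Finset.mem_univ, if_true, sub_self])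
    exact funext fun k' => sub_eq_zero.1 (h k')
  obtain ⟨k₀, hk₀⟩ : ∃ k, c k ≠ 0 := by
    by_contra h
    push Not at h
    exact hv0 (by rw [← hc]; simp [h])
  have hco : ∀ k, ∃ j, j ∉ Set.range a ∧ C j k ≠ 0 := by
    intro k
    by_contra h
    push Not at h
    apply hne (a k)
    have e : ∑ j, P j (a k) • col j = col (a k) := by
      funext i
      simp only [Finset.sum_apply, Pi.smul_apply, smul_eq_mul, hcol]
      conv_rhs => rw [← hP, Matrix.mul_apply]
      exact Finset.sum_congr rfl fun j _ => mul_comm _ _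
    have e2 : ∑ k', (∑ j, P j (a k) * C j k') • col (a k') = col (a k) := by
      conv_rhs => rw [← e]
      simp only [Finset.sum_smul, mul_smul]
      rw [Finset.sum_comm]
      exact Finset.sum_congr rfl fun j _ => by rw [← Finset.smul_sum, hC]
    have h1 := Fintype.linearIndependent_iff.1 hli'
      (fun k' => (∑ j, P j (a k) * C j k') - C (a k) k') (by
        simp only [sub_smul, Finset.sum_sub_distrib, e2, hC, sub_self]) k
    rw [hCa, Pi.single_eq_same, sub_eq_zero, Finset.sum_eq_single (a k) ?_ (by simp), hCa,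
      Pi.single_eq_same, mul_one] at h1
    · exact h1
    · intro j _ hj
      by_cases hr : j ∈ Set.range a
      · obtain ⟨k', rfl⟩ := hr
        rw [hCa, Pi.single_eq_of_ne (fun e => hj (congrArg a e.symm)), mul_zero]
      · rw [h j hr, mul_zero]
  choose jf hjr hjf using hco
  set J : κ → Finset τ := fun k =>
    if c k ≠ 0 then (Finset.univ.erase k).image a
    else insert (jf k) (((Finset.univ.erase k).erase k₀).image a) with hJ
  have hcard : ∀ k, (J k).card = r := by
    intro k
    simp only [hJ]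
    split_ifs with h
    · rw [Finset.card_image_of_injective _ hinj, Finset.card_erase_of_mem (Finset.mem_univ _),
        Finset.card_univ, hκ]
      omega
    · have hmem : k₀ ∈ Finset.univ.erase k :=
        Finset.mem_erase.2 ⟨fun e => h (e ▸ hk₀), Finset.mem_univ _⟩
      rw [Finset.card_insert_of_notMem, Finset.card_image_of_injective _ hinj,
        Finset.card_erase_of_mem hmem, Finset.card_erase_of_mem (Finset.mem_univ _),
        Finset.card_univ, hκ]
      · have := Finset.card_pos.2 ⟨k₀, hmem⟩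
        rw [Finset.card_erase_of_mem (Finset.mem_univ _), Finset.card_univ, hκ] at this
        omega
      · intro hm
        obtain ⟨k', -, hk'⟩ := Finset.mem_image.1 hm
        exact hjr k ⟨k', hk'⟩
  have hJinj : Function.Injective J := by
    intro k k' h
    have hmem : ∀ l : κ, a l ∈ J k ↔ a l ∈ J k' := fun l => by rw [h]
    by_contra hne'
    simp only [hJ] at hmem h
    have hja : ∀ l m : κ, jf m ≠ a l := fun l m e => hjr m ⟨l, e.symm⟩
    have hja' : ∀ l m : κ, a l ≠ jf m := fun l m => (hja l m).symm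
    by_cases h1 : c k ≠ 0 <;> by_cases h2 : c k' ≠ 0
    · have := hmem k'
      simp [h1, h2, hinj.eq_iff, Ne.symm hne'] at this
    · rw [if_pos h1, if_neg h2] at h
      have : jf k' ∈ (Finset.univ.erase k).image a := h ▸ Finset.mem_insert_self _ _
      obtain ⟨l, -, hl⟩ := Finset.mem_image.1 this
      exact hjr k' ⟨l, hl⟩
    · rw [if_neg h1, if_pos h2] at h
      have : jf k ∈ (Finset.univ.erase k').image a := h ▸ Finset.mem_insert_self _ _
      obtain ⟨l, -, hl⟩ := Finset.mem_image.1 this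
      exact hjr k ⟨l, hl⟩
    · have := hmem k'
      have hk0' : k' ≠ k₀ := fun e => h2 (e ▸ hk₀)
      simp [h1, h2, hinj.eq_iff, hja', Ne.symm hne', hk0'] at this
  refine ⟨Finset.univ.image J, ?_, fun S hS => ?_⟩
  · rw [Finset.card_image_of_injective _ hJinj, Finset.card_univ, hκ]
  obtain ⟨k, -, rfl⟩ := Finset.mem_image.1 hS
  refine ⟨hcard k, gram_ne_zero P v (J k) ?_⟩
  rw [linearIndependent_iff_card_le_finrank_span, Fintype.card_sum, Fintype.card_coe, hcard,
    Fintype.card_unit, ← hκ, ← finrank_span_eq_card hli']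
  set W := Submodule.span ℂ (Set.range fun l : (J k : Finset τ) ⊕ Unit => fun i => colMat P v (J k) i l)
  refine Submodule.finrank_mono (Submodule.span_le.2 ?_)
  have hvW : v ∈ W := Submodule.subset_span ⟨Sum.inr (), rfl⟩
  have hJW : ∀ j ∈ J k, col j ∈ W := fun j hj => Submodule.subset_span ⟨Sum.inl ⟨j, hj⟩, rfl⟩
  have hsplit : ∀ (g : κ → ℂ) (w : τ → ℂ) (l : κ), w ∈ W → ∑ m, g m • col (a m) = w → g l ≠ 0 →
      (∀ m, m ≠ l → g m ≠ 0 → col (a m) ∈ W) → col (a l) ∈ W := by
    intro g w l hw he hg hm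
    have : g l • col (a l) ∈ W := by
      rw [← Finset.add_sum_erase _ _ (Finset.mem_univ l)] at he
      rw [eq_sub_of_add_eq he]
      refine W.sub_mem hw (W.sum_mem fun m hm' => ?_)
      by_cases h : g m = 0
      · rw [h, zero_smul]; exact W.zero_mem
      · exact W.smul_mem _ (hm m (Finset.ne_of_mem_erase hm') h)
    exact (W.smul_mem_iff hg).1 this
  rintro _ ⟨l, rfl⟩
  show col (a l) ∈ W
  by_cases hck : c k ≠ 0
  · have hin : ∀ m, m ≠ k → col (a m) ∈ W := fun m hm => hJW _ (by simp [hJ, hck, hinj.eq_iff, hm])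
    by_cases hl : l = k
    · subst hl; exact hsplit c v l hvW hc hck fun m hm _ => hin m hm
    · exact hin l hl
  · have hck : c k = 0 := not_not.1 hck
    have hin : ∀ m, m ≠ k → m ≠ k₀ → col (a m) ∈ W := fun m hm hm₀ =>
      hJW _ (by simp [hJ, hck, hinj.eq_iff, hm, hm₀])
    have h0 : col (a k₀) ∈ W := hsplit c v k₀ hvW hc hk₀ fun m hm hcm =>
      hin m (fun e => hcm (e ▸ hck)) hm
    have hrest : ∀ m, m ≠ k → col (a m) ∈ W := fun m hm => by
      by_cases h : m = k₀
      · subst h; exact h0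
      · exact hin m hm h
    by_cases hl : l = k
    · subst hl
      exact hsplit (C (jf l)) _ l (hJW _ (by simp [hJ, hck])) (hC _) (hjf l) fun m hm _ => hrest m hm
    · exact hrest l hl

theorem isIntegral_det {ι : Type*} [Fintype ι] [DecidableEq ι] (M : Matrix ι ι ℂ)
    (h : ∀ i j, IsIntegral ℤ (M i j)) : IsIntegral ℤ M.det := by
  rw [Matrix.det_apply']
  refine IsIntegral.sum _ fun σ _ => IsIntegral.mul ?_ (IsIntegral.prod _ fun i _ => h _ _)
  exact map_isIntegral_int (Int.castRingHom ℂ) (IsIntegral.tower_top (isIntegral_algebraMap (x := ((Equiv.Perm.sign σ : ℤˣ) : ℤ))))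

/-- Rank one modulo `p` makes determinants divisible by powers of `p`. -/
theorem det_rank_one {ι : Type*} [Fintype ι] [DecidableEq ι] (p : ℂ) (hp : IsIntegral ℤ p)
    (E : Matrix ι ι ℂ) (hE : ∀ i j, IsIntegral ℤ (E i j)) (u w : ι → ℂ)
    (hu : ∀ i, IsIntegral ℤ (u i)) (hw : ∀ i, IsIntegral ℤ (w i)) :
    ∃ W : ℂ, IsIntegral ℤ W ∧
      (Matrix.of fun i j => p * E i j + u i * w j).det * p = p ^ Fintype.card ι * W := by
  set U : Matrix ι Unit ℂ := Matrix.of fun i _ => u i
  set Wt : Matrix Unit ι ℂ := Matrix.of fun _ j => w j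
  set XM : Matrix (ι ⊕ Unit) (ι ⊕ Unit) ℂ := Matrix.fromBlocks E (-U) Wt (p • 1)
  refine ⟨XM.det, isIntegral_det _ ?_, ?_⟩
  · rintro (i | i) (j | j)
    · exact hE i j
    · exact (hu i).neg
    · exact hw j
    · simpa [XM] using hp
  have h1 : (Matrix.fromBlocks (p • E) (-U) Wt (1 : Matrix Unit Unit ℂ)).det =
      (Matrix.of fun i j => p * E i j + u i * w j).det := by
    rw [Matrix.det_fromBlocks_one₂₂]
    congr 1
    ext i j
    simp [U, Wt, Matrix.mul_apply]
  have h2 : Matrix.fromBlocks (p • E) (-U) Wt (1 : Matrix Unit Unit ℂ) *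
      Matrix.fromBlocks (1 : Matrix ι ι ℂ) 0 0 (p • 1) =
      Matrix.fromBlocks (p • (1 : Matrix ι ι ℂ)) 0 0 1 * XM := by
    simp [XM, Matrix.fromBlocks_multiply]
  have h3 := congrArg Matrix.det h2
  rw [Matrix.det_mul, Matrix.det_mul, h1, Matrix.det_fromBlocks_zero₁₂,
    Matrix.det_fromBlocks_zero₁₂] at h3
  simpa [Matrix.det_smul] using h3

open CfsgLib.CharTheory in
/-- The average conjugate of the form at a nonzero integral vector is at least the rank. -/
theorem form_lower_bound {n : ℕ} [NeZero n] {ι : Type*} [Fintype ι] [DecidableEq ι] (p : ℕ)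
    (hp : p ≠ 0) (T : Finset ι) (Q : ι → ι → ℤ) (hsymm : ∀ i j, Q i j = Q j i)
    (hproj : ∀ i j, ∑ k ∈ T, Q i k * Q k j = (p : ℤ) * Q i j) {r : ℕ}
    (htr : ∑ k ∈ T, Q k k = (p : ℤ) * (r + 1 : ℕ)) (hne : ∀ k ∈ T, Q k k ≠ p)
    (c : ℤ) (rr : ι → ℤ) (E : ι → ι → ℤ) (hone : ∀ i j, Q i j = c * rr i * rr j + (p : ℤ) * E i j)
    (a : ι → rootField n) (hint : ∀ i, IsIntegral ℤ (a i : ℂ))
    (hz : ∑ i, ∑ j, conj (a i : ℂ) * (Q i j : ℂ) * (a j : ℂ) ≠ 0) :
    ((r + 1 : ℕ) : ℝ) * Fintype.card (rootField n →ₐ[ℚ] ℂ) ≤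
      ∑ σ : rootField n →ₐ[ℚ] ℂ, (∑ i, ∑ j, conj (σ (a i)) * (Q i j : ℂ) * σ (a j)).re := by
  classical
  have hpC : (p : ℂ) ≠ 0 := Nat.cast_ne_zero.2 hp
  set φ0 : rootField n →ₐ[ℚ] ℂ := (rootField n).val with hφ0
  set P : Matrix T T ℂ := Matrix.of fun i j => (Q i j : ℂ) / p with hPdef
  have hPc : ∀ i j, conj (P i j) = P j i := fun i j => by simp [hPdef, hsymm j.1 i.1]
  have hH : P.IsHermitian := by ext i j; exact hPc j i
  have hP : P * P = P := by
    ext i j
    simp only [hPdef, Matrix.mul_apply, Matrix.of_apply]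
    have h : ∑ k : T, (Q i k : ℂ) * (Q k j : ℂ) = (p : ℂ) * (Q i j : ℂ) := by
      rw [Finset.sum_coe_sort T fun k => (Q i k : ℂ) * (Q k j : ℂ)]
      exact_mod_cast hproj i j
    simp only [div_mul_div_comm, ← Finset.sum_div, h]
    field_simp
  have htrP : P.trace = ((r + 1 : ℕ) : ℂ) := by
    show ∑ k : T, (Q k k : ℂ) / p = _
    rw [← Finset.sum_div, Finset.sum_coe_sort T fun k => (Q k k : ℂ), div_eq_iff hpC, mul_comm]
    exact_mod_cast htr
  set vK : T → rootField n := fun i => ∑ j, (Q i j : rootField n) * a j with hvK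
  have hσv : ∀ (σ : rootField n →ₐ[ℚ] ℂ) (i : T), σ (vK i) = ∑ j, (Q i j : ℂ) * σ (a j) :=
    fun σ i => by simp [hvK]
  have hv : ∀ σ : rootField n →ₐ[ℚ] ℂ, P *ᵥ (fun i => σ (vK i)) = fun i => σ (vK i) := by
    intro σ
    funext i
    simp only [Matrix.mulVec, dotProduct, hσv, hPdef, Matrix.of_apply, Finset.mul_sum]
    rw [Finset.sum_comm]
    refine Finset.sum_congr rfl fun j _ => ?_
    have h : ∑ k : T, (Q i k : ℂ) * (Q k j : ℂ) = (p : ℂ) * (Q i j : ℂ) := by
      rw [Finset.sum_coe_sort T fun k => (Q i k : ℂ) * (Q k j : ℂ)]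
      exact_mod_cast hproj i j
    simp only [← mul_assoc, ← Finset.sum_mul, div_mul_eq_mul_div, ← Finset.sum_div, h]
    field_simp
  have hnorm : ∀ σ : rootField n →ₐ[ℚ] ℂ, star (fun i => σ (vK i)) ⬝ᵥ (fun i => σ (vK i)) =
      (p : ℂ) * ∑ i, ∑ j, conj (σ (a i)) * (Q i j : ℂ) * σ (a j) := by
    intro σ
    simp only [dotProduct, Pi.star_apply, Complex.star_def, hσv, map_sum, map_mul, map_intCast]
    rw [Finset.sum_congr rfl fun k _ => Finset.sum_mul_sum _ _ _ _]
    simp only [Finset.mul_sum]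
    rw [Finset.sum_comm]
    refine Finset.sum_congr rfl fun i _ => ?_
    rw [Finset.sum_comm]
    refine Finset.sum_congr rfl fun j _ => ?_
    have h : ∑ k : T, (Q k i : ℂ) * (Q k j : ℂ) = (p : ℂ) * (Q i j : ℂ) := by
      rw [Finset.sum_coe_sort T fun k => (Q k i : ℂ) * (Q k j : ℂ)]
      simp only [hsymm _ i]
      exact_mod_cast hproj i j
    calc ∑ k : T, (Q k i : ℂ) * conj (σ (a i)) * ((Q k j : ℂ) * σ (a j))
        = (∑ k : T, (Q k i : ℂ) * (Q k j : ℂ)) * (conj (σ (a i)) * σ (a j)) := by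
          rw [Finset.sum_mul]; exact Finset.sum_congr rfl fun k _ => by ring
      _ = _ := by rw [h]; ring
  set v : T → ℂ := fun i => φ0 (vK i) with hvdef
  have hv0 : v ≠ 0 := fun h => hz (by
    have h1 := hnorm φ0
    rw [← hvdef, h] at h1
    have h2 : (p : ℂ) * ∑ i, ∑ j, conj (φ0 (a i)) * (Q i j : ℂ) * φ0 (a j) = 0 := by
      rw [← h1]; simp
    exact (mul_eq_zero.1 h2).resolve_left hpC)
  obtain ⟨F, hFcard, hF⟩ := exists_family P hP htrP (fun b hb => hne b b.2 (by
    have : (Q b b : ℂ) = (p : ℂ) := by simpa [hPdef, div_eq_one_iff_eq hpC] using hb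
    exact_mod_cast this)) v (hv _) hv0
  -- the Gram determinants over the field
  have hn := NeZero.ne n
  set aK : ι → rootField n := fun i => ⟨conj (a i : ℂ), (conj_galois hn φ0 (a i).2).1⟩
  have haK : ∀ (σ : rootField n →ₐ[ℚ] ℂ) i, σ (aK i) = conj (σ (a i)) := fun σ i =>
    (conj_galois hn σ (a i).2).2
  set zK : rootField n := ∑ i, ∑ j, aK i * (Q i j : rootField n) * a j with hzK
  set vK' : T → rootField n := fun i => ∑ j, (Q i j : rootField n) * aK j with hvK'
  set MK : (J : Finset T) → Matrix (J ⊕ Unit) (J ⊕ Unit) (rootField n) := fun J =>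
    Matrix.fromBlocks (Matrix.of fun i j : J => (Q i.1 j.1 : rootField n) / (p : rootField n))
      (Matrix.of fun (i : J) (_ : Unit) => vK i) (Matrix.of fun (_ : Unit) (j : J) => vK' j)
      (Matrix.of fun _ _ => (p : rootField n) * zK) with hMK
  set u : Finset T → rootField n := fun J => (MK J).det / (p : rootField n) with hu
  have hσu : ∀ (σ : rootField n →ₐ[ℚ] ℂ) J, σ (u J) = gram P (fun i => σ (vK i)) J / p := by
    intro σ J
    rw [gram_eq P hH hP _ (hv σ), hnorm σ, hu]
    simp only [map_div₀, map_natCast, AlgHom.map_det, hMK]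
    congr 2
    ext (i | i) (j | j)
    · simp [hPdef]
    · simp
    · simp [hvK', hσv, haK, map_sum]
    · simp [hzK, haK, map_sum]
  have hupos : ∀ J ∈ F, ∀ σ : rootField n →ₐ[ℚ] ℂ, ∃ x : ℝ, 0 < x ∧ σ (u J) = (x : ℂ) := by
    intro J hJ σ
    have hu0 : u J ≠ 0 := by
      intro h
      have := hσu φ0 J
      rw [h, map_zero, eq_comm, div_eq_zero_iff] at this
      exact this.elim (hF J hJ).2 hpC
    have hg := gram_nonneg P (fun i => σ (vK i)) J
    obtain ⟨hre, him⟩ := Complex.nonneg_iff.1 hg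
    have hge : gram P (fun i => σ (vK i)) J = ((gram P (fun i => σ (vK i)) J).re : ℂ) :=
      Complex.ext rfl (by rw [Complex.ofReal_im]; exact him.symm)
    refine ⟨(gram P (fun i => σ (vK i)) J).re / p, ?_, ?_⟩
    · refine div_pos (lt_of_le_of_ne hre fun h => ?_) (by exact_mod_cast Nat.pos_of_ne_zero hp)
      have h1 := hσu σ J
      rw [hge, ← h, Complex.ofReal_zero, zero_div, map_eq_zero_iff σ σ.injective] at h1
      exact hu0 h1
    · rw [hσu, Complex.ofReal_div, Complex.ofReal_natCast, ← hge]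
  have huint : ∀ J ∈ F, IsIntegral ℤ (u J : ℂ) := by
    intro J hJ
    show IsIntegral ℤ (φ0 (u J))
    rw [hσu, gram_eq P hH hP _ (hv _), hnorm]
    have hI : ∀ m : ℤ, IsIntegral ℤ (m : ℂ) := fun m => by
      simpa using (isIntegral_algebraMap (R := ℤ) (A := ℂ) (x := m))
    have hA : ∀ i, IsIntegral ℤ (φ0 (a i)) := hint
    have hA' : ∀ i, IsIntegral ℤ (conj (φ0 (a i))) := fun i =>
      (hA i).map ((Complex.conjAe.toAlgHom).restrictScalars ℤ)
    set R : ℂ := ∑ i, (rr i : ℂ) * φ0 (a i) with hR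
    set R' : ℂ := ∑ i, (rr i : ℂ) * conj (φ0 (a i)) with hR'
    have hone' : ∀ i j, (Q i j : ℂ) = (c : ℂ) * rr i * rr j + (p : ℂ) * E i j := fun i j => by
      exact_mod_cast hone i j
    obtain ⟨W, hW, hdet⟩ := det_rank_one (p : ℂ) (by simpa using hI p)
      (Matrix.fromBlocks (Matrix.of fun i j : J => (E i.1 j.1 : ℂ))
        (Matrix.of fun (i : J) (_ : Unit) => ∑ k, (E i.1 k : ℂ) * φ0 (a k))
        (Matrix.of fun (_ : Unit) (j : J) => ∑ k, (E k j.1 : ℂ) * conj (φ0 (a k)))
        (Matrix.of fun _ _ => ∑ k, ∑ l,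
          conj (φ0 (a k)) * (E k l : ℂ) * φ0 (a l)))
      (by
        rintro (i | i) (j | j)
        · exact hI _
        · exact IsIntegral.sum _ fun k _ => (hI _).mul (hA k)
        · exact IsIntegral.sum _ fun k _ => (hI _).mul (hA' k)
        · exact IsIntegral.sum _ fun k _ => IsIntegral.sum _ fun l _ =>
            ((hA' k).mul (hI _)).mul (hA l))
      (Sum.elim (fun i : J => (c : ℂ) * rr i.1) (fun _ => (c : ℂ) * R'))
      (Sum.elim (fun j : J => (rr j.1 : ℂ)) (fun _ => R))
      (by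
        rintro (i | i)
        · exact (hI c).mul (hI _)
        · exact (hI c).mul (IsIntegral.sum _ fun k _ => (hI _).mul (hA' k)))
      (by
        rintro (i | i)
        · exact hI _
        · exact IsIntegral.sum _ fun k _ => (hI _).mul (hA k))
    set M0 := Matrix.of fun x y => (p : ℂ) * (Matrix.fromBlocks
      (Matrix.of fun i j : J => (E i.1 j.1 : ℂ))
        (Matrix.of fun (i : J) (_ : Unit) => ∑ k, (E i.1 k : ℂ) * φ0 (a k))
        (Matrix.of fun (_ : Unit) (j : J) => ∑ k, (E k j.1 : ℂ) * conj (φ0 (a k)))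
        (Matrix.of fun _ _ => ∑ k, ∑ l,
          conj (φ0 (a k)) * (E k l : ℂ) * φ0 (a l))) x y +
      Sum.elim (fun i : J => (c : ℂ) * rr i.1) (fun _ => (c : ℂ) * R') x *
      Sum.elim (fun j : J => (rr j.1 : ℂ)) (fun _ => R) y with hM0
    have hentry : Matrix.fromBlocks (P.submatrix (Subtype.val : J → T) Subtype.val)
        (Matrix.of fun (j : J) (_ : Unit) => φ0 (vK j))
        (Matrix.of fun (_ : Unit) (j : J) => conj (φ0 (vK j)))
        (Matrix.of fun _ _ => (p : ℂ) * ∑ i, ∑ j,
          conj (φ0 (a i)) * (Q i j : ℂ) * φ0 (a j)) =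
        (p : ℂ)⁻¹ • (Matrix.diagonal (Sum.elim (fun _ => 1) fun _ => (p : ℂ)) * M0 *
          Matrix.diagonal (Sum.elim (fun _ => 1) fun _ => (p : ℂ))) := by
      ext (i | i) (j | j) <;> simp only [hM0, Matrix.smul_apply, Matrix.mul_diagonal,
        Matrix.diagonal_mul, Matrix.of_apply, Matrix.fromBlocks_apply₁₁, Matrix.fromBlocks_apply₁₂,
        Matrix.fromBlocks_apply₂₁, Matrix.fromBlocks_apply₂₂, Sum.elim_inl, Sum.elim_inr,
        Matrix.submatrix_apply, smul_eq_mul, hPdef]
      · rw [hone']; field_simp; ring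
      · rw [hσv]; simp only [hone']
        field_simp
        simp only [hR, Finset.mul_sum, ← Finset.sum_add_distrib]
        exact Finset.sum_congr rfl fun k _ => by ring
      · rw [hσv, map_sum]; simp only [map_mul, map_intCast, hone', hsymm (j.1 : T)]
        field_simp
        simp only [hR', Finset.mul_sum, Finset.sum_mul, ← Finset.sum_add_distrib]
        refine Finset.sum_congr rfl fun k _ => ?_
        have h' : (c : ℂ) * rr j.1 * rr k + (p : ℂ) * E j.1 k =
            (c : ℂ) * rr k * rr j.1 + (p : ℂ) * E k j.1 := by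
          rw [← hone', ← hone', hsymm]
        simp only [map_add, map_mul, map_intCast, map_natCast]
        ring
      · have hzeq : ∑ i, ∑ j, conj (φ0 (a i)) * (Q i j : ℂ) * φ0 (a j) =
            (p : ℂ) * (∑ k, ∑ l, conj (φ0 (a k)) * (E k l : ℂ) * φ0 (a l)) + (c : ℂ) * R' * R := by
          simp only [hone', hR, hR', mul_assoc (c : ℂ), Finset.sum_mul_sum]
          simp only [Finset.mul_sum, ← Finset.sum_add_distrib]
          exact Finset.sum_congr rfl fun k _ => Finset.sum_congr rfl fun l _ => by ring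
        rw [hzeq]
        field_simp
    rw [hentry, Matrix.det_smul, Matrix.det_mul, Matrix.det_mul]
    convert hW using 1
    rw [Matrix.det_diagonal, Fintype.prod_sum_type]
    simp only [Sum.elim_inl, Sum.elim_inr, Finset.prod_const_one, Finset.univ_unique,
      Finset.prod_singleton, one_mul]
    rw [inv_pow]
    field_simp
    rw [hM0]
    linear_combination hdet
  -- summation
  have hN : ((r + 1 : ℕ) : ℝ) * Fintype.card (rootField n →ₐ[ℚ] ℂ) ≤
      ∑ J ∈ F, ∑ σ : rootField n →ₐ[ℚ] ℂ, (σ (u J)).re := by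
    refine le_trans ?_ (Finset.sum_le_sum fun J hJ => card_le_sum_pos (u J) (huint J hJ) (hupos J hJ))
    rw [Finset.sum_const, nsmul_eq_mul]
    exact mul_le_mul_of_nonneg_right (by exact_mod_cast hFcard) (Nat.cast_nonneg _)
  refine hN.trans ?_
  rw [Finset.sum_comm]
  refine Finset.sum_le_sum fun σ _ => ?_
  have hσ0 : (fun i => σ (vK i)) ≠ 0 := fun h => hv0 (funext fun i => by
    have h1 := congrFun h i
    rw [Pi.zero_apply, map_eq_zero_iff σ σ.injective] at h1
    show φ0 (vK i) = 0
    rw [h1, map_zero])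
  have h := sum_gram_le P hH hP htrP _ (hv σ) hσ0 F fun J hJ => (hF J hJ).1
  rw [hnorm] at h
  have h2 := (Complex.le_def.1 h).1
  simp only [hσu, Complex.div_natCast_re, ← Finset.sum_div]
  rw [Complex.re_sum] at h2
  rw [div_le_iff₀ (by exact_mod_cast Nat.pos_of_ne_zero hp), mul_comm]
  simpa using h2

end CfsgLib.Blocks.RankOne
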