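import Cfsg.Agent.Lib.Blocks.SectionBound
import Cfsg.Agent.Lib.Blocks.RankOne
import Cfsg.Agent.Lib.Blocks.FongLocal
import Cfsg.Agent.Lib.Blocks.MaxPairs

/-!
# The Brauer–Feit theorem: `k(B) ≤ p^d` for `d ≤ 2` and `k(B) ≤ p^(2d-2)` for `d ≥ 3`
-/

namespace CfsgLib.Blocks

open Cfsg CfsgLib.CharTheory
open scoped ComplexConjugate

set_option linter.unusedVariables false
set_option linter.unusedSimpArgs false
set_option linter.style.haveILetI false
set_option linter.unusedSectionVars false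

universe u

variable {p : ℕ} {M : Ideal AlgInt} {G : Type u} [Group G] [Fintype G]

/-- A central element of a defect group gives a major subsection. -/
theorem exists_major (hM : IsPModular p M) {B : Set (IrrCharacter G)} (hB : IsPBlock M B)
    {D : Subgroup G} (hD : IsDefectGroup p M B D) {x : G} (hxD : x ∈ D)
    (hxc : ∀ y ∈ D, x * y = y * x) :
    ∃ b : Set (IrrCharacter (Subgroup.centralizer ((Subgroup.zpowers x : Subgroup G) : Set G))),
      IsInducedBlock M (Subgroup.centralizer ((Subgroup.zpowers x : Subgroup G) : Set G)) b B ∧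
      blockDefect p b = blockDefect p B := by
  classical
  haveI : Fact p.Prime := ⟨hM.1⟩
  haveI := Fintype.ofFinite (Subgroup.centralizer ((Subgroup.zpowers x : Subgroup G) : Set G))
  set Q := Subgroup.zpowers x with hQ
  have hDp := defectGroup_isPGroup hD
  have hcardD := card_defectGroup hM hB hD
  have hQD : Q ≤ D := Subgroup.zpowers_le.2 hxD
  have hQp : IsPGroup p Q := hDp.to_le hQD
  have hDC : D ≤ Subgroup.centralizer (Q : Set G) := fun y hy q hq => by
    obtain ⟨m, rfl⟩ := Subgroup.mem_zpowers_iff.1 hq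
    exact (Commute.zpow_left (hxc y hy) m).eq
  obtain ⟨e, he⟩ := exists_maximal_at hM hB hD
  have hep : IsBrauerPairOf p M B D e := he.1
  obtain ⟨f, ⟨hf, hle⟩, -⟩ := existsUnique_subpair hM hDp hep.1.2 Q hQD
  refine ⟨f, (induced_centralizer_iff hM hQp).2 ((pairOf_subpair_iff hM hle B).2 hep), ?_⟩
  have h1 := card_centP_le hM hDp hQD hf hep.1.2 hle
  rw [inf_eq_left.2 hDC, hcardD] at h1
  obtain ⟨g, -, h2⟩ := exists_conj_centP hM he hf hle
  have h3 : p ^ blockDefect p f ≤ p ^ blockDefect p B := by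
    rw [h2, ← hcardD]
    exact Nat.card_le_card_of_injective _
      (Subgroup.inclusion_injective (inf_le_left : _ ⊓ _ ≤ D))
  exact le_antisymm ((Nat.pow_le_pow_iff_right hM.1.one_lt).1 h3)
    ((Nat.pow_le_pow_iff_right hM.1.one_lt).1 h1)

section Central

variable {z : G}

/-- The characters of `b` with the central element `z` in their kernel. -/
noncomputable def kerSet (z : G) (b : Set (IrrCharacter G)) : Finset (IrrCharacter G) :=
  open Classical in (bset b).filter fun ψ => (ψ : G → ℂ) z = (ψ : G → ℂ) 1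

/-- Characters trivial on a central subgroup of order `p` project onto the regular parts. -/
theorem sum_kerSet_regS (hM : IsPModular p M) (hz : z ∈ Subgroup.center G) (hord : orderOf z = p)
    {b : Set (IrrCharacter G)} (hb : IsPBlock M b) {φ : IrrCharacter G} (hφ : φ ∈ b) {c : G}
    (hc : ¬ p ∣ orderOf c) :
    (p : ℂ) * ∑ ψ ∈ kerSet z b, regS p (φ : G → ℂ) (ψ : G → ℂ) * (ψ : G → ℂ) c =
      (Nat.card G : ℂ) * (φ : G → ℂ) c := by
  classical
  have hp := hM.1
  set ω : IrrCharacter G → ℂ := fun ψ => (ψ : G → ℂ) z / (ψ : G → ℂ) 1 with hω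
  have hωp : ∀ ψ, ω ψ ^ p = 1 := fun ψ => by rw [← hord]; exact central_value_pow hz ψ
  have hpow : ∀ (ψ : IrrCharacter G) (j : ℕ) (g : G),
      (ψ : G → ℂ) (z ^ j * g) = ω ψ ^ j * (ψ : G → ℂ) g := by
    intro ψ j g
    induction j generalizing g with
    | zero => simp
    | succ j ih => rw [pow_succ, mul_assoc, ih, central_value_mul hz, ← mul_assoc, ← pow_succ]
  have hgeom : ∀ ψ : IrrCharacter G, ∑ j ∈ Finset.range p, ω ψ ^ j =
      if (ψ : G → ℂ) z = (ψ : G → ℂ) 1 then (p : ℂ) else 0 := by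
    intro ψ
    by_cases h : (ψ : G → ℂ) z = (ψ : G → ℂ) 1
    · rw [if_pos h, hω]; simp [h, irr_one_ne_zero ψ]
    · rw [if_neg h]
      have h1 : ω ψ ≠ 1 := fun e => h (div_eq_one_iff_eq (irr_one_ne_zero ψ) |>.1 e)
      rw [geom_sum_eq h1, hωp, sub_self, zero_div]
  have hzero : ∀ j ∈ Finset.range p, j ≠ 0 → ∀ c' : G, ¬ p ∣ orderOf c' →
      ∑ ψ : IrrCharacter G, (ψ : G → ℂ) (z ^ j * c) * conj ((ψ : G → ℂ) c') = 0 := by
    intro j hj hj0 c' hc'
    rw [sum_irr_mul_conj, if_neg]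
    intro hcon
    obtain ⟨g, hg⟩ := isConj_iff.1 hcon
    have hcz : Commute (z ^ j) c := (Subgroup.mem_center_iff.1 (Subgroup.pow_mem _ hz j) c).symm
    have hjd : ¬ p ∣ j := fun hd =>
      absurd (Nat.le_of_dvd (Nat.pos_of_ne_zero hj0) hd) (not_le.2 (Finset.mem_range.1 hj))
    have hoz : orderOf (z ^ j) = p := by
      rw [orderOf_pow' _ hj0, hord, ((hp.coprime_iff_not_dvd).2 hjd), Nat.div_one]
    have : p ∣ orderOf c' := by
      rw [← hg, conj_orderOf, hcz.orderOf_mul_eq_mul_orderOf_of_coprime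
        (by rw [hoz]; exact hp.coprime_iff_not_dvd.2 hc), hoz]
      exact dvd_mul_right p _
    exact hc' this
  have key : ∀ c' : G, ¬ p ∣ orderOf c' →
      (p : ℂ) * ∑ ψ ∈ Finset.univ.filter (fun ψ : IrrCharacter G =>
          (ψ : G → ℂ) z = (ψ : G → ℂ) 1), (ψ : G → ℂ) c * conj ((ψ : G → ℂ) c') =
        ∑ ψ : IrrCharacter G, (ψ : G → ℂ) c * conj ((ψ : G → ℂ) c') := by
    intro c' hc'
    have h1 : ∑ j ∈ Finset.range p, ∑ ψ : IrrCharacter G,
        (ψ : G → ℂ) (z ^ j * c) * conj ((ψ : G → ℂ) c') =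
        ∑ ψ : IrrCharacter G, (ψ : G → ℂ) c * conj ((ψ : G → ℂ) c') := by
      rw [Finset.sum_eq_single 0 (fun j hj hj0 => hzero j hj hj0 c' hc')
        (fun h => absurd (Finset.mem_range.2 hp.pos) h)]
      simp
    rw [← h1, Finset.sum_comm, Finset.mul_sum, Finset.sum_filter]
    refine Finset.sum_congr rfl fun ψ _ => ?_
    simp only [hpow, ← Finset.sum_mul, mul_assoc, hgeom]
    split_ifs <;> ring
  have hker : ∑ ψ ∈ kerSet z b, regS p (φ : G → ℂ) (ψ : G → ℂ) * (ψ : G → ℂ) c =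
      ∑ ψ ∈ Finset.univ.filter (fun ψ : IrrCharacter G =>
          (ψ : G → ℂ) z = (ψ : G → ℂ) 1), regS p (φ : G → ℂ) (ψ : G → ℂ) * (ψ : G → ℂ) c := by
    refine Finset.sum_subset (fun ψ hψ => Finset.mem_filter.2
      ⟨Finset.mem_univ _, (Finset.mem_filter.1 hψ).2⟩) fun ψ hψ hn => ?_
    rw [regS_eq_zero hM (fun hs => hn (Finset.mem_filter.2 ⟨mem_bset.2 (by
      rw [eq_blockOf hM hb hφ]; exact hs), (Finset.mem_filter.1 hψ).2⟩)), zero_mul]
  have hexp : ∀ (S : Finset (IrrCharacter G)),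
      ∑ ψ ∈ S, regS p (φ : G → ℂ) (ψ : G → ℂ) * (ψ : G → ℂ) c =
      ∑ c' ∈ Finset.univ.filter (fun g => ¬ p ∣ orderOf g),
        (φ : G → ℂ) c' * ∑ ψ ∈ S, (ψ : G → ℂ) c * conj ((ψ : G → ℂ) c') := by
    intro S
    simp only [regS_eq_sum, Finset.sum_mul, Finset.mul_sum]
    rw [Finset.sum_comm]
    exact Finset.sum_congr rfl fun c' _ => Finset.sum_congr rfl fun ψ _ => by rw [irr_inv]; ring
  have hall := sum_regS_mul hM hb φ c
  rw [if_neg hc, ind_of_mem hφ, one_mul] at hall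
  rw [← hall, Finset.sum_subset (Finset.subset_univ (bset b)) (fun ψ _ hψ => by
      rw [regS_eq_zero hM (fun hs => hψ (mem_bset.2 (by
        rw [eq_blockOf hM hb hφ]; exact hs))), zero_mul]),
    hker, hexp, hexp, Finset.mul_sum]
  refine Finset.sum_congr rfl fun c' hc' => ?_
  rw [← key c' (Finset.mem_filter.1 hc').2]
  ring

theorem blockRank_le_kerSet (hM : IsPModular p M) (hz : z ∈ Subgroup.center G)
    (hord : orderOf z = p) {b : Set (IrrCharacter G)} (hb : IsPBlock M b) :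
    blockRank p b ≤ (kerSet z b).card := by
  classical
  have hsub : Submodule.span ℂ ((fun χ : IrrCharacter G => pRegularPart p (χ : G → ℂ)) '' b) ≤
      Submodule.span ℂ (((kerSet z b).image fun χ : IrrCharacter G =>
        pRegularPart p (χ : G → ℂ) : Finset (G → ℂ)) : Set (G → ℂ)) := by
    rw [Submodule.span_le]
    rintro _ ⟨φ, hφ, rfl⟩
    have hG : (Nat.card G : ℂ) ≠ 0 := Nat.cast_ne_zero.2 Nat.card_pos.ne'
    have e : pRegularPart p (φ : G → ℂ) = ∑ ψ ∈ kerSet z b,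
        ((p : ℂ) / (Nat.card G : ℂ) * regS p (φ : G → ℂ) (ψ : G → ℂ)) •
          pRegularPart p (ψ : G → ℂ) := by
      funext c
      simp only [Finset.sum_apply, Pi.smul_apply, smul_eq_mul, pRegularPart_apply]
      by_cases hc : p ∣ orderOf c
      · simp [hc]
      · simp only [if_neg hc]
        simp only [mul_assoc, ← Finset.mul_sum]
        rw [div_mul_eq_mul_div, sum_kerSet_regS hM hz hord hb hφ hc, mul_div_cancel_left₀ _ hG]
    show pRegularPart p (φ : G → ℂ) ∈ _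
    rw [e]
    exact Submodule.sum_mem _ fun ψ hψ => Submodule.smul_mem _ _
      (Submodule.subset_span (Finset.mem_coe.2 (Finset.mem_image_of_mem _ hψ)))
  exact (Submodule.finrank_mono hsub).trans
    ((finrank_span_finset_le_card (R := ℂ) _).trans Finset.card_image_le)

theorem secQ_proj (hM : IsPModular p M) {H : Subgroup G} [Fintype H] {z : H}
    (hz : z ∈ Subgroup.center H) (hord : orderOf z = p)
    {b : Set (IrrCharacter H)} (hb : IsPBlock M b) (φ φ' : IrrCharacter H) :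
    (p : ℤ) * ∑ ψ ∈ kerSet z b, secQ p b φ ψ * secQ p b ψ φ' =
      (p : ℤ) ^ blockDefect p b * secQ p b φ φ' := by
  classical
  by_cases h : φ ∈ b ∧ φ' ∈ b
  · have hH : (Nat.card H : ℂ) ≠ 0 := Nat.cast_ne_zero.2 Nat.card_pos.ne'
    have hcomp : (p : ℂ) * ∑ ψ ∈ kerSet z b,
        regS p (φ : H → ℂ) (ψ : H → ℂ) * regS p (ψ : H → ℂ) (φ' : H → ℂ) =
        (Nat.card H : ℂ) * regS p (φ : H → ℂ) (φ' : H → ℂ) := by
      simp only [regS_eq_sum p (_ : H → ℂ) (φ' : H → ℂ), Finset.mul_sum]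
      rw [Finset.sum_comm]
      refine Finset.sum_congr rfl fun c hc => ?_
      rw [← mul_assoc, ← sum_kerSet_regS hM hz hord hb h.1 (Finset.mem_filter.1 hc).2,
        Finset.mul_sum, Finset.sum_mul]
      exact Finset.sum_congr rfl fun ψ _ => by ring
    have e : ((p : ℂ) * ∑ ψ ∈ kerSet z b, (secQ p b φ ψ : ℂ) * (secQ p b ψ φ' : ℂ)) =
        (p : ℂ) ^ blockDefect p b * (secQ p b φ φ' : ℂ) := by
      refine mul_left_cancel₀ (pow_ne_zero 2 hH) ?_
      calc (Nat.card H : ℂ) ^ 2 *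
            ((p : ℂ) * ∑ ψ ∈ kerSet z b, (secQ p b φ ψ : ℂ) * (secQ p b ψ φ' : ℂ))
          = ((p : ℂ) ^ blockDefect p b) ^ 2 * ((p : ℂ) * ∑ ψ ∈ kerSet z b,
              regS p (φ : H → ℂ) (ψ : H → ℂ) * regS p (ψ : H → ℂ) (φ' : H → ℂ)) := by
            simp only [Finset.mul_sum]
            refine Finset.sum_congr rfl fun ψ hψ => ?_
            have hψb : ψ ∈ b := mem_bset.1 (Finset.mem_filter.1 hψ).1
            linear_combination
              -((p : ℂ) * (p : ℂ) ^ blockDefect p b * regS p (φ : H → ℂ) (ψ : H → ℂ)) *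
                secQ_spec hM hb hψb h.2 -
              ((p : ℂ) * (Nat.card H : ℂ) * (secQ p b ψ φ' : ℂ)) * secQ_spec hM hb h.1 hψb
        _ = _ := by
            rw [hcomp]
            linear_combination
              ((p : ℂ) ^ blockDefect p b * (Nat.card H : ℂ)) * secQ_spec hM hb h.1 h.2
    exact_mod_cast e
  · rw [secQ_off h, mul_zero, Finset.sum_eq_zero, mul_zero]
    intro ψ _
    by_cases hφ : φ ∈ b
    · rw [secQ_off (fun h' => h ⟨hφ, h'.2⟩ : ¬ (ψ ∈ b ∧ φ' ∈ b)), mul_zero]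
    · rw [secQ_off (fun h' => hφ h'.1 : ¬ (φ ∈ b ∧ ψ ∈ b)), zero_mul]

theorem secQ_row_sq (hM : IsPModular p M) {H : Subgroup G} [Fintype H]
    {b : Set (IrrCharacter H)} (hb : IsPBlock M b) {φ : IrrCharacter H} (hφ : φ ∈ b) :
    ∑ ψ ∈ bset b, secQ p b φ ψ ^ 2 = (p : ℤ) ^ blockDefect p b * secQ p b φ φ := by
  have hH : (Nat.card H : ℂ) ≠ 0 := Nat.cast_ne_zero.2 Nat.card_pos.ne'
  have e : ∑ ψ ∈ bset b, (secQ p b φ ψ : ℂ) ^ 2 =
      (p : ℂ) ^ blockDefect p b * (secQ p b φ φ : ℂ) := by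
    refine mul_left_cancel₀ (pow_ne_zero 2 hH) ?_
    rw [Finset.mul_sum, Finset.sum_congr rfl fun ψ hψ => show (Nat.card H : ℂ) ^ 2 *
      (secQ p b φ ψ : ℂ) ^ 2 = ((p : ℂ) ^ blockDefect p b) ^ 2 *
        regS p (φ : H → ℂ) (ψ : H → ℂ) ^ 2 by
          rw [← mul_pow, ← mul_pow, secQ_spec hM hb hφ (mem_bset.1 hψ)],
      ← Finset.mul_sum, sum_regS_sq hM hb hφ]
    linear_combination ((p : ℂ) ^ blockDefect p b * (Nat.card H : ℂ)) * secQ_spec hM hb hφ hφ
  exact_mod_cast e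

theorem secQ_trace_ker (hM : IsPModular p M) {H : Subgroup G} [Fintype H] {z : H}
    (hz : z ∈ Subgroup.center H) (hord : orderOf z = p)
    {b : Set (IrrCharacter H)} (hb : IsPBlock M b) :
    (p : ℤ) * ∑ ψ ∈ kerSet z b, secQ p b ψ ψ = (p : ℤ) ^ blockDefect p b * blockRank p b := by
  classical
  have hH : (Nat.card H : ℂ) ≠ 0 := Nat.cast_ne_zero.2 Nat.card_pos.ne'
  have htot : ∑ φ ∈ bset b, secQ p b φ φ = (p : ℤ) ^ blockDefect p b * blockRank p b := by
    have e : ∑ φ ∈ bset b, (secQ p b φ φ : ℂ) =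
        (p : ℂ) ^ blockDefect p b * (blockRank p b : ℂ) := by
      refine mul_left_cancel₀ hH ?_
      rw [mul_left_comm, card_mul_blockRank hM hb, Finset.mul_sum, Finset.mul_sum]
      exact Finset.sum_congr rfl fun φ hφ =>
        (secQ_spec hM hb (mem_bset.1 hφ) (mem_bset.1 hφ)).symm
    exact_mod_cast e
  have hpd : (p : ℤ) ^ blockDefect p b ≠ 0 := pow_ne_zero _ (by exact_mod_cast hM.1.ne_zero)
  refine mul_left_cancel₀ hpd ?_
  rw [← htot, Finset.mul_sum (bset b) _ ((p : ℤ) ^ blockDefect p b),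
    Finset.sum_congr rfl fun φ _ => (secQ_proj hM hz hord hb φ φ).symm, Finset.mul_sum,
    Finset.mul_sum]
  conv_rhs => simp only [Finset.mul_sum]
  rw [Finset.sum_comm (s := bset b)]
  refine Finset.sum_congr rfl fun ψ hψ => ?_
  rw [mul_left_comm, ← secQ_row_sq hM hb (mem_bset.1 (Finset.mem_filter.1 hψ).1), Finset.mul_sum]
  exact Finset.sum_congr rfl fun φ _ => by rw [secQ_symm hM hb φ ψ, sq]

/-- Regular elements of a quotient by an element of order `p` lift to regular elements. -/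
theorem exists_regular_lift (hM : IsPModular p M) (hord : orderOf z = p)
    [(Subgroup.zpowers z).Normal] (q : G ⧸ Subgroup.zpowers z) (hq : ¬ p ∣ orderOf q) :
    ∃ a : G, ¬ p ∣ orderOf a ∧ (a : G ⧸ Subgroup.zpowers z) = q := by
  obtain ⟨g, rfl⟩ := QuotientGroup.mk_surjective q
  obtain ⟨u, w, huw, hc, ⟨k, hu⟩, hw, hum, hwm⟩ := exists_pPart hM.1 g
  refine ⟨w, hw, ?_⟩
  have h1 : ((u : G) : G ⧸ Subgroup.zpowers z) = 1 := by
    rw [← orderOf_eq_one_iff]
    refine Nat.eq_one_of_dvd_coprimes ((hM.1.coprime_iff_not_dvd.2 hq).pow_left k) ?_ ?_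
    · rw [← hu]
      exact orderOf_map_dvd (QuotientGroup.mk' (Subgroup.zpowers z)) u
    · obtain ⟨m, hm⟩ := hum
      refine orderOf_dvd_of_pow_eq_one ?_
      have hm' : g ^ m = u := hm
      rw [← hm', QuotientGroup.mk_zpow, ← zpow_natCast, ← zpow_mul, mul_comm, zpow_mul,
        zpow_natCast, pow_orderOf_eq_one, one_zpow]
  rw [← huw, QuotientGroup.mk_mul, h1, one_mul]

/-- Class sizes of regular elements are preserved in the quotient by a central `p`-element. -/
theorem clv_quotient (hM : IsPModular p M) (hz : z ∈ Subgroup.center G) (hord : orderOf z = p)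
    [(Subgroup.zpowers z).Normal] [Fintype (G ⧸ Subgroup.zpowers z)] {a : G} (ha : ¬ p ∣ orderOf a)
    (θ : IrrCharacter (G ⧸ Subgroup.zpowers z)) (χ : IrrCharacter G)
    (h : (χ : G → ℂ) = fun g : G => (θ : G ⧸ Subgroup.zpowers z → ℂ) g) :
    clv a χ = clv (a : G ⧸ Subgroup.zpowers z) θ := by
  classical
  have hcard : Nat.card {x : G // IsConj a x} =
      Nat.card {x : G ⧸ Subgroup.zpowers z // IsConj (a : G ⧸ Subgroup.zpowers z) x} := by
    refine Nat.card_eq_of_bijective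
      (fun x => ⟨(x.1 : G ⧸ Subgroup.zpowers z), (QuotientGroup.mk' (Subgroup.zpowers z)).map_isConj x.2⟩)
      ⟨fun x y hxy => ?_, fun q => ?_⟩
    · have hxy' : ((x.1 : G) : G ⧸ Subgroup.zpowers z) = y.1 := congrArg Subtype.val hxy
      rw [QuotientGroup.eq, Subgroup.mem_zpowers_iff] at hxy'
      obtain ⟨j, hj⟩ := hxy'
      have hy : y.1 = x.1 * z ^ j := by rw [hj, mul_inv_cancel_left]
      obtain ⟨g, hg⟩ := isConj_iff.1 x.2
      obtain ⟨g', hg'⟩ := isConj_iff.1 y.2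
      have hxr : ¬ p ∣ orderOf x.1 := by rwa [← hg, conj_orderOf]
      have hyr : ¬ p ∣ orderOf y.1 := by rwa [← hg', conj_orderOf]
      have hcz : Commute x.1 (z ^ j) := Subgroup.mem_center_iff.1 (Subgroup.zpow_mem _ hz j) x.1
      have hzj : orderOf (z ^ j) ∣ p := by
        rw [← hord]
        exact orderOf_dvd_of_mem_zpowers ⟨j, rfl⟩
      rcases (Nat.dvd_prime hM.1).1 hzj with h1 | h1
      · exact Subtype.ext (by rw [hy, orderOf_eq_one_iff.1 h1, mul_one])
      · refine absurd ?_ hyr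
        rw [hy, hcz.orderOf_mul_eq_mul_orderOf_of_coprime
          (by rw [h1]; exact (hM.1.coprime_iff_not_dvd.2 hxr).symm), h1]
        exact dvd_mul_left p _
    · obtain ⟨q, hq⟩ := q
      obtain ⟨g, hg⟩ := isConj_iff.1 hq
      obtain ⟨g', rfl⟩ := QuotientGroup.mk_surjective g
      refine ⟨⟨g' * a * g'⁻¹, isConj_iff.2 ⟨g', rfl⟩⟩, Subtype.ext ?_⟩
      show ((g' * a * g'⁻¹ : G) : G ⧸ Subgroup.zpowers z) = q
      rw [← hg]
      rfl
  show centralChar (χ : G → ℂ) a = centralChar (θ : G ⧸ Subgroup.zpowers z → ℂ) _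
  rw [centralChar, centralChar, index_centralizer_eq, index_centralizer_eq, hcard, h]
  rfl

/-- The characters trivial on a central element of order `p` lie in one block of the quotient. -/
theorem exists_quotient_block (hM : IsPModular p M) (hz : z ∈ Subgroup.center G)
    (hord : orderOf z = p) {b : Set (IrrCharacter G)} (hb : IsPBlock M b) :
    ∃ (K : Type u) (_ : Group K) (_ : Fintype K) (C : Set (IrrCharacter K)),
      IsPBlock M C ∧ blockDefect p C ≤ blockDefect p b - 1 ∧ (kerSet z b).card ≤ Nat.card C := by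
  classical
  haveI : Fact p.Prime := ⟨hM.1⟩
  set Z := Subgroup.zpowers z with hZ
  haveI hZn : Z.Normal := normal_of_central (Subgroup.zpowers_le.2 hz)
  have hZcard : Nat.card Z = p := by rw [hZ, Nat.card_zpowers, hord]
  have hZp : IsPGroup p Z := IsPGroup.of_card (n := 1) (by rw [hZcard, pow_one])
  haveI : Fintype (G ⧸ Z) := Fintype.ofFinite _
  obtain ⟨θ₀, hθ₀b, hθ₀⟩ := exists_triv hM hZp hb
  have hk : ∀ ψ ∈ kerSet z b, ∀ n ∈ Z, (ψ : G → ℂ) n = (ψ : G → ℂ) 1 := by
    intro ψ hψ n hn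
    obtain ⟨j, rfl⟩ := mem_powers_iff_mem_zpowers.2 hn
    have h1 := (Finset.mem_filter.1 hψ).2
    show (ψ : G → ℂ) (z ^ j) = _
    induction j with
    | zero => simp
    | succ j ih =>
      rw [pow_succ', central_value_mul hz, ih (Subgroup.pow_mem _ (Subgroup.mem_zpowers z) _), h1,
        div_self (irr_one_ne_zero ψ), one_mul]
  choose f hfi hf using fun ψ : {ψ // ψ ∈ kerSet z b} => exists_quotient_irr Z ψ.1.2 (hk ψ.1 ψ.2)
  set g : {ψ // ψ ∈ kerSet z b} → IrrCharacter (G ⧸ Z) := fun ψ => ⟨f ψ, hfi ψ⟩ with hg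
  have hθmem : θ₀ ∈ kerSet z b :=
    Finset.mem_filter.2 ⟨mem_bset.2 hθ₀b, hθ₀ z (Subgroup.mem_zpowers z)⟩
  have hone : ∀ ψ, (g ψ : G ⧸ Z → ℂ) 1 = (ψ.1 : G → ℂ) 1 := fun ψ => by
    conv_rhs => rw [hf ψ]
    rfl
  refine ⟨G ⧸ Z, inferInstance, inferInstance,
    blockOf M ((g ⟨θ₀, hθmem⟩ : IrrCharacter (G ⧸ Z)) : G ⧸ Z → ℂ), blockOf_isPBlock _, ?_, ?_⟩
  · set C := blockOf M ((g ⟨θ₀, hθmem⟩ : IrrCharacter (G ⧸ Z)) : G ⧸ Z → ℂ) with hC
    have hinfl : ∀ θ : IrrCharacter (G ⧸ Z), IsIrrCharacter G (fun a : G => (θ : G ⧸ Z → ℂ) a) :=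
      fun θ => isIrrCharacter_comp_surjective θ.2 (QuotientGroup.mk' Z)
        (QuotientGroup.mk'_surjective Z)
    have hfac : (Nat.card G).factorization p = (Nat.card (G ⧸ Z)).factorization p + 1 := by
      rw [Subgroup.card_eq_card_quotient_mul_card_subgroup Z, hZcard,
        Nat.factorization_mul Nat.card_pos.ne' hM.1.ne_zero, Finsupp.add_apply,
        hM.1.factorization_self]
    have hdv : ∀ θ : IrrCharacter (G ⧸ Z), dv p (θ : G ⧸ Z → ℂ) =
        dv p ((⟨_, hinfl θ⟩ : IrrCharacter G) : G → ℂ) := fun θ => rfl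
    obtain ⟨θ, hθ, hθ0⟩ := exists_height_zero hM (blockOf_isPBlock (M := M) (g ⟨θ₀, hθmem⟩))
    have hmem : (⟨_, hinfl θ⟩ : IrrCharacter G) ∈ b := by
      have hs : SameBlock M ((g ⟨θ₀, hθmem⟩ : IrrCharacter (G ⧸ Z)) : G ⧸ Z → ℂ)
          (θ : G ⧸ Z → ℂ) := hθ
      rw [eq_blockOf hM hb hθ₀b]
      show SameBlock M (θ₀ : G → ℂ) ((⟨_, hinfl θ⟩ : IrrCharacter G) : G → ℂ)
      refine sameBlock_of_regular hM fun a ha => ?_
      have hq := (sameBlock_iff_res hM (g ⟨θ₀, hθmem⟩) θ).1 hs (a : G ⧸ Z)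
      rw [clv_quotient hM hz hord ha (g ⟨θ₀, hθmem⟩) θ₀ (hf ⟨θ₀, hθmem⟩),
        clv_quotient hM hz hord ha θ ⟨_, hinfl θ⟩ rfl]
      exact hq
    have h1 : minDv p b ≤ minDv p C := by
      rw [← hθ0, hdv θ]
      exact minDv_le hmem
    rw [blockDefect_eq, blockDefect_eq, hfac]
    omega
  · have hinj : Function.Injective g := by
      intro a c h
      refine Subtype.ext (Subtype.ext ?_)
      have h2 : f a = f c := congrArg Subtype.val h
      rw [hf a, hf c, h2]
    rw [← Fintype.card_coe, ← Nat.card_eq_fintype_card]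
    refine Nat.card_le_card_of_injective (fun ψ => ⟨g ψ, ?_⟩) fun a c h =>
      hinj (congrArg Subtype.val h)
    show SameBlock M ((g ⟨θ₀, hθmem⟩ : IrrCharacter (G ⧸ Z)) : G ⧸ Z → ℂ) (g ψ : G ⧸ Z → ℂ)
    refine sameBlock_of_regular hM fun q hq => ?_
    obtain ⟨a, ha, rfl⟩ := exists_regular_lift hM hord q hq
    have hs := (sameBlock_iff_res hM θ₀ ψ.1).1
      (sameBlock_of_mem hM hb hθ₀b (mem_bset.1 (Finset.mem_filter.1 ψ.2).1)) a
    rw [clv_quotient hM hz hord ha (g ⟨θ₀, hθmem⟩) θ₀ (hf ⟨θ₀, hθmem⟩),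
      clv_quotient hM hz hord ha (g ψ) ψ.1 (hf ψ)] at hs
    exact hs

end Central

theorem height_zero_of_defect_le_two (hM : IsPModular p M) {B : Set (IrrCharacter G)}
    (hB : IsPBlock M B) (hd : blockDefect p B ≤ 2) :
    ∀ χ ∈ B, dv p (χ : G → ℂ) = minDv p B := by
  intro χ hχ
  rcases (minDv_le (p := p) hχ).eq_or_lt with h | h
  · exact h.symm
  · have := height_add_two_le hM hB hχ h
    omega

theorem card_bset (B : Set (IrrCharacter G)) : (bset B).card = Nat.card B := by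
  classical
  rw [Nat.card_eq_fintype_card, Fintype.card_of_finset' (bset B) fun χ => mem_bset]

/-- For defect two: `k(B) ≤ p²` when a major subsection has regular rank at least two. -/
theorem card_le_sq_of_rank (hM : IsPModular p M) {x : G} {H : Subgroup G} [Fintype H]
    (hH : IsCentr x H) (hord : orderOf x = p) {b : Set (IrrCharacter H)}
    {B : Set (IrrCharacter G)} (hind : IsInducedBlock M H b B) (hdb : blockDefect p b = 2)
    (hB2 : blockDefect p B = 2) {r : ℕ} (hl : blockRank p b = r + 2) :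
    Nat.card B ≤ p ^ 2 := by
  classical
  haveI : Fact p.Prime := ⟨hM.1⟩
  have hb := hind.1
  have hk : orderOf x = p ^ 1 := by rw [pow_one, hord]
  have hx : ∃ k : ℕ, orderOf x = p ^ k := ⟨1, hk⟩
  haveI : NeZero (p ^ 1) := ⟨pow_ne_zero _ hM.1.ne_zero⟩
  have hp0 : (p : ℤ) ≠ 0 := by exact_mod_cast hM.1.ne_zero
  set z : H := ⟨x, hH.self_mem⟩ with hz'
  have hzc : z ∈ Subgroup.center H :=
    Subgroup.mem_center_iff.2 fun g => Subtype.ext ((hH g).1 g.2)
  have hzo : orderOf z = p := by rw [hz', ← Subgroup.orderOf_coe]; exact hord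
  set T := kerSet z b with hT
  have hTb : ∀ ψ ∈ T, ψ ∈ b := fun ψ hψ => mem_bset.1 (Finset.mem_filter.1 hψ).1
  have hproj : ∀ φ φ' : IrrCharacter H, ∑ ψ ∈ T, secQ p b φ ψ * secQ p b ψ φ' =
      (p : ℤ) * secQ p b φ φ' := by
    intro φ φ'
    refine mul_left_cancel₀ hp0 ?_
    rw [secQ_proj hM hzc hzo hb φ φ', hdb]
    ring
  have htr : ∑ ψ ∈ T, secQ p b ψ ψ = (p : ℤ) * ((r + 1 + 1 : ℕ) : ℤ) := by
    refine mul_left_cancel₀ hp0 ?_
    rw [secQ_trace_ker hM hzc hzo hb, hdb, hl]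
    ring
  have hz0 : ∀ ψ ∈ b, dv p (ψ : H → ℂ) = minDv p b :=
    height_zero_of_defect_le_two hM hb (by omega)
  have hne : ∀ ψ ∈ T, secQ p b ψ ψ ≠ (p : ℤ) := by
    intro ψ hψ he
    have h1 := hproj ψ ψ
    simp only [secQ_symm hM hb _ ψ] at h1
    rw [← Finset.add_sum_erase _ _ hψ, he] at h1
    have h2 : 1 < T.card := by
      have := blockRank_le_kerSet hM hzc hzo hb
      rw [← hT, hl] at this
      omega
    obtain ⟨ψ', hψ'⟩ : (T.erase ψ).Nonempty := Finset.card_pos.1 (by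
      rw [Finset.card_erase_of_mem hψ]; omega)
    have h3 : 0 < ∑ k ∈ T.erase ψ, secQ p b ψ k * secQ p b ψ k :=
      Finset.sum_pos' (fun k _ => mul_self_nonneg _) ⟨ψ', hψ', mul_self_pos.2 fun e => by
        have h := secQ_not_dvd hM hb (hTb _ hψ) (hTb _ (Finset.mem_of_mem_erase hψ'))
          (hz0 _ (hTb _ hψ)) (hz0 _ (hTb _ (Finset.mem_of_mem_erase hψ')))
        exact h (e ▸ dvd_zero _)⟩
    linarith
  obtain ⟨ξ, hξ, hξ0⟩ := exists_height_zero hM hb
  obtain ⟨a', b', hab⟩ : IsCoprime (secQ p b ξ ξ) (p : ℤ) :=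
    ((Nat.prime_iff_prime_int.1 hM.1).coprime_iff_not_dvd.2
      (secQ_not_dvd hM hb hξ hξ hξ0 hξ0)).symm
  choose E hE using fun φ ψ : IrrCharacter H => secQ_rank_one hM hb hξ φ ψ
  have hone : ∀ φ ψ : IrrCharacter H, secQ p b φ ψ =
      a' * secQ p b φ ξ * secQ p b ψ ξ + (p : ℤ) * (b' * secQ p b φ ψ + a' * E φ ψ) := by
    intro φ ψ
    rw [secQ_symm hM hb ψ ξ]
    linear_combination a' * hE φ ψ - secQ p b φ ψ * hab
  set coef : IrrCharacter G → IrrCharacter H → rootField (p ^ 1) := fun χ φ =>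
    ⟨conj (classInner (sec x H (χ : G → ℂ)) (φ : H → ℂ)),
      (conj_galois (NeZero.ne _) ((rootField (p ^ 1)).val) (coeff_props hM hH hk χ φ).1).1⟩ with hcoef
  set zK : IrrCharacter G → rootField (p ^ 1) := fun χ =>
    ⟨secPair p x b (χ : G → ℂ) (χ : G → ℂ), (secPair_props hM hH hk hb χ χ).1⟩ with hzK
  have hform : ∀ χ : IrrCharacter G, ∀ σ : rootField (p ^ 1) →ₐ[ℚ] ℂ,
      ∑ φ, ∑ φ', conj (σ (coef χ φ)) * (secQ p b φ φ' : ℂ) * σ (coef χ φ') = σ (zK χ) := by
    intro χ σ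
    have hc : ∀ φ : IrrCharacter H, ∃ cK : rootField (p ^ 1),
        (cK : ℂ) = classInner (sec x H (χ : G → ℂ)) (φ : H → ℂ) ∧ σ cK = conj (σ (coef χ φ)) :=
      fun φ => by
        refine ⟨⟨_, (coeff_props hM hH hk χ φ).1⟩, rfl, ?_⟩
        obtain ⟨hc', he⟩ := conj_galois (NeZero.ne _) σ (coeff_props hM hH hk χ φ).1
        rw [show coef χ φ = ⟨_, hc'⟩ from rfl, he, Complex.conj_conj]
    choose cK hcK hσc using hc
    have e : zK χ = ∑ φ, ∑ φ', cK φ * (secQ p b φ φ' : rootField (p ^ 1)) * coef χ φ' := by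
      apply (rootField (p ^ 1)).val.injective
      simp only [map_sum, map_mul, map_intCast]
      show secPair p x b (χ : G → ℂ) (χ : G → ℂ) = ∑ φ, ∑ φ', (cK φ : ℂ) * _ * (coef χ φ' : ℂ)
      simp only [hcK]
      rw [secPair_eq hM hb, ← Finset.sum_subset (Finset.subset_univ (bset b)) fun φ _ hφ =>
        Finset.sum_eq_zero fun φ' _ => by
          rw [secQ_off (fun h => hφ (mem_bset.2 h.1))]; simp]
      refine Finset.sum_congr rfl fun φ _ => ?_
      rw [← Finset.sum_subset (Finset.subset_univ (bset b)) fun φ' _ hφ' => by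
          rw [secQ_off (fun h => hφ' (mem_bset.2 h.2))]; simp]
      exact Finset.sum_congr rfl fun φ' _ => by simp only [hcoef]; ring
    rw [e]
    simp only [map_sum, map_mul, map_intCast, hσc]
  have hlow : ∀ χ ∈ bset B,
      ((r + 1 + 1 : ℕ) : ℝ) * Fintype.card (rootField (p ^ 1) →ₐ[ℚ] ℂ) ≤
        ∑ σ : rootField (p ^ 1) →ₐ[ℚ] ℂ, (σ (zK χ)).re := by
    intro χ hχ
    have hzne : secPair p x b (χ : G → ℂ) (χ : G → ℂ) ≠ 0 := by
      have hh := height_zero_of_defect_le_two hM hind.2.1 (by omega) χ (mem_bset.1 hχ)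
      intro h
      exact (secPair_res_ne hM hH hx hind (mem_bset.1 hχ) (mem_bset.1 hχ) hh hh).2
        (by rw [h, res_zero])
    have := RankOne.form_lower_bound p hM.1.ne_zero T (secQ p b) (secQ_symm hM hb) hproj htr hne
      a' (fun φ => secQ p b φ ξ) (fun φ ψ => b' * secQ p b φ ψ + a' * E φ ψ) hone (coef χ)
      (fun φ => (coeff_props hM hH hk χ φ).2.map ((Complex.conjAe.toAlgHom).restrictScalars ℤ))
      (by
        have h := hform χ (rootField (p ^ 1)).val
        intro h0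
        exact hzne (h.symm.trans h0))
    simpa only [hform] using this
  have hsum : ∀ σ : rootField (p ^ 1) →ₐ[ℚ] ℂ,
      ∑ χ ∈ bset B, (σ (zK χ)).re = ((p ^ 2 * (r + 1 + 1) : ℕ) : ℝ) := by
    intro σ
    have e : ∑ χ ∈ bset B, zK χ = ((p ^ 2 * (r + 1 + 1) : ℕ) : rootField (p ^ 1)) := by
      apply (rootField (p ^ 1)).val.injective
      rw [map_sum, map_natCast]
      show ∑ χ ∈ bset B, secPair p x b (χ : G → ℂ) (χ : G → ℂ) = _
      rw [sum_secPair_diag hM hH hx hind, hdb, hl]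
      push_cast
      ring
    have h := congrArg σ e
    rw [map_sum, map_natCast] at h
    rw [← Complex.re_sum, h, Complex.natCast_re]
  have hN : (0 : ℝ) < ((r + 1 + 1 : ℕ) : ℝ) * Fintype.card (rootField (p ^ 1) →ₐ[ℚ] ℂ) :=
    mul_pos (by positivity)
      (by exact_mod_cast Fintype.card_pos_iff.2 ⟨(rootField (p ^ 1)).val⟩)
  have h1 := Finset.sum_le_sum hlow
  rw [Finset.sum_const, nsmul_eq_mul, Finset.sum_comm, Finset.sum_congr rfl fun σ _ => hsum σ,
    Finset.sum_const, nsmul_eq_mul, Finset.card_univ, card_bset] at h1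
  have h2 : (Nat.card B : ℝ) * (((r + 1 + 1 : ℕ) : ℝ) *
      Fintype.card (rootField (p ^ 1) →ₐ[ℚ] ℂ)) ≤ ((p ^ 2 : ℕ) : ℝ) * (((r + 1 + 1 : ℕ) : ℝ) *
      Fintype.card (rootField (p ^ 1) →ₐ[ℚ] ℂ)) := by
    refine h1.trans (le_of_eq ?_)
    push_cast
    ring
  exact_mod_cast le_of_mul_le_mul_right h2 hN

/-- The Brauer–Feit bound on `k(B)`. -/
def bfBound (p d : ℕ) : ℕ := if d ≤ 2 then p ^ d else p ^ (2 * d - 2)

theorem bfBound_mono {p : ℕ} (hp : 1 ≤ p) {e d : ℕ} (h : e ≤ d) : bfBound p e ≤ bfBound p d := by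
  unfold bfBound
  split_ifs <;> exact Nat.pow_le_pow_right hp (by omega)

theorem card_le_bfBound (hM : IsPModular p M) : ∀ (d : ℕ) (G : Type u) [Group G] [Fintype G]
    (B : Set (IrrCharacter G)), IsPBlock M B → blockDefect p B ≤ d →
      Nat.card B ≤ bfBound p d := by
  intro d
  induction d using Nat.strong_induction_on with
  | _ d ih =>
  intro G _ _ B hB hle
  rcases hle.lt_or_eq with hlt | hd
  · exact (ih _ hlt G B hB le_rfl).trans (bfBound_mono hM.1.one_lt.le hlt.le)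
  classical
  haveI : Fact p.Prime := ⟨hM.1⟩
  have hBF := brauer_feit hM hB
  set k := Nat.card B with hkdef
  set S := (bset B).filter fun χ : IrrCharacter G => dv p (χ : G → ℂ) = minDv p B with hS
  have hk0 : 1 ≤ S.card := by
    obtain ⟨χ, hχ, h0⟩ := exists_height_zero hM hB
    exact Finset.card_pos.2 ⟨χ, Finset.mem_filter.2 ⟨mem_bset.2 hχ, h0⟩⟩
  rcases Nat.eq_zero_or_pos d with hd0 | hdpos
  · subst hd0
    rw [hd, pow_zero, one_pow] at hBF
    have h1 : (k : ℤ) ≤ ∑ ψ ∈ bset B, ((p : ℤ) ^ (dv p (ψ : G → ℂ) - minDv p B)) ^ 2 := by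
      rw [hkdef, ← card_bset, Finset.card_eq_sum_ones]
      push_cast
      refine Finset.sum_le_sum fun ψ _ => ?_
      rw [← pow_mul]
      exact one_le_pow₀ (by exact_mod_cast hM.1.one_lt.le)
    simp only [bfBound, Nat.zero_le, if_true, pow_zero]
    omega
  obtain ⟨D, hD⟩ := exists_defectGroup hM hB
  have hDcard := card_defectGroup hM hB hD
  have hDp := defectGroup_isPGroup hD
  haveI : Nontrivial D := Finite.one_lt_card_iff_nontrivial.1 (by
    rw [hDcard, hd]; exact Nat.one_lt_pow hdpos.ne' hM.1.one_lt)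
  haveI := hDp.center_nontrivial
  obtain ⟨j, hj, hjc⟩ := (IsPGroup.nontrivial_iff_card
    (hDp.to_subgroup (Subgroup.center D))).1 inferInstance
  obtain ⟨x₀, hx₀⟩ := exists_prime_orderOf_dvd_card' (G := Subgroup.center D) p
    (hjc ▸ dvd_pow_self p hj.ne')
  set x : G := ((x₀ : D) : G) with hxdef
  have hord : orderOf x = p := by rw [hxdef, Subgroup.orderOf_coe, Subgroup.orderOf_coe, hx₀]
  have hxD : x ∈ D := (x₀ : D).2
  have hxc : ∀ y ∈ D, x * y = y * x := fun y hy =>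
    (congrArg Subtype.val (Subgroup.mem_center_iff.1 x₀.2 ⟨y, hy⟩)).symm
  set H := Subgroup.centralizer ((Subgroup.zpowers x : Subgroup G) : Set G) with hHdef
  haveI : Fintype H := Fintype.ofFinite _
  have hH : IsCentr x H := isCentr_zpowers x
  have hx : ∃ k : ℕ, orderOf x = p ^ k := ⟨1, by rw [pow_one, hord]⟩
  obtain ⟨b, hind, hdef⟩ := exists_major hM hB hD hxD hxc
  set z : H := ⟨x, hH.self_mem⟩ with hz'
  have hzc : z ∈ Subgroup.center H :=
    Subgroup.mem_center_iff.2 fun g => Subtype.ext ((hH g).1 g.2)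
  have hzo : orderOf z = p := by rw [hz', ← Subgroup.orderOf_coe]; exact hord
  obtain ⟨K, _, _, C, hC, hCd, hCk⟩ := exists_quotient_block hM hzc hzo hind.1
  have hl : blockRank p b ≤ bfBound p (d - 1) :=
    (blockRank_le_kerSet hM hzc hzo hind.1).trans (hCk.trans
      ((ih (d - 1) (by omega) K C hC (by rw [hdef, hd] at hCd; exact hCd))))
  rcases Nat.lt_or_ge d 3 with hd3 | hd3
  · have hsq := sq_card_le_of_heights hM hH hx hind (height_zero_of_defect_le_two hM hB (by omega))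
    rw [hdef, hd, ← hkdef] at hsq
    simp only [bfBound, show d ≤ 2 by omega, if_true]
    rcases Nat.lt_or_ge (blockRank p b) 2 with hl1 | hl1
    · refine (Nat.pow_le_pow_iff_left (n := 2) two_ne_zero).1 (hsq.trans ?_)
      rw [← pow_mul, mul_comm d 2]
      exact (Nat.mul_le_mul_left _ (by omega : blockRank p b ≤ 1)).trans (le_of_eq (mul_one _))
    · have hd2 : d = 2 := by
        rcases (by omega : d = 1 ∨ d = 2) with h | h
        · subst h; simp [bfBound] at hl; omega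
        · exact h
      subst hd2
      exact card_le_sq_of_rank hM hH hord hind (hdef.trans hd) hd (r := blockRank p b - 2)
        (by omega)
  · simp only [bfBound, show ¬ d ≤ 2 by omega, if_false]
    have hl' : blockRank p b ≤ p ^ (2 * d - 4) := hl.trans (by
      unfold bfBound
      split_ifs <;> exact Nat.pow_le_pow_right hM.1.one_lt.le (by omega))
    have hmaj := major_bound hM hH hx hind hdef
    rw [hd, ← hS] at hmaj
    set A := p ^ (2 * d - 2) with hA
    have hA2 : p ^ (2 * d) * blockRank p b ≤ A * A := by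
      refine (Nat.mul_le_mul_left _ hl').trans (le_of_eq ?_)
      rw [hA, ← pow_add, ← pow_add]; congr 1; omega
    have hsplit : S.card + p ^ 2 * (k - S.card) ≤
        ∑ ψ ∈ bset B, (p ^ (dv p (ψ : G → ℂ) - minDv p B)) ^ 2 := by
      rw [← Finset.sum_filter_add_sum_filter_not (bset B)
        (fun χ : IrrCharacter G => dv p (χ : G → ℂ) = minDv p B), ← hS]
      refine Nat.add_le_add ?_ ?_
      · rw [Finset.card_eq_sum_ones]
        exact Finset.sum_le_sum fun ψ _ => Nat.one_le_pow _ _ (pow_pos hM.1.pos _)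
      · have e : ((bset B).filter fun χ : IrrCharacter G =>
            ¬ dv p (χ : G → ℂ) = minDv p B).card = k - S.card := by
          have := Finset.card_filter_add_card_filter_not (s := bset B)
            (fun χ : IrrCharacter G => dv p (χ : G → ℂ) = minDv p B)
          rw [← hS, card_bset] at this
          omega
        rw [← e, mul_comm, ← smul_eq_mul, ← Finset.sum_const]
        refine Finset.sum_le_sum fun ψ hψ => ?_
        obtain ⟨hψB, hψ0⟩ := Finset.mem_filter.1 hψ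
        have := minDv_le (p := p) (mem_bset.1 hψB)
        exact Nat.pow_le_pow_left (Nat.le_self_pow (by omega) p) 2
    have hSk : S.card ≤ k := by
      rw [hkdef, ← card_bset]; exact Finset.card_filter_le _ _
    obtain ⟨j, hj'⟩ : ∃ j, k = S.card + j := ⟨k - S.card, by omega⟩
    rw [hj', Nat.add_sub_cancel_left] at hsplit
    have hmain : S.card * (S.card + p ^ 2 * j) ≤ A * A :=
      ((Nat.mul_le_mul_left _ hsplit).trans hmaj).trans hA2
    have hF : 4 * (S.card + p ^ 2 * j) ≤ p ^ 2 * A + 4 := by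
      have h1 : 4 * (∑ ψ ∈ bset B, (p ^ (dv p (ψ : G → ℂ) - minDv p B)) ^ 2) ≤
          (p ^ d) ^ 2 + 4 := by
        rw [hd] at hBF; exact_mod_cast hBF
      refine ((Nat.mul_le_mul_left 4 hsplit).trans h1).trans (le_of_eq ?_)
      rw [hA, ← pow_mul, ← pow_add]
      congr 2; omega
    rw [hj']
    have hp2 : 4 ≤ p ^ 2 := (by norm_num : 4 = 2 ^ 2) ▸ Nat.pow_le_pow_left hM.1.two_le 2
    generalize p ^ 2 = q at hmain hF hp2
    by_cases hbig : A + S.card ≤ q * S.card
    · nlinarith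
    · have h4j : 4 * j ≤ A := by nlinarith
      nlinarith

end CfsgLib.Blocks
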