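import Cfsg.Agent.Lib.Blocks.AbelianTriv
import Cfsg.Agent.Lib.Blocks.PCent
import Cfsg.Agent.Lib.Blocks.BrauerFeit
import Cfsg.Agent.Lib.Blocks.Induced

/-!
# Heights and the contributions of the central subsections
-/

namespace CfsgLib.Blocks

open Cfsg CfsgLib.CharTheory
open scoped ComplexConjugate

set_option linter.unusedVariables false
set_option linter.unusedSimpArgs false
set_option linter.style.haveILetI false
set_option linter.unusedSectionVars false

universe u

variable {p : ℕ} {M : Ideal AlgInt} {G : Type u} [Group G] [Fintype G]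

theorem blockPart_eq_bset {K : Type u} [Group K] [Fintype K] (b : Set (IrrCharacter K))
    (ϑ : K → ℂ) (k : K) :
    blockPart b ϑ k = ∑ ψ ∈ bset b, classInner ϑ (ψ : K → ℂ) * (ψ : K → ℂ) k := by
  rw [blockPart, finsum_mem_bset]
  exact Finset.sum_congr rfl fun ψ _ => by
    rw [classInner_congr_inst (Fintype.ofFinite K) inferInstance]

theorem blockPart_image {K L : Type u} [Group K] [Fintype K] [Group L] [Fintype L] (e : K ≃* L)
    (b : Set (IrrCharacter L)) (ϑ : L → ℂ) (k : K) :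
    blockPart (irrPull e '' b) (fun x => ϑ (e x)) k = blockPart b ϑ (e k) := by
  classical
  rw [blockPart_eq_bset, blockPart_eq_bset]
  have hs : bset (irrPull e '' b) = (bset b).image (irrPull e) := by
    ext φ; simp [mem_bset]
  rw [hs, Finset.sum_image fun x _ y _ h => irrPull_injective e h]
  refine Finset.sum_congr rfl fun ψ _ => ?_
  simp only [irrPull_apply, Cfsg.classInner]
  congr 2
  · rw [Nat.card_congr e.toEquiv]
  · exact Fintype.sum_equiv e.toEquiv _ _ fun x => by simp [irrPull_apply]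

/-- `∑ |β|²` over the regular elements of `C(Q)`. -/
noncomputable def secW (p : ℕ) (χ : G → ℂ) (u : G) (a : BrauerPairIdx G) : ℂ :=
  haveI := Fintype.ofFinite (Subgroup.centralizer (a.1 : Set G))
  ∑ c ∈ Finset.univ.filter (fun c : Subgroup.centralizer (a.1 : Set G) => ¬ p ∣ orderOf c),
    blockPart a.2 (sec u (Subgroup.centralizer (a.1 : Set G)) χ) c *
      conj (blockPart a.2 (sec u (Subgroup.centralizer (a.1 : Set G)) χ) c)

theorem secW_eq (χ : G → ℂ) (u : G) {Q : Subgroup G} [Fintype (Subgroup.centralizer (Q : Set G))]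
    (b : Set (IrrCharacter (Subgroup.centralizer (Q : Set G)))) :
    secW p χ u ⟨Q, b⟩ = ∑ c ∈ Finset.univ.filter
      (fun c : Subgroup.centralizer (Q : Set G) => ¬ p ∣ orderOf c),
      blockPart b (sec u (Subgroup.centralizer (Q : Set G)) χ) c *
        conj (blockPart b (sec u (Subgroup.centralizer (Q : Set G)) χ) c) := by
  unfold secW
  convert rfl

theorem secW_secPair (hp : p.Prime) (χ : G → ℂ) (u : G) {Q : Subgroup G}
    [Fintype (Subgroup.centralizer (Q : Set G))]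
    (b : Set (IrrCharacter (Subgroup.centralizer (Q : Set G)))) :
    secW p χ u ⟨Q, b⟩ = (Nat.card (Subgroup.centralizer (Q : Set G)) : ℂ) /
      (p : ℂ) ^ blockDefect p b * secPair p u b χ χ := by
  have h1 : (Nat.card (Subgroup.centralizer (Q : Set G)) : ℂ) ≠ 0 :=
    Nat.cast_ne_zero.2 Nat.card_pos.ne'
  have h2 : (p : ℂ) ≠ 0 := Nat.cast_ne_zero.2 hp.ne_zero
  rw [secW_eq, secPair]
  field_simp

theorem secW_conj (χ : IrrCharacter G) (g u : G) (a : BrauerPairIdx G) :
    secW p (χ : G → ℂ) (g * u * g⁻¹) (conjIdx g a) = secW p (χ : G → ℂ) u a := by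
  classical
  obtain ⟨Q, b⟩ := a
  haveI := Fintype.ofFinite (Subgroup.centralizer (Q : Set G))
  haveI := Fintype.ofFinite (Subgroup.centralizer
    ((Q.map (MulAut.conj g).toMonoidHom : Subgroup G) : Set G))
  show secW p (χ : G → ℂ) (g * u * g⁻¹) ⟨_, conjBlock Q g b⟩ = _
  rw [secW_eq, secW_eq, conjBlock_eq]
  have hsec : sec (g * u * g⁻¹) (Subgroup.centralizer
      ((Q.map (MulAut.conj g).toMonoidHom : Subgroup G) : Set G)) (χ : G → ℂ) =
      fun c => sec u (Subgroup.centralizer (Q : Set G)) (χ : G → ℂ) (centE Q g c) := by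
    funext c
    show (χ : G → ℂ) (g * u * g⁻¹ * c) = (χ : G → ℂ) (u * (g⁻¹ * c * g))
    rw [← irr_isClassFun χ (u * (g⁻¹ * c * g)) g]
    congr 1
    group
  rw [hsec]
  simp only [blockPart_image]
  refine Finset.sum_equiv (centE Q g).toEquiv (fun c => ?_) (fun c _ => rfl)
  simp only [Finset.mem_filter, Finset.mem_univ, true_and, MulEquiv.toEquiv_eq_coe,
    EquivLike.coe_coe]
  rw [MulEquiv.orderOf_eq]

/-- The regular norm of a class function splits over the blocks. -/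
theorem sum_blocks_sq (hM : IsPModular p M) {H : Type u} [Group H] [Fintype H] {ϑ : H → ℂ}
    (hϑ : IsClassFunction H ϑ)
    [DecidablePred fun b : Set (IrrCharacter H) => IsPBlock M b] :
    ∑ b ∈ Finset.univ.filter (fun b : Set (IrrCharacter H) => IsPBlock M b),
      ∑ c ∈ Finset.univ.filter (fun c : H => ¬ p ∣ orderOf c),
        blockPart b ϑ c * conj (blockPart b ϑ c) =
      ∑ c ∈ Finset.univ.filter (fun c : H => ¬ p ∣ orderOf c), ϑ c * conj (ϑ c) := by
  classical
  set R := Finset.univ.filter (fun c : H => ¬ p ∣ orderOf c)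
  set a : IrrCharacter H → ℂ := fun φ => classInner ϑ (φ : H → ℂ) with ha
  set K : IrrCharacter H → IrrCharacter H → ℂ := fun φ φ' =>
    a φ * conj (a φ') * regS p (φ : H → ℂ) (φ' : H → ℂ) with hK
  have hpair : ∀ S : Finset (IrrCharacter H), ∑ c ∈ R, (∑ φ ∈ S, a φ * (φ : H → ℂ) c) *
      conj (∑ φ ∈ S, a φ * (φ : H → ℂ) c) = ∑ φ ∈ S, ∑ φ' ∈ S, K φ φ' := by
    intro S
    simp only [map_sum, map_mul, Finset.sum_mul_sum]
    rw [Finset.sum_comm]
    refine Finset.sum_congr rfl fun φ _ => ?_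
    rw [Finset.sum_comm]
    refine Finset.sum_congr rfl fun φ' _ => ?_
    simp only [hK, regS_eq_sum, Finset.mul_sum]
    exact Finset.sum_congr rfl fun c _ => by rw [irr_inv]; ring
  have hr : ∀ c, ϑ c = ∑ φ, a φ * (φ : H → ℂ) c := fun c => by
    simpa using congrFun (eq_sum_irr hϑ) c
  have hrhs : ∑ c ∈ R, ϑ c * conj (ϑ c) = ∑ φ, ∑ φ', K φ φ' := by
    rw [← hpair]; exact Finset.sum_congr rfl fun c _ => by rw [hr c]
  rw [hrhs, Finset.sum_congr rfl fun b _ => show _ = ∑ φ ∈ bset b, ∑ φ' ∈ bset b, K φ φ' by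
      rw [← hpair]; exact Finset.sum_congr rfl fun c _ => by rw [blockPart_eq_bset],
    ← Finset.sum_fiberwise_of_maps_to
      (t := Finset.univ.filter (fun b : Set (IrrCharacter H) => IsPBlock M b))
      (g := fun φ : IrrCharacter H => blockOf M (φ : H → ℂ))
      (fun φ _ => Finset.mem_filter.2 ⟨Finset.mem_univ _, blockOf_isPBlock φ⟩)]
  refine Finset.sum_congr rfl fun b hb => Finset.sum_congr ?_ fun φ hφ => ?_
  · ext φ
    simp only [Finset.mem_filter, mem_bset, Finset.mem_univ, true_and]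
    exact ⟨fun h => (eq_blockOf hM (Finset.mem_filter.1 hb).2 h).symm,
      fun h => h ▸ mem_blockOf_self hM φ⟩
  · refine Finset.sum_subset (Finset.subset_univ _) fun φ' _ hφ' => ?_
    have hφb : blockOf M (φ : H → ℂ) = b := (Finset.mem_filter.1 hφ).2
    simp only [hK]
    rw [regS_eq_zero hM, mul_zero]
    intro hs
    exact hφ' (mem_bset.2 (hφb ▸ (hs : φ' ∈ blockOf M (φ : H → ℂ))))

theorem rootField_mono_pow {j k : ℕ} (hp : p ≠ 0) (h : j ≤ k) :
    rootField (p ^ j) ≤ rootField (p ^ k) := by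
  refine IntermediateField.adjoin_le_iff.2 ?_
  rintro y rfl
  refine mem_rootField (pow_ne_zero _ hp) ?_
  obtain ⟨i, rfl⟩ := Nat.exists_eq_add_of_le h
  rw [pow_add, pow_mul, (isPrimitiveRoot_exp' (pow_ne_zero j hp)).pow_eq_one, one_pow]

theorem isPElt_le_factorization (hp : p.Prime) {u : G} {j : ℕ} (hj : orderOf u = p ^ j) :
    j ≤ (Nat.card G).factorization p := by
  have := Fact.mk hp
  exact (hp.pow_dvd_iff_le_factorization Nat.card_pos.ne').1 (hj ▸ orderOf_dvd_natCard u)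

/-- The sum of `|χ|²` by subsections. -/
theorem sum_secW (hM : IsPModular p M) (χ : IrrCharacter G)
    (J : Finset (G × BrauerPairIdx G))
    (hJ : ∀ i, i ∈ J ↔ i.2.1 = Subgroup.zpowers i.1 ∧ (∃ k : ℕ, orderOf i.1 = p ^ k) ∧
      IsPBlock M i.2.2) :
    ∑ i ∈ J, secW p (χ : G → ℂ) i.1 i.2 = (Nat.card G : ℂ) := by
  classical
  haveI : ∀ Q : Subgroup G, Fintype (Subgroup.centralizer (Q : Set G)) :=
    fun Q => Fintype.ofFinite _
  set S : Finset G := Finset.univ.filter fun u => ∃ k : ℕ, orderOf u = p ^ k with hS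
  have h1 : ∑ i ∈ J, secW p (χ : G → ℂ) i.1 i.2 =
      ∑ i ∈ S.sigma (fun u => Finset.univ.filter fun b : Set (IrrCharacter
        (Subgroup.centralizer ((Subgroup.zpowers u : Subgroup G) : Set G))) => IsPBlock M b),
        secW p (χ : G → ℂ) i.1 ⟨Subgroup.zpowers i.1, i.2⟩ := by
    symm
    refine Finset.sum_bij (fun i _ => (i.1, (⟨Subgroup.zpowers i.1, i.2⟩ : BrauerPairIdx G)))
      (fun i hi => ?_) ?_ ?_ (fun i _ => rfl)
    · obtain ⟨h1, h2⟩ := Finset.mem_sigma.1 hi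
      exact (hJ _).2 ⟨rfl, (Finset.mem_filter.1 h1).2, (Finset.mem_filter.1 h2).2⟩
    · rintro ⟨u, b⟩ - ⟨v, c⟩ - h
      obtain ⟨h1, h2⟩ := Prod.mk.inj h
      subst h1
      exact congrArg (Sigma.mk _) (eq_of_heq (Sigma.mk.inj_iff.1 h2).2)
    · rintro ⟨u, ⟨Q, b⟩⟩ hi
      obtain ⟨hQ, hu, hb⟩ := (hJ _).1 hi
      change Q = Subgroup.zpowers u at hQ
      subst hQ
      exact ⟨⟨u, b⟩, Finset.mem_sigma.2 ⟨Finset.mem_filter.2 ⟨Finset.mem_univ _, hu⟩,
        Finset.mem_filter.2 ⟨Finset.mem_univ _, hb⟩⟩, rfl⟩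
  rw [h1, Finset.sum_sigma, Finset.sum_congr rfl fun u hu => show _ =
    ∑ c ∈ Finset.univ.filter (fun c : Subgroup.centralizer
        ((Subgroup.zpowers u : Subgroup G) : Set G) => ¬ p ∣ orderOf c),
      (χ : G → ℂ) (u * c) * conj ((χ : G → ℂ) (u * c)) by
    simp only [secW_eq]
    exact sum_blocks_sq hM (sec_isClassFunction (isCentr_zpowers u) χ)]
  have htot : ∑ g, (χ : G → ℂ) g * conj ((χ : G → ℂ) g) = (Nat.card G : ℂ) := by
    have := classInner_irr_self χ.2
    rwa [Cfsg.classInner, inv_mul_eq_iff_eq_mul₀ (Nat.cast_ne_zero.2 Nat.card_pos.ne'),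
      mul_one] at this
  rw [← htot, Finset.sum_sigma']
  refine Finset.sum_bij (fun i _ => i.1 * (i.2 : G)) (fun i _ => Finset.mem_univ _) ?_ ?_
    (fun i _ => rfl)
  · rintro ⟨u, c⟩ hc ⟨v, d⟩ hd h
    obtain ⟨hu, hc'⟩ := Finset.mem_sigma.1 hc
    obtain ⟨hv, hd'⟩ := Finset.mem_sigma.1 hd
    obtain ⟨e1, e2⟩ := pPart_unique hM.1 (((isCentr_zpowers u) _).1 c.2).symm
      (((isCentr_zpowers v) _).1 d.2).symm (Finset.mem_filter.1 hu).2 (Finset.mem_filter.1 hv).2
      (by rw [Subgroup.orderOf_coe]; exact (Finset.mem_filter.1 hc').2)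
      (by rw [Subgroup.orderOf_coe]; exact (Finset.mem_filter.1 hd').2) h
    subst e1
    exact congrArg (Sigma.mk _) (Subtype.ext e2)
  · intro g _
    obtain ⟨z, w, hzw, hcz, hz, hw, -, -⟩ := exists_pPart hM.1 g
    refine ⟨⟨z, ⟨w, (isCentr_zpowers z w).2 hcz.symm⟩⟩, Finset.mem_sigma.2
      ⟨Finset.mem_filter.2 ⟨Finset.mem_univ _, hz⟩, Finset.mem_filter.2 ⟨Finset.mem_univ _, ?_⟩⟩, hzw⟩
    rw [Subgroup.orderOf_mk]; exact hw

/-- A map between central subgroups of the defect group extends to the defect group. -/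
theorem exists_extend_central (hM : IsPModular p M) {B : Set (IrrCharacter G)} {P : Subgroup G}
    {e : Set (IrrCharacter (Subgroup.centralizer (P : Set G)))} {F : FusionSystem P}
    (hF : IsBlockFusionSystemOn p M B P e F) {Q : Subgroup G} {φ : Q →* G} (hφ : φ ∈ F.Hom Q)
    (hQc : P ≤ Subgroup.centralizer (Q : Set G))
    (hRc : P ≤ Subgroup.centralizer (φ.range : Set G)) :
    ∃ y ∈ pairStab P e, ∀ q : Q, φ q = y * q * y⁻¹ := by
  haveI : Fact p.Prime := ⟨hM.1⟩
  have hP : IsPGroup p P := hF.1.1.1.1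
  have hQ := F.source_le hφ
  have hR : φ.range ≤ P := F.range_le hφ
  obtain ⟨f', ⟨hf', hle'⟩, -⟩ := existsUnique_subpair hM hP hF.1.1.1.2 φ.range hR
  have hfc : F.IsFullyCentralized φ.range := by
    refine ⟨hR, fun T hT => ?_⟩
    show Nat.card (P ⊓ Subgroup.centralizer (T : Set G) : Subgroup G) ≤
      Nat.card (P ⊓ Subgroup.centralizer (φ.range : Set G) : Subgroup G)
    rw [inf_eq_left.2 hRc]
    exact Subgroup.card_le_of_le inf_le_left
  obtain ⟨ψ, hψ, hext⟩ := (isReceptive_block hM hF hf' hle'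
    ((fullyCentralized_iff hM hF hf' hle').1 hfc)).2 Q φ hφ rfl
  obtain ⟨hsrc, g, hg, hgP, k, hk, hkg⟩ := (hF.2 _ ψ).1 hψ
  have hPx : P ≤ FusionSystem.extender P Q φ := by
    refine le_trans (le_of_eq ?_) (FusionSystem.centralizerIn_le_extender (F.apply_mem hφ))
    exact (inf_eq_left.2 hQc).symm
  have heq : FusionSystem.extender P Q φ = P := le_antisymm hsrc hPx
  suffices key : ∀ R : Subgroup G, R = P → R.map (MulAut.conj g).toMonoidHom ≤ P →
      ∀ k : Set (IrrCharacter (Subgroup.centralizer (R : Set G))), SubpairLE p M R k P e →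
      SubpairLE p M (R.map (MulAut.conj g).toMonoidHom) (conjBlock R g k) P e →
      g ∈ pairStab P e by
    refine ⟨g, key _ heq hgP k hk hkg, fun q => ?_⟩
    rw [← hext (q : G) q.2 (hPx (hQ q.2)), hg]
  rintro R rfl hgR k hk hkg
  have he := hF.1.1.1.2
  have hke : k = e := subpair_unique hM hP he (subpairLE_left_block he hk) he hk
    Relation.ReflTransGen.refl
  subst hke
  have hgN : g ∈ Subgroup.normalizer (R : Set G) := mem_normalizer_of_forall_mem fun y hy =>
    hgR ⟨y, hy, rfl⟩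
  refine (mem_pairStab g).2 ⟨hgN,
    (stabilizesBlock_iff (normalizer_le_normalizer_cent R hgN)).2 ?_⟩
  have h2 : Relation.ReflTransGen (NormalSubpairRel p M) ⟨R, rot hgN k⟩ ⟨R, k⟩ :=
    conjIdx_normalizer hgN k ▸ hkg
  exact subpair_unique hM hP he (isPBlock_image _ he) he h2 Relation.ReflTransGen.refl

/-- A block of `D C(D)` inducing a block with defect group `D` gives a maximal pair. -/
theorem exists_pair_of_pcent (hM : IsPModular p M) {B : Set (IrrCharacter G)}
    (hB : IsPBlock M B) {D : Subgroup G} (hD : IsDefectGroup p M B D) {H : Subgroup G} [Fintype H]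
    (hH : H = D ⊔ Subgroup.centralizer (D : Set G)) {b : Set (IrrCharacter H)}
    (hind : IsInducedBlock M H b B) :
    ∃ e : Set (IrrCharacter (Subgroup.centralizer (D : Set G))),
      IsMaximalBrauerPair p M B D e ∧ ∀ n ∈ pairStab D e,
        n ∈ Subgroup.normalizer (D : Set G) ∧ ∀ θ ∈ b, ∀ θ' : IrrCharacter H,
          (∀ h h' : H, (h' : G) = n * h * n⁻¹ → (θ' : H → ℂ) h' = (θ : H → ℂ) h) → θ' ∈ b := by
  classical
  haveI : Fact p.Prime := ⟨hM.1⟩
  have hDp := defectGroup_isPGroup hD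
  have hDH : D ≤ H := hH ▸ le_sup_left
  have hC : Subgroup.centralizer (D : Set G) ≤ H := hH ▸ le_sup_right
  have hN : H ≤ Subgroup.normalizer (D : Set G) := hH ▸ pcent_le_normalizer D
  haveI : (D.subgroupOf H).Normal := ⟨fun x hx g => (Subgroup.mem_normalizer_iff.1 (hN g.2) x).1 hx⟩
  have hDb : IsDefectGroup p M b (D.subgroupOf H) := by
    obtain ⟨l, hl⟩ := exists_defectClass hM hind.1
    have hlC := mem_centralizer_normal hM hind.1 (P := D.subgroupOf H) hDp.comap_subtype hl.2.1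
    obtain ⟨E, hE, hDE⟩ := exists_defectGroup_ge hM hind.1 hl.2.1 (P := D.subgroupOf H)
      hDp.comap_subtype (fun x hx => by
        rw [Subgroup.mem_centralizer_singleton_iff]; exact hlC x hx)
    obtain ⟨E', hE', hle⟩ := defect_le_of_induced hM hind hE
    have hcard : Nat.card E ≤ Nat.card (D.subgroupOf H) := by
      rw [Nat.card_congr (Subgroup.subgroupOfEquivOfLe hDH).toEquiv,
        card_defectGroup hM hB hD, ← card_defectGroup hM hB hE',
        ← Subgroup.card_map_of_injective (K := E) (f := H.subtype) H.subtype_injective]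
      exact Subgroup.card_le_of_le hle
    rwa [Subgroup.eq_of_le_of_card_ge hDE hcard]
  obtain ⟨a, ha, e, hup, hbmax, he, -⟩ := exists_pair_at hM hDH hC hind.1 hDb
  have hpair : IsBrauerPairOf p M B D e :=
    (induced_iff_pair hM hDp hDH hC hN hup hbmax.1 hB).1 hind
  refine ⟨e, pair_at_defect_maximal hM hpair hD, fun n hn => ?_⟩
  have hnN := ((mem_pairStab n).1 hn).1
  have hnH : n ∈ Subgroup.normalizer (H : Set G) := hH ▸ normalizer_le_normalizer_pcent D hnN
  have himg := (pcent_image_eq_iff hM hH hup hbmax hDp hnN hnH).2 hn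
  refine ⟨hnN, fun θ hθ θ' hθ' => ?_⟩
  rw [← himg]
  refine ⟨θ, hθ, Subtype.ext (funext fun k => ?_)⟩
  rw [irrPull_apply]
  refine (hθ' (conjE hnH k) k ?_).symm
  show (k : G) = n * (n⁻¹ * (k : G) * n) * n⁻¹
  group

/-- The sum of the contributions of the central elements of the defect group, and heights. -/
theorem height_bound (hM : IsPModular p M) {B : Set (IrrCharacter G)} {D : Subgroup G}
    {e : Set (IrrCharacter (Subgroup.centralizer (D : Set G)))}
    (hmax : IsMaximalBrauerPair p M B D e) {H : Subgroup G}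
    (hH : H = D ⊔ Subgroup.centralizer (D : Set G)) {L : ℕ} (hL : H.relIndex (pairStab D e) ≤ L)
    (zs : Finset G) (hzs : ∀ z ∈ zs, z ∈ D ∧ ∀ d ∈ D, d * z = z * d) {ψ : IrrCharacter G}
    (hψ : ψ ∈ B) (hh : minDv p B < dv p (ψ : G → ℂ)) :
    zs.card * p ^ (dv p (ψ : G → ℂ) - minDv p B) ≤ L * p ^ blockDefect p B := by
  classical
  haveI : Fact p.Prime := ⟨hM.1⟩
  haveI : ∀ Q : Subgroup G, Fintype (Subgroup.centralizer (Q : Set G)) :=
    fun Q => Fintype.ofFinite _
  haveI : Fintype (BrauerPairIdx G) := Fintype.ofFinite _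
  have hp0 : (p : ℂ) ≠ 0 := Nat.cast_ne_zero.2 hM.1.ne_zero
  have hDp : IsPGroup p D := hmax.1.1.1
  have hB := hmax.1.2.1
  have hdef := card_defectGroup hM hB (maximal_isDefectGroup hM hmax)
  have hord : ∀ z ∈ zs, ∃ k : ℕ, orderOf z = p ^ k := fun z hz => by
    obtain ⟨k, hk⟩ := hDp ⟨z, (hzs z hz).1⟩
    obtain ⟨i, -, hi⟩ := (Nat.dvd_prime_pow hM.1).1
      (orderOf_dvd_of_pow_eq_one (congrArg Subtype.val hk))
    exact ⟨i, hi⟩
  -- the subsections
  have hex : ∀ z : G, z ∈ zs → ∃ f : Set (IrrCharacter (Subgroup.centralizer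
      ((Subgroup.zpowers z : Subgroup G) : Set G))), IsPBlock M f ∧
      SubpairLE p M (Subgroup.zpowers z) f D e := fun z hz => by
    obtain ⟨f, hf, -⟩ := existsUnique_subpair hM hDp hmax.1.1.2 _
      (Subgroup.zpowers_le.2 (hzs z hz).1)
    exact ⟨f, hf⟩
  choose! bz hbz hlez using hex
  have hDC : ∀ z ∈ zs, D ≤ Subgroup.centralizer ((Subgroup.zpowers z : Subgroup G) : Set G) :=
    fun z hz d hd => (isCentr_zpowers z d).2 ((hzs z hz).2 d hd)
  have hind : ∀ z ∈ zs, IsInducedBlock M _ (bz z) B ∧ blockDefect p (bz z) = blockDefect p B := by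
    intro z hz
    have hle : Subgroup.zpowers z ≤ D := Subgroup.zpowers_le.2 (hzs z hz).1
    refine ⟨(induced_centralizer_iff hM (hDp.to_le hle)).2
      ((pairOf_subpair_iff hM (hlez z hz) B).2 hmax.1), ?_⟩
    have e1 := card_centP_le hM hDp hle (hbz z hz) hmax.1.1.2 (hlez z hz)
    rw [inf_eq_left.2 (hDC z hz), hdef] at e1
    obtain ⟨w, -, e2⟩ := exists_conj_centP hM hmax (hbz z hz) (hlez z hz)
    exact Nat.pow_right_injective hM.1.two_le
      (le_antisymm (e2.le.trans ((Subgroup.card_le_of_le inf_le_left).trans hdef.le)) e1)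
  -- the field
  set k := (Nat.card G).factorization p with hk
  haveI : NeZero (p ^ k) := ⟨pow_ne_zero _ hM.1.ne_zero⟩
  have hmemK : ∀ {u : G} {Q : Subgroup G} (hQ : Q = Subgroup.zpowers u)
      (hu : ∃ j : ℕ, orderOf u = p ^ j) {b : Set (IrrCharacter (Subgroup.centralizer (Q : Set G)))},
      IsPBlock M b → secPair p u b (ψ : G → ℂ) (ψ : G → ℂ) ∈ rootField (p ^ k) := by
    rintro u Q rfl ⟨j, hj⟩ b hb
    exact rootField_mono_pow hM.1.ne_zero (isPElt_le_factorization hM.1 hj)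
      (secPair_props hM (isCentr_zpowers u) hj hb ψ ψ).1
  set J : Finset (G × BrauerPairIdx G) := Finset.univ.filter fun i =>
    i.2.1 = Subgroup.zpowers i.1 ∧ (∃ k : ℕ, orderOf i.1 = p ^ k) ∧ IsPBlock M i.2.2 with hJdef
  have hJ : ∀ i, i ∈ J ↔ i.2.1 = Subgroup.zpowers i.1 ∧ (∃ k : ℕ, orderOf i.1 = p ^ k) ∧
      IsPBlock M i.2.2 := fun i => by simp [hJdef]
  set wK : G × BrauerPairIdx G → rootField (p ^ k) := fun i =>
    if h : i ∈ J then
      (Nat.card (Subgroup.centralizer (i.2.1 : Set G)) : rootField (p ^ k)) /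
        (p : rootField (p ^ k)) ^ blockDefect p i.2.2 *
        ⟨secPair p i.1 i.2.2 (ψ : G → ℂ) (ψ : G → ℂ),
          hmemK ((hJ i).1 h).1 ((hJ i).1 h).2.1 ((hJ i).1 h).2.2⟩
    else 0 with hwK
  have hwcoe : ∀ i ∈ J, (wK i : ℂ) = secW p (ψ : G → ℂ) i.1 i.2 := by
    intro i hi
    rw [secW_secPair hM.1, hwK]
    simp only [dif_pos hi]
    push_cast
    rfl
  have hpos : ∀ i ∈ J, ∀ σ : rootField (p ^ k) →ₐ[ℚ] ℂ, ∃ r : ℝ, 0 ≤ r ∧ σ (wK i) = (r : ℂ) := by
    rintro ⟨u, ⟨Q, b⟩⟩ hi σ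
    obtain ⟨hQ, hu, hb⟩ := (hJ _).1 hi
    change Q = Subgroup.zpowers u at hQ
    subst hQ
    obtain ⟨j, hj⟩ := hu
    obtain ⟨ξ, hξ⟩ := block_nonempty hM hb
    obtain ⟨χ', hχ'⟩ := exists_induced_centr hM (isCentr_zpowers u) ⟨j, hj⟩ ξ
    obtain ⟨B', hB'⟩ : ∃ B', IsInducedBlock M _ b B' :=
      ⟨_, isInducedBlock_of_congr _ hM hb (blockOf_isPBlock χ') hξ (mem_blockOf_self hM χ') hχ'⟩
    have hrow := sum_secPair_row hM (isCentr_zpowers u) ⟨j, hj⟩ hB' ψ
    have hmem : ∀ θ : IrrCharacter G, secPair p u b (ψ : G → ℂ) (θ : G → ℂ) ∈ rootField (p ^ k) :=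
      fun θ => rootField_mono_pow hM.1.ne_zero (isPElt_le_factorization hM.1 hj)
        (secPair_props hM (isCentr_zpowers u) hj hb ψ θ).1
    set zK : IrrCharacter G → rootField (p ^ k) := fun θ => ⟨_, hmem θ⟩ with hzK
    have hsum : (∑ θ ∈ bset B', zK θ * ⟨conj (zK θ : ℂ),
        (conj_galois (NeZero.ne _) σ (zK θ).2).1⟩ : rootField (p ^ k)) =
        (p : rootField (p ^ k)) ^ blockDefect p b * zK ψ := by
      apply (rootField (p ^ k)).val.injective
      rw [map_sum, map_mul, map_pow, map_natCast]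
      exact hrow
    have h := congrArg σ hsum
    simp only [map_sum, map_mul, map_pow, map_natCast,
      fun θ => (conj_galois (NeZero.ne _) σ (zK θ).2).2, Complex.mul_conj] at h
    refine ⟨(Nat.card (Subgroup.centralizer ((Subgroup.zpowers u : Subgroup G) : Set G)) : ℝ) /
      ((p : ℝ) ^ blockDefect p b) ^ 2 * ∑ θ ∈ bset B', Complex.normSq (σ (zK θ)), ?_, ?_⟩
    · exact mul_nonneg (by positivity) (Finset.sum_nonneg fun θ _ => Complex.normSq_nonneg _)
    · simp only [hwK, dif_pos hi, map_mul, map_div₀, map_pow, map_natCast]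
      push_cast
      rw [h]
      field_simp
      rfl
  have htot : ∀ σ : rootField (p ^ k) →ₐ[ℚ] ℂ, ∑ i ∈ J, σ (wK i) = (Nat.card G : ℂ) := by
    intro σ
    have h : ∑ i ∈ J, wK i = (Nat.card G : rootField (p ^ k)) := by
      apply (rootField (p ^ k)).val.injective
      rw [map_sum, map_natCast, ← sum_secW hM ψ J hJ]
      exact Finset.sum_congr rfl fun i hi => hwcoe i hi
    rw [← map_sum, h, map_natCast]
  choose! rr hr0 hrr using hpos
  set Φ : G × G → G × BrauerPairIdx G := fun i =>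
    (i.2 * i.1 * i.2⁻¹, conjIdx i.2 ⟨Subgroup.zpowers i.1, bz i.1⟩) with hΦ
  have hΦJ : ∀ z ∈ zs, ∀ g, Φ (z, g) ∈ J := fun z hz g => (hJ _).2
    ⟨zpowers_conj g z, (hord z hz).imp fun k hk => by rw [← hk]; exact conj_orderOf g z,
      isPBlock_conjBlock (hbz z hz) g⟩
  set Cn : G → ℕ := fun z =>
    Nat.card (Subgroup.centralizer ((Subgroup.zpowers z : Subgroup G) : Set G)) with hCn
  have hCpos : ∀ z, (0 : ℝ) < Cn z := fun z => by exact_mod_cast Nat.card_pos
  -- the fibres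
  have hfib : ∀ i ∈ J, ∑ y ∈ (zs ×ˢ (Finset.univ : Finset G)).filter (fun y => Φ y = i),
      ((Cn y.1 : ℝ))⁻¹ ≤ (L : ℝ) := by
    intro i _
    set S := (zs ×ˢ (Finset.univ : Finset G)).filter (fun y => Φ y = i) with hS
    rcases S.eq_empty_or_nonempty with hS0 | ⟨⟨z₀, g₀⟩, h₀⟩
    · rw [hS0, Finset.sum_empty]; positivity
    obtain ⟨h₀z, h₀Φ⟩ := Finset.mem_filter.1 h₀
    have hz₀ := (Finset.mem_product.1 h₀z).1
    set K' := H.subgroupOf (pairStab D e) with hK'
    have horb : S.image Prod.fst ⊆ (Finset.univ : Finset (↥(pairStab D e) ⧸ K')).image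
        (fun q => ((q.out : pairStab D e) : G) * z₀ * ((q.out : pairStab D e) : G)⁻¹) := by
      intro z hz
      obtain ⟨⟨z', g⟩, hy, rfl⟩ := Finset.mem_image.1 hz
      obtain ⟨hyz, hyΦ⟩ := Finset.mem_filter.1 hy
      have hz' := (Finset.mem_product.1 hyz).1
      obtain ⟨e1, e2⟩ := Prod.mk.inj (h₀Φ.trans hyΦ.symm)
      set h := g⁻¹ * g₀ with hh
      have hz'eq : h * z₀ * h⁻¹ = z' := by
        calc h * z₀ * h⁻¹ = g⁻¹ * (g₀ * z₀ * g₀⁻¹) * g := by rw [hh]; group
          _ = g⁻¹ * (g * z' * g⁻¹) * g := by rw [e1]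
          _ = z' := by group
      have hidx : conjIdx h (⟨Subgroup.zpowers z₀, bz z₀⟩ : BrauerPairIdx G) =
          ⟨Subgroup.zpowers z', bz z'⟩ := by
        rw [hh, ← conjIdx_mul, e2, conjIdx_mul, inv_mul_cancel, conjIdx_one]
      have hF := blockFusion_isBlockFusion hM hmax
      have hmem : conjHom (Subgroup.zpowers z₀) h ∈ (blockFusion hM hmax).Hom
          (Subgroup.zpowers z₀) := by
        refine (hF.2 _ _).2 ⟨Subgroup.zpowers_le.2 (hzs z₀ hz₀).1, h, fun _ => rfl, ?_,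
          bz z₀, hlez z₀ hz₀, ?_⟩
        · rw [zpowers_conj, hz'eq]; exact Subgroup.zpowers_le.2 (hzs z' hz').1
        · show Relation.ReflTransGen (NormalSubpairRel p M) (conjIdx h ⟨_, bz z₀⟩) ⟨D, e⟩
          rw [hidx]; exact hlez z' hz'
      obtain ⟨t, ht, hte⟩ := exists_extend_central hM hF hmem (hDC z₀ hz₀) (by
        rintro d hd _ ⟨⟨q, m, rfl⟩, rfl⟩
        show h * z₀ ^ m * h⁻¹ * d = d * (h * z₀ ^ m * h⁻¹)
        rw [← conj_zpow, hz'eq]
        exact ((Commute.zpow_right ((hzs z' hz').2 d hd) m)).symm.eq)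
      have h3 : h * z₀ * h⁻¹ = t * z₀ * t⁻¹ := hte ⟨z₀, Subgroup.mem_zpowers _⟩
      rw [hz'eq] at h3
      refine Finset.mem_image.2 ⟨QuotientGroup.mk (⟨t, ht⟩ : pairStab D e), Finset.mem_univ _, ?_⟩
      obtain ⟨c, hc⟩ : ∃ c : K', (QuotientGroup.mk (⟨t, ht⟩ : pairStab D e) :
          ↥(pairStab D e) ⧸ K').out = ⟨t, ht⟩ * c := QuotientGroup.mk_out_eq_mul _ _
      have hcH : ((c : pairStab D e) : G) ∈ H := c.2
      have hHz : H ≤ Subgroup.centralizer ({z₀} : Set G) := by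
        rw [hH]
        refine sup_le (fun d hd => ?_) (Subgroup.centralizer_le ?_)
        · exact Subgroup.mem_centralizer_singleton_iff.2 ((hzs z₀ hz₀).2 d hd)
        · exact Set.singleton_subset_iff.2 (hzs z₀ hz₀).1
      have hcz := Subgroup.mem_centralizer_singleton_iff.1 (hHz hcH)
      rw [hc]
      show t * ((c : pairStab D e) : G) * z₀ * (t * ((c : pairStab D e) : G))⁻¹ = z'
      calc t * ((c : pairStab D e) : G) * z₀ * (t * ((c : pairStab D e) : G))⁻¹
          = t * (((c : pairStab D e) : G) * z₀) * ((c : pairStab D e) : G)⁻¹ * t⁻¹ := by group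
        _ = t * (z₀ * ((c : pairStab D e) : G)) * ((c : pairStab D e) : G)⁻¹ * t⁻¹ := by rw [hcz]
        _ = t * z₀ * t⁻¹ := by group
        _ = z' := h3.symm
    have hcard : (S.image Prod.fst).card ≤ L := by
      refine ((Finset.card_le_card horb).trans Finset.card_image_le).trans ?_
      rw [Finset.card_univ, ← Nat.card_eq_fintype_card]
      exact hL
    rw [← Finset.sum_fiberwise_of_maps_to (g := Prod.fst) (t := S.image Prod.fst)
      (fun y hy => Finset.mem_image_of_mem _ hy)]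
    refine le_trans (Finset.sum_le_sum (g := fun _ => (1 : ℝ)) fun z hz => ?_) ?_
    · rw [Finset.sum_congr rfl fun y hy => show ((Cn y.1 : ℝ))⁻¹ = ((Cn z : ℝ))⁻¹ by
        rw [(Finset.mem_filter.1 hy).2], Finset.sum_const, nsmul_eq_mul,
        mul_inv_le_iff₀ (hCpos z), one_mul]
      norm_cast
      rcases (S.filter fun y => y.1 = z).eq_empty_or_nonempty with h0 | ⟨⟨z₁, g₁⟩, h1⟩
      · rw [h0, Finset.card_empty]; exact Nat.zero_le _
      simp only [hCn]
      rw [Nat.card_eq_fintype_card, ← Finset.card_univ]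
      obtain ⟨h1S, rfl : z₁ = z⟩ := Finset.mem_filter.1 h1
      have hu := (Finset.mem_filter.1 h1S).2
      refine Finset.card_le_card_of_injOn (fun y => if hm : g₁⁻¹ * y.2 ∈ Subgroup.centralizer
        ((Subgroup.zpowers z₁ : Subgroup G) : Set G) then ⟨_, hm⟩ else 1)
        (fun y _ => Finset.mem_coe.2 (Finset.mem_univ _)) ?_
      intro y hy y' hy' he
      obtain ⟨hyS, hyz⟩ := Finset.mem_filter.1 (Finset.mem_coe.1 hy)
      obtain ⟨hyS', hyz'⟩ := Finset.mem_filter.1 (Finset.mem_coe.1 hy')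
      have hmm : ∀ y : G × G, y ∈ S → y.1 = z₁ → g₁⁻¹ * y.2 ∈ Subgroup.centralizer
          ((Subgroup.zpowers z₁ : Subgroup G) : Set G) := by
        rintro ⟨z, g⟩ hq rfl
        have e0 : Φ (z, g) = Φ (z, g₁) := (show Φ (z, g) = i from (Finset.mem_filter.1 hq).2).trans hu.symm
        have e1 : g * z * g⁻¹ = g₁ * z * g₁⁻¹ := congrArg Prod.fst e0
        refine (isCentr_zpowers z _).2 ?_
        show g₁⁻¹ * g * z = z * (g₁⁻¹ * g)
        calc g₁⁻¹ * g * z = g₁⁻¹ * (g * z * g⁻¹) * g := by group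
          _ = g₁⁻¹ * (g₁ * z * g₁⁻¹) * g := by rw [e1]
          _ = z * (g₁⁻¹ * g) := by group
      simp only [dif_pos (hmm y hyS hyz), dif_pos (hmm y' hyS' hyz')] at he
      exact Prod.ext (hyz.trans hyz'.symm) (mul_left_cancel (congrArg Subtype.val he))
    · rw [Finset.sum_const, nsmul_eq_mul, mul_one]
      exact_mod_cast hcard
  -- the contributions
  set mK : G → rootField (p ^ k) := fun z => if h : z ∈ zs then
    ⟨secPair p z (bz z) (ψ : G → ℂ) (ψ : G → ℂ), hmemK rfl (hord z h) (hbz z h)⟩ else 0 with hmK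
  set h := dv p (ψ : G → ℂ) - minDv p B with hhd
  obtain ⟨θ, hθ, hθ0⟩ := exists_height_zero hM hB
  set uK : G → rootField (p ^ k) := fun z => mK z / (p : rootField (p ^ k)) ^ h with huK
  have hprops : ∀ z ∈ zs, IsIntegral ℤ (uK z : ℂ) ∧ mK z ≠ 0 := by
    intro z hz
    obtain ⟨hi, hd⟩ := hind z hz
    obtain ⟨u, hu, hui, -⟩ := secPair_diag_div hM (isCentr_zpowers z) (hord z hz) hi hd hψ hh
    refine ⟨?_, fun h0 => ?_⟩
    · have e : (uK z : ℂ) = u := by
        show (rootField (p ^ k)).val (uK z) = u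
        rw [huK, map_div₀, map_pow, map_natCast, hmK]
        simp only [dif_pos hz]
        show secPair p z (bz z) _ _ / _ = u
        rw [hu, mul_div_cancel_left₀ _ (pow_ne_zero _ hp0)]
      rw [e]; exact hui
    · have h0' : secPair p z (bz z) (ψ : G → ℂ) (ψ : G → ℂ) = 0 := by
        simp only [hmK, dif_pos hz] at h0
        exact congrArg Subtype.val h0
      obtain ⟨v, hv, -, hv0⟩ := secPair_div hM (isCentr_zpowers z) (hord z hz) hi hd hθ hψ hθ0
      have hne : secPair p z (bz z) (ψ : G → ℂ) (θ : G → ℂ) ≠ 0 := by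
        rw [← secPair_conj, hv, map_ne_zero]
        exact mul_ne_zero (pow_ne_zero _ hp0) hv0
      have hrow := sum_secPair_row hM (isCentr_zpowers z) (hord z hz) hi ψ
      rw [h0', mul_zero] at hrow
      simp only [Complex.mul_conj] at hrow
      rw [← Complex.ofReal_sum, Complex.ofReal_eq_zero,
        Finset.sum_eq_zero_iff_of_nonneg fun i _ => Complex.normSq_nonneg _] at hrow
      exact hne (Complex.normSq_eq_zero.1 (hrow θ (mem_bset.2 hθ)))
  have hval : ∀ z ∈ zs, ∀ g, wK (Φ (z, g)) = (Cn z : rootField (p ^ k)) /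
      (p : rootField (p ^ k)) ^ blockDefect p B * mK z := by
    intro z hz g
    apply Subtype.ext
    rw [hwcoe _ (hΦJ z hz g)]
    simp only [hΦ]
    rw [secW_conj, secW_secPair hM.1, (hind z hz).2, hmK]
    simp only [dif_pos hz]
    push_cast
    rfl
  have hre : ∀ z ∈ zs, ∀ g, ∀ σ : rootField (p ^ k) →ₐ[ℚ] ℂ, σ (mK z) =
      (((p : ℝ) ^ blockDefect p B / (Cn z : ℝ) * rr (Φ (z, g)) σ : ℝ) : ℂ) := by
    intro z hz g σ
    have h1 := hrr _ (hΦJ z hz g) σ
    rw [hval z hz g, map_mul, map_div₀, map_natCast, map_pow, map_natCast] at h1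
    have hc : (Cn z : ℂ) ≠ 0 := Nat.cast_ne_zero.2 Nat.card_pos.ne'
    push_cast
    rw [← h1]
    field_simp
  have hbound : ∀ σ : rootField (p ^ k) →ₐ[ℚ] ℂ,
      ∑ z ∈ zs, (σ (mK z)).re ≤ (L : ℝ) * (p : ℝ) ^ blockDefect p B := by
    intro σ
    have hGsum : ∑ i ∈ J, rr i σ = (Nat.card G : ℝ) := by
      have h := htot σ
      rw [Finset.sum_congr rfl fun i hi => hrr i hi σ, ← Complex.ofReal_sum] at h
      exact_mod_cast h
    have h1 : ∑ y ∈ zs ×ˢ (Finset.univ : Finset G), rr (Φ y) σ * ((Cn y.1 : ℝ))⁻¹ ≤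
        (L : ℝ) * Nat.card G := by
      rw [← Finset.sum_fiberwise_of_maps_to (g := Φ) (t := J)
        (fun y hy => hΦJ y.1 (Finset.mem_product.1 hy).1 y.2), ← hGsum, Finset.mul_sum]
      refine Finset.sum_le_sum fun i hi => ?_
      rw [Finset.sum_congr rfl fun y hy => show rr (Φ y) σ * ((Cn y.1 : ℝ))⁻¹ =
        rr i σ * ((Cn y.1 : ℝ))⁻¹ by rw [(Finset.mem_filter.1 hy).2], ← Finset.mul_sum,
        mul_comm (L : ℝ)]
      exact mul_le_mul_of_nonneg_left (hfib i hi) (hr0 i hi σ)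
    rw [Finset.sum_product] at h1
    have hG : (0 : ℝ) < Nat.card G := by exact_mod_cast Nat.card_pos
    have hpd : (0 : ℝ) < (p : ℝ) ^ blockDefect p B := pow_pos (by exact_mod_cast hM.1.pos) _
    refine le_of_mul_le_mul_left ?_ hG
    calc (Nat.card G : ℝ) * ∑ z ∈ zs, (σ (mK z)).re
        = (p : ℝ) ^ blockDefect p B *
            ∑ z ∈ zs, ∑ g : G, rr (Φ (z, g)) σ * ((Cn z : ℝ))⁻¹ := by
          rw [Finset.mul_sum, Finset.mul_sum]
          refine Finset.sum_congr rfl fun z hz => ?_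
          rw [Finset.mul_sum, Nat.card_eq_fintype_card, ← Finset.card_univ, ← nsmul_eq_mul,
            ← Finset.sum_const]
          refine Finset.sum_congr rfl fun g _ => ?_
          rw [hre z hz g σ, Complex.ofReal_re]
          ring
      _ ≤ (p : ℝ) ^ blockDefect p B * ((L : ℝ) * Nat.card G) :=
          mul_le_mul_of_nonneg_left h1 hpd.le
      _ = (Nat.card G : ℝ) * ((L : ℝ) * (p : ℝ) ^ blockDefect p B) := by ring
  set N : ℝ := (Fintype.card (rootField (p ^ k) →ₐ[ℚ] ℂ) : ℝ) with hN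
  have hNpos : 0 < N := by
    rw [hN]; exact_mod_cast Fintype.card_pos_iff.2 ⟨(rootField (p ^ k)).val⟩
  have hlow : ∀ z ∈ zs, (p : ℝ) ^ h * N ≤
      ∑ σ : rootField (p ^ k) →ₐ[ℚ] ℂ, (σ (mK z)).re := by
    intro z hz
    have hu : ∀ σ : rootField (p ^ k) →ₐ[ℚ] ℂ, σ (uK z) =
        (((p : ℝ) ^ blockDefect p B / (Cn z : ℝ) * rr (Φ (z, 1)) σ / (p : ℝ) ^ h : ℝ) : ℂ) := by
      intro σ
      rw [huK, map_div₀, map_pow, map_natCast, hre z hz 1 σ]
      push_cast
      ring
    have h1 := card_le_sum_pos (uK z) (hprops z hz).1 fun σ => ⟨_, lt_of_le_of_ne ?_ ?_, hu σ⟩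
    · calc (p : ℝ) ^ h * N ≤ (p : ℝ) ^ h * ∑ σ : rootField (p ^ k) →ₐ[ℚ] ℂ, (σ (uK z)).re :=
            mul_le_mul_of_nonneg_left h1 (by positivity)
        _ = _ := by
            rw [Finset.mul_sum]
            refine Finset.sum_congr rfl fun σ _ => ?_
            rw [hu σ, hre z hz 1 σ, Complex.ofReal_re, Complex.ofReal_re]
            have : (p : ℝ) ^ h ≠ 0 := pow_ne_zero _ (by exact_mod_cast hM.1.ne_zero)
            field_simp
    · have := hr0 _ (hΦJ z hz 1) σ
      positivity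
    · intro h0
      apply (hprops z hz).2
      have h2 := hu σ
      rw [← h0, Complex.ofReal_zero, map_eq_zero_iff σ σ.injective, huK, div_eq_zero_iff] at h2
      exact h2.resolve_right (pow_ne_zero _ (by exact_mod_cast hM.1.ne_zero))
  have hfin : ((zs.card * p ^ h : ℕ) : ℝ) * N ≤ ((L * p ^ blockDefect p B : ℕ) : ℝ) * N := by
    push_cast
    calc (zs.card : ℝ) * (p : ℝ) ^ h * N = ∑ z ∈ zs, (p : ℝ) ^ h * N := by
          rw [Finset.sum_const, nsmul_eq_mul, mul_assoc]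
      _ ≤ ∑ z ∈ zs, ∑ σ : rootField (p ^ k) →ₐ[ℚ] ℂ, (σ (mK z)).re := Finset.sum_le_sum hlow
      _ = ∑ σ : rootField (p ^ k) →ₐ[ℚ] ℂ, ∑ z ∈ zs, (σ (mK z)).re := Finset.sum_comm
      _ ≤ ∑ σ : rootField (p ^ k) →ₐ[ℚ] ℂ, (L : ℝ) * (p : ℝ) ^ blockDefect p B :=
          Finset.sum_le_sum fun σ _ => hbound σ
      _ = (L : ℝ) * (p : ℝ) ^ blockDefect p B * N := by
          rw [Finset.sum_const, nsmul_eq_mul, Finset.card_univ, hN]; ring
  exact_mod_cast le_of_mul_le_mul_right hfin hNpos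

end CfsgLib.Blocks
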