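import Cfsg.Agent.Lib.Blocks.OneBrauer
import Cfsg.Agent.Lib.Blocks.HeightBound

/-!
# Values of characters on a subsection whose local block has one Brauer character
-/

namespace CfsgLib.Blocks

open Cfsg CfsgLib.CharTheory
open scoped ComplexConjugate

set_option linter.unusedVariables false
set_option linter.unusedSimpArgs false
set_option linter.style.haveILetI false
set_option linter.unusedSectionVars false

universe u

/-- The greatest common divisor of the degrees. -/
noncomputable def bdeg {K : Type u} [Group K] [Finite K] (b : Set (IrrCharacter K)) : ℕ :=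
  haveI := Fintype.ofFinite K
  (bset b).gcd fun χ : IrrCharacter K => charDegree (χ : K → ℂ)

theorem bdeg_eq {K : Type u} [Group K] [Fintype K] (b : Set (IrrCharacter K)) :
    bdeg b = (bset b).gcd fun χ : IrrCharacter K => charDegree (χ : K → ℂ) := by
  unfold bdeg
  convert rfl

theorem bset_image {K L : Type u} [Group K] [Fintype K] [Group L] [Fintype L] (e : K ≃* L)
    (b : Set (IrrCharacter L)) [DecidableEq (IrrCharacter K)] :
    bset (irrPull e '' b) = (bset b).image (irrPull e) := by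
  ext φ; simp [mem_bset]

theorem bdeg_image {K L : Type u} [Group K] [Fintype K] [Group L] [Fintype L] (e : K ≃* L)
    (b : Set (IrrCharacter L)) : bdeg (irrPull e '' b) = bdeg b := by
  classical
  rw [bdeg_eq, bdeg_eq, bset_image, Finset.gcd_image]
  exact Finset.gcd_congr rfl fun χ _ => charDegree_irrPull e χ

variable {p : ℕ} {M : Ideal AlgInt}

/-- The single Brauer character, with the intrinsic degree. -/
theorem single_block {K : Type u} [Group K] [Fintype K] (hM : IsPModular p M)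
    {b : Set (IrrCharacter K)} (hb : IsPBlock M b) (hl : blockRank p b = 1) :
    ∃ (φ : K → ℂ) (d : IrrCharacter K → ℕ) (n : IrrCharacter K → ℤ),
      0 < bdeg b ∧ φ 1 = (bdeg b : ℂ) ∧
      (∀ x : K, ¬ p ∣ orderOf x → φ x = ∑ ψ ∈ bset b, (n ψ : ℂ) * (ψ : K → ℂ) x) ∧
      (∀ χ ∈ b, ∀ x : K, ¬ p ∣ orderOf x → (χ : K → ℂ) x = (d χ : ℂ) * φ x) ∧
      (∀ χ ∈ b, charDegree (χ : K → ℂ) = d χ * bdeg b) ∧
      (∀ χ ∈ b, 0 < d χ) ∧
      ∑ χ ∈ bset b, (d χ : ℤ) * n χ = 1 ∧
      ∑ χ ∈ bset b, d χ ^ 2 = p ^ blockDefect p b := by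
  classical
  obtain ⟨φ, f, d, n, hf, hφ, hval, hdeg, hdn, hsq⟩ := exists_single_brauer hM hb hl
  have h1 : ¬ p ∣ orderOf (1 : K) := by rw [orderOf_one]; exact hM.1.not_dvd_one
  have hφ1 : φ 1 = (f : ℂ) := by
    rw [hφ 1 h1]
    have h := congrArg (fun z : ℤ => (z : ℂ)) hdn
    push_cast at h
    rw [← mul_one (f : ℂ), ← h, Finset.mul_sum]
    refine Finset.sum_congr rfl fun ψ hψ => ?_
    rw [← irr_charDegree_cast ψ, hdeg ψ (mem_bset.1 hψ)]
    push_cast
    ring
  have hfeq : bdeg b = f := by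
    rw [bdeg_eq]
    refine Nat.dvd_antisymm ?_ (Finset.dvd_gcd fun χ hχ =>
      ⟨d χ, by rw [hdeg χ (mem_bset.1 hχ), mul_comm]⟩)
    have h : (((bset b).gcd fun χ : IrrCharacter K => charDegree (χ : K → ℂ) : ℕ) : ℤ) ∣
        (f : ℤ) := by
      rw [← mul_one (f : ℤ), ← hdn, Finset.mul_sum]
      refine Finset.dvd_sum fun χ hχ => ?_
      have h2 := Finset.gcd_dvd (f := fun χ : IrrCharacter K => charDegree (χ : K → ℂ)) hχ
      rw [← mul_assoc, mul_comm (f : ℤ), ← Nat.cast_mul, ← hdeg χ (mem_bset.1 hχ)]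
      exact (Int.natCast_dvd_natCast.2 h2).mul_right _
    exact_mod_cast h
  rw [hfeq]
  refine ⟨φ, d, n, hf, hφ1, hφ, hval, hdeg, fun χ hχ => Nat.pos_of_ne_zero fun h0 => ?_, hdn, hsq⟩
  have := hdeg χ hχ
  rw [h0, zero_mul] at this
  exact (irr_charDegree_pos χ).ne' this

variable {G : Type u} [Group G] [Fintype G]

/-- The value on the subsection `(u, b)` in units of the Brauer character of `b`. -/
noncomputable def cval (u : G) (a : BrauerPairIdx G) (F : G → ℂ) : ℂ :=
  blockPart a.2 (sec u (Subgroup.centralizer (a.1 : Set G)) F) 1 / (bdeg a.2 : ℂ)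

section Basic

variable (hM : IsPModular p M) {Q : Subgroup G} [Fintype (Subgroup.centralizer (Q : Set G))]
  {b : Set (IrrCharacter (Subgroup.centralizer (Q : Set G)))}

include hM

theorem cval_eq_sum {φ : Subgroup.centralizer (Q : Set G) → ℂ}
    {d : IrrCharacter (Subgroup.centralizer (Q : Set G)) → ℕ}
    (hf : 0 < bdeg b) (hdeg : ∀ χ ∈ b,
      charDegree (χ : Subgroup.centralizer (Q : Set G) → ℂ) = d χ * bdeg b) (u : G) (F : G → ℂ) :
    cval u ⟨Q, b⟩ F = ∑ θ ∈ bset b,
      classInner (sec u (Subgroup.centralizer (Q : Set G)) F)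
        (θ : Subgroup.centralizer (Q : Set G) → ℂ) * (d θ : ℂ) := by
  rw [cval, blockPart_apply, Finset.sum_div]
  refine Finset.sum_congr rfl fun θ hθ => ?_
  rw [← irr_charDegree_cast θ, hdeg θ (mem_bset.1 hθ), Nat.cast_mul, mul_div_assoc,
    mul_div_cancel_right₀ _ (Nat.cast_ne_zero.2 hf.ne')]

theorem blockPart_eq_cval {φ : Subgroup.centralizer (Q : Set G) → ℂ}
    {d : IrrCharacter (Subgroup.centralizer (Q : Set G)) → ℕ}
    (hf : 0 < bdeg b) (hdeg : ∀ χ ∈ b,
      charDegree (χ : Subgroup.centralizer (Q : Set G) → ℂ) = d χ * bdeg b)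
    (hval : ∀ χ ∈ b, ∀ x : Subgroup.centralizer (Q : Set G), ¬ p ∣ orderOf x →
      (χ : Subgroup.centralizer (Q : Set G) → ℂ) x = (d χ : ℂ) * φ x)
    (u : G) (F : G → ℂ) {y : Subgroup.centralizer (Q : Set G)} (hy : ¬ p ∣ orderOf y) :
    blockPart b (sec u (Subgroup.centralizer (Q : Set G)) F) y = cval u ⟨Q, b⟩ F * φ y := by
  rw [cval_eq_sum hM (φ := φ) hf hdeg, blockPart_apply, Finset.sum_mul]
  exact Finset.sum_congr rfl fun θ hθ => by rw [hval θ (mem_bset.1 hθ) y hy, mul_assoc]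

/-- For a block with one Brauer character the contributions are products of the values. -/
theorem secPair_eq_cval (hb : IsPBlock M b) (hl : blockRank p b = 1) (u : G) (F F' : G → ℂ) :
    secPair p u b F F' = cval u ⟨Q, b⟩ F * conj (cval u ⟨Q, b⟩ F') := by
  classical
  obtain ⟨φ, d, n, hf, hφ1, hφ, hval, hdeg, hd0, hdn, hsq⟩ := single_block hM hb hl
  set R := Finset.univ.filter
    (fun c : Subgroup.centralizer (Q : Set G) => ¬ p ∣ orderOf c) with hR
  set S : ℂ := ∑ c ∈ R, φ c * conj (φ c) with hS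
  have hH : (Nat.card (Subgroup.centralizer (Q : Set G)) : ℂ) ≠ 0 :=
    Nat.cast_ne_zero.2 Nat.card_pos.ne'
  have hcard : (Nat.card (Subgroup.centralizer (Q : Set G)) : ℂ) =
      ((p : ℂ) ^ blockDefect p b) * S := by
    have h := card_mul_blockRank hM hb
    rw [hl, Nat.cast_one, mul_one] at h
    have e : ((p : ℂ) ^ blockDefect p b) = ∑ χ ∈ bset b, ((d χ : ℂ) * d χ) := by
      have h2 := congrArg (fun z : ℕ => (z : ℂ)) hsq
      push_cast at h2
      rw [← h2]
      exact Finset.sum_congr rfl fun χ _ => sq _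
    rw [h, e, Finset.sum_mul]
    refine Finset.sum_congr rfl fun χ hχ => ?_
    rw [regS_eq_sum, hS, Finset.mul_sum]
    refine Finset.sum_congr rfl fun c hc => ?_
    rw [irr_inv, hval χ (mem_bset.1 hχ) c (Finset.mem_filter.1 hc).2, map_mul, map_natCast]
    ring
  have h : ∑ c ∈ R, blockPart b (sec u (Subgroup.centralizer (Q : Set G)) F) c *
      conj (blockPart b (sec u (Subgroup.centralizer (Q : Set G)) F') c) =
      cval u ⟨Q, b⟩ F * conj (cval u ⟨Q, b⟩ F') * S := by
    rw [hS, Finset.mul_sum]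
    refine Finset.sum_congr rfl fun c hc => ?_
    rw [blockPart_eq_cval hM hf hdeg hval u F (Finset.mem_filter.1 hc).2,
      blockPart_eq_cval hM hf hdeg hval u F' (Finset.mem_filter.1 hc).2, map_mul]
    ring
  unfold secPair
  rw [← hR, h]
  linear_combination (cval u ⟨Q, b⟩ F * conj (cval u ⟨Q, b⟩ F') *
      (Nat.card (Subgroup.centralizer (Q : Set G)) : ℂ)⁻¹) * hcard.symm +
    (cval u ⟨Q, b⟩ F * conj (cval u ⟨Q, b⟩ F')) * inv_mul_cancel₀ hH

theorem cval_off {u : G} (hH : IsCentr u (Subgroup.centralizer (Q : Set G)))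
    (hu : ∃ k : ℕ, orderOf u = p ^ k) {B : Set (IrrCharacter G)}
    (hind : IsInducedBlock M (Subgroup.centralizer (Q : Set G)) b B) {χ : IrrCharacter G}
    (hχ : χ ∉ B) : cval u ⟨Q, b⟩ (χ : G → ℂ) = 0 := by
  rw [cval]
  simp only []
  rw [blockPart_sec_off hM hH hu hind hχ
    (by rw [orderOf_one]; exact hM.1.not_dvd_one), zero_div]

/-- The squares of the values sum to the order of the defect group. -/
theorem sum_cval_sq {u : G} (hH : IsCentr u (Subgroup.centralizer (Q : Set G)))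
    (hu : ∃ k : ℕ, orderOf u = p ^ k) {B : Set (IrrCharacter G)}
    (hind : IsInducedBlock M (Subgroup.centralizer (Q : Set G)) b B) (hl : blockRank p b = 1) :
    ∑ χ ∈ bset B, cval u ⟨Q, b⟩ (χ : G → ℂ) * conj (cval u ⟨Q, b⟩ (χ : G → ℂ)) =
      (p : ℂ) ^ blockDefect p b := by
  have h := sum_secPair_diag hM hH hu hind
  rw [hl, Nat.cast_one, mul_one] at h
  rw [← h]
  exact Finset.sum_congr rfl fun χ _ => (secPair_eq_cval hM hind.1 hl u _ _).symm

/-- Distinct blocks on the same section are orthogonal. -/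
theorem sum_cval_disjoint {u : G} (hH : IsCentr u (Subgroup.centralizer (Q : Set G)))
    (hu : ∃ k : ℕ, orderOf u = p ^ k) (hb : IsPBlock M b)
    {b' : Set (IrrCharacter (Subgroup.centralizer (Q : Set G)))} (hb' : IsPBlock M b')
    (hne : b ≠ b') :
    ∑ χ : IrrCharacter G, cval u ⟨Q, b⟩ (χ : G → ℂ) * conj (cval u ⟨Q, b'⟩ (χ : G → ℂ)) = 0 := by
  classical
  have h1 : ¬ p ∣ orderOf (1 : Subgroup.centralizer (Q : Set G)) := by
    rw [orderOf_one]; exact hM.1.not_dvd_one
  simp only [cval, map_div₀, map_natCast, div_mul_div_comm, ← Finset.sum_div]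
  rw [section_inner hM hH hu (fun ψ hψ => (eq_blockOf hM hb hψ).ge)
    (fun ψ hψ => (eq_blockOf hM hb' hψ).ge) h1 h1, Finset.sum_eq_zero, zero_div]
  intro ψ _
  by_cases h : ψ ∈ b
  · rw [ind_of_notMem (Set.disjoint_left.1 (block_disjoint hM hb hb' hne) h)]
    ring
  · rw [ind_of_notMem h]
    ring

/-- The values are orthogonal to the character values at elements outside the section. -/
theorem sum_cval_mul_conj_irr {u y : G}
    (hb : IsPBlock M b)
    (hnot : ∀ c : Subgroup.centralizer (Q : Set G), ¬ p ∣ orderOf c → ¬ IsConj (u * (c : G)) y) :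
    ∑ χ : IrrCharacter G, cval u ⟨Q, b⟩ (χ : G → ℂ) * conj ((χ : G → ℂ) y) = 0 := by
  classical
  have h1 : ¬ p ∣ orderOf (1 : Subgroup.centralizer (Q : Set G)) := by
    rw [orderOf_one]; exact hM.1.not_dvd_one
  have hU : ∀ ψ ∈ b, blockOf M (ψ : Subgroup.centralizer (Q : Set G) → ℂ) ⊆ b :=
    fun ψ hψ => (eq_blockOf hM hb hψ).ge
  simp only [cval, blockPart_regular hM hU _ h1, div_mul_eq_mul_div, ← Finset.sum_div]
  rw [Finset.sum_congr rfl fun χ _ => by rw [mul_assoc, Finset.sum_mul], ← Finset.mul_sum,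
    Finset.sum_comm, Finset.sum_eq_zero, mul_zero, zero_div]
  intro c hc
  have h2 := sum_irr_mul_conj (u * (c : G)) y
  rw [if_neg (hnot c (Finset.mem_filter.1 hc).2)] at h2
  simp only [sec]
  rw [Finset.sum_congr rfl fun χ _ => mul_right_comm _ _ _, ← Finset.sum_mul, h2, zero_mul]

/-- Subsections of nonconjugate elements are orthogonal. -/
theorem sum_cval_ne {Q' : Subgroup G} [Fintype (Subgroup.centralizer (Q' : Set G))]
    {b' : Set (IrrCharacter (Subgroup.centralizer (Q' : Set G)))} (hb' : IsPBlock M b') {u v : G}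
    (hH : IsCentr u (Subgroup.centralizer (Q : Set G)))
    (hH' : IsCentr v (Subgroup.centralizer (Q' : Set G)))
    (hu : ∃ k : ℕ, orderOf u = p ^ k) (hv : ∃ k : ℕ, orderOf v = p ^ k) (hb : IsPBlock M b)
    (hne : ¬ IsConj u v) :
    ∑ χ : IrrCharacter G, cval u ⟨Q, b⟩ (χ : G → ℂ) * conj (cval v ⟨Q', b'⟩ (χ : G → ℂ)) = 0 := by
  classical
  have h1 : ¬ p ∣ orderOf (1 : Subgroup.centralizer (Q' : Set G)) := by
    rw [orderOf_one]; exact hM.1.not_dvd_one
  have hU : ∀ ψ ∈ b', blockOf M (ψ : Subgroup.centralizer (Q' : Set G) → ℂ) ⊆ b' :=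
    fun ψ hψ => (eq_blockOf hM hb' hψ).ge
  have e : ∀ χ : IrrCharacter G, conj (cval v ⟨Q', b'⟩ (χ : G → ℂ)) =
      ∑ c ∈ Finset.univ.filter (fun c : Subgroup.centralizer (Q' : Set G) => ¬ p ∣ orderOf c),
        conj ((Nat.card (Subgroup.centralizer (Q' : Set G)) : ℂ)⁻¹ *
          (∑ ψ ∈ bset b', (ψ : Subgroup.centralizer (Q' : Set G) → ℂ) 1 *
            (ψ : Subgroup.centralizer (Q' : Set G) → ℂ) c⁻¹) / (bdeg b' : ℂ)) *
          conj ((χ : G → ℂ) (v * (c : G))) := by
    intro χ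
    simp only [cval, blockPart_regular hM hU _ h1]
    rw [Finset.mul_sum, Finset.sum_div, map_sum]
    refine Finset.sum_congr rfl fun c _ => ?_
    rw [← map_mul]
    refine congrArg _ ?_
    simp only [sec]
    ring
  simp only [e, Finset.mul_sum]
  rw [Finset.sum_comm]
  refine Finset.sum_eq_zero fun c hc => ?_
  rw [Finset.sum_congr rfl fun χ _ => mul_left_comm _ _ _, ← Finset.mul_sum,
    sum_cval_mul_conj_irr hM hb, mul_zero]
  intro d hd hcj
  obtain ⟨g, hg⟩ := isConj_iff.1 hcj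
  have hcm : Commute (g * u * g⁻¹) (g * (d : G) * g⁻¹) :=
    ((hH _).1 d.2).symm.map (MulAut.conj g).toMonoidHom
  obtain ⟨e1, -⟩ := pPart_unique hM.1 hcm ((hH' _).1 c.2).symm
    (hu.imp fun k hk => by rw [conj_orderOf, hk]) hv
    (by rw [conj_orderOf, Subgroup.orderOf_coe]; exact hd)
    (by rw [Subgroup.orderOf_coe]; exact (Finset.mem_filter.1 hc).2)
    (by rw [← hg]; group)
  exact hne (isConj_iff.2 ⟨g, e1⟩)

end Basic

/-- Transport of block parts of sections under conjugation. -/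
theorem blockPart_conj (χ : IrrCharacter G) (g u : G) (Q : Subgroup G)
    (b : Set (IrrCharacter (Subgroup.centralizer (Q : Set G))))
    (c : Subgroup.centralizer ((Q.map (MulAut.conj g).toMonoidHom : Subgroup G) : Set G)) :
    blockPart (conjBlock Q g b) (sec (g * u * g⁻¹) (Subgroup.centralizer
      ((Q.map (MulAut.conj g).toMonoidHom : Subgroup G) : Set G)) (χ : G → ℂ)) c =
    blockPart b (sec u (Subgroup.centralizer (Q : Set G)) (χ : G → ℂ)) (centE Q g c) := by
  classical
  haveI := Fintype.ofFinite (Subgroup.centralizer (Q : Set G))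
  haveI := Fintype.ofFinite (Subgroup.centralizer
    ((Q.map (MulAut.conj g).toMonoidHom : Subgroup G) : Set G))
  have hsec : sec (g * u * g⁻¹) (Subgroup.centralizer
      ((Q.map (MulAut.conj g).toMonoidHom : Subgroup G) : Set G)) (χ : G → ℂ) =
      fun c => sec u (Subgroup.centralizer (Q : Set G)) (χ : G → ℂ) (centE Q g c) := by
    funext c
    show (χ : G → ℂ) (g * u * g⁻¹ * c) = (χ : G → ℂ) (u * (g⁻¹ * c * g))
    rw [← irr_isClassFun χ (u * (g⁻¹ * c * g)) g]
    congr 1
    group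
  rw [conjBlock_eq, hsec, blockPart_image]

theorem cval_conj (χ : IrrCharacter G) (g u : G) (a : BrauerPairIdx G) :
    cval (g * u * g⁻¹) (conjIdx g a) (χ : G → ℂ) = cval u a (χ : G → ℂ) := by
  classical
  obtain ⟨Q, b⟩ := a
  haveI := Fintype.ofFinite (Subgroup.centralizer (Q : Set G))
  haveI := Fintype.ofFinite (Subgroup.centralizer
    ((Q.map (MulAut.conj g).toMonoidHom : Subgroup G) : Set G))
  have h1 : bdeg (conjBlock Q g b) = bdeg b := by rw [conjBlock_eq, bdeg_image]
  show blockPart (conjBlock Q g b) (sec (g * u * g⁻¹) (Subgroup.centralizer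
      ((Q.map (MulAut.conj g).toMonoidHom : Subgroup G) : Set G)) (χ : G → ℂ)) 1 /
        (bdeg (conjBlock Q g b) : ℂ) =
    blockPart b (sec u (Subgroup.centralizer (Q : Set G)) (χ : G → ℂ)) 1 / (bdeg b : ℂ)
  rw [h1, blockPart_conj, map_one]

theorem cval_sum {ι : Type*} (u : G) (a : BrauerPairIdx G) (s : Finset ι) (c : ι → ℂ)
    (F : ι → G → ℂ) :
    cval u a (fun g => ∑ i ∈ s, c i * F i g) = ∑ i ∈ s, c i * cval u a (F i) := by
  classical
  obtain ⟨Q, b⟩ := a
  haveI := Fintype.ofFinite (Subgroup.centralizer (Q : Set G))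
  simp only [cval, blockPart_apply, ← mul_div_assoc, ← Finset.sum_div]
  congr 1
  simp only [Finset.mul_sum]
  rw [Finset.sum_comm]
  refine Finset.sum_congr rfl fun θ _ => ?_
  simp only [classInner, sec, Finset.sum_mul, Finset.mul_sum]
  rw [Finset.sum_comm]
  exact Finset.sum_congr rfl fun i _ => Finset.sum_congr rfl fun g _ => by ring

end CfsgLib.Blocks
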