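import Cfsg.Agent.Lib.Blocks.CyclicPairs

/-!
# Abelian defect group: the local block at an element, and trivial inertial quotient gives rank one
-/

namespace CfsgLib.Blocks

open Cfsg CfsgLib.CharTheory
open scoped ComplexConjugate

set_option linter.unusedVariables false
set_option linter.unusedSimpArgs false
set_option linter.style.haveILetI false
set_option linter.unusedSectionVars false

universe u

variable {p : ℕ} {M : Ideal AlgInt} {G : Type u} [Group G] [Fintype G]

/-- The block of `C(Q)` below a maximal pair with abelian group, and its own maximal pair. -/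
theorem exists_local_abelian (hM : IsPModular p M) {B : Set (IrrCharacter G)} {P : Subgroup G}
    {e : Set (IrrCharacter (Subgroup.centralizer (P : Set G)))}
    (hmax : IsMaximalBrauerPair p M B P e) (hab : ∀ x ∈ P, ∀ y ∈ P, x * y = y * x)
    {Q : Subgroup G} (hQP : Q ≤ P) [Fintype (Subgroup.centralizer (Q : Set G))] :
    ∃ f : Set (IrrCharacter (Subgroup.centralizer (Q : Set G))),
      IsNormalSubpair p M Q f P e ∧
      IsInducedBlock M (Subgroup.centralizer (Q : Set G)) f B ∧
      blockDefect p f = blockDefect p B ∧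
      ∃ (a : BrauerPairIdx (Subgroup.centralizer (Q : Set G)))
        (ha : Subgroup.centralizer ((a.1.map (Subgroup.centralizer (Q : Set G)).subtype :
          Subgroup G) : Set G) ≤ Subgroup.centralizer (Q : Set G)),
        upIdx a ha = ⟨P, e⟩ ∧ IsMaximalBrauerPair p M f a.1 a.2 := by
  classical
  have hP : IsPGroup p P := hmax.1.1.1
  have he := hmax.1.1.2
  have hPC : P ≤ Subgroup.centralizer (Q : Set G) := fun x hx q hq => hab q (hQP hq) x hx
  obtain ⟨f, hstep⟩ := exists_normal_below hM hP hQP
    (hPC.trans (Subgroup.centralizer_le_normalizer _)) he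
  have hf : IsPBlock M f := hstep.1.2
  obtain ⟨a, ha, hup, hblk⟩ := exists_upIdx (M := M) hPC (centralizer_anti hQP) he
  have hcoef : ∀ t : Subgroup.centralizer (Q : Set G), blockCoeff f t =
      subgroupBlockCoeff (Subgroup.centralizer (Q : Set G)) f (t : G) := fun t => by
    rw [subgroupBlockCoeff_eq, sext_coe]
  have hpair := pairOf_of_step hM hf hcoef hblk hup hstep
  have hmax' := maximal_down hM hup hmax hpair
  have hpairG : IsBrauerPairOf p M B Q f :=
    (pairOf_subpair_iff hM (a := ⟨Q, f⟩) (b := ⟨P, e⟩)
      (Relation.ReflTransGen.single hstep) B).2 hmax.1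
  refine ⟨f, hstep, (induced_centralizer_iff hM (hP.to_le hQP)).2 hpairG, ?_, a, ha, hup, hmax'⟩
  refine Nat.pow_right_injective hM.1.two_le (?_ : p ^ blockDefect p f = p ^ blockDefect p B)
  rw [← card_defectGroup hM hf (maximal_isDefectGroup hM hmax'),
    ← card_defectGroup hM hmax.1.2.1 (maximal_isDefectGroup hM hmax),
    ← le_map_subtype_of_eq hup, Subgroup.card_map_of_injective Subtype.coe_injective]

/-- The group of the pair of `C(Q)` has the order of `P` and the stabilizer goes up. -/
theorem local_abelian_props {Q P : Subgroup G} [Fintype (Subgroup.centralizer (Q : Set G))]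
    {e : Set (IrrCharacter (Subgroup.centralizer (P : Set G)))}
    {a : BrauerPairIdx (Subgroup.centralizer (Q : Set G))}
    {ha : Subgroup.centralizer ((a.1.map (Subgroup.centralizer (Q : Set G)).subtype :
          Subgroup G) : Set G) ≤ Subgroup.centralizer (Q : Set G)}
    (hup : upIdx a ha = ⟨P, e⟩) (hab : ∀ x ∈ P, ∀ y ∈ P, x * y = y * x) :
    Nat.card a.1 = Nat.card P ∧ (∀ x ∈ a.1, ∀ y ∈ a.1, x * y = y * x) ∧
      (∀ y ∈ pairStab a.1 a.2, (y : G) ∈ pairStab P e) ∧
      (∀ y : Subgroup.centralizer (Q : Set G),
        (y : G) ∈ Subgroup.centralizer (P : Set G) ↔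
          y ∈ Subgroup.centralizer (a.1 : Set (Subgroup.centralizer (Q : Set G)))) := by
  have hmap : a.1.map (Subgroup.centralizer (Q : Set G)).subtype = P := le_map_subtype_of_eq hup
  refine ⟨?_, fun x hx y hy => Subtype.ext
    (hab _ (hmap ▸ Subgroup.mem_map_of_mem _ hx) _ (hmap ▸ Subgroup.mem_map_of_mem _ hy)),
    fun y hy => pairStab_upIdx hup hy, fun y => ?_⟩
  · rw [← hmap, Subgroup.card_map_of_injective Subtype.coe_injective]
  · rw [← mem_cent_map_iff a.1 y, hmap]

private theorem rank_one_aux (hM : IsPModular p M) (n : ℕ) :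
    ∀ (H : Type u) [Group H] [Fintype H] (B : Set (IrrCharacter H)) (P : Subgroup H)
      (e : Set (IrrCharacter (Subgroup.centralizer (P : Set H)))),
      Nat.card H = n → IsMaximalBrauerPair p M B P e → (∀ x ∈ P, ∀ y ∈ P, x * y = y * x) →
      pairStab P e ≤ Subgroup.centralizer (P : Set H) →
      blockRank p B = 1 ∧ Nat.card B = Nat.card P := by
  induction n using Nat.strong_induction_on with
  | _ n ih =>
    intro H _ _ B P e hn hmax hab htriv
    classical
    haveI : Fact p.Prime := ⟨hM.1⟩
    have hB := hmax.1.2.1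
    have hP : IsPGroup p P := hmax.1.1.1
    have hcardP : Nat.card P = p ^ blockDefect p B :=
      card_defectGroup hM hB (maximal_isDefectGroup hM hmax)
    have hge := card_le_sum_rankSum_triv hM hmax hab htriv
    have hpos := blockRank_pos hM hB
    have h1P : 1 ≤ Nat.card P := Nat.card_pos
    suffices hle : Nat.card B ≤ Nat.card P by omega
    by_cases hZ : P ≤ Subgroup.center H
    · haveI := normal_of_central hZ
      have hl : blockRank p B = 1 :=
        blockRank_pcent hM hP (sup_cent_of_central hZ) hB hcardP
      have hc : IsCentr (1 : H) (⊤ : Subgroup H) := fun g => by simp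
      haveI := Fintype.ofFinite (Subgroup.centralizer ((Subgroup.zpowers (1 : H) : Subgroup H) : Set H))
      obtain ⟨f, hstep, hind, hdef, a, ha, hup, hmax'⟩ :=
        exists_local_abelian hM hmax hab (Q := Subgroup.zpowers (1 : H)) (by simp)
      obtain ⟨hcard', hab', hst, hcent⟩ := local_abelian_props hup hab
      have hZ' : a.1 ≤ Subgroup.center _ := fun z hz => by
        refine Subgroup.mem_center_iff.2 fun g => Subtype.ext ?_
        have hzP : (z : H) ∈ P := le_map_subtype_of_eq hup ▸ Subgroup.mem_map_of_mem _ hz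
        exact Subgroup.mem_center_iff.1 (hZ hzP) g
      haveI := normal_of_central hZ'
      have hlf : blockRank p f = 1 := blockRank_pcent hM hmax'.1.1.1 (sup_cent_of_central hZ')
        hmax'.1.2.1 (by rw [hcard', hcardP, hdef])
      rw [hcardP]
      exact card_le_of_major_rank_one hM (isCentr_zpowers (1 : H)) ⟨0, orderOf_one⟩ hind hdef hlf
    · obtain ⟨u, huP, huZ⟩ := SetLike.not_le_iff_exists.1 hZ
      have hQP : Subgroup.zpowers u ≤ P := Subgroup.zpowers_le.2 huP
      haveI := Fintype.ofFinite (Subgroup.centralizer ((Subgroup.zpowers u : Subgroup H) : Set H))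
      obtain ⟨f, hstep, hind, hdef, a, ha, hup, hmax'⟩ := exists_local_abelian hM hmax hab hQP
      obtain ⟨hcard', hab', hst, hcent⟩ := local_abelian_props hup hab
      have htriv' : pairStab a.1 a.2 ≤ Subgroup.centralizer
          (a.1 : Set (Subgroup.centralizer ((Subgroup.zpowers u : Subgroup H) : Set H))) :=
        fun y hy => (hcent y).1 (htriv (hst y hy))
      have hlt : Nat.card (Subgroup.centralizer ((Subgroup.zpowers u : Subgroup H) : Set H)) < n := by
        rw [← hn]
        refine lt_of_le_of_ne (Subgroup.card_le_card_group _) fun heq => huZ ?_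
        have htop := Subgroup.eq_top_of_card_eq _ heq
        refine Subgroup.mem_center_iff.2 fun g => ?_
        exact (isCentr_zpowers u g).1 (htop ▸ Subgroup.mem_top g)
      obtain ⟨hlf, -⟩ := ih _ hlt _ f a.1 a.2 rfl hmax' hab' htriv'
      obtain ⟨k, hk⟩ := hP ⟨u, huP⟩
      obtain ⟨i, -, hi⟩ := (Nat.dvd_prime_pow hM.1).1
        (orderOf_dvd_of_pow_eq_one (congrArg Subtype.val hk))
      rw [hcardP]
      exact card_le_of_major_rank_one hM (isCentr_zpowers u) ⟨i, hi⟩ hind hdef hlf

/-- Abelian defect group and trivial inertial quotient: one Brauer character, `|P|` characters. -/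
theorem rank_one_of_abelian_triv (hM : IsPModular p M) {B : Set (IrrCharacter G)} {P : Subgroup G}
    {e : Set (IrrCharacter (Subgroup.centralizer (P : Set G)))}
    (hmax : IsMaximalBrauerPair p M B P e) (hab : ∀ x ∈ P, ∀ y ∈ P, x * y = y * x)
    (htriv : pairStab P e ≤ Subgroup.centralizer (P : Set G)) :
    blockRank p B = 1 ∧ Nat.card B = Nat.card P :=
  rank_one_aux hM _ G B P e rfl hmax hab htriv

end CfsgLib.Blocks
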