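import Cfsg.Agent.Lib.Blocks.AbelianTriv
import Cfsg.Agent.Lib.Blocks.Down
import Mathlib.NumberTheory.Basic

/-!
# Pairs below a maximal pair with cyclic or abelian subgroup
-/

namespace CfsgLib.Blocks

open Cfsg CfsgLib.CharTheory

set_option linter.unusedVariables false
set_option linter.unusedSimpArgs false
set_option linter.style.haveILetI false
set_option linter.unusedSectionVars false

universe u

variable {p : ℕ} {M : Ideal AlgInt} {G : Type u} [Group G] [Fintype G]

/-- Block induction computed inside `H`, for the centralizer of a `p`-subgroup of `H`. -/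
theorem pairOf_of_inducedIn (hM : IsPModular p M) {H : Subgroup G} [Fintype H] {P : Subgroup G}
    (hP : IsPGroup p P) (hPH : P ≤ H) (hC : Subgroup.centralizer (P : Set G) ≤ H)
    {c : Set (IrrCharacter (Subgroup.centralizer (P : Set G)))} {f : Set (IrrCharacter H)}
    (h : IsInducedBlockIn M H (Subgroup.centralizer (P : Set G)) c f) :
    ∃ (a : BrauerPairIdx H)
      (ha : Subgroup.centralizer ((a.1.map H.subtype : Subgroup G) : Set G) ≤ H),
      upIdx a ha = ⟨P, c⟩ ∧ IsBrauerPairOf p M f a.1 a.2 := by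
  classical
  obtain ⟨⟨R, g⟩, ha, hup, hg⟩ := exists_upIdx (H := H) hPH hC h.1
  obtain ⟨h1, h2⟩ := Sigma.mk.inj_iff.1 hup
  subst h1
  have h3 := eq_of_heq h2
  subst h3
  have hRp : IsPGroup p R :=
    hP.of_equiv (Subgroup.equivMapOfInjective R H.subtype Subtype.coe_injective).symm
  refine ⟨⟨R, g⟩, ha, rfl, ?_⟩
  haveI := Fintype.ofFinite (Subgroup.centralizer (R : Set H))
  refine (induced_centralizer_iff hM hRp).1 ⟨hg, h.2.1, fun ξ hξ χ hχ t => ?_⟩
  have key : inducedCentralCharIn H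
      (Subgroup.centralizer ((R.map H.subtype : Subgroup G) : Set G))
      (irrPull (upE R ha) ξ : _ → ℂ) (t : G) =
      inducedCentralChar (Subgroup.centralizer (R : Set H)) (ξ : _ → ℂ) t := by
    simp only [inducedCentralCharIn, inducedCentralChar]
    refine finsum_mem_eq_of_bijOn (upE R ha) ⟨?_, (upE R ha).injective.injOn, ?_⟩ fun k _ => by
      simp only [irrPull_apply, map_one]
    · rintro k ⟨x, hx⟩
      refine isConj_iff.2 ⟨x⁻¹, Subtype.ext ?_⟩
      show (x : G)⁻¹ * (t : G) * (x : G)⁻¹⁻¹ = (k : G)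
      rw [← hx]; group
    · intro k' hk'
      obtain ⟨y, hy⟩ := isConj_iff.1 (show IsConj t (k' : H) from hk')
      refine ⟨(upE R ha).symm k', ⟨y⁻¹, ?_⟩, (upE R ha).apply_symm_apply k'⟩
      show (y : G)⁻¹ * ((k' : H) : G) * (y : G)⁻¹⁻¹ = (t : G)
      rw [← hy]
      push_cast
      group
  have h4 := h.2.2 (irrPull (upE R ha) ξ) ⟨ξ, hξ, rfl⟩ χ hχ t
  rwa [key] at h4

/-- The pair of `H = C(Q)` gives a normal inclusion. -/
theorem normalSubpair_of_pairOf (hM : IsPModular p M) {Q P : Subgroup G} (hQP : Q ≤ P)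
    (hP : IsPGroup p P) (hPC : P ≤ Subgroup.centralizer (Q : Set G))
    [Fintype (Subgroup.centralizer (Q : Set G))]
    {f : Set (IrrCharacter (Subgroup.centralizer (Q : Set G)))} (hf : IsPBlock M f)
    {c : Set (IrrCharacter (Subgroup.centralizer (P : Set G)))} (hc : IsPBlock M c)
    {a : BrauerPairIdx (Subgroup.centralizer (Q : Set G))}
    {ha : Subgroup.centralizer
      ((a.1.map (Subgroup.centralizer (Q : Set G)).subtype : Subgroup G) : Set G) ≤
        Subgroup.centralizer (Q : Set G)}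
    (h : upIdx a ha = ⟨P, c⟩) (hpair : IsBrauerPairOf p M f a.1 a.2) :
    IsNormalSubpair p M Q f P c := by
  refine ⟨⟨hP.to_le hQP, hf⟩, ⟨hP, hc⟩, hQP,
    hPC.trans (Subgroup.centralizer_le_normalizer _),
    fun x hx => stabilizes_of_mem_cent f (hPC hx), ?_⟩
  obtain ⟨R, g⟩ := a
  obtain ⟨h1, h2⟩ := Sigma.mk.inj_iff.1 h
  subst h1
  have h3 := eq_of_heq h2
  subst h3
  rintro _ ⟨ξ, hξ, rfl⟩
  rw [brauerOmega_up]
  have e : (fun t : Subgroup.centralizer (Q : Set G) =>
      subgroupBlockCoeff (Subgroup.centralizer (Q : Set G)) f (t : G)) = blockCoeff f :=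
    funext fun t => by rw [subgroupBlockCoeff_eq]; exact sext_coe _ _ t
  rw [e]
  exact hpair.2.2 ξ hξ

/-- Stabilizers in `H` of a pair lie in the stabilizer in `G`. -/
theorem pairStab_upIdx {H : Subgroup G} [Fintype H] {a : BrauerPairIdx H}
    {ha : Subgroup.centralizer ((a.1.map H.subtype : Subgroup G) : Set G) ≤ H}
    {P : Subgroup G} {c : Set (IrrCharacter (Subgroup.centralizer (P : Set G)))}
    (h : upIdx a ha = ⟨P, c⟩) {y : H} (hy : y ∈ pairStab a.1 a.2) : (y : G) ∈ pairStab P c := by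
  have hy' : conjIdx y a = a := (stab_iff_idx (f := a.2) y).1 ((mem_pairStab _).1 hy)
  have key : ∀ a' (ha'), a' = a → upIdx a' ha' = upIdx a ha := by
    rintro a' ha' rfl; rfl
  have hC' : Subgroup.centralizer
      (((conjIdx y a).1.map H.subtype : Subgroup G) : Set G) ≤ H := hy'.symm ▸ ha
  have e := upIdx_conj a ha y hC'
  rw [key _ hC' hy', h] at e
  exact (mem_pairStab _).2 ((stab_iff_idx (f := c) (y : G)).2 e.symm)

/-- With abelian defect group the inertial index is prime to `p`. -/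
theorem inertial_coprime (hM : IsPModular p M) {B : Set (IrrCharacter G)} {P : Subgroup G}
    {c : Set (IrrCharacter (Subgroup.centralizer (P : Set G)))}
    (hmax : IsMaximalBrauerPair p M B P c) (hab : ∀ x ∈ P, ∀ y ∈ P, x * y = y * x) :
    ¬ p ∣ Nat.card (autInducedBy (pairStab P c) P) := by
  haveI : Fact p.Prime := ⟨hM.1⟩
  have hF := blockFusion_isBlockFusion hM hmax
  obtain ⟨Q, hconj, haut, -⟩ := blockFusion_isSaturated hM hF P le_rfl
  obtain rfl : Q = P := Subgroup.eq_of_le_of_card_ge hconj.le_right hconj.card_eq.le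
  rw [FusionSystem.isFullyAutomized_iff le_rfl,
    autGroup_block hM hF hmax.1.1.2 (Relation.ReflTransGen.refl)] at haut
  have htriv : autInducedBy Q Q = ⊥ := by
    rw [eq_bot_iff]
    intro α hα
    obtain ⟨g, hg, -, hga⟩ := mem_autInducedBy_iff.1 hα
    refine Subgroup.mem_bot.2 (MulEquiv.ext fun x => Subtype.ext ?_)
    rw [hga x, hab g hg x x.2, mul_inv_cancel_right]
    rfl
  rw [htriv, Subgroup.card_bot] at haut
  intro h2
  have := (Nat.Prime.dvd_iff_one_le_factorization hM.1 Nat.card_pos.ne').1 h2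
  rcases Nat.pow_eq_one.1 haut.symm with h | h
  · exact hM.1.ne_one h
  · omega

/-- The stabilizer of a maximal pair with cyclic subgroup acts freely. -/
theorem free_of_cyclic (hM : IsPModular p M) {B : Set (IrrCharacter G)} {P : Subgroup G}
    {c : Set (IrrCharacter (Subgroup.centralizer (P : Set G)))}
    (hmax : IsMaximalBrauerPair p M B P c) [hcyc : IsCyclic P] {Q : Subgroup G} (hQP : Q ≤ P)
    (hQ1 : Q ≠ ⊥) :
    pairStab P c ⊓ Subgroup.centralizer (Q : Set G) ≤ Subgroup.centralizer (P : Set G) := by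
  classical
  haveI : Fact p.Prime := ⟨hM.1⟩
  rintro t ⟨ht, htQ⟩
  set T := pairStab P c with hT
  have hN : T ≤ Subgroup.normalizer (P : Set G) := fun s hs => ((mem_pairStab s).1 hs).1
  obtain ⟨u, rfl⟩ := Subgroup.isCyclic_iff_exists_zpowers_eq_top P |>.1 hcyc
  set P := Subgroup.zpowers u with hPdef
  have hab : ∀ x ∈ P, ∀ y ∈ P, x * y = y * x := by
    rintro _ ⟨i, rfl⟩ _ ⟨j, rfl⟩
    exact ((Commute.refl u).zpow_zpow i j).eq
  obtain ⟨n, hn⟩ := IsPGroup.exists_card_eq (hmax.1.1.1 : IsPGroup p P)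
  rw [Nat.card_zpowers] at hn
  obtain ⟨i, hi⟩ := (Subgroup.mem_normalizer_iff.1 (hN ht) u).1 (Subgroup.mem_zpowers u)
  change u ^ i = t * u * t⁻¹ at hi
  have hconj : ∀ j : ℤ, t * u ^ j * t⁻¹ = u ^ (i * j) := fun j => by
    rw [← conj_zpow, ← hi, ← zpow_mul]
  obtain ⟨z, hz, hz1⟩ : ∃ z ∈ Q, z ≠ 1 := by
    by_contra hne
    push Not at hne
    exact hQ1 ((Subgroup.eq_bot_iff_forall Q).2 hne)
  obtain ⟨j, rfl⟩ := hQP hz
  have hfix : u ^ (i * j) = u ^ j := by
    rw [← hconj j]
    exact mul_inv_eq_iff_eq_mul.2 ((htQ (u ^ j) hz).symm)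
  have hdvd : (p : ℤ) ∣ i - 1 := by
    by_contra hnd
    apply hz1
    show u ^ j = 1
    rw [← orderOf_dvd_iff_zpow_eq_one]
    have h1 : (orderOf u : ℤ) ∣ (i - 1) * j := by
      rw [orderOf_dvd_iff_zpow_eq_one, sub_mul, one_mul, zpow_sub, hfix, mul_inv_cancel]
    rw [hn] at h1 ⊢
    push_cast at h1 ⊢
    exact (IsCoprime.pow_left ((Nat.prime_iff_prime_int.1 hM.1).coprime_iff_not_dvd.2 hnd)).dvd_of_dvd_mul_left h1
  have hiter : ∀ m : ℕ, t ^ m * u * (t ^ m)⁻¹ = u ^ (i ^ m) := by
    intro m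
    induction m with
    | zero => simp
    | succ m ih =>
      calc t ^ (m + 1) * u * (t ^ (m + 1))⁻¹ = t * (t ^ m * u * (t ^ m)⁻¹) * t⁻¹ := by
            rw [pow_succ']; group
        _ = u ^ (i ^ (m + 1)) := by rw [ih, hconj, pow_succ']
  have hp : t ^ p ^ n ∈ Subgroup.centralizer (P : Set G) := by
    refine (isCentr_zpowers u _).2 ?_
    have h := dvd_sub_pow_of_dvd_sub (R := ℤ) (p := p) (a := i) (b := 1) hdvd n
    rw [one_pow] at h
    have h2 : (orderOf u : ℤ) ∣ i ^ p ^ n - 1 := by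
      rw [hn]; push_cast
      exact (pow_dvd_pow _ (Nat.le_succ n)).trans h
    have h3 : u ^ (i ^ p ^ n) = u := by
      rw [orderOf_dvd_iff_zpow_eq_one, zpow_sub, zpow_one, mul_inv_eq_one] at h2
      exact h2
    have h4 := hiter (p ^ n)
    rw [h3] at h4
    exact mul_inv_eq_iff_eq_mul.1 h4
  haveI : ((Subgroup.centralizer (P : Set G)).subgroupOf T).Normal :=
    ⟨fun a ha g => (Subgroup.mem_normalizer_iff.1
      (normalizer_le_normalizer_cent P (hN g.2)) a).1 ha⟩
  set N := Nat.card (autInducedBy T P) with hNdef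
  have hN' : t ^ N ∈ Subgroup.centralizer (P : Set G) := by
    have h := Subgroup.pow_index_mem ((Subgroup.centralizer (P : Set G)).subgroupOf T) ⟨t, ht⟩
    rw [card_autInducedBy_eq_index hN] at h
    exact h
  obtain ⟨a, b, hab'⟩ : IsCoprime (N : ℤ) ((p ^ n : ℕ) : ℤ) := Nat.isCoprime_iff_coprime.2
    (Nat.Coprime.pow_right n ((hM.1.coprime_iff_not_dvd.2 (inertial_coprime hM hmax hab)).symm))
  rw [show t = (t ^ N) ^ a * (t ^ p ^ n) ^ b from by
    rw [← zpow_natCast, ← zpow_mul, ← zpow_natCast t (p ^ n), ← zpow_mul, ← zpow_add,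
      mul_comm (N : ℤ), mul_comm ((p ^ n : ℕ) : ℤ), hab', zpow_one]]
  exact mul_mem (zpow_mem hN' a) (zpow_mem hp b)

/-- The stabilizer of a maximal pair with cyclic subgroup normalizes every smaller subgroup. -/
theorem normalizes_of_cyclic {P Q : Subgroup G} [hcyc : IsCyclic P] (hQP : Q ≤ P) {t : G}
    (ht : t ∈ Subgroup.normalizer (P : Set G)) : t ∈ Subgroup.normalizer (Q : Set G) := by
  obtain ⟨u, rfl⟩ := Subgroup.isCyclic_iff_exists_zpowers_eq_top P |>.1 hcyc
  obtain ⟨i, hi⟩ := (Subgroup.mem_normalizer_iff.1 ht u).1 (Subgroup.mem_zpowers u)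
  change u ^ i = t * u * t⁻¹ at hi
  refine mem_normalizer_of_forall_mem fun y hy => ?_
  obtain ⟨j, rfl⟩ := hQP hy
  show t * u ^ j * t⁻¹ ∈ Q
  rw [← conj_zpow, ← hi, ← zpow_mul, mul_comm, zpow_mul]
  exact zpow_mem hy i

/-- Cyclic defect group, `1 ≠ Q ≤ P`: the local block at `Q`. -/
theorem cyclic_subpair (hM : IsPModular p M) {B : Set (IrrCharacter G)} {P : Subgroup G}
    {c : Set (IrrCharacter (Subgroup.centralizer (P : Set G)))}
    (hmax : IsMaximalBrauerPair p M B P c) [hcyc : IsCyclic P] {Q : Subgroup G} (hQP : Q ≤ P)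
    (hQ1 : Q ≠ ⊥) [Fintype (Subgroup.centralizer (Q : Set G))]
    {f : Set (IrrCharacter (Subgroup.centralizer (Q : Set G)))}
    (hf : IsInducedBlockIn M (Subgroup.centralizer (Q : Set G))
      (Subgroup.centralizer (P : Set G)) c f) :
    pairStab Q f = pairStab P c ⊔ Subgroup.centralizer (Q : Set G) ∧
      (Subgroup.centralizer (Q : Set G)).relIndex (pairStab Q f) =
        (Subgroup.centralizer (P : Set G)).relIndex (pairStab P c) ∧
      blockRank p f = 1 ∧ IsNilpotentBlock p M f := by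
  classical
  have hP : IsPGroup p P := hmax.1.1.1
  have hc := hmax.1.1.2
  haveI : IsMulCommutative P := IsCyclic.isMulCommutative
  have hab : ∀ x ∈ P, ∀ y ∈ P, x * y = y * x := fun x hx y hy =>
    congrArg Subtype.val ((IsMulCommutative.is_comm (M := P)).comm ⟨x, hx⟩ ⟨y, hy⟩)
  have hPC : P ≤ Subgroup.centralizer (Q : Set G) := fun x hx q hq => hab q (hQP hq) x hx
  obtain ⟨a, ha, hup, hpair⟩ := pairOf_of_inducedIn hM hP hPC (centralizer_anti hQP) hf
  have hstep := normalSubpair_of_pairOf hM hQP hP hPC hf.2.1 hc hup hpair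
  have hle : Relation.ReflTransGen (NormalSubpairRel p M) ⟨Q, f⟩ ⟨P, c⟩ :=
    Relation.ReflTransGen.single hstep
  have hfree := free_of_cyclic hM hmax hQP hQ1
  have hTN : ∀ t ∈ pairStab P c, t ∈ Subgroup.normalizer (Q : Set G) := fun t ht =>
    normalizes_of_cyclic hQP ((mem_pairStab t).1 ht).1
  have h1 : pairStab Q f = pairStab P c ⊔ Subgroup.centralizer (Q : Set G) := by
    refine le_antisymm (fun g hg => ?_) (sup_le (fun t ht => ?_) (cent_le_pairStab Q f))
    · obtain ⟨y, hy, hyq⟩ := exists_extend_abelian hM (blockFusion_isBlockFusion hM hmax) hab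
        (conjHom_mem_block (blockFusion_isBlockFusion hM hmax) hle hg)
      have hmem : y⁻¹ * g ∈ Subgroup.centralizer (Q : Set G) := fun q hq => by
        have h : g * q * g⁻¹ = y * q * y⁻¹ := hyq ⟨q, hq⟩
        calc q * (y⁻¹ * g) = y⁻¹ * (y * q * y⁻¹) * g := by group
          _ = y⁻¹ * (g * q * g⁻¹) * g := by rw [h]
          _ = y⁻¹ * g * q := by group
      rw [show g = y * (y⁻¹ * g) by group]
      exact Subgroup.mul_mem_sup hy hmem
    · have htN := hTN t ht
      rw [rot_eq_of_mem_pairStab htN]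
      have h2 := subpair_conj hM hle t
      rw [conjIdx_normalizer htN, (stab_iff_idx (f := c) t).1 ((mem_pairStab t).1 ht)] at h2
      exact subpair_unique hM hP hc (isPBlock_image _ hf.2.1) hf.2.1 h2 hle
  have hinf : Subgroup.centralizer (Q : Set G) ⊓ pairStab P c =
      Subgroup.centralizer (P : Set G) :=
    le_antisymm (inf_comm (Subgroup.centralizer (Q : Set G)) (pairStab P c) ▸ hfree)
      (le_inf (centralizer_anti hQP) (cent_le_pairStab P c))
  refine ⟨h1, ?_, ?_⟩
  · haveI : ((Subgroup.centralizer (Q : Set G)).subgroupOf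
        (Subgroup.normalizer (Q : Set G))).Normal :=
      ⟨fun x hx g => (Subgroup.mem_normalizer_iff.1 (normalizer_le_normalizer_cent Q g.2) x).1 hx⟩
    have hTle : pairStab P c ≤ Subgroup.normalizer (Q : Set G) := hTN
    have hCle : Subgroup.centralizer (Q : Set G) ≤ Subgroup.normalizer (Q : Set G) :=
      Subgroup.centralizer_le_normalizer _
    rw [h1, ← Subgroup.relIndex_subgroupOf (sup_le hTle hCle), Subgroup.subgroupOf_sup hTle hCle,
      Subgroup.relIndex_sup_right, Subgroup.relIndex_subgroupOf hTle,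
      ← Subgroup.inf_relIndex_right, hinf]
  · have hmax' := maximal_down hM hup hmax hpair
    have hmap : a.1.map (Subgroup.centralizer (Q : Set G)).subtype = P := le_map_subtype_of_eq hup
    have htriv : pairStab a.1 a.2 ≤ Subgroup.centralizer
        (a.1 : Set (Subgroup.centralizer (Q : Set G))) := by
      intro y hy
      have h2 := hfree ⟨pairStab_upIdx hup hy, y.2⟩
      refine (mem_cent_map_iff a.1 y).1 ?_
      rw [hmap]
      exact h2
    have hab' : ∀ x ∈ a.1, ∀ y ∈ a.1, x * y = y * x := fun x hx y hy => Subtype.ext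
      (hab _ (hmap ▸ Subgroup.mem_map_of_mem _ hx) _ (hmap ▸ Subgroup.mem_map_of_mem _ hy))
    haveI : IsCyclic a.1 := by
      have e := (Subgroup.equivMapOfInjective a.1 (Subgroup.centralizer (Q : Set G)).subtype
        Subtype.coe_injective).trans (MulEquiv.subgroupCongr hmap)
      exact isCyclic_of_surjective e.symm e.symm.surjective
    exact ⟨rank_one_of_cyclic_triv hM hmax' htriv, nilpotent_of_triv hM hmax' hab' htriv⟩

end CfsgLib.Blocks
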