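import Cfsg.Agent.Lib.Blocks.CyclicLambda
import Cfsg.Agent.Lib.Blocks.AbelianFreeColumns
import Cfsg.Agent.S4633

/-!
# Cyclic defect groups: exceptional and nonexceptional characters
-/

namespace CfsgLib.Blocks

open Cfsg CfsgLib.CharTheory
open scoped ComplexConjugate

set_option linter.unusedVariables false
set_option linter.unusedSimpArgs false
set_option linter.style.haveILetI false
set_option linter.unusedSectionVars false

universe u

variable {p : ℕ} {M : Ideal AlgInt} {G : Type u} [Group G] [Fintype G]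

/-- Linear characters of `P` conjugate under the stabilizer of `(P, c)`. -/
def CharRel (P : Subgroup G) (c : Set (IrrCharacter (Subgroup.centralizer (P : Set G))))
    (θ' θ : ↥P →* ℂˣ) : Prop :=
  ∃ t ∈ pairStab P c, ∀ v w : P, (w : G) = t * v * t⁻¹ → θ' v = θ w

/-- The inertial index. -/
noncomputable def cycIndex (P : Subgroup G)
    (c : Set (IrrCharacter (Subgroup.centralizer (P : Set G)))) : ℕ :=
  (Subgroup.centralizer (P : Set G)).relIndex (pairStab P c)

/-- The description of a block with cyclic defect group. -/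
structure CycShape (B : Set (IrrCharacter G)) (P : Subgroup G)
    (c : Set (IrrCharacter (Subgroup.centralizer (P : Set G)))) (a : ℕ) (p : ℕ)
    (m : IrrCharacter G → (↥P →* ℂˣ) → ℤ) (ζ : (↥P →* ℂˣ) → IrrCharacter G) (δ : ℤ)
    (α : IrrCharacter G → ℤ) (X Y : Finset (IrrCharacter G)) : Prop where
  union : ∀ χ, χ ∈ B ↔ χ ∈ X ∨ χ ∈ Y
  disj : Disjoint X Y
  cardX : X.card = cycIndex P c
  cardY : Y.card * cycIndex P c = p ^ a - 1
  rank : blockRank p B = cycIndex P c
  mem_ζ : ∀ θ, θ ≠ 1 → ζ θ ∈ Y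
  surj : ∀ η ∈ Y, ∃ θ, θ ≠ 1 ∧ ζ θ = η
  ζ_rel : ∀ θ θ', θ ≠ 1 → θ' ≠ 1 → (ζ θ = ζ θ' ↔ CharRel P c θ' θ)
  hδ : δ = 1 ∨ δ = -1
  hα : ∀ χ ∈ X, α χ = 1 ∨ α χ = -1
  mX : ∀ χ ∈ X, ∀ θ, θ ≠ 1 → m χ θ = α χ
  mY : ∀ θ θ', θ ≠ 1 → θ' ≠ 1 →
    (CharRel P c θ' θ → m (ζ θ) θ' = δ) ∧ (¬ CharRel P c θ' θ → m (ζ θ) θ' = 0)

namespace CycData

variable {B : Set (IrrCharacter G)} {P : Subgroup G}
  {c : Set (IrrCharacter (Subgroup.centralizer (P : Set G)))} {a : ℕ} (h : CycData p M B P c a)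

include h

theorem ne_bot : P ≠ ⊥ := fun hb => by
  have h1 := h.card
  rw [hb, Subgroup.card_bot] at h1
  have h2 := Nat.one_lt_pow (show a ≠ 0 by have := h.pos; omega) h.prime.one_lt
  omega

theorem index_dvd : cycIndex P c ∣ p - 1 := by
  haveI : Fact p.Prime := ⟨h.prime⟩
  haveI := Fintype.ofFinite (Subgroup.centralizer (P : Set G))
  haveI : ((Subgroup.centralizer (P : Set G)).subgroupOf (pairStab P c)).Normal := by
    refine ⟨fun z hz g => ?_⟩
    rw [Subgroup.mem_subgroupOf] at hz ⊢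
    refine Subgroup.mem_centralizer_iff.2 fun v hv => ?_
    have h1 : (g : G)⁻¹ * v * ((g : G)⁻¹)⁻¹ ∈ P := h.mem_stab_conj (inv_mem g.2) hv
    have h2 := hz _ h1
    show v * ((g : G) * z * (g : G)⁻¹) = (g : G) * z * (g : G)⁻¹ * v
    calc v * ((g : G) * z * (g : G)⁻¹) = g * (((g : G)⁻¹ * v * ((g : G)⁻¹)⁻¹) * z) * (g : G)⁻¹ := by group
      _ = g * (z * ((g : G)⁻¹ * v * ((g : G)⁻¹)⁻¹)) * (g : G)⁻¹ := by rw [h2]
      _ = _ := by group
  exact (Cfsg.Agent.S4633.result p M h.mod B h.isBlock P h.isDefect h.ne_bot h.cyc c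
    ((induced_centralizer_iff h.mod h.isP).2 h.max.1) (pairStab P c)
    fun g => mem_pairStab g).2.1

theorem index_pos : 0 < cycIndex P c :=
  Nat.pos_of_dvd_of_pos h.index_dvd (by have := h.prime.two_le; omega)

theorem index_lt : cycIndex P c < p :=
  lt_of_le_of_lt (Nat.le_of_dvd (by have := h.prime.two_le; omega) h.index_dvd)
    (Nat.sub_lt h.prime.pos one_pos)

theorem card_stab :
    Nat.card (pairStab P c) = Nat.card (Subgroup.centralizer (P : Set G)) * cycIndex P c := by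
  rw [cycIndex, ← Subgroup.card_mul_index ((Subgroup.centralizer (P : Set G)).subgroupOf (pairStab P c)),
    Nat.card_congr (Subgroup.subgroupOfEquivOfLe (cent_le_pairStab P c)).toEquiv]
  rfl

theorem comm_centralizer {t : G} (ht : t ∈ Subgroup.centralizer (P : Set G)) {v : G} (hv : v ∈ P) :
    t * v * t⁻¹ = v := by
  rw [← ht v hv, mul_inv_cancel_right]

theorem free {t v : G} (ht : t ∈ pairStab P c) (hv : v ∈ P) (hv1 : v ≠ 1)
    (he : t * v * t⁻¹ = v) : t ∈ Subgroup.centralizer (P : Set G) := by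
  haveI := h.cyc
  refine free_of_cyclic h.mod h.max (h.zpowers_le hv) (zpowers_ne_bot hv1) ⟨ht, ?_⟩
  exact (isCentr_zpowers v t).2 (mul_inv_eq_iff_eq_mul.1 he)

theorem rel_refl (θ : ↥P →* ℂˣ) : CharRel P c θ θ :=
  ⟨1, one_mem _, fun v w hw => by rw [show w = v from Subtype.ext (by simpa using hw)]⟩

theorem rel_trans {θ θ' θ'' : ↥P →* ℂˣ} (h1 : CharRel P c θ θ') (h2 : CharRel P c θ' θ'') :
    CharRel P c θ θ'' := by
  obtain ⟨t, ht, e1⟩ := h1
  obtain ⟨s, hs, e2⟩ := h2
  refine ⟨s * t, mul_mem hs ht, fun v w hw => ?_⟩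
  rw [e1 v ⟨_, h.mem_stab_conj ht v.2⟩ rfl]
  exact e2 _ w (by rw [hw]; group)

theorem rel_symm {θ θ' : ↥P →* ℂˣ} (h1 : CharRel P c θ θ') : CharRel P c θ' θ := by
  obtain ⟨t, ht, e1⟩ := h1
  exact ⟨t⁻¹, inv_mem ht, fun v w hw => (e1 w v (by rw [hw]; group)).symm⟩

theorem rel_ne_one {θ θ' : ↥P →* ℂˣ} (h1 : CharRel P c θ' θ) (hθ : θ ≠ 1) : θ' ≠ 1 := by
  rintro rfl
  obtain ⟨t, ht, e1⟩ := h.rel_symm h1
  exact hθ (MonoidHom.ext fun v => e1 v ⟨_, h.mem_stab_conj ht v.2⟩ rfl)

theorem free_char {t : G} (ht : t ∈ pairStab P c) {θ : ↥P →* ℂˣ} (hθ : θ ≠ 1)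
    (he : ∀ v w : P, (w : G) = t * v * t⁻¹ → θ v = θ w) :
    t ∈ Subgroup.centralizer (P : Set G) := by
  by_contra hno
  set τ : P → P := fun v => (⟨_, h.mem_stab_conj ht v.2⟩ : P) * v⁻¹ with hτ
  have hinj : Function.Injective τ := by
    intro v w e1
    by_contra hne
    refine hno (h.free ht (v := (v : G)⁻¹ * w) (P.mul_mem (P.inv_mem v.2) w.2)
      (fun h1 => hne (Subtype.ext (inv_mul_eq_one.1 h1))) ?_)
    have e2 : t * (v : G) * t⁻¹ * (v : G)⁻¹ = t * (w : G) * t⁻¹ * (w : G)⁻¹ :=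
      congrArg Subtype.val e1
    have hvw : (v : G)⁻¹ * w = w * (v : G)⁻¹ := h.comm _ (P.inv_mem v.2) _ w.2
    calc t * ((v : G)⁻¹ * w) * t⁻¹ = (t * v * t⁻¹)⁻¹ * (t * w * t⁻¹ * (w : G)⁻¹) * w := by group
      _ = (t * v * t⁻¹)⁻¹ * (t * v * t⁻¹ * (v : G)⁻¹) * w := by rw [e2]
      _ = (v : G)⁻¹ * w := by group
  refine hθ (MonoidHom.ext fun z => ?_)
  obtain ⟨v, rfl⟩ := (Finite.injective_iff_surjective.1 hinj) z
  rw [hτ]
  simp only [map_mul, map_inv, ← he v ⟨_, h.mem_stab_conj ht v.2⟩ rfl, mul_inv_cancel,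
    MonoidHom.one_apply]

theorem card_transport {θ' θ : ↥P →* ℂˣ} (hθ : θ ≠ 1) [Decidable (CharRel P c θ' θ)] :
    Nat.card {t : pairStab P c // ∀ v w : P, (w : G) = (t : G) * v * (t : G)⁻¹ → θ' v = θ w} =
      if CharRel P c θ' θ then Nat.card (Subgroup.centralizer (P : Set G)) else 0 := by
  split_ifs with hr
  · obtain ⟨g, hg, e⟩ := hr
    refine Nat.card_congr
      { toFun := fun t => ⟨((t : pairStab P c) : G) * g⁻¹, ?_⟩
        invFun := fun z => ⟨⟨(z : G) * g, mul_mem (cent_le_pairStab P c z.2) hg⟩, ?_⟩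
        left_inv := fun t => Subtype.ext (Subtype.ext (inv_mul_cancel_right _ _))
        right_inv := fun z => Subtype.ext (mul_inv_cancel_right _ _) }
    · refine h.free_char (mul_mem t.1.2 (inv_mem hg)) hθ fun v w hw => ?_
      have e1 := e ⟨_, h.mem_stab_conj (inv_mem hg) v.2⟩ v
        (by show (v : G) = g * (g⁻¹ * v * g⁻¹⁻¹) * g⁻¹; group)
      rw [← e1]
      exact t.2 _ w (by
        show (w : G) = ((t : pairStab P c) : G) * (g⁻¹ * v * g⁻¹⁻¹) * ((t : pairStab P c) : G)⁻¹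
        rw [hw]; group)
    · intro v w hw
      refine e v w ?_
      calc (w : G) = (z : G) * (g * v * g⁻¹) * (z : G)⁻¹ := by rw [hw]; group
        _ = g * v * g⁻¹ := h.comm_centralizer z.2 (h.mem_stab_conj hg v.2)
  · haveI : IsEmpty {t : pairStab P c //
        ∀ v w : P, (w : G) = (t : G) * v * (t : G)⁻¹ → θ' v = θ w} :=
      ⟨fun t => hr ⟨t.1, t.1.2, t.2⟩⟩
    exact Nat.card_of_isEmpty

theorem card_orbit [Fintype (↥P →* ℂˣ)] {θ : ↥P →* ℂˣ} (hθ : θ ≠ 1)
    [DecidablePred fun θ' => CharRel P c θ' θ] :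
    (Finset.univ.filter fun θ' => CharRel P c θ' θ).card = cycIndex P c := by
  classical
  have h1 : Nat.card (Σ θ' : ↥P →* ℂˣ, {t : pairStab P c //
      ∀ v w : P, (w : G) = (t : G) * v * (t : G)⁻¹ → θ' v = θ w}) = Nat.card (pairStab P c) := by
    refine Nat.card_congr
      { toFun := fun x => x.2.1
        invFun := fun t => ⟨MonoidHom.mk'
          (fun v => θ ⟨(t : G) * v * (t : G)⁻¹, h.mem_stab_conj t.2 v.2⟩)
          (fun v v' => by rw [← map_mul]; exact congrArg θ (Subtype.ext (by simp [mul_assoc]))),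
          t, fun v w hw => congrArg θ (Subtype.ext hw.symm)⟩
        left_inv := fun x => ?_
        right_inv := fun t => rfl }
    obtain ⟨θ', t, ht⟩ := x
    refine Sigma.subtype_ext ?_ rfl
    exact MonoidHom.ext fun v => (ht v _ rfl).symm
  rw [Nat.card_sigma, Finset.sum_congr rfl fun θ' _ => h.card_transport hθ, ← Finset.sum_filter,
    Finset.sum_const, smul_eq_mul, h.card_stab, mul_comm] at h1
  exact Nat.eq_of_mul_eq_mul_left Nat.card_pos h1

section Values

variable [Fintype (↥P →* ℂˣ)] {s : G → ℤ} {m : IrrCharacter G → (↥P →* ℂˣ) → ℤ}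
  (hV : CycValues p M B P c s m)

include hV

theorem m_rel (χ : IrrCharacter G) {θ θ' : ↥P →* ℂˣ} (hr : CharRel P c θ' θ) :
    m χ θ' = m χ θ := by
  obtain ⟨t, ht, e⟩ := hr
  exact hV.stab χ t ht θ θ' e

theorem m_formula (χ : IrrCharacter G) (θ : ↥P →* ℂˣ) [Fintype P] :
    (m χ θ : ℂ) * ((p ^ a : ℕ) : ℂ) =
      ∑ v : P, (s v : ℂ) * dsec p M P c (v : G) (χ : G → ℂ) * (((θ⁻¹ v : ℂˣ) : ℂ) - 1) := by
  classical
  symm
  have e : ∀ v : P, (s v : ℂ) * dsec p M P c (v : G) (χ : G → ℂ) * (((θ⁻¹ v : ℂˣ) : ℂ) - 1) =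
      (∑ μ, (m χ μ : ℂ) * ((μ v : ℂˣ) : ℂ)) * (((θ⁻¹ v : ℂˣ) : ℂ) - 1) := by
    intro v
    rcases eq_or_ne (v : G) 1 with hv | hv
    · obtain rfl : v = 1 := Subtype.ext hv
      simp
    · rw [hV.val χ v hv]
  rw [Finset.sum_congr rfl fun v _ => e v]
  simp only [Finset.sum_mul]
  rw [Finset.sum_comm]
  have e1 : ∀ μ : ↥P →* ℂˣ, ∑ v : P, (m χ μ : ℂ) * ((μ v : ℂˣ) : ℂ) *
      (((θ⁻¹ v : ℂˣ) : ℂ) - 1) = (if μ = θ then (m χ μ : ℂ) * ((p ^ a : ℕ) : ℂ) else 0) -
        (if μ = 1 then (m χ μ : ℂ) * ((p ^ a : ℕ) : ℂ) else 0) := by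
    intro μ
    have h3 : ∑ v : P, (m χ μ : ℂ) * ((μ v : ℂˣ) : ℂ) * (((θ⁻¹ v : ℂˣ) : ℂ) - 1) =
        (m χ μ : ℂ) * (∑ v : P, (((μ * θ⁻¹) v : ℂˣ) : ℂ)) -
          (m χ μ : ℂ) * ∑ v : P, ((μ v : ℂˣ) : ℂ) := by
      rw [Finset.mul_sum, Finset.mul_sum, ← Finset.sum_sub_distrib]
      exact Finset.sum_congr rfl fun v _ => by rw [MonoidHom.mul_apply, Units.val_mul]; ring
    rw [h3, h.sum_char, h.sum_char]
    rcases eq_or_ne μ θ with e2 | e2
    · rw [if_pos (mul_inv_eq_one.2 e2), if_pos e2]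
      split_ifs <;> ring
    · rw [if_neg (fun e3 => e2 (mul_inv_eq_one.1 e3)), if_neg e2]
      split_ifs <;> ring
  rw [Finset.sum_congr rfl fun μ _ => e1 μ, Finset.sum_sub_distrib, Finset.sum_ite_eq',
    Finset.sum_ite_eq', if_pos (Finset.mem_univ _), if_pos (Finset.mem_univ _)]
  simp only [hV.one χ, Int.cast_zero, zero_mul, sub_zero]

/-- The Gram matrix of the multiplicities. -/
theorem gram {θ θ' : ↥P →* ℂˣ} (hθ : θ ≠ 1) (hθ' : θ' ≠ 1) [Decidable (CharRel P c θ θ')] :
    ∑ χ ∈ bset B, m χ θ * m χ θ' = (if CharRel P c θ θ' then 1 else 0) + (cycIndex P c : ℤ) := by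
  classical
  haveI : Fintype P := Fintype.ofFinite P
  set N : ℂ := ((p ^ a : ℕ) : ℂ) with hN
  have hN0 : N ≠ 0 := Nat.cast_ne_zero.2 (pow_ne_zero _ h.prime.ne_zero)
  set C := (Nat.card (Subgroup.centralizer (P : Set G)) : ℂ) with hC
  have hC0 : C ≠ 0 := Nat.cast_ne_zero.2 Nat.card_pos.ne'
  set f : P → ℂ := fun v => ((θ⁻¹ v : ℂˣ) : ℂ) - 1 with hf
  set g : P → ℂ := fun w => conj (((θ'⁻¹ w : ℂˣ) : ℂ) - 1) with hg
  -- sums over the orbit of an element
  have horb : ∀ v : P, (v : G) ≠ 1 → ∀ (S : G → ℂ),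
      C * ∑ w : P, (if ∃ t ∈ pairStab P c, t * (v : G) * t⁻¹ = w then S w else 0) =
        ∑ t : pairStab P c, S ((t : G) * v * (t : G)⁻¹) := by
    intro v hv S
    rw [← Finset.sum_fiberwise Finset.univ
      (fun t : pairStab P c => (⟨_, h.mem_stab_conj t.2 v.2⟩ : P)), Finset.mul_sum]
    refine Finset.sum_congr rfl fun w _ => ?_
    have hval : ∀ t ∈ Finset.univ.filter (fun t : pairStab P c =>
        (⟨_, h.mem_stab_conj t.2 v.2⟩ : P) = w), S ((t : G) * v * (t : G)⁻¹) = S w :=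
      fun t ht => congrArg S (congrArg Subtype.val (Finset.mem_filter.1 ht).2)
    rw [Finset.sum_congr rfl hval, Finset.sum_const, nsmul_eq_mul]
    split_ifs with hr
    · obtain ⟨t₀, ht₀, e₀⟩ := hr
      congr 1
      rw [hC, Nat.cast_inj, ← Fintype.card_subtype, ← Nat.card_eq_fintype_card]
      refine Nat.card_congr
        { toFun := fun z => ⟨⟨t₀ * z, mul_mem ht₀ (cent_le_pairStab P c z.2)⟩, ?_⟩
          invFun := fun t => ⟨t₀⁻¹ * ((t : pairStab P c) : G), ?_⟩
          left_inv := fun z => Subtype.ext (inv_mul_cancel_left _ _)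
          right_inv := fun t => Subtype.ext (Subtype.ext (mul_inv_cancel_left _ _)) }
      · refine Subtype.ext ?_
        show t₀ * (z : G) * v * (t₀ * z)⁻¹ = w
        rw [← e₀]
        calc t₀ * (z : G) * v * (t₀ * z)⁻¹ = t₀ * ((z : G) * v * (z : G)⁻¹) * t₀⁻¹ := by group
          _ = _ := by rw [h.comm_centralizer z.2 v.2]
      · refine h.free (mul_mem (inv_mem ht₀) t.1.2) v.2 hv ?_
        have e1 : ((t : pairStab P c) : G) * v * ((t : pairStab P c) : G)⁻¹ = w :=
          congrArg Subtype.val t.2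
        calc t₀⁻¹ * ((t : pairStab P c) : G) * v * (t₀⁻¹ * ((t : pairStab P c) : G))⁻¹
            = t₀⁻¹ * (((t : pairStab P c) : G) * v * ((t : pairStab P c) : G)⁻¹) * t₀ := by group
          _ = (v : G) := by rw [e1, ← e₀]; group
    · rw [mul_zero, Finset.card_eq_zero.2, Nat.cast_zero, zero_mul]
      refine Finset.filter_eq_empty_iff.2 fun t _ e => hr ⟨t, t.2, congrArg Subtype.val e⟩
  have hcs : ∀ v : G, ((s v : ℤ) : ℂ) * conj ((s v : ℤ) : ℂ) = 1 := fun v => by
    rcases hV.sign v with e | e <;> rw [e] <;> norm_num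
  -- the orthogonality of the signed values
  have hD : ∀ v w : P, f v * g w * ∑ χ ∈ bset B, (s v : ℂ) * dsec p M P c (v : G) (χ : G → ℂ) *
      conj ((s w : ℂ) * dsec p M P c (w : G) (χ : G → ℂ)) =
      f v * (if ∃ t ∈ pairStab P c, t * (v : G) * t⁻¹ = w then g w else 0) * N := by
    intro v w
    rcases eq_or_ne (v : G) 1 with hv | hv
    · obtain rfl : v = 1 := Subtype.ext hv
      simp [hf]
    rcases eq_or_ne (w : G) 1 with hw | hw
    · obtain rfl : w = 1 := Subtype.ext hw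
      simp [hg]
    have e1 : ∀ χ : IrrCharacter G, (s v : ℂ) * dsec p M P c (v : G) (χ : G → ℂ) *
        conj ((s w : ℂ) * dsec p M P c (w : G) (χ : G → ℂ)) = ((s v : ℂ) * conj ((s w : ℤ) : ℂ)) *
          (dsec p M P c (v : G) (χ : G → ℂ) * conj (dsec p M P c (w : G) (χ : G → ℂ))) := fun χ => by
      rw [map_mul]; ring
    rw [Finset.sum_congr rfl fun χ _ => e1 χ, ← Finset.mul_sum, h.dsec_orth v.2 hv w.2 hw]
    split_ifs with hr
    · obtain ⟨t, ht, e⟩ := hr
      have e3 : s (v : G) = s (w : G) := by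
        refine hV.sinv _ v.2 _ w.2 ?_
        rw [← e, h.zpowers_conj_stab ht v.2]
      rw [e3, hcs, one_mul, hN, Nat.cast_pow]
    · ring
  have hmain : N * N * ((∑ χ ∈ bset B, m χ θ * m χ θ' : ℤ) : ℂ) =
      ∑ v : P, f v * (∑ w : P,
        if ∃ t ∈ pairStab P c, t * (v : G) * t⁻¹ = w then g w else 0) * N := by
    push_cast
    rw [Finset.mul_sum]
    have e1 : ∀ χ : IrrCharacter G, N * N * ((m χ θ : ℂ) * (m χ θ' : ℂ)) = ∑ v : P, ∑ w : P,
        f v * g w * ((s v : ℂ) * dsec p M P c (v : G) (χ : G → ℂ) *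
          conj ((s w : ℂ) * dsec p M P c (w : G) (χ : G → ℂ))) := by
      intro χ
      have e2 : ((m χ θ' : ℂ) * N) = conj ((m χ θ' : ℂ) * N) := by
        rw [map_mul, hN, map_natCast, map_intCast]
      rw [show N * N * ((m χ θ : ℂ) * (m χ θ' : ℂ)) = ((m χ θ : ℂ) * N) * ((m χ θ' : ℂ) * N) by ring,
        e2, hN, h.m_formula hV, h.m_formula hV, map_sum, Finset.sum_mul_sum]
      refine Finset.sum_congr rfl fun v _ => Finset.sum_congr rfl fun w _ => ?_
      simp only [hf, hg, map_mul]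
      ring
    rw [Finset.sum_congr rfl fun χ _ => e1 χ, Finset.sum_comm]
    refine Finset.sum_congr rfl fun v _ => ?_
    rw [Finset.sum_comm, Finset.mul_sum, Finset.sum_mul]
    refine Finset.sum_congr rfl fun w _ => ?_
    rw [← Finset.mul_sum, hD]
  -- evaluation
  have hg' : ∀ w : P, g w = ((θ' w : ℂˣ) : ℂ) - 1 := by
    intro w
    have h1 : ((θ'⁻¹ w : ℂˣ) : ℂ) = conj ((θ' w : ℂˣ) : ℂ) := by
      have h2 : ((θ' w : ℂˣ) : ℂ) ^ p ^ a = 1 := by
        rw [← Units.val_pow_eq_pow_val, ← map_pow,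
          show w ^ p ^ a = 1 from Subtype.ext (by simpa using h.pow_card w.2), map_one,
          Units.val_one]
      rw [← Complex.inv_eq_conj
        (Complex.norm_eq_one_of_pow_eq_one h2 (pow_ne_zero _ h.prime.ne_zero)),
        MonoidHom.inv_apply, Units.val_inv_eq_inv_val]
    rw [hg]
    simp only [map_sub, map_one, h1, Complex.conj_conj]
  have hsum : ∀ v : P, C * (f v * ∑ w : P,
      if ∃ t ∈ pairStab P c, t * (v : G) * t⁻¹ = w then g w else 0) =
      ∑ t : pairStab P c, f v * g ⟨_, h.mem_stab_conj t.2 v.2⟩ := by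
    intro v
    rcases eq_or_ne (v : G) 1 with hv | hv
    · obtain rfl : v = 1 := Subtype.ext hv
      simp [hf]
    rw [← Finset.mul_sum, mul_left_comm]
    congr 1
    have h1 := horb v hv (fun x => if hx : x ∈ P then g ⟨x, hx⟩ else 0)
    simp only [SetLike.coe_mem, dite_true, Subtype.coe_eta] at h1
    rw [h1]
    exact Finset.sum_congr rfl fun t _ => dif_pos _
  have hC' : C * (N * N * ((∑ χ ∈ bset B, m χ θ * m χ θ' : ℤ) : ℂ)) =
      C * (N * N * (((if CharRel P c θ θ' then 1 else 0) + (cycIndex P c : ℤ) : ℤ) : ℂ)) := by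
    rw [hmain, Finset.mul_sum, Finset.sum_congr rfl fun v _ => by rw [← mul_assoc, hsum v],
      ← Finset.sum_mul, Finset.sum_comm]
    have e1 : ∀ t : pairStab P c, ∑ v : P, f v * g ⟨_, h.mem_stab_conj t.2 v.2⟩ =
        (if ∀ v w : P, (w : G) = (t : G) * v * (t : G)⁻¹ → θ v = θ' w then N else 0) + N := by
      intro t
      let ν : ↥P →* ℂˣ := MonoidHom.mk'
        (fun v => θ' ⟨(t : G) * v * (t : G)⁻¹, h.mem_stab_conj t.2 v.2⟩)
        (fun v v' => by rw [← map_mul]; exact congrArg θ' (Subtype.ext (by simp [mul_assoc])))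
      have hν : ν ≠ 1 := fun e => hθ' (MonoidHom.ext fun w => by
        have h2 := DFunLike.congr_fun e ⟨_, h.mem_stab_conj (inv_mem t.2) w.2⟩
        refine (congrArg θ' (Subtype.ext ?_)).trans h2
        show (w : G) = (t : G) * ((t : G)⁻¹ * w * ((t : G)⁻¹)⁻¹) * (t : G)⁻¹
        group)
      have e2 : ∀ v : P, f v * g ⟨_, h.mem_stab_conj t.2 v.2⟩ =
          ((((θ⁻¹ * ν) v : ℂˣ) : ℂ) - ((θ⁻¹ v : ℂˣ) : ℂ)) - ((ν v : ℂˣ) : ℂ) + 1 := by
        intro v
        rw [hg', MonoidHom.mul_apply, Units.val_mul, hf]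
        show (_ - 1) * (((ν v : ℂˣ) : ℂ) - 1) = _
        ring
      rw [Finset.sum_congr rfl fun v _ => e2 v, Finset.sum_add_distrib, Finset.sum_sub_distrib,
        Finset.sum_sub_distrib, h.sum_char, h.sum_char, h.sum_char,
        if_neg (show ¬ (θ⁻¹ = 1) from fun e => hθ (MonoidHom.ext fun z => inv_injective ((DFunLike.congr_fun e z).trans inv_one.symm))), if_neg hν, Finset.sum_const, Finset.card_univ,
        ← Nat.card_eq_fintype_card, h.card, nsmul_eq_mul, mul_one, sub_zero, sub_zero, ← hN]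
      congr 1
      refine if_congr ?_ rfl rfl
      refine ⟨fun e v w hw => ?_, fun e => MonoidHom.ext fun v => ?_⟩
      · refine (inv_mul_eq_one.1 (DFunLike.congr_fun e v)).trans ?_
        exact congrArg θ' (Subtype.ext hw.symm)
      · exact inv_mul_eq_one.2 (e v _ rfl)
    rw [Finset.sum_congr rfl fun t _ => e1 t, Finset.sum_add_distrib, ← Finset.sum_filter,
      Finset.sum_const, Finset.sum_const, Finset.card_univ, ← Nat.card_eq_fintype_card, h.card_stab,
      ← Fintype.card_subtype, ← Nat.card_eq_fintype_card, h.card_transport hθ']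
    split_ifs <;> simp [hC] <;> ring
  exact Int.cast_injective (mul_left_cancel₀ (mul_ne_zero hN0 hN0) (mul_left_cancel₀ hC0 hC'))

theorem regular_relation (θ : ↥P →* ℂˣ) {x : G} (hx : ¬ p ∣ orderOf x) :
    ∑ χ ∈ bset B, (m χ θ : ℂ) * (χ : G → ℂ) x = 0 := by
  classical
  haveI : Fintype P := Fintype.ofFinite P
  have hN0 : ((p ^ a : ℕ) : ℂ) ≠ 0 := Nat.cast_ne_zero.2 (pow_ne_zero _ h.prime.ne_zero)
  refine mul_left_cancel₀ hN0 ?_
  rw [mul_zero, Finset.mul_sum]
  have e : ∀ χ : IrrCharacter G, ((p ^ a : ℕ) : ℂ) * ((m χ θ : ℂ) * (χ : G → ℂ) x) =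
      ∑ v : P, (s v : ℂ) * (((θ⁻¹ v : ℂˣ) : ℂ) - 1) *
        (dsec p M P c (v : G) (χ : G → ℂ) * (χ : G → ℂ) x) := fun χ => by
    rw [← mul_assoc, mul_comm ((p ^ a : ℕ) : ℂ), h.m_formula hV, Finset.sum_mul]
    exact Finset.sum_congr rfl fun v _ => by ring
  rw [Finset.sum_congr rfl fun χ _ => e χ, Finset.sum_comm]
  refine Finset.sum_eq_zero fun v _ => ?_
  rw [← Finset.mul_sum]
  rcases eq_or_ne (v : G) 1 with hv | hv
  · obtain rfl : v = 1 := Subtype.ext hv
    simp
  · rw [h.dsec_regular v.2 hv hx, mul_zero]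

theorem exists_m_ne {χ : IrrCharacter G} (hχ : χ ∈ B) : ∃ θ : ↥P →* ℂˣ, θ ≠ 1 ∧ m χ θ ≠ 0 := by
  by_contra hno
  push Not at hno
  haveI : Nontrivial P := (Subgroup.nontrivial_iff_ne_bot P).2 h.ne_bot
  obtain ⟨v, hv⟩ := exists_ne (1 : P)
  have hv' : (v : G) ≠ 1 := fun e => hv (Subtype.ext e)
  have h1 := hV.val χ v hv'
  rw [Finset.sum_eq_zero fun θ _ => ?_, mul_eq_zero] at h1
  · rcases h1 with h1 | h1
    · rcases hV.sign v with e | e <;> rw [e] at h1 <;> simp at h1
    · exact h.dsec_ne_zero v.2 hv' hχ h1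
  · rcases eq_or_ne θ 1 with rfl | hθ
    · rw [hV.one]; simp
    · rw [hno θ hθ]; simp

/-- The shape of the block, given `e ≤ l(B)`. -/
theorem exists_shape (hl : cycIndex P c ≤ blockRank p B) :
    ∃ ζ δ α X Y, CycShape B P c a p m ζ δ α X Y := by
  classical
  let N1 := {θ : ↥P →* ℂˣ // θ ≠ 1}
  let st : Setoid N1 := ⟨fun x y => CharRel P c x.1 y.1,
    fun x => h.rel_refl _, fun {_ _} => h.rel_symm, fun {_ _ _} => h.rel_trans⟩
  let ι := Quotient st
  haveI : Fintype ι := Fintype.ofFinite ι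
  haveI : DecidableEq ι := Classical.decEq ι
  let g : IrrCharacter G → ι → ℤ := fun χ O => m χ O.out.1
  set e := cycIndex P c with he
  have hout : ∀ (χ : IrrCharacter G) (θ : N1), g χ (Quotient.mk st θ) = m χ θ.1 := fun χ θ =>
    h.m_rel hV χ (Quotient.mk_out (s := st) θ : CharRel P c _ θ.1)
  have hrel : ∀ (θ : N1) (O : ι), CharRel P c θ.1 O.out.1 ↔ Quotient.mk st θ = O := fun θ O => by
    conv_rhs => rw [← Quotient.out_eq O]
    exact (Quotient.eq (r := st)).symm
  have hcardι : Fintype.card ι * e = p ^ a - 1 := by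
    have h1 : Fintype.card N1 = p ^ a - 1 := by
      rw [Fintype.card_subtype_compl, Fintype.card_subtype_eq, h.card_chars]
    rw [← h1, ← Finset.card_univ (α := N1),
      Finset.card_eq_sum_card_fiberwise (f := Quotient.mk st) (t := (Finset.univ : Finset ι))
        (fun x _ => Finset.mem_univ _),
      Finset.sum_congr rfl fun O _ => show
        (Finset.univ.filter fun θ : N1 => Quotient.mk st θ = O).card = e by
        rw [he, ← h.card_orbit O.out.2]
        refine Finset.card_bij (fun θ _ => θ.1) (fun θ hθ => ?_) (fun x _ y _ e => Subtype.ext e)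
          fun θ hθ => ?_
        · exact Finset.mem_filter.2 ⟨Finset.mem_univ _, (hrel θ O).2 (Finset.mem_filter.1 hθ).2⟩
        · have h2 := (Finset.mem_filter.1 hθ).2
          exact ⟨⟨θ, h.rel_ne_one h2 O.out.2⟩, Finset.mem_filter.2 ⟨Finset.mem_univ _,
            (hrel ⟨θ, h.rel_ne_one h2 O.out.2⟩ O).1 h2⟩, rfl⟩,
      Finset.sum_const, Finset.card_univ, smul_eq_mul]
  have hpa : 1 < p ^ a :=
    Nat.one_lt_pow (by have := h.pos; omega) h.prime.one_lt
  have hN : 0 < Fintype.card ι := Nat.pos_of_ne_zero fun h0 => by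
    rw [h0, zero_mul] at hcardι; omega
  have hgram : ∀ O O' : ι, ∑ χ ∈ bset B, g χ O * g χ O' = (if O = O' then 1 else 0) + (e : ℤ) := by
    intro O O'
    rw [h.gram hV O.out.2 O'.out.2, he]
    congr 1
    exact if_congr (Quotient.out_equiv_out (s := st)) rfl rfl
  have hzero : ∀ χ ∈ bset B, ∃ O, g χ O ≠ 0 := fun χ hχ => by
    obtain ⟨θ, hθ, hm⟩ := h.exists_m_ne hV (mem_bset.1 hχ)
    exact ⟨Quotient.mk st ⟨θ, hθ⟩, by rw [hout]; exact hm⟩
  -- `l + N ≤ k`
  have hkl : blockRank p B + Fintype.card ι ≤ (bset B).card := by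
    set L := Fintype.linearCombination ℂ
      (fun χ : ↥(bset B) => pRegularPart p ((χ : IrrCharacter G) : G → ℂ)) with hL
    have hrange : LinearMap.range L = Submodule.span ℂ
        ((fun χ : IrrCharacter G => pRegularPart p (χ : G → ℂ)) '' B) := by
      rw [hL, Fintype.range_linearCombination]
      congr 1
      ext x
      simp [mem_bset]
    set col : ι → (↥(bset B) → ℂ) := fun O χ => (g χ O : ℂ) with hcol
    have hmem : ∀ O, col O ∈ LinearMap.ker L := by
      intro O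
      rw [LinearMap.mem_ker, hL, Fintype.linearCombination_apply]
      funext x
      simp only [Finset.sum_apply, Pi.smul_apply, smul_eq_mul, Pi.zero_apply, pRegularPart_apply,
        hcol]
      by_cases hx : p ∣ orderOf x
      · simp [hx]
      · simp only [if_neg hx]
        exact (Finset.sum_coe_sort (bset B) fun χ => (g χ O : ℂ) * (χ : G → ℂ) x).trans
          (h.regular_relation hV O.out.1 hx)
    have hindep : LinearIndependent ℂ col := by
      rw [Fintype.linearIndependent_iff]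
      intro z hz
      have h2 : ∀ O', z O' + (∑ O, z O) * (e : ℂ) = 0 := by
        intro O'
        have h3 : ∑ χ : ↥(bset B), (∑ O, z O * (g χ O : ℂ)) * (g χ O' : ℂ) = 0 := by
          refine Finset.sum_eq_zero fun χ _ => ?_
          have h4 := congrFun hz χ
          simp only [Finset.sum_apply, Pi.smul_apply, smul_eq_mul, Pi.zero_apply, hcol] at h4
          rw [h4, zero_mul]
        simp only [Finset.sum_mul] at h3
        rw [Finset.sum_comm] at h3
        have h4 : ∀ O, ∑ χ : ↥(bset B), z O * (g χ O : ℂ) * (g χ O' : ℂ) =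
            (if O = O' then z O else 0) + z O * (e : ℂ) := by
          intro O
          rw [Finset.sum_congr rfl fun χ _ => mul_assoc _ _ _, ← Finset.mul_sum]
          refine (congrArg (z O * ·)
            (Finset.sum_coe_sort (bset B) fun χ => (g χ O : ℂ) * (g χ O' : ℂ))).trans ?_
          have h5 := congrArg (fun j : ℤ => (j : ℂ)) (hgram O O')
          push_cast at h5
          rw [h5]
          split_ifs <;> ring
        rw [Finset.sum_congr rfl fun O _ => h4 O, Finset.sum_add_distrib, Finset.sum_ite_eq',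
          if_pos (Finset.mem_univ _), ← Finset.sum_mul] at h3
        exact h3
      have hS : (∑ O, z O) * (1 + (Fintype.card ι : ℂ) * (e : ℂ)) = 0 := by
        have h3 := Finset.sum_eq_zero fun O (_ : O ∈ Finset.univ) => h2 O
        rw [Finset.sum_add_distrib, Finset.sum_const, Finset.card_univ, nsmul_eq_mul] at h3
        linear_combination h3
      have hne : (1 + (Fintype.card ι : ℂ) * (e : ℂ)) ≠ 0 := by
        have : ((1 + Fintype.card ι * e : ℕ) : ℂ) ≠ 0 := Nat.cast_ne_zero.2 (by omega)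
        exact_mod_cast this
      intro O
      have h3 := h2 O
      rwa [(mul_eq_zero.1 hS).resolve_right hne, zero_mul, add_zero] at h3
    have h1 := LinearMap.finrank_range_add_finrank_ker L
    rw [Module.finrank_fintype_fun_eq_card, Fintype.card_coe, hrange] at h1
    rw [← h1]
    refine Nat.add_le_add le_rfl ?_
    have h2 : LinearIndependent ℂ (fun O => (⟨col O, hmem O⟩ : LinearMap.ker L)) :=
      LinearIndependent.of_comp (LinearMap.ker L).subtype hindep
    exact h2.fintype_card_le_finrank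
  -- the classification
  obtain ⟨ζ', δ, α, hδ, hζB, hζi, hgY, hgX, hα, hcardX⟩ : ∃ (ζ' : ι → IrrCharacter G) (δ : ℤ)
      (α : IrrCharacter G → ℤ), (δ = 1 ∨ δ = -1) ∧ (∀ O, ζ' O ∈ bset B) ∧ Function.Injective ζ' ∧
      (∀ O O', g (ζ' O) O' = if O = O' then δ else 0) ∧
      (∀ χ ∈ bset B, (∀ O, ζ' O ≠ χ) → ∀ O, g χ O = α χ) ∧
      (∀ χ ∈ (bset B).filter (fun χ => ∀ O, ζ' O ≠ χ), α χ = 1 ∨ α χ = -1) ∧
      ((bset B).filter fun χ => ∀ O, ζ' O ≠ χ).card = e := by
    rcases Nat.lt_or_ge (Fintype.card ι) 2 with h1 | h2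
    · -- one orbit
      haveI : Subsingleton ι := Fintype.card_le_one_iff_subsingleton.1 (by omega)
      obtain ⟨O0⟩ : Nonempty ι := Fintype.card_pos_iff.1 hN
      have hsq : ∑ χ ∈ bset B, g χ O0 * g χ O0 = (e : ℤ) + 1 := by
        rw [hgram, if_pos rfl, add_comm]
      have hge : ∀ χ ∈ bset B, 1 ≤ g χ O0 * g χ O0 := fun χ hχ => by
        obtain ⟨O, hO⟩ := hzero χ hχ
        rw [Subsingleton.elim O0 O]
        rcases lt_or_gt_of_ne hO with h4 | h4 <;> nlinarith
      have hk : e + 1 ≤ (bset B).card := by omega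
      have hk' : ((bset B).card : ℤ) ≤ (e : ℤ) + 1 := by
        rw [← hsq, Finset.card_eq_sum_ones, Nat.cast_sum, Nat.cast_one]
        exact Finset.sum_le_sum hge
      have hone : ∀ χ ∈ bset B, g χ O0 * g χ O0 = 1 := by
        intro χ hχ
        by_contra hne
        have hlt : ∑ χ ∈ bset B, (1 : ℤ) < ∑ χ ∈ bset B, g χ O0 * g χ O0 :=
          Finset.sum_lt_sum hge ⟨χ, hχ, lt_of_le_of_ne (hge χ hχ) (Ne.symm hne)⟩
        rw [hsq, Finset.sum_const, nsmul_eq_mul, mul_one] at hlt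
        omega
      obtain ⟨η, hη⟩ : (bset B).Nonempty := Finset.card_pos.1 (by omega)
      refine ⟨fun _ => η, g η O0, fun χ => g χ O0, Int.mul_eq_one_iff_eq_one_or_neg_one.1
        (hone η hη) |>.imp And.left And.left, fun _ => hη, fun x y _ => Subsingleton.elim x y,
        fun O O' => ?_, fun χ _ _ O => by rw [Subsingleton.elim O O0], fun χ hχ => ?_, ?_⟩
      · rw [if_pos (Subsingleton.elim O O'), Subsingleton.elim O' O0]
      · exact (Int.mul_eq_one_iff_eq_one_or_neg_one.1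
          (hone χ (Finset.mem_filter.1 hχ).1)).imp And.left And.left
      · rw [show (bset B).filter (fun χ => ∀ O : ι, η ≠ χ) = (bset B).erase η by
          ext χ
          simp only [Finset.mem_filter, Finset.mem_erase]
          exact ⟨fun h3 => ⟨fun e1 => h3.2 O0 e1.symm, h3.1⟩,
            fun h3 => ⟨h3.2, fun _ e1 => h3.1 e1.symm⟩⟩,
          Finset.card_erase_of_mem hη]
        omega
    · -- at least two orbits
      have hdata : AbelianFree.Data (bset B) g (fun χ => (charDegree (χ : G → ℂ) : ℤ)) e :=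
        { gram := hgram
          deg := fun O => by
            have h1 := h.regular_relation hV O.out.1 (x := 1)
              (by rw [orderOf_one]; exact h.prime.not_dvd_one)
            rw [Finset.sum_congr rfl fun χ _ => by rw [← irr_charDegree_cast]] at h1
            exact_mod_cast h1
          wpos := fun χ _ => Int.natCast_pos.2 (irr_charDegree_pos χ)
          card := h2 }
      obtain ⟨ζ', δ, d, α, hδ, hζB, hζi, hgY, hgX, hsq⟩ := hdata.classify
      set X := (bset B).filter fun χ => ∀ O, ζ' O ≠ χ with hX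
      have hXcard : X.card + Fintype.card ι = (bset B).card := by
        rw [← Finset.card_univ, ← Finset.card_image_of_injective _ hζi,
          ← Finset.card_union_of_disjoint]
        · congr 1
          ext χ
          simp only [Finset.mem_union, hX, Finset.mem_filter, Finset.mem_image, Finset.mem_univ,
            true_and]
          refine ⟨fun h3 => ?_, fun h3 => ?_⟩
          · rcases h3 with h3 | ⟨O, rfl⟩
            exacts [h3.1, hζB O]
          · by_cases h4 : ∃ O, ζ' O = χ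
            · exact Or.inr h4
            · exact Or.inl ⟨h3, fun O e1 => h4 ⟨O, e1⟩⟩
        · rw [Finset.disjoint_left]
          intro χ hχ hχ'
          obtain ⟨O, -, rfl⟩ := Finset.mem_image.1 hχ'
          exact (Finset.mem_filter.1 hχ).2 O rfl
      have hge : ∀ χ ∈ X, 1 ≤ α χ ^ 2 := by
        intro χ hχ
        obtain ⟨hχB, hχX⟩ := Finset.mem_filter.1 hχ
        obtain ⟨O, hO⟩ := hzero χ hχB
        rw [hgX χ hχB hχX O] at hO
        rcases lt_or_gt_of_ne hO with h4 | h4 <;> nlinarith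
      have hXe : (X.card : ℤ) ≤ ∑ χ ∈ X, α χ ^ 2 := by
        rw [Finset.card_eq_sum_ones, Nat.cast_sum, Nat.cast_one]
        exact Finset.sum_le_sum hge
      have heX : (e : ℤ) ≤ X.card := by
        have h3 : e ≤ X.card := by omega
        exact_mod_cast h3
      have hN2 : (2 : ℤ) ≤ (Fintype.card ι : ℤ) := by exact_mod_cast h2
      have hδ2 : δ ^ 2 = 1 := by rcases hδ with e1 | e1 <;> rw [e1] <;> norm_num
      -- either `d = 0` or there are two orbits and `d = -δ`
      have hd : d = 0 ∨ (Fintype.card ι = 2 ∧ d = -δ) := by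
        by_contra hno
        push Not at hno
        obtain ⟨hd0, hd2⟩ := hno
        have hdsq : 1 ≤ d ^ 2 := by rcases lt_or_gt_of_ne hd0 with h4 | h4 <;> nlinarith
        have hle : (d + δ) ^ 2 + ((Fintype.card ι : ℤ) - 1) * d ^ 2 ≤ 1 := by linarith
        have h5 : (Fintype.card ι : ℤ) = 2 := by nlinarith [sq_nonneg (d + δ)]
        have h6 : (d + δ) ^ 2 ≤ 0 := by rw [h5] at hle; linarith
        have h7 : d + δ = 0 := pow_eq_zero_iff two_ne_zero |>.1 (le_antisymm h6 (sq_nonneg _))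
        exact hd2 (by exact_mod_cast h5) (by linarith)
      have hval : (d + δ) ^ 2 + ((Fintype.card ι : ℤ) - 1) * d ^ 2 = 1 := by
        rcases hd with rfl | ⟨hc2, rfl⟩
        · simpa using hδ2
        · rw [hc2]; push_cast; simpa using hδ2
      have hsumX : ∑ χ ∈ X, α χ ^ 2 = (e : ℤ) := by linarith
      have hXeq : X.card = e := by
        have : (X.card : ℤ) = e := by linarith
        exact_mod_cast this
      have hone : ∀ χ ∈ X, α χ = 1 ∨ α χ = -1 := by
        intro χ hχ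
        refine sq_eq_one_iff.1 (le_antisymm ?_ (hge χ hχ))
        by_contra hlt
        have h3 : ∑ χ ∈ X, (1 : ℤ) < ∑ χ ∈ X, α χ ^ 2 :=
          Finset.sum_lt_sum hge ⟨χ, hχ, not_le.1 hlt⟩
        rw [hsumX, Finset.sum_const, nsmul_eq_mul, mul_one, hXeq] at h3
        exact lt_irrefl _ h3
      rcases hd with rfl | ⟨hc2, rfl⟩
      · exact ⟨ζ', δ, α, hδ, hζB, hζi, fun O O' => by rw [hgY, zero_add], hgX, hone, hXeq⟩
      · obtain ⟨O1, O2, h12, huniv⟩ := Finset.card_eq_two.1 (Finset.card_univ.trans hc2)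
        set sw : ι ≃ ι := Equiv.swap O1 O2 with hsw
        have hall : ∀ O : ι, O = O1 ∨ O = O2 := fun O => by
          have := Finset.mem_univ O
          rw [huniv] at this
          simpa using this
        have hswne : ∀ O O' : ι, sw O = O' ↔ O ≠ O' := by
          intro O O'
          rcases hall O with rfl | rfl <;> rcases hall O' with rfl | rfl <;>
            simp [hsw, h12, Ne.symm h12]
        have hfilter : (bset B).filter (fun χ => ∀ O, ζ' (sw O) ≠ χ) = X := by
          refine Finset.filter_congr fun χ _ => ?_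
          exact ⟨fun h3 O => by simpa using h3 (sw.symm O), fun h3 O => h3 _⟩
        refine ⟨ζ' ∘ sw, -δ, α, by omega, fun O => hζB _, hζi.comp sw.injective,
          fun O O' => ?_, fun χ hχ hne => hgX χ hχ fun O => by simpa using hne (sw.symm O),
          fun χ hχ => hone χ ?_, ?_⟩
        · show g (ζ' (sw O)) O' = _
          rw [hgY]
          by_cases h3 : O = O'
          · rw [if_pos h3, if_neg (fun e1 => (hswne O O').1 e1 h3)]; ring
          · rw [if_neg h3, if_pos ((hswne O O').2 h3)]; ring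
        · rw [← hfilter]; exact hχ
        · rw [← hXeq, ← hfilter]; rfl
  let ζ : (↥P →* ℂˣ) → IrrCharacter G := fun θ =>
    if hθ : θ ≠ 1 then ζ' (Quotient.mk st ⟨θ, hθ⟩)
    else ζ' (Classical.choice (Fintype.card_pos_iff.1 hN))
  have hζeq : ∀ θ (hθ : θ ≠ 1), ζ θ = ζ' (Quotient.mk st ⟨θ, hθ⟩) := fun θ hθ => dif_pos hθ
  set X := (bset B).filter fun χ => ∀ O, ζ' O ≠ χ with hX
  have hcardY : (Finset.univ.image ζ').card = Fintype.card ι := by
    rw [Finset.card_image_of_injective _ hζi, Finset.card_univ]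
  have hunion : ∀ χ, χ ∈ B ↔ χ ∈ X ∨ χ ∈ Finset.univ.image ζ' := by
    intro χ
    simp only [hX, Finset.mem_filter, mem_bset, Finset.mem_image, Finset.mem_univ, true_and]
    refine ⟨fun hχ => ?_, fun hχ => ?_⟩
    · by_cases h3 : ∃ O, ζ' O = χ
      · exact Or.inr h3
      · exact Or.inl ⟨hχ, fun O e1 => h3 ⟨O, e1⟩⟩
    · rcases hχ with hχ | ⟨O, rfl⟩
      exacts [hχ.1, mem_bset.1 (hζB O)]
  have hdisj : Disjoint X (Finset.univ.image ζ') := by
    rw [Finset.disjoint_left]
    intro χ hχ hχ'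
    obtain ⟨O, -, rfl⟩ := Finset.mem_image.1 hχ'
    exact (Finset.mem_filter.1 hχ).2 O rfl
  have hk : (bset B).card = X.card + Fintype.card ι := by
    rw [← hcardY, ← Finset.card_union_of_disjoint hdisj]
    congr 1
    ext χ
    rw [mem_bset, hunion, Finset.mem_union]
  refine ⟨ζ, δ, α, X, Finset.univ.image ζ',
    { union := hunion
      disj := hdisj
      cardX := hcardX
      cardY := by rw [hcardY]; exact hcardι
      rank := by omega
      mem_ζ := fun θ hθ => by rw [hζeq θ hθ]; exact Finset.mem_image_of_mem _ (Finset.mem_univ _)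
      surj := fun η hη => ?_
      ζ_rel := fun θ θ' hθ hθ' => ?_
      hδ := hδ
      hα := hα
      mX := fun χ hχ θ hθ => ?_
      mY := fun θ θ' hθ hθ' => ?_ }⟩
  · obtain ⟨O, -, rfl⟩ := Finset.mem_image.1 hη
    exact ⟨O.out.1, O.out.2, by rw [hζeq _ O.out.2]; exact congrArg ζ' (Quotient.out_eq O)⟩
  · rw [hζeq θ hθ, hζeq θ' hθ', hζi.eq_iff, Quotient.eq]
    exact ⟨fun h3 => h.rel_symm h3, fun h3 => h.rel_symm h3⟩
  · obtain ⟨hχB, hχX⟩ := Finset.mem_filter.1 hχ
    rw [← hout χ ⟨θ, hθ⟩, hgX χ hχB hχX]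
  · have e1 : m (ζ θ) θ' = if Quotient.mk st ⟨θ, hθ⟩ = Quotient.mk st ⟨θ', hθ'⟩ then δ else 0 := by
      rw [hζeq θ hθ, ← hout _ ⟨θ', hθ'⟩, hgY]
    refine ⟨fun hr => ?_, fun hr => ?_⟩
    · rw [e1, if_pos (Quotient.sound (show CharRel P c θ θ' from h.rel_symm hr))]
    · rw [e1, if_neg fun q => hr (h.rel_symm ((Quotient.eq (r := st)).1 q : CharRel P c θ θ'))]

end Values

end CycData

end CfsgLib.Blocks
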