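import Cfsg.Agent.Lib.Blocks.CyclicRankLower
import Cfsg.Agent.Lib.Blocks.CyclicShape
import Cfsg.Agent.Lib.Blocks.RegularParts

/-!
# Cyclic defect groups: heights, vanishing combinations and congruences
-/

namespace CfsgLib.Blocks

open Cfsg CfsgLib.CharTheory
open scoped ComplexConjugate

set_option linter.unusedVariables false
set_option linter.unusedSimpArgs false
set_option linter.style.haveILetI false
set_option linter.unusedSectionVars false

universe u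

variable {p : ℕ} {M : Ideal AlgInt} {G : Type u} [Group G] [Fintype G]

/-- The stabilizer of a block of the centralizer, by an equivalent condition. -/
theorem eq_pairStab_of_forall {P T : Subgroup G}
    {b : Set (IrrCharacter (Subgroup.centralizer (P : Set G)))}
    (hT : ∀ g : G, g ∈ T ↔ (g ∈ Subgroup.normalizer (P : Set G) ∧
      ∀ θ ∈ b, ∀ θ' : IrrCharacter (Subgroup.centralizer (P : Set G)),
        (∀ h h' : Subgroup.centralizer (P : Set G), (h' : G) = g * h * g⁻¹ →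
          (θ' : Subgroup.centralizer (P : Set G) → ℂ) h' =
            (θ : Subgroup.centralizer (P : Set G) → ℂ) h) → θ' ∈ b)) :
    T = pairStab P b := by
  classical
  haveI := Fintype.ofFinite (Subgroup.centralizer (P : Set G))
  ext g
  rw [hT, mem_pairStab]
  refine and_congr_right fun hg => ?_
  have hg' := normalizer_le_normalizer_cent P hg
  constructor
  · intro h
    have hc : ∀ θ : IrrCharacter (Subgroup.centralizer (P : Set G)),
        IsConjCharOf (Subgroup.centralizer (P : Set G)) g (θ : _ → ℂ)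
          (irrPull (conjE hg') θ : _ → ℂ) := fun θ k k' hk => by
      rw [irrPull_apply]
      exact congrArg _ (Subtype.ext (by rw [conjE_coe, hk]; group))
    exact ⟨hg', fun θ hθ => ⟨_, h θ hθ _ (hc θ), hc θ⟩⟩
  · rintro ⟨-, h⟩ θ hθ θ' hθ'
    obtain ⟨χ', hχ', hc⟩ := h θ hθ
    convert hχ' using 1
    refine Subtype.ext (funext fun k' => ?_)
    have hk : (k' : G) = g * ((conjE hg' k' : Subgroup.centralizer (P : Set G)) : G) * g⁻¹ := by
      rw [conjE_coe]; group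
    rw [hθ' _ k' hk, hc _ k' hk]

/-- The data of a block with a cyclic defect group. -/
theorem cycData_of_defect {B : Set (IrrCharacter G)} {P : Subgroup G}
    {c : Set (IrrCharacter (Subgroup.centralizer (P : Set G)))} {a : ℕ} (hM : IsPModular p M)
    (hD : IsDefectGroup p M B P) (hc : IsInducedBlock M (Subgroup.centralizer (P : Set G)) c B)
    (hcyc : IsCyclic P) (hcard : Nat.card P = p ^ a) (ha : 1 ≤ a) : CycData p M B P c a := by
  haveI := Fintype.ofFinite (Subgroup.centralizer (P : Set G))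
  exact ⟨hM, pair_at_defect_maximal hM
    ((induced_centralizer_iff hM (defectGroup_isPGroup hD)).1 hc) hD, hcyc, hcard, ha⟩

namespace CycData

variable {B : Set (IrrCharacter G)} {P : Subgroup G}
  {c : Set (IrrCharacter (Subgroup.centralizer (P : Set G)))} {a : ℕ} (h : CycData p M B P c a)

include h

theorem exists_full [Fintype (↥P →* ℂˣ)] :
    ∃ (s : G → ℤ) (m : IrrCharacter G → (↥P →* ℂˣ) → ℤ) (ζ : (↥P →* ℂˣ) → IrrCharacter G)
      (δ : ℤ) (α : IrrCharacter G → ℤ) (X Y : Finset (IrrCharacter G)),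
      CycValues p M B P c s m ∧ CycShape B P c a p m ζ δ α X Y := by
  obtain ⟨s, m, hV⟩ := h.exists_values
  obtain ⟨ζ, δ, α, X, Y, hS⟩ := h.exists_shape hV h.index_le_blockRank
  exact ⟨s, m, ζ, δ, α, X, Y, hV, hS⟩

theorem card_dvd : a ≤ (Nat.card G).factorization p := by
  rw [← h.prime.pow_dvd_iff_le_factorization Nat.card_pos.ne', ← h.card]
  exact Subgroup.card_subgroup_dvd_card P

/-- Equal values on the subsections give equal values at singular elements. -/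
theorem singular_eq {S S' : Finset (IrrCharacter G)} (hS : ∀ χ ∈ S, χ ∈ B)
    (hS' : ∀ χ ∈ S', χ ∈ B) {f f' : IrrCharacter G → ℂ}
    (he : ∀ v ∈ P, v ≠ 1 → ∑ χ ∈ S, f χ * dsec p M P c v (χ : G → ℂ) =
      ∑ χ ∈ S', f' χ * dsec p M P c v (χ : G → ℂ))
    {x : G} (hx : p ∣ orderOf x) :
    ∑ χ ∈ S, f χ * (χ : G → ℂ) x = ∑ χ ∈ S', f' χ * (χ : G → ℂ) x := by
  classical
  obtain ⟨w, hw⟩ := h.singular_expansion hx
  have key : ∀ (T : Finset (IrrCharacter G)) (g : IrrCharacter G → ℂ), (∀ χ ∈ T, χ ∈ B) →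
      ∑ χ ∈ T, g χ * (χ : G → ℂ) x =
        ∑ v ∈ (Set.toFinite {v : G | v ∈ P ∧ v ≠ 1}).toFinset,
          w v * ∑ χ ∈ T, g χ * dsec p M P c v (χ : G → ℂ) := by
    intro T g hT
    rw [Finset.sum_congr rfl fun χ hχ => by rw [hw χ (hT χ hχ), Finset.mul_sum], Finset.sum_comm]
    refine Finset.sum_congr rfl fun v _ => ?_
    rw [Finset.mul_sum]
    exact Finset.sum_congr rfl fun χ _ => by ring
  rw [key S f hS, key S' f' hS']
  refine Finset.sum_congr rfl fun v hv => ?_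
  rw [Set.Finite.mem_toFinset] at hv
  rw [he v hv.1 hv.2]

/-- Combinations with equal values on the subsections have congruent degrees. -/
theorem degree_congr {S S' : Finset (IrrCharacter G)} (hS : ∀ χ ∈ S, χ ∈ B)
    (hS' : ∀ χ ∈ S', χ ∈ B) {f f' : IrrCharacter G → ℤ}
    (he : ∀ v ∈ P, v ≠ 1 → ∑ χ ∈ S, (f χ : ℂ) * dsec p M P c v (χ : G → ℂ) =
      ∑ χ ∈ S', (f' χ : ℂ) * dsec p M P c v (χ : G → ℂ)) :
    (p : ℤ) ^ a ∣ ∑ χ ∈ S, f χ * (charDegree (χ : G → ℂ) : ℤ) -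
      ∑ χ ∈ S', f' χ * (charDegree (χ : G → ℂ) : ℤ) := by
  haveI : Fact p.Prime := ⟨h.prime⟩
  have hgen : ∀ (T : Finset (IrrCharacter G)) (g : IrrCharacter G → ℤ),
      IsGeneralizedCharacter G (∑ χ ∈ T, (g χ : ℂ) • (χ : G → ℂ)) := fun T g =>
    isGenChar_sum _ _ fun χ _ =>
      isGenChar_intSmul _ (isGenChar_of_char (isCharacter_of_irr χ.2))
  obtain ⟨k, hk⟩ := RegularParts.dvd_degree_of_vanish (isGenChar_sub (hgen S f) (hgen S' f')) fun g hg => by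
    simp only [Pi.sub_apply, Finset.sum_apply, Pi.smul_apply, smul_eq_mul]
    rw [h.singular_eq hS hS' he hg, sub_self]
  simp only [Pi.sub_apply, Finset.sum_apply, Pi.smul_apply, smul_eq_mul] at hk
  have e : ∑ χ ∈ S, f χ * (charDegree (χ : G → ℂ) : ℤ) -
      ∑ χ ∈ S', f' χ * (charDegree (χ : G → ℂ) : ℤ) =
        (p : ℤ) ^ (Nat.card G).factorization p * k := by
    simp only [← irr_charDegree_cast] at hk
    exact_mod_cast hk
  rw [e]
  exact (pow_dvd_pow _ h.card_dvd).mul_right k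

section Shape

variable [Fintype (↥P →* ℂˣ)] {s : G → ℤ} {m : IrrCharacter G → (↥P →* ℂˣ) → ℤ}
  {ζ : (↥P →* ℂˣ) → IrrCharacter G} {δ : ℤ} {α : IrrCharacter G → ℤ}
  {X Y : Finset (IrrCharacter G)} (hV : CycValues p M B P c s m)
  (hS : CycShape B P c a p m ζ δ α X Y)

include hV hS

theorem memX {χ : IrrCharacter G} (hχ : χ ∈ X) : χ ∈ B := (hS.union χ).2 (Or.inl hχ)

theorem memY {χ : IrrCharacter G} (hχ : χ ∈ Y) : χ ∈ B := (hS.union χ).2 (Or.inr hχ)

theorem bset_eq [DecidableEq (IrrCharacter G)] : bset B = X ∪ Y := by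
  ext χ; rw [mem_bset, hS.union, Finset.mem_union]

theorem sumY_m {θ : ↥P →* ℂˣ} (hθ : θ ≠ 1) (F : IrrCharacter G → ℂ) :
    ∑ η ∈ Y, (m η θ : ℂ) * F η = (δ : ℂ) * F (ζ θ) := by
  rw [Finset.sum_eq_single (ζ θ) (fun η hη hne => ?_) (fun hn => absurd (hS.mem_ζ θ hθ) hn),
    (hS.mY θ θ hθ hθ).1 (h.rel_refl θ)]
  obtain ⟨θ₀, hθ₀, rfl⟩ := hS.surj η hη
  rw [(hS.mY θ₀ θ hθ₀ hθ).2 fun hr => hne ((hS.ζ_rel θ₀ θ hθ₀ hθ).2 hr), Int.cast_zero, zero_mul]

theorem delta_sq : (δ : ℂ) * δ = 1 := by rcases hS.hδ with e | e <;> rw [e] <;> norm_num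

theorem alpha_sq {χ : IrrCharacter G} (hχ : χ ∈ X) : (α χ : ℂ) * α χ = 1 := by
  rcases hS.hα χ hχ with e | e <;> rw [e] <;> norm_num

theorem s_sq (v : G) : (s v : ℂ) * s v = 1 := by
  rcases hV.sign v with e | e <;> rw [e] <;> norm_num

theorem sum_ne_one [DecidableEq (↥P →* ℂˣ)] {v : P} (hv : (v : G) ≠ 1) :
    ∑ θ ∈ Finset.univ.erase (1 : ↥P →* ℂˣ), ((θ v : ℂˣ) : ℂ) = -1 := by
  have h1 := Finset.add_sum_erase Finset.univ (fun θ : ↥P →* ℂˣ => ((θ v : ℂˣ) : ℂ))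
    (Finset.mem_univ 1)
  rw [h.sum_chars_apply (fun e => hv (by rw [e]; rfl))] at h1
  simp only [MonoidHom.one_apply, Units.val_one] at h1
  linear_combination h1

theorem dsec_X {χ : IrrCharacter G} (hχ : χ ∈ X) {v : G} (hv : v ∈ P) (hv1 : v ≠ 1) :
    (α χ : ℂ) * dsec p M P c v (χ : G → ℂ) = -(s v : ℂ) := by
  classical
  have h1 := hV.val χ ⟨v, hv⟩ hv1
  rw [← Finset.add_sum_erase Finset.univ _ (Finset.mem_univ (1 : ↥P →* ℂˣ)), hV.one, Int.cast_zero,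
    zero_mul, zero_add, Finset.sum_congr rfl fun θ hθ => by rw [hS.mX χ hχ θ (Finset.mem_erase.1 hθ).1],
    ← Finset.mul_sum, h.sum_ne_one hV hS (v := ⟨v, hv⟩) hv1] at h1
  change (s v : ℂ) * dsec p M P c v (χ : G → ℂ) = _ at h1
  linear_combination (α χ : ℂ) * (s v : ℂ) * h1 -
    (α χ : ℂ) * dsec p M P c v (χ : G → ℂ) * h.s_sq hV hS v - (s v : ℂ) * h.alpha_sq hV hS hχ

theorem dsec_sumY {v : G} (hv : v ∈ P) (hv1 : v ≠ 1) :
    ∑ η ∈ Y, (δ : ℂ) * dsec p M P c v (η : G → ℂ) = -(s v : ℂ) := by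
  classical
  have h1 : ∑ η ∈ Y, (δ : ℂ) * ((s v : ℂ) * dsec p M P c v (η : G → ℂ)) = -1 := by
    rw [Finset.sum_congr rfl fun η _ => congrArg ((δ : ℂ) * ·) (hV.val η ⟨v, hv⟩ hv1)]
    simp only [Finset.mul_sum]
    rw [Finset.sum_comm, ← Finset.add_sum_erase Finset.univ _ (Finset.mem_univ (1 : ↥P →* ℂˣ)),
      Finset.sum_eq_zero (s := Y) fun η _ => by rw [hV.one, Int.cast_zero, zero_mul, mul_zero],
      zero_add, ← h.sum_ne_one hV hS (v := ⟨v, hv⟩) hv1]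
    refine Finset.sum_congr rfl fun θ hθ => ?_
    rw [← Finset.mul_sum, h.sumY_m hV hS (Finset.mem_erase.1 hθ).1, ← mul_assoc,
      h.delta_sq hV hS, one_mul]
  rw [Finset.sum_congr rfl fun η _ => mul_left_comm _ _ _, ← Finset.mul_sum] at h1
  linear_combination (s v : ℂ) * h1 -
    (∑ η ∈ Y, (δ : ℂ) * dsec p M P c v (η : G → ℂ)) * h.s_sq hV hS v

/-- On regular elements the signed sum vanishes. -/
theorem regular_sum {θ : ↥P →* ℂˣ} (hθ : θ ≠ 1) {x : G} (hx : ¬ p ∣ orderOf x) :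
    (δ : ℂ) * (ζ θ : G → ℂ) x + ∑ χ ∈ X, (α χ : ℂ) * (χ : G → ℂ) x = 0 := by
  classical
  have h1 := h.regular_relation hV θ hx
  rw [h.bset_eq hV hS, Finset.sum_union hS.disj,
    h.sumY_m hV hS hθ fun η => (η : G → ℂ) x,
    Finset.sum_congr rfl fun χ hχ => by rw [hS.mX χ hχ θ hθ]] at h1
  linear_combination h1

theorem regularY {η η' : IrrCharacter G} (hη : η ∈ Y) (hη' : η' ∈ Y) {x : G}
    (hx : ¬ p ∣ orderOf x) : (η : G → ℂ) x = (η' : G → ℂ) x := by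
  obtain ⟨θ, hθ, rfl⟩ := hS.surj η hη
  obtain ⟨θ', hθ', rfl⟩ := hS.surj η' hη'
  have hd : (δ : ℂ) ≠ 0 := by rcases hS.hδ with e | e <;> rw [e] <;> norm_num
  refine mul_left_cancel₀ hd ?_
  linear_combination h.regular_sum hV hS hθ hx - h.regular_sum hV hS hθ' hx

theorem sum_m {χ : IrrCharacter G} (hχ : χ ∈ B) : ¬ (p : ℤ) ∣ ∑ θ, m χ θ := by
  classical
  have he : (0 : ℕ) < cycIndex P c := h.index_pos
  have hlt := h.index_lt
  have hp := Nat.prime_iff_prime_int.1 h.prime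
  have hpa : (p : ℤ) ∣ ((p ^ a : ℕ) : ℤ) := by
    push_cast; exact dvd_pow_self _ (by have := h.pos; omega)
  rw [← Finset.add_sum_erase Finset.univ _ (Finset.mem_univ (1 : ↥P →* ℂˣ)), hV.one, zero_add]
  rcases (hS.union χ).1 hχ with hX | hY
  · rw [Finset.sum_congr rfl fun θ hθ => hS.mX χ hX θ (Finset.mem_erase.1 hθ).1, Finset.sum_const,
      Finset.card_erase_of_mem (Finset.mem_univ _), Finset.card_univ, h.card_chars, nsmul_eq_mul,
      Nat.cast_sub (Nat.one_le_pow _ _ h.prime.pos), Nat.cast_one, sub_mul, one_mul,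
      dvd_sub_right (hpa.mul_right _)]
    intro hd
    rcases hS.hα χ hX with e | e <;> rw [e] at hd
    · exact hp.not_dvd_one hd
    · exact hp.not_dvd_one ((Int.dvd_neg).1 hd)
  · obtain ⟨θ₀, hθ₀, rfl⟩ := hS.surj χ hY
    have e1 : ∀ θ ∈ Finset.univ.erase (1 : ↥P →* ℂˣ),
        m (ζ θ₀) θ = if CharRel P c θ θ₀ then δ else 0 := fun θ hθ => by
      split_ifs with hr
      exacts [(hS.mY θ₀ θ hθ₀ (Finset.mem_erase.1 hθ).1).1 hr,
        (hS.mY θ₀ θ hθ₀ (Finset.mem_erase.1 hθ).1).2 hr]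
    rw [Finset.sum_congr rfl e1, ← Finset.sum_filter, Finset.sum_const,
      Finset.filter_erase, Finset.erase_eq_of_notMem (a := (1 : ↥P →* ℂˣ))
        (s := Finset.univ.filter fun θ => CharRel P c θ θ₀) (fun hm =>
        h.rel_ne_one (Finset.mem_filter.1 hm).2 hθ₀ rfl),
      h.card_orbit hθ₀, nsmul_eq_mul]
    intro hd
    rcases hp.dvd_or_dvd hd with h2 | h2
    · have h3 : p ∣ cycIndex P c := by exact_mod_cast h2
      exact absurd (Nat.le_of_dvd he h3) (not_le.2 hlt)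
    · rcases hS.hδ with e | e <;> rw [e] at h2
      · exact hp.not_dvd_one h2
      · exact hp.not_dvd_one ((Int.dvd_neg).1 h2)

theorem res_dsec {χ : IrrCharacter G} (hχ : χ ∈ B) {v : G} (hv : v ∈ P) (hv1 : v ≠ 1)
    (σ : ℂ →+* ℂ) :
    MemLocalRing M (σ (dsec p M P c v (χ : G → ℂ))) ∧
      res h.mod (σ (dsec p M P c v (χ : G → ℂ))) ≠ 0 := by
  classical
  have hM := h.mod
  haveI := res_isDomain hM
  haveI := res_charP hM
  have hroot : ∀ θ : ↥P →* ℂˣ, MemLocalRing M (σ ((θ ⟨v, hv⟩ : ℂˣ) : ℂ)) ∧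
      res hM (σ ((θ ⟨v, hv⟩ : ℂˣ) : ℂ)) = 1 := fun θ => by
    refine res_eq_one_of_pow hM (k := a) ?_
    rw [← map_pow, ← Units.val_pow_eq_pow_val, ← map_pow,
      show (⟨v, hv⟩ : P) ^ p ^ a = 1 from Subtype.ext (h.pow_card hv), map_one, Units.val_one,
      map_one]
  have hmem : ∀ θ : ↥P →* ℂˣ, MemLocalRing M ((m χ θ : ℂ) * σ ((θ ⟨v, hv⟩ : ℂˣ) : ℂ)) :=
    fun θ => (loc hM).mul_mem (memRing_intCast hM _) (hroot θ).1
  have hsum : σ (dsec p M P c v (χ : G → ℂ)) =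
      (s v : ℂ) * ∑ θ, (m χ θ : ℂ) * σ ((θ ⟨v, hv⟩ : ℂˣ) : ℂ) := by
    have h1 : dsec p M P c v (χ : G → ℂ) =
        (s v : ℂ) * ∑ θ, (m χ θ : ℂ) * ((θ ⟨v, hv⟩ : ℂˣ) : ℂ) := by
      have h2 := hV.val χ ⟨v, hv⟩ hv1
      change (s v : ℂ) * dsec p M P c v (χ : G → ℂ) = _ at h2
      rw [← h2, ← mul_assoc, h.s_sq hV hS, one_mul]
    rw [h1, map_mul, map_sum, map_intCast]
    exact congrArg _ (Finset.sum_congr rfl fun θ _ => by rw [map_mul, map_intCast])
  have hS2 : MemLocalRing M (∑ θ, (m χ θ : ℂ) * σ ((θ ⟨v, hv⟩ : ℂˣ) : ℂ)) :=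
    memRing_sum hM fun θ _ => hmem θ
  rw [hsum]
  refine ⟨(loc hM).mul_mem (memRing_intCast hM _) hS2, ?_⟩
  have e2 : res hM (∑ θ, (m χ θ : ℂ) * σ ((θ ⟨v, hv⟩ : ℂˣ) : ℂ)) =
      ((∑ θ, m χ θ : ℤ) : AlgInt ⧸ M) := by
    rw [res_sum hM fun θ _ => hmem θ, Int.cast_sum]
    exact Finset.sum_congr rfl fun θ _ => by
      rw [res_mul hM (memRing_intCast hM _) (hroot θ).1, (hroot θ).2, mul_one, res_intCast']
  rw [res_mul hM (memRing_intCast hM _) hS2, e2, res_intCast']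
  refine mul_ne_zero (fun h0 => ?_) fun h0 =>
    h.sum_m hV hS hχ ((CharP.intCast_eq_zero_iff (AlgInt ⧸ M) p _).1 h0)
  have h1 := (CharP.intCast_eq_zero_iff (AlgInt ⧸ M) p _).1 h0
  rcases hV.sign v with e | e <;> rw [e] at h1
  · exact (Nat.prime_iff_prime_int.1 h.prime).not_dvd_one h1
  · exact (Nat.prime_iff_prime_int.1 h.prime).not_dvd_one (Int.dvd_neg.1 h1)

/-- Every character has height zero. -/
theorem height_zero {χ : IrrCharacter G} (hχ : χ ∈ B) : dv p (χ : G → ℂ) = minDv p B := by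
  classical
  have hM := h.mod
  haveI := res_isDomain hM
  haveI := res_charP hM
  haveI : ∀ Q : Subgroup G, Fintype (Subgroup.centralizer (Q : Set G)) :=
    fun Q => Fintype.ofFinite _
  obtain ⟨v, hv, hv1, -⟩ := h.exists_zmin
  obtain ⟨χ₀, hχ₀, h0⟩ := exists_height_zero hM h.isBlock
  obtain ⟨u, hu, hui, -⟩ := secPair_div hM (isCentr_zpowers v) (h.ord hv)
    (h.induced_below (h.zpowers_le hv))
    ((h.defect_below (h.zpowers_le hv)).trans h.defect.symm) hχ₀ hχ h0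
  rw [h.secPair_eq hv hv1] at hu
  by_contra hne
  have hle := minDv_le (p := p) hχ
  obtain ⟨k, hk⟩ : ∃ k, dv p (χ : G → ℂ) - minDv p B = k + 1 :=
    ⟨dv p (χ : G → ℂ) - minDv p B - 1, by omega⟩
  obtain ⟨m0, n0⟩ := h.res_dsec hV hS hχ₀ hv hv1 (RingHom.id ℂ)
  obtain ⟨m1, n1⟩ := h.res_dsec hV hS hχ hv hv1 (starRingEnd ℂ)
  simp only [RingHom.id_apply] at m0 n0
  refine mul_ne_zero n0 n1 ?_
  rw [← res_mul hM m0 m1, hu, hk, pow_succ, mul_comm ((p : ℂ) ^ k), mul_assoc,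
    res_mul hM (memRing_natCast hM p)
      ((loc hM).mul_mem ((loc hM).pow_mem (memRing_natCast hM p) k)
        (memRing_of_isIntegral hM hui)),
    natCast_p_mem hM, zero_mul]

theorem congr_XX {χ χ' : IrrCharacter G} (hχ : χ ∈ X) (hχ' : χ' ∈ X) :
    α χ * (charDegree (χ : G → ℂ) : ℤ) ≡ α χ' * (charDegree (χ' : G → ℂ) : ℤ)
      [ZMOD (p : ℤ) ^ a] := by
  have h1 := h.degree_congr (S := {χ'}) (S' := {χ}) (f := α) (f' := α)
    (fun ψ hψ => by rw [Finset.mem_singleton] at hψ; exact hψ ▸ h.memX hV hS hχ')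
    (fun ψ hψ => by rw [Finset.mem_singleton] at hψ; exact hψ ▸ h.memX hV hS hχ)
    (fun v hv hv1 => by
      rw [Finset.sum_singleton, Finset.sum_singleton, h.dsec_X hV hS hχ' hv hv1,
        h.dsec_X hV hS hχ hv hv1])
  rw [Finset.sum_singleton, Finset.sum_singleton] at h1
  exact Int.modEq_iff_dvd.2 h1

theorem congr_YX {η χ : IrrCharacter G} (hη : η ∈ Y) (hχ : χ ∈ X) :
    (charDegree (η : G → ℂ) : ℤ) ≡
      -((cycIndex P c : ℤ) * δ * α χ * (charDegree (χ : G → ℂ) : ℤ)) [ZMOD (p : ℤ) ^ a] := by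
  have h1 := h.degree_congr (S := Y) (S' := {χ}) (f := fun _ => δ) (f' := α)
    (fun ψ hψ => h.memY hV hS hψ)
    (fun ψ hψ => by rw [Finset.mem_singleton] at hψ; exact hψ ▸ h.memX hV hS hχ)
    (fun v hv hv1 => by rw [h.dsec_sumY hV hS hv hv1, Finset.sum_singleton, h.dsec_X hV hS hχ hv hv1])
  have hd : ∀ ψ ∈ Y, (charDegree (ψ : G → ℂ) : ℤ) = (charDegree (η : G → ℂ) : ℤ) := by
    intro ψ hψ
    have h2 := h.regularY hV hS hψ hη (x := 1) (by rw [orderOf_one]; exact h.prime.not_dvd_one)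
    rw [← irr_charDegree_cast, ← irr_charDegree_cast] at h2
    exact_mod_cast h2
  rw [Finset.sum_singleton, Finset.sum_congr rfl fun ψ hψ => by rw [hd ψ hψ], Finset.sum_const,
    nsmul_eq_mul] at h1
  obtain ⟨w, hw⟩ := h1
  have hN : (Y.card : ℤ) * (cycIndex P c : ℤ) = (p : ℤ) ^ a - 1 := by
    have h3 : ((Y.card * cycIndex P c : ℕ) : ℤ) = ((p ^ a - 1 : ℕ) : ℤ) := by rw [hS.cardY]
    rw [Nat.cast_sub (Nat.one_le_pow _ _ h.prime.pos)] at h3
    exact_mod_cast h3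
  have hδ2 : δ * δ = 1 := by rcases hS.hδ with e | e <;> rw [e] <;> norm_num
  refine Int.modEq_iff_dvd.2 ⟨(cycIndex P c : ℤ) * δ * w - (charDegree (η : G → ℂ) : ℤ), ?_⟩
  linear_combination (cycIndex P c : ℤ) * δ * hw -
    (charDegree (η : G → ℂ) : ℤ) * δ * δ * hN -
    ((p : ℤ) ^ a - 1) * (charDegree (η : G → ℂ) : ℤ) * hδ2 + (0 : ℤ) * hδ2

end Shape

end CycData

end CfsgLib.Blocks
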