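import Cfsg.Agent.Lib.Blocks.SubsectionCount
import Cfsg.Agent.Lib.Blocks.Nilpotent

/-!
# Fused abelian defect groups; nilpotency of very small blocks
-/

namespace CfsgLib.Blocks

open Cfsg CfsgLib.CharTheory

set_option linter.unusedVariables false
set_option linter.unusedSimpArgs false
set_option linter.style.haveILetI false
set_option linter.unusedSectionVars false

universe u

variable {p : ℕ} {M : Ideal AlgInt} {G : Type u} [Group G] [Fintype G]

theorem blockRank_image {K L : Type u} [Group K] [Group L] [Finite K] [Finite L] (e : K ≃* L)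
    (B : Set (IrrCharacter L)) : blockRank p (irrPull e '' B) = blockRank p B := by
  set E : (L → ℂ) ≃ₗ[ℂ] (K → ℂ) := LinearEquiv.funCongrLeft ℂ ℂ e.toEquiv with hE
  have h : ∀ χ : IrrCharacter L,
      pRegularPart p ((irrPull e χ : IrrCharacter K) : K → ℂ) = E (pRegularPart p (χ : L → ℂ)) := by
    intro χ
    funext k
    show _ = pRegularPart p (χ : L → ℂ) (e k)
    unfold pRegularPart IsPRegular
    rw [MulEquiv.orderOf_eq e k, irrPull_apply]
  rw [blockRank, blockRank, Set.image_image, Set.image_congr fun χ _ => h χ,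
    ← LinearEquiv.finrank_map_eq E
      (Submodule.span ℂ ((fun χ : IrrCharacter L => pRegularPart p (χ : L → ℂ)) '' B)),
    Submodule.map_span, Set.image_image]
  rfl

theorem zpowers_conj (y z : G) :
    (Subgroup.zpowers z).map (MulAut.conj y).toMonoidHom = Subgroup.zpowers (y * z * y⁻¹) :=
  MonoidHom.map_zpowers _ _

/-- If the stabilizer of a maximal pair is transitive on the nonidentity elements of the abelian
defect group, then `k(B) ≤ l(B) + l(b)`. -/
theorem card_le_of_transitive (hM : IsPModular p M) {B : Set (IrrCharacter G)} {P : Subgroup G}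
    {e : Set (IrrCharacter (Subgroup.centralizer (P : Set G)))}
    (hmax : IsMaximalBrauerPair p M B P e)
    (htrans : ∀ u ∈ P, u ≠ 1 → ∀ v ∈ P, v ≠ 1 → ∃ t ∈ pairStab P e, t * u * t⁻¹ = v) (L : ℕ)
    (hL : ∀ u ∈ P, u ≠ 1 →
      ∀ f : Set (IrrCharacter (Subgroup.centralizer ((Subgroup.zpowers u : Subgroup G) : Set G))),
        SubpairLE p M (Subgroup.zpowers u) f P e → blockRank p f ≤ L) :
    Nat.card B ≤ blockRank p B + L := by
  classical
  haveI : Fact p.Prime := ⟨hM.1⟩
  have hB := hmax.1.2.1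
  have hPp : IsPGroup p P := hmax.1.1.1
  have hPz : ∀ z : G, (∃ k : ℕ, orderOf z = p ^ k) → IsPGroup p (Subgroup.zpowers z) :=
    fun z hz => isPGroup_zpowers hM.1 hz
  -- every subsection comes from `(P, e)`
  have key : ∀ z : G, (∃ k : ℕ, orderOf z = p ^ k) →
      ∀ b : Set (IrrCharacter (Subgroup.centralizer ((Subgroup.zpowers z : Subgroup G) : Set G))),
        IsInducedBlock M _ b B → ∃ y : G, y * z * y⁻¹ ∈ P ∧
          Relation.ReflTransGen (NormalSubpairRel p M)
            (conjIdx y ⟨Subgroup.zpowers z, b⟩) ⟨P, e⟩ := by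
    intro z hz b hb
    haveI := Fintype.ofFinite (Subgroup.centralizer ((Subgroup.zpowers z : Subgroup G) : Set G))
    obtain ⟨y, hy⟩ := exists_conj_subpair hM (a := ⟨Subgroup.zpowers z, b⟩) (m := ⟨P, e⟩) hmax
      ((induced_centralizer_iff hM (hPz z hz)).1 hb)
    exact ⟨y, subpairLE_le hy ⟨z, Subgroup.mem_zpowers z, rfl⟩, hy⟩
  -- uniqueness of the block of a subsection
  have huniq : ∀ z : G, (∃ k : ℕ, orderOf z = p ^ k) →
      ∀ b b' : Set (IrrCharacter (Subgroup.centralizer ((Subgroup.zpowers z : Subgroup G) : Set G))),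
        IsInducedBlock M _ b B → IsInducedBlock M _ b' B → b = b' := by
    intro z hz b b' hb hb'
    obtain ⟨y, hyP, hy⟩ := key z hz b hb
    obtain ⟨y', hyP', hy'⟩ := key z hz b' hb'
    obtain ⟨t, ht, htz⟩ : ∃ t ∈ pairStab P e, t * (y * z * y⁻¹) * t⁻¹ = y' * z * y'⁻¹ := by
      by_cases h1 : z = 1
      · exact ⟨1, one_mem _, by simp [h1]⟩
      · exact htrans _ hyP (fun h => h1 (conj_eq_one_iff.1 h)) _ hyP'
          (fun h => h1 (conj_eq_one_iff.1 h))
    have h1 := subpair_conj hM hy t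
    rw [show conjIdx t (⟨P, e⟩ : BrauerPairIdx G) = ⟨P, e⟩ from ht, conjIdx_mul] at h1
    generalize hc : conjIdx (t * y) (⟨Subgroup.zpowers z, b⟩ : BrauerPairIdx G) = c at h1
    generalize hc' : conjIdx y' (⟨Subgroup.zpowers z, b'⟩ : BrauerPairIdx G) = c' at hy'
    have hf : IsPBlock M c.2 := hc ▸ isPBlock_conjBlock hb.1 _
    have hf' : IsPBlock M c'.2 := hc' ▸ isPBlock_conjBlock hb'.1 _
    have h2 : c.1 = c'.1 := by
      rw [← hc, ← hc']
      show (Subgroup.zpowers z).map _ = (Subgroup.zpowers z).map _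
      rw [zpowers_conj, zpowers_conj, ← htz]
      congr 1
      group
    obtain ⟨Q, f⟩ := c
    obtain ⟨Q', f'⟩ := c'
    change Q = Q' at h2
    subst h2
    obtain rfl := subpair_unique hM hPp hmax.1.1.2 hf hf' h1 hy'
    have e1 := congrArg (conjIdx y'⁻¹) (hc.trans hc'.symm)
    rw [conjIdx_mul, conjIdx_mul, inv_mul_cancel, conjIdx_one] at e1
    have hg : y'⁻¹ * (t * y) ∈
        Subgroup.centralizer ((Subgroup.zpowers z : Subgroup G) : Set G) := by
      rw [isCentr_zpowers z, Commute, SemiconjBy]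
      calc y'⁻¹ * (t * y) * z = y'⁻¹ * (t * (y * z * y⁻¹) * t⁻¹) * (t * y) := by group
        _ = y'⁻¹ * (y' * z * y'⁻¹) * (t * y) := by rw [htz]
        _ = z * (y'⁻¹ * (t * y)) := by group
    rw [show conjIdx (y'⁻¹ * (t * y)) (⟨Subgroup.zpowers z, b⟩ : BrauerPairIdx G) =
      ⟨Subgroup.zpowers z, b⟩ from cent_le_pairStab _ b hg] at e1
    exact eq_of_heq (Sigma.mk.inj_iff.1 e1).2
  -- the bound for each class
  have hterm : ∀ z : G, z ≠ 1 → (∃ k : ℕ, orderOf z = p ^ k) →
      rankSum p M (Subgroup.centralizer ((Subgroup.zpowers z : Subgroup G) : Set G)) B ≤ L ∧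
        (rankSum p M (Subgroup.centralizer ((Subgroup.zpowers z : Subgroup G) : Set G)) B ≠ 0 →
          ∃ y : G, y * z * y⁻¹ ∈ P) := by
    intro z hz1 hz
    rw [rankSum, finsum_mem_eq_finite_toFinset_sum _ (Set.toFinite _)]
    set S := (Set.toFinite {b : Set (IrrCharacter (Subgroup.centralizer
      ((Subgroup.zpowers z : Subgroup G) : Set G))) | IsInducedBlock M _ b B}).toFinset
    have hSmem : ∀ b, b ∈ S ↔ IsInducedBlock M
        (Subgroup.centralizer ((Subgroup.zpowers z : Subgroup G) : Set G)) b B := fun b =>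
      Set.Finite.mem_toFinset _
    by_cases hne : S.Nonempty
    · obtain ⟨b, hb'⟩ := hne
      have hb := (hSmem b).1 hb'
      rw [Finset.eq_singleton_iff_unique_mem.2 ⟨hb', fun b' hb'' =>
        huniq z hz b' b ((hSmem b').1 hb'') hb⟩, Finset.sum_singleton]
      obtain ⟨y, hyP, hy⟩ := key z hz b hb
      refine ⟨?_, fun _ => ⟨y, hyP⟩⟩
      have hr : ∀ (Q : Subgroup G) (f : Set (IrrCharacter (Subgroup.centralizer (Q : Set G)))),
          Q = Subgroup.zpowers (y * z * y⁻¹) → SubpairLE p M Q f P e → blockRank p f ≤ L := by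
        rintro Q f rfl h
        exact hL _ hyP (fun h => hz1 (conj_eq_one_iff.1 h)) f h
      have h3 := hr _ (conjBlock (Subgroup.zpowers z) y b) (zpowers_conj y z) hy
      rwa [conjBlock_eq, blockRank_image] at h3
    · rw [Finset.not_nonempty_iff_eq_empty.1 hne, Finset.sum_empty]
      exact ⟨Nat.zero_le _, fun h => absurd rfl h⟩
  set X : Finset G := (Finset.univ.filter fun C : ConjClasses G =>
    ∃ k : ℕ, orderOf (crep C) = p ^ k).image crep with hX
  have hXrep : ∀ g : G, (∃ k : ℕ, orderOf g = p ^ k) → ∃! x, x ∈ X ∧ IsConj g x := by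
    intro g hg
    refine ⟨crep (ConjClasses.mk g), ⟨?_, (isConj_crep g).symm⟩, ?_⟩
    · refine Finset.mem_image.2 ⟨_, Finset.mem_filter.2 ⟨Finset.mem_univ _, ?_⟩, rfl⟩
      obtain ⟨c, hc⟩ := isConj_iff.1 (isConj_crep g)
      obtain ⟨k, hk⟩ := hg
      refine ⟨k, ?_⟩
      have := conj_orderOf c (crep (ConjClasses.mk g))
      rw [hc] at this
      rw [← this, hk]
    · rintro x ⟨hx, hgx⟩
      obtain ⟨C, -, rfl⟩ := Finset.mem_image.1 hx
      rw [ConjClasses.mk_eq_mk_iff_isConj.2 hgx, mk_crep]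
  have hXp : ∀ x ∈ X, ∃ k : ℕ, orderOf x = p ^ k := fun x hx => by
    obtain ⟨C, hC, rfl⟩ := Finset.mem_image.1 hx
    exact (Finset.mem_filter.1 hC).2
  obtain ⟨x1, ⟨hx1, hc1⟩, -⟩ := hXrep 1 ⟨0, orderOf_one⟩
  obtain rfl : x1 = 1 := isConj_one_right.1 hc1
  haveI := Fintype.ofFinite
    (Subgroup.centralizer ((Subgroup.zpowers (1 : G) : Subgroup G) : Set G))
  rw [card_eq_sum_rankSum hM hB X hXp hXrep, ← Finset.add_sum_erase _ _ hx1,
    rankSum_central hM (isCentr_zpowers (1 : G)) ⟨0, orderOf_one⟩ (Subgroup.one_mem _) hB]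
  refine Nat.add_le_add_left ?_ _
  rw [← Finset.sum_filter_ne_zero]
  set X' := (X.erase 1).filter fun x =>
    rankSum p M (Subgroup.centralizer ((Subgroup.zpowers x : Subgroup G) : Set G)) B ≠ 0
  have hX' : X'.card ≤ 1 := by
    rw [Finset.card_le_one]
    intro a ha b hb
    obtain ⟨ha', ha0⟩ := Finset.mem_filter.1 ha
    obtain ⟨hb', hb0⟩ := Finset.mem_filter.1 hb
    obtain ⟨ha1, haX⟩ := Finset.mem_erase.1 ha'
    obtain ⟨hb1, hbX⟩ := Finset.mem_erase.1 hb'
    obtain ⟨y, hy⟩ := (hterm a ha1 (hXp a haX)).2 ha0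
    obtain ⟨y', hy'⟩ := (hterm b hb1 (hXp b hbX)).2 hb0
    obtain ⟨t, -, ht⟩ := htrans _ hy (fun h => ha1 (conj_eq_one_iff.1 h)) _ hy'
      (fun h => hb1 (conj_eq_one_iff.1 h))
    refine (hXrep a (hXp a haX)).unique ⟨haX, IsConj.refl a⟩
      ⟨hbX, isConj_iff.2 ⟨y'⁻¹ * t * y, ?_⟩⟩
    calc y'⁻¹ * t * y * a * (y'⁻¹ * t * y)⁻¹ = y'⁻¹ * (t * (y * a * y⁻¹) * t⁻¹) * y' := by group
      _ = y'⁻¹ * (y' * b * y'⁻¹) * y' := by rw [ht]
      _ = b := by group
  refine (Finset.sum_le_card_nsmul X' _ L fun x hx => ?_).trans ?_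
  · obtain ⟨hx', -⟩ := Finset.mem_filter.1 hx
    obtain ⟨hx1', hxX⟩ := Finset.mem_erase.1 hx'
    exact (hterm x hx1' (hXp x hxX)).1
  · rw [smul_eq_mul]
    exact (Nat.mul_le_mul_right L hX').trans (one_mul L).le

/-- A block with one Brauer character and `k(B) = |D| ≤ 4` is nilpotent. -/
theorem nilpotent_of_small (hM : IsPModular p M) {B : Set (IrrCharacter G)} (hB : IsPBlock M B)
    {D : Subgroup G} (hD : IsDefectGroup p M B D) (hl : blockRank p B = 1)
    (hk : Nat.card B = Nat.card D) (h4 : Nat.card D ≤ 4) : IsNilpotentBlock p M B := by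
  classical
  haveI : Fact p.Prime := ⟨hM.1⟩
  refine ⟨hB, fun Q f hpair x hxN hst hreg => ?_⟩
  by_contra hxC
  obtain ⟨q, hq, hqx⟩ : ∃ q ∈ Q, x * q * x⁻¹ ≠ q := by
    by_contra h
    push Not at h
    exact hxC fun q hq => (mul_inv_eq_iff_eq_mul.1 (h q hq)).symm
  obtain ⟨e, hmax⟩ := exists_maximal_at hM hB hD
  obtain ⟨y, hy⟩ := exists_conj_subpair hM (a := ⟨Q, f⟩) (m := ⟨D, e⟩) hmax hpair
  set z := y * x * y⁻¹ with hz
  have hzst : z ∈ pairStab (Q.map (MulAut.conj y).toMonoidHom) (conjBlock Q y f) := by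
    rw [mem_pairStab_conj]
    simpa [hz, mul_assoc] using (mem_pairStab x).2 ⟨hxN, hst⟩
  set a0 := y * q * y⁻¹ with ha0
  set a1 := z * a0 * z⁻¹ with ha1
  have hxq : x * q * x⁻¹ ∈ Q := (Subgroup.mem_normalizer_iff.1 hxN q).1 hq
  have hq1 : q ≠ 1 := fun h => hqx (by simp [h])
  have ha0Q : a0 ∈ Q.map (MulAut.conj y).toMonoidHom := ⟨q, hq, rfl⟩
  have ha1' : a1 = y * (x * q * x⁻¹) * y⁻¹ := by simp only [ha1, ha0, hz]; group
  have ha1Q : a1 ∈ Q.map (MulAut.conj y).toMonoidHom := ⟨_, hxq, ha1'.symm⟩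
  have h01 : a0 ≠ a1 := fun h => hqx (by
    rw [ha1', ha0] at h
    exact (mul_left_cancel (mul_right_cancel h)).symm)
  have h0 : a0 ≠ 1 := fun h => hq1 (conj_eq_one_iff.1 h)
  have h1 : a1 ≠ 1 := fun h => hq1 (conj_eq_one_iff.1 (conj_eq_one_iff.1 (ha1'.symm.trans h)))
  have hQD : Q.map (MulAut.conj y).toMonoidHom ≤ D := subpairLE_le hy
  have h3 : 3 ≤ Nat.card (Q.map (MulAut.conj y).toMonoidHom) := by
    have hsub : ({1, a0, a1} : Set G) ⊆ (Q.map (MulAut.conj y).toMonoidHom : Set G) := by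
      intro a ha
      rcases ha with rfl | rfl | rfl
      · exact one_mem _
      · exact ha0Q
      · exact ha1Q
    have := Set.ncard_le_ncard hsub
    rw [Set.ncard_insert_of_notMem (by simp [h0.symm, h1.symm]),
      Set.ncard_pair h01, ← Nat.card_coe_set_eq] at this
    exact this
  have hQeq : Q.map (MulAut.conj y).toMonoidHom = D := by
    refine Subgroup.eq_of_le_of_card_ge hQD ?_
    obtain ⟨c, hc⟩ := Subgroup.card_dvd_of_le hQD
    have hpos : 0 < Nat.card D := Nat.card_pos
    rcases c with _ | _ | c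
    · simp at hc
    · rw [zero_add, mul_one] at hc; exact hc.le
    · nlinarith
  have hzD : z ∈ pairStab D e := by
    have key : ∀ (R : Subgroup G) (g : Set (IrrCharacter (Subgroup.centralizer (R : Set G)))),
        R = D → z ∈ pairStab R g → IsPBlock M g → SubpairLE p M R g D e → z ∈ pairStab D e := by
      rintro R g rfl hzg hg hle
      obtain rfl := subpair_unique hM hmax.1.1.1 hmax.1.1.2 hg hmax.1.1.2 hle
        Relation.ReflTransGen.refl
      exact hzg
    exact key _ _ hQeq hzst (isPBlock_conjBlock hpair.1.2 y) hy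
  have hzN : ∀ a ∈ D, z * a * z⁻¹ ∈ D := fun a ha =>
    (Subgroup.mem_normalizer_iff.1 ((mem_pairStab z).1 hzD).1 a).1 ha
  have hzreg : ¬ p ∣ orderOf z := by rw [hz, conj_orderOf]; exact hreg
  have ha0D : a0 ∈ D := hQD ha0Q
  have ha1D : a1 ∈ D := hQD ha1Q
  -- the orbit of `a0` is everything
  have horb : ∀ v ∈ D, v ≠ 1 → ∃ t ∈ pairStab D e, t * a0 * t⁻¹ = v := by
    intro v hv hv1
    have hcase : Nat.card D = 3 ∨ Nat.card D = 4 := by rw [hQeq] at h3; omega
    rcases hcase with h | h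
    · have hsub : ({1, a0, a1} : Set G) ⊆ (D : Set G) := by
        intro a ha
        rcases ha with rfl | rfl | rfl
        · exact one_mem _
        · exact ha0D
        · exact ha1D
      have heq := Set.eq_of_subset_of_ncard_le hsub (by
        rw [Set.ncard_insert_of_notMem (by simp [h0.symm, h1.symm]), Set.ncard_pair h01,
          ← Nat.card_coe_set_eq]
        exact h.le)
      have hv' : v ∈ ({1, a0, a1} : Set G) := heq ▸ hv
      rcases hv' with rfl | rfl | rfl
      · exact absurd rfl hv1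
      · exact ⟨1, one_mem _, by simp⟩
      · exact ⟨z, hzD, rfl⟩
    · set a2 := z * a1 * z⁻¹ with ha2
      have h12 : a1 ≠ a2 := fun he => h01 (by
        rw [ha2] at he
        nth_rewrite 1 [ha1] at he
        exact mul_left_cancel (mul_right_cancel he))
      have h20 : a2 ≠ a0 := by
        intro he
        have hz2 : z ^ 2 ∈ Subgroup.centralizer ({a0} : Set G) := by
          rw [Subgroup.mem_centralizer_singleton_iff]
          calc z ^ 2 * a0 = a2 * z ^ 2 := by rw [ha2, ha1, pow_two]; group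
            _ = a0 * z ^ 2 := by rw [he]
        have hp2 : p = 2 := by
          have hdvd : p ∣ 2 ^ 2 := by
            have hc := card_defectGroup hM hB hD
            rw [h] at hc
            have hd : blockDefect p B ≠ 0 := fun h0' => by rw [h0', pow_zero] at hc; omega
            rw [show (2 : ℕ) ^ 2 = 4 from rfl, hc]
            exact dvd_pow_self p hd
          exact (Nat.prime_dvd_prime_iff_eq hM.1 Nat.prime_two).1 (hM.1.dvd_of_dvd_pow hdvd)
        obtain ⟨j, hj⟩ : ∃ j, orderOf z = 2 * j + 1 := by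
          have : ¬ 2 ∣ orderOf z := hp2 ▸ hzreg
          exact ⟨orderOf z / 2, by omega⟩
        have hzc : z ∈ Subgroup.centralizer ({a0} : Set G) := by
          have hzj : z = ((z ^ 2) ^ j)⁻¹ := by
            rw [← pow_mul, eq_inv_iff_mul_eq_one, ← pow_succ', ← hj, pow_orderOf_eq_one]
          rw [hzj]
          exact inv_mem (pow_mem hz2 j)
        apply h01
        rw [ha1, Subgroup.mem_centralizer_singleton_iff.1 hzc, mul_inv_cancel_right]
      have h2 : a2 ≠ 1 := fun he => h1 (conj_eq_one_iff.1 he)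
      have hsub : ({1, a0, a1, a2} : Set G) ⊆ (D : Set G) := by
        intro a ha
        rcases ha with rfl | rfl | rfl | rfl
        · exact one_mem _
        · exact ha0D
        · exact ha1D
        · exact hzN _ ha1D
      have heq := Set.eq_of_subset_of_ncard_le hsub (by
        rw [Set.ncard_insert_of_notMem (by simp [h0.symm, h1.symm, h2.symm]),
          Set.ncard_insert_of_notMem (by simp [h01, h20.symm]), Set.ncard_pair h12,
          ← Nat.card_coe_set_eq]
        exact h.le)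
      have hv' : v ∈ ({1, a0, a1, a2} : Set G) := heq ▸ hv
      rcases hv' with rfl | rfl | rfl | rfl
      · exact absurd rfl hv1
      · exact ⟨1, one_mem _, by simp⟩
      · exact ⟨z, hzD, rfl⟩
      · exact ⟨z * z, mul_mem hzD hzD, by simp only [ha2, ha1]; group⟩
  have htrans : ∀ u ∈ D, u ≠ 1 → ∀ v ∈ D, v ≠ 1 → ∃ t ∈ pairStab D e, t * u * t⁻¹ = v := by
    intro u hu hu1 v hv hv1
    obtain ⟨s, hs, rfl⟩ := horb u hu hu1
    obtain ⟨t, ht, rfl⟩ := horb v hv hv1
    exact ⟨t * s⁻¹, mul_mem ht (inv_mem hs), by group⟩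
  have hcD := card_defectGroup hM hB hD
  have hcomm : ∀ a ∈ D, ∀ c ∈ D, a * c = c * a := by
    intro a ha c hc
    haveI : IsMulCommutative D := by
      rcases (show Nat.card D = 3 ∨ Nat.card D = 4 by rw [hQeq] at h3; omega) with h | h
      · haveI : Fact (Nat.Prime 3) := ⟨Nat.prime_three⟩
        haveI : IsCyclic D := isCyclic_of_prime_card h
        exact IsCyclic.isMulCommutative
      · haveI : Fact (Nat.Prime 2) := ⟨Nat.prime_two⟩
        exact IsPGroup.isMulCommutative_of_card_eq_prime_sq (h.trans (by norm_num) :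
          Nat.card D = 2 ^ 2)
    exact congrArg Subtype.val ((IsMulCommutative.is_comm (M := D)).comm ⟨a, ha⟩ ⟨c, hc⟩)
  -- the blocks of the subsections
  have hdef : ∀ u ∈ D,
      ∀ g : Set (IrrCharacter (Subgroup.centralizer ((Subgroup.zpowers u : Subgroup G) : Set G))),
        SubpairLE p M (Subgroup.zpowers u) g D e →
        IsPBlock M g ∧ p ^ blockDefect p g = Nat.card D := by
    intro u hu g hg
    have hgb := subpairLE_left_block hmax.1.1.2 hg
    have hle : Subgroup.zpowers u ≤ D := Subgroup.zpowers_le.2 hu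
    have hDC : D ≤ Subgroup.centralizer ((Subgroup.zpowers u : Subgroup G) : Set G) :=
      fun a ha => (isCentr_zpowers u a).2 (hcomm a ha u hu)
    have e1 := card_centP_le hM hmax.1.1.1 hle hgb hmax.1.1.2 hg
    rw [inf_eq_left.2 hDC] at e1
    obtain ⟨w, -, e2⟩ := exists_conj_centP hM hmax hgb hg
    exact ⟨hgb, le_antisymm (e2.le.trans (Subgroup.card_le_of_le inf_le_left)) e1⟩
  rcases (show Nat.card D = 3 ∨ Nat.card D = 4 by rw [hQeq] at h3; omega) with h | h
  · have := card_le_of_transitive hM hmax htrans 1 fun u hu hu1 g hg => ?_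
    · omega
    obtain ⟨hgb, hgd⟩ := hdef u hu g hg
    haveI := Fintype.ofFinite (Subgroup.centralizer ((Subgroup.zpowers u : Subgroup G) : Set G))
    let u' : Subgroup.centralizer ((Subgroup.zpowers u : Subgroup G) : Set G) :=
      ⟨u, (isCentr_zpowers u).self_mem⟩
    have hou : orderOf u = 3 := by
      haveI : Fact (Nat.Prime 3) := ⟨Nat.prime_three⟩
      refine orderOf_eq_prime ?_ hu1
      have hpow := pow_card_eq_one' (G := D) (x := ⟨u, hu⟩)
      rw [h] at hpow
      exact congrArg Subtype.val hpow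
    have hcardu : Nat.card (Subgroup.zpowers u') = p ^ blockDefect p g := by
      rw [Nat.card_zpowers, hgd, h, ← hou]
      exact (Subgroup.orderOf_coe u').symm
    have huc : u' ∈ Subgroup.center _ := Subgroup.mem_center_iff.2 fun a =>
      Subtype.ext ((isCentr_zpowers u a).1 a.2)
    haveI : (Subgroup.zpowers u').Normal := normal_of_central (Subgroup.zpowers_le.2 huc)
    refine le_of_eq (blockRank_pcent (P := Subgroup.zpowers u') hM (IsPGroup.of_card hcardu) ?_ hgb
      hcardu)
    refine eq_top_iff.2 fun a _ => Subgroup.mem_sup_right ?_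
    rintro _ ⟨i, rfl⟩
    exact ((Commute.zpow_left (Subgroup.mem_center_iff.1 huc a).symm i)).eq
  · have hp2 : p = 2 := by
      have hd : blockDefect p B ≠ 0 := fun h0' => by rw [h0', pow_zero] at hcD; omega
      refine (Nat.prime_dvd_prime_iff_eq hM.1 Nat.prime_two).1 (hM.1.dvd_of_dvd_pow (n := 2) ?_)
      rw [show (2 : ℕ) ^ 2 = Nat.card D from h.symm, hcD]
      exact dvd_pow_self p hd
    subst hp2
    have := card_le_of_transitive hM hmax htrans 2 fun u hu hu1 g hg => ?_
    · omega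
    obtain ⟨hgb, hgd⟩ := hdef u hu g hg
    haveI := Fintype.ofFinite (Subgroup.centralizer ((Subgroup.zpowers u : Subgroup G) : Set G))
    obtain ⟨D', hD'⟩ := exists_defectGroup hM hgb
    have hd2 : blockDefect 2 g = 2 := Nat.pow_right_injective le_rfl (hgd.trans h)
    obtain ⟨w, hw⟩ := exists_prime_orderOf_dvd_card' (G := D) 2 (by rw [h]; norm_num)
    have hw1 : (w : G) ≠ 1 := fun he => by
      rw [← Subgroup.orderOf_coe, he, orderOf_one] at hw
      norm_num at hw
    obtain ⟨t, -, ht⟩ := htrans (w : G) w.2 hw1 u hu hu1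
    have hou : orderOf u = 2 := by rw [← ht, conj_orderOf, Subgroup.orderOf_coe, hw]
    exact rank_klein_central hM hgb hD' hd2
      (z := ⟨u, (isCentr_zpowers u).self_mem⟩)
      (Subgroup.mem_center_iff.2 fun a => Subtype.ext ((isCentr_zpowers u a).1 a.2))
      (by rw [Subgroup.orderOf_mk, hou])

end CfsgLib.Blocks
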