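import Cfsg.Agent.Lib.Blocks.PairDefect
import Cfsg.Agent.Lib.Fusion.Basic
import Cfsg.Agent.Lib.Fusion.Saturation
import Cfsg.Prelude.Def_BlockFusion

/-!
# The fusion system of a block on a maximal Brauer pair
-/

namespace CfsgLib.Blocks

open Cfsg CfsgLib.CharTheory

set_option linter.unusedVariables false
set_option linter.unusedSimpArgs false
set_option linter.style.haveILetI false
set_option linter.unusedSectionVars false

universe u

variable {p : ℕ} {M : Ideal AlgInt} {G : Type u} [Group G] [Fintype G]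

theorem subpair_unique (hM : IsPModular p M) {Q P : Subgroup G} (hP : IsPGroup p P)
    {e : Set (IrrCharacter (Subgroup.centralizer (P : Set G)))} (he : IsPBlock M e)
    {f f' : Set (IrrCharacter (Subgroup.centralizer (Q : Set G)))} (hf : IsPBlock M f)
    (hf' : IsPBlock M f') (h : SubpairLE p M Q f P e) (h' : SubpairLE p M Q f' P e) : f = f' := by
  obtain ⟨u, -, hu⟩ := existsUnique_subpair hM hP he Q (subpairLE_le (a := ⟨Q, f⟩) (b := ⟨P, e⟩) h)
  exact (hu f ⟨hf, h⟩).trans (hu f' ⟨hf', h'⟩).symm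

theorem subpairLE_left_block {Q P : Subgroup G}
    {f : Set (IrrCharacter (Subgroup.centralizer (Q : Set G)))}
    {e : Set (IrrCharacter (Subgroup.centralizer (P : Set G)))} (he : IsPBlock M e)
    (h : SubpairLE p M Q f P e) : IsPBlock M f := by
  rcases Relation.ReflTransGen.cases_head h with h1 | ⟨c, h1, -⟩
  · obtain ⟨h2, h3⟩ := Sigma.mk.inj_iff.1 h1
    subst h2
    rw [eq_of_heq h3]; exact he
  · exact h1.1.2

theorem conjIdx_self (hM : IsPModular p M) (P : Subgroup G)
    (e : Set (IrrCharacter (Subgroup.centralizer (P : Set G)))) {y : G} (hy : y ∈ P) :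
    conjIdx y (⟨P, e⟩ : BrauerPairIdx G) = ⟨P, e⟩ :=
  (stab_iff_idx y).1 ⟨Subgroup.le_normalizer hy, stabilizes_self hM e hy⟩

theorem subpair_conj_mem (hM : IsPModular p M) {P : Subgroup G}
    {e : Set (IrrCharacter (Subgroup.centralizer (P : Set G)))} {a : BrauerPairIdx G}
    (h : Relation.ReflTransGen (NormalSubpairRel p M) a ⟨P, e⟩) {y : G} (hy : y ∈ P) :
    Relation.ReflTransGen (NormalSubpairRel p M) (conjIdx y a) ⟨P, e⟩ := by
  have h1 := subpair_conj hM h y
  rwa [conjIdx_self hM P e hy] at h1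

section

variable {B : Set (IrrCharacter G)} {P : Subgroup G}
  {e : Set (IrrCharacter (Subgroup.centralizer (P : Set G)))}

/-- The fusion system of a block. -/
noncomputable def blockFusion (hM : IsPModular p M) (hmax : IsMaximalBrauerPair p M B P e) :
    FusionSystem P where
  Hom Q := {φ | Q ≤ P ∧ ∃ g : G, (∀ u : Q, φ u = g * (u : G) * g⁻¹) ∧
    Q.map (MulAut.conj g).toMonoidHom ≤ P ∧
    ∃ f : Set (IrrCharacter (Subgroup.centralizer (Q : Set G))),
      SubpairLE p M Q f P e ∧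
        SubpairLE p M (Q.map (MulAut.conj g).toMonoidHom) (conjBlock Q g f) P e}
  le_of_mem := by
    rintro Q φ ⟨hQ, g, hg, hgP, -⟩
    exact ⟨hQ, fun x => by rw [hg]; exact hgP ⟨x, x.2, rfl⟩⟩
  injective_of_mem := by
    rintro Q φ ⟨-, g, hg, -⟩ a b hab
    rw [hg, hg] at hab
    exact Subtype.ext (mul_left_cancel (mul_right_cancel hab))
  conj_mem := by
    intro Q g hQ hg
    obtain ⟨f, ⟨-, hle⟩, -⟩ := existsUnique_subpair hM hmax.1.1.1 hmax.1.1.2 Q hQ
    refine ⟨hQ, g, fun _ => rfl, ?_, f, hle, subpair_conj_mem hM hle hg⟩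
    rintro _ ⟨x, hx, rfl⟩
    exact P.mul_mem (P.mul_mem hg (hQ hx)) (P.inv_mem hg)
  comp_mem := by
    rintro Q R φ ψ ⟨hQ, g, hg, hgP, f, hf, hfg⟩ ⟨hR, h, hh, hhP, k, hk, hkh⟩ hφR
    have hQR : Q.map (MulAut.conj g).toMonoidHom ≤ R := by
      rintro _ ⟨x, hx, rfl⟩
      have := hφR ⟨x, hx⟩
      rw [hg] at this
      exact this
    have he := hmax.1.1.2
    have hkB := subpairLE_left_block he hk
    obtain ⟨f₂, ⟨hf₂, hle₂⟩, -⟩ :=
      existsUnique_subpair hM (hmax.1.1.1.to_le hR) hkB _ hQR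
    have e1 : f₂ = conjBlock Q g f := subpair_unique hM hmax.1.1.1 he hf₂
      (isPBlock_conjBlock (subpairLE_left_block he hf) g) (hle₂.trans hk) hfg
    subst e1
    have hcomp : Relation.ReflTransGen (NormalSubpairRel p M) (conjIdx (h * g) ⟨Q, f⟩) ⟨P, e⟩ := by
      rw [← conjIdx_mul]
      exact (subpair_conj hM hle₂ h).trans hkh
    refine ⟨hQ, h * g, fun u => ?_, subpairLE_le hcomp, f, hf, hcomp⟩
    show ψ ⟨φ u, hφR u⟩ = _
    rw [hh]
    show h * φ u * h⁻¹ = _
    rw [hg]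
    group
  inv_mem := by
    rintro Q φ ⟨hQ, g, hg, hgP, f, hf, hfg⟩
    have hr : φ.range = Q.map (MulAut.conj g).toMonoidHom := by
      ext y
      constructor
      · rintro ⟨x, rfl⟩; exact ⟨x, x.2, (hg x).symm⟩
      · rintro ⟨x, hx, rfl⟩; exact ⟨⟨x, hx⟩, hg _⟩
    have hsrc : φ.range ≤ P := hr.trans_le hgP
    refine ⟨conjHom φ.range g⁻¹, ⟨hsrc, g⁻¹, fun _ => rfl, ?_, ?_⟩, fun x => ?_⟩
    · rw [hr, conjMap_mul, inv_mul_cancel, conjMap_one]; exact hQ
    · suffices h : ∀ (R : Subgroup G), R = Q.map (MulAut.conj g).toMonoidHom →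
          ∃ f' : Set (IrrCharacter (Subgroup.centralizer (R : Set G))),
            SubpairLE p M R f' P e ∧
              SubpairLE p M (R.map (MulAut.conj g⁻¹).toMonoidHom) (conjBlock R g⁻¹ f') P e by
        exact h _ hr
      rintro R rfl
      refine ⟨_, hfg, ?_⟩
      show Relation.ReflTransGen (NormalSubpairRel p M) (conjIdx g⁻¹ (conjIdx g ⟨Q, f⟩)) ⟨P, e⟩
      rw [conjIdx_mul, inv_mul_cancel, conjIdx_one]
      exact hf
    · show g⁻¹ * φ x * g⁻¹⁻¹ = x
      rw [hg]; group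

theorem blockFusion_isBlockFusion (hM : IsPModular p M)
    (hmax : IsMaximalBrauerPair p M B P e) :
    IsBlockFusionSystemOn p M B P e (blockFusion hM hmax) :=
  ⟨hmax, fun _ _ => Iff.rfl⟩

variable {F : FusionSystem P} {Q : Subgroup G}
  {f : Set (IrrCharacter (Subgroup.centralizer (Q : Set G)))}

theorem isConj_block_iff (hM : IsPModular p M) (hF : IsBlockFusionSystemOn p M B P e F)
    (hf : IsPBlock M f) (hle : SubpairLE p M Q f P e) {R : Subgroup G} :
    F.IsConj Q R ↔ ∃ g : G, Q.map (MulAut.conj g).toMonoidHom = R ∧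
      SubpairLE p M (Q.map (MulAut.conj g).toMonoidHom) (conjBlock Q g f) P e := by
  constructor
  · rintro ⟨φ, hφ, rfl⟩
    obtain ⟨hQ, g, hg, hgP, f', hf', hfg'⟩ := (hF.2 Q φ).1 hφ
    have e1 : f = f' := subpair_unique hM hF.1.1.1.1 hF.1.1.1.2 hf
      (subpairLE_left_block hF.1.1.1.2 hf') hle hf'
    subst e1
    refine ⟨g, ?_, hfg'⟩
    ext y
    constructor
    · rintro ⟨x, hx, rfl⟩; exact ⟨⟨x, hx⟩, hg _⟩
    · rintro ⟨x, rfl⟩; exact ⟨x, x.2, (hg x).symm⟩
  · rintro ⟨g, rfl, hfg⟩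
    refine ⟨conjHom Q g, (hF.2 Q _).2 ⟨subpairLE_le (a := ⟨Q, f⟩) (b := ⟨P, e⟩) hle, g,
      fun _ => rfl, subpairLE_le (a := ⟨_, _⟩) (b := ⟨P, e⟩) hfg, f, hle, hfg⟩, ?_⟩
    rw [conjHom, MonoidHom.range_comp, Subgroup.range_subtype]

theorem card_centP_le_conj (hM : IsPModular p M) (hF : IsBlockFusionSystemOn p M B P e F)
    (hf : IsPBlock M f) (hle : SubpairLE p M Q f P e) {R : Subgroup G} (h : F.IsConj Q R) :
    Nat.card (P ⊓ Subgroup.centralizer (R : Set G) : Subgroup G) ≤ p ^ blockDefect p f := by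
  obtain ⟨g, rfl, hfg⟩ := (isConj_block_iff hM hF hf hle).1 h
  rw [← blockDefect_conjBlock (p := p) Q g f]
  exact card_centP_le hM hF.1.1.1.1 (subpairLE_le (a := ⟨_, _⟩) (b := ⟨P, e⟩) hfg)
    (isPBlock_conjBlock hf g) hF.1.1.1.2 hfg

theorem exists_isConj_centP (hM : IsPModular p M) (hF : IsBlockFusionSystemOn p M B P e F)
    (hf : IsPBlock M f) (hle : SubpairLE p M Q f P e) :
    ∃ R, F.IsConj Q R ∧
      p ^ blockDefect p f = Nat.card (P ⊓ Subgroup.centralizer (R : Set G) : Subgroup G) := by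
  obtain ⟨x, hx, hc⟩ := exists_conj_centP hM hF.1 hf hle
  exact ⟨_, (isConj_block_iff hM hF hf hle).2 ⟨x, rfl, hx⟩, hc⟩

theorem isDefectGroup_card_centP (hM : IsPModular p M) (hf : IsPBlock M f)
    (h : IsDefectGroup p M f
      ((P ⊓ Subgroup.centralizer (Q : Set G)).subgroupOf (Subgroup.centralizer (Q : Set G)))) :
    Nat.card (P ⊓ Subgroup.centralizer (Q : Set G) : Subgroup G) = p ^ blockDefect p f := by
  haveI := Fintype.ofFinite (Subgroup.centralizer (Q : Set G))
  rw [← card_defectGroup hM hf h, Nat.card_congr (Subgroup.subgroupOfEquivOfLe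
    (inf_le_right : P ⊓ Subgroup.centralizer (Q : Set G) ≤ _)).toEquiv]

theorem fullyCentralized_iff (hM : IsPModular p M) (hF : IsBlockFusionSystemOn p M B P e F)
    (hf : IsPBlock M f) (hle : SubpairLE p M Q f P e) :
    F.IsFullyCentralized Q ↔ IsDefectGroup p M f
      ((P ⊓ Subgroup.centralizer (Q : Set G)).subgroupOf (Subgroup.centralizer (Q : Set G))) := by
  have hQP : Q ≤ P := subpairLE_le (a := ⟨Q, f⟩) (b := ⟨P, e⟩) hle
  constructor
  · intro h
    obtain ⟨R, hR, hc⟩ := exists_isConj_centP hM hF hf hle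
    exact isDefect_centP hM hF.1.1.1.1 hQP hf hF.1.1.1.2 hle (hc.le.trans (h.2 R hR))
  · intro h
    refine ⟨hQP, fun R hR => ?_⟩
    have h1 := card_centP_le_conj hM hF hf hle hR
    rw [← isDefectGroup_card_centP hM hf h] at h1
    exact h1

theorem card_map_center (Q : Subgroup G) (g : G) :
    Nat.card ((Q.map (MulAut.conj g).toMonoidHom) ⊓ Subgroup.centralizer
      ((Q.map (MulAut.conj g).toMonoidHom : Subgroup G) : Set G) : Subgroup G) =
      Nat.card (Q ⊓ Subgroup.centralizer (Q : Set G) : Subgroup G) := by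
  have h : (Q.map (MulAut.conj g).toMonoidHom) ⊓ Subgroup.centralizer
      ((Q.map (MulAut.conj g).toMonoidHom : Subgroup G) : Set G) =
      (Q ⊓ Subgroup.centralizer (Q : Set G)).map (MulAut.conj g).toMonoidHom := by
    ext y
    rw [Subgroup.mem_inf, conjMap_mem_iff, conj_mem_cent_iff, conjMap_mem_iff, Subgroup.mem_inf]
  rw [h, card_map_conj]

theorem centric_iff (hM : IsPModular p M) (hF : IsBlockFusionSystemOn p M B P e F)
    (hf : IsPBlock M f) (hle : SubpairLE p M Q f P e) :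
    F.IsCentric Q ↔ IsDefectGroup p M f
      ((Q ⊓ Subgroup.centralizer (Q : Set G)).subgroupOf (Subgroup.centralizer (Q : Set G))) := by
  haveI := Fintype.ofFinite (Subgroup.centralizer (Q : Set G))
  have hQP : Q ≤ P := subpairLE_le (a := ⟨Q, f⟩) (b := ⟨P, e⟩) hle
  have hcard : Nat.card ((Q ⊓ Subgroup.centralizer (Q : Set G)).subgroupOf
      (Subgroup.centralizer (Q : Set G))) =
      Nat.card (Q ⊓ Subgroup.centralizer (Q : Set G) : Subgroup G) :=
    Nat.card_congr (Subgroup.subgroupOfEquivOfLe inf_le_right).toEquiv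
  constructor
  · intro h
    obtain ⟨R, hR, hc⟩ := exists_isConj_centP hM hF hf hle
    obtain ⟨g, hgR, hfg⟩ := (isConj_block_iff hM hF hf hle).1 hR
    obtain ⟨D, hD, hle'⟩ := centP_le_defect hM hF.1.1.1.1 hQP hf hF.1.1.1.2 hle
    have hsub : (Q ⊓ Subgroup.centralizer (Q : Set G)).subgroupOf
        (Subgroup.centralizer (Q : Set G)) ≤ D := fun y hy =>
      hle' (Subgroup.mem_subgroupOf.2
        ⟨hQP (Subgroup.mem_subgroupOf.1 hy).1, (Subgroup.mem_subgroupOf.1 hy).2⟩)
    refine (Subgroup.eq_of_le_of_card_ge hsub ?_) ▸ hD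
    rw [card_defectGroup hM hf hD, hc, hcard, ← card_map_center Q g, hgR]
    exact Subgroup.card_le_of_le (le_inf (h.2 R hR) inf_le_right)
  · intro h
    refine ⟨hQP, fun R hR => ?_⟩
    have h1 := card_centP_le_conj hM hF hf hle hR
    have h2 := (isConj_block_iff hM hF hf hle).1 hR
    obtain ⟨g, hgR, -⟩ := h2
    rw [← card_defectGroup hM hf h, hcard, ← card_map_center Q g, hgR] at h1
    have h3 : R ⊓ Subgroup.centralizer (R : Set G) ≤ P ⊓ Subgroup.centralizer (R : Set G) :=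
      inf_le_inf_right _ hR.le_right
    exact (Subgroup.eq_of_le_of_card_ge h3 h1).ge.trans inf_le_left

theorem card_normP_le_conj (hM : IsPModular p M) (hF : IsBlockFusionSystemOn p M B P e F)
    (hf : IsPBlock M f) (hle : SubpairLE p M Q f P e)
    {F₁ : Set (IrrCharacter (pairStab Q f))} (hF₁ : IsPBlock M F₁)
    (hcoef : ∀ t : pairStab Q f, blockCoeff F₁ t =
      subgroupBlockCoeff (Subgroup.centralizer (Q : Set G)) f (t : G))
    {R : Subgroup G} (h : F.IsConj Q R) :
    Nat.card (P ⊓ Subgroup.normalizer (R : Set G) : Subgroup G) ≤ p ^ blockDefect p F₁ := by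
  obtain ⟨g, rfl, hfg⟩ := (isConj_block_iff hM hF hf hle).1 h
  rw [← blockDefect_image (p := p) (stabE Q f g) F₁]
  exact (card_normP_le hM hF.1.1.1.1 (subpairLE_le (a := ⟨_, _⟩) (b := ⟨P, e⟩) hfg)
    (isPBlock_conjBlock hf g) hF.1.1.1.2 hfg (isPBlock_image _ hF₁) (stabBlock_conj g hcoef)).2

theorem fullyNormalized_iff (hM : IsPModular p M) (hF : IsBlockFusionSystemOn p M B P e F)
    (hf : IsPBlock M f) (hle : SubpairLE p M Q f P e)
    {F₁ : Set (IrrCharacter (pairStab Q f))} (hF₁ : IsPBlock M F₁)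
    (hcoef : ∀ t : pairStab Q f, blockCoeff F₁ t =
      subgroupBlockCoeff (Subgroup.centralizer (Q : Set G)) f (t : G)) :
    F.IsFullyNormalized Q ↔ IsDefectGroup p M F₁
      ((P ⊓ Subgroup.normalizer (Q : Set G)).subgroupOf (pairStab Q f)) := by
  haveI := Fintype.ofFinite (pairStab Q f)
  have hQP : Q ≤ P := subpairLE_le (a := ⟨Q, f⟩) (b := ⟨P, e⟩) hle
  constructor
  · intro h
    obtain ⟨x, hx, hc⟩ := exists_conj_normP hM hF.1 hf hle hF₁ hcoef
    exact isDefect_normP hM hF.1.1.1.1 hQP hf hF.1.1.1.2 hle hF₁ hcoef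
      (hc.le.trans (h.2 _ ((isConj_block_iff hM hF hf hle).2 ⟨x, rfl, hx⟩)))
  · intro h
    refine ⟨hQP, fun R hR => ?_⟩
    have h1 := card_normP_le_conj hM hF hf hle hF₁ hcoef hR
    rw [← card_defectGroup hM hF₁ h, Nat.card_congr (Subgroup.subgroupOfEquivOfLe
      (normP_le_pairStab hM hF.1.1.1.1 hQP hf hF.1.1.1.2 hle)).toEquiv] at h1
    exact h1

theorem autGroup_block (hM : IsPModular p M) (hF : IsBlockFusionSystemOn p M B P e F)
    (hf : IsPBlock M f) (hle : SubpairLE p M Q f P e) :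
    F.autGroup Q = autInducedBy (pairStab Q f) Q := by
  have hQP : Q ≤ P := subpairLE_le (a := ⟨Q, f⟩) (b := ⟨P, e⟩) hle
  have he := hF.1.1.1.2
  ext α
  rw [F.mem_autGroup_iff hQP, hF.2, mem_autInducedBy_iff]
  constructor
  · rintro ⟨-, g, hg, hgP, f', hf', hfg'⟩
    have e1 : f = f' := subpair_unique hM hF.1.1.1.1 he hf (subpairLE_left_block he hf') hle hf'
    subst e1
    have hgQ : Q.map (MulAut.conj g).toMonoidHom = Q := by
      refine Subgroup.eq_of_le_of_card_ge ?_ (card_map_conj Q g).ge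
      rintro _ ⟨x, hx, rfl⟩
      have h2 : ((α ⟨x, hx⟩ : Q) : G) = g * x * g⁻¹ := hg ⟨x, hx⟩
      have h3 := (α ⟨x, hx⟩).2
      rw [h2] at h3
      exact h3
    have hgN : g ∈ Subgroup.normalizer (Q : Set G) := by
      rw [Subgroup.mem_normalizer_iff]
      intro r
      conv_rhs => rw [← hgQ, conjMap_mem_iff]
      simp [mul_assoc]
    refine ⟨g, (mem_pairStab g).2 ⟨hgN, (stabilizesBlock_iff (normalizer_le_normalizer_cent Q hgN)).2 ?_⟩,
      hgN, fun x => hg x⟩
    have h2 : Relation.ReflTransGen (NormalSubpairRel p M) ⟨Q, rot hgN f⟩ ⟨P, e⟩ :=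
      conjIdx_normalizer hgN f ▸ hfg'
    exact subpair_unique hM hF.1.1.1.1 he (isPBlock_image _ hf) hf h2 hle
  · rintro ⟨g, hgT, hgN, hg⟩
    refine ⟨hQP, g, fun u => hg u, (map_conj_normalizer hgN).le.trans hQP, f, hle, ?_⟩
    show Relation.ReflTransGen (NormalSubpairRel p M) (conjIdx g ⟨Q, f⟩) ⟨P, e⟩
    rw [(stab_iff_idx g).1 ((mem_pairStab g).1 hgT)]
    exact hle

end

/-- Some class with unit coefficient is fixed by a given `p`-group stabilizing `f`. -/
theorem exists_fixed_unit (hM : IsPModular p M) {Q : Subgroup G}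
    {f : Set (IrrCharacter (Subgroup.centralizer (Q : Set G)))} (hf : IsPBlock M f)
    {R : Subgroup G} (hR : IsPGroup p R) (hRT : R ≤ pairStab Q f) :
    ∃ c : Subgroup.centralizer (Q : Set G), res hM (blockCoeff f c) ≠ 0 ∧
      ∀ r ∈ R, ∃ k ∈ Subgroup.centralizer (Q : Set G),
        k * (c : G) * k⁻¹ = r * (c : G) * r⁻¹ := by
  classical
  haveI := res_isDomain hM
  haveI := Fintype.ofFinite (Subgroup.centralizer (Q : Set G))
  haveI := Fintype.ofFinite (ConjClasses (Subgroup.centralizer (Q : Set G)))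
  obtain ⟨η, hη⟩ := bne hM hf
  have hN : ∀ r : R, (r : G) ∈ Subgroup.normalizer
      (Subgroup.centralizer (Q : Set G) : Set G) := fun r =>
    ((mem_pairStab (r : G)).1 (hRT r.2)).2.1
  letI : MulAction R (ConjClasses (Subgroup.centralizer (Q : Set G))) :=
    { smul := fun r C => ConjClasses.map ((conjE (hN r)).symm.toMonoidHom) C
      one_smul := fun C => by
        obtain ⟨k, rfl⟩ := ConjClasses.exists_rep C
        show ConjClasses.mk ((conjE (hN 1)).symm k) = _
        congr 1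
        apply Subtype.ext
        show ((1 : R) : G) * (k : G) * ((1 : R) : G)⁻¹ = k
        simp
      mul_smul := fun r s C => by
        obtain ⟨k, rfl⟩ := ConjClasses.exists_rep C
        show ConjClasses.mk ((conjE (hN (r * s))).symm k) =
          ConjClasses.mk ((conjE (hN r)).symm ((conjE (hN s)).symm k))
        congr 1
        apply Subtype.ext
        show ((r * s : R) : G) * (k : G) * ((r * s : R) : G)⁻¹ =
          (r : G) * ((s : G) * (k : G) * (s : G)⁻¹) * (r : G)⁻¹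
        simp [mul_assoc] }
  have hacl := blockCoeff_isClassFunction (G := Subgroup.centralizer (Q : Set G)) f
  have hm : ∀ C : ConjClasses (Subgroup.centralizer (Q : Set G)),
      MemLocalRing M (blockCoeff f (crep C) * clv (crep C) η) := fun C =>
    (loc hM).mul_mem (memRing_blockCoeff hM hf _) (memRing_clv hM _ η)
  have hinv : ∀ (r : R) (C : ConjClasses (Subgroup.centralizer (Q : Set G))),
      res hM (blockCoeff f (crep (r • C)) * clv (crep (r • C)) η) =
        res hM (blockCoeff f (crep C) * clv (crep C) η) := by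
    intro r C
    have hst := ((mem_pairStab (r : G)).1 (hRT r.2)).2
    set k := crep C with hk
    set k' := crep (r • C) with hk'
    have hmk : IsConj ((conjE (hN r)).symm k) k' := by
      rw [← ConjClasses.mk_eq_mk_iff_isConj, hk', mk_crep]
      show _ = ConjClasses.map ((conjE (hN r)).symm.toMonoidHom) C
      conv_rhs => rw [← mk_crep C]
      rfl
    have h2 : IsConj k (conjE (hN r) k') := by
      have := (conjE (hN r)).toMonoidHom.map_isConj hmk
      simpa using this
    have ea : blockCoeff f k' = blockCoeff f k := by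
      rw [blockCoeff_of_stabilizes hst k']
      exact (classFun_eq_of_isConj hacl h2).symm
    have ec : res hM (clv k' η) = res hM (clv k η) := by
      have hmem : irrPull (conjE (hN r)) η ∈ f := by
        rw [← (stabilizesBlock_iff (hN r)).1 hst]
        exact ⟨η, hη, rfl⟩
      rw [(sameBlock_iff_res hM η _).1 (sameBlock_of_mem hM hf hη hmem) k']
      congr 1
      show centralChar (fun x => (η : _ → ℂ) (conjE (hN r) x)) k' = centralChar (η : _ → ℂ) k
      rw [centralChar_comp, centralChar_eq_sum, centralChar_eq_sum]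
      congr 1
      exact Finset.sum_congr (Finset.filter_congr fun y _ =>
        ⟨fun h => h2.trans h, fun h => h2.symm.trans h⟩) fun _ _ => rfl
    rw [res_mul hM (memRing_blockCoeff hM hf _) (memRing_clv hM _ η),
      res_mul hM (memRing_blockCoeff hM hf _) (memRing_clv hM _ η), ea, ec]
  have h1 : ∑ C : ConjClasses (Subgroup.centralizer (Q : Set G)),
      res hM (blockCoeff f (crep C) * clv (crep C) η) = 1 := by
    rw [← res_sum hM fun C _ => hm C]
    show res hM (∑ C : ConjClasses (Subgroup.centralizer (Q : Set G)),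
      blockCoeff f (crep C) * centralChar (η : _ → ℂ) (crep C)) = 1
    rw [← omega_eq_sum_classes hacl, ← cf_ind, omega_cf, ind_of_mem hη, res_one]
  rw [sum_fixedPoints hM hR _ hinv] at h1
  obtain ⟨C, hC, hne⟩ := Finset.exists_ne_zero_of_sum_ne_zero (by rw [h1]; exact one_ne_zero)
  refine ⟨crep C, fun h => hne (by
    rw [res_mul hM (memRing_blockCoeff hM hf _) (memRing_clv hM _ η), h, zero_mul]),
    fun r hr => ?_⟩
  have hfix := (Finset.mem_filter.1 hC).2 ⟨r, hr⟩
  have hfix' : ConjClasses.map ((conjE (hN ⟨r, hr⟩)).symm.toMonoidHom)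
      (ConjClasses.mk (crep C)) = ConjClasses.mk (crep C) := by
    rw [mk_crep]; exact hfix
  obtain ⟨k, hk⟩ := isConj_iff.1 (ConjClasses.mk_eq_mk_iff_isConj.1
    (show ConjClasses.mk (crep C) = ConjClasses.mk ((conjE (hN ⟨r, hr⟩)).symm (crep C)) from
      hfix'.symm))
  exact ⟨k, k.2, congrArg Subtype.val hk⟩

/-- Conjugation of `T ≤ N(Q)` on `Q`. -/
def autHom (Q : Subgroup G) {T : Subgroup G} (hTN : T ≤ Subgroup.normalizer (Q : Set G)) :
    T →* MulAut Q :=
  Q.normalizerMonoidHom.comp (Subgroup.inclusion hTN)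

theorem autHom_apply (Q : Subgroup G) {T : Subgroup G}
    (hTN : T ≤ Subgroup.normalizer (Q : Set G)) (t : T) (q : Q) :
    ((autHom Q hTN t q : Q) : G) = (t : G) * q * (t : G)⁻¹ := rfl

theorem map_autHom (Q : Subgroup G) {T : Subgroup G}
    (hTN : T ≤ Subgroup.normalizer (Q : Set G)) (K : Subgroup G) :
    (K.subgroupOf T).map (autHom Q hTN) = autInducedBy (K ⊓ T) Q := by
  ext α
  rw [mem_autInducedBy_iff]
  constructor
  · rintro ⟨t, ht, rfl⟩
    exact ⟨t, ⟨Subgroup.mem_subgroupOf.1 ht, t.2⟩, hTN t.2, fun _ => rfl⟩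
  · rintro ⟨g, ⟨hgK, hgT⟩, hgN, h⟩
    exact ⟨⟨g, hgT⟩, Subgroup.mem_subgroupOf.2 hgK, by ext x; rw [h x]; rfl⟩

/-- When `N_P(Q)` is a defect group of the stabilizer block, `Q` is fully automized. -/
theorem card_autInducedBy_normP (hM : IsPModular p M) {Q P : Subgroup G} (hP : IsPGroup p P)
    {f : Set (IrrCharacter (Subgroup.centralizer (Q : Set G)))} (hf : IsPBlock M f)
    {F₁ : Set (IrrCharacter (pairStab Q f))} (hF₁ : IsPBlock M F₁)
    (hcoef : ∀ t : pairStab Q f, blockCoeff F₁ t =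
      subgroupBlockCoeff (Subgroup.centralizer (Q : Set G)) f (t : G))
    (hNT : P ⊓ Subgroup.normalizer (Q : Set G) ≤ pairStab Q f)
    (hdef : IsDefectGroup p M F₁
      ((P ⊓ Subgroup.normalizer (Q : Set G)).subgroupOf (pairStab Q f))) :
    Nat.card (autInducedBy P Q) =
      p ^ (Nat.card (autInducedBy (pairStab Q f) Q)).factorization p := by
  haveI : Fact p.Prime := ⟨hM.1⟩
  haveI := Fintype.ofFinite (pairStab Q f)
  have hTN : pairStab Q f ≤ Subgroup.normalizer (Q : Set G) := fun y hy => ((mem_pairStab y).1 hy).1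
  set ρ := autHom Q hTN with hρ
  have hρT : ρ.range = autInducedBy (pairStab Q f) Q := by
    rw [MonoidHom.range_eq_map, ← Subgroup.subgroupOf_self (pairStab Q f), map_autHom, inf_idem]
  have hρN : ((P ⊓ Subgroup.normalizer (Q : Set G)).subgroupOf (pairStab Q f)).map ρ =
      autInducedBy P Q := by
    rw [map_autHom, inf_eq_left.2 hNT]
    ext α
    simp only [mem_autInducedBy_iff]
    exact ⟨fun ⟨g, hg, hgN, h⟩ => ⟨g, hg.1, hgN, h⟩, fun ⟨g, hg, hgN, h⟩ => ⟨g, ⟨hg, hgN⟩, hgN, h⟩⟩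
  obtain ⟨R⟩ : Nonempty (Sylow p (pairStab Q f)) := inferInstance
  obtain ⟨c, hcu, hfix⟩ := exists_fixed_unit hM hf (R.isPGroup'.map (pairStab Q f).subtype)
    (Subgroup.map_subtype_le _)
  have hcT : (c : G) ∈ pairStab Q f := cent_le_pairStab Q f c.2
  set c' : pairStab Q f := ⟨c, hcT⟩ with hc'
  set C' := Subgroup.centralizer ({c'} : Set (pairStab Q f)) with hC'
  obtain ⟨S⟩ : Nonempty (Sylow p C') := inferInstance
  have hu : ¬ MemLocalIdeal M (blockCoeff F₁ c') := by
    intro hI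
    haveI := Fintype.ofFinite (Subgroup.centralizer (Q : Set G))
    apply hcu
    rw [hcoef, subgroupBlockCoeff_eq, sext_coe] at hI
    exact (res_eq_zero_iff hM (memRing_blockCoeff hM hf c)).2 hI
  obtain ⟨D, hD, hSD⟩ := exists_defectGroup_ge hM hF₁ hu (S.isPGroup'.map C'.subtype)
    (Subgroup.map_subtype_le _)
  obtain ⟨t, ht⟩ := defectGroup_conjugate hM hF₁ hdef hD
  have hRC : (R : Subgroup (pairStab Q f)).map ρ ≤ C'.map ρ := by
    rintro _ ⟨r, hr, rfl⟩
    obtain ⟨k, hk, hkc⟩ := hfix (r : G) ⟨r, hr, rfl⟩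
    refine ⟨⟨k⁻¹ * (r : G),
      (pairStab Q f).mul_mem ((pairStab Q f).inv_mem (cent_le_pairStab Q f hk)) r.2⟩, ?_, ?_⟩
    · refine Subgroup.mem_centralizer_singleton_iff.2 (Subtype.ext ?_)
      show k⁻¹ * (r : G) * (c : G) = (c : G) * (k⁻¹ * (r : G))
      calc k⁻¹ * (r : G) * (c : G) = k⁻¹ * ((r : G) * c * (r : G)⁻¹) * r := by group
        _ = k⁻¹ * (k * (c : G) * k⁻¹) * r := by rw [hkc]
        _ = (c : G) * (k⁻¹ * (r : G)) := by group
    · refine MulEquiv.ext fun q => Subtype.ext ?_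
      rw [autHom_apply, autHom_apply]
      have hq : (r : G) * (q : G) * (r : G)⁻¹ ∈ Q :=
        (Subgroup.mem_normalizer_iff.1 (hTN r.2) q).1 q.2
      have h := hk _ hq
      show k⁻¹ * (r : G) * q * (k⁻¹ * (r : G))⁻¹ = _
      calc k⁻¹ * (r : G) * q * (k⁻¹ * (r : G))⁻¹
          = k⁻¹ * ((r : G) * q * (r : G)⁻¹ * k) := by group
        _ = k⁻¹ * (k * ((r : G) * q * (r : G)⁻¹)) := by rw [h]
        _ = (r : G) * q * (r : G)⁻¹ := by group
  haveI : Finite (MulAut Q) :=
    Finite.of_injective (fun a : MulAut Q => (a : Q → Q)) fun a b h => MulEquiv.ext (congrFun h)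
  haveI : Fintype (MulAut Q) := Fintype.ofFinite _
  set S' := S.mapSurjective ((ρ.subgroupMap_surjective C')) with hS'
  have h1 : Nat.card ((R : Subgroup (pairStab Q f)).map ρ) ≤ Nat.card (autInducedBy P Q) := by
    obtain ⟨w, -, hw⟩ := exists_conj_le_sylow (C'.map ρ) S' (R.isPGroup'.map ρ) hRC
    rw [← card_map_conj _ w]
    refine (Subgroup.card_le_of_le hw).trans ?_
    have hsub : (S' : Subgroup (C'.map ρ)).map (C'.map ρ).subtype ≤
        (D.map ρ) := by
      rintro _ ⟨a, ha, rfl⟩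
      rw [hS', Sylow.coe_mapSurjective] at ha
      obtain ⟨s, hs, rfl⟩ := ha
      exact ⟨(s : pairStab Q f), hSD ⟨s, hs, rfl⟩, rfl⟩
    refine (Subgroup.card_le_of_le hsub).trans (le_of_eq ?_)
    rw [← ht, ← hρN, ← card_map_conj
      (((P ⊓ Subgroup.normalizer (Q : Set G)).subgroupOf (pairStab Q f)).map ρ) (ρ t),
      Subgroup.map_map, Subgroup.map_map]
    have e : ρ.comp (MulAut.conj t).toMonoidHom = (MulAut.conj (ρ t)).toMonoidHom.comp ρ :=
      MonoidHom.ext fun x => by simp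
    rw [e]
  have h2 : Nat.card ((R : Subgroup (pairStab Q f)).map ρ) =
      p ^ (Nat.card (autInducedBy (pairStab Q f) Q)).factorization p := by
    have h3 := (R.mapSurjective ρ.rangeRestrict_surjective).card_eq_multiplicity
    rw [Sylow.coe_mapSurjective] at h3
    rw [← hρT, ← h3]
    have e : ((R : Subgroup (pairStab Q f)).map ρ.rangeRestrict).map ρ.range.subtype =
        (R : Subgroup (pairStab Q f)).map ρ := by
      rw [Subgroup.map_map]; rfl
    rw [← e, Subgroup.card_map_of_injective (Subgroup.subtype_injective _)]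
  refine le_antisymm ?_ (h2 ▸ h1)
  have hle : autInducedBy P Q ≤ autInducedBy (pairStab Q f) Q := by
    rw [← hρN, ← hρT]; exact Subgroup.map_le_range _ _
  obtain ⟨n, hn⟩ := IsPGroup.iff_card.1 (isPGroup_autInducedBy (P := Q) hP)
  rw [hn]
  refine Nat.pow_le_pow_right hM.1.pos ?_
  exact (Nat.Prime.pow_dvd_iff_le_factorization hM.1 Nat.card_pos.ne').1
    (hn ▸ Subgroup.card_dvd_of_le hle)

end CfsgLib.Blocks
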