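import Cfsg.Agent.Lib.Blocks.Rank
import Cfsg.Agent.Lib.Blocks.Proj

/-!
# Blocks with a single Brauer character
-/

namespace CfsgLib.Blocks

open Cfsg CfsgLib.CharTheory

set_option linter.unusedVariables false
set_option linter.unusedSimpArgs false
set_option linter.unusedSectionVars false

universe u

variable {p : ℕ} {M : Ideal AlgInt} {G : Type u} [Group G] [Fintype G]

/-- A block of regular rank one: every regular part is a natural multiple of an integral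
combination `φ`, the multiplicities have integral combination one and squares summing to `p ^ d`. -/
theorem exists_single_brauer (hM : IsPModular p M) {B : Set (IrrCharacter G)} (hB : IsPBlock M B)
    (hl : blockRank p B = 1) :
    ∃ (φ : G → ℂ) (f : ℕ) (d : IrrCharacter G → ℕ) (n : IrrCharacter G → ℤ),
      0 < f ∧ (∀ x : G, ¬ p ∣ orderOf x → φ x = ∑ ψ ∈ bset B, (n ψ : ℂ) * (ψ : G → ℂ) x) ∧
      (∀ χ ∈ B, ∀ x : G, ¬ p ∣ orderOf x → (χ : G → ℂ) x = (d χ : ℂ) * φ x) ∧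
      (∀ χ ∈ B, charDegree (χ : G → ℂ) = d χ * f) ∧
      ∑ χ ∈ bset B, (d χ : ℤ) * n χ = 1 ∧
      ∑ χ ∈ bset B, d χ ^ 2 = p ^ blockDefect p B := by
  classical
  obtain ⟨χ0, hχ0, h0⟩ := exists_height_zero hM hB
  -- all regular parts are proportional
  have hprop : ∀ χ ∈ B, ∀ x : G, ¬ p ∣ orderOf x →
      (χ : G → ℂ) x * (χ0 : G → ℂ) 1 = (χ : G → ℂ) 1 * (χ0 : G → ℂ) x := by
    intro χ hχ x hx
    have h1 : ¬ p ∣ orderOf (1 : G) := by rw [orderOf_one]; exact hM.1.not_dvd_one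
    set W := Submodule.span ℂ ((fun χ : IrrCharacter G => pRegularPart p (χ : G → ℂ)) '' B) with hW
    have hfin : Module.finrank ℂ W = 1 := hl
    have hv0 : (⟨_, Submodule.subset_span ⟨χ0, hχ0, rfl⟩⟩ : W) ≠ 0 := by
      intro h
      have := congrFun (congrArg Subtype.val h) (1 : G)
      simp only [pRegularPart_apply, if_neg h1, ZeroMemClass.coe_zero, Pi.zero_apply] at this
      exact irr_one_ne_zero χ0 this
    obtain ⟨c, hc⟩ := (finrank_eq_one_iff_of_nonzero' _ hv0).1 hfin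
      ⟨_, Submodule.subset_span ⟨χ, hχ, rfl⟩⟩
    have hc' := fun g => congrFun (congrArg Subtype.val hc) g
    have e1 := hc' 1
    have ex := hc' x
    simp only [SetLike.val_smul, Pi.smul_apply, smul_eq_mul, pRegularPart_apply, if_neg h1,
      if_neg hx] at e1 ex
    rw [← e1, ← ex]; ring
  set g : ℕ := (bset B).gcd fun χ : IrrCharacter G => charDegree (χ : G → ℂ) with hg
  have hgdvd : ∀ χ ∈ B, g ∣ charDegree (χ : G → ℂ) := fun χ hχ =>
    Finset.gcd_dvd (mem_bset.2 hχ)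
  have hgpos : 0 < g := Nat.pos_of_ne_zero fun h => by
    have := hgdvd χ0 hχ0
    rw [h, zero_dvd_iff] at this
    exact (irr_charDegree_pos χ0).ne' this
  -- Bezout
  have hbez : ∀ s : Finset (IrrCharacter G), ∃ n : IrrCharacter G → ℤ,
      ∑ χ ∈ s, n χ * (charDegree (χ : G → ℂ) : ℤ) =
        ((s.gcd fun χ : IrrCharacter G => charDegree (χ : G → ℂ) : ℕ) : ℤ) := by
    intro s
    induction s using Finset.induction_on with
    | empty => exact ⟨0, by simp⟩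
    | insert a s ha ih =>
      obtain ⟨n, hn⟩ := ih
      obtain ⟨u, v, huv⟩ : ∃ u v : ℤ, (Nat.gcd (charDegree (a : G → ℂ))
          (s.gcd fun χ : IrrCharacter G => charDegree (χ : G → ℂ)) : ℤ) =
          (charDegree (a : G → ℂ) : ℤ) * u +
            ((s.gcd fun χ : IrrCharacter G => charDegree (χ : G → ℂ) : ℕ) : ℤ) * v :=
        ⟨_, _, Nat.gcd_eq_gcd_ab _ _⟩
      refine ⟨fun χ => if χ = a then u else v * n χ, ?_⟩
      simp only []
      rw [Finset.sum_insert ha, if_pos rfl, Finset.gcd_insert,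
        Finset.sum_congr rfl fun χ hχ => by rw [if_neg (fun e : χ = a => ha (e ▸ hχ)), mul_assoc],
        ← Finset.mul_sum, hn]
      simp only [gcd_eq_nat_gcd]
      linarith
  obtain ⟨n, hn⟩ := hbez (bset B)
  rw [← hg] at hn
  set d : IrrCharacter G → ℕ := fun χ => charDegree (χ : G → ℂ) / g with hd
  have hdeg : ∀ χ ∈ B, charDegree (χ : G → ℂ) = d χ * g := fun χ hχ =>
    (Nat.div_mul_cancel (hgdvd χ hχ)).symm
  set φ : G → ℂ := fun x => ∑ ψ ∈ bset B, (n ψ : ℂ) * (ψ : G → ℂ) x with hφ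
  have hn' : ∑ ψ ∈ bset B, (n ψ : ℂ) * (ψ : G → ℂ) 1 = (g : ℂ) := by
    have := congrArg (fun z : ℤ => (z : ℂ)) hn
    push_cast at this
    rw [← this]
    exact Finset.sum_congr rfl fun ψ _ => by rw [← irr_charDegree_cast ψ]
  have hval : ∀ χ ∈ B, ∀ x : G, ¬ p ∣ orderOf x → (χ : G → ℂ) x = (d χ : ℂ) * φ x := by
    intro χ hχ x hx
    have e : φ x * (χ0 : G → ℂ) 1 = (g : ℂ) * (χ0 : G → ℂ) x := by
      rw [← hn', hφ]
      simp only [Finset.sum_mul]
      refine Finset.sum_congr rfl fun ψ hψ => ?_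
      rw [mul_assoc, hprop ψ (mem_bset.1 hψ) x hx, mul_assoc]
    refine mul_right_cancel₀ (irr_one_ne_zero χ0) ?_
    rw [hprop χ hχ x hx, mul_assoc, e, ← irr_charDegree_cast χ, hdeg χ hχ]
    push_cast
    ring
  have hdn : ∑ χ ∈ bset B, (d χ : ℤ) * n χ = 1 := by
    refine mul_right_cancel₀ (b := (g : ℤ)) (by exact_mod_cast hgpos.ne') ?_
    rw [one_mul, Finset.sum_mul]
    conv_rhs => rw [← hn]
    refine Finset.sum_congr rfl fun χ hχ => ?_
    rw [hdeg χ (mem_bset.1 hχ)]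
    push_cast
    ring
  refine ⟨φ, g, d, n, hgpos, fun x _ => rfl, hval, hdeg, hdn, ?_⟩
  -- squares
  set S : ℂ := regS p φ φ with hS
  have hreg : ∀ χ ∈ B, ∀ ψ ∈ B,
      regS p (χ : G → ℂ) (ψ : G → ℂ) = (d χ : ℂ) * (d ψ : ℂ) * S := by
    intro χ hχ ψ hψ
    rw [hS, regS_eq_sum, regS_eq_sum, Finset.mul_sum]
    refine Finset.sum_congr rfl fun x hx => ?_
    have hx' := (Finset.mem_filter.1 hx).2
    rw [hval χ hχ x hx', hval ψ hψ x⁻¹ (by rwa [orderOf_inv])]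
    ring
  set D : ℕ := ∑ χ ∈ bset B, d χ ^ 2 with hD
  have hG : (Nat.card G : ℂ) ≠ 0 := Nat.cast_ne_zero.2 Nat.card_pos.ne'
  have htr : (Nat.card G : ℂ) = (D : ℂ) * S := by
    have h := card_mul_blockRank hM hB
    rw [hl, Nat.cast_one, mul_one] at h
    rw [h, hD, Nat.cast_sum, Finset.sum_mul]
    exact Finset.sum_congr rfl fun χ hχ => by
      rw [hreg χ (mem_bset.1 hχ) χ (mem_bset.1 hχ)]; push_cast; ring
  -- the integers `q`
  choose q hq hq1 hq2 hq3 hq4 using fun χ : {χ // χ ∈ B} => fun ψ : {ψ // ψ ∈ B} =>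
    exists_int_proj hM hB χ.2 ψ.2
  have hqD : ∀ χ ψ : {χ // χ ∈ B},
      (D : ℤ) * q χ ψ = (p : ℤ) ^ blockDefect p B * ((d χ.1 : ℤ) * d ψ.1) := by
    intro χ ψ
    have h := hq χ ψ
    rw [hreg _ χ.2 _ ψ.2, htr] at h
    have hS0 : S ≠ 0 := fun h => hG (by rw [htr, h, mul_zero])
    have : ((D : ℤ) : ℂ) * (q χ ψ : ℂ) =
        (p : ℂ) ^ blockDefect p B * ((d χ.1 : ℂ) * d ψ.1) := by
      refine mul_right_cancel₀ hS0 ?_
      push_cast
      linear_combination -h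
    exact_mod_cast this
  have hDp : (D : ℤ) ∣ (p : ℤ) ^ blockDefect p B := by
    have key : ∀ χ : {χ // χ ∈ B}, (D : ℤ) ∣ (p : ℤ) ^ blockDefect p B * (d χ.1 : ℤ) := by
      intro χ
      have h : (p : ℤ) ^ blockDefect p B * (d χ.1 : ℤ) = ∑ ψ ∈ bset B,
          (p : ℤ) ^ blockDefect p B * ((d χ.1 : ℤ) * d ψ) * n ψ := by
        conv_lhs => rw [← mul_one ((p : ℤ) ^ blockDefect p B * (d χ.1 : ℤ)), ← hdn, Finset.mul_sum]
        exact Finset.sum_congr rfl fun ψ _ => by ring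
      rw [h]
      refine Finset.dvd_sum fun ψ hψ => Dvd.dvd.mul_right ?_ _
      exact ⟨q χ ⟨ψ, mem_bset.1 hψ⟩, (hqD χ ⟨ψ, mem_bset.1 hψ⟩).symm⟩
    have h : (p : ℤ) ^ blockDefect p B = ∑ χ ∈ bset B,
        (p : ℤ) ^ blockDefect p B * (d χ : ℤ) * n χ := by
      conv_lhs => rw [← mul_one ((p : ℤ) ^ blockDefect p B), ← hdn, Finset.mul_sum]
      exact Finset.sum_congr rfl fun ψ _ => by ring
    rw [h]
    exact Finset.dvd_sum fun χ hχ => (key ⟨χ, mem_bset.1 hχ⟩).mul_right _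
  have hDp' : D ∣ p ^ blockDefect p B := by exact_mod_cast hDp
  obtain ⟨i, hi, hDi⟩ := (Nat.dvd_prime_pow hM.1).1 hDp'
  rcases hi.eq_or_lt with rfl | hlt
  · exact hDi
  · exfalso
    have hnd : ¬ (p : ℤ) ∣ q ⟨χ0, hχ0⟩ ⟨χ0, hχ0⟩ := hq2 ⟨χ0, hχ0⟩ ⟨χ0, hχ0⟩ h0 h0
    apply hnd
    have h := hqD ⟨χ0, hχ0⟩ ⟨χ0, hχ0⟩
    obtain ⟨j, hj⟩ : ∃ j, blockDefect p B = i + (j + 1) := ⟨blockDefect p B - i - 1, by omega⟩
    rw [hDi, hj, pow_add, mul_assoc] at h
    push_cast at h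
    have h' := mul_left_cancel₀ (pow_ne_zero i (Int.natCast_ne_zero.2 hM.1.ne_zero)) h
    rw [h']
    exact (dvd_pow_self _ j.succ_ne_zero).mul_right _

end CfsgLib.Blocks
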