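import Cfsg.Agent.Lib.Blocks.BlockAlgebra
import Cfsg.Agent.Lib.Blocks.OneBrauer

/-!
# Blocks with exactly two ordinary characters
-/

namespace CfsgLib.Blocks

open Cfsg CfsgLib.CharTheory

set_option linter.unusedVariables false
set_option linter.unusedSectionVars false

universe u

variable {p : ℕ} {M : Ideal AlgInt} {G : Type u} [Group G] [Fintype G]

theorem blockRank_pos (hM : IsPModular p M) {B : Set (IrrCharacter G)} (hB : IsPBlock M B) :
    0 < blockRank p B := by
  obtain ⟨χ, hχ⟩ := block_nonempty hM hB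
  refine Nat.pos_of_ne_zero fun h => irr_one_ne_zero χ ?_
  rw [blockRank, Submodule.finrank_eq_zero, Submodule.eq_bot_iff] at h
  have := congrFun (h _ (Submodule.subset_span ⟨χ, hχ, rfl⟩)) (1 : G)
  simpa [pRegularPart_apply, hM.1.ne_one] using this

theorem blockDefect_pos_of_card (hM : IsPModular p M) {B : Set (IrrCharacter G)}
    (hB : IsPBlock M B) (h : 2 ≤ (bset B).card) : 0 < blockDefect p B := by
  classical
  refine Nat.pos_of_ne_zero fun h0 => ?_
  obtain ⟨χ, hχ, hχ0⟩ := exists_height_zero hM hB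
  have hd := blockDefect_eq p B
  have hle := minDv_le_card hM hB (p := p)
  have h1 : dv p (χ : G → ℂ) = (Nat.card G).factorization p := by omega
  have h2 := (defect_zero_iff hM χ).1 h1
  rw [← eq_blockOf hM hB hχ] at h2
  have : bset B = {χ} := by ext ψ; rw [mem_bset, h2]; simp
  rw [this, Finset.card_singleton] at h
  omega

/-- A block with two characters has defect one and `p = 2`. -/
theorem two_chars (hM : IsPModular p M) {B : Set (IrrCharacter G)} (hB : IsPBlock M B)
    (hk : (bset B).card = 2) : p = 2 ∧ blockDefect p B = 1 ∧ blockRank p B = 1 := by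
  classical
  haveI : Fact p.Prime := ⟨hM.1⟩
  have hcard : Nat.card B = 2 := by
    rw [← hk, Nat.card_eq_fintype_card]
    exact Fintype.card_of_finset' (bset B) fun χ => mem_bset
  have hl : blockRank p B = 1 := by
    have h1 := blockRank_pos hM hB
    have h2 := blockRank_le (p := p) B
    rcases Nat.lt_or_ge (blockRank p B) 2 with h | h
    · omega
    · obtain ⟨χ, hχ⟩ := subsingleton_of_blockRank_eq hM hB (by omega)
      rw [hχ] at hcard
      simp at hcard
  obtain ⟨φ, f, d, n, hf, hφ, hval, hdeg, hdn, hsq⟩ := exists_single_brauer hM hB hl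
  have hmain := ordProj_sq_dvd_of_card_le_two hM hB hk.le
  have hsum : ∑ χ ∈ bset B, charDegree (χ : G → ℂ) ^ 2 = p ^ blockDefect p B * f ^ 2 := by
    rw [← hsq, Finset.sum_mul]
    exact Finset.sum_congr rfl fun χ hχ => by rw [hdeg χ (mem_bset.1 hχ), mul_pow]
  obtain ⟨χ, hχ, hχ0⟩ := exists_height_zero hM hB
  have hvf : f.factorization p ≤ minDv p B := by
    rw [← hχ0]
    exact (Nat.factorization_le_iff_dvd hf.ne' (irr_charDegree_pos χ).ne').2
      (by rw [hdeg χ hχ]; exact dvd_mul_left _ _) p
  rw [hsum, ← pow_mul] at hmain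
  have hne : 2 * (p ^ blockDefect p B * f ^ 2) ≠ 0 := by
    have := hM.1.pos
    positivity
  have h2 := (hM.1.pow_dvd_iff_le_factorization hne).1 hmain
  have hd := blockDefect_eq p B
  have hle := minDv_le_card hM hB (p := p)
  have hdpos := blockDefect_pos_of_card hM hB hk.ge
  rw [Nat.factorization_mul (by norm_num) (by simp [hf.ne', hM.1.ne_zero]),
    Nat.factorization_mul (pow_ne_zero _ hM.1.ne_zero) (pow_ne_zero _ hf.ne')] at h2
  simp only [Finsupp.add_apply, Nat.factorization_pow, Finsupp.smul_apply, smul_eq_mul,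
    hM.1.factorization_self, mul_one] at h2
  by_cases hp : p = 2
  · subst hp
    rw [Nat.prime_two.factorization_self] at h2
    exact ⟨rfl, by omega, hl⟩
  · rw [Nat.Prime.factorization Nat.prime_two, Finsupp.single_eq_of_ne hp] at h2
    omega

theorem card_eq_two_of_defect_one (hM : IsPModular 2 M) {B : Set (IrrCharacter G)}
    (hB : IsPBlock M B) (hd : blockDefect 2 B = 1) : (bset B).card = 2 := by
  classical
  have hbf := brauer_feit hM hB
  rw [hd] at hbf
  have hge : ((bset B).card : ℤ) ≤
      ∑ ψ ∈ bset B, (((2 : ℕ) : ℤ) ^ (dv 2 (ψ : G → ℂ) - minDv 2 B)) ^ 2 := by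
    refine le_trans (by simp) (Finset.sum_le_sum (f := fun _ => (1 : ℤ)) fun ψ _ => ?_)
    exact one_le_pow₀ (one_le_pow₀ (by norm_num))
  norm_num at hbf hge
  obtain ⟨χ, hχ, hχ0⟩ := exists_height_zero hM hB
  have h1 : 1 < (bset B).card := by
    by_contra h
    push Not at h
    have hB1 : bset B = {χ} := (Finset.eq_singleton_iff_unique_mem.2
      ⟨mem_bset.2 hχ, fun ψ hψ => Finset.card_le_one.1 h ψ hψ χ (mem_bset.2 hχ)⟩)
    have hset : blockOf M (χ : G → ℂ) = {χ} := by
      rw [← eq_blockOf hM hB hχ]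
      ext ψ; rw [← mem_bset, hB1]; simp
    have h0 := (defect_zero_iff hM χ).2 hset
    have hd' := blockDefect_eq 2 B
    omega
  omega

end CfsgLib.Blocks
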