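import Cfsg.Agent.S4511
import Cfsg.Agent.Lib.Blocks.BrauerFeit
import Cfsg.Agent.Lib.Blocks.BlockFusion
import Cfsg.Agent.Lib.Blocks.CentralDefect
import Cfsg.Agent.Lib.Blocks.FongLocal
import Cfsg.Agent.Lib.Blocks.TwoChars

/-!
# Counting with subsections; small elementary abelian defect groups
-/

namespace CfsgLib.Blocks

open Cfsg CfsgLib.CharTheory
open scoped ComplexConjugate

set_option linter.unusedVariables false
set_option linter.unusedSimpArgs false
set_option linter.style.haveILetI false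
set_option linter.unusedSectionVars false

universe u

variable {p : ℕ} {M : Ideal AlgInt} {G : Type u} [Group G] [Fintype G]

/-- The sum of `l(b)` over the blocks of `H` inducing `B`. -/
noncomputable def rankSum (p : ℕ) (M : Ideal AlgInt) (H : Subgroup G)
    (B : Set (IrrCharacter G)) : ℕ :=
  ∑ᶠ b ∈ {b : Set (IrrCharacter H) | IsInducedBlock M H b B}, blockRank p b

theorem centralizer_zpowers_eq (x : G) :
    Subgroup.centralizer ((Subgroup.zpowers x : Subgroup G) : Set G) =
      Subgroup.centralizer ({x} : Set G) := by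
  ext g
  rw [(isCentr_zpowers x) g, (isCentr_singleton x) g]

/-- Brauer's count, with centralizers of cyclic subgroups. -/
theorem card_eq_sum_rankSum (hM : IsPModular p M) {B : Set (IrrCharacter G)} (hB : IsPBlock M B)
    (X : Finset G) (hX : ∀ x ∈ X, ∃ k : ℕ, orderOf x = p ^ k)
    (hXrep : ∀ g : G, (∃ k : ℕ, orderOf g = p ^ k) → ∃! x, x ∈ X ∧ IsConj g x) :
    Nat.card B = ∑ x ∈ X,
      rankSum p M (Subgroup.centralizer ((Subgroup.zpowers x : Subgroup G) : Set G)) B := by
  rw [Cfsg.Agent.S4511.result p M hM B hB X hX hXrep]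
  refine Finset.sum_congr rfl fun x _ => ?_
  rw [centralizer_zpowers_eq]
  rfl

/-- For a central element the sum is `l(B)`. -/
theorem rankSum_central (hM : IsPModular p M) {x : G} {H : Subgroup G} [Fintype H]
    (hH : IsCentr x H) (hx : ∃ k : ℕ, orderOf x = p ^ k) (hxc : x ∈ Subgroup.center G)
    {B : Set (IrrCharacter G)} (hB : IsPBlock M B) : rankSum p M H B = blockRank p B := by
  classical
  have htop : H = ⊤ := eq_top_iff.2 fun g _ => (hH g).2 (Subgroup.mem_center_iff.1 hxc g)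
  set R := Finset.univ.filter (fun y : H => ¬ p ∣ orderOf y) with hR
  have h1 : ∑ y ∈ R, ∑ χ ∈ bset B, (χ : G → ℂ) (x * y) * conj ((χ : G → ℂ) (x * y)) =
      (Nat.card H : ℂ) * (rankSum p M H B : ℂ) := by
    rw [Finset.sum_congr rfl fun y hy =>
      sum_sq_section hM hH hx hB (Finset.mem_filter.1 hy).2 (Finset.mem_filter.1 hy).2,
      Finset.sum_comm, Finset.sum_congr rfl fun ψ _ => sum_reg_norm p ψ, rankSum,
      finsum_mem_eq_finite_toFinset_sum _ (Set.toFinite _), Nat.cast_sum, Finset.mul_sum,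
      ← Finset.sum_fiberwise_of_maps_to
        (t := (Set.toFinite {b : Set (IrrCharacter H) | IsInducedBlock M H b B}).toFinset)
        (g := fun ψ : IrrCharacter H => blockOf M (ψ : H → ℂ))
        (fun ψ hψ => by rw [Set.Finite.mem_toFinset]; exact mem_bset.1 hψ)]
    refine Finset.sum_congr rfl fun b hb => ?_
    rw [Set.Finite.mem_toFinset] at hb
    rw [card_mul_blockRank hM hb.1]
    refine Finset.sum_congr ?_ fun _ _ => rfl
    ext ψ
    simp only [Finset.mem_filter, mem_bset]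
    refine ⟨fun h => h.2 ▸ mem_blockOf_self hM ψ, fun h => ?_⟩
    have e := eq_blockOf hM hb.1 h
    exact ⟨show IsInducedBlock M H (blockOf M (ψ : H → ℂ)) B from e ▸ hb, e.symm⟩
  have h2 : ∑ y ∈ R, ∑ χ ∈ bset B, (χ : G → ℂ) (x * y) * conj ((χ : G → ℂ) (x * y)) =
      (Nat.card G : ℂ) * (blockRank p B : ℂ) := by
    rw [card_mul_blockRank hM hB, Finset.sum_comm]
    refine Finset.sum_congr rfl fun χ _ => ?_
    rw [← sum_reg_norm p χ]
    refine Finset.sum_bij (fun (y : H) _ => (y : G)) (fun y hy => ?_)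
      (fun a _ b _ h => Subtype.ext h) (fun y hy => ?_) (fun y hy => ?_)
    · rw [Finset.mem_filter, Subgroup.orderOf_coe]
      exact ⟨Finset.mem_univ _, (Finset.mem_filter.1 hy).2⟩
    · exact ⟨⟨y, htop ▸ Subgroup.mem_top y⟩, Finset.mem_filter.2
        ⟨Finset.mem_univ _, by rw [Subgroup.orderOf_mk]; exact (Finset.mem_filter.1 hy).2⟩, rfl⟩
    · rw [Complex.mul_conj, Complex.mul_conj, normSq_central_mul hxc χ (y : G)]
  rw [h2] at h1
  have hcard : Nat.card H = Nat.card G := by rw [htop, Subgroup.card_top]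
  rw [hcard] at h1
  exact_mod_cast (mul_left_cancel₀ (Nat.cast_ne_zero.2 Nat.card_pos.ne') h1).symm

theorem blockRank_le_rankSum {H : Subgroup G} {B : Set (IrrCharacter G)} [Fintype H]
    {b : Set (IrrCharacter H)} (hb : IsInducedBlock M H b B) :
    blockRank p b ≤ rankSum p M H B := by
  classical
  rw [rankSum, finsum_mem_eq_finite_toFinset_sum _ (Set.toFinite _)]
  exact Finset.single_le_sum (fun _ _ => Nat.zero_le _) ((Set.Finite.mem_toFinset _).2 hb)

/-- A `2`-block with a defect group of order four containing a central involution. -/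
theorem rank_klein_central (hM : IsPModular 2 M) {b : Set (IrrCharacter G)} (hb : IsPBlock M b)
    {D : Subgroup G} (hD : IsDefectGroup 2 M b D) (hd : blockDefect 2 b = 2) {z : G}
    (hzc : z ∈ Subgroup.center G) (hzo : orderOf z = 2) : blockRank 2 b ≤ 2 := by
  classical
  haveI : Fact (Nat.Prime 2) := ⟨Nat.prime_two⟩
  have hcard : Nat.card D = 2 ^ 2 := by rw [card_defectGroup hM hb hD, hd]
  have hcomm : ∀ a ∈ D, ∀ c ∈ D, a * c = c * a := fun a ha c hc =>
    congrArg Subtype.val ((IsPGroup.isMulCommutative_of_card_eq_prime_sq hcard).is_comm.comm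
      (⟨a, ha⟩ : D) ⟨c, hc⟩)
  have hDp := defectGroup_isPGroup hD
  obtain ⟨y, hyD, hy1, hyz⟩ : ∃ y ∈ D, y ≠ 1 ∧ y ≠ z := by
    by_contra h
    push Not at h
    have hsub : (D : Set G) ⊆ {1, z} := fun a ha => by
      by_cases ha1 : a = 1
      · exact Or.inl ha1
      · exact Or.inr (h a ha ha1)
    have h4 : (D : Set G).ncard ≤ ({1, z} : Set G).ncard := Set.ncard_le_ncard hsub
    have hD4 : (D : Set G).ncard = 4 := by
      rw [← Nat.card_coe_set_eq]; exact hcard
    have : ({1, z} : Set G).ncard ≤ 2 := (Set.ncard_insert_le _ _).trans (by simp)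
    omega
  set X : Finset G := (Finset.univ.filter fun C : ConjClasses G =>
    ∃ k : ℕ, orderOf (crep C) = 2 ^ k).image crep with hX
  have hXrep : ∀ g : G, (∃ k : ℕ, orderOf g = 2 ^ k) → ∃! x, x ∈ X ∧ IsConj g x := by
    intro g hg
    refine ⟨crep (ConjClasses.mk g), ⟨?_, (isConj_crep g).symm⟩, ?_⟩
    · refine Finset.mem_image.2 ⟨_, Finset.mem_filter.2 ⟨Finset.mem_univ _, ?_⟩, rfl⟩
      obtain ⟨c, hc⟩ := isConj_iff.1 (isConj_crep g)
      obtain ⟨k, hk⟩ := hg
      refine ⟨k, ?_⟩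
      have := conj_orderOf c (crep (ConjClasses.mk g))
      rw [hc] at this
      rw [← this, hk]
    · rintro x ⟨hx, hgx⟩
      obtain ⟨C, -, rfl⟩ := Finset.mem_image.1 hx
      rw [ConjClasses.mk_eq_mk_iff_isConj.2 hgx, mk_crep]
  have hXp : ∀ x ∈ X, ∃ k : ℕ, orderOf x = 2 ^ k := fun x hx => by
    obtain ⟨C, hC, rfl⟩ := Finset.mem_image.1 hx
    exact (Finset.mem_filter.1 hC).2
  obtain ⟨ky, hky⟩ := hDp ⟨y, hyD⟩
  have hyord : ∃ k : ℕ, orderOf y = 2 ^ k := by
    obtain ⟨i, -, hi⟩ := (Nat.dvd_prime_pow Nat.prime_two).1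
      (orderOf_dvd_of_pow_eq_one (congrArg Subtype.val hky))
    exact ⟨i, hi⟩
  obtain ⟨x1, ⟨hx1, hc1⟩, -⟩ := hXrep 1 ⟨0, orderOf_one⟩
  obtain ⟨xz, ⟨hxz, hcz⟩, -⟩ := hXrep z ⟨1, by rw [hzo, pow_one]⟩
  obtain ⟨xy, ⟨hxy, hcy⟩, -⟩ := hXrep y hyord
  have hz1 : x1 = 1 := (isConj_one_right.1 hc1)
  have hzz : xz = z := by
    obtain ⟨c, hc⟩ := isConj_iff.1 hcz
    rw [← hc, Subgroup.mem_center_iff.1 hzc c, mul_inv_cancel_right]
  subst hz1 hzz
  obtain ⟨c, hc⟩ := isConj_iff.1 hcy
  have hxy1 : xy ≠ 1 := fun h => hy1 (by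
    rw [h] at hc; exact conj_eq_one_iff.1 hc)
  have hxyz : xy ≠ xz := fun h => hyz (by
    rw [h] at hc
    calc y = c⁻¹ * (c * y * c⁻¹) * c := by group
      _ = c⁻¹ * (xz * c) := by rw [hc, mul_assoc]
      _ = c⁻¹ * (c * xz) := by rw [Subgroup.mem_center_iff.1 hzc c]
      _ = xz := inv_mul_cancel_left c xz)
  -- the third class contributes
  have hD' : IsDefectGroup 2 M b (D.map (MulAut.conj c).toMonoidHom) := isDefectGroup_conj hD c
  obtain ⟨f, hf, -⟩ := exists_major hM hb hD' (x := xy) ⟨y, hyD, by simpa using hc⟩ (by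
    rintro _ ⟨a, ha, rfl⟩
    rw [← hc]
    simp only [MulEquiv.coe_toMonoidHom, MulAut.conj_apply]
    calc c * y * c⁻¹ * (c * a * c⁻¹) = c * (y * a) * c⁻¹ := by group
      _ = c * (a * y) * c⁻¹ := by rw [hcomm y hyD a ha]
      _ = _ := by group)
  haveI : Fintype (Subgroup.centralizer ((Subgroup.zpowers xy : Subgroup G) : Set G)) :=
    Fintype.ofFinite _
  have ht := (blockRank_pos hM hf.1).trans_le (blockRank_le_rankSum (p := 2) hf)
  haveI : Fintype (Subgroup.centralizer ((Subgroup.zpowers (1 : G) : Subgroup G) : Set G)) :=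
    Fintype.ofFinite _
  haveI : Fintype (Subgroup.centralizer ((Subgroup.zpowers xz : Subgroup G) : Set G)) :=
    Fintype.ofFinite _
  have h1 := rankSum_central hM (isCentr_zpowers (1 : G)) ⟨0, orderOf_one⟩
    (Subgroup.one_mem _) hb
  have h2 := rankSum_central hM (isCentr_zpowers xz) ⟨1, by rw [hzo, pow_one]⟩ hzc hb
  have hne : (1 : G) ≠ xz := fun h => by rw [← h, orderOf_one] at hzo; norm_num at hzo
  have hle : ∑ x ∈ ({1, xz, xy} : Finset G),
      rankSum 2 M (Subgroup.centralizer ((Subgroup.zpowers x : Subgroup G) : Set G)) b ≤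
      Nat.card b := by
    rw [card_eq_sum_rankSum hM hb X hXp hXrep]
    exact Finset.sum_le_sum_of_subset (by
      intro a ha; simp only [Finset.mem_insert, Finset.mem_singleton] at ha
      rcases ha with rfl | rfl | rfl <;> assumption)
  rw [Finset.sum_insert (by simp [hne, hxy1.symm]), Finset.sum_pair hxyz.symm, h1, h2] at hle
  have hbf := brauer_feit hM hb
  rw [hd] at hbf
  have hge : ((bset b).card : ℤ) ≤
      ∑ ψ ∈ bset b, (((2 : ℕ) : ℤ) ^ (dv 2 (ψ : G → ℂ) - minDv 2 b)) ^ 2 := by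
    refine le_trans (by simp) (Finset.sum_le_sum (f := fun _ => (1 : ℤ)) fun ψ _ => ?_)
    exact one_le_pow₀ (one_le_pow₀ (by norm_num))
  norm_num at hbf hge
  have hk : Nat.card b = (bset b).card := by
    rw [Nat.card_eq_fintype_card]
    exact Fintype.card_of_finset' (bset b) fun χ => mem_bset
  omega

end CfsgLib.Blocks
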