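import Cfsg.Agent.Lib.Blocks.Star.Fixed
import Cfsg.Agent.Lib.Blocks.Inflation
import Cfsg.Agent.Lib.Blocks.Principal
import Cfsg.Agent.Lib.Blocks.MaxPairs
import Mathlib.GroupTheory.FiniteAbelian.Duality

/-!
# Blocks dominated in the quotient by a central subgroup of an abelian defect group
-/

namespace CfsgLib.Blocks

open Cfsg CfsgLib.CharTheory
open scoped ComplexConjugate

set_option linter.unusedVariables false
set_option linter.unusedSimpArgs false
set_option linter.style.haveILetI false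
set_option linter.unusedSectionVars false

universe u

variable {p : ℕ} {M : Ideal AlgInt} {G : Type u} [Group G] [Fintype G]
  {B : Set (IrrCharacter G)} {P : Subgroup G}
  {c : Set (IrrCharacter (Subgroup.centralizer (P : Set G)))}

/-- A linear character of a central subgroup extends to a stable character of the defect group. -/
theorem exists_stable_extension (hM : IsPModular p M) (hmax : IsMaximalBrauerPair p M B P c)
    (hab : ∀ x ∈ P, ∀ y ∈ P, x * y = y * x) {U : Subgroup G} (hUc : U ≤ Subgroup.center G)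
    (hUP : U ≤ P) (l0 : U →* ℂˣ) :
    ∃ l : P →* ℂˣ, IsStableFun p M P c (sext P fun u => (l u : ℂ)) ∧
      ∀ u : U, l ⟨u, hUP u.2⟩ = l0 u := by
  classical
  haveI := Fintype.ofFinite P
  letI : CommGroup P :=
    { (inferInstance : Group P) with mul_comm := fun a b => Subtype.ext (hab _ a.2 _ b.2) }
  haveI : (moveN P c).Normal := Subgroup.normal_of_comm _
  let π : P →* P ⧸ moveN P c := QuotientGroup.mk' (moveN P c)
  let j : U →* P ⧸ moveN P c := π.comp (Subgroup.inclusion hUP)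
  have hj : Function.Injective j := by
    rw [← MonoidHom.ker_eq_bot_iff, Subgroup.eq_bot_iff_forall]
    intro u hu
    have h1 : (Subgroup.inclusion hUP u) ∈ moveN P c := (QuotientGroup.eq_one_iff _).1 hu
    have h2 := eq_one_of_moveN_fixed hM hmax hab h1 fun t ht => by
      show t * (u : G) * t⁻¹ = u
      rw [Subgroup.mem_center_iff.1 (hUc u.2) t, mul_inv_cancel_right]
    exact Subgroup.inclusion_injective hUP (h2.trans (map_one _).symm)
  let e : U ≃* j.range := MonoidHom.ofInjective hj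
  obtain ⟨L, hL⟩ := MonoidHom.domRestrict_surjective (M := ℂ) j.range (l0.comp e.symm.toMonoidHom)
  refine ⟨L.comp π, stable_moveN hM hmax hab fun y hy => ?_, fun u => ?_⟩
  · show L (π y) = 1
    rw [show π y = 1 from (QuotientGroup.eq_one_iff y).2 hy, map_one]
  · have h3 := DFunLike.congr_fun hL (e u)
    simp only [MonoidHom.coe_comp, MulEquiv.coe_toMonoidHom, Function.comp_apply,
      MulEquiv.symm_apply_apply] at h3
    exact h3

/-- Twisting multiplies the values on a central subgroup and keeps the regular values. -/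
theorem exists_twist (hM : IsPModular p M) (hmax : IsMaximalBrauerPair p M B P c)
    {U : Subgroup G} (hUc : U ≤ Subgroup.center G) (hUP : U ≤ P) {l : P →* ℂˣ}
    (hl : IsStableFun p M P c (sext P fun u => (l u : ℂ))) {χ : IrrCharacter G} (hχ : χ ∈ B) :
    ∃ ψ ∈ B, (∀ y : G, ¬ p ∣ orderOf y → (ψ : G → ℂ) y = (χ : G → ℂ) y) ∧
      ∀ u : U, (ψ : G → ℂ) (u : G) = (l ⟨u, hUP u.2⟩ : ℂ) * (χ : G → ℂ) (u : G) := by
  haveI : Fact p.Prime := ⟨hM.1⟩
  obtain ⟨ψ, hψ, hψB, hdeg⟩ := exists_starLin hM hmax l hl hχ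
  refine ⟨ψ, hψB, fun y hy => ?_, fun u => ?_⟩
  · rw [hψ, starW_regular hM hmax hl hχ hy,
      show sext P (fun u => (l u : ℂ)) 1 = sext P (fun u => (l u : ℂ)) ((1 : P) : G) from rfl,
      sext_coe, map_one, Units.val_one, one_mul]
  · obtain ⟨k, hk⟩ := IsPGroup.iff_orderOf.1 hmax.1.1.1 ⟨(u : G), hUP u.2⟩
    rw [← Subgroup.orderOf_coe] at hk
    have h := starFun_section hM hmax.1.2.1 hχ (W := pairW p M P c (sext P fun u => (l u : ℂ)))
      (r := (l ⟨(u : G), hUP u.2⟩ : ℂ)) (x := (u : G)) (c := (1 : G)) ⟨k, hk⟩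
      (mem_regC.2 ⟨Commute.one_right _, by simpa using hM.1.ne_one⟩) fun a ha hp => by
        obtain ⟨g, hg⟩ := (carries_iff_pairOf hM hmax).2 hp
        rw [pairW_eq hl (mem_pairsAt.1 ha).1 hg, Subgroup.mem_center_iff.1 (hUc u.2) g,
          mul_inv_cancel_right]
        exact sext_coe P (fun u => (l u : ℂ)) ⟨(u : G), hUP u.2⟩
    rwa [mul_one, ← hψ] at h

/-- The block of the quotient dominated by `B`. -/
noncomputable def quotBlock (U : Subgroup G) [U.Normal] (B : Set (IrrCharacter G)) :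
    Set (IrrCharacter (G ⧸ U)) :=
  {ψ | Inflation.inflIrr U ψ ∈ B}

/-- Every member of `B` has the regular part of a member of the quotient block. -/
theorem exists_quot_regular (hM : IsPModular p M) (hmax : IsMaximalBrauerPair p M B P c)
    (hab : ∀ x ∈ P, ∀ y ∈ P, x * y = y * x) {U : Subgroup G} [U.Normal]
    (hUc : U ≤ Subgroup.center G) (hUP : U ≤ P) {χ : IrrCharacter G} (hχ : χ ∈ B) :
    ∃ ψ ∈ quotBlock U B, ∀ y : G, ¬ p ∣ orderOf y →
      (χ : G → ℂ) y = (ψ : G ⧸ U → ℂ) (y : G ⧸ U) := by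
  classical
  haveI : Fact p.Prime := ⟨hM.1⟩
  let f : U →* ℂ :=
    { toFun := fun u => (χ : G → ℂ) (u : G) / (χ : G → ℂ) 1
      map_one' := by
        show (χ : G → ℂ) ((1 : U) : G) / _ = 1
        rw [Subgroup.coe_one, div_self (irr_one_ne_zero χ)]
      map_mul' := fun u v => by
        show (χ : G → ℂ) ((u : G) * (v : G)) / _ = _
        rw [central_value_mul (hUc u.2)]
        ring }
  obtain ⟨l, hl, hlu⟩ := exists_stable_extension hM hmax hab hUc hUP f.toHomUnits⁻¹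
  obtain ⟨ψ, hψB, hreg, hU⟩ := exists_twist hM hmax hUc hUP hl hχ
  have hk : ∀ n ∈ U, (ψ : G → ℂ) n = (ψ : G → ℂ) 1 := by
    intro n hn
    rw [hreg 1 (by simpa using hM.1.ne_one), hU ⟨n, hn⟩, hlu ⟨n, hn⟩]
    have hne : f ⟨n, hn⟩ ≠ 0 := (f.toHomUnits ⟨n, hn⟩).ne_zero
    rw [MonoidHom.inv_apply, Units.val_inv_eq_inv_val, MonoidHom.coe_toHomUnits]
    change (χ : G → ℂ) n / (χ : G → ℂ) 1 ≠ 0 at hne
    show ((χ : G → ℂ) n / (χ : G → ℂ) 1)⁻¹ * (χ : G → ℂ) n = _
    rw [inv_div, div_mul_cancel₀ _ (div_ne_zero_iff.1 hne).1]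
  obtain ⟨φ, hφ, he⟩ := exists_quotient_irr U ψ.2 hk
  have heq : Inflation.inflIrr U ⟨φ, hφ⟩ = ψ := Subtype.ext he.symm
  refine ⟨⟨φ, hφ⟩, show Inflation.inflIrr U ⟨φ, hφ⟩ ∈ B from heq ▸ hψB, fun y hy => ?_⟩
  rw [← hreg y hy, ← heq]
  rfl

theorem quotBlock_isPBlock (hM : IsPModular p M) (hmax : IsMaximalBrauerPair p M B P c)
    (hab : ∀ x ∈ P, ∀ y ∈ P, x * y = y * x) {U : Subgroup G} [U.Normal]
    (hUc : U ≤ Subgroup.center G) (hUP : U ≤ P) [Fintype (G ⧸ U)] :
    IsPBlock M (quotBlock U B) := by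
  classical
  haveI : Fact p.Prime := ⟨hM.1⟩
  have hB := hmax.1.2.1
  have hC : ∃ k : ℕ, (Subgroup.centralizer (U : Set G)).index = p ^ k :=
    ⟨0, by rw [pow_zero, Subgroup.index_eq_one, Subgroup.centralizer_eq_top_iff_subset]; exact hUc⟩
  obtain ⟨χ, hχ⟩ := block_nonempty hM hB
  obtain ⟨ψ, hψ, -⟩ := exists_quot_regular hM hmax hab hUc hUP hχ
  refine (show quotBlock U B = blockOf M (ψ : G ⧸ U → ℂ) from ?_) ▸ blockOf_isPBlock ψ
  ext φ
  show Inflation.inflIrr U φ ∈ B ↔ SameBlock M (ψ : G ⧸ U → ℂ) (φ : G ⧸ U → ℂ)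
  rw [Inflation.sameBlock_inflIrr_iff U hM (hmax.1.1.1.to_le hUP) hC]
  constructor
  · exact fun h => sameBlock_of_mem hM hB hψ h
  · intro h
    rw [eq_blockOf hM hB hψ]
    exact h

theorem blockCoeff_eq_zero_singular (hM : IsPModular p M) (hB : IsPBlock M B) {x : G}
    (hx : p ∣ orderOf x) : blockCoeff B x = 0 := by
  simp only [blockCoeff, finsum_mem_bset]
  rw [mul_eq_zero]
  right
  have hx' : p ∣ orderOf x⁻¹ := by rwa [orderOf_inv]
  refine Eq.trans (Finset.sum_congr rfl fun χ _ => ?_)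
    (weak_orth hM hB (x := 1) (y := x⁻¹) (by simpa using hM.1.ne_one) hx')
  rw [irr_conjInv]

theorem mk_regular {U : Subgroup G} [U.Normal] {y : G} (hy : ¬ p ∣ orderOf y) :
    ¬ p ∣ orderOf (y : G ⧸ U) := fun h =>
  hy (h.trans (orderOf_map_dvd (QuotientGroup.mk' U) y))

/-- Multiplying a regular element by a nontrivial central `p`-element gives a singular element. -/
theorem singular_mul_central (hM : IsPModular p M) {U : Subgroup G} (hU : IsPGroup p U)
    (hUc : U ≤ Subgroup.center G) {x y : G} (hx : x ∈ U) (hx1 : x ≠ 1) (hy : ¬ p ∣ orderOf y) :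
    p ∣ orderOf (x * y) := by
  haveI : Fact p.Prime := ⟨hM.1⟩
  by_contra h
  obtain ⟨k, hk⟩ := IsPGroup.iff_orderOf.1 hU ⟨x, hx⟩
  rw [← Subgroup.orderOf_coe] at hk
  obtain ⟨e1, -⟩ := pPart_unique hM.1 (Subgroup.mem_center_iff.1 (hUc hx) y).symm
    (Commute.one_left (x * y)) ⟨k, hk⟩ ⟨0, orderOf_one⟩ hy h (one_mul _).symm
  exact hx1 e1

/-- Regular elements of `G` and of the quotient correspond. -/
theorem sum_regular_quot (hM : IsPModular p M) {U : Subgroup G} [U.Normal] [Fintype (G ⧸ U)]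
    (hU : IsPGroup p U) (hUc : U ≤ Subgroup.center G) (F : G ⧸ U → ℂ) :
    ∑ y ∈ Finset.univ.filter (fun y : G => ¬ p ∣ orderOf y), F (y : G ⧸ U) =
      ∑ q ∈ Finset.univ.filter (fun q : G ⧸ U => ¬ p ∣ orderOf q), F q := by
  classical
  haveI : Fact p.Prime := ⟨hM.1⟩
  refine Finset.sum_bij (fun y _ => (y : G ⧸ U))
    (fun y hy => Finset.mem_filter.2
      ⟨Finset.mem_univ _, mk_regular (Finset.mem_filter.1 hy).2⟩)
    (fun y hy y' hy' he => ?_) (fun q hq => ?_) (fun y _ => rfl)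
  · by_contra hne
    rw [QuotientGroup.eq] at he
    have h1 : y⁻¹ * y' ≠ 1 := fun h => hne (inv_mul_eq_one.1 h)
    have h2 := singular_mul_central hM hU hUc he h1 (Finset.mem_filter.1 hy).2
    rw [← Subgroup.mem_center_iff.1 (hUc he) y, mul_inv_cancel_left] at h2
    exact (Finset.mem_filter.1 hy').2 h2
  · obtain ⟨g, hg, hgr⟩ := Inflation.exists_regular_lift U hU (Finset.mem_filter.1 hq).2
    exact ⟨g, Finset.mem_filter.2 ⟨Finset.mem_univ _, hgr⟩, hg⟩

theorem regS_infl (hM : IsPModular p M) {U : Subgroup G} [U.Normal] [Fintype (G ⧸ U)]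
    (hU : IsPGroup p U) (hUc : U ≤ Subgroup.center G) (ψ φ : IrrCharacter (G ⧸ U)) :
    regS p (Inflation.inflIrr U ψ : G → ℂ) (Inflation.inflIrr U φ : G → ℂ) =
      regS p (ψ : G ⧸ U → ℂ) (φ : G ⧸ U → ℂ) := by
  rw [regS_eq_sum, regS_eq_sum]
  exact sum_regular_quot hM hU hUc fun q => (ψ : G ⧸ U → ℂ) q * (φ : G ⧸ U → ℂ) q⁻¹

open Classical in
/-- The coefficient of the quotient block at a regular element. -/
theorem blockCoeff_quot (hM : IsPModular p M) (hB : IsPBlock M B) {U : Subgroup G} [U.Normal]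
    [Fintype (G ⧸ U)] (hU : IsPGroup p U) (hUc : U ≤ Subgroup.center G) {g : G}
    (hg : ¬ p ∣ orderOf g) : blockCoeff (quotBlock U B) (g : G ⧸ U) = blockCoeff B g := by
  have hg' : ¬ p ∣ orderOf g⁻¹ := by rwa [orderOf_inv]
  have h1 : ∑ χ ∈ bset B, (χ : G → ℂ) 1 * omega (χ : G → ℂ) (avgFn U) * (χ : G → ℂ) g⁻¹ =
      (Nat.card U : ℂ)⁻¹ * ∑ χ ∈ bset B, (χ : G → ℂ) 1 * (χ : G → ℂ) g⁻¹ := by
    rw [Finset.sum_congr rfl fun (χ : IrrCharacter G) _ => show (χ : G → ℂ) 1 * omega (χ : G → ℂ) (avgFn U) *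
      (χ : G → ℂ) g⁻¹ = ∑ x, avgFn U x * ((χ : G → ℂ) 1 * (χ : G → ℂ) (x * g⁻¹)) by
        rw [mul_assoc, ← sum_classFun_mul_shift (avgFn_isClassFunction U) χ g⁻¹, Finset.mul_sum]
        exact Finset.sum_congr rfl fun x _ => by ring,
      Finset.sum_comm, Finset.sum_eq_single (1 : G)]
    · rw [Finset.mul_sum, avgFn, if_pos U.one_mem]
      simp only [one_mul]
    · intro x _ hx1
      by_cases hx : x ∈ U
      · rw [← Finset.mul_sum, weak_orth hM hB (x := 1) (y := x * g⁻¹)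
          (by simpa using hM.1.ne_one) (singular_mul_central hM hU hUc hx hx1 hg'), mul_zero]
      · exact Finset.sum_eq_zero fun χ _ => by simp [avgFn, hx]
    · simp
  have h2 : ∑ χ ∈ bset B, (χ : G → ℂ) 1 * omega (χ : G → ℂ) (avgFn U) * (χ : G → ℂ) g⁻¹ =
      ∑ ψ ∈ bset (quotBlock U B), (ψ : G ⧸ U → ℂ) 1 * (ψ : G ⧸ U → ℂ) ((g : G ⧸ U))⁻¹ := by
    rw [show ∑ χ ∈ bset B, (χ : G → ℂ) 1 * omega (χ : G → ℂ) (avgFn U) * (χ : G → ℂ) g⁻¹ =
      ∑ χ ∈ (bset B).filter (fun χ : IrrCharacter G => omega (χ : G → ℂ) (avgFn U) = 1),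
        (χ : G → ℂ) 1 * (χ : G → ℂ) g⁻¹ by
      rw [Finset.sum_filter]
      refine Finset.sum_congr rfl fun χ _ => ?_
      rcases (omega_avgFn U χ).1 with h | h <;> simp [h]]
    refine (Finset.sum_bij (fun ψ _ => Inflation.inflIrr U ψ) (fun ψ hψ => Finset.mem_filter.2
        ⟨(have h := mem_bset.1 hψ; mem_bset.2 h), (omega_avgFn U _).2.2 (Inflation.inflIrr_kernel U ψ)⟩)
        (fun a _ b _ h => ?_) (fun χ hχ => ?_) (fun ψ _ => rfl)).symm
    · refine Subtype.ext (funext fun q => ?_)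
      obtain ⟨y, rfl⟩ := QuotientGroup.mk_surjective q
      exact congrArg (fun F : IrrCharacter G => (F : G → ℂ) y) h
    · obtain ⟨hχB, hω⟩ := Finset.mem_filter.1 hχ
      obtain ⟨φ, hφ, he⟩ := exists_quotient_irr U χ.2 ((omega_avgFn U χ).2.1 hω)
      have heq : Inflation.inflIrr U ⟨φ, hφ⟩ = χ := Subtype.ext he.symm
      exact ⟨⟨φ, hφ⟩, mem_bset.2 (show Inflation.inflIrr U ⟨φ, hφ⟩ ∈ B from heq ▸ mem_bset.1 hχB),
          heq⟩
  have hcard : (Nat.card G : ℂ) = (Nat.card (G ⧸ U) : ℂ) * (Nat.card U : ℂ) := by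
    exact_mod_cast Subgroup.card_eq_card_quotient_mul_card_subgroup U
  simp only [blockCoeff, finsum_mem_bset, irr_conjInv]
  rw [← h2, h1, hcard, mul_inv, mul_assoc]

end CfsgLib.Blocks
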