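import Cfsg.Agent.Lib.Blocks.MaxPairs

/-!
# Blocks of local subgroups attached to Brauer pairs
-/

namespace CfsgLib.Blocks

open Cfsg CfsgLib.CharTheory

set_option linter.unusedVariables false
set_option linter.unusedSimpArgs false
set_option linter.style.haveILetI false
set_option linter.unusedSectionVars false

universe u

variable {p : ℕ} {M : Ideal AlgInt} {G : Type u} [Group G] [Fintype G]

theorem block_eq_of_coeff {F F' : Set (IrrCharacter G)}
    (h : ∀ g, blockCoeff F g = blockCoeff F' g) : F = F' := by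
  ext χ
  have h1 : ind F χ = ind F' χ := by
    rw [← omega_cf (ind F) χ, ← omega_cf (ind F') χ, cf_ind, cf_ind, funext h]
  constructor
  · intro hχ; by_contra hc; rw [ind_of_mem hχ, ind_of_notMem hc] at h1; exact one_ne_zero h1
  · intro hχ; by_contra hc; rw [ind_of_mem hχ, ind_of_notMem hc] at h1; exact zero_ne_one h1

theorem charDegree_irrPull {K L : Type u} [Group K] [Group L] [Finite K] [Finite L] (e : K ≃* L)
    (χ : IrrCharacter L) : charDegree (irrPull e χ : K → ℂ) = charDegree (χ : L → ℂ) := by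
  simp [charDegree]

theorem blockDefect_image {K L : Type u} [Group K] [Group L] [Finite K] [Finite L] (e : K ≃* L)
    (B : Set (IrrCharacter L)) : blockDefect p (irrPull e '' B) = blockDefect p B := by
  simp only [blockDefect, Nat.card_congr e.toEquiv, Set.image_image, charDegree_irrPull]

theorem exists_defectGroup (hM : IsPModular p M) {B : Set (IrrCharacter G)} (hB : IsPBlock M B) :
    ∃ D : Subgroup G, IsDefectGroup p M B D := by
  haveI : Fact p.Prime := ⟨hM.1⟩
  obtain ⟨g, hg⟩ := exists_defectClass hM hB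
  obtain ⟨S⟩ : Nonempty (Sylow p (Subgroup.centralizer ({g} : Set G))) := inferInstance
  exact ⟨_, g, hg, S, rfl⟩

theorem exists_unit_of_lam (hM : IsPModular p M) {P : Subgroup G} {β : G → ℂ} (hn : Nice M P β)
    {ξ : IrrCharacter (Subgroup.centralizer (P : Set G))} (h : lam hM P β ξ = 1) :
    ∃ c ∈ Subgroup.centralizer (P : Set G), res hM (β c) ≠ 0 := by
  haveI := res_isDomain hM
  by_contra hno
  push Not at hno
  rw [lam_congr hM hn (Nice.zero hM) (fun c hc => by rw [res_zero]; exact hno c hc) ξ,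
    lam_zero] at h
  exact zero_ne_one h

theorem lam_conj_normalizer (hM : IsPModular p M) {Q : Subgroup G} {n : G}
    (hn : n ∈ Subgroup.normalizer (Q : Set G)) {β : G → ℂ} (hinv : ∀ x, β (n * x * n⁻¹) = β x)
    (η : IrrCharacter (Subgroup.centralizer (Q : Set G))) :
    lam hM Q β (irrPull (conjE (normalizer_le_normalizer_cent Q hn)) η) = lam hM Q β η := by
  simp only [lam, brauerOmega]
  congr 1
  refine finsum_eq_of_bijective (conjE (normalizer_le_normalizer_cent Q hn))
    (conjE (normalizer_le_normalizer_cent Q hn)).bijective fun c => ?_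
  simp only [irrPull_apply, map_one]
  congr 2
  rw [conjE_coe, ← hinv (n⁻¹ * (c : G) * n)]
  congr 1
  group

section orbitIn

variable {Q : Subgroup G}

/-- The orbit of a block of `C(Q)` under a subgroup. -/
noncomputable def orbitIn (T : Subgroup G)
    (f : Set (IrrCharacter (Subgroup.centralizer (Q : Set G)))) :
    Finset (Set (IrrCharacter (Subgroup.centralizer (Q : Set G)))) :=
  (Set.toFinite {b | ∃ (n : G) (hn : n ∈ Subgroup.normalizer (Q : Set G)),
    n ∈ T ∧ b = rot hn f}).toFinset

theorem mem_orbitIn {T : Subgroup G}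
    {f b : Set (IrrCharacter (Subgroup.centralizer (Q : Set G)))} :
    b ∈ orbitIn T f ↔ ∃ (n : G) (hn : n ∈ Subgroup.normalizer (Q : Set G)),
      n ∈ T ∧ b = rot hn f := by
  simp [orbitIn]

theorem self_mem_orbitIn (T : Subgroup G)
    (f : Set (IrrCharacter (Subgroup.centralizer (Q : Set G)))) : f ∈ orbitIn T f :=
  mem_orbitIn.2 ⟨1, Subgroup.one_mem _, T.one_mem, (rot_one _ f).symm⟩

theorem rot_mem_orbitIn {T : Subgroup G}
    {f b : Set (IrrCharacter (Subgroup.centralizer (Q : Set G)))} (hb : b ∈ orbitIn T f) {m : G}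
    (hm : m ∈ Subgroup.normalizer (Q : Set G)) (hmT : m ∈ T) : rot hm b ∈ orbitIn T f := by
  obtain ⟨n, hn, hnT, rfl⟩ := mem_orbitIn.1 hb
  exact mem_orbitIn.2 ⟨m * n, _, T.mul_mem hmT hnT, rot_rot hm hn f⟩

theorem isPBlock_orbitIn {T : Subgroup G}
    {f b : Set (IrrCharacter (Subgroup.centralizer (Q : Set G)))} (hf : IsPBlock M f)
    (hb : b ∈ orbitIn T f) : IsPBlock M b := by
  obtain ⟨n, hn, -, rfl⟩ := mem_orbitIn.1 hb
  exact isPBlock_image _ hf

/-- Coefficients of the sum of the orbit idempotents. -/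
noncomputable def torbFn (T : Subgroup G)
    (f : Set (IrrCharacter (Subgroup.centralizer (Q : Set G)))) :
    Subgroup.centralizer (Q : Set G) → ℂ :=
  fun k => ∑ b ∈ orbitIn T f, blockCoeff b k

theorem torbFn_cls (T : Subgroup G)
    (f : Set (IrrCharacter (Subgroup.centralizer (Q : Set G)))) :
    IsClassFunction (Subgroup.centralizer (Q : Set G)) (torbFn T f) := fun x y => by
  haveI := Fintype.ofFinite (Subgroup.centralizer (Q : Set G))
  simp only [torbFn, blockCoeff_isClassFunction _ x y]

theorem torbFn_mem (hM : IsPModular p M) {T : Subgroup G}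
    {f : Set (IrrCharacter (Subgroup.centralizer (Q : Set G)))} (hf : IsPBlock M f)
    (k : Subgroup.centralizer (Q : Set G)) : MemLocalRing M (torbFn T f k) := by
  haveI := Fintype.ofFinite (Subgroup.centralizer (Q : Set G))
  exact memRing_sum hM fun b hb => memRing_blockCoeff hM (isPBlock_orbitIn hf hb) k

theorem torbFn_conj (T : Subgroup G)
    (f : Set (IrrCharacter (Subgroup.centralizer (Q : Set G)))) {n : G}
    (hn : n ∈ Subgroup.normalizer (Q : Set G)) (hnT : n ∈ T)
    {k k' : Subgroup.centralizer (Q : Set G)} (hk : (k' : G) = n * k * n⁻¹) :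
    torbFn T f k' = torbFn T f k := by
  haveI := Fintype.ofFinite (Subgroup.centralizer (Q : Set G))
  have hni := (Subgroup.normalizer (Q : Set G)).inv_mem hn
  symm
  refine Finset.sum_nbij' (fun b => rot hn b) (fun b => rot hni b)
    (fun b hb => rot_mem_orbitIn hb hn hnT) (fun b hb => rot_mem_orbitIn hb hni (T.inv_mem hnT))
    (fun b _ => ?_) (fun b _ => ?_) (fun b _ => ?_)
  · rw [rot_rot]
    exact rot_eq_self _ (inv_mul_cancel n) b
  · rw [rot_rot]
    exact rot_eq_self _ (mul_inv_cancel n) b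
  · simp only [rot, blockCoeff_image]
    refine congrArg _ ?_
    apply Subtype.ext
    show (k : G) = n⁻¹ * (k' : G) * n
    rw [hk]; group

theorem torbFn_of_stable {T : Subgroup G}
    {f : Set (IrrCharacter (Subgroup.centralizer (Q : Set G)))}
    (hst : ∀ n ∈ T, StabilizesBlock (Subgroup.centralizer (Q : Set G)) f n) :
    torbFn T f = blockCoeff f := by
  have h : orbitIn T f = {f} := by
    ext b
    rw [Finset.mem_singleton]
    refine ⟨fun hb => ?_, fun hb => hb ▸ self_mem_orbitIn T f⟩
    obtain ⟨n, hn, hnT, rfl⟩ := mem_orbitIn.1 hb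
    exact (stabilizesBlock_iff (normalizer_le_normalizer_cent Q hn)).1 (hst n hnT)
  funext k
  rw [torbFn, h, Finset.sum_singleton]

/-- The orbit sum of a block of `C(Q)` under `T`, with `Q C(Q) ≤ T ≤ N(Q)`, is a block
idempotent of `T`. -/
theorem exists_localBlock (hM : IsPModular p M) (hQ : IsPGroup p Q) {T : Subgroup G}
    (hQT : Q ≤ T) (hCT : Subgroup.centralizer (Q : Set G) ≤ T)
    (hTN : T ≤ Subgroup.normalizer (Q : Set G))
    {f : Set (IrrCharacter (Subgroup.centralizer (Q : Set G)))} (hf : IsPBlock M f) :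
    ∃ F : Set (IrrCharacter T), IsPBlock M F ∧
      ∀ t : T, blockCoeff F t = sext (Subgroup.centralizer (Q : Set G)) (torbFn T f) t := by
  classical
  haveI := res_isDomain hM
  haveI := Fintype.ofFinite T
  haveI := Fintype.ofFinite (Subgroup.centralizer (Q : Set G))
  set a := torbFn T f with ha
  have hacls := torbFn_cls T f
  have ham := torbFn_mem (T := T) hM hf
  have hainv : ∀ t ∈ T, ∀ x, sext (Subgroup.centralizer (Q : Set G)) a (t * x * t⁻¹) =
      sext (Subgroup.centralizer (Q : Set G)) a x := fun t ht =>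
    sext_conj _ (normalizer_le_normalizer_cent Q (hTN ht))
      fun k k' hk => torbFn_conj T f (hTN ht) ht hk
  set aT : T → ℂ := fun t => sext (Subgroup.centralizer (Q : Set G)) a t with haT
  have haTc : IsClassFunction T aT := fun s t => hainv t t.2 s
  have haTm : ∀ t, MemLocalRing M (aT t) := fun t => sext_mem hM _ ham t
  have hext : sext T aT = sext (Subgroup.centralizer (Q : Set G)) a := by
    funext g
    by_cases hg : g ∈ T
    · exact sext_coe T aT ⟨g, hg⟩
    · rw [sext_off T aT hg, sext_off _ a fun h => hg (hCT h)]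
  have hu : conv a a = a := by
    have hae : a = cf (∑ b ∈ orbitIn T f, ind b) := by
      funext k
      rw [cf_sum, Finset.sum_apply]
      simp only [cf_ind]
      rfl
    rw [hae, ← cf_mul]
    congr 1
    funext ψ
    simp only [Pi.mul_apply, Finset.sum_apply]
    by_cases h : ∃ b ∈ orbitIn T f, ψ ∈ b
    · obtain ⟨b, hb, hψ⟩ := h
      rw [Finset.sum_eq_single b (fun b' hb' hne => ind_of_notMem fun h' => hne
        ((eq_blockOf hM (isPBlock_orbitIn hf hb') h').trans
          (eq_blockOf hM (isPBlock_orbitIn hf hb) hψ).symm)) (fun h' => absurd hb h'),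
        ind_of_mem hψ, mul_one]
    · push Not at h
      rw [Finset.sum_eq_zero fun b hb => ind_of_notMem (h b hb), mul_zero]
  have hidem : conv aT aT = aT := by
    funext t
    have h1 := congrFun (sext_conv T aT aT) (t : G)
    rw [hext, sext_conv, hu, sext_coe] at h1
    exact h1.symm
  have h01 : ∀ ψ : IrrCharacter T,
      omega (ψ : T → ℂ) aT = 0 ∨ omega (ψ : T → ℂ) aT = 1 := by
    intro ψ
    have h := omega_conv (h := aT) haTc ψ
    rw [hidem] at h
    rcases eq_or_ne (omega (ψ : T → ℂ) aT) 0 with h0 | h0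
    · exact Or.inl h0
    · exact Or.inr ((mul_eq_left₀ h0).1 h.symm)
  set V : Set (IrrCharacter T) := {ψ | omega (ψ : T → ℂ) aT = 1} with hV
  have hVcf : cf (ind V) = aT := by
    rw [← cf_omega haTc]
    congr 1
    funext ψ
    rcases h01 ψ with h | h
    · rw [h, ind_of_notMem (show ψ ∉ V from fun h' => zero_ne_one (h.symm.trans h'))]
    · rw [h, ind_of_mem (show ψ ∈ V from h)]
  have hblk : ∀ ψ ∈ V, blockOf M (ψ : T → ℂ) ⊆ V := by
    intro ψ hψ φ hφ
    have h := Zloc_res_congr hM (omega_mem_Zloc hM haTc haTm) hφ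
    rcases h01 φ with h0 | h1
    · rw [h0, (show omega (ψ : T → ℂ) aT = 1 from hψ), res_zero, res_one] at h
      exact absurd h one_ne_zero
    · exact h1
  obtain ⟨η₀, hη₀⟩ := bne hM hf
  have hnT : ∀ {b : Set (IrrCharacter T)}, IsPBlock M b → Nice M Q (sext T (blockCoeff b)) := by
    intro b hb
    refine nice_sext hM (hQT.trans Subgroup.le_normalizer) hCT (blockCoeff_isClassFunction b)
      (memRing_blockCoeff hM hb) fun r hr k k' hk => ?_
    rw [show k' = ⟨r, hQT hr⟩ * k * ⟨r, hQT hr⟩⁻¹ from Subtype.ext (by simpa using hk)]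
    exact blockCoeff_isClassFunction b k _
  have hna : Nice M Q (sext (Subgroup.centralizer (Q : Set G)) a) :=
    nice_sext_centralizer hM hacls ham
  have hlama : ∀ η, (∀ b ∈ orbitIn T f, η ∉ b) →
      lam hM Q (sext (Subgroup.centralizer (Q : Set G)) a) η = 0 := by
    intro η hη
    rw [lam, brauerOmega_eq_omega]
    simp only [sext_coe]
    have hae : a = cf (∑ b ∈ orbitIn T f, ind b) := by
      funext k
      rw [cf_sum, Finset.sum_apply]
      simp only [cf_ind]
      rfl
    rw [show (fun c => a c) = a from rfl, hae, omega_cf, Finset.sum_apply,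
      Finset.sum_eq_zero fun b hb => ind_of_notMem (hη b hb), res_zero]
  have hr1 : ∀ b : Set (IrrCharacter T), IsPBlock M b → b ⊆ V →
      lam hM Q (sext T (blockCoeff b)) η₀ = 1 := by
    intro b hb hbV
    have hn := hnT hb
    have hid : conv (sext T (blockCoeff b)) (sext T (blockCoeff b)) = sext T (blockCoeff b) := by
      rw [sext_conv, conv_blockCoeff]
    have hprod : conv (sext T (blockCoeff b)) (sext (Subgroup.centralizer (Q : Set G)) a) =
        sext T (blockCoeff b) := by
      rw [← hext, sext_conv, ← hVcf, ← cf_ind b, ← cf_mul]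
      congr 2
      funext ψ
      by_cases h : ψ ∈ b
      · simp [ind_of_mem h, ind_of_mem (hbV h)]
      · simp [ind_of_notMem h]
    obtain ⟨η, hη⟩ : ∃ η, lam hM Q (sext T (blockCoeff b)) η ≠ 0 := by
      by_contra hno
      push Not at hno
      obtain ⟨t, ht⟩ := exists_defectClass hM hb
      haveI : (Q.subgroupOf T).Normal :=
        ⟨fun r hr y => Subgroup.mem_subgroupOf.2
          ((Subgroup.mem_normalizer_iff.1 (hTN y.2) r).1 (Subgroup.mem_subgroupOf.1 hr))⟩
      have htC := mem_centralizer_normal hM hb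
        (P := Q.subgroupOf T) (hQ.comap_of_injective T.subtype Subtype.coe_injective) ht.2.1
      have htC' : (t : G) ∈ Subgroup.centralizer (Q : Set G) := fun r hr =>
        congrArg Subtype.val (htC ⟨r, hQT hr⟩ (Subgroup.mem_subgroupOf.2 hr))
      have h0 := res_eq_zero_of_lam_zero hM hQ hn hid hno htC'
      rw [sext_coe, res_eq_zero_iff hM ht.1] at h0
      exact ht.2.1 h0
    have hη1 : lam hM Q (sext T (blockCoeff b)) η = 1 := by
      have h := lam_conv hM hQ hn hn η
      rw [hid] at h
      exact (mul_eq_left₀ hη).1 h.symm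
    have hmul := lam_conv hM hQ hn hna η
    rw [hprod, hη1, one_mul] at hmul
    obtain ⟨b', hb', hηb'⟩ : ∃ b' ∈ orbitIn T f, η ∈ b' := by
      by_contra hno
      push Not at hno
      rw [hlama η hno] at hmul
      exact one_ne_zero hmul
    obtain ⟨n, hn', hnT', rfl⟩ := mem_orbitIn.1 hb'
    have hmem : irrPull (conjE (normalizer_le_normalizer_cent Q hn')) η₀ ∈ rot hn' f :=
      ⟨η₀, hη₀, rfl⟩
    rw [← lam_conj_normalizer hM hn' (fun x => sext_conj_mem T (blockCoeff_isClassFunction b) hnT' x)
      η₀, lam_block_congr hM hn (isPBlock_orbitIn hf hb') hmem hηb', hη1]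
  obtain ⟨ψ, hψ⟩ : ∃ ψ, ψ ∈ V := by
    by_contra hno
    push Not at hno
    have h0 : aT = fun _ => 0 := by
      rw [← hVcf]
      funext t
      simp [cf, ind_of_notMem (hno _)]
    have h1 : lam hM Q (sext (Subgroup.centralizer (Q : Set G)) a) η₀ = 1 := by
      rw [lam, brauerOmega_eq_omega]
      simp only [sext_coe]
      have hae : a = cf (∑ b ∈ orbitIn T f, ind b) := by
        funext k
        rw [cf_sum, Finset.sum_apply]
        simp only [cf_ind]
        rfl
      rw [show (fun c => a c) = a from rfl, hae, omega_cf, Finset.sum_apply,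
        Finset.sum_eq_single f (fun b' hb' hne => ind_of_notMem fun h' => hne
          ((eq_blockOf hM (isPBlock_orbitIn hf hb') h').trans (eq_blockOf hM hf hη₀).symm))
        (fun h' => absurd (self_mem_orbitIn T f) h'), ind_of_mem hη₀, res_one]
    rw [← hext, h0, show sext T (fun _ : T => (0 : ℂ)) = fun _ => 0 by funext g; simp [sext],
      lam_zero] at h1
    exact zero_ne_one h1
  refine ⟨blockOf M (ψ : T → ℂ), blockOf_isPBlock ψ, fun t => ?_⟩
  have hVeq : V = blockOf M (ψ : T → ℂ) := by
    refine Set.Subset.antisymm (fun φ hφ => ?_) (hblk ψ hψ)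
    by_contra hne
    have hd : blockOf M (φ : T → ℂ) ≠ blockOf M (ψ : T → ℂ) := fun h =>
      hne (h ▸ mem_blockOf_self hM φ)
    have hc := lam_conv hM hQ (hnT (blockOf_isPBlock φ)) (hnT (blockOf_isPBlock ψ)) η₀
    rw [hr1 _ (blockOf_isPBlock φ) (hblk φ hφ), hr1 _ (blockOf_isPBlock ψ) (hblk ψ hψ),
      sext_conv, conv_blockCoeff_eq_zero
        (block_disjoint hM (blockOf_isPBlock φ) (blockOf_isPBlock ψ) hd),
      show sext T (0 : T → ℂ) = fun _ => 0 by funext g; simp [sext], lam_zero, one_mul] at hc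
    exact zero_ne_one hc
  rw [← hVeq, ← cf_ind, hVcf]

end orbitIn

/-- `n` fixes the pair `(Q, f)`. -/
theorem stab_iff_idx {Q : Subgroup G}
    {f : Set (IrrCharacter (Subgroup.centralizer (Q : Set G)))} (y : G) :
    (y ∈ Subgroup.normalizer (Q : Set G) ∧
      StabilizesBlock (Subgroup.centralizer (Q : Set G)) f y) ↔
      conjIdx y (⟨Q, f⟩ : BrauerPairIdx G) = ⟨Q, f⟩ := by
  constructor
  · rintro ⟨hy, hs⟩
    rw [conjIdx_normalizer hy]
    exact congrArg _ ((stabilizesBlock_iff (normalizer_le_normalizer_cent Q hy)).1 hs)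
  · intro h
    have h1 : Q.map (MulAut.conj y).toMonoidHom = Q := congrArg Sigma.fst h
    have hy : y ∈ Subgroup.normalizer (Q : Set G) := by
      rw [Subgroup.mem_normalizer_iff]
      intro r
      conv_rhs => rw [← h1, conjMap_mem_iff]
      simp [mul_assoc]
    rw [conjIdx_normalizer hy] at h
    exact ⟨hy, (stabilizesBlock_iff (normalizer_le_normalizer_cent Q hy)).2
      (eq_of_heq (Sigma.mk.inj_iff.1 h).2)⟩

/-- The stabilizer of a Brauer pair. -/
noncomputable def pairStab (Q : Subgroup G)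
    (f : Set (IrrCharacter (Subgroup.centralizer (Q : Set G)))) : Subgroup G where
  carrier := {y | conjIdx y (⟨Q, f⟩ : BrauerPairIdx G) = ⟨Q, f⟩}
  one_mem' := conjIdx_one _
  mul_mem' := fun {a b} ha hb => by
    show conjIdx (a * b) _ = _
    rw [← conjIdx_mul, show conjIdx b _ = _ from hb]
    exact ha
  inv_mem' := fun {a} ha => by
    show conjIdx a⁻¹ _ = _
    conv_lhs => rw [← show conjIdx a _ = _ from ha, conjIdx_mul, inv_mul_cancel, conjIdx_one]

theorem mem_pairStab {Q : Subgroup G}
    {f : Set (IrrCharacter (Subgroup.centralizer (Q : Set G)))} (y : G) :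
    y ∈ pairStab Q f ↔ y ∈ Subgroup.normalizer (Q : Set G) ∧
      StabilizesBlock (Subgroup.centralizer (Q : Set G)) f y :=
  (stab_iff_idx y).symm

theorem stabilizes_of_mem_cent {Q : Subgroup G}
    (f : Set (IrrCharacter (Subgroup.centralizer (Q : Set G)))) {y : G}
    (hy : y ∈ Subgroup.centralizer (Q : Set G)) :
    StabilizesBlock (Subgroup.centralizer (Q : Set G)) f y := by
  refine ⟨normalizer_le_normalizer_cent Q (Subgroup.centralizer_le_normalizer _ hy),
    fun χ hχ => ⟨χ, hχ, fun k k' hk => ?_⟩⟩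
  rw [show k' = ⟨y, hy⟩ * k * ⟨y, hy⟩⁻¹ from Subtype.ext (by simpa using hk)]
  exact irr_isClassFun χ k _

theorem cent_le_pairStab (Q : Subgroup G)
    (f : Set (IrrCharacter (Subgroup.centralizer (Q : Set G)))) :
    Subgroup.centralizer (Q : Set G) ≤ pairStab Q f := fun y hy =>
  (mem_pairStab y).2 ⟨Subgroup.centralizer_le_normalizer _ hy, stabilizes_of_mem_cent f hy⟩

theorem self_le_pairStab (hM : IsPModular p M) (Q : Subgroup G)
    (f : Set (IrrCharacter (Subgroup.centralizer (Q : Set G)))) : Q ≤ pairStab Q f := fun y hy =>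
  (mem_pairStab y).2 ⟨Subgroup.le_normalizer hy, stabilizes_self hM f hy⟩

/-- An inclusion of pairs inside the normalizer of the smaller group starts with a normal step. -/
theorem normal_step_of_le (hM : IsPModular p M) {Q P R : Subgroup G} (hP : IsPGroup p P)
    {f : Set (IrrCharacter (Subgroup.centralizer (Q : Set G)))}
    {e : Set (IrrCharacter (Subgroup.centralizer (P : Set G)))} (hf : IsPBlock M f)
    (he : IsPBlock M e) (hle : SubpairLE p M Q f P e) (hQR : Q ≤ R) (hRP : R ≤ P)
    (hRN : R ≤ Subgroup.normalizer (Q : Set G)) :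
    ∃ g, IsPBlock M g ∧ IsNormalSubpair p M Q f R g ∧ SubpairLE p M R g P e := by
  obtain ⟨g, ⟨hg, hgle⟩, -⟩ := existsUnique_subpair hM hP he R hRP
  obtain ⟨f', hf'⟩ := exists_normal_below hM (hP.to_le hRP) hQR hRN hg
  obtain ⟨u, -, huniq⟩ := existsUnique_subpair hM hP he Q (hQR.trans hRP)
  have h1 : f' = f := (huniq f' ⟨hf'.1.2, Relation.ReflTransGen.head
    (show NormalSubpairRel p M ⟨Q, f'⟩ ⟨R, g⟩ from hf') hgle⟩).trans (huniq f ⟨hf, hle⟩).symm
  exact ⟨g, hg, h1 ▸ hf', hgle⟩

/-- A step above `(Q, f)` gives a `p`-subgroup of a defect group. -/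
theorem le_defect_of_step (hM : IsPModular p M) {Q R : Subgroup G}
    {f : Set (IrrCharacter (Subgroup.centralizer (Q : Set G)))}
    {g : Set (IrrCharacter (Subgroup.centralizer (R : Set G)))}
    (h : IsNormalSubpair p M Q f R g) {T : Subgroup G}
    (hCT : Subgroup.centralizer (Q : Set G) ≤ T) {F : Set (IrrCharacter T)} (hF : IsPBlock M F)
    (hcoef : ∀ t : T, blockCoeff F t =
      subgroupBlockCoeff (Subgroup.centralizer (Q : Set G)) f (t : G))
    {S : Subgroup G} (hS : IsPGroup p S) (hSR : S ≤ R) :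
    ∃ D : Subgroup T, IsDefectGroup p M F D ∧ S.subgroupOf T ≤ D := by
  haveI := Fintype.ofFinite T
  obtain ⟨ξ, hξ⟩ := bne hM h.2.1.2
  have hn : Nice M R (subgroupBlockCoeff (Subgroup.centralizer (Q : Set G)) f) :=
    nice_subgroupBlockCoeff hM (centralizer_anti h.2.2.1) h.1.2 h.2.2.2.2.1
  obtain ⟨c, hc, hu⟩ := exists_unit_of_lam hM hn (normalSubpair_lam hM h hξ)
  have hcT : c ∈ T := hCT (centralizer_anti h.2.2.1 hc)
  refine exists_defectGroup_ge hM hF (l := ⟨c, hcT⟩) (fun hI => hu ?_)
    (hS.comap_of_injective T.subtype Subtype.coe_injective) (fun s hs => ?_)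
  · rw [res_eq_zero_iff hM (hn.mem c)]
    rwa [hcoef] at hI
  · refine Subgroup.mem_centralizer_singleton_iff.2 (Subtype.ext ?_)
    exact hc (s : G) (hSR (Subgroup.mem_subgroupOf.1 hs))

/-- A `p`-subgroup with a unit coefficient of `f` on its centralizer carries a pair above `(Q, f)`. -/
theorem exists_step_of_unit (hM : IsPModular p M) {Q R : Subgroup G} (hR : IsPGroup p R)
    (hQR : Q ≤ R) {f : Set (IrrCharacter (Subgroup.centralizer (Q : Set G)))} (hf : IsPBlock M f)
    (hst : R ≤ pairStab Q f) {c : G} (hc : c ∈ Subgroup.centralizer (R : Set G))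
    (hu : res hM (subgroupBlockCoeff (Subgroup.centralizer (Q : Set G)) f c) ≠ 0) :
    ∃ g, IsPBlock M g ∧ IsNormalSubpair p M Q f R g := by
  haveI := Fintype.ofFinite (Subgroup.centralizer (R : Set G))
  have hst' : ∀ x ∈ R, StabilizesBlock (Subgroup.centralizer (Q : Set G)) f x := fun x hx =>
    ((mem_pairStab x).1 (hst hx)).2
  obtain ⟨ξ, hξ⟩ := exists_upper hM hR (centralizer_anti hQR) hf hst' hc hu
  exact ⟨_, blockOf_isPBlock ξ, isNormalSubpair_mk hM hR hQR
    (fun x hx => ((mem_pairStab x).1 (hst hx)).1) hf hst' (blockOf_isPBlock ξ)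
    (mem_blockOf_self hM ξ) hξ⟩

/-- A defect group of the local block carries a pair above `(Q, f)`. -/
theorem exists_step_of_defect (hM : IsPModular p M) {Q : Subgroup G} (hQ : IsPGroup p Q)
    {f : Set (IrrCharacter (Subgroup.centralizer (Q : Set G)))} (hf : IsPBlock M f)
    {T : Subgroup G} (hQT : Q ≤ T) (hT : T ≤ pairStab Q f) {F : Set (IrrCharacter T)}
    (hF : IsPBlock M F)
    (hcoef : ∀ t : T, blockCoeff F t =
      subgroupBlockCoeff (Subgroup.centralizer (Q : Set G)) f (t : G))
    {D : Subgroup T} (hD : IsDefectGroup p M F D) :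
    Q ≤ D.map T.subtype ∧ ∃ g, IsPBlock M g ∧ IsNormalSubpair p M Q f (D.map T.subtype) g := by
  haveI : Fact p.Prime := ⟨hM.1⟩
  haveI := Fintype.ofFinite T
  have hDp : IsPGroup p (D.map T.subtype) := (defectGroup_isPGroup hD).map _
  have hTN : T ≤ Subgroup.normalizer (Q : Set G) := fun y hy => ((mem_pairStab y).1 (hT hy)).1
  obtain ⟨t, ht, S, rfl⟩ := hD
  have hu : res hM (subgroupBlockCoeff (Subgroup.centralizer (Q : Set G)) f (t : G)) ≠ 0 := by
    intro h0
    rw [← hcoef, res_eq_zero_iff hM ht.1] at h0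
    exact ht.2.1 h0
  have htC : (t : G) ∈ Subgroup.centralizer (Q : Set G) := by
    by_contra hno
    rw [subgroupBlockCoeff_eq, sext_off _ _ hno, res_zero] at hu
    exact hu rfl
  have hQle : Q.subgroupOf T ≤
      (S : Subgroup (Subgroup.centralizer ({t} : Set T))).map (Subgroup.centralizer ({t} : Set T)).subtype := by
    obtain ⟨c, -, hc'⟩ := exists_conj_le_sylow (Subgroup.centralizer ({t} : Set T)) S
      (hQ.comap_of_injective T.subtype Subtype.coe_injective : IsPGroup p (Q.subgroupOf T))
      (fun r hr => Subgroup.mem_centralizer_singleton_iff.2 (Subtype.ext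
        (show (r : G) * (t : G) = (t : G) * r from htC r (Subgroup.mem_subgroupOf.1 hr))))
    intro r hr
    refine hc' (conjMap_mem_iff.2 (Subgroup.mem_subgroupOf.2 ?_))
    have h := (Subgroup.mem_normalizer_iff''.1 (hTN c.2) (r : G)).1 (Subgroup.mem_subgroupOf.1 hr)
    simpa using h
  have hQD : Q ≤ ((S : Subgroup (Subgroup.centralizer ({t} : Set T))).map
      (Subgroup.centralizer ({t} : Set T)).subtype).map T.subtype := fun r hr =>
    ⟨⟨r, hQT hr⟩, hQle (Subgroup.mem_subgroupOf.2 hr), rfl⟩
  refine ⟨hQD, exists_step_of_unit hM hDp hQD hf ((Subgroup.map_subtype_le _).trans hT)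
    (c := (t : G)) ?_ hu⟩
  rintro _ ⟨r, ⟨s, -, rfl⟩, rfl⟩
  exact congrArg Subtype.val (Subgroup.mem_centralizer_singleton_iff.1 s.2)

/-- A defect group of a block of `C(Q)`, together with `Q`, carries a pair above `(Q, f)`. -/
theorem exists_step_of_defect_cent (hM : IsPModular p M) {Q : Subgroup G} (hQ : IsPGroup p Q)
    {f : Set (IrrCharacter (Subgroup.centralizer (Q : Set G)))} (hf : IsPBlock M f)
    {D : Subgroup (Subgroup.centralizer (Q : Set G))} (hD : IsDefectGroup p M f D) :
    ∃ g, IsPBlock M g ∧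
      IsNormalSubpair p M Q f (Q ⊔ D.map (Subgroup.centralizer (Q : Set G)).subtype) g := by
  haveI := Fintype.ofFinite (Subgroup.centralizer (Q : Set G))
  have hDp : IsPGroup p (D.map (Subgroup.centralizer (Q : Set G)).subtype) :=
    (defectGroup_isPGroup hD).map _
  have hDC : D.map (Subgroup.centralizer (Q : Set G)).subtype ≤
      Subgroup.centralizer (Q : Set G) := Subgroup.map_subtype_le _
  obtain ⟨t, ht, S, rfl⟩ := hD
  refine exists_step_of_unit hM
    (hQ.to_sup_of_normal_left' hDp (hDC.trans (Subgroup.centralizer_le_normalizer _)))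
    le_sup_left hf (sup_le (self_le_pairStab hM Q f) (hDC.trans (cent_le_pairStab Q f)))
    (c := (t : G)) ?_ ?_
  · intro r hr
    refine Subgroup.mem_centralizer_singleton_iff.1 ((sup_le (fun q hq => ?_) ?_ :
      Q ⊔ _ ≤ Subgroup.centralizer ({(t : G)} : Set G)) hr)
    · exact Subgroup.mem_centralizer_singleton_iff.2 (t.2 q hq)
    · rintro _ ⟨_, ⟨s, -, rfl⟩, rfl⟩
      exact Subgroup.mem_centralizer_singleton_iff.2
        (congrArg Subtype.val (Subgroup.mem_centralizer_singleton_iff.1 s.2))
  · rw [subgroupBlockCoeff_eq, sext_coe, Ne, res_eq_zero_iff hM ht.1]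
    exact ht.2.1

end CfsgLib.Blocks
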