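import Cfsg.Agent.Lib.Blocks.Covering
import Cfsg.Agent.Lib.Blocks.LocalBlocks

/-!
# Knörr's theorem on defect groups of covered blocks
-/

namespace CfsgLib.Blocks

open Cfsg CfsgLib.CharTheory
open scoped ComplexConjugate

set_option linter.unusedVariables false
set_option linter.unusedSimpArgs false
set_option linter.style.haveILetI false
set_option linter.unusedSectionVars false

universe u

variable {p : ℕ} {M : Ideal AlgInt} {G : Type u} [Group G] [Fintype G]

/-- Convolution with values in a commutative ring. -/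
def kconv {R : Type*} [CommRing R] (a b : G → R) : G → R :=
  fun g => ∑ x, a x * b (x⁻¹ * g)

/-- Matrix of left multiplication. -/
def kL {R : Type*} [CommRing R] (a : G → R) : Matrix G G R :=
  Matrix.of fun x y => a (x * y⁻¹)

theorem kL_mul {R : Type*} [CommRing R] (a b : G → R) : kL a * kL b = kL (kconv a b) := by
  ext x y
  simp only [Matrix.mul_apply, kL, Matrix.of_apply, kconv]
  refine Fintype.sum_equiv ((Equiv.inv G).trans (Equiv.mulLeft x)) _ _ fun c => ?_
  simp [mul_assoc]

theorem kL_injective {R : Type*} [CommRing R] :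
    Function.Injective (kL (G := G) (R := R)) := fun a b e => by
  funext g
  simpa [kL] using congrFun (congrFun e g) 1

theorem kconv_assoc {R : Type*} [CommRing R] (a b c : G → R) :
    kconv (kconv a b) c = kconv a (kconv b c) :=
  kL_injective (by simp only [← kL_mul, Matrix.mul_assoc])

/-- Reduction of the values of a function. -/
noncomputable def rk (hM : IsPModular p M) (f : G → ℂ) : G → AlgInt ⧸ M := fun g => res hM (f g)

theorem rk_conv (hM : IsPModular p M) {f h : G → ℂ} (hf : ∀ x, MemLocalRing M (f x))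
    (hh : ∀ x, MemLocalRing M (h x)) : rk hM (conv f h) = kconv (rk hM f) (rk hM h) := by
  funext g
  simp only [rk, conv, kconv]
  rw [res_sum hM fun x _ => (loc hM).mul_mem (hf _) (hh _)]
  exact Finset.sum_congr rfl fun x _ => res_mul hM (hf _) (hh _)

/-- A fixed lift of residues. -/
noncomputable def liftRes (r : AlgInt ⧸ M) : ℂ :=
  ((Function.surjInv Ideal.Quotient.mk_surjective r : AlgInt) : ℂ)

theorem memRing_liftRes (hM : IsPModular p M) (r : AlgInt ⧸ M) : MemLocalRing M (liftRes r) :=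
  memRing_coe hM _

theorem res_liftRes (hM : IsPModular p M) (r : AlgInt ⧸ M) : res hM (liftRes r) = r := by
  rw [liftRes, res_coe]; exact Function.surjInv_eq _ _

/-- A product vanishes on the centralizer of a `p`-group fixing both factors if the first one
does. -/
theorem kconv_vanish (hM : IsPModular p M) {P : Subgroup G} (hP : IsPGroup p P)
    {a b : G → AlgInt ⧸ M} (ha : ∀ r ∈ P, ∀ x, a (r * x * r⁻¹) = a x)
    (hb : ∀ r ∈ P, ∀ x, b (r * x * r⁻¹) = b x)
    (h0 : ∀ g ∈ Subgroup.centralizer (P : Set G), a g = 0) {k : G}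
    (hk : k ∈ Subgroup.centralizer (P : Set G)) : kconv a b k = 0 := by
  classical
  letI : MulAction P G :=
    { smul := fun r x => (r : G) * x * (r : G)⁻¹
      one_smul := fun x => by show ((1 : P) : G) * x * ((1 : P) : G)⁻¹ = x; simp
      mul_smul := fun r s x => by
        show ((r * s : P) : G) * x * ((r * s : P) : G)⁻¹ =
          (r : G) * ((s : G) * x * (s : G)⁻¹) * (r : G)⁻¹
        simp [mul_assoc] }
  rw [kconv, sum_fixedPoints hM hP _ (fun r x => ?_)]
  · refine Finset.sum_eq_zero fun x hx => ?_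
    rw [h0 x fun r hr => ?_, zero_mul]
    exact mul_inv_eq_iff_eq_mul.1 ((Finset.mem_filter.1 hx).2 ⟨r, hr⟩)
  · show a ((r : G) * x * (r : G)⁻¹) * b (((r : G) * x * (r : G)⁻¹)⁻¹ * k) = _
    have hk' : Commute (r : G) k := hk r r.2
    have e : ((r : G) * x * (r : G)⁻¹)⁻¹ * k = (r : G) * (x⁻¹ * k) * (r : G)⁻¹ := by
      calc ((r : G) * x * (r : G)⁻¹)⁻¹ * k = (r : G) * x⁻¹ * ((r : G)⁻¹ * k) := by group
        _ = (r : G) * x⁻¹ * (k * (r : G)⁻¹) := by rw [hk'.inv_left.eq]
        _ = (r : G) * (x⁻¹ * k) * (r : G)⁻¹ := by group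
    rw [e, ha r r.2, hb r r.2]

/-- A product of as many elements as there are irreducible characters, all killed by every
central character mod `M`, vanishes mod `M`. -/
theorem prod_mem_Jloc (hM : IsPModular p M)
    (v : Fin (Fintype.card (IrrCharacter G)) → Zloc G hM)
    (h : ∀ i χ, MemLocalIdeal M ((v i : IrrCharacter G → ℂ) χ)) :
    ∏ i, v i ∈ Jloc G hM := by
  classical
  set e := Fintype.equivFin (IrrCharacter G)
  rw [← Ideal.Quotient.eq_zero_iff_mem, map_prod, ← e.prod_comp]
  have hP0 : ∏ χ : IrrCharacter G, (v (e χ) - ⟨fun _ => (v (e χ) : IrrCharacter G → ℂ) χ,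
      const_mem_Zloc hM (Zloc_apply_mem hM (v (e χ)).2 χ)⟩) = 0 := by
    apply Subtype.ext
    funext ψ
    push_cast
    rw [Finset.prod_apply]
    exact Finset.prod_eq_zero (Finset.mem_univ ψ) (by simp)
  have h2 := congrArg (Ideal.Quotient.mk (Jloc G hM)) hP0
  rw [map_prod, map_zero] at h2
  rw [← h2]
  refine Finset.prod_congr rfl fun χ _ => ?_
  rw [map_sub, eq_comm, sub_eq_self, Ideal.Quotient.eq_zero_iff_mem]
  intro g
  dsimp only
  rw [cf_const]
  split_ifs
  · exact h _ χ
  · exact memIdeal_zero hM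

variable (N : Subgroup G) [hN : N.Normal] [Fintype N]

/-- The elements of the group ring of `G` over the residue ring coming from `Z(ON)`. -/
noncomputable def znHom (hM : IsPModular p M) [DecidableEq G] :
    Zloc N hM →* Matrix G G (AlgInt ⧸ M) where
  toFun v := kL (rk hM (sext N (cf (v : IrrCharacter N → ℂ))))
  map_one' := by
    classical
    ext x y
    simp only [kL, Matrix.of_apply, rk, OneMemClass.coe_one]
    rw [show cf (1 : IrrCharacter N → ℂ) = fun n => if n = 1 then 1 else 0 from cf_one]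
    by_cases h : x = y
    · subst h
      rw [mul_inv_cancel, show (1 : G) = ((1 : N) : G) from rfl, sext_coe, if_pos rfl, res_one,
        Matrix.one_apply_eq]
    · rw [Matrix.one_apply_ne h]
      by_cases hm : x * y⁻¹ ∈ N
      · rw [show x * y⁻¹ = ((⟨_, hm⟩ : N) : G) from rfl, sext_coe, if_neg, res_zero]
        exact fun h1 => h (mul_inv_eq_one.1 (congrArg Subtype.val h1))
      · rw [sext_off N _ hm, res_zero]
  map_mul' v w := by
    rw [kL_mul, Subring.coe_mul, cf_mul, ← sext_conv, rk_conv hM (sext_mem hM N v.2)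
      (sext_mem hM N w.2)]

theorem znHom_eq_zero (hM : IsPModular p M) [DecidableEq G] {v : Zloc N hM}
    (h : v ∈ Jloc N hM) : znHom N hM v = 0 := by
  ext x y
  show res hM (sext N (cf (v : IrrCharacter N → ℂ)) (x * y⁻¹)) = 0
  by_cases hm : x * y⁻¹ ∈ N
  · rw [show x * y⁻¹ = ((⟨_, hm⟩ : N) : G) from rfl, sext_coe]
    exact (res_eq_zero_iff hM (v.2 _)).2 (h _)
  · rw [sext_off N _ hm, res_zero]

variable {N}

/-- Homogeneous elements of the kernel of the Brauer maps at the conjugates of `D`. -/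
structure Hom (hM : IsPModular p M) (D : Subgroup G) (b : Set (IrrCharacter N)) (q : G ⧸ N)
    (a : G → AlgInt ⧸ M) : Prop where
  supp : ∀ g : G, a g ≠ 0 → (g : G ⧸ N) = q
  inv : ∀ n ∈ N, ∀ g, a (n * g * n⁻¹) = a g
  van : ∀ x : G, ∀ g ∈ Subgroup.centralizer
    ((D.map (MulAut.conj x).toMonoidHom : Subgroup G) : Set G), a g = 0
  fix : kconv a (rk hM (covFn b)) = a

theorem map_conj_le {D : Subgroup G} (hDN : D ≤ N) (x : G) :
    D.map (MulAut.conj x).toMonoidHom ≤ N := by
  rintro _ ⟨d, hd, rfl⟩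
  exact hN.conj_mem d (hDN hd) x

theorem Hom.mul (hM : IsPModular p M) {D : Subgroup G} (hD : IsPGroup p D) (hDN : D ≤ N)
    {b : Set (IrrCharacter N)} {q q' : G ⧸ N} {a a' : G → AlgInt ⧸ M}
    (h : Hom hM D b q a) (h' : Hom hM D b q' a') : Hom hM D b (q * q') (kconv a a') := by
  refine ⟨fun g hg => ?_, fun n hn g => ?_, fun x g hg => ?_, ?_⟩
  · obtain ⟨y, -, hy⟩ := Finset.exists_ne_zero_of_sum_ne_zero hg
    rw [← h.supp y (left_ne_zero_of_mul hy), ← h'.supp _ (right_ne_zero_of_mul hy),
      ← QuotientGroup.mk_mul, mul_inv_cancel_left]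
  · simp only [kconv]
    refine Fintype.sum_equiv (MulAut.conj n⁻¹).toEquiv _ _ fun y => ?_
    simp only [MulEquiv.toEquiv_eq_coe, EquivLike.coe_coe, MulAut.conj_apply, inv_inv]
    rw [← h.inv n hn (n⁻¹ * y * n), ← h'.inv n hn ((n⁻¹ * y * n)⁻¹ * g)]
    congr 1 <;> congr 1 <;> group
  · exact kconv_vanish hM (hD.map _) (fun r hr => h.inv r (map_conj_le hDN x hr))
      (fun r hr => h'.inv r (map_conj_le hDN x hr)) (h.van x) hg
  · rw [kconv_assoc, h'.fix]

/-- Degree-one homogeneous elements come from elements of `Z(ON)` killed by every central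
character mod `M`. -/
theorem Hom.exists_rad (hM : IsPModular p M) [DecidableEq G] {D : Subgroup G}
    (hD : IsPGroup p D) (hDN : D ≤ N) {b : Set (IrrCharacter N)} (hb : IsPBlock M b)
    {l : N} (hl : (l : G) ∈ Subgroup.centralizer (D : Set G))
    (hu : res hM (blockCoeff b l) ≠ 0) {a : G → AlgInt ⧸ M} (h : Hom hM D b 1 a) :
    ∃ v : Zloc N hM, (∀ φ, MemLocalIdeal M ((v : IrrCharacter N → ℂ) φ)) ∧
      znHom N hM v = kL a := by
  classical
  haveI := res_isDomain hM
  set α : N → ℂ := fun n => liftRes (a n) with hα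
  have hαc : IsClassFunction N α := fun n k => by
    simp only [hα]
    exact congrArg _ (by simpa using h.inv k k.2 n)
  have hαm : ∀ n, MemLocalRing M (α n) := fun n => memRing_liftRes hM _
  have hrk : rk hM (sext N α) = a := by
    funext g
    by_cases hg : g ∈ N
    · rw [rk, show g = ((⟨g, hg⟩ : N) : G) from rfl, sext_coe]; exact res_liftRes hM _
    · rw [rk, sext_off N _ hg, res_zero]
      by_contra hne
      exact hg ((QuotientGroup.eq_one_iff g).1 (h.supp g (Ne.symm hne)))
  refine ⟨⟨_, omega_mem_Zloc hM hαc hαm⟩, fun φ => ?_, ?_⟩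
  swap
  · show kL (rk hM (sext N (cf fun χ : IrrCharacter N => omega (χ : N → ℂ) α))) = kL a
    rw [cf_omega hαc, hrk]
  show MemLocalIdeal M (omega (φ : N → ℂ) α)
  rw [← res_eq_zero_iff hM (memRing_omega hM hαc hαm φ)]
  by_cases hφ : ∃ c ∈ covOrb b, φ ∈ c
  · obtain ⟨c, hc, hφc⟩ := hφ
    obtain ⟨x, rfl⟩ := mem_covOrb.1 hc
    have hcB := isPBlock_covOrb hb hc
    set P : Subgroup N := (D.map (MulAut.conj x).toMonoidHom).subgroupOf N with hP
    have hPp : IsPGroup p P := (hD.map _).comap_of_injective N.subtype N.subtype_injective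
    set l' : N := ⟨x * l * x⁻¹, hN.conj_mem l l.2 x⟩ with hl'
    have hl'C : l' ∈ Subgroup.centralizer (P : Set N) := by
      intro r hr
      obtain ⟨d, hd, hdr⟩ := Subgroup.mem_subgroupOf.1 hr
      apply Subtype.ext
      show (r : G) * (x * l * x⁻¹) = x * l * x⁻¹ * (r : G)
      rw [← hdr]
      show x * d * x⁻¹ * (x * l * x⁻¹) = x * l * x⁻¹ * (x * d * x⁻¹)
      calc x * d * x⁻¹ * (x * l * x⁻¹) = x * (d * l) * x⁻¹ := by group
        _ = x * (l * d) * x⁻¹ := by rw [hl d hd]
        _ = _ := by group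
    have hu' : res hM (blockCoeff (blockConj x b) l') ≠ 0 := by
      rw [blockConj, blockCoeff_image]
      refine fun h0 => hu (Eq.trans ?_ h0)
      congr 2
      apply Subtype.ext
      simp [hl', mul_assoc]
    obtain ⟨ξ, hξ⟩ : ∃ ξ, lam hM P (blockCoeff (blockConj x b)) ξ ≠ 0 := by
      by_contra hno
      push Not at hno
      exact hu' (res_eq_zero_of_lam_zero hM hPp (nice_blockCoeff hM hcB) (conv_blockCoeff _) hno
        hl'C)
    obtain ⟨φ', hφ'⟩ := exists_lam_irr hM hPp ξ
    have hmem : φ' ∈ blockConj x b := by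
      by_contra hn
      rw [hφ' _ (blockCoeff_isClassFunction _) (memRing_blockCoeff hM hcB), ← cf_ind, omega_cf,
        ind_of_notMem hn, res_zero] at hξ
      exact hξ rfl
    rw [Zloc_res_congr hM (omega_mem_Zloc hM hαc hαm) (sameBlock_of_mem hM hcB hφc hmem),
      ← hφ' α hαc hαm, lam_congr hM (Nice.of_classFun hαc hαm) (Nice.zero hM) (fun c hc' => ?_) ξ,
      lam_zero hM ξ]
    rw [res_zero, hα, res_liftRes]
    refine h.van x c fun r hr => ?_
    exact congrArg Subtype.val (hc' ⟨r, map_conj_le hDN x hr⟩ (Subgroup.mem_subgroupOf.2 hr))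
  · push Not at hφ
    have hEc : IsClassFunction N (fun k : N => covFn b k) := fun u v => covFn_cls b (u : G) (v : G)
    have hEm : ∀ k : N, MemLocalRing M (covFn b (k : G)) := fun k => covFn_mem hM hb _
    have hEs : sext N (fun k : N => covFn b k) = covFn b := by
      funext g
      by_cases hg : g ∈ N
      · rw [show g = ((⟨g, hg⟩ : N) : G) from rfl, sext_coe]
      · rw [sext_off N _ hg, covFn_off b hg]
    have key : ∀ n : N, res hM (conv α (fun k : N => covFn b k) n) = res hM (α n) := by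
      intro n
      have h1 : rk hM (sext N (conv α (fun k : N => covFn b k))) = a := by
        rw [← sext_conv, hEs, rk_conv hM (sext_mem hM N hαm) (covFn_mem hM hb), hrk, h.fix]
      have h2 := congrFun h1 n
      rw [rk, sext_coe] at h2
      rw [h2, hα, res_liftRes]
    rw [← res_omega_congr hM (conv_isClassFunction hαc hEc) hαc
      (fun n => memRing_sum hM fun z _ => (loc hM).mul_mem (hαm z) (hEm _)) hαm key φ,
      omega_conv hαc, omega_covFn_of_notMem b hφ, mul_zero, res_zero]

/-- Knörr's key lemma: a long product of homogeneous elements vanishes. -/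
theorem hom_prod_eq_zero (hM : IsPModular p M) [DecidableEq G] {D : Subgroup G}
    (hD : IsPGroup p D) (hDN : D ≤ N) {b : Set (IrrCharacter N)} (hb : IsPBlock M b)
    {l : N} (hl : (l : G) ∈ Subgroup.centralizer (D : Set G))
    (hu : res hM (blockCoeff b l) ≠ 0) (A : G ⧸ N → G → AlgInt ⧸ M)
    (hA : ∀ q, Hom hM D b q (A q)) (w : List (G ⧸ N))
    (hw : w.length = Nat.card (G ⧸ N) * Fintype.card (IrrCharacter N)) :
    (w.map fun q => kL (A q)).prod = 0 := by
  classical
  haveI : Fintype (G ⧸ N) := Fintype.ofFinite _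
  set n := Fintype.card (IrrCharacter N) with hn
  set F : G ⧸ N → Matrix G G (AlgInt ⧸ M) := fun q => kL (A q) with hF
  have hseg : ∀ s : List (G ⧸ N), s ≠ [] → ∃ a, Hom hM D b s.prod a ∧ (s.map F).prod = kL a := by
    intro s
    induction s with
    | nil => simp
    | cons q s ih =>
      intro _
      rcases eq_or_ne s [] with rfl | hs
      · exact ⟨A q, by simpa using hA q, by simp [hF]⟩
      · obtain ⟨a, ha, he⟩ := ih hs
        refine ⟨kconv (A q) a, ?_, ?_⟩
        · rw [List.prod_cons]; exact (hA q).mul hM hD hDN ha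
        · rw [List.map_cons, List.prod_cons, he, hF, kL_mul]
  let Y : Matrix G G (AlgInt ⧸ M) → Prop := fun y => ∃ a, Hom hM D b 1 a ∧ y = kL a
  -- indices with equal prefix degrees cut the product into factors of degree one
  have hcut : ∀ r : ℕ, ∀ s : Finset ℕ, ∀ q : G ⧸ N, s.card = r + 1 →
      (∀ i ∈ s, i ≤ w.length ∧ (w.take i).prod = q) → ∀ m ∈ s, (∀ i ∈ s, i ≤ m) →
      ∃ u, ∃ ys : List (Matrix G G (AlgInt ⧸ M)), ys.length = r ∧ (∀ y ∈ ys, Y y) ∧
        ((w.take m).map F).prod = u * ys.prod := by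
    intro r
    induction r with
    | zero => exact fun s q _ _ m _ _ => ⟨((w.take m).map F).prod, [], rfl, by simp, by simp⟩
    | succ r ih =>
      intro s q hs hq m hm hmax
      have hs' : (s.erase m).card = r + 1 := by rw [Finset.card_erase_of_mem hm, hs]; omega
      have hne : (s.erase m).Nonempty := Finset.card_pos.1 (by omega)
      set m' := (s.erase m).max' hne with hm'
      have hm'e : m' ∈ s.erase m := Finset.max'_mem _ _
      have hm's : m' ∈ s := Finset.mem_of_mem_erase hm'e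
      have hlt : m' < m := lt_of_le_of_ne (hmax m' hm's) (Finset.ne_of_mem_erase hm'e)
      obtain ⟨u, ys, hys, hY, he⟩ := ih (s.erase m) q hs'
        (fun i hi => hq i (Finset.mem_of_mem_erase hi)) m' hm'e (fun i hi => Finset.le_max' _ i hi)
      set seg := (w.take m).drop m' with hsegdef
      have hsplit : w.take m' ++ seg = w.take m := by
        rw [hsegdef, show w.take m' = (w.take m).take m' by rw [List.take_take, min_eq_left hlt.le],
          List.take_append_drop]
      have hsegne : seg ≠ [] := by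
        intro h0
        have := congrArg List.length hsplit
        rw [h0, List.append_nil, List.length_take, List.length_take] at this
        have := (hq m hm).1
        omega
      obtain ⟨a, ha, hea⟩ := hseg seg hsegne
      have hdeg : seg.prod = 1 := by
        have := congrArg List.prod hsplit
        rw [List.prod_append, (hq m' hm's).2, (hq m hm).2] at this
        exact mul_eq_left.1 this
      refine ⟨u, ys ++ [kL a], by simp [hys], ?_, ?_⟩
      · intro y hy
        rcases List.mem_append.1 hy with hy | hy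
        · exact hY y hy
        · rw [List.mem_singleton] at hy; exact ⟨a, hdeg ▸ ha, hy⟩
      · rw [← hsplit, List.map_append, List.prod_append, he, hea, List.prod_append,
          List.prod_singleton, mul_assoc]
  -- pigeonhole
  obtain ⟨q, -, hq⟩ := Finset.exists_lt_card_fiber_of_mul_lt_card_of_maps_to
    (s := Finset.range (w.length + 1)) (t := (Finset.univ : Finset (G ⧸ N))) (n := n)
    (f := fun i => (w.take i).prod) (fun i _ => Finset.mem_univ _)
    (by rw [Finset.card_range, Finset.card_univ, hw, Nat.card_eq_fintype_card]; omega)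
  obtain ⟨s, hs, hsc⟩ := Finset.exists_subset_card_eq (Nat.succ_le_of_lt hq)
  have hne : s.Nonempty := Finset.card_pos.1 (by omega)
  obtain ⟨u, ys, hys, hY, he⟩ := hcut n s q hsc (fun i hi => by
      have := Finset.mem_filter.1 (hs hi)
      exact ⟨Nat.lt_succ_iff.1 (Finset.mem_range.1 this.1), this.2⟩)
    (s.max' hne) (Finset.max'_mem _ _) (fun i hi => Finset.le_max' _ i hi)
  have hys0 : ys.prod = 0 := by
    have hv : ∀ i : Fin n, ∃ v : Zloc N hM, (∀ φ, MemLocalIdeal M ((v : IrrCharacter N → ℂ) φ)) ∧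
        znHom N hM v = ys.get (i.cast hys.symm) := by
      intro i
      obtain ⟨a, ha, hy⟩ := hY _ (List.get_mem ys (i.cast hys.symm))
      rw [hy]
      exact ha.exists_rad hM hD hDN hb hl hu
    choose v hv1 hv2 using hv
    have hlist : ys = (List.ofFn v).map (znHom N hM) := by
      apply List.ext_get (by simp [hys])
      intro i h1 h2
      simp [hv2]
    rw [hlist, ← map_list_prod, List.prod_ofFn]
    exact znHom_eq_zero N hM (prod_mem_Jloc hM v hv1)
  conv_lhs => rw [← List.take_append_drop (s.max' hne) w]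
  rw [List.map_append, List.prod_append, he, hys0, mul_zero, zero_mul]

theorem sum_pow_eq_zero {R : Type*} [Semiring R] {ι : Type*} [Fintype ι] (F : ι → R) :
    ∀ (L : ℕ) (u : R), (∀ w : List ι, w.length = L → u * (w.map F).prod = 0) →
      u * (∑ i, F i) ^ L = 0 := by
  intro L
  induction L with
  | zero => intro u h; simpa using h [] rfl
  | succ L ih =>
    intro u h
    rw [pow_succ', Finset.sum_mul, Finset.mul_sum]
    refine Finset.sum_eq_zero fun i _ => ?_
    rw [← mul_assoc]
    refine ih _ fun w hw => ?_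
    rw [mul_assoc]
    simpa using h (i :: w) (by simp [hw])

theorem covFn_val (χ : IrrCharacter G) (b : Set (IrrCharacter N)) {θ : IrrCharacter N}
    (h : classInner (fun n : N => (χ : G → ℂ) n) (θ : N → ℂ) ≠ 0) :
    omega (χ : G → ℂ) (covFn b) = omega (θ : N → ℂ) (fun k : N => covFn b k) :=
  omega_eq_of_constituent h (covFn_cls b) (fun g hg => covFn_off b hg)

theorem covFn_val_idem (hM : IsPModular p M) {b : Set (IrrCharacter N)} (hb : IsPBlock M b)
    (χ : IrrCharacter G) :
    omega (χ : G → ℂ) (covFn b) = 0 ∨ omega (χ : G → ℂ) (covFn b) = 1 := by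
  obtain ⟨θ, hθ⟩ := exists_res_constituent (N := N) χ
  rw [covFn_val χ b hθ]
  by_cases h : ∃ c ∈ covOrb b, θ ∈ c
  · obtain ⟨c, hc, hθc⟩ := h
    exact Or.inr (omega_covFn_of_mem hM hb hc hθc)
  · push Not at h
    exact Or.inl (omega_covFn_of_notMem b h)

theorem covFn_val_covers (hM : IsPModular p M) {B : Set (IrrCharacter G)} (hB : IsPBlock M B)
    {b : Set (IrrCharacter N)} (hb : IsPBlock M b)
    (hcov : ∃ χ ∈ B, ∃ θ ∈ b, classInner (fun n : N => (χ : G → ℂ) n) (θ : N → ℂ) ≠ 0)
    {χ : IrrCharacter G} (hχ : χ ∈ B) : omega (χ : G → ℂ) (covFn b) = 1 := by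
  haveI := res_isDomain hM
  refine (covFn_val_idem hM hb χ).resolve_left fun h0 => ?_
  have h1 := res_covFn_covers hM hB hb hcov hχ
  rw [h0, res_zero] at h1
  exact zero_ne_one h1

theorem conv_blockCoeff_covFn (hM : IsPModular p M) {B : Set (IrrCharacter G)} (hB : IsPBlock M B)
    {b : Set (IrrCharacter N)} (hb : IsPBlock M b)
    (hcov : ∃ χ ∈ B, ∃ θ ∈ b, classInner (fun n : N => (χ : G → ℂ) n) (θ : N → ℂ) ≠ 0) :
    conv (blockCoeff B) (covFn b) = blockCoeff B := by
  rw [← cf_ind]
  nth_rewrite 1 [← cf_omega (covFn_cls b)]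
  rw [← cf_mul]
  congr 1
  funext χ
  by_cases h : χ ∈ B
  · simp only [Pi.mul_apply, ind_of_mem h, covFn_val_covers hM hB hb hcov h, mul_one]
  · simp only [Pi.mul_apply, ind_of_notMem h, zero_mul]

/-- A block covering `b` has a unit coefficient on the centralizer of any `p`-subgroup of `N` at
which `b` has one. -/
theorem exists_unit_cover (hM : IsPModular p M) {B : Set (IrrCharacter G)} (hB : IsPBlock M B)
    {b : Set (IrrCharacter N)} (hb : IsPBlock M b)
    (hcov : ∃ χ ∈ B, ∃ θ ∈ b, classInner (fun n : N => (χ : G → ℂ) n) (θ : N → ℂ) ≠ 0)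
    {D : Subgroup G} (hD : IsPGroup p D) (hDN : D ≤ N) {l : N}
    (hl : (l : G) ∈ Subgroup.centralizer (D : Set G)) (hu : res hM (blockCoeff b l) ≠ 0) :
    ∃ g ∈ Subgroup.centralizer (D : Set G), res hM (blockCoeff B g) ≠ 0 := by
  classical
  haveI := res_isDomain hM
  haveI : Fintype (G ⧸ N) := Fintype.ofFinite _
  by_contra hno
  push Not at hno
  set z : G → AlgInt ⧸ M := rk hM (blockCoeff B) with hz
  set E : G → AlgInt ⧸ M := rk hM (covFn b) with hE
  have hBm := memRing_blockCoeff hM hB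
  have hzE : kconv z E = z := by
    rw [hz, hE, ← rk_conv hM hBm (covFn_mem hM hb), conv_blockCoeff_covFn hM hB hb hcov]
  have hzc : ∀ y g : G, z (y * g * y⁻¹) = z g := fun y g =>
    congrArg (res hM) (blockCoeff_isClassFunction B g y)
  have hzvan : ∀ x : G, ∀ g ∈ Subgroup.centralizer
      ((D.map (MulAut.conj x).toMonoidHom : Subgroup G) : Set G), z g = 0 := by
    intro x g hg
    rw [← hzc x⁻¹ g, inv_inv]
    refine hno _ fun d hd => ?_
    have h1 := hg (x * d * x⁻¹) ⟨d, hd, rfl⟩
    calc d * (x⁻¹ * g * x) = x⁻¹ * (x * d * x⁻¹ * g) * x := by group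
      _ = x⁻¹ * (g * (x * d * x⁻¹)) * x := by rw [h1]
      _ = x⁻¹ * g * x * d := by group
  let A : G ⧸ N → G → AlgInt ⧸ M := fun q g => if (g : G ⧸ N) = q then z g else 0
  have hEsupp : ∀ g : G, g ∉ N → E g = 0 := fun g hg => by
    rw [hE, rk, covFn_off b hg, res_zero]
  have hA : ∀ q, Hom hM D b q (A q) := by
    intro q
    refine ⟨fun g hg => ?_, fun n hn g => ?_, fun x g hg => ?_, ?_⟩
    · by_contra hne; exact hg (if_neg hne)
    · have hq : ((n * g * n⁻¹ : G) : G ⧸ N) = (g : G ⧸ N) := by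
        rw [QuotientGroup.mk_mul, QuotientGroup.mk_mul, (QuotientGroup.eq_one_iff n).2 hn,
          (QuotientGroup.eq_one_iff n⁻¹).2 (N.inv_mem hn), one_mul, mul_one]
      simp only [A, hq, hzc]
    · simp only [A, hzvan x g hg, ite_self]
    · funext g
      show ∑ x, A q x * E (x⁻¹ * g) = A q g
      have hterm : ∀ x : G, A q x * E (x⁻¹ * g) =
          if (g : G ⧸ N) = q then z x * E (x⁻¹ * g) else 0 := by
        intro x
        by_cases hx : x⁻¹ * g ∈ N
        · simp only [A, QuotientGroup.eq.2 hx]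
          split_ifs <;> simp
        · rw [hEsupp _ hx]; simp
      rw [Finset.sum_congr rfl fun x _ => hterm x]
      by_cases hg : (g : G ⧸ N) = q
      · simp only [A, hg, if_true]; exact congrFun hzE g
      · simp only [A, hg, if_false, Finset.sum_const_zero]
  have hsum : kL z = ∑ q, kL (A q) := by
    ext x y
    simp only [kL, A, Matrix.sum_apply, Matrix.of_apply]
    rw [Finset.sum_ite_eq, if_pos (Finset.mem_univ _)]
  have hid : IsIdempotentElem (kL z) := by
    rw [IsIdempotentElem, kL_mul, hz, ← rk_conv hM hBm hBm, conv_blockCoeff]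
  set L := Nat.card (G ⧸ N) * Fintype.card (IrrCharacter N) with hL
  have h0 : (1 : Matrix G G (AlgInt ⧸ M)) * (∑ q, kL (A q)) ^ L = 0 :=
    sum_pow_eq_zero _ L 1 fun w hw => by
      rw [one_mul]; exact hom_prod_eq_zero hM hD hDN hb hl hu A hA w hw
  have hL0 : L ≠ 0 := Nat.mul_ne_zero Nat.card_pos.ne'
    (Fintype.card_pos_iff.2 ⟨⟨fun _ => 1, isIrrCharacter_trivial⟩⟩).ne'
  rw [one_mul, ← hsum, hid.pow_eq hL0] at h0
  obtain ⟨χ, hχ⟩ := block_nonempty hM hB
  have h1 : res hM (omega (χ : G → ℂ) (blockCoeff B)) = 1 := by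
    rw [← cf_ind, omega_cf, ind_of_mem hχ, res_one]
  rw [res_omega_congr hM (blockCoeff_isClassFunction B) (f' := fun _ => 0) (fun _ _ => rfl) hBm
    (fun _ => (loc hM).zero_mem) (fun x => ?_) χ] at h1
  · simp [omega, res_zero] at h1
  · rw [res_zero]
    have := congrFun (congrFun h0 x) 1
    simpa [kL, hz, rk] using this

theorem exists_defectGroup_above (hM : IsPModular p M) {B : Set (IrrCharacter G)}
    (hB : IsPBlock M B) {b : Set (IrrCharacter N)} (hb : IsPBlock M b)
    (hcov : ∃ χ ∈ B, ∃ θ ∈ b, classInner (fun n : N => (χ : G → ℂ) n) (θ : N → ℂ) ≠ 0)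
    {D : Subgroup N} (hD : IsDefectGroup p M b D) :
    ∃ P : Subgroup G, IsDefectGroup p M B P ∧ D.map N.subtype ≤ P := by
  haveI : Fact p.Prime := ⟨hM.1⟩
  have hp := defectGroup_isPGroup hD
  obtain ⟨t, ⟨htR, htI, -⟩, S, rfl⟩ := hD
  have hl : (t : G) ∈ Subgroup.centralizer
      (((S : Subgroup _).map (Subgroup.centralizer ({t} : Set N)).subtype).map N.subtype : Set G) := by
    rintro _ ⟨d, hd, rfl⟩
    exact congrArg Subtype.val
      (Subgroup.mem_centralizer_singleton_iff.1 (Subgroup.map_subtype_le _ hd))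
  obtain ⟨g, hg, hu⟩ := exists_unit_cover hM hB hb hcov (hp.map _) (Subgroup.map_subtype_le _) hl
    (fun h => htI ((res_eq_zero_iff hM htR).1 h))
  refine exists_defectGroup_ge hM hB (fun h => hu ((res_eq_zero_iff hM
    (memRing_blockCoeff hM hB g)).2 h)) (hp.map _) ?_
  intro r hr
  exact Subgroup.mem_centralizer_singleton_iff.2 (hg r hr)

/-- The other half: a stable covered block with defect group containing `P ⊓ N`. -/
theorem exists_stable_covered (hM : IsPModular p M) {B : Set (IrrCharacter G)}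
    (hB : IsPBlock M B) {b : Set (IrrCharacter N)} (hb : IsPBlock M b)
    (hcov : ∃ χ ∈ B, ∃ θ ∈ b, classInner (fun n : N => (χ : G → ℂ) n) (θ : N → ℂ) ≠ 0)
    {P : Subgroup G} (hP : IsDefectGroup p M B P) :
    ∃ c ∈ covOrb b, (∀ r ∈ P, StabilizesBlock N c r) ∧
      ∃ D : Subgroup N, IsDefectGroup p M c D ∧ (P ⊓ N).subgroupOf N ≤ D := by
  classical
  haveI : Fact p.Prime := ⟨hM.1⟩
  have hPp := defectGroup_isPGroup hP
  obtain ⟨t, ⟨htR, htI, -⟩, S, hPS⟩ := hP
  have htP : t ∈ Subgroup.centralizer (P : Set G) := fun r hr =>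
    Subgroup.mem_centralizer_singleton_iff.1 (Subgroup.map_subtype_le _ (hPS.le hr))
  obtain ⟨g, hg, hgu⟩ : ∃ g ∈ Subgroup.centralizer (P : Set G), res hM (covFn b g) ≠ 0 := by
    by_contra hno
    push Not at hno
    refine htI ((res_eq_zero_iff hM htR).1 ?_)
    have h1 : rk hM (blockCoeff B) t = 0 := by
      rw [← conv_blockCoeff_covFn hM hB hb hcov, conv_comm_class (blockCoeff_isClassFunction B),
        rk_conv hM (covFn_mem hM hb) (memRing_blockCoeff hM hB)]
      exact kconv_vanish hM hPp (fun r _ x => congrArg (res hM) (covFn_cls b x r))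
        (fun r _ x => congrArg (res hM) (blockCoeff_isClassFunction B x r)) hno htP
    exact h1
  have hgN : g ∈ N := by
    by_contra h; rw [covFn_off b h, res_zero] at hgu; exact hgu rfl
  letI : MulAction P (covOrb b) :=
    { smul := fun r c => ⟨blockConj (r : G) c.1, by
        obtain ⟨x, hx⟩ := mem_covOrb.1 c.2
        exact mem_covOrb.2 ⟨r * x, by rw [hx, blockConj_mul]⟩⟩
      one_smul := fun c => Subtype.ext (by
        show blockConj ((1 : P) : G) c.1 = c.1
        rw [OneMemClass.coe_one, blockConj_one])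
      mul_smul := fun r s c => Subtype.ext (by
        show blockConj ((r * s : P) : G) c.1 = blockConj (r : G) (blockConj (s : G) c.1)
        rw [blockConj_mul]; rfl) }
  have hsum : res hM (covFn b g) =
      ∑ c : covOrb b, res hM (blockCoeff c.1 (⟨g, hgN⟩ : N)) := by
    rw [show covFn b g = sext N (fun k => ∑ c ∈ covOrb b, blockCoeff c k) ((⟨g, hgN⟩ : N) : G) from rfl,
      sext_coe, res_sum hM fun c hc => memRing_blockCoeff hM (isPBlock_covOrb hb hc) _]
    exact (Finset.sum_coe_sort (covOrb b) (fun c => res hM (blockCoeff c (⟨g, hgN⟩ : N)))).symm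
  rw [hsum, sum_fixedPoints hM hPp _ (fun r c => ?_)] at hgu
  · obtain ⟨c, hc, hcu⟩ := Finset.exists_ne_zero_of_sum_ne_zero hgu
    have hst : ∀ r ∈ P, StabilizesBlock N c.1 r := fun r hr =>
      (stabilizesBlock_iff_blockConj r c.1).2
        (congrArg Subtype.val ((Finset.mem_filter.1 hc).2 ⟨r, hr⟩))
    have hcB := isPBlock_covOrb hb c.2
    refine ⟨c.1, c.2, hst, exists_defectGroup_ge hM hcB
      (fun h => hcu ((res_eq_zero_iff hM (memRing_blockCoeff hM hcB _)).2 h))
      ((hPp.to_le inf_le_left).comap_of_injective N.subtype N.subtype_injective) ?_⟩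
    intro k hk
    rw [Subgroup.mem_centralizer_singleton_iff]
    apply Subtype.ext
    exact hg k (Subgroup.mem_inf.1 (Subgroup.mem_subgroupOf.1 hk)).1
  · show res hM (blockCoeff (blockConj (r : G) c.1) _) = _
    rw [blockConj, blockCoeff_image]
    refine congrArg (fun j => res hM (blockCoeff c.1 j)) ?_
    apply Subtype.ext
    show (r : G)⁻¹ * g * r = g
    rw [mul_assoc, ← hg r r.2, inv_mul_cancel_left]

theorem covers_conj {B : Set (IrrCharacter G)} {b : Set (IrrCharacter N)}
    (hcov : ∃ χ ∈ B, ∃ θ ∈ b, classInner (fun n : N => (χ : G → ℂ) n) (θ : N → ℂ) ≠ 0)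
    {c : Set (IrrCharacter N)} (hc : c ∈ covOrb b) :
    ∃ χ ∈ B, ∃ θ ∈ c, classInner (fun n : N => (χ : G → ℂ) n) (θ : N → ℂ) ≠ 0 := by
  obtain ⟨χ, hχ, θ, hθ, h⟩ := hcov
  obtain ⟨x, rfl⟩ := mem_covOrb.1 hc
  refine ⟨χ, hχ, _, ⟨θ, hθ, rfl⟩, ?_⟩
  rw [irrPull_conjE_eq, classInner_res_conjNormFun N x⁻¹ (isClassFunction_irr χ.2)]
  exact h

theorem blockDefect_covOrb {b c : Set (IrrCharacter N)} (hc : c ∈ covOrb b) :
    blockDefect p c = blockDefect p b := by
  obtain ⟨x, rfl⟩ := mem_covOrb.1 hc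
  exact blockDefect_image _ b

/-- Every defect group of a covering block meets `N` in a defect group of a stable covered
block. -/
theorem knorr_inter (hM : IsPModular p M) {B : Set (IrrCharacter G)} (hB : IsPBlock M B)
    {b : Set (IrrCharacter N)} (hb : IsPBlock M b)
    (hcov : ∃ χ ∈ B, ∃ θ ∈ b, classInner (fun n : N => (χ : G → ℂ) n) (θ : N → ℂ) ≠ 0)
    {P : Subgroup G} (hP : IsDefectGroup p M B P) :
    ∃ c ∈ covOrb b, (∀ r ∈ P, StabilizesBlock N c r) ∧
      IsDefectGroup p M c ((P ⊓ N).subgroupOf N) := by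
  obtain ⟨c, hc, hst, D, hD, hle⟩ := exists_stable_covered hM hB hb hcov hP
  refine ⟨c, hc, hst, ?_⟩
  obtain ⟨P', hP', hDP⟩ :=
    exists_defectGroup_above hM hB (isPBlock_covOrb hb hc) (covers_conj hcov hc) hD
  obtain ⟨y, hy⟩ := defectGroup_conjugate hM hB hP hP'
  rwa [Subgroup.eq_of_le_of_card_ge hle ?_]
  have hinter : P' ⊓ N ≤ (P ⊓ N).map (MulAut.conj y).toMonoidHom := by
    intro g hg
    obtain ⟨r, hr, rfl⟩ : g ∈ P.map (MulAut.conj y).toMonoidHom := hy.ge (Subgroup.mem_inf.1 hg).1
    refine ⟨r, Subgroup.mem_inf.2 ⟨hr, ?_⟩, rfl⟩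
    have := hN.conj_mem' _ (Subgroup.mem_inf.1 hg).2 y
    simpa [mul_assoc] using this
  calc Nat.card D = Nat.card ↥(D.map N.subtype) :=
        (Subgroup.card_map_of_injective N.subtype_injective).symm
    _ ≤ Nat.card ↥((P ⊓ N).map (MulAut.conj y).toMonoidHom) :=
        Subgroup.card_le_of_le ((le_inf hDP (Subgroup.map_subtype_le _)).trans hinter)
    _ = Nat.card ↥(P ⊓ N) := Subgroup.card_map_of_injective (MulAut.conj y).injective
    _ = Nat.card ↥((P ⊓ N).subgroupOf N) :=
        (Nat.card_congr (Subgroup.subgroupOfEquivOfLe inf_le_right).toEquiv).symm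

theorem card_inter_defect (hM : IsPModular p M) {B : Set (IrrCharacter G)} (hB : IsPBlock M B)
    {b : Set (IrrCharacter N)} (hb : IsPBlock M b)
    (hcov : ∃ χ ∈ B, ∃ θ ∈ b, classInner (fun n : N => (χ : G → ℂ) n) (θ : N → ℂ) ≠ 0)
    {P : Subgroup G} (hP : IsDefectGroup p M B P) :
    Nat.card ↥(P ⊓ N) = p ^ blockDefect p b := by
  obtain ⟨c, hc, -, hD⟩ := knorr_inter hM hB hb hcov hP
  rw [← blockDefect_covOrb hc, ← card_defectGroup hM (isPBlock_covOrb hb hc) hD]
  exact (Nat.card_congr (Subgroup.subgroupOfEquivOfLe inf_le_right).toEquiv).symm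

/-- The classes of `N` inside the `G`-class of an element of `N`. -/
theorem card_classes_in (hM : IsPModular p M) [Fintype (ConjClasses N)] {t : G} (htN : t ∈ N)
    [DecidablePred (fun C : ConjClasses N => IsConj t ((crep C : N) : G))] :
    (Finset.univ.filter fun C : ConjClasses N => IsConj t ((crep C : N) : G)).card =
      (N ⊔ Subgroup.centralizer ({t} : Set G)).index := by
  classical
  set K : Subgroup G := N ⊔ Subgroup.centralizer ({t} : Set G) with hK
  have hwd : ∀ a b : G, a⁻¹ * b ∈ K →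
      ConjClasses.mk (⟨a * t * a⁻¹, hN.conj_mem t htN a⟩ : N) =
        ConjClasses.mk (⟨b * t * b⁻¹, hN.conj_mem t htN b⟩ : N) := by
    intro a b hab
    obtain ⟨y, hy, z, hz, hyz⟩ := Subgroup.mem_sup_of_normal_left.1 hab
    have hzt : z * t = t * z := Subgroup.mem_centralizer_singleton_iff.1 hz
    rw [ConjClasses.mk_eq_mk_iff_isConj, isConj_iff]
    refine ⟨⟨a * y * a⁻¹, hN.conj_mem y hy a⟩, Subtype.ext ?_⟩
    have hb : b = a * y * z := by rw [mul_assoc, hyz, mul_inv_cancel_left]
    have hzz : z * t * z⁻¹ = t := by rw [hzt, mul_inv_cancel_right]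
    simp only [Subgroup.coe_mul, Subgroup.coe_inv]
    calc a * y * a⁻¹ * (a * t * a⁻¹) * (a * y * a⁻¹)⁻¹
        = a * y * t * y⁻¹ * a⁻¹ := by group
      _ = a * y * (z * t * z⁻¹) * y⁻¹ * a⁻¹ := by rw [hzz]
      _ = b * t * b⁻¹ := by rw [hb]; group
  have hinj : ∀ a b : G,
      ConjClasses.mk (⟨a * t * a⁻¹, hN.conj_mem t htN a⟩ : N) =
        ConjClasses.mk (⟨b * t * b⁻¹, hN.conj_mem t htN b⟩ : N) → a⁻¹ * b ∈ K := by
    intro a b hab
    rw [ConjClasses.mk_eq_mk_iff_isConj, isConj_iff] at hab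
    obtain ⟨n, hn⟩ := hab
    have hn' : (n : G) * (a * t * a⁻¹) * (n : G)⁻¹ = b * t * b⁻¹ := congrArg Subtype.val hn
    have hz : b⁻¹ * n * a ∈ Subgroup.centralizer ({t} : Set G) := by
      rw [Subgroup.mem_centralizer_singleton_iff]
      calc b⁻¹ * n * a * t = b⁻¹ * ((n : G) * (a * t * a⁻¹) * (n : G)⁻¹) * (n * a) := by group
        _ = t * (b⁻¹ * n * a) := by rw [hn']; group
    have : a⁻¹ * b = (a⁻¹ * n * a) * (b⁻¹ * n * a)⁻¹ := by group
    rw [this]
    exact K.mul_mem (Subgroup.mem_sup_left (hN.conj_mem' n n.2 a))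
      (K.inv_mem (Subgroup.mem_sup_right hz))
  rw [Subgroup.index, ← Fintype.card_coe, ← Nat.card_eq_fintype_card]
  let F : G ⧸ K → (Finset.univ.filter fun C : ConjClasses N => IsConj t ((crep C : N) : G)) :=
    fun q => Quotient.liftOn' q
      (fun a => ⟨ConjClasses.mk (⟨a * t * a⁻¹, hN.conj_mem t htN a⟩ : N), by
          refine Finset.mem_filter.2 ⟨Finset.mem_univ _, ?_⟩
          have h1 := ConjClasses.mk_eq_mk_iff_isConj.1 (mk_crep
            (ConjClasses.mk (⟨a * t * a⁻¹, hN.conj_mem t htN a⟩ : N)))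
          have h2 : IsConj t (a * t * a⁻¹) := isConj_iff.2 ⟨a, rfl⟩
          exact h2.trans (N.subtype.map_isConj h1).symm⟩)
      (fun a b h => Subtype.ext (hwd a b (QuotientGroup.leftRel_apply.1 h)))
  refine (Nat.card_eq_of_bijective F ⟨?_, ?_⟩).symm
  · intro q q'
    induction q using QuotientGroup.induction_on with
    | H a =>
      induction q' using QuotientGroup.induction_on with
      | H b => intro h; exact QuotientGroup.eq.2 (hinj a b (congrArg Subtype.val h))
  · rintro ⟨C, hC⟩
    obtain ⟨a, ha⟩ := isConj_iff.1 (Finset.mem_filter.1 hC).2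
    refine ⟨QuotientGroup.mk a, Subtype.ext ?_⟩
    show ConjClasses.mk _ = C
    conv_rhs => rw [← mk_crep C]
    exact congrArg ConjClasses.mk (Subtype.ext ha)

/-- A stable block sees all classes of `N` in one class of `G` alike. -/
theorem res_induced_stable (hM : IsPModular p M) {b : Set (IrrCharacter N)} (hb : IsPBlock M b)
    (hst : ∀ x : G, blockConj x b = b) {θ : IrrCharacter N} (hθ : θ ∈ b) {t : G} (htN : t ∈ N) :
    res hM (inducedCentralChar N (θ : N → ℂ) t) =
      ((N ⊔ Subgroup.centralizer ({t} : Set G)).index : AlgInt ⧸ M) *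
        res hM (clv (⟨t, htN⟩ : N) θ) := by
  classical
  haveI : Fintype (ConjClasses N) := Fintype.ofFinite _
  have hTcl : IsClassFunction N (fun k : N => if IsConj t (k : G) then (1 : ℂ) else 0) :=
    fun a b => isClassFunction_classInd t (a : G) (b : G)
  have hTm : ∀ k : N, MemLocalRing M (if IsConj t (k : G) then (1 : ℂ) else 0) :=
    fun k => memRing_classInd hM t k
  rw [← omega_restrict_classInd N t, omega_eq_sum_classes hTcl θ,
    res_sum hM fun C _ => (loc hM).mul_mem (hTm _)
      (show MemLocalRing M (centralChar (θ : N → ℂ) (crep C)) from memRing_clv hM _ θ),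
    ← card_classes_in hM htN, ← nsmul_eq_mul, ← Finset.sum_const, Finset.sum_filter]
  refine Finset.sum_congr rfl fun C _ => ?_
  by_cases hC : IsConj t ((crep C : N) : G)
  · rw [if_pos hC, if_pos hC, one_mul]
    obtain ⟨x, hx⟩ := isConj_iff.1 hC
    have hm := mem_normalizer_normal (N := N) x⁻¹
    show res hM (clv (crep C) θ) = _
    have e1 : clv (crep C) θ = clv (⟨t, htN⟩ : N) (irrPull (conjE hm) θ) := by
      rw [show clv (⟨t, htN⟩ : N) (irrPull (conjE hm) θ) = clv (conjE hm ⟨t, htN⟩) θ from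
        centralChar_comp (conjE hm) _ _]
      exact congrArg (fun j => clv j θ) (Subtype.ext (by simp [hx]))
    rw [e1]
    refine (sameBlock_iff_res hM _ _).1 (sameBlock_of_mem hM hb ?_ hθ) _
    rw [← hst x⁻¹]
    exact ⟨θ, hθ, rfl⟩
  · rw [if_neg hC, if_neg hC, zero_mul, res_zero]

theorem exists_covering_unit (hM : IsPModular p M) {b : Set (IrrCharacter N)} (hb : IsPBlock M b)
    {g : G} (hg : res hM (covFn b g) ≠ 0) :
    ∃ B : Set (IrrCharacter G), IsPBlock M B ∧
      (∃ χ ∈ B, ∃ θ ∈ b, classInner (fun n : N => (χ : G → ℂ) n) (θ : N → ℂ) ≠ 0) ∧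
      res hM (blockCoeff B g) ≠ 0 := by
  classical
  haveI := res_isDomain hM
  set 𝓑 : Finset (Set (IrrCharacter G)) :=
    (Finset.univ.filter fun χ : IrrCharacter G => omega (χ : G → ℂ) (covFn b) = 1).image
      (fun χ : IrrCharacter G => blockOf M (χ : G → ℂ)) with h𝓑
  have hmem : ∀ B ∈ 𝓑, IsPBlock M B ∧
      ∃ χ ∈ B, ∃ θ ∈ b, classInner (fun n : N => (χ : G → ℂ) n) (θ : N → ℂ) ≠ 0 := by
    intro B hB
    obtain ⟨χ, hχ, rfl⟩ := Finset.mem_image.1 hB
    exact ⟨blockOf_isPBlock χ, χ, mem_blockOf_self hM χ,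
      covers_of_res hM (by rw [(Finset.mem_filter.1 hχ).2, res_one])⟩
  have hv : (fun χ : IrrCharacter G => omega (χ : G → ℂ) (covFn b)) = ∑ B ∈ 𝓑, ind B := by
    funext χ
    rw [Finset.sum_apply]
    rcases covFn_val_idem hM hb χ with h | h
    · rw [h, eq_comm]
      refine Finset.sum_eq_zero fun B hB => ind_of_notMem fun hχ => ?_
      obtain ⟨hBb, hcov⟩ := hmem B hB
      rw [covFn_val_covers hM hBb hb hcov hχ] at h
      exact one_ne_zero h
    · rw [h, Finset.sum_eq_single (blockOf M (χ : G → ℂ))]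
      · rw [ind_of_mem (mem_blockOf_self hM χ)]
      · intro B hB hne
        exact ind_of_notMem fun hχ => hne (eq_blockOf hM (hmem B hB).1 hχ)
      · intro hn
        exact absurd (Finset.mem_image.2 ⟨χ, Finset.mem_filter.2 ⟨Finset.mem_univ _, h⟩, rfl⟩) hn
  rw [← cf_omega (covFn_cls b), hv, cf_sum, Finset.sum_apply] at hg
  simp only [cf_ind] at hg
  rw [res_sum hM fun B hB => memRing_blockCoeff hM (hmem B hB).1 g] at hg
  obtain ⟨B, hB, hBu⟩ := Finset.exists_ne_zero_of_sum_ne_zero hg
  exact ⟨B, (hmem B hB).1, (hmem B hB).2, hBu⟩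

end CfsgLib.Blocks
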