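import Cfsg.Agent.Lib.Blocks.MajorValue
import Cfsg.Agent.Lib.Blocks.Knorr
import Cfsg.Agent.Lib.Glauberman.Invariant
import Cfsg.Agent.Lib.CharTheory.Linear
import Cfsg.Agent.S4672

/-!
# Blocks with abelian defect group over a normal subgroup of `p`-power index
-/

namespace CfsgLib.Blocks

open Cfsg CfsgLib.CharTheory
open scoped ComplexConjugate

set_option linter.unusedVariables false
set_option linter.style.haveILetI false
set_option linter.unusedSectionVars false

universe u

variable {p : ℕ} {M : Ideal AlgInt} {G : Type u} [Group G] [Fintype G] {N : Subgroup G}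
  [hN : N.Normal] [Fintype N]

/-- Over `p`-power index the idempotent of the covering block is that of the stable block. -/
theorem covering_coeff_eq (hM : IsPModular p M) (hidx : ∃ k : ℕ, N.index = p ^ k)
    {b : Set (IrrCharacter N)} (hb : IsPBlock M b) (hst : ∀ x : G, StabilizesBlock N b x)
    {B : Set (IrrCharacter G)} (hB : IsPBlock M B)
    (hcov : ∃ χ ∈ B, ∃ θ ∈ b, classInner (fun n : N => (χ : G → ℂ) n) (θ : N → ℂ) ≠ 0) (g : G) :
    blockCoeff B g = subgroupBlockCoeff N b g := by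
  classical
  haveI := res_isDomain hM
  obtain ⟨B₀, hB₀, he⟩ := exists_block_eq hM hidx hb hst
  obtain ⟨χ, hχ, -⟩ := id hcov
  have hcf : cf (ind B₀) = covFn b := by
    rw [cf_ind, covFn_of_stable hst, ← subgroupBlockCoeff_eq]; exact funext he
  have h1 := res_covFn_covers hM hB hb hcov hχ
  rw [← hcf, omega_cf] at h1
  have hmem : χ ∈ B₀ := by
    by_contra h
    rw [ind_of_notMem h, res_zero] at h1
    exact zero_ne_one h1
  rw [eq_blockOf hM hB hχ, ← eq_blockOf hM hB₀ hmem]
  exact he g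

/-- Every element outside is moved by a linear character. -/
theorem exists_linear_ne_one (hab : ∀ x y : G, x * y * x⁻¹ * y⁻¹ ∈ N) {g : G} (hg : g ∉ N) :
    ∃ l : G →* ℂˣ, (∀ n ∈ N, l n = 1) ∧ l g ≠ 1 := by
  letI : CommGroup (G ⧸ N) :=
    { (inferInstance : Group (G ⧸ N)) with
      mul_comm := by
        intro a b
        induction a using QuotientGroup.induction_on with
        | H x =>
          induction b using QuotientGroup.induction_on with
          | H y =>
            refine (QuotientGroup.eq (a := x * y) (b := y * x)).2 ?_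
            simpa [mul_assoc] using hab y⁻¹ x⁻¹ }
  obtain ⟨φ, hφ⟩ := CommGroup.exists_apply_ne_one_of_hasEnoughRootsOfUnity (G ⧸ N) ℂ
    (a := (g : G ⧸ N)) (fun h => hg ((QuotientGroup.eq_one_iff g).1 h))
  exact ⟨φ.comp (QuotientGroup.mk' N), fun n hn => by
    show φ (n : G ⧸ N) = 1
    rw [(QuotientGroup.eq_one_iff n).2 hn, map_one], hφ⟩

/-- The number of linear characters over `N`. -/
theorem card_linear_over (hab : ∀ x y : G, x * y * x⁻¹ * y⁻¹ ∈ N) :
    Nat.card {l : G →* ℂˣ // ∀ n ∈ N, l n = 1} = N.index := by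
  letI : CommGroup (G ⧸ N) :=
    { (inferInstance : Group (G ⧸ N)) with
      mul_comm := by
        intro a b
        induction a using QuotientGroup.induction_on with
        | H x =>
          induction b using QuotientGroup.induction_on with
          | H y =>
            refine (QuotientGroup.eq (a := x * y) (b := y * x)).2 ?_
            simpa [mul_assoc] using hab y⁻¹ x⁻¹ }
  rw [Subgroup.index, ← CommGroup.card_monoidHom_of_hasEnoughRootsOfUnity (G ⧸ N) ℂ]
  exact Nat.card_congr
    { toFun := fun l => QuotientGroup.lift N l.1 (fun n hn => l.2 n hn)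
      invFun := fun φ => ⟨φ.comp (QuotientGroup.mk' N), fun n hn => by
        show φ (n : G ⧸ N) = 1
        rw [(QuotientGroup.eq_one_iff n).2 hn, map_one]⟩
      left_inv := fun l => rfl
      right_inv := fun φ => MonoidHom.ext fun q => by
        induction q using QuotientGroup.induction_on with
        | H x => rfl }

/-- Restriction from a block with abelian defect group to a stable block of `p`-power index. -/
theorem abelian_defect_index (hM : IsPModular p M) (hidx : ∃ k : ℕ, N.index = p ^ k)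
    {b : Set (IrrCharacter N)} (hb : IsPBlock M b) (hst : ∀ x : G, StabilizesBlock N b x)
    {B : Set (IrrCharacter G)} (hB : IsPBlock M B)
    (hcov : ∃ χ ∈ B, ∃ θ ∈ b, classInner (fun n : N => (χ : G → ℂ) n) (θ : N → ℂ) ≠ 0)
    {P : Subgroup G} (hP : IsDefectGroup p M B P) (hPab : ∀ x ∈ P, ∀ y ∈ P, x * y = y * x) :
    N ⊔ P = ⊤ ∧ IsDefectGroup p M b ((P ⊓ N).subgroupOf N) ∧
      (∀ χ ∈ B, ∃ θ ∈ b, ∀ n : N, (χ : G → ℂ) n = (θ : N → ℂ) n) ∧
      (∀ θ ∈ b, Nat.card {χ : IrrCharacter G // χ ∈ B ∧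
        ∀ n : N, (χ : G → ℂ) n = (θ : N → ℂ) n} = N.index) ∧
      Nat.card B = N.index * Nat.card b ∧ blockRank p B = blockRank p b := by
  classical
  haveI : Fact p.Prime := ⟨hM.1⟩
  obtain ⟨hNP, hdef⟩ := (Cfsg.Agent.S4672.result p M hM N hidx b hb hst).2 B hB
    (covering_coeff_eq hM hidx hb hst hB hcov) P hP
  have hab : ∀ x y : G, x * y * x⁻¹ * y⁻¹ ∈ N := by
    intro x y
    obtain ⟨a, ha, r, hr, rfl⟩ := Subgroup.mem_sup_of_normal_left.1
      (show x ∈ N ⊔ P by rw [hNP]; trivial)
    obtain ⟨a', ha', r', hr', rfl⟩ := Subgroup.mem_sup_of_normal_left.1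
      (show y ∈ N ⊔ P by rw [hNP]; trivial)
    rw [← QuotientGroup.eq_one_iff]
    simp only [QuotientGroup.mk_mul, QuotientGroup.mk_inv, (QuotientGroup.eq_one_iff _).2 ha,
      (QuotientGroup.eq_one_iff _).2 ha', one_mul]
    rw [← QuotientGroup.mk_mul, hPab r hr r' hr', QuotientGroup.mk_mul, mul_inv_cancel_right,
      mul_inv_cancel]
  let A := {l : G →* ℂˣ // ∀ n ∈ N, l n = 1}
  -- linear characters move every member
  have hmove : ∀ χ ∈ B, ∀ l l' : A, (∀ g : G, (χ : G → ℂ) g * (l.1 g : ℂ) =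
      (χ : G → ℂ) g * (l'.1 g : ℂ)) → l = l' := by
    intro χ hχ l l' h
    refine Subtype.ext (MonoidHom.ext fun g => ?_)
    obtain ⟨a, ha, r, hr, rfl⟩ := Subgroup.mem_sup_of_normal_left.1
      (show g ∈ N ⊔ P by rw [hNP]; trivial)
    rw [map_mul, map_mul, l.2 a ha, l'.2 a ha, one_mul, one_mul]
    obtain ⟨c, -, hc, hne⟩ := exists_major_value_ne_zero hM hB hP hr
      (fun d hd => hPab d hd r hr) hχ
    have hcN := reg_mem_of_index hM hidx hc
    have h1 := mul_left_cancel₀ hne (h (r * c))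
    rw [map_mul, map_mul, l.2 c hcN, l'.2 c hcN, mul_one, mul_one] at h1
    exact Units.ext h1
  have horb : covOrb b = {b} := by
    ext d
    rw [mem_covOrb, Finset.mem_singleton]
    refine ⟨?_, fun e => ⟨1, e.trans (blockConj_one b).symm⟩⟩
    rintro ⟨x, rfl⟩
    exact (stabilizesBlock_iff_blockConj x b).1 (hst x)
  -- restriction is irreducible
  have hres : ∀ χ ∈ B, ∃ θ ∈ b, ∀ n : N, (χ : G → ℂ) n = (θ : N → ℂ) n := by
    intro χ hχ
    haveI : Fintype A := Fintype.ofFinite _
    have hirr : IsIrrCharacter N (fun n : N => (χ : G → ℂ) n) := by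
      refine irr_of_char_norm_one (isCharacter_restrict (isCharacter_of_irr χ.2) N) ?_
      have hsum : ∀ g : G, ∑ l : A, (l.1 g : ℂ) = if g ∈ N then (N.index : ℂ) else 0 := by
        intro g
        split_ifs with hg
        · rw [Finset.sum_congr rfl fun (l : A) _ => by rw [l.2 g hg, Units.val_one],
            Finset.sum_const, nsmul_eq_mul, mul_one, Finset.card_univ, ← Nat.card_eq_fintype_card,
            card_linear_over hab]
        · obtain ⟨m, hm, hmg⟩ := exists_linear_ne_one hab hg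
          have hshift : ∑ l : A, (l.1 g : ℂ) = (m g : ℂ) * ∑ l : A, (l.1 g : ℂ) := by
            rw [Finset.mul_sum]
            let e : A ≃ A :=
              { toFun := fun l => ⟨m * l.1, fun n hn => by
                  rw [MonoidHom.mul_apply, hm n hn, l.2 n hn, one_mul]⟩
                invFun := fun l => ⟨m⁻¹ * l.1, fun n hn => by
                  rw [MonoidHom.mul_apply, MonoidHom.inv_apply, hm n hn, l.2 n hn, inv_one, one_mul]⟩
                left_inv := fun l => Subtype.ext (MonoidHom.ext fun x => by simp)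
                right_inv := fun l => Subtype.ext (MonoidHom.ext fun x => by simp) }
            exact ((Fintype.sum_equiv e _ _ fun l => by
              show (m g : ℂ) * (l.1 g : ℂ) = _
              rfl).symm).trans (Finset.sum_congr rfl fun l _ => rfl)
          have h2 : ((m g : ℂ) - 1) * ∑ l : A, (l.1 g : ℂ) = 0 := by
            rw [sub_mul, one_mul, ← hshift, sub_self]
          exact (mul_eq_zero.1 h2).resolve_left
            (sub_ne_zero.2 fun h => hmg (Units.ext h))
      have h1 : ∑ l : A, classInner ((χ : G → ℂ) * fun g => (l.1 g : ℂ)) (χ : G → ℂ) = 1 := by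
        rw [Finset.sum_eq_single (⟨1, fun _ _ => rfl⟩ : A)]
        · rw [show ((χ : G → ℂ) * fun g => (((1 : G →* ℂˣ) g : ℂˣ) : ℂ)) = (χ : G → ℂ) from
            funext fun g => by simp, classInner_irr_self χ.2]
        · intro l _ hl
          refine classInner_irr_ne (isIrrCharacter_mul_linear χ.2 (isIrrCharacter_linear l.1)
            (by simp)) χ.2 fun e => hl (hmove χ hχ l ⟨1, fun _ _ => rfl⟩ fun g => ?_)
          rw [show (χ : G → ℂ) g * (l.1 g : ℂ) = ((χ : G → ℂ) * fun g => (l.1 g : ℂ)) g from rfl, e]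
          simp
        · exact fun h => absurd (Finset.mem_univ _) h
      rw [← h1]
      simp only [classInner, Pi.mul_apply, Finset.mul_sum]
      rw [Finset.sum_comm]
      have hG : (Nat.card G : ℂ)⁻¹ * N.index = (Nat.card N : ℂ)⁻¹ := by
        rw [← N.card_mul_index, Nat.cast_mul, mul_inv, mul_assoc,
          inv_mul_cancel₀ (Nat.cast_ne_zero.2 Subgroup.index_ne_zero_of_finite), mul_one]
      rw [Finset.sum_congr rfl fun g (_ : g ∈ Finset.univ) => show
        ∑ l : A, (Nat.card G : ℂ)⁻¹ * ((χ : G → ℂ) g * (l.1 g : ℂ) * conj ((χ : G → ℂ) g)) =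
          if g ∈ N then (Nat.card N : ℂ)⁻¹ * ((χ : G → ℂ) g * conj ((χ : G → ℂ) g)) else 0 by
        rw [Finset.sum_congr rfl fun (l : A) _ => show
          (Nat.card G : ℂ)⁻¹ * ((χ : G → ℂ) g * (l.1 g : ℂ) * conj ((χ : G → ℂ) g)) =
          (Nat.card G : ℂ)⁻¹ * ((χ : G → ℂ) g * conj ((χ : G → ℂ) g)) * (l.1 g : ℂ) by ring,
          ← Finset.mul_sum, hsum]
        split_ifs
        · rw [← hG]; ring
        · exact mul_zero _, ← Finset.sum_filter,
        Finset.sum_subtype (p := (· ∈ N)) _ (fun g => by simp)]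
    refine ⟨⟨_, hirr⟩, ?_, fun n => rfl⟩
    obtain ⟨d, hd, hθd⟩ := constituent_mem_orbit hM (res_covFn_covers hM hB hb hcov hχ)
      (θ := ⟨_, hirr⟩) (by rw [classInner_irr_self hirr]; exact one_ne_zero)
    rw [horb, Finset.mem_singleton] at hd
    exact hd ▸ hθd
  have hcovers : ∀ (χ : IrrCharacter G), ∀ θ ∈ b,
      classInner (fun n : N => (χ : G → ℂ) n) (θ : N → ℂ) ≠ 0 → χ ∈ B := by
    intro χ θ hθ h
    rw [covering_unique hM hidx hb hB (blockOf_isPBlock χ) hcov
      ⟨χ, mem_blockOf_self hM χ, θ, hθ, h⟩]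
    exact mem_blockOf_self hM χ
  have hover : ∀ θ ∈ b, ∃ χ ∈ B, ∀ n : N, (χ : G → ℂ) n = (θ : N → ℂ) n := by
    intro θ hθ
    obtain ⟨χ, hχ⟩ := exists_over (G := G) θ
    have hχB := hcovers χ θ hθ hχ
    obtain ⟨θ', -, h⟩ := hres χ hχB
    refine ⟨χ, hχB, fun n => (h n).trans ?_⟩
    by_contra hne
    refine hχ ?_
    rw [show (fun n : N => (χ : G → ℂ) n) = (θ' : N → ℂ) from funext h]
    exact classInner_irr_ne θ'.2 θ.2 fun e => hne (congrFun e n)
  have hfib : ∀ θ ∈ b, Nat.card {χ : IrrCharacter G // χ ∈ B ∧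
      ∀ n : N, (χ : G → ℂ) n = (θ : N → ℂ) n} = N.index := by
    intro θ hθ
    obtain ⟨χ₀, hχ₀, h₀⟩ := hover θ hθ
    have hinner : ∀ χ : IrrCharacter G, (∀ n : N, (χ : G → ℂ) n = (θ : N → ℂ) n) →
        classInner (fun n : N => (χ : G → ℂ) n) (θ : N → ℂ) ≠ 0 := fun χ h => by
      rw [show (fun n : N => (χ : G → ℂ) n) = (θ : N → ℂ) from funext h, classInner_irr_self θ.2]
      exact one_ne_zero
    rw [← card_linear_over hab]
    symm
    let f : A → {χ : IrrCharacter G // χ ∈ B ∧ ∀ n : N, (χ : G → ℂ) n = (θ : N → ℂ) n} := fun l =>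
      ⟨⟨(χ₀ : G → ℂ) * fun g => (l.1 g : ℂ),
        isIrrCharacter_mul_linear χ₀.2 (isIrrCharacter_linear l.1) (by simp)⟩,
        hcovers _ θ hθ (hinner _ fun n => by
          show (χ₀ : G → ℂ) n * (l.1 n : ℂ) = _
          rw [l.2 n n.2, Units.val_one, mul_one, h₀]),
        fun n => by
          show (χ₀ : G → ℂ) n * (l.1 n : ℂ) = _
          rw [l.2 n n.2, Units.val_one, mul_one, h₀]⟩
    refine Nat.card_eq_of_bijective f ⟨fun l l' h => hmove χ₀ hχ₀ l l' fun g =>
      congrFun (congrArg (fun z => ((z.1 : IrrCharacter G) : G → ℂ)) h) g, fun χ => ?_⟩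
    obtain ⟨l, hl, e⟩ := CfsgLib.Glauberman.Invariant.exists_linear_mul N hab θ.2 χ₀.2 χ.1.2
      (hinner χ₀ h₀) (hinner χ.1 χ.2.2)
    exact ⟨⟨l, hl⟩, Subtype.ext (Subtype.ext e.symm)⟩
  refine ⟨hNP, hdef, hres, hfib, ?_, ?_⟩
  · choose θ hθb hθ using hres
    let F : B → b := fun χ => ⟨θ χ.1 χ.2, hθb χ.1 χ.2⟩
    rw [Nat.card_congr (Equiv.sigmaFiberEquiv F).symm, Nat.card_sigma]
    rw [Finset.sum_congr rfl fun (t : b) _ => show Nat.card {χ : B // F χ = t} = N.index by
      rw [← hfib t.1 t.2]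
      exact Nat.card_congr
        { toFun := fun χ => ⟨χ.1.1, χ.1.2, fun n => by
            rw [hθ χ.1.1 χ.1.2]
            exact congrFun (congrArg (fun z : b => ((z : IrrCharacter N) : N → ℂ)) χ.2) n⟩
          invFun := fun χ => ⟨⟨χ.1, χ.2.1⟩, Subtype.ext (Subtype.ext (funext fun n => by
            rw [← χ.2.2 n]
            exact (hθ χ.1 χ.2.1 n).symm))⟩
          left_inv := fun χ => rfl
          right_inv := fun χ => rfl }]
    rw [Finset.sum_const, Finset.card_univ, ← Nat.card_eq_fintype_card, smul_eq_mul, mul_comm]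
  · let E : (N → ℂ) →ₗ[ℂ] (G → ℂ) :=
      { toFun := fun f g => if h : g ∈ N then f ⟨g, h⟩ else 0
        map_add' := fun a c => funext fun g => by by_cases h : g ∈ N <;> simp [h]
        map_smul' := fun r a => funext fun g => by by_cases h : g ∈ N <;> simp [h] }
    have hE : Function.Injective E := fun a c h => funext fun n => by
      have := congrFun h (n : G)
      simpa [E, n.2] using this
    have hEθ : ∀ (χ : IrrCharacter G) (θ : IrrCharacter N),
        (∀ n : N, (χ : G → ℂ) n = (θ : N → ℂ) n) →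
        E (pRegularPart p (θ : N → ℂ)) = pRegularPart p (χ : G → ℂ) := by
      intro χ θ h
      funext g
      show (if hg : g ∈ N then pRegularPart p (θ : N → ℂ) ⟨g, hg⟩ else 0) = _
      unfold pRegularPart IsPRegular
      by_cases hg : g ∈ N
      · rw [dif_pos hg]
        by_cases hr : ¬ p ∣ orderOf g
        · rw [if_pos (by rwa [Subgroup.orderOf_mk]), if_pos hr]
          exact (h ⟨g, hg⟩).symm
        · rw [if_neg (by rwa [Subgroup.orderOf_mk]), if_neg hr]
      · rw [dif_neg hg, if_neg fun hr => hg (reg_mem_of_index hM hidx hr)]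
    unfold blockRank
    rw [show ((fun χ : IrrCharacter G => pRegularPart p (χ : G → ℂ)) '' B) =
        E '' ((fun θ : IrrCharacter N => pRegularPart p (θ : N → ℂ)) '' b) from by
      ext f
      constructor
      · rintro ⟨χ, hχ, rfl⟩
        obtain ⟨θ, hθ, h⟩ := hres χ hχ
        exact ⟨_, ⟨θ, hθ, rfl⟩, hEθ χ θ h⟩
      · rintro ⟨_, ⟨θ, hθ, rfl⟩, rfl⟩
        obtain ⟨χ, hχ, h⟩ := hover θ hθ
        exact ⟨χ, hχ, (hEθ χ θ h).symm⟩, Submodule.span_image]
    exact (Submodule.equivMapOfInjective E hE _).finrank_eq.symm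

end CfsgLib.Blocks
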