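import Cfsg.Agent.Lib.Blocks.AbelianFreeChars
import Cfsg.Agent.Lib.Blocks.AbelianFreeColumns
import Cfsg.Agent.Lib.Blocks.Vanishing
import Cfsg.Agent.Lib.Blocks.Proj

/-!
# Abelian Sylow subgroups with a fixed point free normaliser: the principal block
-/

namespace CfsgLib.Blocks.AbelianFree

open Cfsg CfsgLib.CharTheory
open scoped ComplexConjugate

set_option linter.unusedVariables false
set_option linter.style.haveILetI false
set_option linter.unusedSectionVars false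

universe u

variable {G : Type u} [Group G] [Fintype G] {p : ℕ} {P : Sylow p G} {m : ℕ} {M : Ideal AlgInt}
  [Fintype (P : Subgroup G)] [Fintype (Subgroup.normalizer ((P : Subgroup G) : Set G))]

/-- A principal block character vanishing on the singular sections through `P` cannot exist. -/
theorem Free.exists_nz_ne (hM : IsPModular p M) (h : Free P m) {χ : IrrCharacter G}
    (hχ : χ ∈ principalBlock M G) (hne : ∃ w : (P : Subgroup G), w ≠ 1) :
    ∃ ν, nz P χ ν ≠ 0 := by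
  classical
  haveI : Fact p.Prime := ⟨h.prime⟩
  by_contra hno
  push Not at hno
  have hvan : ∀ w : (P : Subgroup G), w ≠ 1 → (χ : G → ℂ) w = 0 := fun w hw => by
    rw [h.value_eq χ hw]
    exact Finset.sum_eq_zero fun ν _ => by rw [hno ν, Int.cast_zero, zero_mul]
  have h0 : blockDefect p (blockOf M (χ : G → ℂ)) = 0 := by
    refine defect_zero_of_vanish hM χ fun g hg => ?_
    obtain ⟨w, hw⟩ := h.conj_mem (z := g) ⟨1, by rw [hg, pow_one]⟩
    obtain ⟨x, hx⟩ := isConj_iff.1 hw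
    rw [← isClassFunction_irr χ.2 g x, hx]
    refine hvan w fun e => h.prime.ne_one ?_
    rw [e, OneMemClass.coe_one] at hx
    rw [← hg, ← conj_orderOf x g, hx, orderOf_one]
  have hB : IsPBlock M (blockOf M (χ : G → ℂ)) := blockOf_isPBlock χ
  obtain ⟨φ, hφ, hφ0⟩ := exists_height_zero hM hB
  have hmin := minDv_le_card hM hB
  have hd := blockDefect_eq p (blockOf M (χ : G → ℂ))
  have hsingle : blockOf M (φ : G → ℂ) = {φ} := (defect_zero_iff hM φ).1 (by omega)
  have e1 : blockOf M (χ : G → ℂ) = {φ} := (eq_blockOf hM hB hφ).trans hsingle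
  have e2 : blockOf M (χ : G → ℂ) = principalBlock M G :=
    (eq_blockOf hM principalBlock_isPBlock hχ).symm
  have hone : oneIrr G ∈ principalBlock M G := mem_blockOf_self hM (oneIrr G)
  rw [← e2, e1] at hχ hone
  obtain ⟨w, hw⟩ := hne
  have h1 := hvan w hw
  rw [show χ = oneIrr G from (Set.mem_singleton_iff.1 hχ).trans
    (Set.mem_singleton_iff.1 hone).symm] at h1
  exact one_ne_zero h1

/-- The structure of the principal block. -/
structure Shape (M : Ideal AlgInt) (P : Sylow p G) [Fintype (P : Subgroup G)] (m : ℕ)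
    (ζ : IrrCharacter (P : Subgroup G) → IrrCharacter G) (δ d : ℤ) (a : IrrCharacter G → ℤ)
    (X Y : Finset (IrrCharacter G)) : Prop where
  union : ∀ χ, χ ∈ principalBlock M G ↔ χ ∈ X ∨ χ ∈ Y
  disj : Disjoint X Y
  cardY : Y.card * m = Nat.card P - 1
  two_le : 2 ≤ Y.card
  hδ : δ = 1 ∨ δ = -1
  mem_ζ : ∀ ν, ν ≠ oneP (P : Subgroup G) → ζ ν ∈ Y
  surj : ∀ η ∈ Y, ∃ ν, ν ≠ oneP (P : Subgroup G) ∧ ζ ν = η
  ζ_rel : ∀ ν ν', ν ≠ oneP (P : Subgroup G) → ν' ≠ oneP (P : Subgroup G) →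
    (ζ ν = ζ ν' ↔ Rel P ν ν')
  one : oneIrr G ∈ X ∧ a (oneIrr G) = 1
  ha : ∀ χ ∈ X, a χ ≠ 0
  nzX : ∀ χ ∈ X, ∀ ν, ν ≠ oneP (P : Subgroup G) → nz P χ ν = -a χ
  nzY : ∀ ν ν', ν ≠ oneP (P : Subgroup G) → ν' ≠ oneP (P : Subgroup G) →
    (Rel P ν' ν → nz P (ζ ν) ν' = -d + δ) ∧ (¬ Rel P ν' ν → nz P (ζ ν) ν' = -d)
  sq : (d - δ) ^ 2 + ((Y.card : ℤ) - 1) * d ^ 2 + ∑ χ ∈ X, a χ ^ 2 = (m : ℤ) + 1

theorem Free.exists_shape (hM : IsPModular p M) (h : Free P m) (hm1 : 1 < m)
    (hm2 : m + 1 < Nat.card P) : ∃ ζ δ d a X Y, Shape M P m ζ δ d a X Y := by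
  classical
  let N1 := {ν : IrrCharacter (P : Subgroup G) // ν ≠ oneP (P : Subgroup G)}
  let s : Setoid N1 := ⟨fun a b => Rel P a.1 b.1, fun a => rel_refl _, rel_symm, rel_trans⟩
  let ι := Quotient s
  haveI : Fintype ι := Fintype.ofFinite ι
  let g : IrrCharacter G → ι → ℤ := fun χ O => nz P χ O.out.1
  have hout : ∀ (χ : IrrCharacter G) (ν : N1), g χ (Quotient.mk s ν) = nz P χ ν.1 :=
    fun χ ν => nz_rel χ (Quotient.mk_out (s := s) ν : Rel P _ ν.1)
  have hrel : ∀ (ν : N1) (O : ι), Rel P ν.1 O.out.1 ↔ Quotient.mk s ν = O := fun ν O => by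
    conv_rhs => rw [← Quotient.out_eq O]
    exact (Quotient.eq (r := s)).symm
  have hcardι : Fintype.card ι * m = Nat.card P - 1 := by
    have h1 : Fintype.card N1 = Nat.card P - 1 := by
      rw [Fintype.card_subtype_compl, Fintype.card_subtype_eq, h.card_irr]
    rw [← h1, ← Finset.card_univ (α := N1),
      Finset.card_eq_sum_card_fiberwise (f := Quotient.mk s) (t := (Finset.univ : Finset ι))
        (fun x _ => Finset.mem_univ _),
      Finset.sum_congr rfl fun O _ => show (Finset.univ.filter fun ν : N1 => Quotient.mk s ν = O).card =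
          m by
        rw [← h.card_rel O.out.2]
        refine Finset.card_bij (fun ν _ => ν.1) (fun ν hν => ?_) (fun a _ b _ e => Subtype.ext e)
          fun ν hν => ?_
        · exact Finset.mem_filter.2 ⟨Finset.mem_univ _, (hrel ν O).2 (Finset.mem_filter.1 hν).2⟩
        · have h2 := (Finset.mem_filter.1 hν).2
          exact ⟨⟨ν, rel_ne_one h2 O.out.2⟩, Finset.mem_filter.2 ⟨Finset.mem_univ _,
            (hrel ⟨ν, rel_ne_one h2 O.out.2⟩ O).1 h2⟩, rfl⟩,
      Finset.sum_const, Finset.card_univ, smul_eq_mul]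
  have hr : 2 ≤ Fintype.card ι := by
    by_contra hlt
    have h2 : Fintype.card ι * m ≤ 1 * m := Nat.mul_le_mul_right m (by omega)
    omega
  have hdata : Data (bset (principalBlock M G)) g
      (fun χ => (charDegree (χ : G → ℂ) : ℤ)) m :=
    { gram := fun O O' => by
        rw [h.gram hM O.out.2 O'.out.2]
        congr 1
        exact if_congr (Quotient.out_equiv_out (s := s)) rfl rfl
      deg := fun O => by
        have h1 := h.regular_relation hM O.out.1 (g := 1) (by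
          simp [h.prime.ne_one])
        rw [Finset.sum_congr rfl fun χ _ => by rw [← irr_charDegree_cast]] at h1
        exact_mod_cast h1
      wpos := fun χ _ => by
        refine Int.natCast_pos.2 (Nat.pos_of_ne_zero fun h0 => irr_one_ne_zero χ ?_)
        rw [← irr_charDegree_cast, h0, Nat.cast_zero]
      card := hr }
  obtain ⟨ζ', δ, d0, c, hδ, hζB, hζ, hY, hX, hsq⟩ := hdata.classify
  obtain ⟨w0, hw0⟩ : ∃ w : (P : Subgroup G), w ≠ 1 := by
    haveI : Nontrivial (P : Subgroup G) := Finite.one_lt_card_iff_nontrivial.1 (by omega)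
    exact exists_ne 1
  have hone0 : ∀ ν, ν ≠ oneP (P : Subgroup G) → nz P (oneIrr G) ν = -1 := by
    intro ν hν
    have e1 : mult P (oneIrr G) ν = 0 := by
      have h1 := mult_spec (oneIrr G) ν
      rw [show (fun w : (P : Subgroup G) => ((oneIrr G : IrrCharacter G) : G → ℂ) w) =
        (fun _ => 1) from rfl, classInner_irr_ne isIrrCharacter_one ν.2
          fun e => hν (Subtype.ext e.symm)] at h1
      exact_mod_cast h1.symm
    have e2 : mult P (oneIrr G) (oneP (P : Subgroup G)) = 1 := by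
      have h1 := mult_spec (oneIrr G) (oneP (P : Subgroup G))
      rw [show (fun w : (P : Subgroup G) => ((oneIrr G : IrrCharacter G) : G → ℂ) w) =
        ((oneP (P : Subgroup G) : IrrCharacter (P : Subgroup G)) : ↥(P : Subgroup G) → ℂ) from rfl,
        classInner_irr_self (oneP (P : Subgroup G)).2] at h1
      exact_mod_cast h1.symm
    rw [nz, e1, e2]; norm_num
  have hone : oneIrr G ∈ bset (principalBlock M G) :=
    mem_bset.2 (mem_blockOf_self hM (oneIrr G))
  have honeX : ∀ O, ζ' O ≠ oneIrr G := by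
    intro O e
    obtain ⟨O', hne⟩ := Fintype.exists_ne_of_one_lt_card (by omega) O
    have h1 : g (ζ' O) O = -1 := by rw [e]; exact hone0 _ O.out.2
    have h2 : g (ζ' O) O' = -1 := by rw [e]; exact hone0 _ O'.out.2
    rw [hY, if_pos rfl] at h1
    rw [hY, if_neg (Ne.symm hne), add_zero] at h2
    rcases hδ with h3 | h3 <;> omega
  haveI : Nonempty ι := Fintype.card_pos_iff.1 (by omega)
  obtain ⟨O1⟩ : Nonempty ι := inferInstance
  let ζ : IrrCharacter (P : Subgroup G) → IrrCharacter G := fun ν =>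
    if hν : ν ≠ oneP (P : Subgroup G) then ζ' (Quotient.mk s ⟨ν, hν⟩) else oneIrr G
  have hζeq : ∀ ν (hν : ν ≠ oneP (P : Subgroup G)), ζ ν = ζ' (Quotient.mk s ⟨ν, hν⟩) :=
    fun ν hν => dif_pos hν
  have hcardY : (Finset.univ.image ζ').card = Fintype.card ι := by
    rw [Finset.card_image_of_injective _ hζ, Finset.card_univ]
  refine ⟨ζ, δ, -d0, fun χ => -c χ, (bset (principalBlock M G)).filter fun χ => ∀ O, ζ' O ≠ χ,
    Finset.univ.image ζ', ?_⟩
  refine
    { union := fun χ => ?_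
      disj := ?_
      cardY := by rw [hcardY, hcardι]
      two_le := by rwa [hcardY]
      hδ := hδ
      mem_ζ := fun ν hν => by rw [hζeq ν hν]; exact Finset.mem_image_of_mem _ (Finset.mem_univ _)
      surj := fun η hη => ?_
      ζ_rel := fun ν ν' hν hν' => ?_
      one := ⟨Finset.mem_filter.2 ⟨hone, honeX⟩, ?_⟩
      ha := fun χ hχ => ?_
      nzX := fun χ hχ ν hν => ?_
      nzY := fun ν ν' hν hν' => ?_
      sq := ?_ }
  · simp only [Finset.mem_filter, mem_bset, Finset.mem_image, Finset.mem_univ, true_and]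
    refine ⟨fun hχ => ?_, fun hχ => ?_⟩
    · by_cases he : ∃ O, ζ' O = χ
      · exact Or.inr he
      · exact Or.inl ⟨hχ, fun O e => he ⟨O, e⟩⟩
    · rcases hχ with hχ | ⟨O, rfl⟩
      exacts [hχ.1, mem_bset.1 (hζB O)]
  · rw [Finset.disjoint_left]
    intro χ hχ hχ'
    obtain ⟨O, -, rfl⟩ := Finset.mem_image.1 hχ'
    exact (Finset.mem_filter.1 hχ).2 O rfl
  · obtain ⟨O, -, rfl⟩ := Finset.mem_image.1 hη
    exact ⟨O.out.1, O.out.2, by rw [hζeq _ O.out.2]; exact congrArg ζ' (Quotient.out_eq O)⟩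
  · rw [hζeq ν hν, hζeq ν' hν', hζ.eq_iff, Quotient.eq]
    exact Iff.rfl
  · show -c (oneIrr G) = 1
    have h1 : g (oneIrr G) O1 = -1 := hone0 _ O1.out.2
    rw [hX _ hone honeX O1] at h1
    omega
  · obtain ⟨hχB, hχX⟩ := Finset.mem_filter.1 hχ
    intro e
    have e' : c χ = 0 := neg_eq_zero.1 e
    obtain ⟨ν, hν⟩ := h.exists_nz_ne hM (mem_bset.1 hχB) ⟨w0, hw0⟩
    have hν1 : ν ≠ oneP (P : Subgroup G) := fun e1 => hν (e1 ▸ nz_one χ)
    rw [← hout χ ⟨ν, hν1⟩, hX χ hχB hχX, e'] at hν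
    exact hν rfl
  · obtain ⟨hχB, hχX⟩ := Finset.mem_filter.1 hχ
    rw [← hout χ ⟨ν, hν⟩, hX χ hχB hχX, neg_neg]
  · have e : nz P (ζ ν) ν' = d0 + if Quotient.mk s ⟨ν, hν⟩ = Quotient.mk s ⟨ν', hν'⟩
        then δ else 0 := by
      rw [hζeq ν hν, ← hout _ ⟨ν', hν'⟩, hY]
    refine ⟨fun hr => ?_, fun hr => ?_⟩
    · rw [e, if_pos (Quotient.sound (rel_symm hr)), neg_neg]
    · rw [e, if_neg fun q => hr (rel_symm ((Quotient.eq (r := s)).1 q)), neg_neg, add_zero]
  · rw [hcardY, Finset.sum_congr rfl fun χ _ => neg_sq (c χ)]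
    linarith

variable {ζ : IrrCharacter (P : Subgroup G) → IrrCharacter G} {δ d : ℤ} {a : IrrCharacter G → ℤ}
  {X Y : Finset (IrrCharacter G)}

theorem Shape.bset_eq [DecidableEq (IrrCharacter G)] (S : Shape M P m ζ δ d a X Y) :
    bset (principalBlock M G) = X ∪ Y := by
  ext χ
  rw [mem_bset, S.union, Finset.mem_union]

theorem Shape.valueX (h : Free P m) (S : Shape M P m ζ δ d a X Y) {χ : IrrCharacter G}
    (hχ : χ ∈ X) {w : (P : Subgroup G)} (hw : w ≠ 1) : (χ : G → ℂ) w = (a χ : ℂ) := by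
  classical
  have h1 := h.sum_irr hw
  rw [← Finset.add_sum_erase _ _ (Finset.mem_univ (oneP (P : Subgroup G))),
    show (oneP (P : Subgroup G) : ↥(P : Subgroup G) → ℂ) w = 1 from rfl] at h1
  rw [h.value_eq χ hw, ← Finset.add_sum_erase _ _ (Finset.mem_univ (oneP (P : Subgroup G))), nz_one,
    Int.cast_zero, zero_mul, zero_add,
    Finset.sum_congr rfl fun ν hν => by rw [S.nzX χ hχ ν (Finset.ne_of_mem_erase hν)],
    ← Finset.mul_sum, eq_neg_of_add_eq_zero_right h1]
  push_cast; ring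

theorem Shape.valueY (h : Free P m) (S : Shape M P m ζ δ d a X Y)
    {ν : IrrCharacter (P : Subgroup G)} (hν : ν ≠ oneP (P : Subgroup G)) {w : (P : Subgroup G)}
    (hw : w ≠ 1) [DecidablePred fun ν' => Rel P ν' ν] :
    (ζ ν : G → ℂ) w = (d : ℂ) + (δ : ℂ) *
      ∑ ν' ∈ Finset.univ.filter (fun ν' => Rel P ν' ν), (ν' : ↥(P : Subgroup G) → ℂ) w := by
  classical
  have h1 := h.sum_irr hw
  rw [← Finset.add_sum_erase _ _ (Finset.mem_univ (oneP (P : Subgroup G))),
    show (oneP (P : Subgroup G) : ↥(P : Subgroup G) → ℂ) w = 1 from rfl] at h1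
  have hset : Finset.univ.filter (fun ν' => Rel P ν' ν) =
      (Finset.univ.erase (oneP (P : Subgroup G))).filter (fun ν' => Rel P ν' ν) := by
    ext ν'
    simp only [Finset.mem_filter, Finset.mem_univ, true_and, Finset.mem_erase, and_true, ne_eq]
    exact ⟨fun h => ⟨rel_ne_one h hν, h⟩, fun h => h.2⟩
  rw [h.value_eq (ζ ν) hw, ← Finset.add_sum_erase _ _ (Finset.mem_univ (oneP (P : Subgroup G))),
    nz_one, Int.cast_zero, zero_mul, zero_add,
    Finset.sum_congr rfl fun ν' hν' => show (nz P (ζ ν) ν' : ℂ) * _ =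
        -(d : ℂ) * (ν' : ↥(P : Subgroup G) → ℂ) w +
          (δ : ℂ) * (if Rel P ν' ν then (ν' : ↥(P : Subgroup G) → ℂ) w else 0) by
      by_cases hr : Rel P ν' ν
      · rw [(S.nzY ν ν' hν (Finset.ne_of_mem_erase hν')).1 hr, if_pos hr]; push_cast; ring
      · rw [(S.nzY ν ν' hν (Finset.ne_of_mem_erase hν')).2 hr, if_neg hr]; push_cast; ring,
    Finset.sum_add_distrib, ← Finset.mul_sum, ← Finset.mul_sum, ← Finset.sum_filter, ← hset,
    eq_neg_of_add_eq_zero_right h1]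
  ring

/-- The relation for one exceptional character. -/
theorem Shape.regular_one (hM : IsPModular p M) (h : Free P m) (S : Shape M P m ζ δ d a X Y)
    {η : IrrCharacter G} (hη : η ∈ Y) {g : G} (hg : ¬ p ∣ orderOf g) :
    (δ : ℂ) * (η : G → ℂ) g - (d : ℂ) * ∑ η' ∈ Y, (η' : G → ℂ) g -
      ∑ χ ∈ X, (a χ : ℂ) * (χ : G → ℂ) g = 0 := by
  classical
  obtain ⟨ν, hν, rfl⟩ := S.surj η hη
  have h1 := h.regular_relation hM ν hg
  rw [S.bset_eq, Finset.sum_union S.disj,
    Finset.sum_congr rfl (fun χ hχ => by rw [S.nzX χ hχ ν hν]),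
    Finset.sum_congr (s₁ := Y) rfl fun η' hη' => show (nz P η' ν : ℂ) * (η' : G → ℂ) g =
        (if η' = ζ ν then (δ : ℂ) * (η' : G → ℂ) g else 0) - (d : ℂ) * (η' : G → ℂ) g by
      obtain ⟨ν', hν', rfl⟩ := S.surj η' hη'
      by_cases hr : Rel P ν ν'
      · rw [(S.nzY ν' ν hν' hν).1 hr, if_pos ((S.ζ_rel _ _ hν' hν).2 (rel_symm hr))]
        push_cast; ring
      · rw [(S.nzY ν' ν hν' hν).2 hr,
          if_neg fun e => hr (rel_symm ((S.ζ_rel _ _ hν' hν).1 e))]
        push_cast; ring,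
    Finset.sum_sub_distrib, Finset.sum_ite_eq' Y, if_pos (S.mem_ζ ν hν), ← Finset.mul_sum] at h1
  rw [← h1]
  push_cast
  simp only [neg_mul, Finset.sum_neg_distrib]
  ring

theorem Shape.agree (hM : IsPModular p M) (h : Free P m) (S : Shape M P m ζ δ d a X Y)
    {η η' : IrrCharacter G} (hη : η ∈ Y) (hη' : η' ∈ Y) {g : G} (hg : ¬ p ∣ orderOf g) :
    (η : G → ℂ) g = (η' : G → ℂ) g := by
  have h1 := S.regular_one hM h hη hg
  rw [← S.regular_one hM h hη' hg, sub_left_inj, sub_left_inj] at h1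
  refine mul_left_cancel₀ ?_ h1
  rcases S.hδ with e | e <;> rw [e] <;> norm_num

theorem Shape.relation (hM : IsPModular p M) (h : Free P m) (S : Shape M P m ζ δ d a X Y)
    {η : IrrCharacter G} (hη : η ∈ Y) {g : G} (hg : ¬ p ∣ orderOf g) :
    ((Y.card : ℂ) * d - δ) * (η : G → ℂ) g + ∑ χ ∈ X, (a χ : ℂ) * (χ : G → ℂ) g = 0 := by
  have h1 := S.regular_one hM h hη hg
  rw [Finset.sum_congr rfl fun η' hη' => S.agree hM h hη' hη hg, Finset.sum_const, nsmul_eq_mul]
    at h1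
  linear_combination -h1

/-- A linear character as an irreducible character. -/
noncomputable def ofHom (ψ : ↥(P : Subgroup G) →* ℂˣ) : IrrCharacter (P : Subgroup G) :=
  ⟨fun w => (ψ w : ℂ), isIrrCharacter_linear ψ⟩

theorem ofHom_injective :
    Function.Injective (ofHom : (↥(P : Subgroup G) →* ℂˣ) → IrrCharacter (P : Subgroup G)) :=
  fun a b e => MonoidHom.ext fun w => Units.ext (congrFun (congrArg Subtype.val e) w)

theorem ofHom_ne_one {ψ : ↥(P : Subgroup G) →* ℂˣ} (hψ : ψ ≠ 1) :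
    ofHom ψ ≠ oneP (P : Subgroup G) := fun e => hψ (ofHom_injective (e.trans (Subtype.ext
      (funext fun w => by simp [ofHom, oneP]))))

theorem Free.exists_ofHom (h : Free P m) (ν : IrrCharacter (P : Subgroup G)) :
    ∃ ψ : ↥(P : Subgroup G) →* ℂˣ, ofHom ψ = ν := by
  obtain ⟨f, hf⟩ := exists_hom_of_degree_one (isCharacter_of_irr ν.2) (h.irr_one ν)
  exact ⟨f, Subtype.ext hf.symm⟩

theorem rel_ofHom {ψ ψ' : ↥(P : Subgroup G) →* ℂˣ} :
    Rel P (ofHom ψ) (ofHom ψ') ↔ ∃ n : G, n ∈ Subgroup.normalizer ((P : Subgroup G) : Set G) ∧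
      ∀ w w' : ↥(P : Subgroup G), (w' : G) = n * w * n⁻¹ → ψ' w' = ψ w := by
  constructor
  · rintro ⟨n, hn, e⟩
    refine ⟨n, hn, fun w w' hw => Units.ext ?_⟩
    have h1 := congrFun (congrArg Subtype.val e) w
    rw [show w' = ⟨n * w * n⁻¹, (Subgroup.mem_normalizer_iff.1 hn _).1 w.2⟩ from Subtype.ext hw]
    exact h1
  · rintro ⟨n, hn, e⟩
    exact ⟨n, hn, Subtype.ext (funext fun w => congrArg Units.val (e w _ rfl))⟩

theorem Free.finsum_orbit (h : Free P m) (ψ : ↥(P : Subgroup G) →* ℂˣ) (y : ↥(P : Subgroup G))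
    [DecidablePred fun ν => Rel P ν (ofHom ψ)] :
    ∑ᶠ ψ' ∈ {ψ' : ↥(P : Subgroup G) →* ℂˣ | ∃ n : G,
        n ∈ Subgroup.normalizer ((P : Subgroup G) : Set G) ∧
          ∀ w w' : ↥(P : Subgroup G), (w' : G) = n * w * n⁻¹ → ψ' w' = ψ w},
      ((ψ' y : ℂˣ) : ℂ) =
    ∑ ν ∈ Finset.univ.filter (fun ν => Rel P ν (ofHom ψ)), (ν : ↥(P : Subgroup G) → ℂ) y := by
  classical
  haveI : Finite (↥(P : Subgroup G) →* ℂˣ) := Finite.of_injective _ ofHom_injective
  haveI := Fintype.ofFinite (↥(P : Subgroup G) →* ℂˣ)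
  rw [finsum_mem_eq_toFinset_sum, Set.toFinset_setOf]
  refine Finset.sum_bij (fun ψ' _ => ofHom ψ') (fun ψ' hψ' => ?_)
    (fun a _ b _ e => ofHom_injective e) (fun ν hν => ?_) (fun _ _ => rfl)
  · exact Finset.mem_filter.2 ⟨Finset.mem_univ _,
      rel_symm (rel_ofHom.2 (Finset.mem_filter.1 hψ').2)⟩
  · obtain ⟨ψ', rfl⟩ := h.exists_ofHom ν
    exact ⟨ψ', Finset.mem_filter.2 ⟨Finset.mem_univ _,
      rel_ofHom.1 (rel_symm (Finset.mem_filter.1 hν).2)⟩, rfl⟩

end CfsgLib.Blocks.AbelianFree
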