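import Cfsg.Agent.Lib.Blocks.AbelianFreeLift
import Cfsg.Agent.Lib.CharTheory.SmallDegreeMain
import Cfsg.Agent.Lib.CharTheory.Gallagher

/-!
# Abelian Sylow subgroups with a fixed point free normaliser: the generalised characters
-/

namespace CfsgLib.Blocks.AbelianFree

open Cfsg CfsgLib.CharTheory
open scoped ComplexConjugate

set_option linter.unusedVariables false
set_option linter.style.haveILetI false
set_option linter.unusedSectionVars false

universe u

variable {G : Type u} [Group G] [Fintype G] {p : ℕ} {P : Sylow p G} {m : ℕ} {M : Ideal AlgInt}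

/-- The trivial character of `P`. -/
noncomputable def oneP (P : Subgroup G) : IrrCharacter P :=
  ⟨fun _ => 1, isIrrCharacter_one⟩

/-- Conjugation on the characters of `P`. -/
noncomputable def nConj {g : G} (hg : g ∈ Subgroup.normalizer ((P : Subgroup G) : Set G))
    (ν : IrrCharacter (P : Subgroup G)) : IrrCharacter (P : Subgroup G) :=
  ⟨fun x => (ν : ↥(P : Subgroup G) → ℂ) ⟨g * x * g⁻¹, (Subgroup.mem_normalizer_iff.1 hg _).1 x.2⟩,
    isIrrCharacter_comp_surjective ν.2
      (MonoidHom.mk' (fun x : (P : Subgroup G) =>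
          (⟨g * x * g⁻¹, (Subgroup.mem_normalizer_iff.1 hg _).1 x.2⟩ : (P : Subgroup G)))
        fun a b => Subtype.ext (by simp [mul_assoc]))
      fun y => ⟨⟨g⁻¹ * y * g, (Subgroup.mem_normalizer_iff.1 hg _).2 (by
        simp [mul_assoc, y.2])⟩, Subtype.ext (by simp [mul_assoc])⟩⟩

theorem nConj_nConj {a b : G} (ha : a ∈ Subgroup.normalizer ((P : Subgroup G) : Set G))
    (hb : b ∈ Subgroup.normalizer ((P : Subgroup G) : Set G))
    (ν : IrrCharacter (P : Subgroup G)) :
    nConj ha (nConj hb ν) =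
      nConj ((Subgroup.normalizer ((P : Subgroup G) : Set G)).mul_mem hb ha) ν := by
  refine Subtype.ext (funext fun c => congrArg (ν : ↥(P : Subgroup G) → ℂ) (Subtype.ext ?_))
  show b * (a * (c : G) * a⁻¹) * b⁻¹ = b * a * c * (b * a)⁻¹
  group

theorem nConj_congr {a b : G} (ha : a ∈ Subgroup.normalizer ((P : Subgroup G) : Set G))
    (hb : b ∈ Subgroup.normalizer ((P : Subgroup G) : Set G)) (e : a = b)
    (ν : IrrCharacter (P : Subgroup G)) : nConj ha ν = nConj hb ν := by subst e; rfl

variable [Fintype (P : Subgroup G)] [Fintype (Subgroup.normalizer ((P : Subgroup G) : Set G))]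

theorem Free.irr_one (h : Free P m) (ν : IrrCharacter (P : Subgroup G)) :
    (ν : ↥(P : Subgroup G) → ℂ) 1 = 1 :=
  degree_one_of_commutative (fun a b => Subtype.ext (h.comm a a.2 b b.2)) ν.2

theorem Free.card_irr (h : Free P m) :
    Fintype.card (IrrCharacter (P : Subgroup G)) = Nat.card P := by
  classical
  have h1 := sum_irr_apply_mul_degree (G := (P : Subgroup G)) 1
  rw [if_pos rfl, Finset.sum_congr rfl fun ν _ => by rw [h.irr_one, mul_one], Finset.sum_const,
    nsmul_eq_mul, mul_one, Finset.card_univ] at h1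
  exact_mod_cast h1

theorem Free.sum_irr (h : Free P m) {w : (P : Subgroup G)} (hw : w ≠ 1) :
    ∑ ν : IrrCharacter (P : Subgroup G), (ν : ↥(P : Subgroup G) → ℂ) w = 0 := by
  classical
  have h1 := sum_irr_apply_mul_degree (G := (P : Subgroup G)) w
  rw [if_neg hw] at h1
  rw [← h1]
  exact Finset.sum_congr rfl fun ν _ => by rw [h.irr_one, mul_one]

theorem nConj_id {a : G} (ha : a ∈ Subgroup.normalizer ((P : Subgroup G) : Set G))
    (ν : IrrCharacter (P : Subgroup G)) (hc : ∀ x ∈ (P : Subgroup G), a * x * a⁻¹ = x) :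
    nConj ha ν = ν :=
  Subtype.ext (funext fun x => congrArg (ν : ↥(P : Subgroup G) → ℂ) (Subtype.ext (hc x x.2)))

theorem nConj_one' (ν : IrrCharacter (P : Subgroup G))
    (h1 : (1 : G) ∈ Subgroup.normalizer ((P : Subgroup G) : Set G)) : nConj h1 ν = ν :=
  nConj_id h1 ν fun x _ => by simp

theorem nConj_oneP {a : G} (ha : a ∈ Subgroup.normalizer ((P : Subgroup G) : Set G)) :
    nConj ha (oneP (P : Subgroup G)) = oneP (P : Subgroup G) := rfl

theorem nConj_injective {a : G} (ha : a ∈ Subgroup.normalizer ((P : Subgroup G) : Set G)) :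
    Function.Injective (nConj ha : IrrCharacter (P : Subgroup G) → _) := by
  intro ν ν' e
  have h1 := congrArg (nConj ((Subgroup.normalizer ((P : Subgroup G) : Set G)).inv_mem ha)) e
  rwa [nConj_nConj, nConj_congr _ (Subgroup.one_mem _) (mul_inv_cancel a), nConj_one', nConj_nConj,
    nConj_congr _ (Subgroup.one_mem _) (mul_inv_cancel a), nConj_one'] at h1

/-- Conjugacy of characters of `P` under the normaliser. -/
def Rel (P : Sylow p G) (ν ν' : IrrCharacter (P : Subgroup G)) : Prop :=
  ∃ g, ∃ hg : g ∈ Subgroup.normalizer ((P : Subgroup G) : Set G), nConj hg ν' = ν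

theorem rel_refl (ν : IrrCharacter (P : Subgroup G)) : Rel P ν ν :=
  ⟨1, Subgroup.one_mem _, nConj_one' ν _⟩

theorem rel_symm {ν ν' : IrrCharacter (P : Subgroup G)} (hs : Rel P ν ν') : Rel P ν' ν := by
  obtain ⟨g, hg, e⟩ := hs
  refine ⟨g⁻¹, Subgroup.inv_mem _ hg, ?_⟩
  rw [← e, nConj_nConj, nConj_congr _ (Subgroup.one_mem _) (mul_inv_cancel g), nConj_one']

theorem rel_trans {a b c : IrrCharacter (P : Subgroup G)} (h1 : Rel P a b) (h2 : Rel P b c) :
    Rel P a c := by
  obtain ⟨g, hg, e⟩ := h1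
  obtain ⟨k, hk, e'⟩ := h2
  exact ⟨k * g, Subgroup.mul_mem _ hk hg, by rw [← e, ← e', nConj_nConj]⟩

theorem rel_ne_one {ν ν' : IrrCharacter (P : Subgroup G)} (hs : Rel P ν ν')
    (hν : ν' ≠ oneP (P : Subgroup G)) : ν ≠ oneP (P : Subgroup G) := by
  rintro rfl
  obtain ⟨g, hg, e⟩ := hs
  exact hν (nConj_injective hg (e.trans (nConj_oneP hg).symm))

theorem Free.stab_free (h : Free P m) {g : G}
    (hg : g ∈ Subgroup.normalizer ((P : Subgroup G) : Set G))
    {ν : IrrCharacter (P : Subgroup G)} (hν : ν ≠ oneP (P : Subgroup G))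
    (hfix : nConj hg ν = ν) : g ∈ Subgroup.centralizer ((P : Subgroup G) : Set G) := by
  by_contra hgc
  obtain ⟨f, hf⟩ := exists_hom_of_degree_one (isCharacter_of_irr ν.2) (h.irr_one ν)
  have hgx : ∀ x : (P : Subgroup G), g * (x : G) * g⁻¹ ∈ (P : Subgroup G) :=
    fun x => (Subgroup.mem_normalizer_iff.1 hg x).1 x.2
  let d : ↥(P : Subgroup G) → ↥(P : Subgroup G) := fun x =>
    ⟨g * (x : G) * g⁻¹ * (x : G)⁻¹, (P : Subgroup G).mul_mem (hgx x) (Subgroup.inv_mem _ x.2)⟩
  have hd : Function.Surjective d := Finite.injective_iff_surjective.1 fun x y e => by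
    have e' : g * (x : G) * g⁻¹ * (x : G)⁻¹ = g * (y : G) * g⁻¹ * (y : G)⁻¹ :=
      congrArg Subtype.val e
    by_contra hxy
    have hz : ((y : G)⁻¹ * x) ≠ 1 := fun hz => hxy (Subtype.ext (inv_mul_eq_one.1 hz).symm)
    refine hgc ((h.free _ (Subgroup.mul_mem _ (Subgroup.inv_mem _ y.2) x.2) hz).le
      ⟨Subgroup.mem_centralizer_singleton_iff.2 ?_, hg⟩)
    have hw : g * (x : G) * g⁻¹ = g * (y : G) * g⁻¹ * (y : G)⁻¹ * x := by
      rw [← e', inv_mul_cancel_right]
    have h3 : g * ((y : G)⁻¹ * x) * g⁻¹ = (y : G)⁻¹ * x := by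
      calc g * ((y : G)⁻¹ * x) * g⁻¹ = (g * (y : G) * g⁻¹)⁻¹ * (g * (x : G) * g⁻¹) := by group
        _ = (y : G)⁻¹ * x := by rw [hw]; group
    exact mul_inv_eq_iff_eq_mul.1 h3
  refine hν (Subtype.ext (funext fun z => ?_))
  obtain ⟨x, rfl⟩ := hd z
  show (ν : ↥(P : Subgroup G) → ℂ) (d x) = 1
  have h1 : (ν : ↥(P : Subgroup G) → ℂ) ⟨_, hgx x⟩ = (ν : ↥(P : Subgroup G) → ℂ) x :=
    congrFun (congrArg Subtype.val hfix) x
  rw [show d x = ⟨_, hgx x⟩ * x⁻¹ from Subtype.ext rfl, hf]
  simp only [hf] at h1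
  simp only [map_mul, Units.val_mul]
  rw [h1, ← Units.val_mul, ← map_mul, mul_inv_cancel, map_one, Units.val_one]

theorem Free.card_norm (h : Free P m) :
    Nat.card (Subgroup.normalizer ((P : Subgroup G) : Set G)) =
      Nat.card (Subgroup.centralizer ((P : Subgroup G) : Set G)) * m := by
  set N := Subgroup.normalizer ((P : Subgroup G) : Set G)
  set C := Subgroup.centralizer ((P : Subgroup G) : Set G)
  have hle : C ≤ N := CfsgLib.CharTheory.SmallDegree.cen_le_norm (P : Subgroup G)
  rw [← h.rel, ← Subgroup.card_mul_index (C.subgroupOf N),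
    Nat.card_congr (Subgroup.subgroupOfEquivOfLe hle).toEquiv]
  rfl

/-- The number of elements of the normaliser mapping `ν'` to `ν`. -/
noncomputable def cnt (P : Sylow p G) (ν ν' : IrrCharacter (P : Subgroup G)) : ℕ :=
  Nat.card {n : Subgroup.normalizer ((P : Subgroup G) : Set G) // nConj n.2 ν' = ν}

theorem sum_cnt (ν : IrrCharacter (P : Subgroup G)) :
    ∑ ν' : IrrCharacter (P : Subgroup G), cnt P ν' ν =
      Nat.card (Subgroup.normalizer ((P : Subgroup G) : Set G)) := by
  simp only [cnt]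
  rw [← Nat.card_sigma]
  exact Nat.card_congr (Equiv.sigmaFiberEquiv
    fun n : Subgroup.normalizer ((P : Subgroup G) : Set G) => nConj n.2 ν)

theorem cnt_oneP (ν : IrrCharacter (P : Subgroup G))
    [Decidable (ν = oneP (P : Subgroup G))] :
    cnt P ν (oneP (P : Subgroup G)) = if ν = oneP (P : Subgroup G) then
      Nat.card (Subgroup.normalizer ((P : Subgroup G) : Set G)) else 0 := by
  rw [cnt]
  split_ifs with e
  · exact Nat.card_congr (Equiv.subtypeUnivEquiv fun n => (nConj_oneP n.2).trans e.symm)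
  · haveI : IsEmpty {n : Subgroup.normalizer ((P : Subgroup G) : Set G) //
        nConj n.2 (oneP (P : Subgroup G)) = ν} :=
      ⟨fun n => e (n.2.symm.trans (nConj_oneP _))⟩
    exact Nat.card_of_isEmpty

theorem Free.cnt_eq (h : Free P m) {ν ν' : IrrCharacter (P : Subgroup G)}
    (hν' : ν' ≠ oneP (P : Subgroup G)) [Decidable (Rel P ν ν')] :
    cnt P ν ν' = if Rel P ν ν' then
      Nat.card (Subgroup.centralizer ((P : Subgroup G) : Set G)) else 0 := by
  split_ifs with hr
  · obtain ⟨g, hg, e⟩ := hr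
    rw [cnt]
    refine Nat.card_congr
      { toFun := fun n => ⟨((n : Subgroup.normalizer ((P : Subgroup G) : Set G)) : G) * g⁻¹, ?_⟩
        invFun := fun c => ⟨⟨(c : G) * g, Subgroup.mul_mem _
          (CfsgLib.CharTheory.SmallDegree.cen_le_norm (P : Subgroup G) c.2) hg⟩, ?_⟩
        left_inv := fun n => Subtype.ext (Subtype.ext (inv_mul_cancel_right _ _))
        right_inv := fun c => Subtype.ext (mul_inv_cancel_right _ _) }
    · refine h.stab_free (Subgroup.mul_mem _ n.1.2 (Subgroup.inv_mem _ hg)) hν' ?_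
      rw [← nConj_nConj (Subgroup.inv_mem _ hg) n.1.2, n.2, ← e, nConj_nConj,
        nConj_congr _ (Subgroup.one_mem _) (mul_inv_cancel g), nConj_one']
    · have hcN := CfsgLib.CharTheory.SmallDegree.cen_le_norm (P : Subgroup G) c.2
      show nConj _ ν' = ν
      rw [← nConj_nConj hg hcN, nConj_id hcN ν' fun x hx => by
        rw [← Subgroup.mem_centralizer_iff.1 c.2 x hx, mul_inv_cancel_right], e]
  · haveI : IsEmpty {n : Subgroup.normalizer ((P : Subgroup G) : Set G) // nConj n.2 ν' = ν} :=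
      ⟨fun n => hr ⟨_, n.1.2, n.2⟩⟩
    exact Nat.card_of_isEmpty

/-- The class of a nontrivial character has `m` elements. -/
theorem Free.card_rel (h : Free P m) {ν : IrrCharacter (P : Subgroup G)}
    (hν : ν ≠ oneP (P : Subgroup G)) [DecidablePred fun ν' => Rel P ν' ν] :
    (Finset.univ.filter fun ν' => Rel P ν' ν).card = m := by
  classical
  have h1 := sum_cnt (P := P) ν
  rw [Finset.sum_congr rfl fun ν' _ => h.cnt_eq hν, ← Finset.sum_filter, Finset.sum_const,
    smul_eq_mul, h.card_norm, mul_comm] at h1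
  exact Nat.eq_of_mul_eq_mul_left Nat.card_pos h1

/-- The multiplicity in a restriction to `P`. -/
noncomputable def mult (P : Sylow p G) [Fintype (P : Subgroup G)] (χ : IrrCharacter G)
    (ν : IrrCharacter (P : Subgroup G)) : ℕ :=
  (classInner_char_nat (isCharacter_restrict (isCharacter_of_irr χ.2) (P : Subgroup G))
    (isCharacter_of_irr ν.2)).choose

theorem mult_spec (χ : IrrCharacter G) (ν : IrrCharacter (P : Subgroup G)) :
    classInner (fun w : (P : Subgroup G) => (χ : G → ℂ) w) (ν : ↥(P : Subgroup G) → ℂ) =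
      (mult P χ ν : ℂ) :=
  (classInner_char_nat (isCharacter_restrict (isCharacter_of_irr χ.2) (P : Subgroup G))
    (isCharacter_of_irr ν.2)).choose_spec

theorem sum_mul_conj (χ : IrrCharacter G) (ν : IrrCharacter (P : Subgroup G)) :
    ∑ w : (P : Subgroup G), (χ : G → ℂ) w * conj ((ν : ↥(P : Subgroup G) → ℂ) w) =
      (Nat.card P : ℂ) * mult P χ ν := by
  rw [← mult_spec, classInner, mul_inv_cancel_left₀ (Nat.cast_ne_zero.2 Nat.card_pos.ne')]

theorem mult_nConj (χ : IrrCharacter G) {g : G}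
    (hg : g ∈ Subgroup.normalizer ((P : Subgroup G) : Set G))
    (ν : IrrCharacter (P : Subgroup G)) : mult P χ (nConj hg ν) = mult P χ ν := by
  have h1 : ∑ w : (P : Subgroup G),
      (χ : G → ℂ) w * conj ((nConj hg ν : ↥(P : Subgroup G) → ℂ) w) =
        ∑ w : (P : Subgroup G), (χ : G → ℂ) w * conj ((ν : ↥(P : Subgroup G) → ℂ) w) := by
    refine Fintype.sum_bijective (fun w : (P : Subgroup G) =>
      (⟨g * w * g⁻¹, (Subgroup.mem_normalizer_iff.1 hg _).1 w.2⟩ : (P : Subgroup G)))
      (Finite.injective_iff_bijective.1 fun a b e => Subtype.ext (conj_injective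
        (congrArg Subtype.val e))) _ _ fun w => ?_
    show (χ : G → ℂ) w * conj ((ν : ↥(P : Subgroup G) → ℂ) _) = (χ : G → ℂ) (g * w * g⁻¹) * _
    rw [isClassFunction_irr χ.2]
  rw [sum_mul_conj, sum_mul_conj] at h1
  exact_mod_cast mul_left_cancel₀ (Nat.cast_ne_zero.2 Nat.card_pos.ne') h1

/-- The multiplicity relative to the trivial character. -/
noncomputable def nz (P : Sylow p G) [Fintype (P : Subgroup G)] (χ : IrrCharacter G)
    (ν : IrrCharacter (P : Subgroup G)) : ℤ :=
  (mult P χ ν : ℤ) - mult P χ (oneP (P : Subgroup G))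

theorem nz_one (χ : IrrCharacter G) : nz P χ (oneP (P : Subgroup G)) = 0 := sub_self _

theorem nz_rel (χ : IrrCharacter G) {ν ν' : IrrCharacter (P : Subgroup G)} (h : Rel P ν ν') :
    nz P χ ν = nz P χ ν' := by
  obtain ⟨g, hg, rfl⟩ := h
  rw [nz, nz, mult_nConj]

/-- Off the identity a character is determined by these differences. -/
theorem Free.value_eq (h : Free P m) (χ : IrrCharacter G) {w : (P : Subgroup G)} (hw : w ≠ 1) :
    (χ : G → ℂ) w =
      ∑ ν : IrrCharacter (P : Subgroup G), (nz P χ ν : ℂ) * (ν : ↥(P : Subgroup G) → ℂ) w := by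
  classical
  have h1 := congrFun (eq_sum_irr (isClassFunction_char
    (isCharacter_restrict (isCharacter_of_irr χ.2) (P : Subgroup G)))) w
  simp only [Finset.sum_apply, Pi.smul_apply, smul_eq_mul] at h1
  refine h1.trans ?_
  rw [Finset.sum_congr rfl fun ν _ => by rw [mult_spec χ ν]]
  simp only [nz, Int.cast_sub, Int.cast_natCast, sub_mul, Finset.sum_sub_distrib, ← Finset.mul_sum,
    h.sum_irr hw, mul_zero, sub_zero]

open Classical in
/-- The averages over the normaliser. -/
noncomputable def avg (P : Sylow p G) [Fintype (Subgroup.normalizer ((P : Subgroup G) : Set G))]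
    (ν : IrrCharacter (P : Subgroup G)) (w : (P : Subgroup G)) : ℂ :=
  (Nat.card (Subgroup.centralizer ((P : Subgroup G) : Set G)) : ℂ)⁻¹ *
    ∑ n : Subgroup.normalizer ((P : Subgroup G) : Set G),
      (nConj n.2 ν : ↥(P : Subgroup G) → ℂ) w

/-- The functions to lift. -/
noncomputable def fn (P : Sylow p G) [Fintype (Subgroup.normalizer ((P : Subgroup G) : Set G))]
    (ν : IrrCharacter (P : Subgroup G)) (w : (P : Subgroup G)) : ℂ :=
  avg P ν w - avg P (oneP (P : Subgroup G)) w

theorem avg_stable (ν : IrrCharacter (P : Subgroup G)) : NStable P (avg P ν) := by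
  intro n hn w w' e
  rw [avg, avg]
  congr 1
  refine Fintype.sum_equiv (Equiv.mulRight ⟨n, hn⟩) _ _ fun k => ?_
  refine congrArg (ν : ↥(P : Subgroup G) → ℂ) (Subtype.ext ?_)
  show (k : G) * w' * (k : G)⁻¹ = k * n * w * ((k : G) * n)⁻¹
  rw [e]
  group

theorem fn_stable (ν : IrrCharacter (P : Subgroup G)) : NStable P (fn P ν) :=
  fun n hn w w' e => by
    rw [fn, fn, avg_stable ν n hn w w' e, avg_stable _ n hn w w' e]

theorem Free.fn_one (h : Free P m) (ν : IrrCharacter (P : Subgroup G)) : fn P ν 1 = 0 := by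
  simp only [fn, avg, h.irr_one, sub_self]

theorem Free.card_cast (h : Free P m) :
    (Nat.card (Subgroup.centralizer ((P : Subgroup G) : Set G)) : ℂ)⁻¹ *
      Nat.card (Subgroup.normalizer ((P : Subgroup G) : Set G)) = m := by
  rw [h.card_norm, Nat.cast_mul, inv_mul_cancel_left₀ (Nat.cast_ne_zero.2 Nat.card_pos.ne')]

theorem Free.avg_inner_irr (h : Free P m) (χ : IrrCharacter G)
    (ν : IrrCharacter (P : Subgroup G)) :
    ∑ w : (P : Subgroup G), avg P ν w * conj ((χ : G → ℂ) w) =
      (m : ℂ) * Nat.card P * mult P χ ν := by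
  have e : ∀ μ : IrrCharacter (P : Subgroup G),
      ∑ w : (P : Subgroup G), (μ : ↥(P : Subgroup G) → ℂ) w * conj ((χ : G → ℂ) w) =
        (Nat.card P : ℂ) * mult P χ μ := by
    intro μ
    have h1 := congrArg conj (sum_mul_conj χ μ)
    simp only [map_sum, map_mul, Complex.conj_conj, map_natCast] at h1
    rw [← h1]
    exact Finset.sum_congr rfl fun w _ => mul_comm _ _
  simp only [avg, mul_assoc, Finset.sum_mul]
  rw [← Finset.mul_sum, Finset.sum_comm, Finset.sum_congr rfl fun n _ => e _]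
  simp only [mult_nConj]
  rw [Finset.sum_const, Finset.card_univ, ← Nat.card_eq_fintype_card, nsmul_eq_mul, ← mul_assoc,
    h.card_cast]

theorem Free.avg_inner_avg (h : Free P m) (ν ν' : IrrCharacter (P : Subgroup G)) :
    ∑ w : (P : Subgroup G), avg P ν w * conj (avg P ν' w) =
      (m : ℂ) * Nat.card P *
        ((Nat.card (Subgroup.centralizer ((P : Subgroup G) : Set G)) : ℂ)⁻¹ * cnt P ν ν') := by
  classical
  set c : ℂ := (Nat.card (Subgroup.centralizer ((P : Subgroup G) : Set G)) : ℂ)⁻¹ with hc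
  have e : ∀ n : Subgroup.normalizer ((P : Subgroup G) : Set G), ∑ k : Subgroup.normalizer ((P : Subgroup G) : Set G), ∑ w : (P : Subgroup G),
      (nConj n.2 ν : ↥(P : Subgroup G) → ℂ) w *
        conj ((nConj k.2 ν' : ↥(P : Subgroup G) → ℂ) w) = (Nat.card P : ℂ) * cnt P ν ν' := by
    intro n
    have hP : (Nat.card P : ℂ) ≠ 0 := Nat.cast_ne_zero.2 Nat.card_pos.ne'
    have e1 : ∀ k : Subgroup.normalizer ((P : Subgroup G) : Set G), ∑ w : (P : Subgroup G), (nConj n.2 ν : ↥(P : Subgroup G) → ℂ) w *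
        conj ((nConj k.2 ν' : ↥(P : Subgroup G) → ℂ) w) =
          if nConj k.2 ν' = nConj n.2 ν then (Nat.card P : ℂ) else 0 := by
      intro k
      split_ifs with hk
      · have h1 := classInner_irr_self (nConj n.2 ν).2
        rw [classInner, inv_mul_eq_iff_eq_mul₀ hP, mul_one] at h1
        rw [hk, h1]
      · have h1 := classInner_irr_ne (nConj n.2 ν).2 (nConj k.2 ν').2
          fun he => hk (Subtype.ext he.symm)
        rw [classInner, inv_mul_eq_iff_eq_mul₀ hP, mul_zero] at h1
        exact h1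
    rw [Finset.sum_congr rfl fun k _ => e1 k, ← Finset.sum_filter, Finset.sum_const, nsmul_eq_mul,
      mul_comm]
    refine congrArg (fun j : ℕ => (Nat.card P : ℂ) * j) ?_
    rw [cnt, Nat.card_eq_fintype_card, Fintype.card_subtype]
    refine Finset.card_equiv (Equiv.mulRight n⁻¹) fun k => ?_
    simp only [Finset.mem_filter, Finset.mem_univ, true_and]
    have hk : nConj (Equiv.mulRight n⁻¹ k).2 ν' =
        nConj (Subgroup.inv_mem _ n.2) (nConj k.2 ν') := by
      rw [nConj_nConj]
      exact nConj_congr _ _ rfl _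
    rw [hk]
    constructor
    · intro hk'
      rw [hk', nConj_nConj, nConj_congr _ (Subgroup.one_mem _) (mul_inv_cancel (n : G)), nConj_one']
    · intro hk'
      refine Eq.trans ?_ (congrArg (nConj n.2) hk')
      rw [nConj_nConj, nConj_nConj]
      refine nConj_congr _ _ ?_ _
      simp
  calc ∑ w : (P : Subgroup G), avg P ν w * conj (avg P ν' w)
      = c * c * ∑ n : Subgroup.normalizer ((P : Subgroup G) : Set G), ∑ k : Subgroup.normalizer ((P : Subgroup G) : Set G), ∑ w : (P : Subgroup G),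
          (nConj n.2 ν : ↥(P : Subgroup G) → ℂ) w *
            conj ((nConj k.2 ν' : ↥(P : Subgroup G) → ℂ) w) := by
        have hcc : conj c = c := by rw [hc, map_inv₀, map_natCast]
        simp only [avg, ← hc, map_mul, hcc, map_sum]
        rw [Finset.sum_congr rfl fun n _ => Finset.sum_comm, Finset.sum_comm, Finset.mul_sum]
        refine Finset.sum_congr rfl fun w _ => ?_
        rw [mul_mul_mul_comm, Finset.sum_mul_sum]
    _ = _ := by
        rw [Finset.sum_congr rfl fun n _ => e n, Finset.sum_const, Finset.card_univ,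
          ← Nat.card_eq_fintype_card, nsmul_eq_mul, ← h.card_cast, ← hc]
        ring

/-- The lifted generalised characters. -/
noncomputable def Free.F (h : Free P m) (ν : IrrCharacter (P : Subgroup G)) : G → ℂ :=
  lift h.prime P (fn P ν)

theorem Free.F_inner_irr (hM : IsPModular p M) (h : Free P m)
    (ν : IrrCharacter (P : Subgroup G)) (χ : IrrCharacter G) :
    classInner (h.F ν) (χ : G → ℂ) = ind (principalBlock M G) χ * (nz P χ ν : ℂ) := by
  classical
  have h1 := h.inner_lift_irr hM (fn_stable ν) χ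
  rw [Finset.sum_erase _ (by rw [h.fn_one, zero_mul])] at h1
  simp only [fn, sub_mul, Finset.sum_sub_distrib, h.avg_inner_irr] at h1
  refine mul_left_cancel₀ (mul_ne_zero (Nat.cast_ne_zero.2 h.m_pos.ne')
    (Nat.cast_ne_zero.2 (Nat.card_pos (α := P)).ne')) (h1.trans ?_)
  rw [nz]
  push_cast
  ring

theorem Free.F_eq_sum (hM : IsPModular p M) (h : Free P m)
    (ν : IrrCharacter (P : Subgroup G)) :
    h.F ν = ∑ χ ∈ bset (principalBlock M G), (nz P χ ν : ℂ) • (χ : G → ℂ) := by
  classical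
  refine (eq_sum_irr (h.lift_isClassFunction (fn_stable ν))).trans ?_
  rw [← Finset.sum_subset (Finset.subset_univ (bset (principalBlock M G))) fun χ _ hχ => by
    rw [show classInner (lift h.prime P (fn P ν)) (χ : G → ℂ) = _ from h.F_inner_irr hM ν χ,
      ind_of_notMem fun hb => hχ (mem_bset.2 hb), zero_mul, zero_smul]]
  exact Finset.sum_congr rfl fun χ hχ => by
    rw [show classInner (lift h.prime P (fn P ν)) (χ : G → ℂ) = _ from h.F_inner_irr hM ν χ,
      ind_of_mem (mem_bset.1 hχ), one_mul]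

/-- The relations on regular elements. -/
theorem Free.regular_relation (hM : IsPModular p M) (h : Free P m)
    (ν : IrrCharacter (P : Subgroup G)) {g : G} (hg : ¬ p ∣ orderOf g) :
    ∑ χ ∈ bset (principalBlock M G), (nz P χ ν : ℂ) * (χ : G → ℂ) g = 0 := by
  have h1 := congrFun (h.F_eq_sum hM ν) g
  rw [Free.F, lift_regular h.prime _ hg] at h1
  simpa [Finset.sum_apply] using h1.symm

/-- The Gram matrix. -/
theorem Free.gram (hM : IsPModular p M) (h : Free P m) {ν ν' : IrrCharacter (P : Subgroup G)}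
    (hν : ν ≠ oneP (P : Subgroup G)) (hν' : ν' ≠ oneP (P : Subgroup G))
    [Decidable (Rel P ν ν')] :
    ∑ χ ∈ bset (principalBlock M G), nz P χ ν * nz P χ ν' =
      (if Rel P ν ν' then 1 else 0) + (m : ℤ) := by
  classical
  have h1 := h.inner_lift_lift (fn_stable ν) (fn_stable ν')
  rw [show lift h.prime P (fn P ν) = h.F ν from rfl, h.F_eq_sum hM ν, classInner_sum_left,
    Finset.sum_erase _ (by rw [h.fn_one, zero_mul])] at h1
  have h2 : ∀ χ ∈ bset (principalBlock M G),
      classInner ((nz P χ ν : ℂ) • (χ : G → ℂ)) (lift h.prime P (fn P ν')) =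
        ((nz P χ ν * nz P χ ν' : ℤ) : ℂ) := by
    intro χ hχ
    rw [classInner_smul_left, ← classInner_comm, show classInner (lift h.prime P (fn P ν')) _ = _ from
      h.F_inner_irr hM ν' χ, ind_of_mem (mem_bset.1 hχ), one_mul, Int.cast_mul]
    simp
  have hc : (Nat.card (Subgroup.centralizer ((P : Subgroup G) : Set G)) : ℂ) ≠ 0 :=
    Nat.cast_ne_zero.2 Nat.card_pos.ne'
  have h0 : cnt P (oneP (P : Subgroup G)) ν' = 0 := by
    rw [h.cnt_eq hν', if_neg fun hr => rel_ne_one hr hν' rfl]
  simp only [Finset.sum_congr rfl h2, fn, map_sub, sub_mul, mul_sub, Finset.sum_sub_distrib,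
    h.avg_inner_avg, cnt_oneP, if_neg hν, h0, h.cnt_eq hν', if_true, Nat.cast_zero, mul_zero,
    sub_zero, zero_sub, sub_neg_eq_add, h.card_cast, ← Int.cast_sum] at h1
  rw [← mul_add] at h1
  have h3 := mul_left_cancel₀ (mul_ne_zero (Nat.cast_ne_zero.2 h.m_pos.ne')
    (Nat.cast_ne_zero.2 (Nat.card_pos (α := P)).ne')) h1
  have h4 : (((∑ χ ∈ bset (principalBlock M G), nz P χ ν * nz P χ ν') : ℤ) : ℂ) =
      (((if Rel P ν ν' then 1 else 0) + (m : ℤ) : ℤ) : ℂ) := by
    rw [h3]
    split_ifs with hr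
    · rw [inv_mul_cancel₀ hc]; simp
    · simp
  exact Int.cast_injective h4

end CfsgLib.Blocks.AbelianFree
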