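import Cfsg.Agent.Lib.Blocks.AbelianFreeThree
import Cfsg.Agent.Lib.Blocks.DefectZeroCount

/-!
# Abelian Sylow subgroups with automiser of order three: consequences of an involution
-/

namespace CfsgLib.Blocks.AbelianFree

open Cfsg CfsgLib.CharTheory
open scoped ComplexConjugate

set_option linter.unusedVariables false
set_option linter.style.haveILetI false
set_option linter.unusedSectionVars false

universe u

/-- The three weighted values: exactly two weights are negative and their product is a square. -/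
theorem three_weights {x₁ x₂ x₃ u₁ u₂ u₃ : ℤ} (n₁ : x₁ ≠ 0) (n₂ : x₂ ≠ 0) (n₃ : x₃ ≠ 0)
    (h1 : 1 + x₁ + x₂ + x₃ = 0) (h2 : 1 + u₁ + u₂ + u₃ = 0)
    (h3 : x₁ * x₂ * x₃ + u₁ ^ 2 * x₂ * x₃ + u₂ ^ 2 * x₁ * x₃ + u₃ ^ 2 * x₁ * x₂ = 0)
    (hu : u₁ ≠ x₁) :
    ((if x₁ < 0 then 1 else 0) + (if x₂ < 0 then 1 else 0) + (if x₃ < 0 then 1 else 0) = 2) ∧
      IsSquare (x₁ * x₂ * x₃) := by
  have key : (u₁ - x₁) ^ 2 * (x₂ * x₃) = x₁ * (u₂ * x₃ - u₃ * x₂) ^ 2 := by
    linear_combination -(x₂ + x₃) * h3 + (x₁ * x₂ * x₃ + u₁ ^ 2 * x₂ * x₃) * h1 +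
      x₁ * x₂ * x₃ * (u₂ + u₃ - 1 - u₁) * h2
  have hsq : x₁ * x₂ * x₃ * (u₁ - x₁) ^ 2 = (x₁ * (u₂ * x₃ - u₃ * x₂)) ^ 2 := by
    linear_combination x₁ * key
  have hk : u₁ - x₁ ≠ 0 := sub_ne_zero.2 hu
  have hk2 : 0 < (u₁ - x₁) ^ 2 := by positivity
  have hdvd : (u₁ - x₁) ^ 2 ∣ (x₁ * (u₂ * x₃ - u₃ * x₂)) ^ 2 := ⟨x₁ * x₂ * x₃, by rw [← hsq]; ring⟩
  obtain ⟨c, hc⟩ := (Int.pow_dvd_pow_iff two_ne_zero).1 hdvd
  have hN : x₁ * x₂ * x₃ = c * c := by
    refine mul_right_cancel₀ (pow_ne_zero 2 hk) ?_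
    rw [hsq, hc]; ring
  refine ⟨?_, ⟨c, hN⟩⟩
  have hc0 : c ≠ 0 := by
    rintro rfl
    rw [zero_mul, mul_eq_zero, mul_eq_zero] at hN
    tauto
  have hpos : 0 < x₁ * x₂ * x₃ := by rw [hN]; exact mul_self_pos.2 hc0
  rcases lt_or_gt_of_ne n₁ with s₁ | s₁ <;> rcases lt_or_gt_of_ne n₂ with s₂ | s₂ <;>
    rcases lt_or_gt_of_ne n₃ with s₃ | s₃ <;>
    simp only [if_pos, if_neg, s₁, s₂, s₃, asymm s₁, asymm s₂, asymm s₃, if_false, if_true] <;>
    first
      | (norm_num; done)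
      | (exfalso; have := mul_neg_of_pos_of_neg s₁ s₂; nlinarith)
      | (exfalso; nlinarith [mul_pos_of_neg_of_neg s₁ s₂])
      | (exfalso; nlinarith [mul_neg_of_neg_of_pos s₁ s₂])
      | (exfalso; nlinarith [mul_pos s₁ s₂])
      | (exfalso; omega)

variable {G : Type u} [Group G] [Fintype G] {p : ℕ} {P : Sylow p G} {m : ℕ} {M : Ideal AlgInt}

theorem inv_conj_of_involutions {x y : G} (hx : x * x = 1) (hy : y * y = 1) :
    x * (x * y) * x⁻¹ = (x * y)⁻¹ := by
  rw [mul_inv_rev, inv_eq_of_mul_eq_one_right hy, inv_eq_of_mul_eq_one_right hx,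
    show x * (x * y) * x = (x * x) * (y * x) by group, hx, one_mul]

/-- The class sums of two involution classes against a function vanishing on their products. -/
theorem sum_class_eq_zero {t u : G} {w : IrrCharacter G → ℂ} {s : Finset (IrrCharacter G)} (c : G)
    (hF : ∀ x y : G, IsConj t x → IsConj u y → ∑ χ ∈ s, w χ * (χ : G → ℂ) (x * y * c) = 0) :
    ∑ χ ∈ s, w χ * ((χ : G → ℂ) t * (χ : G → ℂ) u * (χ : G → ℂ) c / (χ : G → ℂ) 1 ^ 2) = 0 := by
  classical
  have hne : ∀ a : G, (Nat.card {x : G // IsConj a x} : ℂ) ≠ 0 := fun a => by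
    haveI : Nonempty {x : G // IsConj a x} := ⟨⟨a, IsConj.refl a⟩⟩
    exact Nat.cast_ne_zero.2 Nat.card_pos.ne'
  refine mul_left_cancel₀ (mul_ne_zero (hne t) (hne u)) ?_
  rw [mul_zero, Finset.mul_sum]
  calc ∑ χ ∈ s, (Nat.card {x : G // IsConj t x} : ℂ) * Nat.card {x : G // IsConj u x} *
        (w χ * ((χ : G → ℂ) t * (χ : G → ℂ) u * (χ : G → ℂ) c / (χ : G → ℂ) 1 ^ 2))
      = ∑ χ ∈ s, w χ * ∑ x ∈ Finset.univ.filter (fun x => IsConj t x),
          ∑ y ∈ Finset.univ.filter (fun y => IsConj u y), (χ : G → ℂ) (x * y * c) := by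
        refine Finset.sum_congr rfl fun χ _ => ?_
        rw [sum_class_class_char χ.2]
        ring
    _ = 0 := by
        simp only [Finset.mul_sum]
        rw [Finset.sum_comm]
        refine Finset.sum_eq_zero fun x hx => ?_
        rw [Finset.sum_comm]
        exact Finset.sum_eq_zero fun y hy =>
          hF x y (Finset.mem_filter.1 hx).2 (Finset.mem_filter.1 hy).2

variable [Fintype (P : Subgroup G)] [Fintype (Subgroup.normalizer ((P : Subgroup G) : Set G))]

/-- Away from the prime two the generalised characters vanish on products of two involutions. -/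
theorem Free.lift_vanish_products (h : Free P m) (hm : Odd m) (hp2 : p ≠ 2)
    (f : ↥(P : Subgroup G) → ℂ) {x y : G} (hx : x * x = 1) (hy : y * y = 1) :
    lift h.prime P f (x * y) = 0 := by
  haveI : Fact p.Prime := ⟨h.prime⟩
  refine lift_regular h.prime f fun hd => ?_
  obtain ⟨z, w, h1, h2, h3, h4⟩ := exists_pPart_eq h.prime (x * y)
  have hz1 : z ≠ 1 := (singular_iff h.prime h2 h3 h4).1 (by rwa [h1])
  have hzinv : x * z * x⁻¹ = z⁻¹ := by
    refine (pPart_unique h.prime (z := x * z * x⁻¹) (w := x * w * x⁻¹) ?_ h2.inv_inv ?_ ?_ ?_ ?_ ?_).1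
    · simpa [Commute, SemiconjBy] using h2.eq
    · rw [conj_orderOf]; exact h3
    · rw [orderOf_inv]; exact h3
    · rwa [conj_orderOf]
    · rwa [orderOf_inv]
    · rw [conj_mul, h1, inv_conj_of_involutions hx hy, ← h1, h2.eq, mul_inv_rev]
  obtain ⟨v, hv⟩ := h.conj_mem h3
  obtain ⟨g, hg⟩ := isConj_iff.1 hv
  have hreal : IsConj (v : G) ((v : G)⁻¹) := by
    refine hv.symm.trans ((isConj_iff.2 ⟨x, hzinv⟩).trans (isConj_iff.2 ⟨g, ?_⟩))
    rw [← conj_inv, hg]
  have hvv := congrArg Subtype.val (h.real_trivial hm hreal)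
  have hzz : z * z = 1 := by
    have e : g * (z * z) * g⁻¹ = 1 := by rw [← conj_mul, hg]; exact hvv
    exact conj_eq_one_iff.1 e
  obtain ⟨k, hk⟩ := h3
  have h5 : p ^ k ∣ 2 := hk ▸ orderOf_dvd_of_pow_eq_one (by rw [sq]; exact hzz)
  rcases k with - | k
  · exact hz1 (orderOf_eq_one_iff.1 (by rw [hk, pow_zero]))
  · exact hp2 ((Nat.prime_dvd_prime_iff_eq h.prime Nat.prime_two).1
      ((dvd_pow_self p k.succ_ne_zero).trans h5))

/-- A character taking its degree at a normal generator is trivial. -/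
theorem value_ne_degree {χ : IrrCharacter G} (hne : χ ≠ oneIrr G) {t : G}
    (ht : ∀ K : Subgroup G, K.Normal → t ∈ K → K = ⊤) : (χ : G → ℂ) t ≠ (χ : G → ℂ) 1 := by
  intro e
  have h1 := ht (charKernel (χ : G → ℂ) (isCharacter_of_irr χ.2)) inferInstance
    ((mem_charKernel _ t).2 e)
  refine hne (Subtype.ext (irr_eq_one_of_kernel_top χ.2 fun g => ?_))
  exact (mem_charKernel (isCharacter_of_irr χ.2) g).1 (h1 ▸ Subgroup.mem_top g)

variable {ζ : IrrCharacter (P : Subgroup G) → IrrCharacter G} {δ : ℤ} {a : IrrCharacter G → ℤ}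
  {X Y : Finset (IrrCharacter G)}

theorem intCast_ne_zero_deg (χ : IrrCharacter G) : (charDegree (χ : G → ℂ) : ℤ) ≠ 0 :=
  Int.natCast_ne_zero.2 (irr_charDegree_pos χ).ne'

/-- Signs and the square, for odd primes. -/
theorem Shape.involution_odd (hM : IsPModular p M) (h : Free P 3) (hp2 : p ≠ 2)
    (S : Shape M P 3 ζ δ 0 a X Y) {η c₂ c₃ : IrrCharacter G} (hη : η ∈ Y)
    (hX : X = {oneIrr G, c₂, c₃}) (hne2 : c₂ ≠ oneIrr G) (hne3 : c₃ ≠ oneIrr G) (h23 : c₂ ≠ c₃)
    (hpm : ∀ χ ∈ X, a χ = 1 ∨ a χ = -1) {t : G} (ht : orderOf t = 2)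
    (htop : ∀ K : Subgroup G, K.Normal → t ∈ K → K = ⊤) :
    ((if δ = 1 then 1 else 0) + (if a c₂ = -1 then 1 else 0) + (if a c₃ = -1 then 1 else 0) = 2) ∧
      IsSquare (charDegree (η : G → ℂ) * (charDegree (c₂ : G → ℂ) * charDegree (c₃ : G → ℂ))) := by
  classical
  obtain ⟨ν, hν, rfl⟩ := S.surj η hη
  have ht2 : t * t = 1 := by rw [← pow_two, ← ht, pow_orderOf_eq_one]
  have htreg : ¬ p ∣ orderOf t := by
    rw [ht]; exact fun hd => hp2 ((Nat.prime_dvd_prime_iff_eq h.prime Nat.prime_two).1 hd)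
  obtain ⟨u₁, hu₁⟩ := involution_value (isCharacter_of_irr (ζ ν).2) ht2
  obtain ⟨u₂, hu₂⟩ := involution_value (isCharacter_of_irr c₂.2) ht2
  obtain ⟨u₃, hu₃⟩ := involution_value (isCharacter_of_irr c₃.2) ht2
  set z := (charDegree (ζ ν : G → ℂ) : ℤ) with hz
  set z₂ := (charDegree (c₂ : G → ℂ) : ℤ) with hz2
  set z₃ := (charDegree (c₃ : G → ℂ) : ℤ) with hz3
  have hzpos : 0 < z := by rw [hz]; exact_mod_cast irr_charDegree_pos _
  have hz2pos : 0 < z₂ := by rw [hz2]; exact_mod_cast irr_charDegree_pos _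
  have hz3pos : 0 < z₃ := by rw [hz3]; exact_mod_cast irr_charDegree_pos _
  have hδ2 : δ * δ = 1 := by rcases S.hδ with e | e <;> rw [e] <;> norm_num
  have ha2 := hpm c₂ (by rw [hX]; simp)
  have ha3 := hpm c₃ (by rw [hX]; simp)
  have hsumX : ∀ φ : IrrCharacter G → ℂ, ∑ χ ∈ X, φ χ = φ (oneIrr G) + φ c₂ + φ c₃ := fun φ => by
    rw [hX, Finset.sum_insert (by simp [Ne.symm hne2, Ne.symm hne3]), Finset.sum_pair h23, add_assoc]
  have hrel : ∀ g : G, ¬ p ∣ orderOf g →
      1 + (-δ : ℂ) * (ζ ν : G → ℂ) g + (a c₂ : ℂ) * (c₂ : G → ℂ) g +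
        (a c₃ : ℂ) * (c₃ : G → ℂ) g = 0 := by
    intro g hg
    have h1 := S.relation hM h (S.mem_ζ ν hν) hg
    rw [hsumX, S.one.2, show ((oneIrr G : IrrCharacter G) : G → ℂ) g = 1 from rfl] at h1
    push_cast at h1
    linear_combination h1
  have h1 : 1 + -δ * z + a c₂ * z₂ + a c₃ * z₃ = 0 := by
    have h1' := hrel 1 (by simp [h.prime.ne_one])
    rw [← irr_charDegree_cast (ζ ν), ← irr_charDegree_cast c₂, ← irr_charDegree_cast c₃] at h1'
    rw [hz, hz2, hz3]
    exact_mod_cast h1'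
  have h2 : 1 + -δ * u₁ + a c₂ * u₂ + a c₃ * u₃ = 0 := by
    have h2' := hrel t htreg
    rw [hu₁, hu₂, hu₃] at h2'
    exact_mod_cast h2'
  have hquad := sum_class_eq_zero (t := t) (u := t) (w := fun χ => (nz P χ ν : ℂ))
    (s := bset (principalBlock M G)) 1 fun x y hx hy => by
      obtain ⟨g, rfl⟩ := isConj_iff.1 hx
      obtain ⟨g', rfl⟩ := isConj_iff.1 hy
      have h3 := congrFun (h.F_eq_sum hM ν) (g * t * g⁻¹ * (g' * t * g'⁻¹) * 1)
      simp only [Finset.sum_apply, Pi.smul_apply, smul_eq_mul] at h3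
      rw [← h3, mul_one]
      exact h.lift_vanish_products (by decide) hp2 _ (by rw [conj_mul, ht2]; simp)
        (by rw [conj_mul, ht2]; simp)
  rw [S.bset_eq, Finset.sum_union S.disj, hsumX,
    Finset.sum_eq_single (s := Y) (ζ ν) (fun η hη hne => by
      obtain ⟨μ, hμ, rfl⟩ := S.surj η hη
      rw [(S.nzY μ ν hμ hν).2 fun hr => hne ((S.ζ_rel μ ν hμ hν).2 (rel_symm hr))]
      simp) (fun h0 => absurd (S.mem_ζ ν hν) h0),
    (S.nzY ν ν hν hν).1 (rel_refl ν), S.nzX _ S.one.1 ν hν, S.nzX c₂ (by rw [hX]; simp) ν hν,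
    S.nzX c₃ (by rw [hX]; simp) ν hν, S.one.2, hu₁, hu₂, hu₃,
    show ((oneIrr G : IrrCharacter G) : G → ℂ) t = 1 from rfl,
    show ((oneIrr G : IrrCharacter G) : G → ℂ) 1 = 1 from rfl,
    ← irr_charDegree_cast (ζ ν), ← irr_charDegree_cast c₂, ← irr_charDegree_cast c₃] at hquad
  have h3 : z * z₂ * z₃ + -δ * u₁ ^ 2 * z₂ * z₃ + a c₂ * u₂ ^ 2 * z * z₃ +
      a c₃ * u₃ ^ 2 * z * z₂ = 0 := by
    have e : (z : ℂ) ≠ 0 := Int.cast_ne_zero.2 hzpos.ne'
    have e2 : (z₂ : ℂ) ≠ 0 := Int.cast_ne_zero.2 hz2pos.ne'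
    have e3 : (z₃ : ℂ) ≠ 0 := Int.cast_ne_zero.2 hz3pos.ne'
    have hc : (((z * z₂ * z₃ + -δ * u₁ ^ 2 * z₂ * z₃ + a c₂ * u₂ ^ 2 * z * z₃ +
        a c₃ * u₃ ^ 2 * z * z₂ : ℤ)) : ℂ) = ((0 : ℤ) : ℂ) := by
      rw [hz] at e
      rw [hz2] at e2
      rw [hz3] at e3
      rw [hz, hz2, hz3]
      push_cast at hquad e e2 e3 ⊢
      field_simp at hquad
      linear_combination -hquad
    exact_mod_cast hc
  have hne1 : ζ ν ≠ oneIrr G := fun e =>
    Finset.disjoint_left.1 S.disj S.one.1 (e ▸ S.mem_ζ ν hν)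
  have hu : -δ * u₁ ≠ -δ * z := by
    intro e
    have h4 : u₁ = z := mul_left_cancel₀ (by rcases S.hδ with e' | e' <;> rw [e'] <;> norm_num) e
    refine value_ne_degree hne1 htop ?_
    rw [hu₁, ← irr_charDegree_cast, h4, hz]
    push_cast
    rfl
  have hasq : ∀ b : ℤ, b = 1 ∨ b = -1 → b * b = 1 := by
    rintro b (rfl | rfl) <;> norm_num
  obtain ⟨hcount, hsquare⟩ := three_weights (x₁ := -δ * z) (x₂ := a c₂ * z₂) (x₃ := a c₃ * z₃)
    (u₁ := -δ * u₁) (u₂ := a c₂ * u₂) (u₃ := a c₃ * u₃)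
    (mul_ne_zero (by rcases S.hδ with e | e <;> rw [e] <;> norm_num) hzpos.ne')
    (mul_ne_zero (by rcases ha2 with e | e <;> rw [e] <;> norm_num) hz2pos.ne')
    (mul_ne_zero (by rcases ha3 with e | e <;> rw [e] <;> norm_num) hz3pos.ne')
    h1 h2 (by linear_combination -δ * a c₂ * a c₃ * h3) hu
  have c1 : (-δ * z < 0) ↔ δ = 1 := by
    rcases S.hδ with e | e <;> rw [e] <;> constructor <;> intro h5 <;> first | linarith | omega
  have c2 : (a c₂ * z₂ < 0) ↔ a c₂ = -1 := by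
    rcases ha2 with e | e <;> rw [e] <;> constructor <;> intro h5 <;> first | linarith | omega
  have c3 : (a c₃ * z₃ < 0) ↔ a c₃ = -1 := by
    rcases ha3 with e | e <;> rw [e] <;> constructor <;> intro h5 <;> first | linarith | omega
  rw [if_congr c1 rfl rfl, if_congr c2 rfl rfl, if_congr c3 rfl rfl] at hcount
  refine ⟨hcount, ?_⟩
  have hprod : -δ * z * (a c₂ * z₂) * (a c₃ * z₃) = z * (z₂ * z₃) := by
    rcases S.hδ with e | e <;> rcases ha2 with e2 | e2 <;> rcases ha3 with e3 | e3 <;>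
      rw [e, e2, e3] at hcount ⊢ <;> first | ring1 | (norm_num at hcount)
  rw [hprod, hz, hz2, hz3, ← Nat.cast_mul, ← Nat.cast_mul, Int.isSquare_natCast_iff] at hsquare
  exact hsquare

/-- At the prime two such an involution forces a contradiction. -/
theorem Shape.involution_two {P : Sylow 2 G} [Fintype (P : Subgroup G)]
    [Fintype (Subgroup.normalizer ((P : Subgroup G) : Set G))]
    {ζ : IrrCharacter (P : Subgroup G) → IrrCharacter G}
    (hM : IsPModular 2 M) (h : Free P 3) (hm2 : 3 + 1 < Nat.card P)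
    (S : Shape M P 3 ζ δ 0 a X Y) {η c₂ c₃ : IrrCharacter G} (hη : η ∈ Y)
    (hX : X = {oneIrr G, c₂, c₃}) (hne2 : c₂ ≠ oneIrr G) (hne3 : c₃ ≠ oneIrr G) (h23 : c₂ ≠ c₃)
    (hpm : ∀ χ ∈ X, a χ = 1 ∨ a χ = -1) {t : G} (ht : orderOf t = 2)
    (htop : ∀ K : Subgroup G, K.Normal → t ∈ K → K = ⊤) : False := by
  classical
  haveI : Fact (Nat.Prime 2) := ⟨Nat.prime_two⟩
  obtain ⟨w, hw⟩ := h.conj_mem (z := t) ⟨1, by rw [ht, pow_one]⟩
  have hw1 : (w : G) ≠ 1 := fun e => by
    rw [e, isConj_one_left] at hw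
    rw [hw, orderOf_one] at ht
    norm_num at ht
  have hww : (w : G) * w = 1 := by
    obtain ⟨g, hg⟩ := isConj_iff.1 hw
    rw [← hg, conj_mul, show t * t = 1 by rw [← pow_two, ← ht, pow_orderOf_eq_one]]
    simp
  have hw1' : w ≠ 1 := fun e => hw1 (congrArg Subtype.val e)
  have hwtop : ∀ K : Subgroup G, K.Normal → (w : G) ∈ K → K = ⊤ := fun K hK hwK => by
    obtain ⟨g, hg⟩ := isConj_iff.1 hw
    refine htop K hK ?_
    have := hK.conj_mem _ hwK g⁻¹
    rw [← hg] at this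
    simpa [mul_assoc] using this
  have hlin : ∀ χ : IrrCharacter G, χ ≠ oneIrr G → charDegree (χ : G → ℂ) ≠ 1 := by
    intro χ hne e
    obtain ⟨f, hf⟩ := exists_hom_of_degree_one (isCharacter_of_irr χ.2)
      (by rw [← irr_charDegree_cast, e, Nat.cast_one])
    refine value_ne_degree hne hwtop ?_
    rw [hf]
    dsimp only
    rw [h.linear_trivial_on (by norm_num) f w.2, map_one]
  set z := charDegree (η : G → ℂ) with hzdef
  set z₂ := charDegree (c₂ : G → ℂ) with hz2def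
  set z₃ := charDegree (c₃ : G → ℂ) with hz3def
  have hzpos : 0 < z := irr_charDegree_pos η
  have hz2pos : 0 < z₂ := irr_charDegree_pos c₂
  have hz3pos : 0 < z₃ := irr_charDegree_pos c₃
  have hδ2 : (δ : ℂ) * δ = 1 := by rcases S.hδ with e | e <;> rw [e] <;> norm_num
  have ha2 := hpm c₂ (by rw [hX]; simp)
  have ha3 := hpm c₃ (by rw [hX]; simp)
  have ha22 : (a c₂ : ℂ) * a c₂ = 1 := by rcases ha2 with e | e <;> rw [e] <;> norm_num
  have ha32 : (a c₃ : ℂ) * a c₃ = 1 := by rcases ha3 with e | e <;> rw [e] <;> norm_num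
  have hsumX : ∀ φ : IrrCharacter G → ℂ, ∑ χ ∈ X, φ χ = φ (oneIrr G) + φ c₂ + φ c₃ := fun φ => by
    rw [hX, Finset.sum_insert (by simp [Ne.symm hne2, Ne.symm hne3]), Finset.sum_pair h23, add_assoc]
  have hrel : ∀ g : G, ¬ 2 ∣ orderOf g →
      1 + (-δ : ℂ) * (η : G → ℂ) g + (a c₂ : ℂ) * (c₂ : G → ℂ) g +
        (a c₃ : ℂ) * (c₃ : G → ℂ) g = 0 := by
    intro g hg
    have h1 := S.relation hM h hη hg
    rw [hsumX, S.one.2, show ((oneIrr G : IrrCharacter G) : G → ℂ) g = 1 from rfl] at h1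
    push_cast at h1
    linear_combination h1
  have hdeg : ∀ η' ∈ Y, (η' : G → ℂ) 1 = (z : ℂ) := fun η' hη' => by
    rw [hzdef, irr_charDegree_cast, S.agree hM h hη' hη (by simp)]
  -- all involutions of `P` are conjugate
  have hfus : ∀ u : (P : Subgroup G), u * u = 1 → (u : G) ≠ 1 → IsConj (w : G) u := by
    intro u huu hu1
    by_contra hcon
    have hu1' : u ≠ 1 := fun e => hu1 (congrArg Subtype.val e)
    have hne : ∀ n : Subgroup.normalizer ((P : Subgroup G) : Set G),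
        (⟨(n : G) * w * (n : G)⁻¹, (Subgroup.mem_normalizer_iff.1 n.2 _).1 w.2⟩ :
          (P : Subgroup G)) * u ≠ 1 := fun n e => by
      refine hcon (isConj_iff.2 ⟨n, ?_⟩)
      exact congrArg Subtype.val
        ((eq_inv_of_mul_eq_one_left e).trans (inv_eq_of_mul_eq_one_right huu))
    have hprod : ∑ ν ∈ Finset.univ.erase (oneP (P : Subgroup G)), avg P ν w * avg P ν u = -9 := by
      simp only [h.avg_mul]
      rw [← Finset.mul_sum, Finset.sum_comm,
        Finset.sum_congr rfl fun n _ => h.sum_avg (hne n), Finset.sum_const, Finset.card_univ,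
        ← Nat.card_eq_fintype_card, nsmul_eq_mul, ← mul_assoc, h.card_cast]
      norm_num
    have hkey : ∀ v : G, ¬ 2 ∣ orderOf v →
        (1 - 3 * (δ : ℂ) / z) + (1 / z₂ - 3 * δ * a c₂ / z) * (c₂ : G → ℂ) v +
          (1 / z₃ - 3 * δ * a c₃ / z) * (c₃ : G → ℂ) v = 0 := by
      intro v hv
      have h1 := sum_class_eq_zero (t := (w : G)) (u := (u : G))
        (w := fun χ => conj ((χ : G → ℂ) v)) (s := bset (principalBlock M G)) 1 fun x y hx hy => by
          obtain ⟨g, rfl⟩ := isConj_iff.1 hx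
          obtain ⟨g', rfl⟩ := isConj_iff.1 hy
          have heven : 2 ∣ orderOf (g * (w : G) * g⁻¹ * (g' * (u : G) * g'⁻¹)) := by
            by_contra hodd
            refine hcon ((isConj_iff.2 ⟨g, rfl⟩).trans
              ((isConj_of_odd_product (s := g' * (u : G) * g'⁻¹) (t := g * (w : G) * g⁻¹) ?_ ?_
                (Nat.odd_iff.2 (Nat.two_dvd_ne_zero.1 hodd))).symm.trans
                (isConj_iff.2 ⟨g'⁻¹, by simp [mul_assoc]⟩)))
            · rw [conj_mul, show (u : G) * u = 1 from congrArg Subtype.val huu]; simp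
            · rw [conj_mul, hww]; simp
          rw [mul_one]
          have h2 := congrArg conj (weak_orth_conj hM principalBlock_isPBlock hv heven)
          simpa only [map_sum, map_mul, Complex.conj_conj, map_zero] using h2
      rw [S.bset_eq, Finset.sum_union S.disj, hsumX,
        S.valueX h S.one.1 hw1', S.valueX h S.one.1 hu1', S.valueX h (χ := c₂) (by rw [hX]; simp) hw1',
        S.valueX h (χ := c₂) (by rw [hX]; simp) hu1', S.valueX h (χ := c₃) (by rw [hX]; simp) hw1',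
        S.valueX h (χ := c₃) (by rw [hX]; simp) hu1', S.one.2, ← irr_charDegree_cast c₂,
        ← irr_charDegree_cast c₃, ← hz2def, ← hz3def,
        show ((oneIrr G : IrrCharacter G) : G → ℂ) v = 1 from rfl,
        show ((oneIrr G : IrrCharacter G) : G → ℂ) 1 = 1 from rfl] at h1
      have hY : ∑ η' ∈ Y, conj ((η' : G → ℂ) v) *
          ((η' : G → ℂ) w * (η' : G → ℂ) u * (η' : G → ℂ) 1 / (η' : G → ℂ) 1 ^ 2) =
          -3 * (conj ((η : G → ℂ) v) / z) := by
        have hYw : ∑ η' ∈ Y, (η' : G → ℂ) w * (η' : G → ℂ) u = -3 := by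
          have h2 := S.sum_Y h (fun η' => (η' : G → ℂ) w * (η' : G → ℂ) u)
          rw [Finset.sum_congr (s₁ := Finset.univ.erase (oneP (P : Subgroup G))) rfl fun ν hν => show
              (ζ ν : G → ℂ) w * (ζ ν : G → ℂ) u = avg P ν w * avg P ν u by
            rw [S.valueY' h (Finset.ne_of_mem_erase hν) hw1',
              S.valueY' h (Finset.ne_of_mem_erase hν) hu1', Int.cast_zero, zero_add, zero_add,
              mul_mul_mul_comm, hδ2, one_mul], hprod] at h2
          push_cast at h2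
          linear_combination h2 / 3
        rw [← hYw, Finset.sum_mul]
        refine Finset.sum_congr rfl fun η' hη' => ?_
        rw [hdeg η' hη', S.agree hM h hη' hη hv]
        field_simp
      have ez : ∀ (q : ℕ) (b : ℂ), 0 < q → b * b = 1 → b * b * q / (q : ℂ) ^ 2 = 1 / q := by
        intro q b hq hb
        have : (q : ℂ) ≠ 0 := Nat.cast_ne_zero.2 hq.ne'
        rw [hb]; field_simp
      rw [hY, ez z₂ _ hz2pos ha22, ez z₃ _ hz3pos ha32] at h1
      have h2 := congrArg conj h1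
      simp only [map_add, map_mul, map_div₀, map_pow, map_neg, map_natCast, map_zero, map_one,
        map_ofNat, Complex.conj_conj, map_intCast, Int.cast_one] at h2
      have h3 := hrel v hv
      linear_combination h2 + (-3 * (δ : ℂ) / z) * h3 + (-3 * (η : G → ℂ) v / z) * hδ2
    -- the three characters are independent on regular elements
    set k₁ : ℂ := 1 - 3 * (δ : ℂ) / z with hk1
    set k₂ : ℂ := 1 / z₂ - 3 * δ * a c₂ / z with hk2
    set k₃ : ℂ := 1 / z₃ - 3 * δ * a c₃ / z with hk3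
    set Θ : G → ℂ := k₁ • ((oneIrr G : IrrCharacter G) : G → ℂ) + k₂ • (c₂ : G → ℂ) +
      k₃ • (c₃ : G → ℂ) with hΘ
    set e₀ : ℂ := k₁ + k₂ * a c₂ + k₃ * a c₃ with he0
    have hΘval : ∀ g : G, Θ g = if 2 ∣ orderOf g then e₀ else 0 := by
      intro g
      split_ifs with hg
      · obtain ⟨y, v, h1, h2, h3, h4⟩ := exists_pPart_eq Nat.prime_two g
        obtain ⟨y', hy'⟩ := h.conj_mem h3
        obtain ⟨r, hr⟩ := isConj_iff.1 hy'
        have hy'1 : (y' : G) ≠ 1 := fun e => by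
          rw [e, conj_eq_one_iff] at hr
          exact (singular_iff Nat.prime_two h2 h3 h4).1 (by rwa [h1]) hr
        have hval : ∀ χ ∈ X, (χ : G → ℂ) g = (a χ : ℂ) := fun χ hχ => by
          rw [← isClassFunction_irr χ.2 g r, ← h1, ← conj_mul, hr,
            h.section_const hM y'.2 hy'1 ((S.union χ).2 (Or.inl hχ))
              (v := r * v * r⁻¹) (mem_regC.2 ⟨?_, by rwa [conj_orderOf]⟩),
            S.valueX h hχ fun e => hy'1 (congrArg Subtype.val e)]
          rw [← hr]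
          simpa [Commute, SemiconjBy] using h2.eq.symm
        simp only [hΘ, Pi.add_apply, Pi.smul_apply, smul_eq_mul]
        rw [hval c₂ (by rw [hX]; simp), hval c₃ (by rw [hX]; simp),
          show ((oneIrr G : IrrCharacter G) : G → ℂ) g = 1 from rfl, he0, mul_one]
      · simp only [hΘ, Pi.add_apply, Pi.smul_apply, smul_eq_mul]
        rw [show ((oneIrr G : IrrCharacter G) : G → ℂ) g = 1 from rfl, mul_one, hk1, hk2, hk3]
        exact hkey g hg
    have horth : ∀ χ : IrrCharacter G, classInner Θ (χ : G → ℂ) =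
        k₁ * (if χ = oneIrr G then 1 else 0) + k₂ * (if χ = c₂ then 1 else 0) +
          k₃ * (if χ = c₃ then 1 else 0) := by
      intro χ
      have e : ∀ ψ : IrrCharacter G, classInner (ψ : G → ℂ) (χ : G → ℂ) =
          if χ = ψ then 1 else 0 := fun ψ => by
        split_ifs with hh
        · rw [hh, classInner_irr_self ψ.2]
        · exact classInner_irr_ne ψ.2 χ.2 fun q => hh (Subtype.ext q.symm)
      rw [hΘ, classInner_add_left, classInner_add_left, classInner_smul_left, classInner_smul_left,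
        classInner_smul_left, e, e, e]
    obtain ⟨ν, hν, hνη⟩ := S.surj η hη
    have hηne : ∀ χ ∈ X, η ≠ χ := fun χ hχ e => Finset.disjoint_left.1 S.disj hχ (e ▸ hη)
    have he00 : e₀ = 0 := by
      -- the pairing of the indicator of the singular elements with `η`
      have hav : NStable P fun _ : (P : Subgroup G) => (1 : ℂ) := fun _ _ _ _ _ => rfl
      have hlift : Θ = e₀ • lift Nat.prime_two P (fun _ => (1 : ℂ)) := by
        funext g
        rw [hΘval, Pi.smul_apply, smul_eq_mul]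
        split_ifs with hg
        · obtain ⟨y, v, h1, h2, h3, h4⟩ := exists_pPart_eq Nat.prime_two g
          obtain ⟨y', hy'⟩ := h.conj_mem h3
          rw [lift, if_pos hg, show pPart Nat.prime_two g = y by rw [← h1, pPart_mul Nat.prime_two h2 h3 h4],
            h.cl_eq hav hy', mul_one]
        · rw [lift_regular _ _ hg, mul_zero]
      have h1 := horth η
      rw [if_neg (hηne _ S.one.1), if_neg (hηne c₂ (by rw [hX]; simp)),
        if_neg (hηne c₃ (by rw [hX]; simp)), hlift, classInner_smul_left] at h1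
      simp only [mul_zero, add_zero] at h1
      refine (mul_eq_zero.1 h1).resolve_right fun h2 => ?_
      have h3 := h.inner_lift_irr hM hav η
      rw [h2, mul_zero, ind_of_mem ((S.union η).2 (Or.inr hη)), one_mul] at h3
      simp only [one_mul] at h3
      rw [← hνη, Finset.sum_congr rfl fun x hx => by
        rw [S.valueY' h hν (Finset.ne_of_mem_erase hx), Int.cast_zero, zero_add, map_mul,
          map_intCast], ← Finset.mul_sum, ← map_sum] at h3
      have h4 := h.avg_inner_irr (oneIrr G) ν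
      have h5 : mult P (oneIrr G) ν = 0 := by
        have h6 := mult_spec (oneIrr G) ν
        rw [show (fun x : (P : Subgroup G) => ((oneIrr G : IrrCharacter G) : G → ℂ) x) =
          (fun _ => 1) from rfl, classInner_irr_ne isIrrCharacter_one ν.2
            fun e => hν (Subtype.ext e.symm)] at h6
        exact_mod_cast h6.symm
      simp only [h5, Nat.cast_zero, mul_zero,
        show ∀ x : (P : Subgroup G), ((oneIrr G : IrrCharacter G) : G → ℂ) x = 1 from fun _ => rfl,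
        map_one, mul_one] at h4
      rw [← Finset.add_sum_erase _ _ (Finset.mem_univ (1 : (P : Subgroup G))), h.avg_apply_one] at h4
      rw [eq_neg_of_add_eq_zero_right h4, map_neg, map_natCast] at h3
      rcases S.hδ with e | e <;> rw [e] at h3 <;> norm_num at h3
    have hzero : Θ = 0 := funext fun g => by rw [hΘval, he00, ite_self]; rfl
    have hcoef : ∀ χ : IrrCharacter G, classInner Θ (χ : G → ℂ) = 0 := fun χ => by
      rw [hzero]; simp [classInner]
    have hc1 := (horth (oneIrr G)).symm.trans (hcoef _)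
    have hc2 := (horth c₂).symm.trans (hcoef _)
    rw [if_pos rfl, if_neg (Ne.symm hne2), if_neg (Ne.symm hne3), mul_one, mul_zero, mul_zero,
      add_zero, add_zero] at hc1
    rw [if_neg hne2, if_pos rfl, if_neg h23, mul_one, mul_zero, mul_zero, zero_add, add_zero] at hc2
    have e1 : (z : ℂ) ≠ 0 := Nat.cast_ne_zero.2 hzpos.ne'
    have e2 : (z₂ : ℂ) ≠ 0 := Nat.cast_ne_zero.2 hz2pos.ne'
    rw [hk1] at hc1
    rw [hk2] at hc2
    field_simp at hc1 hc2
    have hz3' : (z₂ : ℂ) * a c₂ = 1 := by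
      refine mul_left_cancel₀ e1 ?_
      linear_combination -hc2 + (z₂ : ℂ) * a c₂ * hc1
    have hz3'' : (z₂ : ℤ) * a c₂ = 1 := by exact_mod_cast hz3'
    refine hlin c₂ hne2 ?_
    rw [← hz2def]
    rcases ha2 with e | e <;> rw [e] at hz3'' <;> omega
  -- an element of order at least four
  obtain ⟨y, hyy⟩ : ∃ y : (P : Subgroup G), y * y ≠ 1 := by
    by_contra hexp
    push Not at hexp
    have h1 : Nat.card {u : (P : Subgroup G) // IsConj (w : G) u} =
        Nat.card {u : (P : Subgroup G) // u ≠ 1} := Nat.card_congr (Equiv.subtypeEquivRight fun u =>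
      ⟨fun hu e => hw1 (isConj_one_left.1 (by rwa [e, OneMemClass.coe_one] at hu)),
        fun hu => hfus u (hexp u) fun e => hu (Subtype.ext e)⟩)
    rw [h.fibre_card hw1, Nat.card_eq_fintype_card, Fintype.card_subtype_compl,
      Fintype.card_subtype_eq, ← Nat.card_eq_fintype_card] at h1
    omega
  have hy1 : (y : G) ≠ 1 := fun e => hyy (by rw [show y = 1 from Subtype.ext e, mul_one])
  have hy1' : y ≠ 1 := fun e => hy1 (congrArg Subtype.val e)
  have hyi : y⁻¹ ≠ 1 := fun e => hy1' (inv_eq_one.1 e)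
  have hnoinv : ∀ u : (P : Subgroup G), IsConj (w : G) u → u * u = 1 := fun u hu => by
    obtain ⟨g, hg⟩ := isConj_iff.1 hu
    exact Subtype.ext (by rw [Subgroup.coe_mul, ← hg, conj_mul, hww]; simp)
  have hwy : ∀ n : Subgroup.normalizer ((P : Subgroup G) : Set G),
      (⟨(n : G) * w * (n : G)⁻¹, (Subgroup.mem_normalizer_iff.1 n.2 _).1 w.2⟩ :
        (P : Subgroup G)) * y⁻¹ ≠ 1 := fun n e => by
    refine hyy (?_ : y * y = 1)
    have e' := eq_inv_of_mul_eq_one_left e
    rw [inv_inv] at e'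
    rw [← e']
    exact hnoinv _ (isConj_iff.2 ⟨n, rfl⟩)
  have hprod : ∀ x : (P : Subgroup G), x = 1 ∨ IsConj (w : G) x →
      ∑ ν ∈ Finset.univ.erase (oneP (P : Subgroup G)), avg P ν x * avg P ν y⁻¹ = -9 := by
    intro x hx
    rcases hx with rfl | hx
    · simp only [h.avg_apply_one]
      rw [← Finset.mul_sum, h.sum_avg hyi]
      norm_num
    · simp only [h.avg_mul]
      rw [← Finset.mul_sum, Finset.sum_comm]
      rw [Finset.sum_congr rfl fun n _ => h.sum_avg fun e => hyy ?_]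
      · rw [Finset.sum_const, Finset.card_univ, ← Nat.card_eq_fintype_card, nsmul_eq_mul,
          ← mul_assoc, h.card_cast]
        norm_num
      · have e' := eq_inv_of_mul_eq_one_left e
        rw [inv_inv] at e'
        rw [← e']
        exact hnoinv _ (hx.trans (isConj_iff.2 ⟨n, rfl⟩))
  have hcube : ∑ ν ∈ Finset.univ.erase (oneP (P : Subgroup G)),
      avg P ν w * avg P ν w * avg P ν y⁻¹ = -27 := by
    rw [Finset.sum_congr rfl fun ν _ => by
      rw [h.avg_mul ν w w, mul_assoc, Finset.sum_mul]]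
    rw [← Finset.mul_sum, Finset.sum_comm, Finset.sum_congr rfl fun n _ => hprod _ ?_,
      Finset.sum_const, Finset.card_univ, ← Nat.card_eq_fintype_card, nsmul_eq_mul, ← mul_assoc,
      h.card_cast]
    · norm_num
    · set x : (P : Subgroup G) :=
        ⟨(n : G) * w * (n : G)⁻¹, (Subgroup.mem_normalizer_iff.1 n.2 _).1 w.2⟩ * w with hx
      by_cases hx1 : x = 1
      · exact Or.inl hx1
      · refine Or.inr (hfus x ?_ fun e => hx1 (Subtype.ext e))
        have hnn := hnoinv ⟨(n : G) * w * (n : G)⁻¹, (Subgroup.mem_normalizer_iff.1 n.2 _).1 w.2⟩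
          (isConj_iff.2 ⟨n, rfl⟩)
        have hww' : w * w = 1 := Subtype.ext hww
        haveI : IsMulCommutative (P : Subgroup G) :=
          ⟨⟨fun a b => Subtype.ext (h.comm a a.2 b b.2)⟩⟩
        rw [hx, Commute.mul_mul_mul_comm (show Commute w _ from Subtype.ext (h.comm _ w.2 _ (Subtype.prop _))), hnn, hww', one_mul]
  have hsection : ∑ χ ∈ bset (principalBlock M G),
      conj ((χ : G → ℂ) y) * ((χ : G → ℂ) w * (χ : G → ℂ) w * (χ : G → ℂ) 1 / (χ : G → ℂ) 1 ^ 2) = 0 := by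
    have hK : ((regC 2 (y : G)).card : ℂ) ≠ 0 :=
      Nat.cast_ne_zero.2 (Finset.card_pos.2 ⟨1, one_mem_regC Nat.prime_two _⟩).ne'
    have h1 : ∑ v ∈ regC 2 (y : G), ∑ χ : IrrCharacter G, conj ((χ : G → ℂ) ((y : G) * v)) *
        ((χ : G → ℂ) w * (χ : G → ℂ) w * (χ : G → ℂ) 1 / (χ : G → ℂ) 1 ^ 2) = 0 := by
      refine Finset.sum_eq_zero fun v hv => sum_class_eq_zero 1 fun x x' hx hx' => ?_
      rw [mul_one, Finset.sum_congr rfl fun χ _ => mul_comm _ _,
        sum_irr_mul_conj]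
      rw [if_neg]
      intro hconj
      obtain ⟨g, hg⟩ := isConj_iff.1 hx
      obtain ⟨g', hg'⟩ := isConj_iff.1 hx'
      have hxx : x * x = 1 := by rw [← hg, conj_mul, hww]; simp
      have hxx' : x' * x' = 1 := by rw [← hg', conj_mul, hww]; simp
      have hreal : IsConj ((y : G) * v) ((y : G) * v)⁻¹ := by
        refine hconj.symm.trans ((isConj_iff.2 ⟨x, inv_conj_of_involutions hxx hxx'⟩).trans ?_)
        obtain ⟨c, hc⟩ := isConj_iff.1 hconj
        exact isConj_iff.2 ⟨c, by rw [← conj_inv, hc]⟩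
      obtain ⟨c, hc⟩ := isConj_iff.1 hreal
      obtain ⟨hcv, hv'⟩ := mem_regC.1 hv
      have e := (pPart_unique Nat.prime_two (z := c * (y : G) * c⁻¹) (w := c * v * c⁻¹)
        (z' := (y : G)⁻¹) (w' := v⁻¹) (by simpa [Commute, SemiconjBy] using hcv.eq.symm)
        hcv.symm.inv_inv (by rw [conj_orderOf]; exact h.ppow y.2)
        (by rw [orderOf_inv]; exact h.ppow y.2) (by rwa [conj_orderOf])
        (by rwa [orderOf_inv]) (by rw [conj_mul, hc, hcv.eq.symm, mul_inv_rev])).1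
      exact hyy (h.real_trivial (by decide) (isConj_iff.2 ⟨c, e⟩))
    rw [Finset.sum_comm, ← Finset.sum_subset (Finset.subset_univ (bset (principalBlock M G)))
      fun χ _ hχ => by
        rw [← Finset.sum_mul, ← map_sum, h.section_sum hM y.2 hy1,
          ind_of_notMem fun hb => hχ (mem_bset.2 hb)]
        simp] at h1
    rw [Finset.sum_congr rfl fun χ hχ => by
      rw [← Finset.sum_mul, ← map_sum, h.section_sum hM y.2 hy1, ind_of_mem (mem_bset.1 hχ),
        one_mul, map_mul, map_natCast, mul_assoc], ← Finset.mul_sum, mul_eq_zero] at h1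
    exact h1.resolve_left hK
  rw [S.bset_eq, Finset.sum_union S.disj, hsumX,
    S.valueX h S.one.1 hw1', S.valueX h S.one.1 hy1', S.valueX h (χ := c₂) (by rw [hX]; simp) hw1',
    S.valueX h (χ := c₂) (by rw [hX]; simp) hy1', S.valueX h (χ := c₃) (by rw [hX]; simp) hw1',
    S.valueX h (χ := c₃) (by rw [hX]; simp) hy1', S.one.2, ← irr_charDegree_cast c₂,
    ← irr_charDegree_cast c₃, ← hz2def, ← hz3def,
    show ((oneIrr G : IrrCharacter G) : G → ℂ) 1 = 1 from rfl] at hsection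
  have hY : ∑ η' ∈ Y, conj ((η' : G → ℂ) y) *
      ((η' : G → ℂ) w * (η' : G → ℂ) w * (η' : G → ℂ) 1 / (η' : G → ℂ) 1 ^ 2) =
      -9 * (δ : ℂ) / z := by
    have h2 := S.sum_Y h (fun η' => conj ((η' : G → ℂ) y) * ((η' : G → ℂ) w * (η' : G → ℂ) w))
    rw [Finset.sum_congr (s₁ := Finset.univ.erase (oneP (P : Subgroup G))) rfl fun ν hν => show
        conj ((ζ ν : G → ℂ) y) * ((ζ ν : G → ℂ) w * (ζ ν : G → ℂ) w) =
          (δ : ℂ) * (avg P ν w * avg P ν w * avg P ν y⁻¹) by
      rw [S.valueY' h (Finset.ne_of_mem_erase hν) hw1',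
        S.valueY' h (Finset.ne_of_mem_erase hν) hy1', Int.cast_zero, zero_add, zero_add, map_mul,
        map_intCast, avg_inv]
      linear_combination (δ : ℂ) * avg P ν w * avg P ν w * avg P ν y⁻¹ * hδ2,
      ← Finset.mul_sum, hcube] at h2
    push_cast at h2
    have h3 : ∑ η' ∈ Y, conj ((η' : G → ℂ) y) * ((η' : G → ℂ) w * (η' : G → ℂ) w) = -9 * δ := by
      linear_combination h2 / 3
    rw [← h3, Finset.sum_div]
    refine Finset.sum_congr rfl fun η' hη' => ?_
    rw [hdeg η' hη']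
    field_simp
  rw [hY] at hsection
  have hkey : (z : ℤ) * z₂ * z₃ + a c₂ * z * z₃ + a c₃ * z * z₂ - 9 * δ * z₂ * z₃ = 0 := by
    have hC : (((z : ℤ) * z₂ * z₃ + a c₂ * z * z₃ + a c₃ * z * z₂ - 9 * δ * z₂ * z₃ : ℤ) : ℂ) =
        ((0 : ℤ) : ℂ) := by
      have e1 : (z : ℂ) ≠ 0 := Nat.cast_ne_zero.2 hzpos.ne'
      have e2 : (z₂ : ℂ) ≠ 0 := Nat.cast_ne_zero.2 hz2pos.ne'
      have e3 : (z₃ : ℂ) ≠ 0 := Nat.cast_ne_zero.2 hz3pos.ne'
      push_cast
      rcases S.hδ with e | e <;> rcases ha2 with e' | e' <;> rcases ha3 with e'' | e'' <;>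
        rw [e, e', e''] at hsection ⊢ <;>
        simp only [Int.cast_neg, Int.cast_one, map_neg, map_one] at hsection ⊢ <;>
        field_simp at hsection ⊢ <;> first | linear_combination hsection | linear_combination -hsection
    exact_mod_cast hC
  -- congruences for the degrees
  have hcardP : 16 ≤ Nat.card P := by
    obtain ⟨k, hk⟩ := P.2.exists_card_eq
    have h3 : 3 ∣ 2 ^ k - 1 := hk ▸ S.cardY ▸ dvd_mul_left 3 Y.card
    rw [hk] at hm2 ⊢
    rcases lt_or_ge k 4 with hk4 | hk4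
    · interval_cases k <;> omega
    · exact (Nat.pow_le_pow_right (by norm_num) hk4).trans' (by norm_num)
  have hdivP : ∀ (χ : IrrCharacter G) (e : ℤ),
      (∑ x ∈ Finset.univ.erase (1 : (P : Subgroup G)), (χ : G → ℂ) x) = (e : ℂ) →
      (Nat.card P : ℤ) ∣ (charDegree (χ : G → ℂ) : ℤ) + e := by
    intro χ e he
    refine ⟨(mult P χ (oneP (P : Subgroup G)) : ℤ), ?_⟩
    have h1 := sum_mul_conj χ (oneP (P : Subgroup G))
    simp only [show ∀ x, ((oneP (P : Subgroup G) : IrrCharacter (P : Subgroup G)) :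
      ↥(P : Subgroup G) → ℂ) x = 1 from fun _ => rfl, map_one, mul_one] at h1
    rw [← Finset.add_sum_erase _ _ (Finset.mem_univ (1 : (P : Subgroup G))), he,
      Subgroup.coe_one, ← irr_charDegree_cast] at h1
    exact_mod_cast h1
  have hdivX : ∀ χ ∈ X, (Nat.card P : ℤ) ∣ (charDegree (χ : G → ℂ) : ℤ) - a χ := by
    intro χ hχ
    have h1 := hdivP χ ((Nat.card P - 1 : ℕ) * a χ) (by
      rw [Finset.sum_congr rfl fun x hx => S.valueX h hχ (Finset.ne_of_mem_erase hx),
        Finset.sum_const, Finset.card_erase_of_mem (Finset.mem_univ _), Finset.card_univ,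
        ← Nat.card_eq_fintype_card, nsmul_eq_mul]
      push_cast; ring)
    rw [Nat.cast_sub (show 1 ≤ Nat.card P by omega)] at h1
    have h2 : (charDegree (χ : G → ℂ) : ℤ) - a χ =
        ((charDegree (χ : G → ℂ) : ℤ) + ((Nat.card P : ℤ) - (1 : ℕ)) * a χ) -
          (Nat.card P : ℤ) * a χ := by push_cast; ring
    rw [h2]
    exact dvd_sub h1 (dvd_mul_right _ _)
  have hdivY : (Nat.card P : ℤ) ∣ (z : ℤ) - 3 * δ := by
    obtain ⟨ν, hν, hνη⟩ := S.surj η hη
    have h1 := hdivP (ζ ν) (-3 * δ) (by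
      have h4 := h.avg_inner_irr (oneIrr G) ν
      have h5 : mult P (oneIrr G) ν = 0 := by
        have h6 := mult_spec (oneIrr G) ν
        rw [show (fun x : (P : Subgroup G) => ((oneIrr G : IrrCharacter G) : G → ℂ) x) =
          (fun _ => 1) from rfl, classInner_irr_ne isIrrCharacter_one ν.2
            fun e => hν (Subtype.ext e.symm)] at h6
        exact_mod_cast h6.symm
      simp only [h5, Nat.cast_zero, mul_zero,
        show ∀ x : (P : Subgroup G), ((oneIrr G : IrrCharacter G) : G → ℂ) x = 1 from fun _ => rfl,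
        map_one, mul_one] at h4
      rw [← Finset.add_sum_erase _ _ (Finset.mem_univ (1 : (P : Subgroup G))), h.avg_apply_one] at h4
      rw [Finset.sum_congr rfl fun x hx => by
        rw [S.valueY' h hν (Finset.ne_of_mem_erase hx), Int.cast_zero, zero_add], ← Finset.mul_sum,
        eq_neg_of_add_eq_zero_right h4]
      push_cast; ring)
    rw [hνη, ← hzdef] at h1
    rwa [show (z : ℤ) - 3 * δ = z + -3 * δ by ring]
  have hlow : ∀ χ ∈ X, χ ≠ oneIrr G → 15 ≤ charDegree (χ : G → ℂ) := by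
    intro χ hχ hne
    obtain ⟨c, hc⟩ := hdivX χ hχ
    have h1 := hlin χ hne
    have h2 := irr_charDegree_pos χ
    rcases lt_or_ge c 1 with hc1 | hc1
    · exfalso
      have : (Nat.card P : ℤ) * c ≤ 0 := mul_nonpos_of_nonneg_of_nonpos (Int.natCast_nonneg _) (by omega)
      rcases hpm χ hχ with e | e <;> omega
    · have : (Nat.card P : ℤ) ≤ (Nat.card P : ℤ) * c :=
        le_mul_of_one_le_right (Int.natCast_nonneg _) hc1
      rcases hpm χ hχ with e | e <;> omega
  have hl2 : 15 ≤ z₂ := hlow c₂ (by rw [hX]; simp) hne2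
  have hl3 : 15 ≤ z₃ := hlow c₃ (by rw [hX]; simp) hne3
  have hz3case : 13 ≤ z ∨ (z = 3 ∧ δ = 1) := by
    obtain ⟨c, hc⟩ := hdivY
    rcases lt_trichotomy c 0 with hc0 | hc0 | hc0
    · exfalso
      have : (Nat.card P : ℤ) * c ≤ -(Nat.card P : ℤ) := by
        have := mul_le_mul_of_nonneg_left (show c ≤ -1 by omega) (Int.natCast_nonneg (Nat.card P))
        linarith
      rcases S.hδ with e | e <;> omega
    · rw [hc0, mul_zero] at hc
      rcases S.hδ with e | e <;> omega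
    · left
      have : (Nat.card P : ℤ) ≤ (Nat.card P : ℤ) * c :=
        le_mul_of_one_le_right (Int.natCast_nonneg _) (by omega)
      rcases S.hδ with e | e <;> omega
  have hz2' : (15 : ℤ) ≤ z₂ := by exact_mod_cast hl2
  have hz3' : (15 : ℤ) ≤ z₃ := by exact_mod_cast hl3
  have hzn : (0 : ℤ) ≤ z := Int.natCast_nonneg _
  rcases hz3case with hzc | ⟨hzc, hδ1⟩
  · have hzc' : (13 : ℤ) ≤ z := by exact_mod_cast hzc
    rcases S.hδ with e | e <;> rcases ha2 with e' | e' <;> rcases ha3 with e'' | e'' <;>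
      rw [e, e', e''] at hkey <;>
      nlinarith [mul_le_mul hz2' hz3' (by norm_num) (by linarith : (0 : ℤ) ≤ z₂),
        mul_nonneg (mul_nonneg hzn (by linarith : (0 : ℤ) ≤ z₂)) (by linarith : (0 : ℤ) ≤ z₃ - 15),
        mul_nonneg (mul_nonneg hzn (by linarith : (0 : ℤ) ≤ z₃)) (by linarith : (0 : ℤ) ≤ z₂ - 15),
        mul_nonneg (mul_nonneg (by linarith : (0 : ℤ) ≤ (z : ℤ) - 13)
          (by linarith : (0 : ℤ) ≤ z₂)) (by linarith : (0 : ℤ) ≤ z₃)]
  · rw [show (z : ℤ) = 3 by exact_mod_cast hzc, hδ1] at hkey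
    rcases ha2 with e' | e' <;> rcases ha3 with e'' | e'' <;> rw [e', e''] at hkey <;>
      nlinarith [mul_nonneg (by linarith : (0 : ℤ) ≤ (z₂ : ℤ) - 15) (by linarith : (0 : ℤ) ≤ (z₃ : ℤ) - 15)]

end CfsgLib.Blocks.AbelianFree
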