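import Cfsg.Agent.Lib.Blocks.AbelianFreeLocal

/-!
# Abelian Sylow subgroups with a fixed point free normaliser: class functions on the singular sections
-/

namespace CfsgLib.Blocks.AbelianFree

open Cfsg CfsgLib.CharTheory
open scoped ComplexConjugate

set_option linter.unusedVariables false
set_option linter.style.haveILetI false
set_option linter.unusedSectionVars false

universe u

variable {G : Type u} [Group G] [Fintype G] {p : ℕ} {P : Sylow p G} {m : ℕ} {M : Ideal AlgInt}

open Classical in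
/-- The nontrivial `p`-elements. -/
noncomputable def pE (G : Type u) [Group G] [Fintype G] (p : ℕ) : Finset G :=
  Finset.univ.filter fun z => z ≠ 1 ∧ ∃ k : ℕ, orderOf z = p ^ k

theorem mem_pE {z : G} : z ∈ pE G p ↔ z ≠ 1 ∧ ∃ k : ℕ, orderOf z = p ^ k := by simp [pE]

theorem exists_pPart_eq (hp : p.Prime) (g : G) :
    ∃ z w : G, z * w = g ∧ Commute z w ∧ (∃ k : ℕ, orderOf z = p ^ k) ∧ ¬ p ∣ orderOf w := by
  obtain ⟨z, w, h1, h2, h3, h4, -, -⟩ := exists_pPart hp g
  exact ⟨z, w, h1, h2, h3, h4⟩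

/-- The `p`-part. -/
noncomputable def pPart (hp : p.Prime) (g : G) : G := (exists_pPart_eq hp g).choose

theorem pPart_mul (hp : p.Prime) {z w : G} (hc : Commute z w) (hz : ∃ k : ℕ, orderOf z = p ^ k)
    (hw : ¬ p ∣ orderOf w) : pPart hp (z * w) = z := by
  obtain ⟨w', h1, h2, h3, h4⟩ := (exists_pPart_eq hp (z * w)).choose_spec
  exact (pPart_unique hp h2 hc h3 hz h4 hw h1).1

theorem pPart_conj (hp : p.Prime) (x g : G) :
    pPart hp (x * g * x⁻¹) = x * pPart hp g * x⁻¹ := by
  obtain ⟨w, h1, h2, h3, h4⟩ := (exists_pPart_eq hp g).choose_spec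
  have e : x * g * x⁻¹ = (x * pPart hp g * x⁻¹) * (x * w * x⁻¹) := by
    conv_lhs => rw [← h1]
    simp only [pPart, conj_mul]
  rw [e]
  refine pPart_mul hp ?_ ?_ ?_
  · simpa [Commute, SemiconjBy, pPart] using h2.eq
  · rw [conj_orderOf]; exact h3
  · rwa [conj_orderOf]

theorem singular_iff (hp : p.Prime) {z w : G} (hc : Commute z w) (hz : ∃ k : ℕ, orderOf z = p ^ k)
    (hw : ¬ p ∣ orderOf w) : p ∣ orderOf (z * w) ↔ z ≠ 1 := by
  obtain ⟨k, hk⟩ := hz
  refine ⟨fun h e => hw (by rwa [e, one_mul] at h), fun hne => ?_⟩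
  rw [hc.orderOf_mul_eq_mul_orderOf_of_coprime
    (by rw [hk]; exact (hp.coprime_iff_not_dvd.2 hw).pow_left k), hk]
  refine dvd_mul_of_dvd_left (dvd_pow_self p ?_) _
  rintro rfl
  exact hne (orderOf_eq_one_iff.1 (by rw [hk, pow_zero]))

/-- The singular elements split along their `p`-parts. -/
theorem sum_singular (hp : p.Prime) {R : Type*} [AddCommMonoid R] (f : G → R) :
    ∑ g ∈ Finset.univ.filter (fun g : G => p ∣ orderOf g), f g =
      ∑ z ∈ pE G p, ∑ v ∈ regC p z, f (z * v) := by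
  classical
  rw [Finset.sum_sigma' (pE G p) (fun z => regC p z) fun z v => f (z * v)]
  symm
  refine Finset.sum_bij (fun s _ => s.1 * s.2) (fun s hs => ?_) (fun a ha b hb e => ?_)
    (fun g hg => ?_) (fun _ _ => rfl)
  · rw [Finset.mem_sigma, mem_pE, mem_regC] at hs
    exact Finset.mem_filter.2 ⟨Finset.mem_univ _, (singular_iff hp hs.2.1.symm hs.1.2 hs.2.2).2 hs.1.1⟩
  · obtain ⟨z, v⟩ := a
    obtain ⟨z', v'⟩ := b
    rw [Finset.mem_sigma, mem_pE, mem_regC] at ha hb
    obtain ⟨rfl, rfl⟩ := pPart_unique hp ha.2.1.symm hb.2.1.symm ha.1.2 hb.1.2 ha.2.2 hb.2.2 e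
    rfl
  · obtain ⟨z, w, h1, h2, h3, h4⟩ := exists_pPart_eq hp g
    refine ⟨⟨z, w⟩, ?_, h1⟩
    rw [Finset.mem_sigma, mem_pE, mem_regC]
    exact ⟨⟨(singular_iff hp h2 h3 h4).1 (h1 ▸ (Finset.mem_filter.1 hg).2), h3⟩, h2.symm, h4⟩

theorem sum_regC_conj {R : Type*} [AddCommMonoid R] (f : G → R) (x z : G) :
    ∑ v ∈ regC p (x * z * x⁻¹), f v = ∑ v ∈ regC p z, f (x * v * x⁻¹) := by
  symm
  refine Finset.sum_bij (fun v _ => x * v * x⁻¹) (fun v hv => ?_) (fun a _ b _ e => conj_injective e)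
    (fun v hv => ?_) (fun _ _ => rfl)
  · obtain ⟨h1, h2⟩ := mem_regC.1 hv
    exact mem_regC.2 ⟨by simpa [Commute, SemiconjBy] using h1.eq, by rwa [conj_orderOf]⟩
  · obtain ⟨h1, h2⟩ := mem_regC.1 hv
    refine ⟨x⁻¹ * v * x, mem_regC.2 ⟨?_, ?_⟩, by simp [mul_assoc]⟩
    · have h3 : x⁻¹ * (v * (x * z * x⁻¹)) * x = x⁻¹ * ((x * z * x⁻¹) * v) * x := by rw [h1.eq]
      simpa [Commute, SemiconjBy, mul_assoc] using h3
    · have := conj_orderOf x⁻¹ v
      rw [inv_inv] at this
      rwa [this]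

theorem Free.conj_mem (h : Free P m) {z : G} (hz : ∃ k : ℕ, orderOf z = p ^ k) :
    ∃ w : (P : Subgroup G), IsConj z w := by
  haveI : Fact p.Prime := ⟨h.prime⟩
  obtain ⟨k, hk⟩ := hz
  obtain ⟨S, hS⟩ := (IsPGroup.of_card (n := k) (by rw [Nat.card_zpowers, hk]) :
    IsPGroup p (Subgroup.zpowers z)).exists_le_sylow
  obtain ⟨x, hxS⟩ := MulAction.exists_smul_eq G S P
  have hzS : x * z * x⁻¹ ∈ (P : Subgroup G) := by
    rw [← hxS, Sylow.coe_subgroup_smul]
    exact ⟨z, hS (Subgroup.mem_zpowers z), rfl⟩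
  exact ⟨⟨_, hzS⟩, isConj_iff.2 ⟨x, rfl⟩⟩

theorem Free.fusion (h : Free P m) {a b : (P : Subgroup G)} (hab : IsConj (a : G) b) :
    ∃ n ∈ Subgroup.normalizer ((P : Subgroup G) : Set G), n * (a : G) * n⁻¹ = b := by
  haveI : Fact p.Prime := ⟨h.prime⟩
  obtain ⟨g, hg⟩ := isConj_iff.1 hab
  obtain ⟨n, hn, e⟩ := CfsgLib.TransferApps.exists_normalizer_conj_of_abelian P
    ⟨⟨fun x y => Subtype.ext (h.comm x x.2 y y.2)⟩⟩ a.2 (g := g) (hg ▸ b.2)
  exact ⟨n, hn, e.trans hg⟩

/-- A class inside `P#` has `m` elements. -/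
theorem Free.fibre_card (h : Free P m) {y : (P : Subgroup G)} (hy1 : (y : G) ≠ 1) :
    Nat.card {w : (P : Subgroup G) // IsConj (y : G) w} = m := by
  set N := Subgroup.normalizer ((P : Subgroup G) : Set G)
  set C := Subgroup.centralizer ((P : Subgroup G) : Set G)
  have hconj : ∀ n ∈ N, n * (y : G) * n⁻¹ ∈ (P : Subgroup G) := fun n hn =>
    (Subgroup.mem_normalizer_iff.1 hn _).1 y.2
  rw [← h.rel]
  refine (Nat.card_congr (Equiv.ofBijective
    (Quotient.lift (s := QuotientGroup.leftRel (C.subgroupOf N))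
      (fun n : N => (⟨⟨(n : G) * y * (n : G)⁻¹, hconj n n.2⟩,
      isConj_iff.2 ⟨n, rfl⟩⟩ : {w : (P : Subgroup G) // IsConj (y : G) w})) ?_) ⟨?_, ?_⟩)).symm
  · intro a b hab
    have hc : (a : G)⁻¹ * b ∈ C := (QuotientGroup.leftRel_apply (s := C.subgroupOf N)).1 hab
    refine Subtype.ext (Subtype.ext ?_)
    have h2 := Subgroup.mem_centralizer_iff.1 hc y y.2
    show (a : G) * y * (a : G)⁻¹ = b * y * (b : G)⁻¹
    calc (a : G) * y * (a : G)⁻¹ = a * (((a : G)⁻¹ * b) * y * ((a : G)⁻¹ * b)⁻¹) * (a : G)⁻¹ := by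
          rw [← h2, mul_inv_cancel_right]
      _ = _ := by group
  · intro q q'
    refine Quotient.inductionOn₂ q q' fun a b e => ?_
    have e' : (a : G) * y * (a : G)⁻¹ = b * y * (b : G)⁻¹ :=
      congrArg (fun w : {w : (P : Subgroup G) // IsConj (y : G) w} => ((w : (P : Subgroup G)) : G)) e
    refine Quotient.sound (s := QuotientGroup.leftRel _) (QuotientGroup.leftRel_apply.2 ?_)
    show (a : G)⁻¹ * b ∈ C
    refine (h.free y y.2 hy1).le ⟨Subgroup.mem_centralizer_singleton_iff.2 ?_,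
      N.mul_mem (N.inv_mem a.2) b.2⟩
    calc (a : G)⁻¹ * b * y = (a : G)⁻¹ * ((b : G) * y * (b : G)⁻¹) * b := by group
      _ = y * ((a : G)⁻¹ * b) := by rw [← e']; group
  · rintro ⟨w, hw⟩
    obtain ⟨n, hn, e⟩ := h.fusion hw
    exact ⟨Quotient.mk _ ⟨n, hn⟩, Subtype.ext (Subtype.ext e)⟩

theorem Free.m_pos (h : Free P m) : 0 < m := by
  rw [← h.rel]
  exact Nat.pos_of_ne_zero Subgroup.index_ne_zero_of_finite

/-- Sums of class functions over the nontrivial `p`-elements. -/
theorem Free.class_sum (h : Free P m) [Fintype (P : Subgroup G)]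
    [DecidableEq (P : Subgroup G)] {k : G → ℂ}
    (hk : IsClassFunction G k) :
    (m : ℂ) * Nat.card P * ∑ z ∈ pE G p, ((regC p z).card : ℂ) * k z =
      (Nat.card G : ℂ) * ∑ w ∈ Finset.univ.erase (1 : (P : Subgroup G)), k w := by
  classical
  rw [Finset.mul_sum, Finset.mul_sum]
  calc ∑ z ∈ pE G p, (m : ℂ) * Nat.card P * (((regC p z).card : ℂ) * k z)
      = ∑ z ∈ pE G p, ∑ q ∈ ((Finset.univ : Finset G) ×ˢ Finset.univ.erase (1 : (P : Subgroup G))).filter
          (fun q => q.1 * (q.2 : G) * q.1⁻¹ = z), k q.2 := by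
        refine Finset.sum_congr rfl fun z hz => ?_
        obtain ⟨hz1, hzp⟩ := mem_pE.1 hz
        rw [Finset.sum_filter, Finset.sum_product, Finset.sum_comm]
        obtain ⟨w0, hw0⟩ := h.conj_mem hzp
        have hw01 : (w0 : G) ≠ 1 := fun e => hz1 (isConj_one_right.1 (e ▸ hw0.symm))
        have hterm : ∀ w ∈ Finset.univ.erase (1 : (P : Subgroup G)),
            (∑ x : G, if x * (w : G) * x⁻¹ = z then k w else 0) =
              if IsConj (w0 : G) w then (Nat.card P : ℂ) * (((regC p z).card : ℂ) * k z) else 0 := by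
          intro w hw
          have hw1 : (w : G) ≠ 1 := fun e => Finset.ne_of_mem_erase hw (Subtype.ext e)
          split_ifs with hcw
          · obtain ⟨g, hg⟩ := isConj_iff.1 (hcw.symm.trans hw0.symm)
            rw [← Finset.sum_filter, Finset.sum_const, nsmul_eq_mul,
              show k w = k z by rw [← hg]; exact (hk w g).symm, ← mul_assoc, ← Nat.cast_mul]
            congr 2
            have hreg : (regC p z).card = (regC p (w : G)).card := by
              rw [Finset.card_eq_sum_ones, Finset.card_eq_sum_ones (regC p (w : G)), ← hg,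
                sum_regC_conj]
            rw [hreg, ← h.card_regC w.2 hw1, Nat.card_eq_fintype_card, ← Finset.card_univ]
            refine Finset.card_bij (fun x _ => ⟨g⁻¹ * x, ?_⟩) (fun x _ => Finset.mem_univ _)
              (fun a _ b _ e => mul_left_cancel (congrArg Subtype.val e)) fun c _ => ⟨g * c, ?_, ?_⟩
            · have hx := (Finset.mem_filter.1 ‹_›).2
              rw [← hg] at hx
              rw [Subgroup.mem_centralizer_singleton_iff]
              calc g⁻¹ * x * w = g⁻¹ * (x * w * x⁻¹) * x := by group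
                _ = w * (g⁻¹ * x) := by rw [hx]; group
            · refine Finset.mem_filter.2 ⟨Finset.mem_univ _, ?_⟩
              calc g * c * w * (g * c)⁻¹ = g * ((c : G) * w * (c : G)⁻¹) * g⁻¹ := by group
                _ = z := by
                  rw [(Subgroup.mem_centralizer_singleton_iff.1 c.2), mul_inv_cancel_right, hg]
            · exact Subtype.ext (inv_mul_cancel_left _ _)
          · refine Finset.sum_eq_zero fun x _ => if_neg fun e => hcw (hw0.symm.trans ?_)
            exact (isConj_iff.2 ⟨x, e⟩).symm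
        rw [Finset.sum_congr rfl hterm, ← Finset.sum_filter, Finset.sum_const, nsmul_eq_mul,
          mul_assoc]
        congr 2
        rw [← h.fibre_card hw01, Nat.card_eq_fintype_card, Fintype.card_subtype]
        refine congrArg Finset.card ?_
        ext w
        simp only [Finset.mem_filter, Finset.mem_univ, true_and, Finset.mem_erase, ne_eq, and_true]
        refine ⟨fun hw => ⟨?_, hw⟩, fun hw => hw.2⟩
        rintro rfl
        exact hw01 (isConj_one_left.1 hw)
    _ = ∑ q ∈ (Finset.univ : Finset G) ×ˢ Finset.univ.erase (1 : (P : Subgroup G)), k q.2 := by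
        refine Finset.sum_fiberwise_of_maps_to (fun q hq => ?_) _
        have hq2 := (Finset.mem_product.1 hq).2
        refine mem_pE.2 ⟨fun e => Finset.ne_of_mem_erase hq2 (Subtype.ext (conj_eq_one_iff.1 e)), ?_⟩
        rw [conj_orderOf]
        exact h.ppow q.2.2
    _ = _ := by
        rw [Finset.sum_product]
        dsimp only
        rw [Finset.sum_const, Finset.card_univ, nsmul_eq_mul,
          ← Nat.card_eq_fintype_card, Finset.mul_sum]

/-- Functions on `P` invariant under the normaliser. -/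
def NStable (P : Sylow p G) (f : ↥(P : Subgroup G) → ℂ) : Prop :=
  ∀ n ∈ Subgroup.normalizer ((P : Subgroup G) : Set G), ∀ w w' : (P : Subgroup G),
    (w' : G) = n * w * n⁻¹ → f w' = f w

open Classical in
/-- The extension to the `p`-elements. -/
noncomputable def cl (P : Sylow p G) (f : ↥(P : Subgroup G) → ℂ) (z : G) : ℂ :=
  if hz : ∃ w : (P : Subgroup G), IsConj z w then f hz.choose else 0

theorem Free.cl_eq (h : Free P m) {f : ↥(P : Subgroup G) → ℂ} (hf : NStable P f) {z : G}
    {w : (P : Subgroup G)} (hw : IsConj z w) : cl P f z = f w := by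
  have hz : ∃ w : (P : Subgroup G), IsConj z w := ⟨w, hw⟩
  rw [cl, dif_pos hz]
  obtain ⟨n, hn, e⟩ := h.fusion (hw.symm.trans hz.choose_spec)
  exact hf n hn _ _ e.symm

theorem Free.cl_coe (h : Free P m) {f : ↥(P : Subgroup G) → ℂ} (hf : NStable P f)
    (w : (P : Subgroup G)) : cl P f w = f w :=
  h.cl_eq hf (IsConj.refl _)

theorem Free.cl_isClassFunction (h : Free P m) {f : ↥(P : Subgroup G) → ℂ} (hf : NStable P f) :
    IsClassFunction G (cl P f) := by
  intro a b
  by_cases ha : ∃ w : (P : Subgroup G), IsConj a w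
  · obtain ⟨w, hw⟩ := ha
    rw [h.cl_eq hf hw, h.cl_eq hf ((isConj_iff.2 ⟨b, rfl⟩ : IsConj a (b * a * b⁻¹)).symm.trans hw)]
  · rw [cl, cl, dif_neg ha, dif_neg]
    exact fun ⟨w, hw⟩ => ha ⟨w, (isConj_iff.2 ⟨b, rfl⟩).trans hw⟩

open Classical in
/-- The class function supported on the singular sections with values `f`. -/
noncomputable def lift (hp : p.Prime) (P : Sylow p G) (f : ↥(P : Subgroup G) → ℂ) (g : G) : ℂ :=
  if p ∣ orderOf g then cl P f (pPart hp g) else 0

theorem lift_regular (hp : p.Prime) (f : ↥(P : Subgroup G) → ℂ) {g : G} (hg : ¬ p ∣ orderOf g) :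
    lift hp P f g = 0 := if_neg hg

theorem Free.lift_isClassFunction (h : Free P m) {f : ↥(P : Subgroup G) → ℂ} (hf : NStable P f) :
    IsClassFunction G (lift h.prime P f) := by
  intro a b
  simp only [lift, conj_orderOf, pPart_conj]
  by_cases ha : p ∣ orderOf a
  · rw [if_pos ha, if_pos ha]; exact h.cl_isClassFunction hf _ _
  · rw [if_neg ha, if_neg ha]

theorem Free.lift_mul (h : Free P m) {f : ↥(P : Subgroup G) → ℂ} (hf : NStable P f) {z v : G}
    (hz : z ∈ pE G p) (hv : v ∈ regC p z) : lift h.prime P f (z * v) = cl P f z := by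
  obtain ⟨h1, h2⟩ := mem_pE.1 hz
  obtain ⟨h3, h4⟩ := mem_regC.1 hv
  rw [lift, if_pos ((singular_iff h.prime h3.symm h2 h4).2 h1), pPart_mul h.prime h3.symm h2 h4]

/-- The pairing with a function averaging on the sections. -/
theorem Free.sum_lift (h : Free P m) [Fintype (P : Subgroup G)] [DecidableEq (P : Subgroup G)]
    {f : ↥(P : Subgroup G) → ℂ} (hf : NStable P f) {φ k : G → ℂ} (hφ : IsClassFunction G φ)
    (hk : IsClassFunction G k) (hav : ∀ w : (P : Subgroup G), (w : G) ≠ 1 →
      ∑ v ∈ regC p (w : G), φ ((w : G) * v) = ((regC p (w : G)).card : ℂ) * k w) :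
    (m : ℂ) * Nat.card P * ∑ g : G, lift h.prime P f g * φ g =
      (Nat.card G : ℂ) * ∑ w ∈ Finset.univ.erase (1 : (P : Subgroup G)), f w * k w := by
  classical
  have h1 : ∑ g : G, lift h.prime P f g * φ g =
      ∑ z ∈ pE G p, ((regC p z).card : ℂ) * (cl P f z * k z) := by
    rw [← Finset.sum_filter_add_sum_filter_not _ (fun g : G => p ∣ orderOf g),
      Finset.sum_eq_zero (s := Finset.univ.filter fun g : G => ¬ p ∣ orderOf g) (fun g hg => by
        rw [lift_regular h.prime f (Finset.mem_filter.1 hg).2, zero_mul]), add_zero,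
      sum_singular h.prime]
    refine Finset.sum_congr rfl fun z hz => ?_
    rw [Finset.sum_congr rfl fun v hv => by rw [h.lift_mul hf hz hv], ← Finset.mul_sum]
    obtain ⟨hz1, hzp⟩ := mem_pE.1 hz
    obtain ⟨w, hw⟩ := h.conj_mem hzp
    obtain ⟨x, hx⟩ := isConj_iff.1 hw.symm
    have hw1 : (w : G) ≠ 1 := fun e => hz1 (isConj_one_right.1 (e ▸ hw.symm))
    have e1 : ∀ v, φ (z * (x * v * x⁻¹)) = φ ((w : G) * v) := fun v => by
      rw [← hx, conj_mul]; exact hφ _ _
    rw [← hx, sum_regC_conj, hx, Finset.sum_congr rfl fun v _ => e1 v, hav w hw1,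
      show k z = k w by rw [← hx]; exact hk _ _,
      show (regC p z).card = (regC p (w : G)).card by
        rw [Finset.card_eq_sum_ones, Finset.card_eq_sum_ones (regC p (w : G)), ← hx, sum_regC_conj]]
    ring
  rw [h1, h.class_sum (k := fun z => cl P f z * k z)
    (fun a b => by dsimp only; rw [h.cl_isClassFunction hf a b, hk a b])]
  exact congrArg _ (Finset.sum_congr rfl fun w _ => by rw [h.cl_coe hf])

theorem isClassFunction_conj {φ : G → ℂ} (hφ : IsClassFunction G φ) :
    IsClassFunction G fun g => conj (φ g) := fun a b => congrArg conj (hφ a b)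

/-- The multiplicities of a lifted function. -/
theorem Free.inner_lift_irr (hM : IsPModular p M) (h : Free P m) [Fintype (P : Subgroup G)]
    [DecidableEq (P : Subgroup G)] {f : ↥(P : Subgroup G) → ℂ} (hf : NStable P f)
    (χ : IrrCharacter G) :
    (m : ℂ) * Nat.card P * classInner (lift h.prime P f) (χ : G → ℂ) =
      ind (principalBlock M G) χ *
        ∑ w ∈ Finset.univ.erase (1 : (P : Subgroup G)), f w * conj ((χ : G → ℂ) w) := by
  classical
  have hG : (Nat.card G : ℂ) ≠ 0 := Nat.cast_ne_zero.2 Nat.card_pos.ne'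
  set e : ℂ := ind (principalBlock M G) χ
  have hconj : conj e = e := by
    simp only [e]
    by_cases hχ : χ ∈ principalBlock M G
    · rw [ind_of_mem hχ, map_one]
    · rw [ind_of_notMem hχ, map_zero]
  have h1 := h.sum_lift hf (φ := fun g => conj ((χ : G → ℂ) g))
    (k := fun g => e * conj ((χ : G → ℂ) g)) (isClassFunction_conj (isClassFunction_irr χ.2))
    (fun a b => congrArg (e * ·) (isClassFunction_conj (isClassFunction_irr χ.2) a b))
    fun w hw => by
      rw [← map_sum, h.section_sum hM w.2 hw, map_mul, map_mul, map_natCast, hconj]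
  rw [classInner, ← mul_assoc, mul_comm ((m : ℂ) * Nat.card P) _, mul_assoc, h1,
    inv_mul_cancel_left₀ hG, Finset.mul_sum]
  exact Finset.sum_congr rfl fun w _ => by ring

theorem Free.inner_lift_lift (h : Free P m) [Fintype (P : Subgroup G)]
    [DecidableEq (P : Subgroup G)] {f f' : ↥(P : Subgroup G) → ℂ} (hf : NStable P f)
    (hf' : NStable P f') :
    (m : ℂ) * Nat.card P * classInner (lift h.prime P f) (lift h.prime P f') =
      ∑ w ∈ Finset.univ.erase (1 : (P : Subgroup G)), f w * conj (f' w) := by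
  classical
  have hG : (Nat.card G : ℂ) ≠ 0 := Nat.cast_ne_zero.2 Nat.card_pos.ne'
  have h1 := h.sum_lift hf (φ := fun g => conj (lift h.prime P f' g))
    (k := fun g => conj (cl P f' g)) (isClassFunction_conj (h.lift_isClassFunction hf'))
    (isClassFunction_conj (h.cl_isClassFunction hf'))
    fun w hw => by
      rw [Finset.sum_congr rfl fun v hv => by
        rw [h.lift_mul hf' (mem_pE.2 ⟨hw, h.ppow w.2⟩) hv], Finset.sum_const, nsmul_eq_mul]
  rw [classInner, ← mul_assoc, mul_comm ((m : ℂ) * Nat.card P) _, mul_assoc, h1,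
    inv_mul_cancel_left₀ hG]
  exact Finset.sum_congr rfl fun w _ => by rw [h.cl_coe hf']

end CfsgLib.Blocks.AbelianFree
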