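import Cfsg.Agent.Lib.Blocks.KleinBlocks
import Cfsg.Agent.Lib.Blocks.CentralDefect

/-!
# Abelian defect group and trivial inertial index: nilpotency, and rank one for cyclic defect
-/

namespace CfsgLib.Blocks

open Cfsg CfsgLib.CharTheory
open scoped ComplexConjugate

set_option linter.unusedVariables false
set_option linter.unusedSimpArgs false
set_option linter.style.haveILetI false
set_option linter.unusedSectionVars false

universe u

variable {p : ℕ} {M : Ideal AlgInt} {G : Type u} [Group G] [Fintype G]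

/-- If the `p`-regular rank of `b` is one, the contributions form a matrix of rank one. -/
theorem secPair_rank_one {x : G} {H : Subgroup G} [Fintype H] {b : Set (IrrCharacter H)}
    (hl : blockRank p b = 1) (χ ψ θ : G → ℂ) :
    secPair p x b χ ψ * secPair p x b θ θ = secPair p x b χ θ * secPair p x b θ ψ := by
  classical
  unfold blockRank at hl
  obtain ⟨w, -, hv⟩ := finrank_eq_one_iff'.1 hl
  obtain ⟨v, hvmem⟩ := w
  have hmem : ∀ φ ∈ b, ∃ t : ℂ, pRegularPart p (φ : H → ℂ) = t • v := by
    intro φ hφ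
    obtain ⟨t, ht⟩ := hv ⟨_, Submodule.subset_span ⟨φ, hφ, rfl⟩⟩
    exact ⟨t, (congrArg Subtype.val ht).symm⟩
  choose! t ht using hmem
  have hβ : ∀ f : H → ℂ, ∀ c ∈ Finset.univ.filter (fun c : H => ¬ p ∣ orderOf c),
      blockPart b f c = (∑ φ ∈ bset b, classInner f (φ : H → ℂ) * t φ) * v c := by
    intro f c hc
    rw [blockPart_apply, Finset.sum_mul]
    refine Finset.sum_congr rfl fun φ hφ => ?_
    have h := congrFun (ht φ (mem_bset.1 hφ)) c
    rw [pRegularPart_apply, if_neg (Finset.mem_filter.1 hc).2] at h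
    rw [h, Pi.smul_apply, smul_eq_mul, mul_assoc]
  set a : (G → ℂ) → ℂ := fun f => ∑ φ ∈ bset b, classInner (sec x H f) (φ : H → ℂ) * t φ with ha
  have e : ∀ f g : G → ℂ, secPair p x b f g = a f * conj (a g) *
      ((p : ℂ) ^ blockDefect p b * (Nat.card H : ℂ)⁻¹ *
        ∑ c ∈ Finset.univ.filter (fun c : H => ¬ p ∣ orderOf c), v c * conj (v c)) := by
    intro f g
    simp only [secPair, Finset.mul_sum]
    refine Finset.sum_congr rfl fun c hc => ?_
    rw [hβ _ c hc, hβ _ c hc, map_mul]
    ring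
  rw [e, e, e, e]
  ring

/-- A major subsection with one Brauer character bounds `k(B)` by `p ^ d`. -/
theorem card_le_of_major_rank_one (hM : IsPModular p M) {x : G} {H : Subgroup G} [Fintype H]
    {b : Set (IrrCharacter H)} {B : Set (IrrCharacter G)} (hH : IsCentr x H)
    (hx : ∃ k : ℕ, orderOf x = p ^ k) (hind : IsInducedBlock M H b B)
    (hdef : blockDefect p b = blockDefect p B) (hl : blockRank p b = 1) :
    Nat.card B ≤ p ^ blockDefect p B := by
  classical
  have hp0 : (p : ℂ) ≠ 0 := Nat.cast_ne_zero.2 hM.1.ne_zero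
  obtain ⟨θ, hθ, hθ0⟩ := exists_height_zero hM hind.2.1
  have hne : ∀ χ ∈ B, secPair p x b (θ : G → ℂ) (χ : G → ℂ) ≠ 0 := by
    intro χ hχ
    obtain ⟨u, hu, -, hu0⟩ := secPair_div hM hH hx hind hdef hθ hχ hθ0
    rw [hu]
    exact mul_ne_zero (pow_ne_zero _ hp0) hu0
  have h := weighted_pairs_le hM hH hx hind (bset B ×ˢ bset B) subset_rfl (fun _ => 0) fun i hi => by
    obtain ⟨hi1, hi2⟩ := Finset.mem_product.1 hi
    obtain ⟨k, hk⟩ := hx
    refine ⟨_, by rw [pow_zero, one_mul], (secPair_props hM hH hk hind.1 i.1 i.2).2, fun h0 => ?_⟩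
    have hz := secPair_rank_one (x := x) hl (i.1 : G → ℂ) (i.2 : G → ℂ) (θ : G → ℂ)
    rw [h0, zero_mul] at hz
    rcases mul_eq_zero.1 hz.symm with h' | h'
    · apply hne _ (mem_bset.1 hi1)
      rw [← secPair_conj p x b (i.1 : G → ℂ) (θ : G → ℂ), h', map_zero]
    · exact hne _ (mem_bset.1 hi2) h'
  simp only [pow_zero, one_pow, Finset.sum_const, smul_eq_mul, mul_one, Finset.card_product,
    card_bset, hl, hdef] at h
  rw [mul_comm 2, pow_mul, sq] at h
  exact Nat.mul_self_le_mul_self_iff.1 h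

/-- Abelian defect group and trivial inertial index give a nilpotent block. -/
theorem nilpotent_of_triv (hM : IsPModular p M) {B : Set (IrrCharacter G)} {P : Subgroup G}
    {e : Set (IrrCharacter (Subgroup.centralizer (P : Set G)))}
    (hmax : IsMaximalBrauerPair p M B P e) (hab : ∀ x ∈ P, ∀ y ∈ P, x * y = y * x)
    (htriv : pairStab P e ≤ Subgroup.centralizer (P : Set G)) : IsNilpotentBlock p M B := by
  set F := blockFusion hM hmax
  have hF := blockFusion_isBlockFusion hM hmax
  refine nilpotent_of_hom_eq_inner hM hF fun Q => Set.ext fun φ => ⟨fun hφ => ?_, fun hφ => ?_⟩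
  · obtain ⟨y, hy, hyq⟩ := exists_extend_abelian hM hF hab hφ
    refine ⟨F.source_le hφ, 1, P.one_mem, fun q => ?_⟩
    rw [hyq, ← htriv hy (q : G) (F.source_le hφ q.2)]
    group
  · obtain ⟨hQ, u, hu, hux⟩ := hφ
    exact F.mem_of_apply_eq (F.conj_mem hQ hu) hux

/-- With trivial inertial index and abelian defect group every element of the defect group gives
its own subsection. -/
theorem card_le_sum_rankSum_triv (hM : IsPModular p M) {B : Set (IrrCharacter G)} {P : Subgroup G}
    {e : Set (IrrCharacter (Subgroup.centralizer (P : Set G)))}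
    (hmax : IsMaximalBrauerPair p M B P e) (hab : ∀ x ∈ P, ∀ y ∈ P, x * y = y * x)
    (htriv : pairStab P e ≤ Subgroup.centralizer (P : Set G)) :
    blockRank p B + (Nat.card P - 1) ≤ Nat.card B := by
  classical
  haveI := Fintype.ofFinite P
  have hB := hmax.1.2.1
  have hPp : IsPGroup p P := hmax.1.1.1
  set F := blockFusion hM hmax
  have hF := blockFusion_isBlockFusion hM hmax
  set X : Finset G := (Finset.univ.filter fun C : ConjClasses G =>
    ∃ k : ℕ, orderOf (crep C) = p ^ k).image crep with hX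
  have hXrep : ∀ g : G, (∃ k : ℕ, orderOf g = p ^ k) → ∃! x, x ∈ X ∧ IsConj g x := by
    intro g hg
    refine ⟨crep (ConjClasses.mk g), ⟨?_, (isConj_crep g).symm⟩, ?_⟩
    · refine Finset.mem_image.2 ⟨_, Finset.mem_filter.2 ⟨Finset.mem_univ _, ?_⟩, rfl⟩
      obtain ⟨c, hc⟩ := isConj_iff.1 (isConj_crep g)
      obtain ⟨k, hk⟩ := hg
      refine ⟨k, ?_⟩
      have := conj_orderOf c (crep (ConjClasses.mk g))
      rw [hc] at this
      rw [← this, hk]
    · rintro x ⟨hx, hgx⟩
      obtain ⟨C, -, rfl⟩ := Finset.mem_image.1 hx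
      rw [ConjClasses.mk_eq_mk_iff_isConj.2 hgx, mk_crep]
  have hXp : ∀ x ∈ X, ∃ k : ℕ, orderOf x = p ^ k := fun x hx => by
    obtain ⟨C, hC, rfl⟩ := Finset.mem_image.1 hx
    exact (Finset.mem_filter.1 hC).2
  obtain ⟨x1, ⟨hx1, hc1⟩, -⟩ := hXrep 1 ⟨0, orderOf_one⟩
  obtain rfl : x1 = 1 := isConj_one_right.1 hc1
  set U : Finset P := Finset.univ.filter (fun u => u ≠ 1) with hU
  have hUcard : U.card = Nat.card P - 1 := by
    rw [hU, Finset.filter_ne', Finset.card_erase_of_mem (Finset.mem_univ _), Finset.card_univ,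
      Nat.card_eq_fintype_card]
  have hord : ∀ u : P, ∃ k : ℕ, orderOf (u : G) = p ^ k := fun u => by
    obtain ⟨k, hk⟩ := hPp u
    obtain ⟨i, -, hi⟩ := (Nat.dvd_prime_pow hM.1).1
      (orderOf_dvd_of_pow_eq_one (congrArg Subtype.val hk))
    exact ⟨i, hi⟩
  set rp : P → G := fun u => crep (ConjClasses.mk (u : G)) with hrp
  have hrpX : ∀ u, rp u ∈ X := fun u => by
    obtain ⟨x, ⟨hx, hux⟩, -⟩ := hXrep _ (hord u)
    obtain ⟨C, -, rfl⟩ := Finset.mem_image.1 hx
    rw [hrp]
    simp only []
    rwa [ConjClasses.mk_eq_mk_iff_isConj.2 hux, mk_crep]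
  -- the blocks below the maximal pair, transported to the representatives
  have hex : ∀ u : P, ∃ b : Set (IrrCharacter (Subgroup.centralizer
      ((Subgroup.zpowers (rp u) : Subgroup G) : Set G))),
      IsInducedBlock M _ b B ∧ ∃ y : G, y * rp u * y⁻¹ = u ∧
        Relation.ReflTransGen (NormalSubpairRel p M)
          (conjIdx y ⟨Subgroup.zpowers (rp u), b⟩) ⟨P, e⟩ := by
    intro u
    have hQP : Subgroup.zpowers (u : G) ≤ P := Subgroup.zpowers_le.2 u.2
    obtain ⟨f, ⟨hf, hle⟩, -⟩ := existsUnique_subpair hM hPp hmax.1.1.2 _ hQP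
    obtain ⟨c, hc⟩ := isConj_iff.1 (isConj_crep (u : G)).symm
    have hpair : IsBrauerPairOf p M B (Subgroup.zpowers (u : G)) f :=
      (pairOf_subpair_iff hM (a := ⟨_, f⟩) (b := ⟨P, e⟩) hle B).2 hmax.1
    have hpc := pairOf_conj hM (a := ⟨_, f⟩) hpair c
    have hback : conjIdx c⁻¹ (conjIdx c (⟨_, f⟩ : BrauerPairIdx G)) = ⟨_, f⟩ := by
      rw [conjIdx_mul, inv_mul_cancel, conjIdx_one]
    generalize ha : conjIdx c (⟨Subgroup.zpowers (u : G), f⟩ : BrauerPairIdx G) = a at hpc hback
    have ha1 : a.1 = Subgroup.zpowers (rp u) := by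
      rw [← ha]
      show (Subgroup.zpowers (u : G)).map _ = _
      rw [zpowers_conj, hc]
    obtain ⟨Q, b⟩ := a
    change Q = _ at ha1
    subst ha1
    haveI := Fintype.ofFinite
      (Subgroup.centralizer ((Subgroup.zpowers (rp u) : Subgroup G) : Set G))
    refine ⟨b, (induced_centralizer_iff hM (isPGroup_zpowers hM.1
      (hXp _ (hrpX u)))).2 hpc, c⁻¹, ?_, ?_⟩
    · show c⁻¹ * crep (ConjClasses.mk (u : G)) * c⁻¹⁻¹ = u
      rw [← hc]; group
    · rw [hback]; exact hle
  choose β hβ yy hyy hβle using hex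
  -- different elements give different subsections
  have hinj : ∀ u v : P, ∀ (h : rp u = rp v), HEq (β u) (β v) → u = v := by
    intro u v h hb
    have hidx : (⟨Subgroup.zpowers (rp u), β u⟩ : BrauerPairIdx G) =
        ⟨Subgroup.zpowers (rp v), β v⟩ := by
      exact idx_eq_of_heq h hb
    have h1 := hβle u
    have h2 := hβle v
    rw [← hidx] at h2
    set a : BrauerPairIdx G := ⟨Subgroup.zpowers (rp u), β u⟩
    set g := yy v * (yy u)⁻¹ with hg
    have h2' : Relation.ReflTransGen (NormalSubpairRel p M) (conjIdx g (conjIdx (yy u) a)) ⟨P, e⟩ := by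
      rw [conjIdx_mul, hg, inv_mul_cancel_right]; exact h2
    generalize hc : conjIdx (yy u) a = c at h1 h2'
    have hcblock : IsPBlock M c.2 := hc ▸ isPBlock_conjBlock (hβ u).1 _
    have hc1 : (u : G) ∈ c.1 := by
      rw [← hc, ← hyy u]
      exact ⟨rp u, Subgroup.mem_zpowers _, rfl⟩
    obtain ⟨Q, f⟩ := c
    have hmem : conjHom Q g ∈ F.Hom Q := (hF.2 Q _).2 ⟨subpairLE_le h1, g, fun _ => rfl,
      subpairLE_le h2', f, h1, h2'⟩
    obtain ⟨t, ht, hte⟩ := exists_extend_abelian hM hF hab hmem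
    have h3 : g * (u : G) * g⁻¹ = t * u * t⁻¹ := hte ⟨u, hc1⟩
    rw [← htriv ht (u : G) u.2, mul_inv_cancel_right, hg, mul_inv_rev, inv_inv] at h3
    apply Subtype.ext
    rw [← h3, ← hyy u, ← hyy v, h]
    group
  have hsum : U.card ≤ ∑ x ∈ X.erase 1,
      rankSum p M (Subgroup.centralizer ((Subgroup.zpowers x : Subgroup G) : Set G)) B := by
    rw [Finset.card_eq_sum_card_fiberwise (f := rp) (t := X.erase 1) fun u hu => Finset.mem_erase.2
      ⟨fun h => (show u ≠ 1 from (Finset.mem_filter.1 hu).2) (Subtype.ext (by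
        rw [← hyy u, h]; simp)), hrpX u⟩]
    refine Finset.sum_le_sum fun x hx => ?_
    haveI := Fintype.ofFinite (Subgroup.centralizer ((Subgroup.zpowers x : Subgroup G) : Set G))
    rw [rankSum, finsum_mem_eq_finite_toFinset_sum _ (Set.toFinite _)]
    set Sx := (Set.toFinite {b : Set (IrrCharacter (Subgroup.centralizer
      ((Subgroup.zpowers x : Subgroup G) : Set G))) | IsInducedBlock M _ b B}).toFinset with hSx
    refine le_trans ?_ (le_trans (le_of_eq (Finset.card_eq_sum_ones _))
      (Finset.sum_le_sum fun b hb => blockRank_pos hM ((Set.Finite.mem_toFinset _).1 hb).1))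
    have hmem : ∀ w ∈ U.filter (fun w => rp w = x), rp w = x := fun w hw => (Finset.mem_filter.1 hw).2
    refine Finset.card_le_card_of_injOn
      (fun w => if h : rp w = x then cast (congrArg (fun z : G => Set (IrrCharacter
        (Subgroup.centralizer ((Subgroup.zpowers z : Subgroup G) : Set G)))) h) (β w) else ∅)
      (fun w hw => ?_) ?_
    · have h := hmem w (Finset.mem_coe.1 hw)
      simp only [dif_pos h, Finset.mem_coe, hSx, Set.Finite.mem_toFinset, Set.mem_setOf_eq]
      subst h
      exact hβ w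
    · intro w hw w' hw' he
      have h := hmem w (Finset.mem_coe.1 hw)
      have h' := hmem w' (Finset.mem_coe.1 hw')
      simp only [dif_pos h, dif_pos h'] at he
      exact hinj w w' (h.trans h'.symm)
        ((cast_heq _ _).symm.trans ((heq_of_eq he).trans (cast_heq _ _)))
  haveI := Fintype.ofFinite
    (Subgroup.centralizer ((Subgroup.zpowers (1 : G) : Subgroup G) : Set G))
  rw [card_eq_sum_rankSum hM hB X hXp hXrep, ← Finset.add_sum_erase _ _ hx1,
    rankSum_central hM (isCentr_zpowers (1 : G)) ⟨0, orderOf_one⟩ (Subgroup.one_mem _) hB, ← hUcard]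
  exact Nat.add_le_add_left hsum _


/-- A cyclic defect group with trivial inertial index gives one Brauer character. -/
theorem rank_one_of_cyclic_triv (hM : IsPModular p M) {B : Set (IrrCharacter G)} {P : Subgroup G}
    {e : Set (IrrCharacter (Subgroup.centralizer (P : Set G)))}
    (hmax : IsMaximalBrauerPair p M B P e) [hcyc : IsCyclic P]
    (htriv : pairStab P e ≤ Subgroup.centralizer (P : Set G)) : blockRank p B = 1 := by
  classical
  haveI : Fact p.Prime := ⟨hM.1⟩
  obtain ⟨u, rfl⟩ := Subgroup.isCyclic_iff_exists_zpowers_eq_top P |>.1 hcyc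
  have hB := hmax.1.2.1
  have he := hmax.1.1.2
  have hPp : IsPGroup p (Subgroup.zpowers u) := hmax.1.1.1
  have hab : ∀ x ∈ Subgroup.zpowers u, ∀ y ∈ Subgroup.zpowers u, x * y = y * x := by
    rintro _ ⟨i, rfl⟩ _ ⟨j, rfl⟩
    exact ((Commute.refl u).zpow_zpow i j).eq
  have hPC : Subgroup.zpowers u ≤
      Subgroup.centralizer ((Subgroup.zpowers u : Subgroup G) : Set G) :=
    fun a ha r hr => hab r hr a ha
  have e1 := card_centP_le hM hPp le_rfl he he Relation.ReflTransGen.refl
  rw [inf_eq_left.2 hPC] at e1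
  obtain ⟨w, -, e2⟩ := exists_conj_centP hM hmax he Relation.ReflTransGen.refl
  have hcardP : Nat.card (Subgroup.zpowers u) = p ^ blockDefect p e :=
    (le_antisymm (e2.le.trans (Subgroup.card_le_of_le inf_le_left)) e1).symm
  have hdef : blockDefect p e = blockDefect p B := Nat.pow_right_injective hM.1.two_le
    (hcardP.symm.trans (card_defectGroup hM hB (maximal_isDefectGroup hM hmax)))
  set P'' := (Subgroup.zpowers u).subgroupOf
    (Subgroup.centralizer ((Subgroup.zpowers u : Subgroup G) : Set G)) with hP''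
  haveI := Fintype.ofFinite (Subgroup.centralizer ((Subgroup.zpowers u : Subgroup G) : Set G))
  have hZ : P'' ≤ Subgroup.center _ := fun z hz =>
    Subgroup.mem_center_iff.2 fun a => Subtype.ext (a.2 (z : G) hz).symm
  haveI := normal_of_central hZ
  have hle1 : blockRank p e = 1 := blockRank_pcent hM
    (P := P'') hPp.comap_subtype (sup_cent_of_central hZ) he
    (by rw [hP'', Nat.card_congr (Subgroup.subgroupOfEquivOfLe hPC).toEquiv, hcardP])
  obtain ⟨k, hk⟩ := hPp.exists_card_eq
  have hord : ∃ k : ℕ, orderOf u = p ^ k := ⟨k, by rw [← Nat.card_zpowers, hk]⟩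
  have hkB := card_le_of_major_rank_one hM (isCentr_zpowers u) hord
    ((induced_centralizer_iff hM hPp).2 hmax.1) hdef hle1
  have hge := card_le_sum_rankSum_triv hM hmax hab htriv
  rw [hcardP, hdef] at hge
  have := blockRank_pos hM hB
  have : 1 ≤ p ^ blockDefect p B := Nat.one_le_pow _ _ hM.1.pos
  omega

end CfsgLib.Blocks
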