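import Cfsg.Agent.Lib.Blocks.SmallAlgebra
import Mathlib.LinearAlgebra.Dual.Lemmas

/-!
# Symmetric algebras with cocenter of dimension at most four and a simple top
-/

namespace CfsgLib.Blocks

open Module

set_option linter.unusedVariables false
set_option linter.unusedSimpArgs false
set_option linter.unusedSectionVars false

section

variable {k : Type*} {A : Type*} [Field k] [Ring A] [Algebra k A]

/-- The corner at an idempotent. -/
def corner (k : Type*) {A : Type*} [Field k] [Ring A] [Algebra k A] (ε : A) : Submodule k A :=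
  LinearMap.range ((LinearMap.mulLeft k ε).comp (LinearMap.mulRight k ε))

/-- The span of the commutators of a submodule. -/
def commOn (R : Submodule k A) : Submodule k A :=
  Submodule.span k ((fun q : A × A => q.1 * q.2 - q.2 * q.1) '' ((R : Set A) ×ˢ (R : Set A)))

/-- An algebra with simple top is a matrix algebra over its corner. -/
theorem corner_structure [FiniteDimensional k A] {n : ℕ} [NeZero n]
    (π : A →ₐ[k] Matrix (Fin n) (Fin n) k) (hπ : Function.Surjective π) {m : ℕ}
    (hm : (LinearMap.ker π.toLinearMap) ^ m = ⊥) :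
    ∃ ε : A, IsIdempotentElem ε ∧ π ε = Matrix.single 0 0 1 ∧
      finrank k A = n * (n * finrank k (corner k ε)) ∧
      finrank k (LinearMap.range (LinearMap.mulRight k ε)) = n * finrank k (corner k ε) ∧
      (∀ r ∈ corner k ε, r ∈ commSub k A → r ∈ commOn (corner k ε)) := by
  classical
  set L := LinearMap.ker π.toLinearMap with hL
  have hLmem : ∀ x, x ∈ L ↔ π x = 0 := fun x => Iff.rfl
  have hnil : ∀ x, π x = 0 → x ^ m = 0 := by
    intro x hx
    have := Submodule.pow_mem_pow L ((hLmem x).2 hx) m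
    rw [hm] at this
    simpa using this
  set E : Fin n → Fin n → Matrix (Fin n) (Fin n) k := fun i j => Matrix.single i j 1 with hE
  have hEE : ∀ i j l, E i j * E j l = E i l := fun i j l => by simp [hE]
  have hEE0 : ∀ i j j' l, j ≠ j' → E i j * E j' l = 0 := fun i j j' l h => by simp [hE, h]
  obtain ⟨ε, hεi, hεπ⟩ := exists_isIdempotentElem_eq_of_ker_isNilpotent π.toRingHom
    (fun x hx => ⟨m, hnil x (RingHom.mem_ker.1 hx)⟩) (E 0 0) (hπ _) (hEE 0 0 0)
  have hεπ' : π ε = E 0 0 := hεπ
  choose a ha using fun i : Fin n => hπ (E i 0)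
  choose b hb using fun i : Fin n => hπ (E 0 i)
  set u : Fin n → A := fun i => a i * ε with hu
  set v₀ : Fin n → A := fun i => ε * b i with hv₀
  set w := ∑ i, u i * v₀ i with hw
  have hwπ : π w = 1 := by
    rw [hw, map_sum]
    have : ∀ i, π (u i * v₀ i) = E i i := fun i => by
      simp only [hu, hv₀, map_mul, ha, hb, hεπ', hEE]
    simp only [this, hE]
    ext i j
    rw [Matrix.sum_apply, Finset.sum_eq_single i (fun l _ hl => by simp [hl]) (by simp)]
    by_cases h : i = j <;> simp [h, Matrix.one_apply]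
  have hwu : IsUnit w := by
    have hz : IsNilpotent (1 - w) := ⟨m, hnil _ (by rw [map_sub, map_one, hwπ, sub_self])⟩
    simpa using hz.isUnit_one_sub
  obtain ⟨w', rfl'⟩ := hwu
  set v : Fin n → A := fun i => v₀ i * (↑w'⁻¹ : A) with hv
  have hw'π : π (↑w'⁻¹ : A) = 1 := by
    have := congrArg π (Units.inv_mul w')
    rw [map_mul, map_one, rfl', hwπ, mul_one] at this
    exact this
  have huπ : ∀ i, π (u i) = E i 0 := fun i => by simp only [hu, map_mul, ha, hεπ', hEE]
  have hvπ : ∀ i, π (v i) = E 0 i := fun i => by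
    simp only [hv, hv₀, map_mul, hb, hεπ', hEE, hw'π, mul_one]
  have huε : ∀ i, u i * ε = u i := fun i => by simp only [hu, mul_assoc, hεi.eq]
  have hεv : ∀ i, ε * v i = v i := fun i => by simp only [hv, hv₀, ← mul_assoc, hεi.eq]
  have huv : ∑ i, u i * v i = 1 := by
    simp only [hv, ← mul_assoc, ← Finset.sum_mul]
    rw [← hw, ← rfl', Units.mul_inv]
  have hvu : ∀ i j, v i * u j = if i = j then ε else 0 := by
    set P : Matrix (Fin n) (Fin n) A := Matrix.of fun i j => v i * u j with hP
    have hP2 : P * P = P := by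
      ext i j
      rw [Matrix.mul_apply]
      simp only [hP, Matrix.of_apply]
      rw [show ∑ l, v i * u l * (v l * u j) = v i * (∑ l, u l * v l) * u j by
        simp only [Finset.mul_sum, Finset.sum_mul, mul_assoc], huv, mul_one]
    set e1 : Matrix (Fin n) (Fin n) A := Matrix.diagonal fun _ => ε with he1
    have he : e1 * e1 = e1 := by simp [he1, Matrix.diagonal_mul_diagonal, hεi.eq]
    have heP : e1 * P = P := by
      ext i j
      simp only [he1, Matrix.diagonal_mul, hP, Matrix.of_apply, ← mul_assoc, hεv]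
    have hPe : P * e1 = P := by
      ext i j
      simp only [he1, Matrix.mul_diagonal, hP, Matrix.of_apply, mul_assoc, huε]
    have hD : (e1 - P) * (e1 - P) = e1 - P := by
      rw [mul_sub, sub_mul, sub_mul, he, hP2, heP, hPe]; abel
    have h0 := idem_entries_zero L hm (e1 - P) hD fun i j => by
      rw [hLmem, Matrix.sub_apply, map_sub, hP, Matrix.of_apply, map_mul, hvπ, huπ, he1]
      by_cases h : i = j
      · subst h
        rw [Matrix.diagonal_apply_eq, hεπ', hEE, sub_self]
      · rw [Matrix.diagonal_apply_ne _ h, map_zero, hEE0 _ _ _ _ h, sub_self]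
    intro i j
    have := congrFun (congrFun (sub_eq_zero.1 h0) i) j
    rw [hP, Matrix.of_apply, he1, Matrix.diagonal_apply] at this
    exact this.symm
  -- the corner
  let cl : A →ₗ[k] A := (LinearMap.mulLeft k ε).comp (LinearMap.mulRight k ε)
  set R := LinearMap.range cl with hR
  have hRmem : ∀ x, x ∈ R ↔ ε * x * ε = x := by
    intro x
    constructor
    · rintro ⟨y, rfl⟩
      show ε * (ε * (y * ε)) * ε = ε * (y * ε)
      simp only [← mul_assoc, hεi.eq]
      simp only [mul_assoc, hεi.eq]
    · intro h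
      exact ⟨x, (mul_assoc _ _ _).symm.trans h⟩
  have hvau : ∀ (x : A) i j, v i * x * u j ∈ R := fun x i j => by
    rw [hRmem, show ε * (v i * x * u j) * ε = ε * v i * x * (u j * ε) by simp only [mul_assoc],
      hεv, huε]
  -- `A` is the matrix algebra over the corner
  let Φ : A →ₗ[k] (Fin n → Fin n → R) :=
    { toFun := fun x i j => ⟨v i * x * u j, hvau x i j⟩
      map_add' := fun x y => by
        funext i j; apply Subtype.ext; simp [mul_add, add_mul]
      map_smul' := fun c x => by
        funext i j; apply Subtype.ext; simp }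
  let Ψ : (Fin n → Fin n → R) →ₗ[k] A :=
    { toFun := fun f => ∑ i, ∑ j, u i * (f i j : A) * v j
      map_add' := fun f g => by
        simp [mul_add, add_mul, Finset.sum_add_distrib]
      map_smul' := fun c f => by
        simp [Finset.smul_sum] }
  have hΨΦ : ∀ x, Ψ (Φ x) = x := by
    intro x
    show ∑ i, ∑ j, u i * (v i * x * u j) * v j = x
    calc ∑ i, ∑ j, u i * (v i * x * u j) * v j = (∑ i, u i * v i) * x * ∑ j, u j * v j := by
          rw [Finset.sum_mul, Finset.sum_mul]
          exact Finset.sum_congr rfl fun i _ => by simp only [Finset.mul_sum, mul_assoc]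
      _ = x := by rw [huv, one_mul, mul_one]
  have hεR : ∀ r : R, ε * (r : A) = r ∧ (r : A) * ε = r := by
    rintro ⟨r, hr⟩
    have h := (hRmem r).1 hr
    constructor
    · show ε * r = r
      conv_lhs => rw [← h]
      simp only [← mul_assoc, hεi.eq]
      exact h
    · show r * ε = r
      conv_lhs => rw [← h]
      rw [mul_assoc, hεi.eq]
      exact h
  have hΦΨ : ∀ f, Φ (Ψ f) = f := by
    intro f
    funext i j
    apply Subtype.ext
    show v i * (∑ i', ∑ j', u i' * (f i' j' : A) * v j') * u j = f i j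
    rw [Finset.mul_sum, Finset.sum_mul, Finset.sum_eq_single i, Finset.mul_sum, Finset.sum_mul,
      Finset.sum_eq_single j]
    · rw [show v i * (u i * (f i j : A) * v j) * u j = v i * u i * (f i j : A) * (v j * u j) by
        simp only [mul_assoc], hvu, hvu, if_pos rfl, if_pos rfl, (hεR _).1, (hεR _).2]
    · intro j' _ h
      rw [show v i * (u i * (f i j' : A) * v j') * u j =
        v i * u i * (f i j' : A) * (v j' * u j) by simp only [mul_assoc], hvu j', if_neg h, mul_zero]
    · simp
    · intro i' _ h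
      rw [Finset.mul_sum, Finset.sum_mul]
      exact Finset.sum_eq_zero fun j' _ => by
        rw [show v i * (u i' * (f i' j' : A) * v j') * u j =
          v i * u i' * (f i' j' : A) * (v j' * u j) by simp only [mul_assoc], hvu i,
          if_neg (Ne.symm h), zero_mul, zero_mul]
    · simp
  have hdimA : finrank k A = n * (n * finrank k R) := by
    rw [(LinearEquiv.ofLinear Φ Ψ (LinearMap.ext hΦΨ) (LinearMap.ext hΨΦ)).finrank_eq]
    simp [Module.finrank_pi_fintype]
  -- the projective left ideal
  set X := LinearMap.range (LinearMap.mulRight k ε) with hX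
  have hXmem : ∀ x, x ∈ X ↔ x * ε = x := fun x =>
    ⟨fun ⟨y, hy⟩ => by rw [← hy]; show y * ε * ε = y * ε; rw [mul_assoc, hεi.eq],
      fun h => ⟨x, h⟩⟩
  let Λ : X →ₗ[k] (Fin n → R) :=
    { toFun := fun x i => ⟨v i * (x : A), by
        rw [hRmem, ← mul_assoc, hεv, mul_assoc, (hXmem _).1 x.2]⟩
      map_add' := fun x y => by funext i; apply Subtype.ext; simp [mul_add]
      map_smul' := fun c x => by funext i; apply Subtype.ext; simp }
  let Λ' : (Fin n → R) →ₗ[k] X :=
    { toFun := fun f => ⟨∑ i, u i * (f i : A), by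
        rw [hXmem, Finset.sum_mul]
        exact Finset.sum_congr rfl fun i _ => by rw [mul_assoc, (hεR _).2]⟩
      map_add' := fun f g => by apply Subtype.ext; simp [mul_add, Finset.sum_add_distrib]
      map_smul' := fun c f => by apply Subtype.ext; simp [Finset.smul_sum] }
  have hdimX : finrank k X = n * finrank k R := by
    rw [(LinearEquiv.ofLinear Λ Λ' (LinearMap.ext fun f => by
      funext i; apply Subtype.ext
      show v i * (∑ l, u l * (f l : A)) = f i
      rw [Finset.mul_sum, Finset.sum_eq_single i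
        (fun l _ h => by rw [← mul_assoc, hvu, if_neg (Ne.symm h), zero_mul]) (by simp),
        ← mul_assoc, hvu, if_pos rfl, (hεR _).1]) (LinearMap.ext fun x => by
      apply Subtype.ext
      show ∑ i, u i * (v i * (x : A)) = x
      simp only [← mul_assoc, ← Finset.sum_mul, huv, one_mul])).finrank_eq]
    simp [Module.finrank_pi_fintype]
  -- the corner has dimension at most two
  have hRmul : ∀ x ∈ R, ∀ y ∈ R, x * y ∈ R := fun x hx y hy => by
    rw [hRmem, ← mul_assoc, (hεR ⟨x, hx⟩).1, mul_assoc, (hεR ⟨y, hy⟩).2]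
  set cR : Submodule k A :=
    Submodule.span k ((fun q : A × A => q.1 * q.2 - q.2 * q.1) '' ((R : Set A) ×ˢ (R : Set A)))
    with hcR
  have hcR_mem : ∀ x ∈ R, ∀ y ∈ R, x * y - y * x ∈ cR := fun x hx y hy =>
    Submodule.subset_span ⟨(x, y), ⟨hx, hy⟩, rfl⟩
  let τ : A →ₗ[k] A :=
    { toFun := fun x => ∑ i, v i * x * u i
      map_add' := fun x y => by simp [mul_add, add_mul, Finset.sum_add_distrib]
      map_smul' := fun c x => by simp [Finset.smul_sum] }
  have hτR : ∀ r ∈ R, τ r - r ∈ cR := by
    intro r hr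
    have e : r = ∑ i, (ε * u i) * (v i * r) := by
      rw [show ∑ i, ε * u i * (v i * r) = ε * (∑ i, u i * v i) * r by
        simp only [Finset.mul_sum, Finset.sum_mul, mul_assoc], huv, mul_one, (hεR ⟨r, hr⟩).1]
    have e' : τ r - r = ∑ i, ((v i * r) * (ε * u i) - (ε * u i) * (v i * r)) := by
      rw [Finset.sum_sub_distrib, ← e]
      congr 1
      show ∑ i, v i * r * u i = _
      refine Finset.sum_congr rfl fun i _ => ?_
      rw [mul_assoc (v i) r (ε * u i), ← mul_assoc r ε, (hεR ⟨r, hr⟩).2, mul_assoc]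
    rw [e']
    refine Submodule.sum_mem _ fun i _ => hcR_mem _ ?_ _ ?_
    · rw [hRmem, ← mul_assoc, hεv, mul_assoc (v i), (hεR ⟨r, hr⟩).2]
    · rw [hRmem, ← mul_assoc, hεi.eq, mul_assoc, huε]
  have hτc : ∀ x ∈ commSub k A, τ x ∈ cR := by
    intro x hx
    refine (Submodule.span_le.2 ?_ : commSub k A ≤ cR.comap τ) hx
    rintro _ ⟨⟨x, y⟩, rfl⟩
    show τ (x * y - y * x) ∈ cR
    rw [map_sub]
    have e : ∀ x y : A, τ (x * y) = ∑ i, ∑ j, (v i * x * u j) * (v j * y * u i) := by
      intro x y
      show ∑ i, v i * (x * y) * u i = _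
      refine Finset.sum_congr rfl fun i _ => ?_
      calc v i * (x * y) * u i = v i * x * (∑ j, u j * v j) * (y * u i) := by
            rw [huv, mul_one]; simp only [mul_assoc]
        _ = _ := by
            simp only [Finset.mul_sum, Finset.sum_mul, mul_assoc]
    rw [e x y, e y x, Finset.sum_comm (f := fun i j => (v i * y * u j) * (v j * x * u i)),
      ← Finset.sum_sub_distrib]
    refine Submodule.sum_mem _ fun i _ => ?_
    rw [← Finset.sum_sub_distrib]
    exact Submodule.sum_mem _ fun j _ => hcR_mem _ (hvau _ _ _) _ (hvau _ _ _)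
  have hRker : ∀ r ∈ R, r ∈ commSub k A → r ∈ cR := fun r hr hr' => by
    have := Submodule.sub_mem _ (hτc r hr') (hτR r hr)
    simpa using this
  exact ⟨ε, hεi, hεπ', hdimA, hdimX, hRker⟩

theorem mem_corner {ε : A} (hε : IsIdempotentElem ε) {x : A} :
    x ∈ corner k ε ↔ ε * x * ε = x := by
  constructor
  · rintro ⟨y, rfl⟩
    show ε * (ε * (y * ε)) * ε = ε * (y * ε)
    simp only [← mul_assoc, hε.eq]
    simp only [mul_assoc, hε.eq]
  · intro h
    exact ⟨x, (mul_assoc _ _ _).symm.trans h⟩

theorem corner_unit {ε : A} (hε : IsIdempotentElem ε) {x : A} (hx : x ∈ corner k ε) :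
    ε * x = x ∧ x * ε = x := by
  have h := (mem_corner hε).1 hx
  constructor
  · conv_lhs => rw [← h]
    simp only [← mul_assoc, hε.eq]
    exact h
  · conv_lhs => rw [← h]
    rw [mul_assoc, hε.eq]
    exact h

theorem pow_mem_of_mul_mem {N : Submodule k A} (hNN : N * N ≤ N) :
    ∀ i : ℕ, 1 ≤ i → N ^ i ≤ N := by
  intro i hi
  induction i, hi using Nat.le_induction with
  | base => rw [pow_one]
  | succ i hi ih => rw [pow_succ]; exact (mul_le_mul' ih le_rfl).trans hNN

/-- A step of the radical filtration that is at most one dimensional stays so. -/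
theorem filtration_step {N : Submodule k A} (hNN : N * N ≤ N) {i : ℕ} {b : A}
    (hb : b ∈ N ^ (i + 2)) (h : N ^ (i + 2) ≤ Submodule.span k {b} ⊔ N ^ (i + 3)) :
    ∃ b' ∈ N ^ (i + 3), N ^ (i + 3) ≤ Submodule.span k {b'} ⊔ N ^ (i + 4) := by
  classical
  by_cases hall : ∀ x ∈ N ^ (i + 1), ∀ y ∈ N, x * y ∈ N ^ (i + 3)
  · have hle : N ^ (i + 2) ≤ N ^ (i + 3) := by
      rw [pow_succ N (i + 1), Submodule.mul_le]
      exact hall
    refine ⟨0, Submodule.zero_mem _, le_sup_of_le_right ?_⟩
    calc N ^ (i + 3) = N ^ (i + 2) * N := pow_succ N (i + 2)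
      _ ≤ N ^ (i + 3) * N := mul_le_mul' hle le_rfl
      _ = N ^ (i + 4) := (pow_succ N (i + 3)).symm
  · push Not at hall
    obtain ⟨x, hx, y, hy, hxy⟩ := hall
    have hxy' : x * y ∈ N ^ (i + 2) := by
      rw [pow_succ N (i + 1)]; exact Submodule.mul_mem_mul hx hy
    have hgen : N ^ (i + 2) ≤ Submodule.span k {x * y} ⊔ N ^ (i + 3) := by
      obtain ⟨u, hu, w, hw, huw⟩ := Submodule.mem_sup.1 (h hxy')
      obtain ⟨c, rfl⟩ := Submodule.mem_span_singleton.1 hu
      have hc : c ≠ 0 := fun hc => hxy (by rw [← huw, hc, zero_smul, zero_add]; exact hw)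
      refine h.trans (sup_le ((Submodule.span_singleton_le_iff_mem _ _).2 ?_) le_sup_right)
      have : b = c⁻¹ • (x * y) - c⁻¹ • w := by
        rw [← huw, smul_add, smul_smul, inv_mul_cancel₀ hc, one_smul, add_sub_cancel_right]
      rw [this]
      exact Submodule.sub_mem _ (Submodule.smul_mem _ _ (Submodule.mem_sup_left
        (Submodule.mem_span_singleton_self _))) (Submodule.smul_mem _ _ (Submodule.mem_sup_right hw))
    refine ⟨x * y * y, ?_, ?_⟩
    · rw [pow_succ N (i + 2)]; exact Submodule.mul_mem_mul hxy' hy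
    rw [pow_succ' N (i + 2), Submodule.mul_le]
    intro a ha w hw
    obtain ⟨u, hu, r, hr, rfl⟩ := Submodule.mem_sup.1 (hgen hw)
    obtain ⟨c, rfl⟩ := Submodule.mem_span_singleton.1 hu
    rw [mul_add, mul_smul_comm]
    refine Submodule.add_mem _ (Submodule.smul_mem _ _ ?_) (Submodule.mem_sup_right ?_)
    · have hax : a * x ∈ N ^ (i + 2) := by
        rw [pow_succ' N (i + 1)]; exact Submodule.mul_mem_mul ha hx
      obtain ⟨u, hu, r', hr', he⟩ := Submodule.mem_sup.1 (hgen hax)
      obtain ⟨c', rfl⟩ := Submodule.mem_span_singleton.1 hu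
      rw [← mul_assoc, ← he, add_mul, smul_mul_assoc]
      refine Submodule.add_mem _ (Submodule.mem_sup_left
        (Submodule.mem_span_singleton.2 ⟨c', rfl⟩)) (Submodule.mem_sup_right ?_)
      rw [pow_succ N (i + 3)]
      exact Submodule.mul_mem_mul hr' hy
    · rw [pow_succ' N (i + 3)]
      exact Submodule.mul_mem_mul ha hr

/-- A local symmetric algebra whose cocenter has dimension at most four is commutative. -/
theorem local_commutative [FiniteDimensional k A] {n : ℕ} [NeZero n]
    (π : A →ₐ[k] Matrix (Fin n) (Fin n) k) {m : ℕ} (hm : (LinearMap.ker π.toLinearMap) ^ m = ⊥)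
    (t : A →ₗ[k] k) (hts : ∀ a b : A, t (a * b) = t (b * a))
    (htn : ∀ a : A, (∀ b, t (a * b) = 0) → a = 0)
    {ε : A} (hε : IsIdempotentElem ε) (hεπ : π ε = Matrix.single 0 0 1)
    (hK : finrank k (corner k ε) ≤ finrank k (commOn (corner k ε)) + 4) :
    commOn (corner k ε) = ⊥ := by
  classical
  set R := corner k ε with hR
  set L := LinearMap.ker π.toLinearMap with hL
  set N : Submodule k A := R ⊓ L with hN
  set cR := commOn R with hcR
  have hLmem : ∀ x, x ∈ L ↔ π x = 0 := fun x => Iff.rfl
  have hεR : ε ∈ R := (mem_corner hε).2 (by rw [hε.eq, hε.eq])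
  have hRmul : ∀ x ∈ R, ∀ y ∈ R, x * y ∈ R := fun x hx y hy => by
    rw [mem_corner hε, ← mul_assoc, (corner_unit hε hx).1, mul_assoc, (corner_unit hε hy).2]
  have hNN : N * N ≤ N := by
    rw [Submodule.mul_le]
    intro x hx y hy
    exact ⟨hRmul x hx.1 y hy.1, show π (x * y) = 0 by rw [map_mul, (hLmem x).1 hx.2, zero_mul]⟩
  have hdec : ∀ r ∈ R, ∃ c : k, r - c • ε ∈ N := by
    intro r hr
    refine ⟨π r 0 0, Submodule.sub_mem _ hr (Submodule.smul_mem _ _ hεR), ?_⟩
    show π (r - π r 0 0 • ε) = 0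
    rw [map_sub, map_smul, hεπ]
    conv_lhs => arg 1; rw [← (mem_corner hε).1 hr, map_mul, map_mul, hεπ,
      Matrix.single_mul_mul_single]
    simp
  have hexp : ∀ x ∈ R, ∀ y ∈ R, ∀ c c' : k, x * y - y * x =
      (x - c • ε) * (y - c' • ε) - (y - c' • ε) * (x - c • ε) := by
    intro x hx y hy c c'
    simp only [mul_sub, sub_mul, smul_mul_assoc, mul_smul_comm, smul_sub, smul_smul,
      (corner_unit hε hx).1, (corner_unit hε hx).2, (corner_unit hε hy).1, (corner_unit hε hy).2,
      hε.eq]
    rw [mul_comm c c']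
    abel
  have hcRN : cR ≤ N * N := by
    refine Submodule.span_le.2 ?_
    rintro _ ⟨⟨x, y⟩, ⟨hx, hy⟩, rfl⟩
    obtain ⟨c, hc⟩ := hdec x hx
    obtain ⟨c', hc'⟩ := hdec y hy
    show x * y - y * x ∈ N * N
    rw [hexp x hx y hy c c']
    exact Submodule.sub_mem _ (Submodule.mul_mem_mul hc hc') (Submodule.mul_mem_mul hc' hc)
  -- it is enough that `N` is commutative
  suffices hcomm : ∀ x ∈ N, ∀ y ∈ N, x * y = y * x by
    refine le_bot_iff.1 (Submodule.span_le.2 ?_)
    rintro _ ⟨⟨x, y⟩, ⟨hx, hy⟩, rfl⟩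
    obtain ⟨c, hc⟩ := hdec x hx
    obtain ⟨c', hc'⟩ := hdec y hy
    show x * y - y * x ∈ (⊥ : Submodule k A)
    rw [Submodule.mem_bot, hexp x hx y hy c c', hcomm _ hc _ hc', sub_self]
  -- the symmetric form
  have htc : ∀ v ∈ cR, t v = 0 := fun v hv => by
    refine (Submodule.span_le.2 ?_ : cR ≤ LinearMap.ker t) hv
    rintro _ ⟨q, -, rfl⟩
    simp only [SetLike.mem_coe, LinearMap.mem_ker, map_sub, hts q.1 q.2, sub_self]
  have hnd : ∀ r ∈ R, (∀ s ∈ R, t (r * s) = 0) → r = 0 := by
    intro r hr h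
    refine htn r fun a => ?_
    obtain ⟨h1, h2⟩ := corner_unit hε hr
    have key : t (r * a) = t (r * (ε * a * ε)) := by
      calc t (r * a) = t (ε * (r * (ε * a))) := by
            rw [← mul_assoc r, h2, ← mul_assoc ε, h1]
        _ = t (r * (ε * a) * ε) := hts _ _
        _ = t (r * (ε * a * ε)) := by rw [mul_assoc]
    rw [key]
    exact h _ ((mem_corner hε).2 (by
      simp only [← mul_assoc, hε.eq]
      simp only [mul_assoc, hε.eq]))
  have hNm : N ^ (m + 1) = ⊥ := le_bot_iff.1 (by
    calc N ^ (m + 1) ≤ L ^ (m + 1) := by gcongr; exact inf_le_right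
      _ = ⊥ := by rw [pow_succ, hm, Submodule.bot_mul])
  -- dimensions
  have hεN : ε ∉ N := fun h => by
    have := congrFun (congrFun ((hLmem ε).1 h.2) 0) 0
    rw [hεπ] at this
    simp at this
  have hRdim : finrank k R = finrank k N + 1 := by
    have hεne : ε ≠ 0 := fun h => hεN (h ▸ N.zero_mem)
    have hsup : Submodule.span k {ε} ⊔ N = R := by
      refine le_antisymm (sup_le ((Submodule.span_singleton_le_iff_mem _ _).2 hεR) inf_le_left) ?_
      intro r hr
      obtain ⟨c, hc⟩ := hdec r hr
      exact Submodule.mem_sup.2 ⟨c • ε, Submodule.mem_span_singleton.2 ⟨c, rfl⟩, r - c • ε, hc,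
        by abel⟩
    have hinf : Submodule.span k {ε} ⊓ N = ⊥ := by
      rw [Submodule.eq_bot_iff]
      rintro v ⟨hv, hvN⟩
      obtain ⟨c, rfl⟩ := Submodule.mem_span_singleton.1 hv
      by_contra hne
      have hc : c ≠ 0 := fun h => hne (by rw [h, zero_smul])
      exact hεN (by simpa [smul_smul, inv_mul_cancel₀ hc] using N.smul_mem c⁻¹ hvN)
    have := Submodule.finrank_sup_add_finrank_inf_eq (Submodule.span k {ε}) N
    rw [hsup, hinf, finrank_bot, add_zero, finrank_span_singleton hεne] at this
    omega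
  -- generation by elements modulo `N²`
  have hgen : ∀ S : Submodule k A, S ≤ N → N ≤ S ⊔ N * N → (∀ x ∈ S, ∀ y ∈ S, x * y = y * x) →
      ∀ x ∈ N, ∀ y ∈ N, x * y = y * x := by
    intro S hSN hS hScomm
    set gens : Set A := (S : Set A) with hgens
    set K : Submodule k A := ⨆ i : ℕ, S ^ (i + 1) with hK'
    have key : ∀ l i : ℕ, i + l = m → N ^ (i + 1) ≤ K := by
      have hstep : ∀ i : ℕ, N ^ (i + 1) ≤ S ^ (i + 1) ⊔ N ^ (i + 2) := by
        intro i
        induction i with
        | zero => rw [pow_one, pow_one, pow_two]; exact hS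
        | succ i ih =>
          calc N ^ (i + 2) = N ^ (i + 1) * N := pow_succ N (i + 1)
            _ ≤ (S ^ (i + 1) ⊔ N ^ (i + 2)) * N := mul_le_mul' ih le_rfl
            _ = S ^ (i + 1) * N ⊔ N ^ (i + 2) * N := Submodule.sup_mul _ _ _
            _ ≤ S ^ (i + 2) ⊔ N ^ (i + 3) := by
              refine sup_le ?_ (le_sup_of_le_right (pow_succ N (i + 2)).ge)
              refine le_trans (mul_le_mul' le_rfl hS) ?_
              rw [Submodule.mul_sup]
              refine sup_le (le_sup_of_le_left (pow_succ S (i + 1)).ge) (le_sup_of_le_right ?_)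
              calc S ^ (i + 1) * (N * N) ≤ N ^ (i + 1) * (N * N) := by
                    gcongr
                _ = N ^ (i + 3) := by rw [← pow_two, ← pow_add]
      intro l
      induction l with
      | zero => intro i hi; rw [show i = m by omega, hNm]; exact bot_le
      | succ l ih =>
        intro i hi
        exact (hstep i).trans (sup_le (le_iSup (fun i : ℕ => S ^ (i + 1)) i) (ih (i + 1) (by omega)))
    have hNK : N ≤ K := by simpa using key m 0 (by omega)
    have h1 : ∀ i : ℕ, ∀ x ∈ S, ∀ y ∈ S ^ (i + 1), x * y = y * x := by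
      intro i
      induction i with
      | zero => intro x hx y hy; rw [pow_one] at hy; exact hScomm x hx y hy
      | succ i ih =>
        intro x hx y hy
        rw [pow_succ] at hy
        induction hy using Submodule.mul_induction_on' with
        | mem_mul_mem a ha b hb =>
          rw [← mul_assoc, ih x hx a ha, mul_assoc, hScomm x hx b hb, ← mul_assoc]
        | add a _ b _ ha hb => rw [mul_add, add_mul, ha, hb]
    have h2 : ∀ j : ℕ, ∀ x ∈ S ^ (j + 1), ∀ y ∈ K, x * y = y * x := by
      intro j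
      induction j with
      | zero =>
        intro x hx y hy
        rw [pow_one] at hx
        induction hy using Submodule.iSup_induction' with
        | mem i y hy => exact h1 i x hx y hy
        | zero => simp
        | add a b _ _ ha hb => rw [mul_add, add_mul, ha, hb]
      | succ j ih =>
        intro x hx y hy
        rw [pow_succ] at hx
        induction hx using Submodule.mul_induction_on' with
        | mem_mul_mem a ha b hb =>
          have hb' : b * y = y * b := by
            induction hy using Submodule.iSup_induction' with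
            | mem i y hy => exact h1 i b hb y hy
            | zero => simp
            | add a b _ _ ha hb => rw [mul_add, add_mul, ha, hb]
          rw [mul_assoc, hb', ← mul_assoc, ih a ha y hy, mul_assoc]
        | add a _ b _ ha hb => rw [mul_add, add_mul, ha, hb]
    intro x hx y hy
    have hxK := hNK hx
    clear hx
    induction hxK using Submodule.iSup_induction' with
    | mem j x hx => exact h2 j x hx y (hNK hy)
    | zero => simp
    | add a b _ _ ha hb => rw [mul_add, add_mul, ha, hb]
  have hN2 : finrank k ↥(N * N) ≤ finrank k N := Submodule.finrank_mono hNN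
  have hcN2 : finrank k cR ≤ finrank k ↥(N * N) := Submodule.finrank_mono hcRN
  by_cases hone : ∃ t₀ ∈ N, N ≤ Submodule.span k {t₀} ⊔ N * N
  · obtain ⟨t₀, ht₀, hsp⟩ := hone
    refine hgen _ ((Submodule.span_singleton_le_iff_mem _ _).2 ht₀) hsp fun x hx y hy => ?_
    obtain ⟨c, rfl⟩ := Submodule.mem_span_singleton.1 hx
    obtain ⟨c', rfl⟩ := Submodule.mem_span_singleton.1 hy
    simp only [smul_mul_assoc, mul_smul_comm, smul_smul, mul_comm c c']
  by_cases hz2 : N * N ≤ cR
  · have h0 : ∀ v ∈ N * N, v = 0 := by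
      intro v hv
      refine hnd v (hNN hv).1 fun s hs => ?_
      obtain ⟨c, hc⟩ := hdec s hs
      have hsplit : v * s = c • v + v * (s - c • ε) := by
        rw [mul_sub, mul_smul_comm, (corner_unit hε (hNN hv).1).2]; abel
      rw [hsplit, map_add, map_smul, htc v (hz2 hv),
        htc _ (hz2 (Submodule.mul_mem_mul (hNN hv) hc)), smul_zero, add_zero]
    intro x hx y hy
    rw [h0 _ (Submodule.mul_mem_mul hx hy), h0 _ (Submodule.mul_mem_mul hy hx)]
  -- now `N/N²` has dimension two and `cR` has codimension one in `N²`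
  have hlt : finrank k cR < finrank k ↥(N * N) :=
    Submodule.finrank_lt_finrank_of_lt (lt_of_le_not_ge hcRN hz2)
  have hpick : ∀ z ∈ N, z ∉ N * N → ∃ y ∈ N, N ≤ Submodule.span k {z, y} ⊔ N * N := by
    intro z hz hzn
    have hnot : ¬ N ≤ Submodule.span k {z} ⊔ N * N := fun h => hone ⟨z, hz, h⟩
    obtain ⟨y, hy, hyn⟩ := SetLike.not_le_iff_exists.1 hnot
    refine ⟨y, hy, ?_⟩
    have hle : Submodule.span k {z, y} ⊔ N * N ≤ N :=
      sup_le (Submodule.span_le.2 (by
        rintro a (rfl | rfl)
        · exact hz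
        · exact hy)) hNN
    refine (Submodule.eq_of_le_of_finrank_le hle ?_).ge
    have h1 : N * N < Submodule.span k {z} ⊔ N * N := lt_of_le_not_ge le_sup_right fun h =>
      hzn (h (Submodule.mem_sup_left (Submodule.mem_span_singleton_self z)))
    have h2 : Submodule.span k {z} ⊔ N * N < Submodule.span k {z, y} ⊔ N * N :=
      lt_of_le_not_ge (sup_le_sup_right (Submodule.span_mono (by simp)) _) fun h =>
        hyn (h (Submodule.mem_sup_left (Submodule.subset_span (by simp))))
    have := Submodule.finrank_lt_finrank_of_lt h1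
    have := Submodule.finrank_lt_finrank_of_lt h2
    omega
  -- the annihilator of `N²`
  let Φ : R →ₗ[k] Module.Dual k ↥(N * N) :=
    { toFun := fun r =>
        { toFun := fun v => t ((r : A) * (v : A))
          map_add' := fun v w => by simp [mul_add]
          map_smul' := fun c v => by simp }
      map_add' := fun r s => by ext v; simp [add_mul]
      map_smul' := fun c r => by ext v; simp }
  set W : Submodule k A := (LinearMap.ker Φ).map R.subtype with hW
  have hWmem : ∀ v, v ∈ W ↔ v ∈ R ∧ ∀ w ∈ N * N, t (v * w) = 0 := by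
    intro v
    constructor
    · rintro ⟨r, hr, rfl⟩
      exact ⟨r.2, fun w hw => LinearMap.congr_fun hr ⟨w, hw⟩⟩
    · rintro ⟨hv, h⟩
      exact ⟨⟨v, hv⟩, LinearMap.ext fun w => h w w.2, rfl⟩
  have hW3 : 3 ≤ finrank k W := by
    rw [hW, ← (Submodule.equivMapOfInjective R.subtype R.injective_subtype _).finrank_eq]
    have h1 := LinearMap.finrank_range_add_finrank_ker Φ
    have h2 := Submodule.finrank_le (LinearMap.range Φ)
    rw [Subspace.dual_finrank_eq] at h2
    have h3 : finrank k ↥(N * N) + 2 ≤ finrank k N := by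
      obtain ⟨t₁, ht₁, ht₁n⟩ : ∃ t₁ ∈ N, t₁ ∉ (N * N : Submodule k A) := by
        by_contra h
        push Not at h
        exact hone ⟨0, N.zero_mem, fun x hx => Submodule.mem_sup_right (h x hx)⟩
      obtain ⟨y, hy, hyn⟩ := SetLike.not_le_iff_exists.1 fun h => hone ⟨t₁, ht₁, h⟩
      have h1 : N * N < Submodule.span k {t₁} ⊔ N * N := lt_of_le_not_ge le_sup_right fun h =>
        ht₁n (h (Submodule.mem_sup_left (Submodule.mem_span_singleton_self t₁)))
      have h2 : Submodule.span k {t₁} ⊔ N * N < N := lt_of_le_not_ge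
        (sup_le ((Submodule.span_singleton_le_iff_mem _ _).2 ht₁) hNN) fun h => hyn (h hy)
      have := Submodule.finrank_lt_finrank_of_lt h1
      have := Submodule.finrank_lt_finrank_of_lt h2
      omega
    omega
  have hWc : ∀ v ∈ W, ∀ x ∈ R, v * x = x * v := by
    intro v hv x hx
    obtain ⟨hvR, hvt⟩ := (hWmem v).1 hv
    refine sub_eq_zero.1 (hnd _ (Submodule.sub_mem _ (hRmul _ hvR _ hx) (hRmul _ hx _ hvR))
      fun y hy => ?_)
    have h := hvt _ (hcRN (Submodule.subset_span ⟨(x, y), ⟨hx, hy⟩, rfl⟩))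
    simp only [mul_sub, map_sub] at h
    rw [sub_mul, map_sub, mul_assoc v, ← h]
    congr 1
    rw [mul_assoc x, hts x, mul_assoc]
  have hWN : ∀ v ∈ W, v ∈ N := by
    intro v hv
    obtain ⟨hvR, hvt⟩ := (hWmem v).1 hv
    obtain ⟨c, hc⟩ := hdec v hvR
    by_cases hc0 : c = 0
    · simpa [hc0] using hc
    exfalso
    -- descend along the filtration
    have key : ∀ l i : ℕ, 2 ≤ i → m + 1 ≤ i + l → ∀ w ∈ N ^ i, t w = 0 := by
      intro l
      induction l with
      | zero =>
        intro i hi hl w hw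
        have : N ^ i = ⊥ := by
          rw [show i = (m + 1) + (i - (m + 1)) by omega, pow_add, hNm, Submodule.bot_mul]
        rw [this, Submodule.mem_bot] at hw
        rw [hw, map_zero]
      | succ l ih =>
        intro i hi hl w hw
        have hwN2 : w ∈ N * N := by
          obtain ⟨j, rfl⟩ := Nat.exists_eq_add_of_le hi
          rw [pow_add, pow_two] at hw
          rcases Nat.eq_zero_or_pos j with rfl | hj
          · simpa using hw
          · exact (mul_le_mul' le_rfl (pow_mem_of_mul_mem hNN j hj)).trans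
              ((mul_le_mul' hNN le_rfl).trans le_rfl) hw
        have h1 := hvt w hwN2
        have h2 : t ((v - c • ε) * w) = 0 := ih (i + 1) (by omega) (by omega) _
          (by rw [pow_succ']; exact Submodule.mul_mem_mul hc hw)
        rw [sub_mul, smul_mul_assoc, (corner_unit hε (hNN hwN2).1).1, map_sub, map_smul, h1,
          zero_sub, neg_eq_zero, smul_eq_mul, mul_eq_zero] at h2
        exact h2.resolve_left hc0
    apply hz2
    intro w hw
    have hz : ∀ v ∈ N * N, v = 0 := fun u hu => hnd u (hNN hu).1 fun s hs => by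
      obtain ⟨d, hd⟩ := hdec s hs
      have h1 := key (m + 1) 2 le_rfl (by omega) u (by rw [pow_two]; exact hu)
      have h2 := key (m + 1) 2 le_rfl (by omega) (u * (s - d • ε))
        (by rw [pow_two]; exact Submodule.mul_mem_mul (hNN hu) hd)
      rw [mul_sub, mul_smul_comm, (corner_unit hε (hNN hu).1).2, map_sub, map_smul, h1,
        smul_zero, sub_zero] at h2
      exact h2
    rw [hz w hw]
    exact Submodule.zero_mem _
  by_cases hWN2 : ∃ v ∈ W, v ∉ (N * N : Submodule k A)
  · obtain ⟨z, hz, hzn⟩ := hWN2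
    obtain ⟨y, hy, hsp⟩ := hpick z (hWN z hz) hzn
    refine hgen (Submodule.span k {z, y}) (Submodule.span_le.2 ?_) hsp ?_
    · rintro a (rfl | rfl)
      · exact hWN _ hz
      · exact hy
    · intro a ha b hb
      obtain ⟨c1, c2, rfl⟩ := Submodule.mem_span_pair.1 ha
      obtain ⟨d1, d2, rfl⟩ := Submodule.mem_span_pair.1 hb
      simp only [mul_add, add_mul, smul_mul_assoc, mul_smul_comm, hWc z hz y hy.1]
      module
  push Not at hWN2
  exfalso
  -- the last nonzero power
  have hex : ∃ i, N ^ i = ⊥ := ⟨m + 1, hNm⟩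
  set L₀ := Nat.find hex with hL₀
  have hL₀b : N ^ L₀ = ⊥ := Nat.find_spec hex
  have hWle : finrank k W ≤ finrank k ↥(N * N) := Submodule.finrank_mono hWN2
  have hL3 : 4 ≤ L₀ := by
    by_contra h
    have h3 : N ^ 3 = ⊥ := by
      rw [show 3 = L₀ + (3 - L₀) by omega, pow_add, hL₀b, Submodule.bot_mul]
    have hsmall : finrank k ↥(N * N) ≤ finrank k k := by
      refine LinearMap.finrank_le_finrank_of_injective (f := t.comp (N * N).subtype) ?_
      rw [injective_iff_map_eq_zero]
      intro v hv
      apply Subtype.ext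
      refine hnd (v : A) (hNN v.2).1 fun s hs => ?_
      obtain ⟨d, hd⟩ := hdec s hs
      have h0 : (v : A) * (s - d • ε) = 0 := by
        have : (v : A) * (s - d • ε) ∈ N ^ 3 := by
          rw [pow_succ, pow_two]; exact Submodule.mul_mem_mul v.2 hd
        rwa [h3, Submodule.mem_bot] at this
      rw [mul_sub, mul_smul_comm, (corner_unit hε (hNN v.2).1).2, sub_eq_zero] at h0
      rw [h0, map_smul, show t (v : A) = 0 from hv, smul_zero]
    rw [Module.finrank_self] at hsmall
    omega
  have hnz : N ^ (L₀ - 1) ≠ ⊥ := Nat.find_min hex (by omega)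
  obtain ⟨s, hs, hs0⟩ := Submodule.exists_mem_ne_zero_of_ne_bot hnz
  have hsocN : ∀ w ∈ N ^ (L₀ - 1), ∀ x ∈ N, w * x = 0 := fun w hw x hx => by
    have : w * x ∈ N ^ (L₀ - 1 + 1) := by rw [pow_succ]; exact Submodule.mul_mem_mul hw hx
    rwa [show L₀ - 1 + 1 = L₀ by omega, hL₀b, Submodule.mem_bot] at this
  have hsR : s ∈ R := (pow_mem_of_mul_mem hNN _ (by omega) hs).1
  have hts0 : t s ≠ 0 := by
    intro h
    refine hs0 (hnd s hsR fun r hr => ?_)
    obtain ⟨d, hd⟩ := hdec r hr
    have h0 := hsocN s hs _ hd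
    rw [mul_sub, mul_smul_comm, (corner_unit hε hsR).2, sub_eq_zero] at h0
    rw [h0, map_smul, h, smul_zero]
  have hanti : ∀ i : ℕ, 1 ≤ i → ∀ j : ℕ, N ^ (i + j) ≤ N ^ i := by
    intro i hi j
    induction j with
    | zero => exact le_rfl
    | succ j ih =>
      refine le_trans ?_ ih
      obtain ⟨a, ha⟩ : ∃ a, i + j = a + 1 := ⟨i + j - 1, by omega⟩
      rw [show i + (j + 1) = a + 2 by omega, ha, pow_add N a 2, pow_succ N a, pow_two]
      exact mul_le_mul' le_rfl hNN
  -- `N²` is one dimensional modulo `N³`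
  obtain ⟨x₁, hx₁, hx₁n⟩ : ∃ x₁ ∈ N, x₁ ∉ (N * N : Submodule k A) := by
    by_contra h
    push Not at h
    exact hone ⟨0, N.zero_mem, fun x hx => Submodule.mem_sup_right (h x hx)⟩
  obtain ⟨y₁, hy₁, hsp₁⟩ := hpick x₁ hx₁ hx₁n
  set q := x₁ * y₁ - y₁ * x₁ with hq
  have hcq : cR ≤ Submodule.span k {q} ⊔ N ^ 3 := by
    have hbr : ∀ a ∈ N, ∀ b ∈ N, a * b - b * a ∈ Submodule.span k {q} ⊔ N ^ 3 := by
      intro a ha b hb
      obtain ⟨u, hu, u', hu', rfl⟩ := Submodule.mem_sup.1 (hsp₁ ha)
      obtain ⟨w, hw, w', hw', rfl⟩ := Submodule.mem_sup.1 (hsp₁ hb)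
      obtain ⟨c1, c2, rfl⟩ := Submodule.mem_span_pair.1 hu
      obtain ⟨d1, d2, rfl⟩ := Submodule.mem_span_pair.1 hw
      have huN : c1 • x₁ + c2 • y₁ ∈ N :=
        N.add_mem (N.smul_mem _ hx₁) (N.smul_mem _ hy₁)
      have hbN : d1 • x₁ + d2 • y₁ + w' ∈ N := hb
      have hwN : d1 • x₁ + d2 • y₁ ∈ N := N.add_mem (N.smul_mem _ hx₁) (N.smul_mem _ hy₁)
      have hA : N * N * N ≤ N ^ 3 := by rw [pow_succ, pow_two]
      have hB : N * (N * N) ≤ N ^ 3 := by rw [← mul_assoc]; exact hA
      have e : (c1 • x₁ + c2 • y₁ + u') * (d1 • x₁ + d2 • y₁ + w') -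
          (d1 • x₁ + d2 • y₁ + w') * (c1 • x₁ + c2 • y₁ + u') = (c1 * d2 - c2 * d1) • q +
          (((c1 • x₁ + c2 • y₁) * w' + u' * (d1 • x₁ + d2 • y₁ + w')) -
            ((d1 • x₁ + d2 • y₁ + w') * u' + w' * (c1 • x₁ + c2 • y₁))) := by
        simp only [hq, mul_add, add_mul, smul_mul_assoc, mul_smul_comm]
        module
      rw [e]
      refine Submodule.add_mem _ (Submodule.mem_sup_left
        (Submodule.mem_span_singleton.2 ⟨_, rfl⟩)) (Submodule.mem_sup_right ?_)
      refine Submodule.sub_mem _ (Submodule.add_mem _ ?_ ?_) (Submodule.add_mem _ ?_ ?_)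
      · exact hB (Submodule.mul_mem_mul huN hw')
      · exact hA (Submodule.mul_mem_mul hu' hbN)
      · exact hB (Submodule.mul_mem_mul hbN hu')
      · exact hA (Submodule.mul_mem_mul hw' huN)
    refine Submodule.span_le.2 ?_
    rintro _ ⟨⟨x, y⟩, ⟨hx, hy⟩, rfl⟩
    obtain ⟨c, hc⟩ := hdec x hx
    obtain ⟨c', hc'⟩ := hdec y hy
    show x * y - y * x ∈ Submodule.span k {q} ⊔ N ^ 3
    rw [hexp x hx y hy c c']
    exact hbr _ hc _ hc'
  have hs3 : s ∈ N ^ 3 := by
    obtain ⟨j, hj⟩ := Nat.exists_eq_add_of_le (show 3 ≤ L₀ - 1 by omega)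
    exact hanti 3 (by omega) j (hj ▸ hs)
  have hs2 : s ∈ N * N := by
    have := hanti 2 (by omega) 1 hs3
    rwa [pow_two] at this
  have hN2dec : N * N = cR ⊔ Submodule.span k {s} := by
    refine (Submodule.eq_of_le_of_finrank_le
      (sup_le hcRN ((Submodule.span_singleton_le_iff_mem _ _).2 hs2)) ?_).symm
    have h1 : cR < cR ⊔ Submodule.span k {s} := lt_of_le_not_ge le_sup_left fun h =>
      hts0 (htc s (h (Submodule.mem_sup_right (Submodule.mem_span_singleton_self s))))
    have := Submodule.finrank_lt_finrank_of_lt h1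
    have h3 : finrank k ↥(N * N) + 2 ≤ finrank k N := by
      have h1 : N * N < Submodule.span k {x₁} ⊔ N * N := lt_of_le_not_ge le_sup_right fun h =>
        hx₁n (h (Submodule.mem_sup_left (Submodule.mem_span_singleton_self x₁)))
      have h2 : Submodule.span k {x₁} ⊔ N * N < N := lt_of_le_not_ge
        (sup_le ((Submodule.span_singleton_le_iff_mem _ _).2 hx₁) hNN) fun h => hone ⟨x₁, hx₁, h⟩
      have := Submodule.finrank_lt_finrank_of_lt h1
      have := Submodule.finrank_lt_finrank_of_lt h2
      omega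
    omega
  have hqN : q ∈ N ^ 2 := by
    rw [pow_two]
    exact Submodule.sub_mem _ (Submodule.mul_mem_mul hx₁ hy₁) (Submodule.mul_mem_mul hy₁ hx₁)
  have hfil : ∀ i : ℕ, ∃ b ∈ N ^ (i + 2), N ^ (i + 2) ≤ Submodule.span k {b} ⊔ N ^ (i + 3) := by
    intro i
    induction i with
    | zero =>
      refine ⟨q, hqN, ?_⟩
      rw [pow_two, hN2dec]
      exact sup_le hcq ((Submodule.span_singleton_le_iff_mem _ _).2 (Submodule.mem_sup_right hs3))
    | succ i ih =>
      obtain ⟨b, hb, hle⟩ := ih
      exact filtration_step hNN hb hle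
  -- an element of `W` lies in the last two steps
  have hdeep : ∀ v ∈ W, ∀ j : ℕ, j + 2 ≤ L₀ - 2 → v ∈ N ^ (j + 2) := by
    intro v hv j
    induction j with
    | zero => intro _; rw [pow_two]; exact hWN2 v hv
    | succ j ih =>
      intro hj
      by_contra hvn
      have hvj := ih (by omega)
      obtain ⟨b, hb, hle⟩ := hfil j
      have hvspan : N ^ (j + 2) ≤ Submodule.span k {v} ⊔ N ^ (j + 3) := by
        obtain ⟨u, hu, w, hw, huw⟩ := Submodule.mem_sup.1 (hle hvj)
        obtain ⟨c, rfl⟩ := Submodule.mem_span_singleton.1 hu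
        have hc : c ≠ 0 := fun hc => hvn (by rw [← huw, hc, zero_smul, zero_add]; exact hw)
        refine hle.trans (sup_le ((Submodule.span_singleton_le_iff_mem _ _).2 ?_) le_sup_right)
        have : b = c⁻¹ • v - c⁻¹ • w := by
          rw [← huw, smul_add, smul_smul, inv_mul_cancel₀ hc, one_smul, add_sub_cancel_right]
        rw [this]
        exact Submodule.sub_mem _ (Submodule.smul_mem _ _ (Submodule.mem_sup_left
          (Submodule.mem_span_singleton_self _))) (Submodule.smul_mem _ _ (Submodule.mem_sup_right hw))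
      obtain ⟨e, he⟩ := Nat.exists_eq_add_of_le (show j + 4 ≤ L₀ - 1 by omega)
      have hsmem : s ∈ (Submodule.span k {v} ⊔ N ^ (j + 3)) * N ^ (e + 2) := by
        refine mul_le_mul' hvspan le_rfl ?_
        rw [← pow_add, show j + 2 + (e + 2) = L₀ - 1 by omega]
        exact hs
      rw [Submodule.sup_mul] at hsmem
      have hz : N ^ (j + 3) * N ^ (e + 2) = ⊥ := by
        rw [← pow_add, show j + 3 + (e + 2) = L₀ by omega, hL₀b]
      rw [hz, sup_bot_eq] at hsmem
      apply hts0
      refine (Submodule.mul_le.2 ?_ : Submodule.span k {v} * N ^ (e + 2) ≤ LinearMap.ker t) hsmem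
      intro a ha w hw
      obtain ⟨c, rfl⟩ := Submodule.mem_span_singleton.1 ha
      have hw2 : w ∈ N * N := by
        have := hanti 2 (by omega) e (show w ∈ N ^ (2 + e) by rwa [add_comm])
        rwa [pow_two] at this
      rw [LinearMap.mem_ker, smul_mul_assoc, map_smul, ((hWmem v).1 hv).2 w hw2, smul_zero]
  have hW2 : finrank k W ≤ 2 := by
    obtain ⟨j, hj⟩ := Nat.exists_eq_add_of_le (show 4 ≤ L₀ from hL3)
    obtain ⟨b1, -, hle1⟩ := hfil j
    obtain ⟨b2, -, hle2⟩ := hfil (j + 1)
    have hbot : N ^ (j + 1 + 3) = ⊥ := by rw [show j + 1 + 3 = L₀ by omega, hL₀b]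
    rw [hbot, sup_bot_eq] at hle2
    have hle : W ≤ Submodule.span k ({b1, b2} : Finset A) := by
      refine fun v hv => (hle1.trans (sup_le ?_ (hle2.trans ?_))) (hdeep v hv j (by omega))
      · exact Submodule.span_mono (by simp)
      · exact Submodule.span_mono (by simp)
    exact (Submodule.finrank_mono hle).trans ((finrank_span_finset_le_card _).trans Finset.card_le_two)
  omega

/-- An algebra with simple top and cocenter of dimension at most four. -/
theorem simple_top_small [FiniteDimensional k A] {n : ℕ} [NeZero n]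
    (π : A →ₐ[k] Matrix (Fin n) (Fin n) k) (hπ : Function.Surjective π) {m : ℕ}
    (hm : (LinearMap.ker π.toLinearMap) ^ m = ⊥) {K : ℕ} (hK : K ≤ 4)
    (hC : finrank k (A ⧸ commSub k A) ≤ K) (t : A →ₗ[k] k)
    (hts : ∀ a b : A, t (a * b) = t (b * a)) (htn : ∀ a : A, (∀ b, t (a * b) = 0) → a = 0)
    {q : ℕ} (hdiv : ∀ ε : A, IsIdempotentElem ε →
      q ∣ finrank k (LinearMap.range (LinearMap.mulRight k ε))) :
    ∃ c : ℕ, c ≤ K ∧ finrank k A = n * (n * c) ∧ q ∣ n * c := by
  classical
  obtain ⟨ε, hε, hεπ, hA, hX, hker⟩ := corner_structure π hπ hm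
  set R := corner k ε with hR
  let q₀ : R →ₗ[k] A ⧸ commSub k A := (commSub k A).mkQ.comp R.subtype
  have hle : finrank k R ≤ finrank k (commOn R) + K := by
    have h1 := LinearMap.finrank_range_add_finrank_ker q₀
    have h2 := (Submodule.finrank_le (LinearMap.range q₀)).trans hC
    have h3 : finrank k (LinearMap.ker q₀) ≤ finrank k (commOn R) := by
      refine LinearMap.finrank_le_finrank_of_injective
        (f := LinearMap.codRestrict (commOn R) (R.subtype.comp (LinearMap.ker q₀).subtype)
          fun r => hker _ r.1.2 ((Submodule.Quotient.mk_eq_zero _).1 r.2)) ?_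
      intro a b h
      have := congrArg Subtype.val h
      exact Subtype.ext (Subtype.ext this)
    omega
  have h0 := local_commutative π hm t hts htn hε hεπ (hle.trans (Nat.add_le_add_left hK _))
  rw [h0, finrank_bot, zero_add] at hle
  exact ⟨_, hle, hA, hX ▸ hdiv ε hε⟩

end

end CfsgLib.Blocks
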