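import Cfsg.Agent.Lib.Blocks.GroupAlgebra
import Cfsg.Agent.Lib.Blocks.SmallLocal
import Mathlib.LinearAlgebra.Charpoly.ToMatrix
import Mathlib.RingTheory.Nilpotent.Lemmas
import Mathlib.Algebra.CharP.Lemmas
import Mathlib.Algebra.CharP.Algebra

/-!
# Block ideals with one regular trace function
-/

namespace CfsgLib.Blocks

open Module MonoidAlgebra

set_option linter.unusedVariables false
set_option linter.unusedSimpArgs false
set_option linter.unusedSectionVars false

universe u v w

/-- Algebras with a simple top, a symmetric functional and a cocenter of dimension at most `K`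
are matrix algebras over algebras of dimension at most `C`. -/
def TopBound (k : Type u) [Field k] (K C : ℕ) : Prop :=
  ∀ (A : Type w) [Ring A] [Algebra k A] [FiniteDimensional k A] (n : ℕ) [NeZero n]
    (π : A →ₐ[k] Matrix (Fin n) (Fin n) k), Function.Surjective π →
    ∀ m : ℕ, (LinearMap.ker π.toLinearMap) ^ m = ⊥ → finrank k (A ⧸ commSub k A) ≤ K →
    ∀ t : A →ₗ[k] k, (∀ a b : A, t (a * b) = t (b * a)) →
    (∀ a : A, (∀ b, t (a * b) = 0) → a = 0) →
    ∀ q : ℕ, (∀ ε : A, IsIdempotentElem ε →
      q ∣ finrank k (LinearMap.range (LinearMap.mulRight k ε))) →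
    ∃ c : ℕ, c ≤ C ∧ finrank k A = n * (n * c) ∧ q ∣ n * c

theorem topBound_small (k : Type u) [Field k] {K : ℕ} (hK : K ≤ 4) : TopBound.{u, w} k K K :=
  fun A _ _ _ n _ π hπ m hm hC t hts htn q hdiv =>
    simple_top_small π hπ hm hK hC t hts htn hdiv

section

variable {k : Type u} [Field k] {G : Type v} [Group G] [Finite G]

local notation "KG" => MonoidAlgebra k G

/-- A block ideal with one regular trace function, given a bound for simple tops. -/
theorem groupAlgebra_of_top [IsAlgClosed k] {p : ℕ} [Fact p.Prime] [CharP k p]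
    [Fintype G] [Fintype (ConjClasses G)] [DecidableEq (ConjClasses G)]
    (S : Sylow p G) (e : KG) (he : IsIdempotentElem e) (hc : ∀ x, e * x = x * e)
    (rep : ConjClasses G → G) (hrep : ∀ C, ConjClasses.mk (rep C) = C)
    (T : Matrix (ConjClasses G) (ConjClasses G) k)
    (hT : ∀ D C, T D C = ∑ x ∈ Finset.univ.filter (fun x => ConjClasses.mk x = D),
      (e * MonoidAlgebra.of k G (rep C)).coeff x)
    {K C : ℕ} (hST : TopBound.{u, max u v} k K C)
    (hrank : finrank k (LinearMap.range (Matrix.toLin' T)) ≤ K)
    (hone : ∀ f : Fin 2 → G → k, (∀ i g h, f i (h * g * h⁻¹) = f i g) →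
      (∀ i g, f i g = ∑ x, (e * MonoidAlgebra.of k G g).coeff x * f i x) →
      (∀ i g z w, Commute z w → (∃ j : ℕ, orderOf z = p ^ j) → z * w = g → f i g = f i w) →
      ¬ LinearIndependent k f) :
    finrank k (LinearMap.range (LinearMap.mulLeft k e)) = 0 ∨
      ∃ n c : ℕ, c ≤ C ∧ finrank k (LinearMap.range (LinearMap.mulLeft k e)) = n * (n * c) ∧
        Nat.card (S : Subgroup G) ∣ n * c := by
  classical
  let I : Ideal KG := LinearMap.ker (LinearMap.toSpanSingleton KG KG e)
  have hImem : ∀ x, x ∈ I ↔ x * e = 0 := fun x => Iff.rfl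
  haveI : I.IsTwoSided := ⟨fun {a} b (ha : a * e = 0) => by
    show a * b * e = 0
    rw [mul_assoc, ← hc, ← mul_assoc, ha, zero_mul]⟩
  set q : KG →ₐ[k] KG ⧸ I := Ideal.Quotient.mkₐ k I with hqdef
  have hqs : Function.Surjective q := Ideal.Quotient.mk_surjective
  have hq0 : ∀ x, q x = 0 ↔ x * e = 0 := fun x => by
    rw [hqdef, Ideal.Quotient.mkₐ_eq_mk, Ideal.Quotient.eq_zero_iff_mem, hImem]
  have hqe : ∀ x, q (x * e) = q x := fun x => by
    rw [← sub_eq_zero, ← map_sub, hq0, sub_mul, mul_assoc, he.eq, sub_self]
  haveI : FiniteDimensional k (KG ⧸ I) := Module.Finite.of_surjective q.toLinearMap hqs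
  let Θ : (KG ⧸ I) →ₗ[k] KG :=
    (Submodule.liftQ I (LinearMap.toSpanSingleton KG KG e) le_rfl).restrictScalars k
  have hΘ : ∀ x, Θ (q x) = x * e := fun x => rfl
  have hΘi : Function.Injective Θ := by
    rw [injective_iff_map_eq_zero]
    intro a ha
    obtain ⟨x, rfl⟩ := hqs a
    rw [hΘ] at ha
    exact (hq0 x).2 ha
  have hΘr : LinearMap.range Θ = LinearMap.range (LinearMap.mulLeft k e) := by
    apply le_antisymm
    · rintro _ ⟨a, rfl⟩
      obtain ⟨x, rfl⟩ := hqs a
      exact ⟨x, (hc x).trans (hΘ x).symm⟩
    · rintro _ ⟨x, rfl⟩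
      exact ⟨q x, (hΘ x).trans (hc x).symm⟩
  rw [← hΘr, LinearMap.finrank_range_of_inj hΘi]
  let t : (KG ⧸ I) →ₗ[k] k :=
    { toFun := fun a => (Θ a).coeff 1
      map_add' := fun a b => by simp
      map_smul' := fun r a => by simp }
  have htr : ∀ x y : KG, (x * y).coeff 1 = (y * x).coeff 1 := by
    intro x y
    induction x using MonoidAlgebra.induction_linear with
    | zero => simp
    | add a b ha hb => simp [add_mul, mul_add, ha, hb]
    | single g r =>
      rw [show MonoidAlgebra.single g r = r • MonoidAlgebra.of k G g by simp, smul_mul_assoc,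
        mul_smul_comm, coeff_smul, coeff_smul, Finsupp.smul_apply, Finsupp.smul_apply,
        coeff_of_mul, coeff_mul_of, mul_one, one_mul]
  have hC : finrank k ((KG ⧸ I) ⧸ commSub k (KG ⧸ I)) ≤ K := by
    clear hST
    set C := commSub k (KG ⧸ I)
    set cls : G → (KG ⧸ I) ⧸ C := fun g => C.mkQ (q (MonoidAlgebra.of k G g)) with hcls
    have hconj : ∀ g h : G, ConjClasses.mk g = ConjClasses.mk h → cls g = cls h := by
      intro g h hgh
      obtain ⟨c, rfl⟩ := isConj_iff.1 (ConjClasses.mk_eq_mk_iff_isConj.1 hgh)
      rw [hcls]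
      apply (Submodule.Quotient.eq C).2
      have e2 : q (MonoidAlgebra.of k G g) - q (MonoidAlgebra.of k G (c * g * c⁻¹)) =
          q (MonoidAlgebra.of k G (g * c⁻¹)) * q (MonoidAlgebra.of k G c) -
          q (MonoidAlgebra.of k G c) * q (MonoidAlgebra.of k G (g * c⁻¹)) := by
        rw [← map_mul, ← map_mul, ← map_mul, ← map_mul, mul_assoc g, inv_mul_cancel, mul_one,
          mul_assoc c]
      rw [e2]
      exact comm_mem k _ _
    let L : (ConjClasses G → k) →ₗ[k] (KG ⧸ I) ⧸ C :=
      { toFun := fun f => ∑ D, f D • cls (rep D)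
        map_add' := fun f g => by simp [add_smul, Finset.sum_add_distrib]
        map_smul' := fun r f => by simp [Finset.smul_sum, smul_smul] }
    have hL : ∀ x : KG, L (classSum x) = C.mkQ (q x) := by
      intro x
      induction x using MonoidAlgebra.induction_linear with
      | zero => simp
      | add a b ha hb => simp only [map_add, ha, hb]
      | single g r =>
        show ∑ D, _ • cls (rep D) = _
        rw [Finset.sum_eq_single (ConjClasses.mk g)]
        · have : (classSum (MonoidAlgebra.single g r : KG)) (ConjClasses.mk g) = r := by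
            show ∑ h ∈ _, (MonoidAlgebra.single g r : KG).coeff h = r
            rw [Finset.sum_eq_single g] <;> simp +contextual [coeff_single, Finsupp.single_eq_of_ne]
          rw [this, hconj _ g (hrep _), hcls,
            show MonoidAlgebra.single g r = r • MonoidAlgebra.of k G g by simp, map_smul, map_smul]
        · intro D _ hD
          have : (classSum (MonoidAlgebra.single g r : KG)) D = 0 := by
            refine Finset.sum_eq_zero fun h hh => ?_
            rw [coeff_single, Finsupp.single_eq_of_ne]
            rintro rfl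
            exact hD (Finset.mem_filter.1 hh).2.symm
          rw [this, zero_smul]
        · simp
    have hLT : ∀ f, L (Matrix.toLin' T f) = L f := by
      have : L.comp (Matrix.toLin' T) = L := by
        apply LinearMap.pi_ext'
        intro D
        apply LinearMap.ext_ring
        show L (Matrix.toLin' T (Pi.single D 1)) = L (Pi.single D 1)
        have e1 : Matrix.toLin' T (Pi.single D 1) =
            classSum (e * MonoidAlgebra.of k G (rep D)) := by
          rw [Matrix.toLin'_apply, Matrix.mulVec_single_one]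
          exact funext fun D' => hT D' D
        rw [e1, hL, hc, hqe]
        show _ = ∑ D', (Pi.single D (1 : k) : ConjClasses G → k) D' • cls (rep D')
        rw [Finset.sum_eq_single D (fun D' _ h => by simp [h]) (by simp), Pi.single_eq_same,
          one_smul]
      exact fun f => LinearMap.congr_fun this f
    have hs : Function.Surjective (L.comp (LinearMap.range (Matrix.toLin' T)).subtype) := by
      intro y
      obtain ⟨a, rfl⟩ := C.mkQ_surjective y
      obtain ⟨x, rfl⟩ := hqs a
      exact ⟨⟨_, classSum x, rfl⟩, (hLT _).trans (hL x)⟩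
    exact (LinearMap.finrank_le_finrank_of_surjective hs).trans hrank
  have hsym : ∀ a b, t (a * b) = t (b * a) := by
    intro a b
    obtain ⟨x, rfl⟩ := hqs a
    obtain ⟨y, rfl⟩ := hqs b
    show (Θ (q x * q y)).coeff 1 = (Θ (q y * q x)).coeff 1
    rw [← map_mul, ← map_mul, hΘ, hΘ, mul_assoc, htr x (y * e), mul_assoc y e x, hc x,
      ← mul_assoc]
  have hndg : ∀ a, (∀ b, t (a * b) = 0) → a = 0 := by
    intro a ha
    obtain ⟨x, rfl⟩ := hqs a
    refine (hq0 x).2 (MonoidAlgebra.ext (Finsupp.ext fun g => ?_))
    have h : (Θ (q x * q (MonoidAlgebra.of k G g⁻¹))).coeff 1 = 0 := ha _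
    rw [← map_mul, hΘ, mul_assoc, ← hc, ← mul_assoc, coeff_mul_of, inv_inv, one_mul] at h
    rw [h]; rfl
  have hdiv : ∀ ε : KG ⧸ I, IsIdempotentElem ε → Nat.card (S : Subgroup G) ∣
      finrank k (LinearMap.range (LinearMap.mulRight k ε)) := by
    intro ε hε
    obtain ⟨x, rfl⟩ := hqs ε
    have hy : IsIdempotentElem (x * e) := by
      have h : q (x * x) = q x := by rw [map_mul]; exact hε.eq
      rw [← sub_eq_zero, ← map_sub, hq0, sub_mul, sub_eq_zero] at h
      show x * e * (x * e) = x * e
      rw [mul_assoc, ← mul_assoc e x e, hc x, mul_assoc x e e, he.eq, ← mul_assoc]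
      exact h
    have hmap : (LinearMap.range (LinearMap.mulRight k (q x))).map Θ =
        LinearMap.range (LinearMap.mulRight k (x * e)) := by
      apply le_antisymm
      · rintro _ ⟨_, ⟨a, rfl⟩, rfl⟩
        obtain ⟨y, rfl⟩ := hqs a
        refine ⟨y, ?_⟩
        show y * (x * e) = Θ (q y * q x)
        rw [← map_mul, hΘ, mul_assoc]
      · rintro _ ⟨y, rfl⟩
        refine ⟨q y * q x, ⟨q y, rfl⟩, ?_⟩
        show Θ (q y * q x) = y * (x * e)
        rw [← map_mul, hΘ, mul_assoc]
    rw [(Submodule.equivMapOfInjective Θ hΘi _).finrank_eq, hmap]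
    exact card_dvd_finrank_mulRight (S : Subgroup G) S.2 _ hy


  obtain ⟨r, d, π, hd, hπ, m, hm⟩ := exists_pi_quotient (k := k) (A := KG ⧸ I)
  have hr1 : r ≤ 1 := by
    by_contra hr2
    push Not at hr2
    set i0 : Fin r := ⟨0, by omega⟩ with hi0
    set i1 : Fin r := ⟨1, by omega⟩ with hi1
    have hi01 : i0 ≠ i1 := by simp [hi0, hi1]
    let τ : Fin r → (KG ⧸ I) →ₗ[k] k := fun i =>
      { toFun := fun a => (π a i).trace
        map_add' := fun a b => by simp [Matrix.trace_add]
        map_smul' := fun c a => by simp [Matrix.trace_smul] }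
    let f : Fin 2 → G → k := fun j g => τ (if j = 0 then i0 else i1) (q (MonoidAlgebra.of k G g))
    have hlin : ∀ (i : Fin r) (x : KG), τ i (q x) =
        ∑ g, x.coeff g * τ i (q (MonoidAlgebra.of k G g)) := by
      intro i x
      induction x using MonoidAlgebra.induction_linear with
      | zero => simp
      | add a b ha hb => simp [ha, hb, Finset.sum_add_distrib, add_mul]
      | single g r =>
        rw [Finset.sum_eq_single g (fun h _ hh => by
          rw [coeff_single, Finsupp.single_eq_of_ne hh, zero_mul]) (by simp),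
          coeff_single, Finsupp.single_eq_same,
          show MonoidAlgebra.single g r = r • MonoidAlgebra.of k G g by simp, map_smul, map_smul,
          smul_eq_mul]
    refine hone f (fun j g h => ?_) (fun j g => ?_) (fun j g z w hc hz hg => ?_) ?_
    · show (π (q (MonoidAlgebra.of k G (h * g * h⁻¹))) _).trace =
        (π (q (MonoidAlgebra.of k G g)) _).trace
      simp only [map_mul, Pi.mul_apply]
      rw [Matrix.trace_mul_comm, ← Matrix.mul_assoc, ← Pi.mul_apply, ← map_mul, ← map_mul,
        ← map_mul, inv_mul_cancel, map_one, map_one, map_one, Pi.one_apply, Matrix.one_mul]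
    · show τ _ (q (MonoidAlgebra.of k G g)) =
        ∑ x, (e * MonoidAlgebra.of k G g).coeff x * τ _ (q (MonoidAlgebra.of k G x))
      rw [← hlin, hc, hqe]
    · subst hg
      show (π (q (MonoidAlgebra.of k G (z * w))) _).trace =
        (π (q (MonoidAlgebra.of k G w)) _).trace
      set i := if j = 0 then i0 else i1
      set U := π (q (MonoidAlgebra.of k G z)) i with hU
      set V := π (q (MonoidAlgebra.of k G w)) i with hV
      haveI := hd i
      haveI : CharP (Matrix (Fin (d i)) (Fin (d i)) k) p := charP_of_injective_algebraMap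
        (FaithfulSMul.algebraMap_injective k (Matrix (Fin (d i)) (Fin (d i)) k)) p
      obtain ⟨s, hs⟩ := hz
      have hUV : Commute U V := by
        have h1 : π (q (MonoidAlgebra.of k G z)) * π (q (MonoidAlgebra.of k G w)) =
            π (q (MonoidAlgebra.of k G w)) * π (q (MonoidAlgebra.of k G z)) := by
          simp only [← map_mul, hc.eq]
        exact congrFun h1 i
      have hUp : U ^ p ^ s = 1 := by
        rw [hU, ← Pi.pow_apply, ← map_pow, ← map_pow, ← map_pow, ← hs, pow_orderOf_eq_one,
          map_one, map_one, map_one, Pi.one_apply]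
      have hnil : IsNilpotent ((U - 1) * V) := by
        refine Commute.isNilpotent_mul_right (hUV.sub_left (Commute.one_left V)) ⟨p ^ s, ?_⟩
        rw [sub_pow_char_pow_of_commute _ _ (Commute.one_right U), hUp, one_pow, sub_self]
      have htr0 := (Matrix.isNilpotent_trace_of_isNilpotent hnil).eq_zero
      rw [sub_mul, one_mul, Matrix.trace_sub, sub_eq_zero] at htr0
      rw [map_mul, map_mul, map_mul, Pi.mul_apply]
      exact htr0
    · rw [Fintype.linearIndependent_iff]
      intro c hc0 j
      have hall : ∀ a : KG ⧸ I, c 0 * τ i0 a + c 1 * τ i1 a = 0 := by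
        intro a
        obtain ⟨x, rfl⟩ := hqs a
        rw [hlin, hlin, Finset.mul_sum, Finset.mul_sum, ← Finset.sum_add_distrib]
        refine Finset.sum_eq_zero fun g _ => ?_
        have h := congrFun hc0 g
        simp only [Fin.sum_univ_two, Pi.add_apply, Pi.smul_apply, smul_eq_mul, f,
          if_pos, one_ne_zero, if_false, Pi.zero_apply] at h
        linear_combination x.coeff g * h
      haveI := hd i0
      haveI := hd i1
      fin_cases j
      · obtain ⟨a, ha⟩ := hπ (Pi.single i0 (Matrix.single 0 0 (1 : k)))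
        have h := hall a
        simp only [τ, LinearMap.coe_mk, AddHom.coe_mk, ha, Pi.single_eq_same,
          Pi.single_eq_of_ne hi01.symm, Matrix.trace_single_eq_same, Matrix.trace_zero, mul_one,
          mul_zero, add_zero] at h
        exact h
      · obtain ⟨a, ha⟩ := hπ (Pi.single i1 (Matrix.single 0 0 (1 : k)))
        have h := hall a
        simp only [τ, LinearMap.coe_mk, AddHom.coe_mk, ha, Pi.single_eq_same,
          Pi.single_eq_of_ne hi01, Matrix.trace_single_eq_same, Matrix.trace_zero, mul_one,
          mul_zero, zero_add] at h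
        exact h
  rcases Nat.le_one_iff_eq_zero_or_eq_one.1 hr1 with rfl | rfl
  · left
    haveI : Subsingleton (KG ⧸ I) := by
      refine subsingleton_of_zero_eq_one ?_
      have h1 : π (1 : KG ⧸ I) = 0 := Subsingleton.elim _ _
      have : (1 : KG ⧸ I) ∈ LinearMap.ker π.toLinearMap := h1
      have := Submodule.pow_mem_pow _ this m
      rw [hm, one_pow] at this
      exact ((Submodule.mem_bot k).1 this).symm
    exact Module.finrank_zero_of_subsingleton
  · right
    haveI := hd 0
    refine ⟨d 0, hST (KG ⧸ I) (d 0) ((Pi.evalAlgHom k _ 0).comp π)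
      ((Function.surjective_eval 0).comp hπ) m ?_ hC t hsym hndg _ hdiv⟩
    refine le_bot_iff.1 (le_trans (le_of_eq ?_) hm.le)
    congr 1
    ext a
    show (π a 0 = 0) ↔ π a = 0
    exact ⟨fun h => funext fun i => by rw [Subsingleton.elim i 0, h]; rfl,
      fun h => by rw [h]; rfl⟩

/-- A block ideal with cocenter of dimension at most four and one regular trace function. -/
theorem groupAlgebra_small [IsAlgClosed k] {p : ℕ} [Fact p.Prime] [CharP k p]
    [Fintype G] [Fintype (ConjClasses G)] [DecidableEq (ConjClasses G)]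
    (S : Sylow p G) (e : KG) (he : IsIdempotentElem e) (hc : ∀ x, e * x = x * e)
    (rep : ConjClasses G → G) (hrep : ∀ C, ConjClasses.mk (rep C) = C)
    (T : Matrix (ConjClasses G) (ConjClasses G) k)
    (hT : ∀ D C, T D C = ∑ x ∈ Finset.univ.filter (fun x => ConjClasses.mk x = D),
      (e * MonoidAlgebra.of k G (rep C)).coeff x)
    {K : ℕ} (hK : K ≤ 4) (hrank : finrank k (LinearMap.range (Matrix.toLin' T)) ≤ K)
    (hone : ∀ f : Fin 2 → G → k, (∀ i g h, f i (h * g * h⁻¹) = f i g) →
      (∀ i g, f i g = ∑ x, (e * MonoidAlgebra.of k G g).coeff x * f i x) →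
      (∀ i g z w, Commute z w → (∃ j : ℕ, orderOf z = p ^ j) → z * w = g → f i g = f i w) →
      ¬ LinearIndependent k f) :
    finrank k (LinearMap.range (LinearMap.mulLeft k e)) = 0 ∨
      ∃ n c : ℕ, c ≤ K ∧ finrank k (LinearMap.range (LinearMap.mulLeft k e)) = n * (n * c) ∧
        Nat.card (S : Subgroup G) ∣ n * c :=
  groupAlgebra_of_top S e he hc rep hrep T hT (topBound_small k hK) hrank hone

end

end CfsgLib.Blocks
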