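import Cfsg.Agent.Lib.Blocks.BlockAlgebra
import Cfsg.Agent.Lib.Blocks.GroupAlgebraSmall
import Cfsg.Agent.Lib.Blocks.OneBrauer
import Cfsg.Agent.Lib.Blocks.Nilpotent

/-!
# The algebra of a block with one Brauer character and few ordinary characters
-/

namespace CfsgLib.Blocks

open Cfsg CfsgLib.CharTheory
open scoped ComplexConjugate

set_option linter.unusedVariables false
set_option linter.unusedSimpArgs false
set_option linter.style.haveILetI false
set_option linter.unusedSectionVars false

universe u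

variable {p : ℕ} {M : Ideal AlgInt} {G : Type u} [Group G] [Fintype G]

/-- A block with one Brauer character: its algebra is `n` by `n` matrices over an algebra whose
dimension obeys any bound for simple tops with cocenter of dimension `k(B)`. -/
theorem exists_algebra_of_top [Fact p.Prime] (hM : IsPModular p M)
    {B : Set (IrrCharacter G)} (hB : IsPBlock M B) (hl : blockRank p B = 1) {C : ℕ}
    (hST : ∀ (k : Type) [Field k] [IsAlgClosed k], TopBound.{0, u} k (bset B).card C) :
    ∃ n c : ℕ, c ≤ C ∧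
      ∑ χ ∈ bset B, charDegree (χ : G → ℂ) ^ 2 = n * (n * c) ∧
      p ^ (Nat.card G).factorization p ∣ n * c := by
  classical
  haveI := hM.2.1
  letI := Ideal.Quotient.field M
  haveI : IsAlgClosed (AlgInt ⧸ M) := res_isAlgClosed hM
  haveI := res_charP hM
  have hG : (Nat.card G : ℂ) ≠ 0 := Nat.cast_ne_zero.2 Nat.card_pos.ne'
  set b : G → ℂ := blockCoeff B with hb
  have hbcf : b = cf (ind B) := (cf_ind B).symm
  have hbcl : IsClassFunction G b := hbcf ▸ cf_isClassFunction _
  have hbm : ∀ g, MemLocalRing M (b g) := memRing_blockCoeff hM hB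
  have hbω : ∀ χ : IrrCharacter G, omega (χ : G → ℂ) b = ind B χ := fun χ => by
    rw [hbcf, omega_cf]
  have hind : ind B * ind B = ind B := by
    funext χ
    by_cases h : χ ∈ B
    · simp [ind_of_mem h]
    · simp [ind_of_notMem h]
  -- left multiplication
  have hE : Lmat b * Lmat b = Lmat b := by rw [Lmat_mul, hbcf, ← cf_mul, hind]
  have hEtr : (Lmat b).trace = ((∑ χ ∈ bset B, charDegree (χ : G → ℂ) ^ 2 : ℕ) : ℂ) := by
    simp only [Matrix.trace, Matrix.diag, Lmat, Matrix.of_apply, mul_inv_cancel]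
    rw [Finset.sum_const, Finset.card_univ, ← Nat.card_eq_fintype_card, nsmul_eq_mul, hb, blockCoeff,
      mul_inv_cancel_left₀ hG, finsum_mem_bset]
    push_cast
    exact Finset.sum_congr rfl fun χ _ => by rw [irr_one_conj, sq, irr_charDegree_cast]
  obtain ⟨hE2, hEr⟩ := res_rank hM (Lmat b) (fun i j => hbm _) hE _ hEtr
  -- the class operator
  set rep : ConjClasses G → G := crep with hrep
  set T₀ : Matrix (ConjClasses G) (ConjClasses G) ℂ := Matrix.of fun D C =>
    ∑ x ∈ Finset.univ.filter (fun x => ConjClasses.mk x = D), b (x * (rep C)⁻¹) with hT₀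
  set X : Matrix (IrrCharacter G) (ConjClasses G) ℂ := Matrix.of fun χ C => (χ : G → ℂ) (rep C)
    with hX
  set Y : Matrix (ConjClasses G) (IrrCharacter G) ℂ := Matrix.of fun C χ =>
    conj ((χ : G → ℂ) (rep C)) / (Nat.card (Subgroup.centralizer ({rep C} : Set G)) : ℂ) with hY
  have hYX : Y * X = 1 := by
    ext C D
    simp only [Matrix.mul_apply, hX, hY, Matrix.of_apply, div_mul_eq_mul_div, ← Finset.sum_div]
    have hs : ∑ χ : IrrCharacter G, conj ((χ : G → ℂ) (rep C)) * (χ : G → ℂ) (rep D) =
        if IsConj (rep D) (rep C) then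
          (Nat.card (Subgroup.centralizer ({rep D} : Set G)) : ℂ) else 0 :=
      (Finset.sum_congr rfl fun χ _ => mul_comm _ _).trans (sum_irr_mul_conj (rep D) (rep C))
    rw [hs]
    by_cases h : C = D
    · subst h
      rw [if_pos (IsConj.refl _), Matrix.one_apply_eq, div_self]
      exact Nat.cast_ne_zero.2 Nat.card_pos.ne'
    · rw [if_neg, Matrix.one_apply_ne h, zero_div]
      intro hc
      exact h (by rw [← mk_crep C, ← mk_crep D]; exact ConjClasses.mk_eq_mk_iff_isConj.2 hc.symm)
  have hXT : X * T₀ = Matrix.diagonal (ind B) * X := by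
    ext χ C
    rw [Matrix.diagonal_mul, ← hbω χ, hX, Matrix.of_apply]
    simp only [Matrix.mul_apply, hT₀, Matrix.of_apply, ← sum_classFun_mul_shift hbcl χ,
      Finset.mul_sum]
    rw [Finset.sum_congr rfl fun D _ => Finset.sum_congr rfl fun x hx => by
      rw [classFun_eq_of_isConj (irr_isClassFun χ) (a := rep D) (b := x)
        ((Finset.mem_filter.1 hx).2 ▸ isConj_crep x)]]
    rw [Finset.sum_fiberwise]
    refine Fintype.sum_equiv (Equiv.mulRight (rep C)⁻¹) _ _ fun x => ?_
    simp [mul_comm]
  have hT0 : T₀ = Y * (Matrix.diagonal (ind B) * X) := by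
    rw [← hXT, ← Matrix.mul_assoc, hYX, Matrix.one_mul]
  have hT2 : T₀ * T₀ = T₀ := by
    conv_lhs => arg 1; rw [hT0]
    rw [Matrix.mul_assoc, Matrix.mul_assoc, hXT, ← Matrix.mul_assoc (Matrix.diagonal (ind B)),
      Matrix.diagonal_mul_diagonal,
      show (fun i => ind B i * ind B i) = ind B from hind, ← hT0]
  have hTtr : T₀.trace = ((bset B).card : ℂ) := by
    rw [hT0, Matrix.trace]
    simp only [Matrix.diag, Matrix.mul_apply (M := Y), Matrix.diagonal_mul]
    simp only [hX, hY, Matrix.of_apply]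
    rw [Finset.sum_comm, Finset.sum_congr rfl fun χ _ => Finset.sum_congr rfl fun C _ =>
      show _ = ind B χ * (conj ((χ : G → ℂ) (rep C)) /
        (Nat.card (Subgroup.centralizer ({rep C} : Set G)) : ℂ) * (χ : G → ℂ) (rep C)) by ring]
    simp only [← Finset.mul_sum]
    rw [sum_ind_mul, Finset.cast_card]
    refine Finset.sum_congr rfl fun χ _ => ?_
    have h1 := classInner_irr_self χ.2
    rw [← h1, classInner, Finset.mul_sum,
      ← Finset.sum_fiberwise Finset.univ (fun g : G => ConjClasses.mk g)]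
    refine Finset.sum_congr rfl fun C _ => ?_
    rw [Finset.sum_congr rfl fun g hg => by
      rw [← classFun_eq_of_isConj (irr_isClassFun χ) (a := rep C) (b := g)
        ((Finset.mem_filter.1 hg).2 ▸ isConj_crep g)], Finset.sum_const, nsmul_eq_mul]
    have hcard : ((Finset.univ.filter fun g : G => ConjClasses.mk g = C).card : ℂ) *
        (Nat.card (Subgroup.centralizer ({rep C} : Set G)) : ℂ) = (Nat.card G : ℂ) := by
      rw [← Nat.cast_mul, ← card_isConj_mul_card_centralizer (rep C)]
      refine congrArg (fun n : ℕ => ((n * _ : ℕ) : ℂ)) ?_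
      rw [Nat.card_eq_fintype_card, Fintype.card_subtype]
      refine congrArg Finset.card ?_
      ext g
      simp only [Finset.mem_filter, Finset.mem_univ, true_and]
      conv_lhs => rw [← mk_crep C, ConjClasses.mk_eq_mk_iff_isConj, isConj_comm]
    have hc0 : (Nat.card (Subgroup.centralizer ({rep C} : Set G)) : ℂ) ≠ 0 :=
      Nat.cast_ne_zero.2 Nat.card_pos.ne'
    field_simp
    linear_combination -((conj ((χ : G → ℂ) (rep C))) * (χ : G → ℂ) (rep C)) * hcard
  have hTm : ∀ D C, MemLocalRing M (T₀ D C) := fun D C =>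
    memRing_sum hM fun x _ => hbm _
  obtain ⟨-, hTr⟩ := res_rank hM T₀ hTm hT2 _ hTtr
  -- the idempotent of the group algebra
  set e : MonoidAlgebra (AlgInt ⧸ M) G :=
    ∑ g, MonoidAlgebra.single g (res hM (b g)) with he
  have hec : ∀ a, e.coeff a = res hM (b a) := fun a => by
    rw [he, MonoidAlgebra.coeff_sum, Finsupp.finsetSum_apply,
      Finset.sum_eq_single a (fun g _ h => by
        rw [MonoidAlgebra.coeff_single, Finsupp.single_eq_of_ne h.symm]) (by simp),
      MonoidAlgebra.coeff_single, Finsupp.single_eq_same]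
  set Φ : MonoidAlgebra (AlgInt ⧸ M) G ≃ₗ[AlgInt ⧸ M] (G → AlgInt ⧸ M) :=
    (MonoidAlgebra.coeffLinearEquiv _).trans (Finsupp.linearEquivFunOnFinite _ _ _)
  have hΦ : ∀ x, Φ (e * x) = Matrix.toLin' ((Lmat b).map (res hM)) (Φ x) := by
    intro x
    induction x using MonoidAlgebra.induction_linear with
    | zero => simp
    | add u v hu hv => simp only [mul_add, map_add, hu, hv]
    | single g r =>
      rw [show MonoidAlgebra.single g r = r • MonoidAlgebra.of (AlgInt ⧸ M) G g by simp,
        mul_smul_comm, map_smul, map_smul, map_smul]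
      congr 1
      funext a
      show (e * MonoidAlgebra.of (AlgInt ⧸ M) G g).coeff a =
        (Matrix.mulVec ((Lmat b).map (res hM))
          fun c => (MonoidAlgebra.of (AlgInt ⧸ M) G g).coeff c) a
      rw [coeff_mul_of, hec, Matrix.mulVec, dotProduct, Finset.sum_eq_single g
        (fun c _ h => by rw [MonoidAlgebra.of_apply, MonoidAlgebra.coeff_single,
          Finsupp.single_eq_of_ne h, mul_zero]) (by simp),
        MonoidAlgebra.of_apply, MonoidAlgebra.coeff_single, Finsupp.single_eq_same, mul_one]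
      rfl
  have hid : IsIdempotentElem e := by
    apply Φ.injective
    have h0 : Φ e = Matrix.toLin' ((Lmat b).map (res hM)) (Φ 1) := by rw [← hΦ, mul_one]
    rw [hΦ, h0, Matrix.toLin'_apply, Matrix.toLin'_apply, Matrix.mulVec_mulVec, hE2]
  have hcen : ∀ x, e * x = x * e := by
    intro x
    induction x using MonoidAlgebra.induction_linear with
    | zero => simp
    | add u v hu hv => simp only [mul_add, add_mul, hu, hv]
    | single g r =>
      rw [show MonoidAlgebra.single g r = r • MonoidAlgebra.of (AlgInt ⧸ M) G g by simp,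
        mul_smul_comm, smul_mul_assoc]
      congr 1
      refine MonoidAlgebra.ext (Finsupp.ext fun a => ?_)
      rw [coeff_mul_of, coeff_of_mul, hec, hec]
      congr 1
      have := hbcl (g⁻¹ * a) g
      rw [mul_inv_cancel_left] at this
      exact this
  have hone : ∀ f : Fin 2 → G → AlgInt ⧸ M, (∀ i g h, f i (h * g * h⁻¹) = f i g) →
      (∀ i g, f i g = ∑ x, (e * MonoidAlgebra.of (AlgInt ⧸ M) G g).coeff x * f i x) →
      (∀ i g z w, Commute z w → (∃ j : ℕ, orderOf z = p ^ j) → z * w = g → f i g = f i w) →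
      ¬ LinearIndependent (AlgInt ⧸ M) f := by
    intro f hcl hfix hreg hli
    have hsurj : ∀ x : AlgInt ⧸ M, ∃ z : ℂ, MemLocalRing M z ∧ res hM z = x := by
      intro x
      obtain ⟨z, rfl⟩ := Ideal.Quotient.mk_surjective x
      exact ⟨_, memRing_coe hM z, res_coe hM z⟩
    choose lift hliftm hlift using hsurj
    set F : Fin 2 → G → ℂ := fun i g => lift (f i g) with hF
    have hFcl : ∀ i, IsClassFunction G (F i) := fun i g h => by simp only [hF, hcl i g h]
    set h : Fin 2 → G → ℂ := fun i g => ∑ x, b (x * g⁻¹) * F i x with hh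
    have hres : ∀ i g, MemLocalRing M (h i g) ∧ res hM (h i g) = f i g := by
      intro i g
      have hm : ∀ x ∈ (Finset.univ : Finset G), MemLocalRing M (b (x * g⁻¹) * F i x) :=
        fun x _ => (loc hM).mul_mem (hbm _) (hliftm _)
      refine ⟨memRing_sum hM hm, ?_⟩
      rw [hh, res_sum hM hm, hfix i g]
      exact Finset.sum_congr rfl fun x _ => by
        rw [res_mul hM (hbm _) (hliftm _), hlift, coeff_mul_of, hec]
    set coef : Fin 2 → IrrCharacter G → ℂ := fun i χ => classInner (F i) (χ : G → ℂ)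
    have hspan : ∀ i g, h i g = ∑ χ ∈ bset B, coef i χ * (χ : G → ℂ) g := by
      intro i g
      rw [← sum_ind_mul B, hh]
      simp only []
      rw [Finset.sum_congr rfl fun x _ => show b (x * g⁻¹) * F i x =
        ∑ χ : IrrCharacter G, coef i χ * (b (x * g⁻¹) * (χ : G → ℂ) x) by
          conv_lhs => rw [eq_sum_irr (hFcl i)]
          simp only [Finset.sum_apply, Pi.smul_apply, smul_eq_mul, Finset.mul_sum]
          exact Finset.sum_congr rfl fun χ _ => by ring, Finset.sum_comm]
      refine Finset.sum_congr rfl fun χ _ => ?_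
      rw [← Finset.mul_sum]
      have hshift : ∑ x, b (x * g⁻¹) * (χ : G → ℂ) x = ind B χ * (χ : G → ℂ) g := by
        rw [← hbω χ, ← sum_classFun_mul_shift hbcl χ g]
        refine Fintype.sum_equiv (Equiv.mulRight g⁻¹) _ _ fun x => ?_
        simp
      rw [hshift]
      ring
    obtain ⟨φ, fdeg, d, nn, hfd, hφ, hval, hdeg, hdn, hsq⟩ := exists_single_brauer hM hB hl
    have hprop : ∀ i : Fin 2, ∃ s : ℂ, ∀ g, ¬ p ∣ orderOf g → h i g = s * φ g := fun i =>
      ⟨∑ χ ∈ bset B, coef i χ * (d χ : ℂ), fun g hg => by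
        rw [hspan i g, Finset.sum_mul]
        exact Finset.sum_congr rfl fun χ hχ => by rw [hval χ (mem_bset.1 hχ) g hg, mul_assoc]⟩
    choose s hs using hprop
    have hdet : ∀ g g', ¬ p ∣ orderOf g → ¬ p ∣ orderOf g' →
        f 0 g * f 1 g' = f 1 g * f 0 g' := by
      intro g g' hg hg'
      rw [← (hres 0 g).2, ← (hres 1 g').2, ← (hres 1 g).2, ← (hres 0 g').2,
        ← res_mul hM (hres 0 g).1 (hres 1 g').1, ← res_mul hM (hres 1 g).1 (hres 0 g').1,
        hs 0 g hg, hs 1 g' hg', hs 1 g hg, hs 0 g' hg']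
      congr 1
      ring
    rw [Fintype.linearIndependent_iff] at hli
    have hzero : ∀ i, (∀ g, ¬ p ∣ orderOf g → f i g = 0) → f i = 0 := fun i hi => funext fun g => by
      obtain ⟨z, w, hzw, hc, hz, hw, -⟩ := exists_pPart hM.1 g
      rw [hreg i g z w hc hz hzw, hi w hw, Pi.zero_apply]
    obtain ⟨g1, hg1, hg1f⟩ : ∃ g, ¬ p ∣ orderOf g ∧ f 0 g ≠ 0 := by
      by_contra hc
      push Not at hc
      have h0 := hli (Pi.single 0 1) (by simp [Fin.sum_univ_two, hzero 0 hc]) 0
      simp at h0
    have hall : ∀ g, f 0 g1 * f 1 g = f 1 g1 * f 0 g := fun g => by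
      obtain ⟨z, w, hzw, hc, hz, hw, -⟩ := exists_pPart hM.1 g
      rw [hreg 0 g z w hc hz hzw, hreg 1 g z w hc hz hzw]
      exact hdet g1 w hg1 hw
    have h0 := hli ![f 1 g1, -f 0 g1] (by
      rw [Fin.sum_univ_two]
      funext g
      simp only [Matrix.cons_val_zero, Matrix.cons_val_one, Pi.add_apply, Pi.smul_apply,
        smul_eq_mul, Pi.zero_apply]
      linear_combination -hall g) 1
    simp only [Matrix.cons_val_one, Matrix.cons_val_zero, neg_eq_zero] at h0
    exact hg1f h0
  have hmain := groupAlgebra_of_top (k := AlgInt ⧸ M) (default : Sylow p G) e hid hcen rep mk_crep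
    (T₀.map (res hM)) (fun D C => by
      rw [Matrix.map_apply, hT₀, Matrix.of_apply, res_sum hM fun x _ => hbm _]
      exact Finset.sum_congr rfl fun x _ => by rw [coeff_mul_of, hec])
    (hST (AlgInt ⧸ M)) hTr.le hone
  rw [Sylow.card_eq_multiplicity] at hmain
  have hrange : (LinearMap.range (LinearMap.mulLeft (AlgInt ⧸ M) e)).map Φ.toLinearMap =
      LinearMap.range (Matrix.toLin' ((Lmat b).map (res hM))) := by
    apply le_antisymm
    · rintro _ ⟨_, ⟨x, rfl⟩, rfl⟩
      exact ⟨Φ x, (hΦ x).symm⟩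
    · rintro _ ⟨v, rfl⟩
      exact ⟨e * Φ.symm v, ⟨Φ.symm v, rfl⟩, (hΦ _).trans (by rw [Φ.apply_symm_apply])⟩
  rw [← LinearEquiv.finrank_map_eq Φ, hrange, hEr] at hmain
  refine hmain.resolve_left fun h0 => ?_
  obtain ⟨χ, hχ⟩ := block_nonempty hM hB
  have := (Finset.sum_eq_zero_iff.1 h0) χ (mem_bset.2 hχ)
  exact (irr_charDegree_pos χ).ne' (by simpa using this)

/-- A block with one Brauer character and at most four members: its algebra is `n` by `n`
matrices over an algebra of dimension at most `k(B)`. -/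
theorem exists_small_algebra [Fact p.Prime] (hM : IsPModular p M)
    {B : Set (IrrCharacter G)} (hB : IsPBlock M B) (hl : blockRank p B = 1)
    (hk : (bset B).card ≤ 4) :
    ∃ n c : ℕ, c ≤ (bset B).card ∧
      ∑ χ ∈ bset B, charDegree (χ : G → ℂ) ^ 2 = n * (n * c) ∧
      p ^ (Nat.card G).factorization p ∣ n * c :=
  exists_algebra_of_top hM hB hl fun k _ _ => topBound_small k hk

end CfsgLib.Blocks
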