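import Cfsg.Agent.Lib.Blocks.Orth

/-!
# The Brauer homomorphism in character language
-/

namespace CfsgLib.Blocks

open Cfsg CfsgLib.CharTheory Matrix
open scoped ComplexConjugate

set_option linter.unusedVariables false
set_option linter.unusedSimpArgs false
set_option linter.style.haveILetI false
set_option linter.unusedSectionVars false

universe u

variable {p : ℕ} {M : Ideal AlgInt} {G : Type u} [Group G] [Fintype G]

theorem omega_mem_Zloc (hM : IsPModular p M) {f : G → ℂ} (hcl : IsClassFunction G f)
    (hf : ∀ x, MemLocalRing M (f x)) :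
    (fun χ : IrrCharacter G => omega (χ : G → ℂ) f) ∈ Zloc G hM := fun x => by
  rw [cf_omega hcl]; exact hf x

theorem memRing_omega (hM : IsPModular p M) {f : G → ℂ} (hcl : IsClassFunction G f)
    (hf : ∀ x, MemLocalRing M (f x)) (χ : IrrCharacter G) :
    MemLocalRing M (omega (χ : G → ℂ) f) :=
  Zloc_apply_mem hM (omega_mem_Zloc hM hcl hf) χ

theorem res_omega_congr (hM : IsPModular p M) {f f' : G → ℂ} (hcl : IsClassFunction G f)
    (hcl' : IsClassFunction G f') (hf : ∀ x, MemLocalRing M (f x))
    (hf' : ∀ x, MemLocalRing M (f' x)) (h : ∀ x, res hM (f x) = res hM (f' x))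
    (χ : IrrCharacter G) : res hM (omega (χ : G → ℂ) f) = res hM (omega (χ : G → ℂ) f') := by
  classical
  rw [omega_eq_sum_classes hcl, omega_eq_sum_classes hcl']
  change res hM (∑ C : ConjClasses G, f (crep C) * clv (crep C) χ) =
    res hM (∑ C : ConjClasses G, f' (crep C) * clv (crep C) χ)
  rw [
    res_sum hM fun C _ => (loc hM).mul_mem (hf _) (memRing_clv hM _ χ),
    res_sum hM fun C _ => (loc hM).mul_mem (hf' _) (memRing_clv hM _ χ)]
  refine Finset.sum_congr rfl fun C _ => ?_
  rw [res_mul hM (hf _) (memRing_clv hM _ χ), res_mul hM (hf' _) (memRing_clv hM _ χ), h]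

/-- `omega` of an indicator of the conjugacy class of `g` is the central character. -/
theorem omega_classInd (g : G) [DecidablePred (fun x => IsConj g x)] (χ : IrrCharacter G) :
    omega (χ : G → ℂ) (fun x => if IsConj g x then 1 else 0) = centralChar (χ : G → ℂ) g := by
  simp [omega, centralChar_eq_sum, Finset.sum_filter]

theorem cf_single_ne_zero [DecidableEq (IrrCharacter G)] (χ : IrrCharacter G) :
    cf (Pi.single χ (1 : ℂ)) ≠ 0 := by
  intro h
  have h1 := omega_cf (Pi.single χ (1 : ℂ)) χ
  rw [h, Pi.single_eq_same] at h1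
  simp [omega] at h1

/-- A class function whose sums over the cosets of a normal `p`-subgroup lie in the local ideal
is killed by every central character mod `M`. -/
theorem omega_vanish_of_coset (hM : IsPModular p M) (P : Subgroup G) [hPn : P.Normal]
    (hP : IsPGroup p P) {f : G → ℂ} (hcl : IsClassFunction G f)
    (hf : ∀ x, MemLocalRing M (f x)) [Fintype P]
    (hcoset : ∀ x, MemLocalIdeal M (∑ q : P, f (x * q))) (χ : IrrCharacter G) :
    MemLocalIdeal M (omega (χ : G → ℂ) f) := by
  classical
  haveI := res_isDomain hM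
  haveI := res_charP hM
  haveI : Fact p.Prime := ⟨hM.1⟩
  set v : IrrCharacter G → ℂ := fun χ => omega (χ : G → ℂ) f with hv
  set c : AlgInt ⧸ M := res hM (v χ) with hc
  have hvm : MemLocalRing M (v χ) := memRing_omega hM hcl hf χ
  rw [← res_eq_zero_iff hM hvm]
  -- a nonzero eigenvector
  set A : Matrix G G (loc hM) :=
    Matrix.of fun a b => ⟨Lmat f a b, hf _⟩ - (if a = b then ⟨v χ, hvm⟩ else 0) with hA
  have hAC : A.map (loc hM).subtype = Lmat f - v χ • (1 : Matrix G G ℂ) := by
    ext a b
    simp only [hA, Matrix.map_apply, Matrix.of_apply, Matrix.sub_apply, Matrix.smul_apply,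
      Matrix.one_apply, map_sub, smul_eq_mul]
    split_ifs <;> simp
  have hdet : A.det = 0 := by
    apply Subtype.ext
    have h0 : (Lmat f - v χ • (1 : Matrix G G ℂ)).det = 0 := by
      rw [← Matrix.exists_mulVec_eq_zero_iff]
      obtain ⟨b, hb⟩ : ∃ b, cf (Pi.single χ (1 : ℂ)) b ≠ 0 := by
        by_contra hc'; push Not at hc'; exact cf_single_ne_zero χ (funext hc')
      refine ⟨fun a => cf (Pi.single χ (1 : ℂ)) a, fun h => hb (congrFun h b), ?_⟩
      funext a
      have h1 : conv f (cf (Pi.single χ (1 : ℂ))) = v χ • cf (Pi.single χ (1 : ℂ)) := by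
        conv_lhs => rw [← cf_omega hcl]
        rw [← cf_mul, ← cf_smul]
        congr 1
        funext ψ
        by_cases h : ψ = χ
        · subst h; simp [hv]
        · simp [Pi.single_eq_of_ne h]
      have h2 : (Lmat f).mulVec (fun a => cf (Pi.single χ (1 : ℂ)) a) a =
          conv f (cf (Pi.single χ (1 : ℂ))) a := by
        simp only [Matrix.mulVec, dotProduct, conv, Lmat, Matrix.of_apply]
        refine Fintype.sum_equiv ((Equiv.inv G).trans (Equiv.mulLeft a)) _ _ fun b => ?_
        simp
      rw [Matrix.sub_mulVec, Pi.sub_apply, h2, h1, Matrix.smul_mulVec, Matrix.one_mulVec]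
      simp
    have h3 := RingHom.map_det (loc hM).subtype A
    rw [RingHom.mapMatrix_apply, hAC, h0] at h3
    exact h3
  set Fb : G → AlgInt ⧸ M := fun x => res hM (f x) with hFb
  obtain ⟨x₀, hx0, hx⟩ := (Matrix.exists_mulVec_eq_zero_iff
    (M := A.map (resHom hM))).2 (by
      rw [← RingHom.mapMatrix_apply, ← RingHom.map_det, hdet, map_zero])
  let S : Submodule (AlgInt ⧸ M) (G → AlgInt ⧸ M) :=
    { carrier := {F | ∀ a, ∑ b, Fb (a * b⁻¹) * F b = c * F a}
      zero_mem' := fun a => by simp
      add_mem' := fun {F F'} h h' a => by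
        simp only [Pi.add_apply, mul_add, Finset.sum_add_distrib, h a, h' a]
      smul_mem' := fun r F h a => by
        simp only [Pi.smul_apply, smul_eq_mul, mul_left_comm _ r, ← Finset.mul_sum, h a] }
  have hx0S : x₀ ∈ S := fun a => by
    have := congrFun hx a
    simp only [Matrix.mulVec, dotProduct, Matrix.map_apply, hA, Matrix.of_apply, map_sub,
      sub_mul, Finset.sum_sub_distrib, Pi.zero_apply, sub_eq_zero] at this
    rw [hFb]
    refine (Eq.trans ?_ this).trans ?_
    · exact Finset.sum_congr rfl fun b _ => rfl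
    · rw [Finset.sum_eq_single a (fun b _ hb => by simp [Ne.symm hb]) (by simp), if_pos rfl]
      rfl
  -- translation by `P`
  have hFbcl : ∀ x y : G, Fb (y * x * y⁻¹) = Fb x := fun x y => congrArg (res hM) (hcl x y)
  let sh : P → (G → AlgInt ⧸ M) → (G → AlgInt ⧸ M) := fun q F x => F ((q : G)⁻¹ * x)
  have hshS : ∀ q, ∀ F ∈ S, sh q F ∈ S := by
    intro q F hF a
    show ∑ b, Fb (a * b⁻¹) * F ((q : G)⁻¹ * b) = c * F ((q : G)⁻¹ * a)
    rw [← hF ((q : G)⁻¹ * a)]
    refine Fintype.sum_equiv (Equiv.mulLeft (q : G)⁻¹) _ _ fun b => ?_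
    simp only [Equiv.coe_mulLeft]
    rw [← hFbcl ((q : G)⁻¹ * a * ((q : G)⁻¹ * b)⁻¹) (q : G)]
    congr 2; group
  let A₀ : AddSubgroup (G → AlgInt ⧸ M) := AddSubgroup.closure (Set.range fun q => sh q x₀)
  have hA0S : ∀ F ∈ A₀, F ∈ S := by
    intro F hF
    exact (AddSubgroup.closure_le S.toAddSubgroup).2 (by
      rintro _ ⟨q, rfl⟩; exact hshS q x₀ hx0S) hF
  have hA0fin : Finite A₀ := by
    have hsub : A₀ ≤ AddSubgroup.closure (Set.range fun q => sh q x₀) := le_rfl
    letI : Algebra (ZMod p) (AlgInt ⧸ M) := ZMod.algebra _ p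
    let V : Submodule (ZMod p) (G → AlgInt ⧸ M) :=
      Submodule.span (ZMod p) (Set.range fun q => sh q x₀)
    haveI : Module.Finite (ZMod p) V := Module.Finite.span_of_finite _ (Set.finite_range _)
    haveI : Finite V := Module.finite_of_finite (ZMod p)
    exact Finite.of_injective (fun F : A₀ => (⟨F.1,
      (AddSubgroup.closure_le V.toAddSubgroup).2 Submodule.subset_span F.2⟩ : V))
      fun a b h => Subtype.ext (Subtype.mk.injEq .. ▸ h)
  have hshA : ∀ q : P, ∀ F ∈ A₀, sh q F ∈ A₀ := by
    intro q F hF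
    induction hF using AddSubgroup.closure_induction with
    | mem F hF =>
      obtain ⟨r, rfl⟩ := hF
      refine AddSubgroup.subset_closure ⟨q * r, ?_⟩
      funext x
      show x₀ (((q : G) * r)⁻¹ * x) = x₀ ((r : G)⁻¹ * ((q : G)⁻¹ * x))
      rw [_root_.mul_inv_rev, mul_assoc]
    | zero => exact A₀.zero_mem
    | add a b _ _ ha hb => exact A₀.add_mem ha hb
    | neg a _ ha => exact A₀.neg_mem ha
  letI act : MulAction P A₀ :=
    { smul := fun q F => ⟨sh q F.1, hshA q F.1 F.2⟩
      one_smul := fun F => Subtype.ext (funext fun x => by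
        show F.1 (((1 : P) : G)⁻¹ * x) = F.1 x
        simp)
      mul_smul := fun q r F => Subtype.ext (funext fun x => by
        show F.1 (((q * r : P) : G)⁻¹ * x) = F.1 ((r : G)⁻¹ * ((q : G)⁻¹ * x))
        rw [Subgroup.coe_mul, _root_.mul_inv_rev, mul_assoc]) }
  have hpA : p ∣ Nat.card A₀ := by
    have hx0A : x₀ ∈ A₀ := AddSubgroup.subset_closure ⟨1, funext fun x => by simp [sh]⟩
    have ho : addOrderOf (⟨x₀, hx0A⟩ : A₀) = p := by
      refine addOrderOf_eq_prime ?_ fun h => hx0 (congrArg Subtype.val h)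
      apply Subtype.ext
      funext x
      simp [nsmul_eq_mul, CharP.cast_eq_zero]
    rw [← ho]
    exact addOrderOf_dvd_natCard _
  obtain ⟨F, hFfix, hF0⟩ := hP.exists_fixed_point_of_prime_dvd_card_of_fixed_point A₀ hpA
    (a := 0) (fun q => Subtype.ext (funext fun x => rfl))
  have hFinv : ∀ (q : P) x, F.1 ((q : G)⁻¹ * x) = F.1 x := fun q x =>
    congrFun (congrArg Subtype.val (hFfix q)) x
  obtain ⟨a, ha⟩ : ∃ a, F.1 a ≠ 0 := by
    by_contra h; push Not at h
    exact hF0 (Subtype.ext (funext fun x => (h x).symm))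
  have hFS := hA0S F.1 F.2 a
  have hz : ∑ b, Fb (a * b⁻¹) * F.1 b = 0 := by
    rw [← Finset.sum_fiberwise Finset.univ (QuotientGroup.mk (s := P))]
    refine Finset.sum_eq_zero fun C _ => ?_
    obtain ⟨b, rfl⟩ := QuotientGroup.mk_surjective C
    have e : (Finset.univ.filter fun x => (QuotientGroup.mk x : G ⧸ P) = QuotientGroup.mk b) =
        Finset.univ.image fun q : P => b * (q : G) := by
      ext x
      simp only [Finset.mem_filter, Finset.mem_univ, true_and, Finset.mem_image]
      constructor
      · intro h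
        exact ⟨⟨b⁻¹ * x, QuotientGroup.eq.1 h.symm⟩, by simp⟩
      · rintro ⟨q, rfl⟩; exact QuotientGroup.mk_mul_of_mem b q.2
    rw [e, Finset.sum_image fun q _ r _ h => Subtype.ext (mul_left_cancel h)]
    have hval : ∀ q : P, F.1 (b * q) = F.1 b := fun q => by
      have h := hFinv ⟨b * (q : G)⁻¹ * b⁻¹, hPn.conj_mem _ (P.inv_mem q.2) b⟩ b
      simpa [mul_assoc] using h
    simp only [hval, ← Finset.sum_mul]
    have h0 : ∑ q : P, Fb (a * (b * q)⁻¹) = 0 := by
      have h := (res_eq_zero_iff hM (memRing_sum hM fun q _ => hf _)).2 (hcoset (a * b⁻¹))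
      rw [res_sum hM fun q _ => hf _] at h
      rw [← h]
      refine Fintype.sum_equiv
        ((Equiv.inv P).trans (MulAut.conjNormal b).toEquiv) _ _ fun q => ?_
      show res hM (f _) = res hM (f _)
      congr 2
      simp [mul_assoc]
    rw [h0, zero_mul]
  rw [hz] at hFS
  exact (mul_eq_zero.1 hFS.symm).resolve_right ha

/-- A class function vanishing on the centralizer of a normal `p`-subgroup is killed by every
central character mod `M`. -/
theorem omega_vanish_off_centralizer (hM : IsPModular p M) (P : Subgroup G) [hPn : P.Normal]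
    (hP : IsPGroup p P) {f : G → ℂ} (hcl : IsClassFunction G f)
    (hf : ∀ x, MemLocalRing M (f x))
    (hC : ∀ x ∈ Subgroup.centralizer (P : Set G), f x = 0) (χ : IrrCharacter G) :
    MemLocalIdeal M (omega (χ : G → ℂ) f) := by
  classical
  refine omega_vanish_of_coset hM P hP hcl hf (fun x => ?_) χ
  rw [← res_eq_zero_iff hM (memRing_sum hM fun q _ => hf _), res_sum hM fun q _ => hf _]
  -- `P` acts on the coset by conjugation
  letI : MulAction P P :=
    { smul := fun r q => ⟨x⁻¹ * ((r : G) * (x * q) * (r : G)⁻¹), by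
        have h : x⁻¹ * ((r : G) * (x * q) * (r : G)⁻¹) =
            (x⁻¹ * (r : G) * x) * q * (r : G)⁻¹ := by group
        rw [h]
        refine P.mul_mem (P.mul_mem ?_ q.2) (P.inv_mem r.2)
        simpa using hPn.conj_mem _ r.2 x⁻¹⟩
      one_smul := fun q => Subtype.ext (by
        show x⁻¹ * (((1 : P) : G) * (x * q) * ((1 : P) : G)⁻¹) = q
        simp)
      mul_smul := fun r s q => Subtype.ext (by
        show x⁻¹ * (((r * s : P) : G) * (x * q) * ((r * s : P) : G)⁻¹) =
          x⁻¹ * ((r : G) * (x * (x⁻¹ * ((s : G) * (x * q) * (s : G)⁻¹))) * (r : G)⁻¹)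
        simp [mul_assoc]) }
  rw [sum_fixedPoints hM hP _ (fun r q => ?_)]
  · refine Finset.sum_eq_zero fun q hq => ?_
    have hq' := (Finset.mem_filter.1 hq).2
    rw [hC (x * q) ?_, res_zero]
    intro r hr
    have h := congrArg Subtype.val (hq' ⟨r, hr⟩)
    change x⁻¹ * (r * (x * q) * r⁻¹) = (q : G) at h
    rw [inv_mul_eq_iff_eq_mul, mul_inv_eq_iff_eq_mul] at h
    exact h
  · show res hM (f (x * (x⁻¹ * ((r : G) * (x * q) * (r : G)⁻¹)))) = res hM (f (x * q))
    rw [mul_inv_cancel_left, hcl]

section brauer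

variable (P H : Subgroup G)

/-- Restriction to `C_G(P)`, as a function on `H`. -/
noncomputable def brFun (f : G → ℂ) : H → ℂ :=
  open Classical in fun k => if (k : G) ∈ Subgroup.centralizer (P : Set G) then f k else 0

theorem brFun_mem (hM : IsPModular p M) {f : G → ℂ} (hf : ∀ x, MemLocalRing M (f x)) (k : H) :
    MemLocalRing M (brFun P H f k) := by
  unfold brFun; split_ifs
  · exact hf _
  · exact (loc hM).zero_mem

theorem conj_mem_centralizer_iff {H : Subgroup G} (hN : H ≤ Subgroup.normalizer (P : Set G))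
    (y : H) (k : G) : (y : G) * k * (y : G)⁻¹ ∈ Subgroup.centralizer (P : Set G) ↔
      k ∈ Subgroup.centralizer (P : Set G) := by
  have key : ∀ y ∈ H, ∀ k ∈ Subgroup.centralizer (P : Set G),
      y * k * y⁻¹ ∈ Subgroup.centralizer (P : Set G) := by
    intro y hy k hk r hr
    have hr' : y⁻¹ * r * y ∈ P := (Subgroup.mem_normalizer_iff'').1 (hN hy) r |>.1 hr
    have h := hk _ hr'
    calc r * (y * k * y⁻¹) = y * ((y⁻¹ * r * y) * k) * y⁻¹ := by group
      _ = y * (k * (y⁻¹ * r * y)) * y⁻¹ := by rw [h]
      _ = y * k * y⁻¹ * r := by group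
  refine ⟨fun h => ?_, key y y.2 k⟩
  have := key (y : G)⁻¹ (H.inv_mem y.2) _ h
  simpa [mul_assoc] using this

theorem brFun_isClassFunction (hN : H ≤ Subgroup.normalizer (P : Set G)) {f : G → ℂ}
    (hcl : IsClassFunction G f) : IsClassFunction H (brFun P H f) := by
  intro k y
  simp only [brFun, Subgroup.coe_mul, Subgroup.coe_inv]
  by_cases hk : (k : G) ∈ Subgroup.centralizer (P : Set G)
  · rw [if_pos hk, if_pos ((conj_mem_centralizer_iff P hN y k).2 hk), hcl]
  · rw [if_neg hk, if_neg (mt (conj_mem_centralizer_iff P hN y k).1 hk)]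

variable [Fintype H]

/-- The Brauer map is multiplicative modulo `M`. -/
theorem res_brFun_conv (hM : IsPModular p M) (hP : IsPGroup p P)
    (hC : Subgroup.centralizer (P : Set G) ≤ H) {f h : G → ℂ} (hf : IsClassFunction G f)
    (hh : IsClassFunction G h) (hfM : ∀ x, MemLocalRing M (f x))
    (hhM : ∀ x, MemLocalRing M (h x)) (k : H) :
    res hM (brFun P H (conv f h) k) = res hM (conv (brFun P H f) (brFun P H h) k) := by
  classical
  by_cases hk : (k : G) ∈ Subgroup.centralizer (P : Set G)
  · rw [show brFun P H (conv f h) k = conv f h k from if_pos hk]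
    simp only [conv]
    rw [res_sum hM fun x _ => (loc hM).mul_mem (hfM _) (hhM _),
      res_sum hM fun x _ => (loc hM).mul_mem (brFun_mem P H hM hfM _) (brFun_mem P H hM hhM _)]
    letI : MulAction P G :=
      { smul := fun r x => (r : G) * x * (r : G)⁻¹
        one_smul := fun x => by show ((1 : P) : G) * x * ((1 : P) : G)⁻¹ = x; simp
        mul_smul := fun r s x => by
          show ((r * s : P) : G) * x * ((r * s : P) : G)⁻¹ =
            (r : G) * ((s : G) * x * (s : G)⁻¹) * (r : G)⁻¹
          simp [mul_assoc] }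
    have hfix : ∀ x : G, x ∈ MulAction.fixedPoints P G ↔ x ∈ Subgroup.centralizer (P : Set G) := by
      intro x
      constructor
      · intro hx r hr
        exact mul_inv_eq_iff_eq_mul.1 (hx ⟨r, hr⟩)
      · intro hx r
        show (r : G) * x * (r : G)⁻¹ = x
        rw [hx r r.2, mul_inv_cancel_right]
    rw [sum_fixedPoints hM hP _ (fun r x => ?_)]
    · rw [← Finset.sum_filter_of_ne (s := (Finset.univ : Finset H))
        (p := fun x => (x : G) ∈ Subgroup.centralizer (P : Set G))
        (fun x _ hx => by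
          by_contra hc
          rw [show brFun P H f x = 0 from if_neg hc, zero_mul, res_zero] at hx
          exact hx rfl)]
      symm
      refine Finset.sum_bij (fun x _ => (x : G)) ?_ (fun _ _ _ _ e => Subtype.ext e) ?_ ?_
      · intro x hx
        exact Finset.mem_filter.2 ⟨Finset.mem_univ _, (hfix _).2 (Finset.mem_filter.1 hx).2⟩
      · intro x hx
        exact ⟨⟨x, hC ((hfix x).1 (Finset.mem_filter.1 hx).2)⟩,
          Finset.mem_filter.2 ⟨Finset.mem_univ _, (hfix x).1 (Finset.mem_filter.1 hx).2⟩, rfl⟩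
      · intro x hx
        have hx' := (Finset.mem_filter.1 hx).2
        simp only [brFun, Subgroup.coe_mul, Subgroup.coe_inv, if_pos hx',
          if_pos ((Subgroup.centralizer (P : Set G)).mul_mem
            ((Subgroup.centralizer (P : Set G)).inv_mem hx') hk)]
    · show res hM (f ((r : G) * x * (r : G)⁻¹) * h (((r : G) * x * (r : G)⁻¹)⁻¹ * k)) = _
      have e : ((r : G) * x * (r : G)⁻¹)⁻¹ * k = (r : G) * (x⁻¹ * k) * (r : G)⁻¹ := by
        have := hk r r.2
        calc ((r : G) * x * (r : G)⁻¹)⁻¹ * k = (r : G) * x⁻¹ * ((r : G)⁻¹ * k) := by group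
          _ = (r : G) * x⁻¹ * (k * (r : G)⁻¹) := by
              rw [((show Commute (r : G) (k : G) from this).inv_left).eq]
          _ = (r : G) * (x⁻¹ * k) * (r : G)⁻¹ := by group
      rw [e, hf, hh]
  · rw [show brFun P H (conv f h) k = 0 from if_neg hk]
    congr 1
    refine (Finset.sum_eq_zero fun x _ => ?_).symm
    simp only [brFun, Subgroup.coe_mul, Subgroup.coe_inv]
    split_ifs with h1 h2
    · exact absurd (by simpa using (Subgroup.centralizer (P : Set G)).mul_mem h1 h2) hk
    all_goals simp

/-- Central characters of `H` composed with the Brauer map are central characters of `G`. -/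
theorem exists_irr_brauer (hM : IsPModular p M) (hP : IsPGroup p P)
    (hC : Subgroup.centralizer (P : Set G) ≤ H) (hN : H ≤ Subgroup.normalizer (P : Set G))
    (ξ : IrrCharacter H) :
    ∃ χ : IrrCharacter G, ∀ f : G → ℂ, IsClassFunction G f → (∀ x, MemLocalRing M (f x)) →
      res hM (omega (ξ : H → ℂ) (brFun P H f)) = res hM (omega (χ : G → ℂ) f) := by
  classical
  have hw : ∀ v : Zloc G hM,
      MemLocalRing M (omega (ξ : H → ℂ) (brFun P H (cf (v : IrrCharacter G → ℂ)))) := fun v =>
    memRing_omega hM (brFun_isClassFunction P H hN (cf_isClassFunction _))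
      (brFun_mem P H hM v.2) ξ
  have hdelta : brFun P H (cf (1 : IrrCharacter G → ℂ)) = fun k => if k = 1 then 1 else 0 := by
    funext k
    rw [cf_one]
    by_cases hk : k = 1
    · subst hk; simp [brFun, Subgroup.one_mem]
    · simp [brFun, hk]
  have hmul : ∀ v w : Zloc G hM,
      res hM (omega (ξ : H → ℂ) (brFun P H (cf ((v * w : Zloc G hM) : IrrCharacter G → ℂ)))) =
      res hM (omega (ξ : H → ℂ) (brFun P H (cf (v : IrrCharacter G → ℂ)))) *
      res hM (omega (ξ : H → ℂ) (brFun P H (cf (w : IrrCharacter G → ℂ)))) := fun v w => by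
    rw [← res_mul hM (hw v) (hw w),
      ← omega_conv (brFun_isClassFunction P H hN (cf_isClassFunction _)) ξ, Subring.coe_mul,
      cf_mul]
    exact res_omega_congr hM
      (brFun_isClassFunction P H hN (conv_isClassFunction (cf_isClassFunction _)
        (cf_isClassFunction _)))
      (conv_isClassFunction (brFun_isClassFunction P H hN (cf_isClassFunction _))
        (brFun_isClassFunction P H hN (cf_isClassFunction _)))
      (brFun_mem P H hM (fun x => memRing_sum hM fun l _ => (loc hM).mul_mem (v.2 l) (w.2 _)))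
      (fun x => memRing_sum hM fun l _ =>
        (loc hM).mul_mem (brFun_mem P H hM v.2 l) (brFun_mem P H hM w.2 _))
      (res_brFun_conv P H hM hP hC (cf_isClassFunction _) (cf_isClassFunction _) v.2 w.2) ξ
  have hadd : ∀ v w : IrrCharacter G → ℂ,
      omega (ξ : H → ℂ) (brFun P H (cf (v + w))) =
      omega (ξ : H → ℂ) (brFun P H (cf v)) + omega (ξ : H → ℂ) (brFun P H (cf w)) := by
    intro v w
    simp only [omega, cf_add, ← add_div, ← Finset.sum_add_distrib]
    congr 1
    refine Finset.sum_congr rfl fun k _ => ?_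
    simp only [brFun, Pi.add_apply]
    split_ifs <;> ring
  let lam : Zloc G hM →+* AlgInt ⧸ M :=
    { toFun := fun v => res hM (omega (ξ : H → ℂ) (brFun P H (cf (v : IrrCharacter G → ℂ))))
      map_one' := by
        rw [Subring.coe_one, hdelta]
        simp [omega, irr_one_ne_zero ξ, res_one hM]
      map_mul' := hmul
      map_zero' := by simp [omega, brFun, cf, res_zero hM]
      map_add' := fun v w => by rw [Subring.coe_add, hadd, res_add hM (hw v) (hw w)] }
  obtain ⟨χ, hχ⟩ := exists_irr_of_hom hM lam (fun c hc => by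
    show res hM (omega (ξ : H → ℂ) (brFun P H (cf (fun _ => c)))) = res hM c
    have : brFun P H (cf (fun _ : IrrCharacter G => c)) = fun k => if k = 1 then c else 0 := by
      funext k
      by_cases hk : k = 1
      · subst hk; simp [brFun, cf_const, Subgroup.one_mem]
      · simp [brFun, cf_const, hk]
    simp [this, omega, irr_one_ne_zero ξ])
  refine ⟨χ, fun f hf hfM => ?_⟩
  have h := hχ ⟨_, omega_mem_Zloc hM hf hfM⟩
  change res hM (omega (ξ : H → ℂ) (brFun P H (cf fun ψ => omega (ψ : G → ℂ) f))) = _ at h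
  rwa [cf_omega hf] at h

theorem omega_brFun_classInd (g : G) [DecidablePred (fun x => IsConj g x)] (ξ : H → ℂ) :
    omega ξ (brFun P H (fun x => if IsConj g x then 1 else 0)) = brauerCentralChar P H ξ g := by
  classical
  rw [brauerCentralChar, finsum_mem_eq_finite_toFinset_sum _ (Set.toFinite _), omega,
    Finset.sum_div]
  have e : (Set.toFinite {h : H | IsConj g (h : G) ∧
      (h : G) ∈ Subgroup.centralizer (P : Set G)}).toFinset =
      Finset.univ.filter fun h : H => IsConj g (h : G) ∧
      (h : G) ∈ Subgroup.centralizer (P : Set G) := by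
    ext; simp
  rw [e, Finset.sum_filter]
  refine Finset.sum_congr rfl fun k _ => ?_
  simp only [brFun]
  by_cases h1 : (k : G) ∈ Subgroup.centralizer (P : Set G) <;> by_cases h2 : IsConj g (k : G) <;>
    simp only [h1, h2, and_self, and_true, and_false, false_and, true_and, ↓reduceIte, if_true,
      if_false, zero_mul, one_mul, zero_div]

/-- The restriction of a class function and its Brauer image agree on central characters. -/
theorem res_omega_restrict (hM : IsPModular p M) (hP : IsPGroup p P) (hPH : P ≤ H)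
    (hN : H ≤ Subgroup.normalizer (P : Set G)) {f : G → ℂ} (hf : IsClassFunction G f)
    (hfM : ∀ x, MemLocalRing M (f x)) (ξ : IrrCharacter H) :
    res hM (omega (ξ : H → ℂ) fun k => f k) = res hM (omega (ξ : H → ℂ) (brFun P H f)) := by
  classical
  haveI : (P.subgroupOf H).Normal := by
    refine ⟨fun n hn y => ?_⟩
    rw [Subgroup.mem_subgroupOf] at hn ⊢
    exact (Subgroup.mem_normalizer_iff).1 (hN y.2) _ |>.1 hn
  have hres : IsClassFunction H (fun k : H => f k) := fun a b => hf (a : G) (b : G)
  have hbr := brFun_isClassFunction P H hN hf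
  have hd : IsClassFunction H (fun k => f k - brFun P H f k) :=
    isClassFunction_sub hres hbr
  have hdM : ∀ k : H, MemLocalRing M (f k - brFun P H f k) := fun k =>
    (loc hM).sub_mem (hfM _) (brFun_mem P H hM hfM k)
  have h := omega_vanish_off_centralizer hM (P.subgroupOf H)
    (hP.comap_of_injective H.subtype Subtype.coe_injective) hd hdM (fun k hk => by
      have hk' : (k : G) ∈ Subgroup.centralizer (P : Set G) := fun r hr =>
        congrArg Subtype.val (hk ⟨r, hPH hr⟩ (Subgroup.mem_subgroupOf.2 hr))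
      simp [brFun, hk']) ξ
  rw [← res_eq_zero_iff hM (memRing_omega hM hd hdM ξ),
    show omega (ξ : H → ℂ) (fun k => f k - brFun P H f k) =
      omega (ξ : H → ℂ) (fun k => f k) - omega (ξ : H → ℂ) (brFun P H f) by
      simp only [omega, ← sub_div, ← Finset.sum_sub_distrib, sub_mul],
    res_sub hM (memRing_omega hM hres (fun k => hfM _) ξ)
      (memRing_omega hM hbr (brFun_mem P H hM hfM) ξ), sub_eq_zero] at h
  exact h

theorem omega_restrict_classInd (g : G) [DecidablePred (fun x => IsConj g x)] (ξ : H → ℂ) :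
    omega ξ (fun k => if IsConj g (k : G) then 1 else 0) = inducedCentralChar H ξ g := by
  classical
  rw [inducedCentralChar, finsum_mem_eq_finite_toFinset_sum _ (Set.toFinite _), omega,
    Finset.sum_div]
  have e : (Set.toFinite {h : H | IsConj g (h : G)}).toFinset =
      Finset.univ.filter fun h : H => IsConj g (h : G) := by ext; simp
  rw [e, Finset.sum_filter]
  refine Finset.sum_congr rfl fun k _ => ?_
  by_cases h2 : IsConj g (k : G) <;>
    simp only [h2, ↓reduceIte, if_true, if_false, zero_mul, one_mul, zero_div]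

theorem isClassFunction_classInd (g : G) [DecidablePred (fun x => IsConj g x)] :
    IsClassFunction G (fun x => if IsConj g x then (1 : ℂ) else 0) := by
  rw [← cf_clv]; exact cf_isClassFunction _

theorem memRing_classInd (hM : IsPModular p M) (g : G) [DecidablePred (fun x => IsConj g x)]
    (x : G) : MemLocalRing M (if IsConj g x then (1 : ℂ) else 0) := by
  split_ifs
  · exact (loc hM).one_mem
  · exact (loc hM).zero_mem

theorem memRing_inducedCentralChar (hM : IsPModular p M) (ξ : IrrCharacter H) (g : G) :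
    MemLocalRing M (inducedCentralChar H (ξ : H → ℂ) g) := by
  classical
  rw [← omega_restrict_classInd H g]
  have hcl : IsClassFunction H (fun k : H => if IsConj g (k : G) then (1 : ℂ) else 0) :=
    fun a b => isClassFunction_classInd g (a : G) (b : G)
  exact memRing_omega hM hcl (fun k => memRing_classInd hM g k) ξ

/-- For a block of `G`, being induced from `b` amounts to agreement on class functions. -/
theorem res_omega_of_induced (hM : IsPModular p M) (ξ : IrrCharacter H) (χ : IrrCharacter G)
    (h : ∀ g, MemLocalIdeal M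
      (inducedCentralChar H (ξ : H → ℂ) g - centralChar (χ : G → ℂ) g))
    {f : G → ℂ} (hf : IsClassFunction G f) (hfM : ∀ x, MemLocalRing M (f x)) :
    res hM (omega (ξ : H → ℂ) fun k => f k) = res hM (omega (χ : G → ℂ) f) := by
  classical
  have hexp : omega (ξ : H → ℂ) (fun k => f k) =
      ∑ C : ConjClasses G, f (crep C) * inducedCentralChar H (ξ : H → ℂ) (crep C) := by
    rw [omega, ← Finset.sum_fiberwise Finset.univ (fun k : H => ConjClasses.mk (k : G)),
      Finset.sum_div]
    refine Finset.sum_congr rfl fun C _ => ?_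
    rw [← omega_restrict_classInd H (crep C), omega, ← mul_div_assoc, Finset.mul_sum]
    congr 1
    rw [Finset.sum_filter]
    refine Finset.sum_congr rfl fun k _ => ?_
    have hiff : ConjClasses.mk (k : G) = C ↔ IsConj (crep C) (k : G) := by
      rw [← ConjClasses.mk_eq_mk_iff_isConj, mk_crep]; exact eq_comm
    by_cases hk : IsConj (crep C) (k : G)
    · rw [if_pos (hiff.2 hk), if_pos hk, classFun_eq_of_isConj hf hk]; ring
    · rw [if_neg (mt hiff.1 hk), if_neg hk]; ring
  rw [hexp, omega_eq_sum_classes hf]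
  change res hM _ = res hM (∑ C : ConjClasses G, f (crep C) * clv (crep C) χ)
  rw [
    res_sum hM fun C _ => (loc hM).mul_mem (hfM _) (memRing_inducedCentralChar H hM ξ _),
    res_sum hM fun C _ => (loc hM).mul_mem (hfM _) (memRing_clv hM _ χ)]
  refine Finset.sum_congr rfl fun C _ => ?_
  rw [res_mul hM (hfM _) (memRing_inducedCentralChar H hM ξ _),
    res_mul hM (hfM _) (memRing_clv hM _ χ),
    (memIdeal_sub_iff hM (memRing_inducedCentralChar H hM ξ _) (memRing_clv hM _ χ)).1 (h _)]

/-- For `P C_G(P) ≤ H ≤ N_G(P)`, central characters of `H` induce. -/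
theorem exists_induced_brauer (hM : IsPModular p M) (hP : IsPGroup p P)
    (hC : Subgroup.centralizer (P : Set G) ≤ H) (hPH : P ≤ H)
    (hN : H ≤ Subgroup.normalizer (P : Set G)) (ξ : IrrCharacter H) :
    ∃ χ : IrrCharacter G, ∀ g, MemLocalIdeal M
      (inducedCentralChar H (ξ : H → ℂ) g - centralChar (χ : G → ℂ) g) := by
  classical
  obtain ⟨χ, hχ⟩ := exists_irr_brauer P H hM hP hC hN ξ
  refine ⟨χ, fun g => ?_⟩
  rw [memIdeal_sub_iff hM (memRing_inducedCentralChar H hM ξ g)
    (show MemLocalRing M (centralChar (χ : G → ℂ) g) from memRing_clv hM g χ),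
    ← omega_classInd g χ, ← omega_restrict_classInd H g,
    res_omega_restrict P H hM hP hPH hN (isClassFunction_classInd g)
      (memRing_classInd hM g) ξ]
  exact hχ _ (isClassFunction_classInd g) (memRing_classInd hM g)

/-- Induction of central characters is constant on blocks of `H`. -/
theorem induced_congr (hM : IsPModular p M) {ξ ξ' : IrrCharacter H}
    (h : SameBlock M (ξ : H → ℂ) (ξ' : H → ℂ)) (g : G) :
    res hM (inducedCentralChar H (ξ : H → ℂ) g) =
      res hM (inducedCentralChar H (ξ' : H → ℂ) g) := by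
  classical
  rw [← omega_restrict_classInd H g, ← omega_restrict_classInd H g]
  have hcl : IsClassFunction H (fun k : H => if IsConj g (k : G) then (1 : ℂ) else 0) :=
    fun a b => isClassFunction_classInd g (a : G) (b : G)
  exact Zloc_res_congr hM (omega_mem_Zloc hM hcl (fun k => memRing_classInd hM g k)) h

theorem isInducedBlock_of_congr (hM : IsPModular p M) {b : Set (IrrCharacter H)}
    (hb : IsPBlock M b) {B : Set (IrrCharacter G)} (hB : IsPBlock M B) {ξ : IrrCharacter H}
    (hξ : ξ ∈ b) {χ : IrrCharacter G} (hχ : χ ∈ B)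
    (h : ∀ g, MemLocalIdeal M
      (inducedCentralChar H (ξ : H → ℂ) g - centralChar (χ : G → ℂ) g)) :
    IsInducedBlock M H b B := by
  refine ⟨hb, hB, fun ξ' hξ' χ' hχ' g => ?_⟩
  rw [memIdeal_sub_iff hM (memRing_inducedCentralChar H hM ξ' g)
    (show MemLocalRing M (centralChar (χ' : G → ℂ) g) from memRing_clv hM g χ'),
    induced_congr H hM (sameBlock_of_mem hM hb hξ' hξ) g,
    (memIdeal_sub_iff hM (memRing_inducedCentralChar H hM ξ g) (memRing_clv hM g χ)).1 (h g)]
  exact (sameBlock_iff_res hM χ χ').1 (sameBlock_of_mem hM hB hχ hχ') g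

end brauer

end CfsgLib.Blocks
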