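import Cfsg.Agent.S0955
import Cfsg.Agent.Lib.Blocks.BlockBasics
import Cfsg.Agent.Lib.Blocks.InducedChar
import Cfsg.Agent.Lib.Blocks.DefectZeroCount
import Cfsg.Agent.Lib.Blocks.Proj
import Cfsg.Agent.Lib.Blocks.LocalBlocks
import Cfsg.Agent.Lib.Basic

/-!
Blocks of a group in which every nontrivial radical `p`-subgroup contains its centralizer up to the
centre.
-/

set_option autoImplicit false
set_option linter.style.haveILetI false
set_option linter.unusedSectionVars false

namespace CfsgLib.Blocks.CentralRadical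

open Cfsg CfsgLib.CharTheory CfsgLib.Blocks

universe u

variable {G : Type u} [Group G] [Fintype G] {p : ℕ} [Fact p.Prime] {M : Ideal AlgInt} {Z : Subgroup G}

/-- A regular element of `D ⊔ Z` is in `Z`. -/
theorem regular_mem_of_mem_sup (hZ : Z ≤ Subgroup.center G) (hZp : ¬ p ∣ Nat.card Z) {D : Subgroup G}
    (hD : IsPGroup p D) {g : G} (hg : g ∈ D ⊔ Z) (hreg : ¬ p ∣ orderOf g) : g ∈ Z := by
  haveI : Z.Normal := ⟨fun z hz x => by rwa [Subgroup.mem_center_iff.1 (hZ hz) x, mul_inv_cancel_right]⟩
  rw [← SetLike.mem_coe, Subgroup.mul_normal D Z, Set.mem_mul] at hg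
  obtain ⟨d, hd, z, hz, rfl⟩ := hg
  have hc : Commute d z := Subgroup.mem_center_iff.1 (hZ hz) d
  obtain ⟨k, hk⟩ := hD ⟨d, hd⟩
  have hk' : d ^ p ^ k = 1 := congrArg Subtype.val hk
  have hzc : z ^ Nat.card Z = 1 := orderOf_dvd_iff_pow_eq_one.1 (Subgroup.orderOf_dvd_natCard Z hz)
  have h1 : d ^ (orderOf (d * z) * Nat.card Z) = 1 := by
    have h2 : (d * z) ^ (orderOf (d * z) * Nat.card Z) = 1 := by rw [pow_mul, pow_orderOf_eq_one, one_pow]
    have hz1 : z ^ (orderOf (d * z) * Nat.card Z) = 1 := by rw [mul_comm, pow_mul, hzc, one_pow]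
    rwa [hc.mul_pow, hz1, mul_one] at h2
  have hcop : Nat.Coprime (p ^ k) (orderOf (d * z) * Nat.card Z) :=
    Nat.Coprime.pow_left k (((Fact.out : p.Prime).coprime_iff_not_dvd).2 fun h =>
      ((Fact.out : p.Prime).dvd_mul.1 h).elim hreg hZp)
  have hd1 : d = 1 := by
    rw [← orderOf_eq_one_iff]
    exact Nat.eq_one_of_dvd_coprimes hcop (orderOf_dvd_of_pow_eq_one hk') (orderOf_dvd_of_pow_eq_one h1)
  rwa [hd1, one_mul]

/-- A Sylow `p`-subgroup is radical. -/
theorem sylow_radical (U : Sylow p G) :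
    (pCore p (Subgroup.normalizer ((U : Subgroup G) : Set G))).map
      (Subgroup.normalizer ((U : Subgroup G) : Set G)).subtype = U := by
  set N := Subgroup.normalizer ((U : Subgroup G) : Set G)
  haveI hn : ((U : Subgroup G).subgroupOf N).Normal :=
    ⟨fun n hn g => (Subgroup.mem_normalizer_iff.1 g.2 n).1 hn⟩
  have hle : (U : Subgroup G) ≤ N := Subgroup.le_normalizer
  have h1 : (U : Subgroup G).subgroupOf N ≤ pCore p N :=
    CfsgLib.le_pCore (U.isPGroup'.comap_of_injective N.subtype (Subgroup.subtype_injective _))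
  refine (U.3 ((CfsgLib.isPGroup_pCore (G := N) p).map N.subtype) ?_)
  intro x hx
  exact ⟨⟨x, hle hx⟩, h1 hx, rfl⟩

/-- The hypothesis. -/
def RadicalSmall (p : ℕ) (Z : Subgroup G) : Prop :=
  ∀ D : Subgroup G, IsPGroup p D → D ≠ ⊥ →
    (pCore p (Subgroup.normalizer (D : Set G))).map (Subgroup.normalizer (D : Set G)).subtype = D →
    Subgroup.centralizer (D : Set G) ≤ D ⊔ Z

theorem defect_full_or_zero (hM : IsPModular p M) (hZ : Z ≤ Subgroup.center G) (hZp : ¬ p ∣ Nat.card Z)
    (hrad : RadicalSmall p Z) {B : Set (IrrCharacter G)} (hB : IsPBlock M B) :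
    (Nat.card G).factorization p ≤ blockDefect p B ∨ ∃ χ : IrrCharacter G, IsDefZero p χ ∧ B = {χ} := by
  obtain ⟨D, hD⟩ := exists_defectGroup hM hB
  by_cases hD1 : D = ⊥
  · right
    have h0 : blockDefect p B = 0 := by
      have h := card_defectGroup hM hB hD
      rw [hD1, Subgroup.card_bot] at h
      exact (Nat.pow_eq_one.1 h.symm).resolve_left (Fact.out : p.Prime).ne_one
    obtain ⟨χ, hχ, hdv⟩ := exists_height_zero hM hB
    have hle := minDv_le_card hM hB
    rw [blockDefect_eq] at h0
    have hfull : dv p (χ : G → ℂ) = (Nat.card G).factorization p := by omega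
    exact ⟨χ, hfull, (eq_blockOf hM hB hχ).trans ((defect_zero_iff hM χ).1 hfull)⟩
  · left
    have hDp := defectGroup_isPGroup hD
    have hC := hrad D hDp hD1 (Cfsg.Agent.S0955.result p M hM B hB D hD)
    obtain ⟨g, hg, S, hS⟩ := id hD
    have hgC : g ∈ Subgroup.centralizer (D : Set G) := by
      intro r hr
      obtain ⟨r', -, rfl⟩ := (hS ▸ hr : r ∈ _)
      exact Subgroup.mem_centralizer_singleton_iff.1 r'.2
    have hgZ : g ∈ Z := regular_mem_of_mem_sup hZ hZp hDp (hC hgC) (isDefectClass_regular hM hB hg)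
    rw [blockDefect_eq_centralizer hM hB hg]
    have htop : Subgroup.centralizer ({g} : Set G) = ⊤ := by
      rw [eq_top_iff]
      exact fun x _ => Subgroup.mem_centralizer_singleton_iff.2 (Subgroup.mem_center_iff.1 (hZ hgZ) x)
    rw [htop, Subgroup.card_top]

theorem card_full_le (hM : IsPModular p M) (hZ : Z ≤ Subgroup.center G) (hZp : ¬ p ∣ Nat.card Z)
    (hrad : RadicalSmall p Z) (hdvd : p ∣ Nat.card G) :
    Nat.card {B : Set (IrrCharacter G) // IsPBlock M B ∧ (Nat.card G).factorization p ≤ blockDefect p B} ≤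
      Nat.card Z := by
  classical
  refine (InducedChar.card_blocks_le_classes hM _).trans ?_
  refine Nat.card_le_card_of_surjective
    (fun z : Z => (⟨ConjClasses.mk (z : G), z, rfl, fun h => hZp (h.trans (Subgroup.orderOf_dvd_natCard Z z.2)),
      le_of_eq (by
        rw [show Subgroup.centralizer ({(z : G)} : Set G) = ⊤ from eq_top_iff.2 fun x _ =>
          Subgroup.mem_centralizer_singleton_iff.2 (Subgroup.mem_center_iff.1 (hZ z.2) x), Subgroup.card_top])⟩ :
      {C : ConjClasses G // ∃ g : G, ConjClasses.mk g = C ∧ IsPRegular p g ∧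
        (Nat.card G).factorization p ≤ (Nat.card (Subgroup.centralizer ({g} : Set G))).factorization p})) ?_
  rintro ⟨C, g, hg, hreg, hd⟩
  obtain ⟨S⟩ := (inferInstance : Nonempty (Sylow p (Subgroup.centralizer ({g} : Set G))))
  obtain ⟨U, hU⟩ := (S.2.map (Subgroup.centralizer ({g} : Set G)).subtype).exists_le_sylow
  have heq : (S : Subgroup _).map (Subgroup.centralizer ({g} : Set G)).subtype = (U : Subgroup G) := by
    refine Subgroup.eq_of_le_of_card_ge hU ?_
    rw [Subgroup.card_map_of_injective (Subgroup.subtype_injective _),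
      Sylow.card_eq_multiplicity S, Sylow.card_eq_multiplicity U]
    exact Nat.pow_le_pow_right (Fact.out : p.Prime).pos hd
  have hU1 : (U : Subgroup G) ≠ ⊥ := fun h => by
    have h1 := Sylow.card_eq_multiplicity U
    rw [h, Subgroup.card_bot] at h1
    have := (Nat.pow_eq_one.1 h1.symm).resolve_left (Fact.out : p.Prime).ne_one
    exact ((Fact.out : p.Prime).factorization_pos_of_dvd Nat.card_pos.ne' hdvd).ne' this
  have hgU : g ∈ Subgroup.centralizer ((U : Subgroup G) : Set G) := by
    intro r hr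
    obtain ⟨r', -, rfl⟩ := (heq ▸ hr : r ∈ _)
    exact Subgroup.mem_centralizer_singleton_iff.1 r'.2
  have hgZ := regular_mem_of_mem_sup hZ hZp U.isPGroup'
    (hrad U U.isPGroup' hU1 (sylow_radical U) hgU) hreg
  exact ⟨⟨g, hgZ⟩, Subtype.ext hg⟩

/-- Exactly one block more than the order of the central subgroup. -/
theorem card_blocks (hM : IsPModular p M) (hZ : Z ≤ Subgroup.center G) (hZp : ¬ p ∣ Nat.card Z)
    (hrad : RadicalSmall p Z) (hdvd : p ∣ Nat.card G) (St : IrrCharacter G) (hSt : IsDefZero p St)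
    (hStZ : ∀ z ∈ Z, (St : G → ℂ) z = (St : G → ℂ) 1)
    (huniq : ∀ χ ψ : IrrCharacter G, IsDefZero p χ → IsDefZero p ψ → χ = ψ) :
    Nat.card {B : Set (IrrCharacter G) // IsPBlock M B} = Nat.card Z + 1 := by
  classical
  haveI : Z.Normal := ⟨fun z hz x => by rwa [Subgroup.mem_center_iff.1 (hZ hz) x, mul_inv_cancel_right]⟩
  haveI := Fintype.ofFinite Z
  have hblSt : blockOf M (St : G → ℂ) = {St} := (defect_zero_iff hM St).1 hSt
  refine le_antisymm ?_ ?_
  · let f : {B : Set (IrrCharacter G) // IsPBlock M B} →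
        Option {B : Set (IrrCharacter G) // IsPBlock M B ∧ (Nat.card G).factorization p ≤ blockDefect p B} :=
      fun B => if h : (Nat.card G).factorization p ≤ blockDefect p B.1 then some ⟨B.1, B.2, h⟩ else none
    have hf : Function.Injective f := by
      rintro ⟨B, hB⟩ ⟨B', hB'⟩ h
      simp only [f] at h
      split_ifs at h with h1 h2
      · exact Subtype.ext (congrArg Subtype.val (Option.some.inj h) :)
      · refine Subtype.ext ?_
        obtain ⟨χ, hχ, rfl⟩ := (defect_full_or_zero hM hZ hZp hrad hB).resolve_left h1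
        obtain ⟨ψ, hψ, rfl⟩ := (defect_full_or_zero hM hZ hZp hrad hB').resolve_left (by assumption)
        show ({χ} : Set (IrrCharacter G)) = {ψ}
        rw [huniq χ ψ hχ hψ]
    refine (Nat.card_le_card_of_injective f hf).trans ?_
    rw [Finite.card_option]
    exact Nat.add_le_add_right (card_full_le hM hZ hZp hrad hdvd) 1
  · have hirr : Nat.card (IrrCharacter Z) = Nat.card Z := by
      rw [card_irr_eq_card_conjClasses]
      refine (Nat.card_congr (Equiv.ofBijective ConjClasses.mk ⟨fun a b h => ?_, ConjClasses.mk_surjective⟩)).symm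
      obtain ⟨c, hc⟩ := isConj_iff.1 (ConjClasses.mk_eq_mk_iff_isConj.1 h)
      rw [← hc]
      apply Subtype.ext
      simp only [Subgroup.coe_mul, Subgroup.coe_inv]
      rw [Subgroup.mem_center_iff.1 (hZ a.2) (c : G), mul_inv_cancel_right]
    have hnd : ∀ θ : IrrCharacter Z, ∃ χ : IrrCharacter G,
        classInner (fun z : Z => (χ : G → ℂ) z) (θ : Z → ℂ) ≠ 0 ∧ ¬ IsDefZero p χ := by
      intro θ
      obtain ⟨χ, hχ⟩ := exists_over θ
      by_cases hχd : IsDefZero p χ
      · refine ⟨oneIrr G, ?_, fun h => ?_⟩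
        · intro h0
          apply hχ
          have e := huniq χ St hχd hSt
          subst e
          have e : (fun z : Z => (χ : G → ℂ) z) = fun z : Z => (χ : G → ℂ) 1 * (oneIrr G : G → ℂ) z :=
            funext fun z => by rw [hStZ z z.2]; simp [oneIrr]
          rw [e]
          have := classInner_smul_left ((χ : G → ℂ) 1) (fun z : Z => (oneIrr G : G → ℂ) z) (θ : Z → ℂ)
          exact this.trans (by rw [h0, mul_zero])
        · have hd1 : charDegree (oneIrr G : G → ℂ) = 1 := by simp [charDegree, oneIrr]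
          rw [IsDefZero, hd1, Nat.factorization_one] at h
          exact ((Fact.out : p.Prime).factorization_pos_of_dvd Nat.card_pos.ne' hdvd).ne' (by simpa using h.symm)
      · exact ⟨χ, hχ, hχd⟩
    choose c hc hcd using hnd
    let f : Option (IrrCharacter Z) → {B : Set (IrrCharacter G) // IsPBlock M B} := fun o =>
      o.elim ⟨_, blockOf_isPBlock St⟩ fun θ => ⟨_, blockOf_isPBlock (c θ)⟩
    have hsep : ∀ θ, blockOf M (c θ : G → ℂ) ≠ blockOf M (St : G → ℂ) := fun θ h => by
      have h1 := mem_blockOf_self hM (c θ)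
      rw [h, hblSt, Set.mem_singleton_iff] at h1
      exact hcd θ (h1 ▸ hSt)
    have hf : Function.Injective f := by
      rintro (_ | θ) (_ | θ') h
      · rfl
      · exact absurd (congrArg Subtype.val h).symm (hsep θ')
      · exact absurd (congrArg Subtype.val h) (hsep θ)
      · have h' : blockOf M (c θ : G → ℂ) = blockOf M (c θ' : G → ℂ) := congrArg Subtype.val h
        have hsame : SameBlock M (c θ' : G → ℂ) (c θ : G → ℂ) := by
          have := mem_blockOf_self hM (c θ)
          rw [h'] at this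
          exact this
        have h1 := BlockBasics.constituent_transfer hM hZp hsame (hc θ')
        obtain ⟨x, hx⟩ := exists_conj_of_constituents Z (c θ).2 θ.2 θ'.2 (hc θ) h1
        congr 1
        refine Subtype.ext ?_
        rw [← hx]
        funext z
        simp only [conjNormFun]
        congr 1
        simp [Subgroup.mem_center_iff.1 (hZ z.2) x, mul_assoc]
    have := Nat.card_le_card_of_injective f hf
    rwa [Finite.card_option, hirr] at this

end CfsgLib.Blocks.CentralRadical
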