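import Cfsg.Agent.Lib.Blocks.ChainInvolution
import Cfsg.Agent.Lib.Blocks.Rank
import Cfsg.Agent.Lib.Blocks.SecondMain
import Cfsg.Agent.Lib.Blocks.Transport
import Cfsg.Agent.Lib.Blocks.Brauer

/-!
# `k - l` of a union of blocks through sections, and over chain stabilizers
-/

namespace CfsgLib.Blocks

open Cfsg CfsgLib.CharTheory
open scoped ComplexConjugate

set_option linter.unusedVariables false
set_option linter.unusedSimpArgs false
set_option linter.style.haveILetI false
set_option linter.unusedSectionVars false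

universe u

variable {p : ℕ} {M : Ideal AlgInt} {G : Type u} [Group G] [Fintype G]

/-- Elements of order divisible by `p`, sorted by their `p`-parts. -/
theorem sum_singular (hp : p.Prime) (f : G → ℂ)
    [DecidablePred fun x : G => (∃ k : ℕ, orderOf x = p ^ k) ∧ x ≠ 1]
    [∀ x : G, Fintype (Subgroup.centralizer ({x} : Set G))] :
    ∑ g ∈ Finset.univ.filter (fun g : G => p ∣ orderOf g), f g =
      ∑ x ∈ Finset.univ.filter (fun x : G => (∃ k : ℕ, orderOf x = p ^ k) ∧ x ≠ 1),
        ∑ y ∈ Finset.univ.filter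
          (fun y : Subgroup.centralizer ({x} : Set G) => ¬ p ∣ orderOf y), f (x * (y : G)) := by
  classical
  choose pp ww hpw hcpw hpp hww hppm hwwm using fun g : G => exists_pPart hp g
  rw [Finset.sum_sigma']
  symm
  refine Finset.sum_bij (fun a _ => a.1 * (a.2 : G)) ?_ ?_ ?_ (fun _ _ => rfl)
  · rintro ⟨x, y⟩ ha
    obtain ⟨hx, hy⟩ := Finset.mem_sigma.1 ha
    obtain ⟨-, ⟨k, hk⟩, hx1⟩ := Finset.mem_filter.1 hx
    have hy' : ¬ p ∣ orderOf (y : G) := by
      rw [Subgroup.orderOf_coe]; exact (Finset.mem_filter.1 hy).2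
    have hc : Commute x (y : G) := (Subgroup.mem_centralizer_singleton_iff.1 y.2).symm
    refine Finset.mem_filter.2 ⟨Finset.mem_univ _, ?_⟩
    have hk0 : k ≠ 0 := fun h => hx1 (orderOf_eq_one_iff.1 (by rw [hk, h, pow_zero]))
    have hcop : (orderOf x).Coprime (orderOf (y : G)) := by
      rw [hk]; exact (hp.coprime_iff_not_dvd.2 hy').pow_left k
    show p ∣ orderOf (x * (y : G))
    rw [hc.orderOf_mul_eq_mul_orderOf_of_coprime hcop, hk]
    exact (dvd_pow_self p hk0).trans (Dvd.intro _ rfl)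
  · rintro ⟨x, y⟩ ha ⟨x', y'⟩ ha' he
    obtain ⟨hx, hy⟩ := Finset.mem_sigma.1 ha
    obtain ⟨hx', hy'⟩ := Finset.mem_sigma.1 ha'
    have h1 : ¬ p ∣ orderOf (y : G) := by
      rw [Subgroup.orderOf_coe]; exact (Finset.mem_filter.1 hy).2
    have h2 : ¬ p ∣ orderOf (y' : G) := by
      rw [Subgroup.orderOf_coe]; exact (Finset.mem_filter.1 hy').2
    obtain ⟨rfl, h⟩ := pPart_unique hp (Subgroup.mem_centralizer_singleton_iff.1 y.2).symm
      (Subgroup.mem_centralizer_singleton_iff.1 y'.2).symm (Finset.mem_filter.1 hx).2.1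
      (Finset.mem_filter.1 hx').2.1 h1 h2 he
    rw [Subtype.ext h]
  · intro g hg
    have hm : ww g ∈ Subgroup.centralizer ({pp g} : Set G) :=
      Subgroup.mem_centralizer_singleton_iff.2 (hcpw g).eq.symm
    refine ⟨⟨pp g, ⟨ww g, hm⟩⟩, Finset.mem_sigma.2 ⟨Finset.mem_filter.2 ⟨Finset.mem_univ _,
      hpp g, fun h1 => hww g ?_⟩, Finset.mem_filter.2 ⟨Finset.mem_univ _, ?_⟩⟩, hpw g⟩
    · have h2 := hpw g
      rw [show pp g = 1 from h1, one_mul] at h2
      rw [h2]; exact (Finset.mem_filter.1 hg).2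
    · rw [Subgroup.orderOf_mk]; exact hww g

/-- Projection formula for a union of blocks. -/
theorem sum_regS_closed (hM : IsPModular p M) {U : Set (IrrCharacter G)}
    (hU : ∀ ψ ∈ U, blockOf M (ψ : G → ℂ) ⊆ U) {χ : IrrCharacter G} (hχ : χ ∈ U) {g : G}
    (hg : ¬ p ∣ orderOf g) :
    ∑ ψ ∈ bset U, regS p (χ : G → ℂ) (ψ : G → ℂ) * (ψ : G → ℂ) g =
      (Nat.card G : ℂ) * (χ : G → ℂ) g := by
  classical
  rw [← Finset.sum_fiberwise_of_maps_to
    (t := (bset U).image fun ψ : IrrCharacter G => blockOf M (ψ : G → ℂ))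
    (g := fun ψ : IrrCharacter G => blockOf M (ψ : G → ℂ))
    (fun ψ hψ => Finset.mem_image_of_mem _ hψ)]
  have key : ∀ ψ₀ ∈ U, ∑ ψ ∈ (bset U).filter (fun ψ : IrrCharacter G => blockOf M (ψ : G → ℂ) =
      blockOf M (ψ₀ : G → ℂ)), regS p (χ : G → ℂ) (ψ : G → ℂ) * (ψ : G → ℂ) g =
      ind (blockOf M (ψ₀ : G → ℂ)) χ * (Nat.card G : ℂ) * (χ : G → ℂ) g := by
    intro ψ₀ h0
    have e : (bset U).filter (fun ψ : IrrCharacter G => blockOf M (ψ : G → ℂ) = blockOf M (ψ₀ : G → ℂ)) =
        bset (blockOf M (ψ₀ : G → ℂ)) := by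
      ext ψ
      simp only [Finset.mem_filter, mem_bset]
      exact ⟨fun h => h.2 ▸ mem_blockOf_self hM ψ, fun h => ⟨hU ψ₀ h0 h, blockOf_eq_of_mem hM h⟩⟩
    rw [e, sum_regS_mul hM (blockOf_isPBlock ψ₀) χ g, if_neg hg]
  rw [Finset.sum_eq_single (blockOf M (χ : G → ℂ))]
  · rw [key χ hχ, ind_of_mem (mem_blockOf_self hM χ), one_mul]
  · intro b hb hne
    obtain ⟨ψ₀, h0, rfl⟩ := Finset.mem_image.1 hb
    rw [key ψ₀ (mem_bset.1 h0), ind_of_notMem (fun h => hne (blockOf_eq_of_mem hM h).symm),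
      zero_mul, zero_mul]
  · exact fun h => absurd (Finset.mem_image_of_mem _ (mem_bset.2 hχ)) h

/-- The regular rank of a union of blocks. -/
theorem card_mul_rank_closed (hM : IsPModular p M) {U : Set (IrrCharacter G)}
    (hU : ∀ ψ ∈ U, blockOf M (ψ : G → ℂ) ⊆ U) :
    (Nat.card G : ℂ) * (blockRank p U : ℂ) =
      ∑ ψ ∈ bset U, regS p (ψ : G → ℂ) (ψ : G → ℂ) := by
  classical
  have hG : (Nat.card G : ℂ) ≠ 0 := Nat.cast_ne_zero.2 Nat.card_pos.ne'
  set W := Submodule.span ℂ ((fun χ : IrrCharacter G => pRegularPart p (χ : G → ℂ)) '' U) with hW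
  let P : (G → ℂ) →ₗ[ℂ] (G → ℂ) :=
    { toFun := fun f g => (Nat.card G : ℂ)⁻¹ * ∑ φ ∈ bset U,
        (∑ h, regFn p (φ : G → ℂ) h * f h) * pRegularPart p (φ : G → ℂ) g
      map_add' := fun f f' => funext fun g => by
        simp only [Pi.add_apply, mul_add, Finset.sum_add_distrib, add_mul]
      map_smul' := fun r f => funext fun g => by
        simp only [Pi.smul_apply, smul_eq_mul, RingHom.id_apply, mul_left_comm _ r, ← Finset.mul_sum,
          mul_assoc] }
  have hfix : ∀ χ ∈ U, P (pRegularPart p (χ : G → ℂ)) = pRegularPart p (χ : G → ℂ) := by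
    intro χ hχ
    funext g
    show (Nat.card G : ℂ)⁻¹ * ∑ φ ∈ bset U, (∑ h, regFn p (φ : G → ℂ) h *
      pRegularPart p (χ : G → ℂ) h) * pRegularPart p (φ : G → ℂ) g = _
    have e : ∀ φ : IrrCharacter G, ∑ h, regFn p (φ : G → ℂ) h * pRegularPart p (χ : G → ℂ) h =
        regS p (χ : G → ℂ) (φ : G → ℂ) := by
      intro φ
      refine Finset.sum_congr rfl fun h _ => ?_
      by_cases hh : p ∣ orderOf h <;> simp [regFn, pRegularPart_apply, hh]
    simp only [e]
    simp only [pRegularPart_apply]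
    by_cases hg : p ∣ orderOf g
    · simp [hg]
    · simp only [if_neg hg]
      rw [sum_regS_closed hM hU hχ hg, ← mul_assoc, inv_mul_cancel₀ hG, one_mul]
  have hproj : LinearMap.IsProj W P := by
    refine ⟨fun f => ?_, fun f hf => ?_⟩
    · have e : P f = ∑ φ ∈ bset U, ((Nat.card G : ℂ)⁻¹ * ∑ h, regFn p (φ : G → ℂ) h * f h) •
          pRegularPart p (φ : G → ℂ) := by
        funext g
        show (Nat.card G : ℂ)⁻¹ * _ = _
        simp only [Finset.sum_apply, Pi.smul_apply, smul_eq_mul]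
        rw [Finset.mul_sum]
        exact Finset.sum_congr rfl fun _ _ => by ring
      rw [e]
      exact W.sum_mem fun φ hφ => W.smul_mem _
        (Submodule.subset_span ⟨φ, mem_bset.1 hφ, rfl⟩)
    · induction hf using Submodule.span_induction with
      | mem f hf => obtain ⟨χ, hχ, rfl⟩ := hf; exact hfix χ hχ
      | zero => exact map_zero _
      | add a b _ _ ha hb => rw [map_add, ha, hb]
      | smul r a _ ha => rw [map_smul, ha]
  have htr := hproj.trace
  rw [LinearMap.trace_eq_matrix_trace ℂ (Pi.basisFun ℂ G)] at htr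
  rw [blockRank, ← hW, ← htr, Matrix.trace]
  simp only [Matrix.diag, LinearMap.toMatrix_apply, Pi.basisFun_apply, Pi.basisFun_repr]
  have e : ∀ g : G, P (Pi.single g 1) g =
      (Nat.card G : ℂ)⁻¹ * ∑ φ ∈ bset U, regFn p (φ : G → ℂ) g * (φ : G → ℂ) g := by
    intro g
    show (Nat.card G : ℂ)⁻¹ * _ = _
    congr 1
    refine Finset.sum_congr rfl fun φ _ => ?_
    rw [Finset.sum_eq_single g (fun h _ hne => by rw [Pi.single_eq_of_ne hne, mul_zero])
      (by simp), Pi.single_eq_same, mul_one, pRegularPart_apply]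
    by_cases hg : p ∣ orderOf g <;> simp [regFn, hg]
  simp only [e, ← Finset.mul_sum]
  rw [← mul_assoc, mul_inv_cancel₀ hG, one_mul, Finset.sum_comm]
  rfl

/-- `|G| (k - l)` is the sum over the `p`-singular elements. -/
theorem card_sub_rank (hM : IsPModular p M) {U : Set (IrrCharacter G)}
    (hU : ∀ ψ ∈ U, blockOf M (ψ : G → ℂ) ⊆ U) :
    (Nat.card G : ℂ) * ((Nat.card U : ℂ) - (blockRank p U : ℂ)) =
      ∑ g ∈ Finset.univ.filter (fun g : G => p ∣ orderOf g),
        ∑ ψ ∈ bset U, (ψ : G → ℂ) g * conj ((ψ : G → ℂ) g) := by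
  classical
  have hG : (Nat.card G : ℂ) ≠ 0 := Nat.cast_ne_zero.2 Nat.card_pos.ne'
  have h1 : ∀ ψ : IrrCharacter G,
      ∑ g, (ψ : G → ℂ) g * conj ((ψ : G → ℂ) g) = (Nat.card G : ℂ) := by
    intro ψ
    have := classInner_irr_self ψ.2
    rw [classInner, inv_mul_eq_iff_eq_mul₀ hG, mul_one] at this
    exact this
  rw [mul_sub, card_mul_rank_closed hM hU, Finset.sum_comm,
    show (Nat.card G : ℂ) * (Nat.card U : ℂ) = ∑ ψ ∈ bset U, (Nat.card G : ℂ) by
      rw [Finset.sum_const, nsmul_eq_mul, mul_comm, Nat.card_coe_set_eq,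
        Set.ncard_eq_toFinset_card _ (Set.toFinite U)]
      rfl,
    ← Finset.sum_sub_distrib]
  refine Finset.sum_congr rfl fun ψ _ => ?_
  rw [← h1 ψ, ← sum_reg_norm p ψ, sub_eq_iff_eq_add]
  exact (Finset.sum_filter_add_sum_filter_not _ _ _).symm

/-- The regular squares over the blocks of `K` inducing `B`. -/
noncomputable def gsum (p : ℕ) (M : Ideal AlgInt) (B : Set (IrrCharacter G)) (K : Subgroup G) : ℂ :=
  letI : Fintype K := Fintype.ofFinite K
  ∑ φ ∈ bset (overBlocks M K B), regS p (φ : K → ℂ) (φ : K → ℂ)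

theorem gsum_eq (B : Set (IrrCharacter G)) (K : Subgroup G) [Fintype K] :
    gsum p M B K = ∑ φ ∈ bset (overBlocks M K B), regS p (φ : K → ℂ) (φ : K → ℂ) := by
  simp only [gsum, regS]
  refine Finset.sum_congr rfl fun φ _ => ?_
  congr 1
  ext k
  simp

theorem closed_overBlocks (hM : IsPModular p M) (H : Subgroup G) [Fintype H]
    (B : Set (IrrCharacter G)) :
    ∀ ψ ∈ overBlocks M H B, blockOf M (ψ : H → ℂ) ⊆ overBlocks M H B := fun ψ hψ φ hφ => by
  show IsInducedBlock M H (blockOf M (φ : H → ℂ)) B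
  rw [blockOf_eq_of_mem hM hφ]; exact hψ

/-- A section in `G` itself. -/
theorem section_top (hM : IsPModular p M) {B : Set (IrrCharacter G)} (hB : IsPBlock M B) {x : G}
    (hx : ∃ k : ℕ, orderOf x = p ^ k) [Fintype (Subgroup.centralizer ({x} : Set G))]
    :
    ∑ y ∈ Finset.univ.filter (fun y : Subgroup.centralizer ({x} : Set G) => ¬ p ∣ orderOf y),
        ∑ χ ∈ bset B, (χ : G → ℂ) (x * y) * conj ((χ : G → ℂ) (x * y)) =
      gsum p M B (Subgroup.centralizer ({x} : Set G)) := by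
  classical
  rw [gsum_eq, Finset.sum_congr rfl fun y hy => sum_sq_section hM (isCentr_singleton x) hx hB
    (Finset.mem_filter.1 hy).2 (Finset.mem_filter.1 hy).2, Finset.sum_comm]
  exact Finset.sum_congr rfl fun φ _ => by
    rw [← sum_reg_norm p φ]

theorem isInduced_iff_res (hM : IsPModular p M) {H : Subgroup G} [Fintype H]
    {B : Set (IrrCharacter G)} (hB : IsPBlock M B) {χ : IrrCharacter G} (hχ : χ ∈ B)
    (ξ : IrrCharacter H) :
    IsInducedBlock M H (blockOf M (ξ : H → ℂ)) B ↔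
      ∀ g : G, res hM (inducedCentralChar H (ξ : H → ℂ) g) = res hM (clv g χ) := by
  constructor
  · intro h g
    exact (memIdeal_sub_iff hM (memRing_inducedCentralChar H hM ξ g) (memRing_clv hM g χ)).1
      (h.2.2 ξ (mem_blockOf_self hM ξ) χ hχ g)
  · intro h
    exact isInducedBlock_of_congr H hM (blockOf_isPBlock ξ) hB (mem_blockOf_self hM ξ) hχ
      fun g => (memIdeal_sub_iff hM (memRing_inducedCentralChar H hM ξ g)
        (memRing_clv hM g χ)).2 (h g)

/-- A section inside a subgroup, for the blocks inducing `B`. -/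
theorem section_local (hM : IsPModular p M) {B : Set (IrrCharacter G)} (hB : IsPBlock M B)
    {N : Subgroup G} [Fintype N] {x : N} (hx : ∃ k : ℕ, orderOf x = p ^ k)
    [Fintype (Subgroup.centralizer ({x} : Set N))]
    :
    ∑ y ∈ Finset.univ.filter (fun y : Subgroup.centralizer ({x} : Set N) => ¬ p ∣ orderOf y),
        ∑ ψ ∈ bset (overBlocks M N B), (ψ : N → ℂ) (x * y) * conj ((ψ : N → ℂ) (x * y)) =
      gsum p M B (Subgroup.centralizer ({(x : G)} : Set G) ⊓ N) := by
  classical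
  set C := Subgroup.centralizer ({x} : Set N) with hC
  set C' := Subgroup.centralizer ({(x : G)} : Set G) ⊓ N with hC'
  haveI : Fintype C' := Fintype.ofFinite _
  obtain ⟨χ, hχ⟩ := block_nonempty hM hB
  let e : C ≃* C' :=
    { toFun := fun c => ⟨((c : N) : G), Subgroup.mem_inf.2 ⟨Subgroup.mem_centralizer_singleton_iff.2
        (congrArg Subtype.val (Subgroup.mem_centralizer_singleton_iff.1 c.2)), (c : N).2⟩⟩
      invFun := fun c => ⟨⟨(c : G), (Subgroup.mem_inf.1 c.2).2⟩,
        Subgroup.mem_centralizer_singleton_iff.2 (Subtype.ext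
          (Subgroup.mem_centralizer_singleton_iff.1 (Subgroup.mem_inf.1 c.2).1))⟩
      left_inv := fun _ => rfl
      right_inv := fun _ => rfl
      map_mul' := fun _ _ => rfl }
  set U := overBlocks M N B with hU
  have hUc := closed_overBlocks hM N B
  set 𝓑 := (bset U).image fun ψ : IrrCharacter N => blockOf M (ψ : N → ℂ) with h𝓑
  have h𝓑b : ∀ β ∈ 𝓑, IsPBlock M β ∧ β ⊆ U := by
    intro β hβ
    obtain ⟨ψ, hψ, rfl⟩ := Finset.mem_image.1 hβ
    exact ⟨blockOf_isPBlock ψ, hUc ψ (mem_bset.1 hψ)⟩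
  -- induction through `N`
  have htrans : ∀ φ : IrrCharacter C, (∃ β ∈ 𝓑, φ ∈ overBlocks M C β) ↔
      irrPull e.symm φ ∈ overBlocks M C' B := by
    intro φ
    obtain ⟨ψ, hψ⟩ := exists_induced_brauer (Subgroup.zpowers x) C hM
      (IsPGroup.of_card (n := hx.choose) (by rw [Nat.card_zpowers]; exact hx.choose_spec))
      (fun g hg => (isCentr_singleton x g).2 ((isCentr_zpowers x g).1 hg))
      (Subgroup.zpowers_le.2 (Subgroup.mem_centralizer_singleton_iff.2 rfl))
      (fun g hg => (Subgroup.centralizer_le_normalizer _)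
        ((isCentr_zpowers x g).2 ((isCentr_singleton x g).1 hg))) φ
    have hβ := isInducedBlock_of_congr C hM (blockOf_isPBlock φ) (blockOf_isPBlock ψ)
      (mem_blockOf_self hM φ) (mem_blockOf_self hM ψ) hψ
    have hcc : ∀ g : G, res hM (inducedCentralChar C' (irrPull e.symm φ : C' → ℂ) g) =
        res hM (inducedCentralChar N (ψ : N → ℂ) g) := by
      intro g
      rw [← omega_restrict_classInd C' g, ← omega_restrict_classInd N g,
        ← res_omega_of_induced C hM φ ψ hψ (fun a c => isClassFunction_classInd g (a : G) (c : G))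
          (fun a => memRing_classInd hM g _)]
      congr 1
      simp only [omega]
      congr 1
      · refine (Fintype.sum_equiv e.toEquiv _ _ fun c => ?_).symm
        show _ = _ * (φ : C → ℂ) (e.symm (e c))
        rw [e.symm_apply_apply]
        rfl
    show _ ↔ IsInducedBlock M C' (blockOf M (irrPull e.symm φ : C' → ℂ)) B
    rw [isInduced_iff_res hM hB hχ]
    simp only [hcc]
    rw [← isInduced_iff_res hM hB hχ ψ]
    constructor
    · rintro ⟨β, hβm, hφ⟩
      have h1 : β = blockOf M (ψ : N → ℂ) := isInducedBlock_unique hM hφ hβ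
      exact (h𝓑b β hβm).2 (h1 ▸ mem_blockOf_self hM ψ)
    · intro h
      exact ⟨blockOf M (ψ : N → ℂ), Finset.mem_image.2 ⟨ψ, mem_bset.2 h, rfl⟩, hβ⟩
  -- one regular element
  have hone : ∀ y : C, ¬ p ∣ orderOf y →
      ∑ ψ ∈ bset U, (ψ : N → ℂ) (x * y) * conj ((ψ : N → ℂ) (x * y)) =
        ∑ φ ∈ bset (overBlocks M C' B), (φ : C' → ℂ) (e y) * conj ((φ : C' → ℂ) (e y)) := by
    intro y hy
    rw [← Finset.sum_fiberwise_of_maps_to (t := 𝓑)
      (g := fun ψ : IrrCharacter N => blockOf M (ψ : N → ℂ))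
      (fun ψ hψ => Finset.mem_image_of_mem _ hψ)]
    have h1 : ∀ β ∈ 𝓑,
        ∑ ψ ∈ (bset U).filter (fun ψ : IrrCharacter N => blockOf M (ψ : N → ℂ) = β),
          (ψ : N → ℂ) (x * y) * conj ((ψ : N → ℂ) (x * y)) =
        ∑ φ ∈ bset (overBlocks M C β), (φ : C → ℂ) y * conj ((φ : C → ℂ) y) := by
      intro β hβ
      rw [← sum_sq_section hM (isCentr_singleton x) hx (h𝓑b β hβ).1 hy hy]
      refine Finset.sum_congr ?_ fun _ _ => rfl
      ext ψ
      simp only [Finset.mem_filter, mem_bset]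
      exact ⟨fun h => h.2 ▸ mem_blockOf_self hM ψ,
        fun h => ⟨(h𝓑b β hβ).2 h, (eq_blockOf hM (h𝓑b β hβ).1 h).symm⟩⟩
    rw [Finset.sum_congr rfl h1, ← Finset.sum_biUnion]
    · refine Finset.sum_bij (fun φ _ => irrPull e.symm φ) ?_
        (fun a _ a' _ h => irrPull_injective _ h) ?_ ?_
      · intro φ hφ
        obtain ⟨β, hβ, hφβ⟩ := Finset.mem_biUnion.1 hφ
        exact mem_bset.2 ((htrans φ).1 ⟨β, hβ, mem_bset.1 hφβ⟩)
      · intro φ' hφ'
        obtain ⟨φ, rfl⟩ := irrPull_surjective e.symm φ'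
        obtain ⟨β, hβ, hφβ⟩ := (htrans φ).2 (mem_bset.1 hφ')
        exact ⟨φ, Finset.mem_biUnion.2 ⟨β, hβ, mem_bset.2 hφβ⟩, rfl⟩
      · intro φ _
        rw [irrPull_apply, e.symm_apply_apply]
    · intro β hβ β' hβ' hne
      refine Finset.disjoint_left.2 fun φ h h' => hne ?_
      exact isInducedBlock_unique hM (mem_bset.1 h : IsInducedBlock M C _ β)
        (mem_bset.1 h' : IsInducedBlock M C _ β')
  rw [gsum_eq]
  refine (Finset.sum_congr rfl fun y hy => hone y (Finset.mem_filter.1 hy).2).trans ?_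
  rw [Finset.sum_congr rfl fun φ (_ : φ ∈ bset (overBlocks M C' B)) => (sum_reg_norm p φ).symm]
  conv_rhs => rw [Finset.sum_comm]
  refine Finset.sum_equiv e.toEquiv (fun y => ?_) fun y _ => rfl
  simp only [Finset.mem_filter, Finset.mem_univ, true_and]
  exact Iff.not (by rw [show e.toEquiv y = e y from rfl, MulEquiv.orderOf_eq])

/-- Knörr–Robinson: the alternating sum of `k - l` over chain stabilizers. -/
theorem chain_alternating (hM : IsPModular p M) {B : Set (IrrCharacter G)} (hB : IsPBlock M B)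
    [DecidablePred (Chains.Valid p (G := G))] [Fintype (Finset (Subgroup G))] :
    (Nat.card G : ℂ) * ((Nat.card B : ℂ) - (blockRank p B : ℂ)) =
      ∑ s ∈ Finset.univ.filter (Chains.Valid p (G := G)),
        (((-1 : ℤ) ^ (s.card - 1) : ℤ) : ℂ) * ((Nat.card (Chains.stab s) : ℂ) *
          ((Nat.card (overBlocks M (Chains.stab s) B) : ℂ) -
            (blockRank p (overBlocks M (Chains.stab s) B) : ℂ))) := by
  classical
  haveI : ∀ x : G, Fintype (Subgroup.centralizer ({x} : Set G)) := fun x => Fintype.ofFinite _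
  have hp : p.Prime := hM.1
  have hBc : ∀ ψ ∈ B, blockOf M (ψ : G → ℂ) ⊆ B := fun ψ hψ => (eq_blockOf hM hB hψ).ge
  set S := Finset.univ.filter (fun x : G => (∃ k : ℕ, orderOf x = p ^ k) ∧ x ≠ 1) with hS
  have hloc : ∀ s : Finset (Subgroup G),
      (Nat.card (Chains.stab s) : ℂ) * ((Nat.card (overBlocks M (Chains.stab s) B) : ℂ) -
        (blockRank p (overBlocks M (Chains.stab s) B) : ℂ)) =
      ∑ x ∈ S.filter (fun x => x ∈ Chains.stab s),
        gsum p M B (Subgroup.centralizer ({x} : Set G) ⊓ Chains.stab s) := by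
    intro s
    set N := Chains.stab s with hN
    haveI : Fintype N := Fintype.ofFinite N
    haveI : ∀ x : N, Fintype (Subgroup.centralizer ({x} : Set N)) := fun x => Fintype.ofFinite _
    rw [card_sub_rank hM (closed_overBlocks hM N B), sum_singular hp,
      Finset.sum_congr rfl fun x hx => section_local hM hB (Finset.mem_filter.1 hx).2.1]
    refine Finset.sum_bij (fun (x : N) _ => (x : G)) ?_ (fun _ _ _ _ h => Subtype.ext h) ?_
      (fun _ _ => rfl)
    · intro x hx
      obtain ⟨-, ⟨k, hk⟩, hx1⟩ := Finset.mem_filter.1 hx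
      exact Finset.mem_filter.2 ⟨Finset.mem_filter.2 ⟨Finset.mem_univ _,
        ⟨k, by rw [Subgroup.orderOf_coe]; exact hk⟩, fun h => hx1 (Subtype.ext h)⟩, x.2⟩
    · intro x hx
      obtain ⟨hx1, hxN⟩ := Finset.mem_filter.1 hx
      obtain ⟨-, ⟨k, hk⟩, hx2⟩ := Finset.mem_filter.1 hx1
      exact ⟨⟨x, hxN⟩, Finset.mem_filter.2 ⟨Finset.mem_univ _,
        ⟨k, by rw [Subgroup.orderOf_mk]; exact hk⟩, fun h => hx2 (congrArg Subtype.val h)⟩, rfl⟩
  rw [card_sub_rank hM hBc, sum_singular hp,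
    Finset.sum_congr rfl fun x hx => section_top hM hB (Finset.mem_filter.1 hx).2.1]
  simp only [hloc, Finset.mul_sum]
  rw [Finset.sum_comm' (t' := S)
    (s' := fun x => Finset.univ.filter fun s : Finset (Subgroup G) =>
      Chains.Valid p s ∧ x ∈ Chains.stab s) (fun s x => by
        simp only [Finset.mem_filter, Finset.mem_univ, true_and]
        tauto)]
  refine Finset.sum_congr rfl fun x hx => ?_
  obtain ⟨-, ⟨k, hk⟩, hx1⟩ := Finset.mem_filter.1 hx
  exact (Chains.sum_flip hp (IsPGroup.of_card (n := k) (by rw [Nat.card_zpowers, hk])) hx1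
    (gsum p M B)).symm

end CfsgLib.Blocks
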