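import Mathlib

/-!
# Cancellation over chains of `p`-subgroups normalized by a fixed `p`-element
-/

namespace CfsgLib.Blocks.Chains

open scoped symmDiff

universe u

variable {G : Type u} [Group G] [Finite G] {p : ℕ}

/-- Chains of non-trivial `p`-subgroups, each normal in the largest. -/
def Valid (p : ℕ) (s : Finset (Subgroup G)) : Prop :=
  s.Nonempty ∧ (∀ Q ∈ s, ∀ R ∈ s, Q ≤ R ∨ R ≤ Q) ∧ (∀ Q ∈ s, Q ≠ ⊥ ∧ IsPGroup p Q) ∧
    ∃ T ∈ s, ∀ Q ∈ s, Q ≤ T ∧ T ≤ Subgroup.normalizer ((Q : Subgroup G) : Set G)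

/-- The stabilizer of a chain. -/
def stab (s : Finset (Subgroup G)) : Subgroup G :=
  ⨅ Q ∈ s, Subgroup.normalizer ((Q : Subgroup G) : Set G)

theorem mem_stab {s : Finset (Subgroup G)} {c : G} :
    c ∈ stab s ↔ ∀ Q ∈ s, c ∈ Subgroup.normalizer ((Q : Subgroup G) : Set G) := by
  simp [stab, Subgroup.mem_iInf]

/-- The conjugates of `x` under `W` generate this. -/
def ncl (W : Subgroup G) (x : G) : Subgroup G :=
  Subgroup.closure {z | ∃ w ∈ W, w * x * w⁻¹ = z}

theorem self_mem_ncl (W : Subgroup G) (x : G) : x ∈ ncl W x :=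
  Subgroup.subset_closure ⟨1, W.one_mem, by simp⟩

theorem ncl_le {W K : Subgroup G} {x : G} (hx : x ∈ K)
    (hW : W ≤ Subgroup.normalizer (K : Set G)) : ncl W x ≤ K := by
  refine (Subgroup.closure_le K).2 ?_
  rintro _ ⟨w, hw, rfl⟩
  exact (Subgroup.mem_normalizer_iff.1 (hW hw) x).1 hx

theorem mem_normalizer_of_conj {K : Subgroup G} {c : G} (h : ∀ z ∈ K, c * z * c⁻¹ ∈ K) :
    c ∈ Subgroup.normalizer (K : Set G) :=
  (Subgroup.mem_normalizer_fintype (S := (K : Set G)) (x := c) fun n hn => h n hn)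

theorem normalizes_ncl {W : Subgroup G} {x c : G}
    (hW : c ∈ Subgroup.normalizer (W : Set G)) (hx : c * x * c⁻¹ ∈ ncl W x) :
    c ∈ Subgroup.normalizer ((ncl W x : Subgroup G) : Set G) := by
  have key : ncl W x ≤ (ncl W x).comap (MulAut.conj c).toMonoidHom := by
    refine (Subgroup.closure_le _).2 ?_
    rintro _ ⟨w, hw, rfl⟩
    show c * (w * x * w⁻¹) * c⁻¹ ∈ ncl W x
    have hwc : c * w * c⁻¹ ∈ W := (Subgroup.mem_normalizer_iff.1 hW w).1 hw
    have hN : c * w * c⁻¹ ∈ Subgroup.normalizer ((ncl W x : Subgroup G) : Set G) := by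
      refine mem_normalizer_of_conj fun z hz => ?_
      have hsub : ncl W x ≤ (ncl W x).comap (MulAut.conj (c * w * c⁻¹)).toMonoidHom := by
        refine (Subgroup.closure_le _).2 ?_
        rintro _ ⟨v, hv, rfl⟩
        exact Subgroup.subset_closure ⟨c * w * c⁻¹ * v, W.mul_mem hwc hv, by
          simp [mul_assoc]⟩
      exact hsub hz
    have h := (Subgroup.mem_normalizer_iff.1 hN _).1 hx
    convert h using 1
    group
  exact mem_normalizer_of_conj fun z hz => key hz

theorem le_normalizer_ncl (W : Subgroup G) (x : G) :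
    W ≤ Subgroup.normalizer ((ncl W x : Subgroup G) : Set G) := fun w hw =>
  normalizes_ncl (Subgroup.le_normalizer hw) (Subgroup.subset_closure ⟨w, hw, rfl⟩)

/-- A `p`-group generated by a normal subgroup and the conjugates of an element is generated by
the subgroup and the element. -/
theorem eq_sup_zpowers (hp : p.Prime) {T J : Subgroup G} {x : G} (hT : IsPGroup p T)
    (hJ : J ≤ T) (hx : x ∈ T) (h : T = J ⊔ ncl T x) :
    J ⊔ Subgroup.zpowers x = T := by
  haveI : Fact p.Prime := ⟨hp⟩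
  haveI := hT.isNilpotent
  set H := J ⊔ Subgroup.zpowers x with hH
  have hHT : H ≤ T := sup_le hJ (Subgroup.zpowers_le.2 hx)
  rcases eq_or_ne (H.subgroupOf T) ⊤ with htop | hne
  · exact le_antisymm hHT (Subgroup.subgroupOf_eq_top.1 htop)
  exfalso
  obtain ⟨K, hK, hHK⟩ := (eq_top_or_exists_le_coatom (H.subgroupOf T)).resolve_left hne
  haveI hKn : K.Normal :=
    Subgroup.NormalizerCondition.normal_of_coatom _ Group.normalizerCondition_of_isNilpotent hK
  have hJK : J ≤ K.map T.subtype := fun j hj =>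
    ⟨⟨j, hJ hj⟩, hHK (Subgroup.mem_subgroupOf.2 (Subgroup.mem_sup_left hj)), rfl⟩
  have hnK : ncl T x ≤ K.map T.subtype := by
    refine ncl_le ⟨⟨x, hx⟩, hHK (Subgroup.mem_subgroupOf.2
      (Subgroup.mem_sup_right (Subgroup.mem_zpowers x))), rfl⟩ fun t ht => ?_
    refine mem_normalizer_of_conj ?_
    rintro _ ⟨k, hk, rfl⟩
    exact ⟨⟨t, ht⟩ * k * ⟨t, ht⟩⁻¹, hKn.conj_mem k hk _, rfl⟩
  have hTK : T ≤ K.map T.subtype := h.le.trans (sup_le hJK hnK)
  refine hK.1 (eq_top_iff.2 fun t _ => ?_)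
  obtain ⟨k, hk, hkt⟩ := hTK t.2
  rwa [← Subtype.ext hkt]

variable (x : G)

/-- The largest member avoiding `x`, or `⊥`. -/
noncomputable def J (s : Finset (Subgroup G)) : Subgroup G := by
  classical exact (s.filter fun Q => x ∉ Q).sup id

/-- The largest member, enlarged by `x`. -/
noncomputable def W (s : Finset (Subgroup G)) : Subgroup G := by
  classical exact s.sup id ⊔ Subgroup.zpowers x

/-- The subgroup inserted or removed. -/
noncomputable def T (s : Finset (Subgroup G)) : Subgroup G := J x s ⊔ ncl (W x s) x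

/-- The pairing. -/
noncomputable def flip (s : Finset (Subgroup G)) : Finset (Subgroup G) := by
  classical exact if T x s ∈ s then s.erase (T x s) else insert (T x s) s

variable {x}

theorem sup_chain_mem {s : Finset (Subgroup G)} (hs : s.Nonempty)
    (hc : ∀ Q ∈ s, ∀ R ∈ s, Q ≤ R ∨ R ≤ Q) : s.sup id ∈ s := by
  classical
  rw [← Finset.sup'_eq_sup hs]
  refine Finset.sup'_mem {Q : Subgroup G | Q ∈ s} (fun a ha b hb => ?_) s hs id fun Q hQ => hQ
  rcases hc a ha b hb with h | h
  · rwa [sup_eq_right.2 h]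
  · rwa [sup_eq_left.2 h]

section

variable (hp : p.Prime) {s : Finset (Subgroup G)} (hs : Valid p s) (hx : x ∈ stab s)
  (hxp : IsPGroup p (Subgroup.zpowers x))

include hs

theorem top_mem : s.sup id ∈ s := sup_chain_mem hs.1 hs.2.1

theorem top_le_normalizer {Q : Subgroup G} (hQ : Q ∈ s) :
    s.sup id ≤ Subgroup.normalizer (Q : Set G) := by
  obtain ⟨R, hR, h⟩ := hs.2.2.2
  exact le_trans (Finset.sup_le fun Q' hQ' => (h Q' hQ').1) (h Q hQ).2

theorem J_cases : (J x s = ⊥ ∧ ∀ Q ∈ s, x ∈ Q) ∨ (J x s ∈ s ∧ x ∉ J x s) := by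
  classical
  unfold J
  rcases (s.filter fun Q => x ∉ Q).eq_empty_or_nonempty with h | h
  · refine Or.inl ⟨by rw [h]; rfl, fun Q hQ => ?_⟩
    by_contra hn
    exact Finset.eq_empty_iff_forall_notMem.1 h Q (Finset.mem_filter.2 ⟨hQ, hn⟩)
  · have hm := sup_chain_mem h fun Q hQ R hR =>
      hs.2.1 Q (Finset.mem_filter.1 hQ).1 R (Finset.mem_filter.1 hR).1
    exact Or.inr ⟨(Finset.mem_filter.1 hm).1, (Finset.mem_filter.1 hm).2⟩

theorem le_J {Q : Subgroup G} (hQ : Q ∈ s) (hxQ : x ∉ Q) : Q ≤ J x s := by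
  classical
  exact Finset.le_sup (f := id) (Finset.mem_filter.2 ⟨hQ, hxQ⟩)

theorem J_le_W : J x s ≤ W x s := by
  classical
  exact le_trans (Finset.sup_mono (Finset.filter_subset _ _)) le_sup_left

theorem J_le_of_mem {Q : Subgroup G} (hQ : Q ∈ s) (hxQ : x ∈ Q) : J x s ≤ Q := by
  rcases J_cases hs (x := x) with ⟨h, -⟩ | ⟨h, hn⟩
  · rw [h]; exact bot_le
  · rcases hs.2.1 _ h Q hQ with h' | h'
    · exact h'
    · exact absurd (h' hxQ) hn

include hx in
theorem W_le_normalizer {Q : Subgroup G} (hQ : Q ∈ s) :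
    W x s ≤ Subgroup.normalizer (Q : Set G) :=
  sup_le (top_le_normalizer hs hQ) (Subgroup.zpowers_le.2 (mem_stab.1 hx Q hQ))

include hx in
theorem W_le_normalizer_J : W x s ≤ Subgroup.normalizer (J x s : Set G) := by
  rcases J_cases hs (x := x) with ⟨h, -⟩ | ⟨h, -⟩
  · rw [h]
    intro w _
    refine mem_normalizer_of_conj fun z hz => ?_
    rw [Subgroup.mem_bot.1 hz, mul_one, mul_inv_cancel]
    exact Subgroup.one_mem _
  · exact W_le_normalizer hs hx h

include hx in
theorem W_le_normalizer_T : W x s ≤ Subgroup.normalizer (T x s : Set G) := by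
  intro w hw
  refine mem_normalizer_of_conj fun z hz => ?_
  have hJ := W_le_normalizer_J hs hx hw
  have hN := le_normalizer_ncl (W x s) x hw
  have h : T x s ≤ (T x s).comap (MulAut.conj w).toMonoidHom :=
    sup_le (fun z hz => Subgroup.mem_sup_left ((Subgroup.mem_normalizer_iff.1 hJ z).1 hz))
      (fun z hz => Subgroup.mem_sup_right ((Subgroup.mem_normalizer_iff.1 hN z).1 hz))
  exact h hz

omit hs in
theorem mem_T : x ∈ T x s := Subgroup.mem_sup_right (self_mem_ncl _ x)

omit hs in
theorem x_mem_W : x ∈ W x s := Subgroup.mem_sup_right (Subgroup.mem_zpowers x)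

theorem T_le_W : T x s ≤ W x s :=
  sup_le (J_le_W hs) (ncl_le x_mem_W Subgroup.le_normalizer)

include hx hxp in
theorem W_isPGroup : IsPGroup p (W x s) :=
  IsPGroup.to_sup_of_normal_left' (hs.2.2.1 _ (top_mem hs)).2 hxp
    (Subgroup.zpowers_le.2 (mem_stab.1 hx _ (top_mem hs)))

include hx in
theorem comparable {Q : Subgroup G} (hQ : Q ∈ s) : Q ≤ T x s ∨ T x s ≤ Q := by
  by_cases hxQ : x ∈ Q
  · exact Or.inr (sup_le (J_le_of_mem hs hQ hxQ) (ncl_le hxQ (W_le_normalizer hs hx hQ)))
  · exact Or.inl (le_trans (le_J hs hQ hxQ) le_sup_left)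

include hx in
theorem top_cases : s.sup id ⊔ T x s = W x s := by
  refine le_antisymm (sup_le le_sup_left (T_le_W hs)) (sup_le le_sup_left ?_)
  exact (Subgroup.zpowers_le.2 (mem_T (s := s))).trans le_sup_right

include hx in
theorem normalizes_T {c : G} (hc : c ∈ Subgroup.centralizer ({x} : Set G) ⊓ stab s) :
    c ∈ Subgroup.normalizer (T x s : Set G) := by
  obtain ⟨hcx, hcs⟩ := Subgroup.mem_inf.1 hc
  have hx' : c * x * c⁻¹ = x := by
    rw [Subgroup.mem_centralizer_singleton_iff.1 hcx, mul_inv_cancel_right]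
  have htop := mem_stab.1 hcs _ (top_mem hs)
  have hW : c ∈ Subgroup.normalizer (W x s : Set G) := by
    refine mem_normalizer_of_conj fun z hz => ?_
    have h : W x s ≤ (W x s).comap (MulAut.conj c).toMonoidHom :=
      sup_le (fun z hz => Subgroup.mem_sup_left ((Subgroup.mem_normalizer_iff.1 htop z).1 hz))
        (Subgroup.zpowers_le.2 (show c * x * c⁻¹ ∈ W x s by rw [hx']; exact x_mem_W))
    exact h hz
  have hN := normalizes_ncl (x := x) hW (by rw [hx']; exact self_mem_ncl _ x)
  have hJ : ∀ z ∈ J x s, c * z * c⁻¹ ∈ J x s := by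
    intro z hz
    rcases J_cases hs (x := x) with ⟨h, -⟩ | ⟨h, -⟩
    · rw [h, Subgroup.mem_bot] at hz ⊢
      rw [hz, mul_one, mul_inv_cancel]
    · exact (Subgroup.mem_normalizer_iff.1 (mem_stab.1 hcs _ h) z).1 hz
  refine mem_normalizer_of_conj fun z hz => ?_
  have h : T x s ≤ (T x s).comap (MulAut.conj c).toMonoidHom :=
    sup_le (fun z hz => Subgroup.mem_sup_left (hJ z hz))
      (fun z hz => Subgroup.mem_sup_right ((Subgroup.mem_normalizer_iff.1 hN z).1 hz))
  exact h hz

omit hs in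
/-- The pairing does not move `J` and `W`, hence neither `T`. -/
theorem T_congr {u : Finset (Subgroup G)} (hJ : J x u = J x s) (hW : W x u = W x s) :
    T x u = T x s := by
  rw [T, T, hJ, hW]

include hx hxp hp in
/-- Everything about the pairing. -/
theorem flip_spec (hx1 : x ≠ 1) (hne : s ≠ {Subgroup.zpowers x}) :
    Valid p (flip x s) ∧ x ∈ stab (flip x s) ∧ flip x s ≠ {Subgroup.zpowers x} ∧
      flip x (flip x s) = s ∧
      Subgroup.centralizer ({x} : Set G) ⊓ stab (flip x s) =
        Subgroup.centralizer ({x} : Set G) ⊓ stab s ∧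
      (-1 : ℤ) ^ ((flip x s).card - 1) = -(-1 : ℤ) ^ (s.card - 1) := by
  classical
  have hTp : IsPGroup p (T x s) := (W_isPGroup hs hx hxp).to_le (T_le_W hs)
  have hTbot : T x s ≠ ⊥ := fun h => hx1 (Subgroup.mem_bot.1 (h ▸ mem_T (s := s)))
  have hWN : ∀ Q ∈ insert (T x s) s, W x s ≤ Subgroup.normalizer (Q : Set G) := by
    intro Q hQ
    rcases Finset.mem_insert.1 hQ with rfl | hQ
    · exact W_le_normalizer_T hs hx
    · exact W_le_normalizer hs hx hQ
  have hxT : x ∈ T x s := mem_T
  have hle : ∀ Q ∈ insert (T x s) s, Q ≤ W x s := by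
    intro Q hQ
    rcases Finset.mem_insert.1 hQ with rfl | hQ
    · exact T_le_W hs
    · exact le_trans (Finset.le_sup (f := id) hQ) le_sup_left
  -- validity of every chain between `s` with `T` removed and with `T` inserted
  have hvalid : ∀ u : Finset (Subgroup G), u.Nonempty → u ⊆ insert (T x s) s → Valid p u ∧
      x ∈ stab u := by
    intro u hu hsub
    have hc : ∀ Q ∈ u, ∀ R ∈ u, Q ≤ R ∨ R ≤ Q := by
      intro Q hQ R hR
      rcases Finset.mem_insert.1 (hsub hQ) with rfl | hQ' <;>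
        rcases Finset.mem_insert.1 (hsub hR) with rfl | hR'
      · exact Or.inl le_rfl
      · exact (comparable hs hx hR').symm
      · exact comparable hs hx hQ'
      · exact hs.2.1 Q hQ' R hR'
    refine ⟨⟨hu, hc, fun Q hQ => ?_, u.sup id, sup_chain_mem hu hc, fun Q hQ =>
      ⟨Finset.le_sup (f := id) hQ, le_trans (Finset.sup_le fun R hR => hle R (hsub hR))
        (hWN Q (hsub hQ))⟩⟩, mem_stab.2 fun Q hQ => hWN Q (hsub hQ) x_mem_W⟩
    rcases Finset.mem_insert.1 (hsub hQ) with rfl | hQ'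
    · exact ⟨hTbot, hTp⟩
    · exact hs.2.2.1 Q hQ'
  by_cases hT : T x s ∈ s
  · -- removal
    have hflip : flip x s = s.erase (T x s) := by simp [flip, hT]
    set u := s.erase (T x s) with hu
    have htopT : s.sup id = T x s → J x s ⊔ Subgroup.zpowers x = T x s := by
      intro h
      have hW : W x s = T x s := by
        show s.sup id ⊔ Subgroup.zpowers x = T x s
        rw [h]; exact sup_eq_left.2 (Subgroup.zpowers_le.2 hxT)
      refine eq_sup_zpowers hp hTp le_sup_left hxT ?_
      conv_lhs => rw [T, hW]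
    have hun : u.Nonempty := by
      rw [Finset.nonempty_iff_ne_empty]
      intro h0
      have h1 : ∀ Q ∈ s, Q = T x s := fun Q hQ => by
        by_contra hQT
        exact Finset.eq_empty_iff_forall_notMem.1 h0 Q (Finset.mem_erase.2 ⟨hQT, hQ⟩)
      rcases J_cases hs (x := x) with ⟨hJ, -⟩ | ⟨hJ, hn⟩
      · have h2 := htopT (h1 _ (top_mem hs))
        rw [hJ, bot_sup_eq] at h2
        exact hne (Finset.eq_singleton_iff_unique_mem.2 ⟨h2 ▸ hT, fun Q hQ => (h1 Q hQ).trans h2.symm⟩)
      · exact hn (h1 _ hJ ▸ hxT)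
    obtain ⟨huv, hux⟩ := hvalid u hun ((Finset.erase_subset _ _).trans (Finset.subset_insert _ _))
    have hJu : J x u = J x s := by
      unfold J
      congr 1
      ext Q
      simp only [Finset.mem_filter, hu, Finset.mem_erase]
      exact ⟨fun h => ⟨h.1.2, h.2⟩, fun h => ⟨⟨fun e => h.2 (e ▸ hxT), h.1⟩, h.2⟩⟩
    have hWu : W x u = W x s := by
      show u.sup id ⊔ Subgroup.zpowers x = s.sup id ⊔ Subgroup.zpowers x
      rcases eq_or_ne (s.sup id) (T x s) with h | h
      · refine le_antisymm (sup_le_sup_right (Finset.sup_mono (Finset.erase_subset _ _)) _)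
          (sup_le ?_ le_sup_right)
        rw [h, ← htopT h]
        refine sup_le_sup_right ?_ _
        rcases J_cases hs (x := x) with ⟨hJ, -⟩ | ⟨hJ, hn⟩
        · rw [hJ]; exact bot_le
        · exact Finset.le_sup (f := id) (Finset.mem_erase.2 ⟨fun e => hn (by unfold J; rw [e]; exact hxT), hJ⟩)
      · congr 1
        exact le_antisymm (Finset.sup_mono (Finset.erase_subset _ _))
          (Finset.le_sup (f := id) (Finset.mem_erase.2 ⟨h, top_mem hs⟩))
    have hTu := T_congr (x := x) (s := s) hJu hWu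
    rw [hflip]
    refine ⟨huv, hux, fun h => ?_, ?_, ?_, ?_⟩
    · have h1 : W x u = Subgroup.zpowers x := by
        show u.sup id ⊔ Subgroup.zpowers x = _
        rw [h]; simp
      have h2 : T x s = Subgroup.zpowers x :=
        le_antisymm (h1 ▸ hWu ▸ T_le_W hs) (Subgroup.zpowers_le.2 hxT)
      exact Finset.notMem_erase (T x s) s (by rw [← hu, h, h2]; simp)
    · rw [flip]
      simp only [hTu]
      rw [if_neg (by rw [hu]; exact Finset.notMem_erase _ _), hu, Finset.insert_erase hT]
    · refine le_antisymm (fun c hc => ?_)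
        (inf_le_inf_left _ (iInf_le_iInf_of_subset fun Q hQ => (Finset.erase_subset _ _) hQ))
      refine Subgroup.mem_inf.2 ⟨(Subgroup.mem_inf.1 hc).1, mem_stab.2 fun Q hQ => ?_⟩
      rcases eq_or_ne Q (T x s) with rfl | h
      · exact hTu ▸ normalizes_T huv hux hc
      · exact mem_stab.1 (Subgroup.mem_inf.1 hc).2 Q (Finset.mem_erase.2 ⟨h, hQ⟩)
    · rw [hu, Finset.card_erase_of_mem hT]
      have h2 : 2 ≤ s.card := by
        have := hun.card_pos
        rw [hu, Finset.card_erase_of_mem hT] at this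
        omega
      obtain ⟨k, hk⟩ := Nat.exists_eq_add_of_le h2
      rw [hk, show 2 + k - 1 - 1 = k by omega, show 2 + k - 1 = k + 1 by omega, pow_succ]
      ring
  · -- insertion
    have hflip : flip x s = insert (T x s) s := by simp [flip, hT]
    set u := insert (T x s) s with hu
    obtain ⟨huv, hux⟩ := hvalid u (Finset.insert_nonempty _ _) (Finset.Subset.refl _)
    have hJu : J x u = J x s := by
      unfold J
      rw [hu, Finset.filter_insert, if_neg (not_not.2 hxT)]
    have hWu : W x u = W x s := by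
      show u.sup id ⊔ Subgroup.zpowers x = s.sup id ⊔ Subgroup.zpowers x
      rw [hu, Finset.sup_insert, id_eq, sup_comm (T x s), sup_assoc]
      refine le_antisymm (sup_le le_sup_left (sup_le ?_ le_sup_right))
        (sup_le_sup_left le_sup_right _)
      exact T_le_W hs
    have hTu := T_congr (x := x) (s := s) hJu hWu
    rw [hflip]
    refine ⟨huv, hux, fun h => ?_, ?_, ?_, ?_⟩
    · refine hne (Finset.eq_singleton_iff_unique_mem.2 ?_)
      have h' : ∀ Q ∈ u, Q = Subgroup.zpowers x := fun Q hQ => Finset.mem_singleton.1 (h ▸ hQ)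
      obtain ⟨Q, hQ⟩ := hs.1
      exact ⟨h' Q (Finset.mem_insert_of_mem hQ) ▸ hQ, fun R hR => h' R (Finset.mem_insert_of_mem hR)⟩
    · rw [flip]
      simp only [hTu]
      rw [if_pos (by rw [hu]; exact Finset.mem_insert_self _ _), hu, Finset.erase_insert hT]
    · refine le_antisymm
        (inf_le_inf_left _ (iInf_le_iInf_of_subset fun Q hQ => Finset.mem_insert_of_mem hQ))
        (fun c hc => ?_)
      refine Subgroup.mem_inf.2 ⟨(Subgroup.mem_inf.1 hc).1, mem_stab.2 fun Q hQ => ?_⟩
      rcases Finset.mem_insert.1 hQ with rfl | h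
      · exact normalizes_T hs hx hc
      · exact mem_stab.1 (Subgroup.mem_inf.1 hc).2 Q h
    · rw [hu, Finset.card_insert_of_notMem hT]
      have := hs.1.card_pos
      rw [show s.card + 1 - 1 = (s.card - 1) + 1 by omega, pow_succ]
      ring

end

/-- The alternating sum over the chains normalized by `x` collapses to the chain `⟨x⟩`. -/
theorem sum_flip [Fintype (Finset (Subgroup G))] (hp : p.Prime) (hxp : IsPGroup p (Subgroup.zpowers x))
    (hx1 : x ≠ 1) (f : Subgroup G → ℂ)
    [DecidablePred fun s : Finset (Subgroup G) => Valid p s ∧ x ∈ stab s] :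
    ∑ s ∈ Finset.univ.filter (fun s : Finset (Subgroup G) => Valid p s ∧ x ∈ stab s),
        (((-1 : ℤ) ^ (s.card - 1) : ℤ) : ℂ) * f (Subgroup.centralizer ({x} : Set G) ⊓ stab s) =
      f (Subgroup.centralizer ({x} : Set G)) := by
  classical
  have hs0 : Valid p ({Subgroup.zpowers x} : Finset (Subgroup G)) ∧
      x ∈ stab ({Subgroup.zpowers x} : Finset (Subgroup G)) := by
    refine ⟨⟨Finset.singleton_nonempty _, ?_, ?_, Subgroup.zpowers x, Finset.mem_singleton_self _,
      ?_⟩, ?_⟩
    · intro Q hQ R hR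
      rw [Finset.mem_singleton.1 hQ, Finset.mem_singleton.1 hR]; exact Or.inl le_rfl
    · intro Q hQ
      rw [Finset.mem_singleton.1 hQ]
      exact ⟨fun h => hx1 (Subgroup.zpowers_eq_bot.1 h), hxp⟩
    · intro Q hQ
      rw [Finset.mem_singleton.1 hQ]; exact ⟨le_rfl, Subgroup.le_normalizer⟩
    · rw [mem_stab]
      intro Q hQ
      rw [Finset.mem_singleton.1 hQ]
      exact Subgroup.le_normalizer (Subgroup.mem_zpowers x)
  have hmem : ({Subgroup.zpowers x} : Finset (Subgroup G)) ∈
      Finset.univ.filter (fun s : Finset (Subgroup G) => Valid p s ∧ x ∈ stab s) :=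
    Finset.mem_filter.2 ⟨Finset.mem_univ _, hs0⟩
  rw [← Finset.add_sum_erase _ _ hmem,
    Finset.sum_involution (fun s _ => flip x s) ?_ ?_ ?_ ?_, add_zero]
  · rw [Finset.card_singleton, Nat.sub_self, pow_zero, Int.cast_one, one_mul]
    congr 1
    refine inf_eq_left.2 fun c hc => mem_stab.2 fun Q hQ => ?_
    rw [Finset.mem_singleton.1 hQ]
    refine mem_normalizer_of_conj ?_
    rintro _ ⟨m, rfl⟩
    refine ⟨m, ?_⟩
    have h : Commute c x := Subgroup.mem_centralizer_singleton_iff.1 hc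
    show x ^ m = c * x ^ m * c⁻¹
    rw [(h.zpow_right m).eq, mul_inv_cancel_right]
  all_goals intro s hs
  all_goals simp only [Finset.mem_erase, Finset.mem_filter, Finset.mem_univ, true_and] at hs ⊢
  all_goals obtain ⟨h1, h2, h3, h4, h5, h6⟩ := flip_spec hp hs.2.1 hs.2.2 hxp hx1 hs.1
  · rw [h5, h6]; push_cast; ring
  · intro hne heq
    rw [heq] at h6
    have : ((-1 : ℤ) ^ (s.card - 1)) = 0 := by omega
    exact absurd this (pow_ne_zero _ (by norm_num))
  · exact ⟨h3, h1, h2⟩
  · exact h4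

end CfsgLib.Blocks.Chains
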