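import Cfsg.Agent.Lib.Blocks.InvariantHeightZero

/-!
# Every character of a covered block lies under the covering block
-/

namespace CfsgLib.Blocks

open Cfsg CfsgLib.CharTheory CfsgLib.Blocks.RegularParts
open scoped ComplexConjugate

set_option linter.unusedVariables false
set_option linter.unusedSimpArgs false
set_option linter.style.haveILetI false
set_option linter.unusedSectionVars false

universe u

variable {p : ℕ} {M : Ideal AlgInt} {G : Type u} [Group G] [Fintype G]
  {N : Subgroup G} [hN : N.Normal] [Fintype N]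

/-- The regular part of `χ` paired on `N` with `η`. -/
noncomputable def regPair (p : ℕ) (χ : IrrCharacter G) (η : N → ℂ) : ℂ :=
  classInner (fun n : N => if p ∣ orderOf (n : G) then 0 else (χ : G → ℂ) n) η

theorem regPair_cls (χ : IrrCharacter G) :
    IsClassFunction G (fun g : G => if p ∣ orderOf g then 0 else (χ : G → ℂ) g) := fun g h => by
  have : orderOf (h * g * h⁻¹) = orderOf g := by
    simpa using orderOf_injective (MulAut.conj h).toMonoidHom (MulAut.conj h).injective g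
  simp only [this, irr_isClassFun χ g h]

theorem exists_over_of_regPair (hM : IsPModular p M) {χ : IrrCharacter G} {η : IrrCharacter N}
    (h : regPair p χ (η : N → ℂ) ≠ 0) :
    ∃ ξ ∈ blockOf M (χ : G → ℂ),
      classInner (fun n : N => (ξ : G → ℂ) n) (η : N → ℂ) ≠ 0 := by
  classical
  by_contra hno
  push Not at hno
  apply h
  set φ : G → ℂ := fun g : G => if p ∣ orderOf g then 0 else (χ : G → ℂ) g with hφ
  have he : (fun n : N => φ n) = ∑ ξ : IrrCharacter G,
      classInner φ (ξ : G → ℂ) • (fun n : N => (ξ : G → ℂ) n) := by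
    funext n
    rw [Finset.sum_apply]
    conv_lhs => rw [eq_sum_irr (show IsClassFunction G φ from regPair_cls (p := p) χ)]
    simp [Finset.sum_apply]
  show classInner (fun n : N => φ n) (η : N → ℂ) = 0
  rw [he, classInner_sum_left]
  refine Finset.sum_eq_zero fun ξ _ => ?_
  rw [classInner_smul_left]
  by_cases hξ : ξ ∈ blockOf M (χ : G → ℂ)
  · rw [hno ξ hξ, mul_zero]
  · have e := classInner_regular (p := p) 1 (χ : G → ℂ) ξ
    simp only [one_mul] at e
    rw [hφ, e, regS_eq_zero hM (fun hs => hξ hs), zero_div, zero_mul]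

theorem regPair_conj (χ : IrrCharacter G) (g : G) (η : N → ℂ) :
    regPair p χ (conjNormFun N g η) = regPair p χ η :=
  classInner_res_conjNormFun N g (regPair_cls (p := p) χ) η

theorem regPair_symm (χ χ' : IrrCharacter G) {θ : IrrCharacter N}
    (h : classInner (fun n : N => (χ' : G → ℂ) n) (θ : N → ℂ) ≠ 0) :
    classInner (fun n : N => if p ∣ orderOf (n : G) then 0 else (χ : G → ℂ) n)
        (fun n : N => (χ' : G → ℂ) n) =
      conj (classInner (fun n : N => (χ' : G → ℂ) n) (θ : N → ℂ)) *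
        (conjOrbit N (θ : N → ℂ)).card * regPair p χ (θ : N → ℂ) := by
  classical
  have hcl := clifford N χ'.2 θ.2 h
  conv_lhs => rw [hcl]
  rw [classInner_smul_right, classInner_sum_right,
    Finset.sum_congr rfl (g := fun _ => regPair p χ (θ : N → ℂ)) fun ψ hψ => ?_,
    Finset.sum_const, nsmul_eq_mul, mul_assoc]
  obtain ⟨g, rfl⟩ := (mem_conjOrbit N).1 hψ
  exact regPair_conj χ g _

open Classical in
theorem regPair_ne_zero (hM : IsPModular p M) {b : Set (IrrCharacter N)} (hb : IsPBlock M b)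
    {θ : IrrCharacter N} (hθ : θ ∈ b) (hθ0 : dv p (θ : N → ℂ) = minDv p b)
    (hk : ¬ p ∣ ((conjOrbit N (θ : N → ℂ)).filter fun ψ => ∃ φ ∈ b, (φ : N → ℂ) = ψ).card)
    {χ : IrrCharacter G} (hχ : classInner (fun n : N => (χ : G → ℂ) n) (θ : N → ℂ) ≠ 0)
    {η : IrrCharacter N} (hη : η ∈ b) : regPair p χ (η : N → ℂ) ≠ 0 := by
  classical
  haveI := res_isDomain hM
  haveI := res_charP hM
  set O := conjOrbit N (θ : N → ℂ) with hO
  set m := classInner (fun n : N => (χ : G → ℂ) n) (θ : N → ℂ) with hm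
  have e : regPair p χ (η : N → ℂ) =
      m * regS p (fun n => ∑ ψ ∈ O, ψ n) (η : N → ℂ) / (Nat.card N : ℂ) := by
    rw [← classInner_regular, regPair]
    congr 1
    funext n
    rw [Subgroup.orderOf_coe]
    have := congrFun (clifford N χ.2 θ.2 hχ) n
    simp only [Pi.smul_apply, Finset.sum_apply, smul_eq_mul] at this
    rw [this]
  rw [e]
  refine div_ne_zero (mul_ne_zero hχ ?_) (Nat.cast_ne_zero.2 Nat.card_pos.ne')
  have e2 : regS p (fun n => ∑ ψ ∈ O, ψ n) (η : N → ℂ) = ∑ ψ ∈ O, regS p ψ (η : N → ℂ) := by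
    simp only [regS, Finset.mul_sum]
    exact Finset.sum_comm
  rw [e2, ← Finset.sum_filter_of_ne (p := fun ψ => ∃ φ ∈ b, (φ : N → ℂ) = ψ)]
  swap
  · intro ψ hψ hne
    obtain ⟨g, rfl⟩ := (mem_conjOrbit N).1 hψ
    by_contra hno
    push Not at hno
    refine hne (regS_eq_zero hM (χ := ⟨_, isIrr_conjNormFun N g θ.2⟩) fun hs => ?_)
    refine hno ⟨_, isIrr_conjNormFun N g θ.2⟩ ?_ rfl
    rw [eq_blockOf hM hb hη]
    exact sameBlock_symm hM hs
  set F := O.filter (fun ψ => ∃ φ ∈ b, (φ : N → ℂ) = ψ) with hF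
  set w := omega (η : N → ℂ) (regFn p (θ : N → ℂ)) with hw
  have hterm : ∀ ψ ∈ F, MemLocalRing M (omega (η : N → ℂ) (regFn p ψ)) ∧
      res hM (omega (η : N → ℂ) (regFn p ψ)) = res hM w ∧
      regS p ψ (η : N → ℂ) = (η : N → ℂ) 1 * omega (η : N → ℂ) (regFn p ψ) := by
    intro ψ hψ
    obtain ⟨hψO, φ, hφ, rfl⟩ := Finset.mem_filter.1 hψ
    obtain ⟨g, hg⟩ := (mem_conjOrbit N).1 hψO
    refine ⟨memRing_omega_regFn hM η φ, ?_, ?_⟩
    · set E := conjE (mem_normalizer_normal (N := N) g⁻¹) with hE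
      have hφE : irrPull E θ = φ := Subtype.ext (by rw [irrPull_conjE_eq, inv_inv, hg])
      have himg : irrPull E '' b = b := (eq_blockOf hM (isPBlock_image E hb) (hφE ▸ Set.mem_image_of_mem _ hθ)).trans
        (eq_blockOf hM hb hφ).symm
      obtain ⟨η', hη', rfl⟩ : η ∈ irrPull E '' b := himg.symm ▸ hη
      rw [← hφE, show omega (irrPull E η' : N → ℂ) (regFn p (irrPull E θ : N → ℂ)) =
        omega (η' : N → ℂ) (regFn p (θ : N → ℂ)) from ?_]
      · exact res_omega_regFn_congr hM (sameBlock_of_mem hM hb hη' hη) θ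
      · simp only [omega, irrPull_apply, map_one]
        congr 1
        refine Fintype.sum_equiv E.toEquiv _ _ fun n => ?_
        simp only [regFn, irrPull_apply, MulEquiv.toEquiv_eq_coe, EquivLike.coe_coe, map_inv,
          MulEquiv.orderOf_eq]
    · rw [omega_regFn, mul_div_cancel₀ _ (irr_one_ne_zero η), regS_comm]
  rw [Finset.sum_congr rfl fun ψ hψ => (hterm ψ hψ).2.2, ← Finset.mul_sum]
  refine mul_ne_zero (irr_one_ne_zero η) fun h0 => ?_
  have h1 : res hM (∑ ψ ∈ F, omega (η : N → ℂ) (regFn p ψ)) = (F.card : AlgInt ⧸ M) * res hM w := by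
    rw [res_sum hM fun ψ hψ => (hterm ψ hψ).1,
      Finset.sum_congr rfl fun ψ hψ => (hterm ψ hψ).2.1, Finset.sum_const, nsmul_eq_mul]
  rw [h0, res_zero] at h1
  rcases mul_eq_zero.1 h1.symm with h2 | h2
  · exact hk ((CharP.cast_eq_zero_iff (AlgInt ⧸ M) p _).1 h2)
  · exact not_memIdeal_omega_regFn hM hb hθ hη hθ0
      ((res_eq_zero_iff hM (memRing_omega_regFn hM η θ)).1 h2)

open Classical in
theorem exists_good_height_zero (hM : IsPModular p M) {b : Set (IrrCharacter N)}
    (hb : IsPBlock M b) :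
    ∃ θ ∈ b, dv p (θ : N → ℂ) = minDv p b ∧
      ¬ p ∣ ((conjOrbit N (θ : N → ℂ)).filter fun ψ => ∃ φ ∈ b, (φ : N → ℂ) = ψ).card := by
  classical
  haveI : Fact p.Prime := ⟨hM.1⟩
  let I : Subgroup G :=
    { carrier := {x | blockConj x b = b}
      one_mem' := blockConj_one b
      mul_mem' := fun {x y} (hx : blockConj x b = b) (hy : blockConj y b = b) => by
        show blockConj (x * y) b = b
        rw [← blockConj_mul, hy, hx]
      inv_mem' := fun {x} (hx : blockConj x b = b) => by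
        show blockConj x⁻¹ b = b
        conv_lhs => rw [← hx, blockConj_mul, inv_mul_cancel, blockConj_one] }
  obtain ⟨S⟩ : Nonempty (Sylow p I) := inferInstance
  obtain ⟨θ, hθ, hθ0, hfix⟩ := InvariantHeightZero.exists_invariant_height_zero hM hb
    (R := (S : Subgroup I).map I.subtype) (S.isPGroup'.map _) (fun r hr => by
      obtain ⟨s, -, rfl⟩ := hr
      exact (stabilizesBlock_iff_blockConj _ b).2 s.2)
  refine ⟨θ, hθ, hθ0, ?_⟩
  let T : Subgroup I :=
    { carrier := {x | irrPull (conjE (mem_normalizer_normal (N := N) (x : G))) θ = θ}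
      one_mem' := Subtype.ext (by rw [irrPull_conjE_eq, OneMemClass.coe_one, inv_one, conjNormFun_one])
      mul_mem' := fun {x y} hx hy => Subtype.ext (by
        have hx' := congrArg Subtype.val hx
        have hy' := congrArg Subtype.val hy
        simp only [irrPull_conjE_eq] at hx' hy' ⊢
        rw [Subgroup.coe_mul, mul_inv_rev, conjNormFun_mul, hy', hx'])
      inv_mem' := fun {x} hx => Subtype.ext (by
        have hx' := congrArg Subtype.val hx
        simp only [irrPull_conjE_eq] at hx' ⊢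
        conv_lhs => rw [← hx']
        rw [InvMemClass.coe_inv, conjNormFun_inv]) }
  have hST : (S : Subgroup I) ≤ T := fun s hs => hfix _ ⟨s, hs, rfl⟩
  set F := (conjOrbit N (θ : N → ℂ)).filter fun ψ => ∃ φ ∈ b, (φ : N → ℂ) = ψ with hF
  have hmem : ∀ x : I, conjNormFun N (x : G)⁻¹ (θ : N → ℂ) ∈ F := fun x =>
    Finset.mem_filter.2 ⟨(mem_conjOrbit N).2 ⟨_, rfl⟩,
      irrPull (conjE (mem_normalizer_normal (N := N) (x : G))) θ,
      (show blockConj (x : G) b = b from x.2) ▸ Set.mem_image_of_mem _ hθ, irrPull_conjE_eq _ _⟩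
  have hinv : ∀ x y : I, x⁻¹ * y ∈ T → conjNormFun N (x : G)⁻¹ (θ : N → ℂ) =
      conjNormFun N (y : G)⁻¹ (θ : N → ℂ) := by
    intro x y h
    have h' := congrArg Subtype.val (show irrPull _ θ = θ from h)
    rw [irrPull_conjE_eq, Subgroup.coe_mul, InvMemClass.coe_inv, mul_inv_rev, inv_inv,
      conjNormFun_mul] at h'
    conv_lhs => rw [← h', ← conjNormFun_mul, mul_inv_cancel, conjNormFun_one]
  let f : I ⧸ T → ↥F := Quotient.lift (fun x => ⟨_, hmem x⟩)
    (fun x y h => Subtype.ext (hinv x y (QuotientGroup.leftRel_apply.1 h)))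
  have hf : Function.Bijective f := by
    constructor
    · intro a c
      induction a using QuotientGroup.induction_on with | H x => ?_
      induction c using QuotientGroup.induction_on with | H y => ?_
      intro h
      have h' : conjNormFun N (x : G)⁻¹ (θ : N → ℂ) = conjNormFun N (y : G)⁻¹ (θ : N → ℂ) :=
        congrArg Subtype.val h
      refine QuotientGroup.eq.2 (Subtype.ext ?_)
      rw [irrPull_conjE_eq, Subgroup.coe_mul, InvMemClass.coe_inv, mul_inv_rev, inv_inv,
        conjNormFun_mul, ← h', ← conjNormFun_mul, inv_mul_cancel, conjNormFun_one]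
    · rintro ⟨ψ, hψ⟩
      obtain ⟨hψO, φ, hφ, rfl⟩ := Finset.mem_filter.1 hψ
      obtain ⟨g, hg⟩ := (mem_conjOrbit N).1 hψO
      have hgI : g⁻¹ ∈ I := by
        show blockConj g⁻¹ b = b
        have hmem' : φ ∈ blockConj g⁻¹ b :=
          ⟨θ, hθ, Subtype.ext (by rw [irrPull_conjE_eq, inv_inv, hg])⟩
        exact (eq_blockOf hM (isPBlock_image _ hb) hmem').trans (eq_blockOf hM hb hφ).symm
      refine ⟨QuotientGroup.mk ⟨g⁻¹, hgI⟩, Subtype.ext ?_⟩
      show conjNormFun N g⁻¹⁻¹ (θ : N → ℂ) = _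
      rw [inv_inv, hg]
  have hcard : F.card = T.index := by
    rw [Subgroup.index, Nat.card_eq_of_bijective f hf, Nat.card_eq_finsetCard]
  rw [hcard]
  exact fun h => S.not_dvd_index (h.trans (Subgroup.index_dvd_of_le hST))

/-- Every character of a covered block lies under a character of the covering block. -/
theorem exists_over_in_block (hM : IsPModular p M) {B : Set (IrrCharacter G)} (hB : IsPBlock M B)
    {b : Set (IrrCharacter N)} (hb : IsPBlock M b)
    (hcov : ∃ χ ∈ B, ∃ θ ∈ b, classInner (fun n : N => (χ : G → ℂ) n) (θ : N → ℂ) ≠ 0)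
    {η : IrrCharacter N} (hη : η ∈ b) :
    ∃ χ ∈ B, classInner (fun n : N => (χ : G → ℂ) n) (η : N → ℂ) ≠ 0 := by
  classical
  obtain ⟨θ₀, hθ₀, hz, hk⟩ := exists_good_height_zero (G := G) hM hb
  obtain ⟨χ₁, hχ₁, θ₁, hθ₁, hc₁⟩ := hcov
  obtain ⟨χ₀, hc₀⟩ := exists_over (G := G) θ₀
  have h01 := regPair_ne_zero hM hb hθ₀ hz hk hc₀ hθ₁
  have hA := regPair_symm (p := p) χ₀ χ₁ hc₁
  have hB' := regPair_symm (p := p) χ₁ χ₀ hc₀
  have hswap : conj (classInner (fun n : N => if p ∣ orderOf (n : G) then 0 else (χ₀ : G → ℂ) n)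
      (fun n : N => (χ₁ : G → ℂ) n)) =
      classInner (fun n : N => if p ∣ orderOf (n : G) then 0 else (χ₁ : G → ℂ) n)
        (fun n : N => (χ₀ : G → ℂ) n) := by
    rw [classInner_comm]
    simp only [classInner]
    congr 1
    refine Finset.sum_congr rfl fun n _ => ?_
    split_ifs <;> simp [mul_comm]
  have hne : ∀ θ : IrrCharacter N, ((conjOrbit N (θ : N → ℂ)).card : ℂ) ≠ 0 := fun θ =>
    Nat.cast_ne_zero.2 (Finset.card_ne_zero.2 ⟨_, (mem_conjOrbit N).2 ⟨1, rfl⟩⟩)
  have h10 : regPair p χ₁ (θ₀ : N → ℂ) ≠ 0 := by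
    intro h0
    rw [h0, mul_zero] at hB'
    rw [hB', hA, map_eq_zero] at hswap
    exact mul_ne_zero (mul_ne_zero ((map_ne_zero _).2 hc₁) (hne θ₁)) h01 hswap
  obtain ⟨χ₂, hχ₂, hc₂⟩ := exists_over_of_regPair hM h10
  rw [← eq_blockOf hM hB hχ₁] at hχ₂
  obtain ⟨ξ, hξ, hcξ⟩ := exists_over_of_regPair hM (regPair_ne_zero hM hb hθ₀ hz hk hc₂ hη)
  rw [← eq_blockOf hM hB hχ₂] at hξ
  exact ⟨ξ, hξ, hcξ⟩

end CfsgLib.Blocks
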