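import Cfsg.Agent.Lib.Blocks.PrincipalLinearCount
import Cfsg.Agent.Lib.Blocks.SecondMain
import Cfsg.Agent.Lib.Blocks.Principal

/-!
The Galois automorphism cubing roots of unity of 2-power order and fixing those of odd order.
-/

namespace CfsgLib.Blocks.LinearCount

open Cfsg CfsgLib.CharTheory CfsgLib.Blocks
open scoped ComplexConjugate

set_option autoImplicit false
set_option linter.unusedVariables false
set_option linter.unusedSectionVars false
set_option linter.style.haveILetI false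

universe u

variable {M : Ideal AlgInt} {G : Type u} [Group G] [Fintype G] {k : ℕ}
  (hk₁ : ∀ g : G, (∃ j : ℕ, orderOf g = 2 ^ j) → g ^ k = g ^ 3)
  (hk₂ : ∀ g : G, Odd (orderOf g) → g ^ k = g)

include hk₁ hk₂

theorem cube_coprime : k.Coprime (Nat.card G) := by
  refine Nat.coprime_of_dvd fun q hq hqk hqG => ?_
  haveI : Fact q.Prime := ⟨hq⟩
  obtain ⟨g, hg⟩ := exists_prime_orderOf_dvd_card' q hqG
  have h0 : g ^ k = 1 := orderOf_dvd_iff_pow_eq_one.1 (hg ▸ hqk)
  rcases eq_or_ne q 2 with rfl | hq2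
  · rw [hk₁ g ⟨1, hg⟩, ← orderOf_dvd_iff_pow_eq_one, hg] at h0
    omega
  · rw [hk₂ g (hg ▸ hq.odd_of_ne_two hq2), ← orderOf_eq_one_iff, hg] at h0
    exact hq.one_lt.ne' h0

theorem cube_periodic (g : G) : g ^ k ^ (2 ^ (Nat.card G).factorization 2) = g := by
  set a : ℕ := (Nat.card G).factorization 2 with ha
  obtain ⟨x, y, hxy, hc, ⟨j, hj⟩, hy⟩ : ∃ x y : G, x * y = g ∧ Commute x y ∧
      (∃ j : ℕ, orderOf x = 2 ^ j) ∧ ¬ 2 ∣ orderOf y := by
    obtain ⟨x, hx⟩ := exists_pPart (p := 2) Nat.prime_two g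
    obtain ⟨y, h1, h2, h3, h4⟩ := hx
    exact ⟨x, y, h1, h2, h3, h4.1⟩
  have hyk : y ^ k = y := hk₂ y (Nat.odd_iff.2 (Nat.two_dvd_ne_zero.1 hy))
  have hxk : ∀ e : ℕ, x ^ k ^ e = x ^ 3 ^ e := by
    intro e
    induction e with
    | zero => simp
    | succ e ih =>
      rw [pow_succ, pow_succ, pow_mul, pow_mul, ih]
      refine hk₁ _ ?_
      exact ((Nat.dvd_prime_pow Nat.prime_two).1 (hj ▸ orderOf_pow_dvd (3 ^ e))).imp fun i hi => hi.2
  have hyke : ∀ e : ℕ, y ^ k ^ e = y := by
    intro e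
    induction e with
    | zero => simp
    | succ e ih => rw [pow_succ, pow_mul, ih, hyk]
  have hja : j ≤ a := by
    have h1 : orderOf x ∣ Nat.card G := orderOf_dvd_natCard x
    rw [hj] at h1
    exact (Nat.prime_two.pow_dvd_iff_le_factorization Nat.card_pos.ne').1 h1
  rw [← hxy, hc.mul_pow, hyke, hxk]
  congr 1
  refine (pow_eq_pow_iff_modEq.2 ?_).trans (pow_one x)
  rw [hj]
  refine Nat.ModEq.of_dvd (pow_dvd_pow 2 (hja.trans (Nat.le_succ a))) ?_
  clear hja
  induction a with
  | zero => decide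
  | succ b ih =>
    simp only [Nat.succ_eq_add_one] at ih ⊢
    obtain ⟨c, hc⟩ := (Nat.modEq_iff_dvd' (Nat.one_le_pow _ _ (by norm_num))).1 ih.symm
    have h3 : 3 ^ 2 ^ b = 2 ^ (b + 1) * c + 1 := by
      have := Nat.one_le_pow (2 ^ b) 3 (by norm_num); omega
    refine ((Nat.modEq_iff_dvd' (Nat.one_le_pow _ _ (by norm_num))).2 ⟨c * (2 ^ b * c + 1), ?_⟩).symm
    rw [pow_succ 2 b, pow_mul, h3]
    have : (2 ^ (b + 1) * c + 1) ^ 2 = 2 ^ (b + 1 + 1) * (c * (2 ^ b * c + 1)) + 1 := by ring
    omega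


theorem powIrr_mem_principal {χ : IrrCharacter G} (hχ : χ ∈ principalBlock M G) :
    powIrr (cube_coprime hk₁ hk₂) χ ∈ principalBlock M G := by
  have hcentr : ∀ g : G, Subgroup.centralizer ({g ^ k} : Set G) = Subgroup.centralizer ({g} : Set G) := by
    intro g
    ext c
    simp only [Subgroup.mem_centralizer_singleton_iff]
    constructor
    · intro h
      have h' : Commute c (g ^ k) := by first | exact h | exact h.symm
      have h2 := h'.pow_right (k ^ (2 ^ (Nat.card G).factorization 2 - 1))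
      rw [← pow_mul, ← pow_succ', Nat.sub_add_cancel (Nat.one_le_two_pow), cube_periodic hk₁ hk₂] at h2
      first | exact h2 | exact h2.symm
    · intro h
      have h' : Commute c g := by first | exact h | exact h.symm
      first | exact h'.pow_right k | exact (h'.pow_right k).symm
  intro g
  have h := hχ (g ^ k)
  simp only [Cfsg.centralChar, hcentr] at h ⊢
  show Cfsg.MemLocalIdeal M (_ - _ * (χ : G → ℂ) (g ^ k) / (χ : G → ℂ) (1 ^ k))
  rw [one_pow]
  exact h

/-- Every linear character of order at most two of a Sylow `2`-subgroup is a constituent of a fixed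
character of odd degree in the principal block. -/
theorem exists_fixed_odd (hM : IsPModular 2 M) (P : Sylow 2 G) [Fintype (P : Subgroup G)]
    (lam : (P : Subgroup G) →* ℂˣ) (hlam : ∀ x, lam x * lam x = 1) :
    ∃ χ : IrrCharacter G, χ ∈ principalBlock M G ∧ Odd (charDegree (χ : G → ℂ)) ∧
      (∀ g : G, (χ : G → ℂ) (g ^ k) = (χ : G → ℂ) g) ∧
      classInner (fun x : (P : Subgroup G) => (χ : G → ℂ) x) (fun x => (lam x : ℂ)) ≠ 0 := by
  classical
  haveI : Fact (Nat.Prime 2) := ⟨Nat.prime_two⟩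
  have hcop := cube_coprime hk₁ hk₂
  have hlamc : IsCharacter (P : Subgroup G) (fun x => (lam x : ℂ)) :=
    isCharacter_of_irr (isIrrCharacter_linear lam)
  choose m hm using fun χ : IrrCharacter G =>
    classInner_char_nat (isCharacter_restrict_irr (P : Subgroup G) χ) hlamc
  have hsum := not_dvd_sum hM P lam m hm
  -- the multiplicity is invariant
  have hcopP : (Nat.card (P : Subgroup G)).Coprime k :=
    (hcop.coprime_dvd_right (Subgroup.card_subgroup_dvd_card _)).symm
  have hlamk : ∀ x : (P : Subgroup G), lam (x ^ k) = lam x := fun x => by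
    have hx : ((x : G)) ^ k = (x : G) ^ 3 :=
      hk₁ x ((IsPGroup.iff_orderOf.mp P.2 x).imp fun j hj => by rw [Subgroup.orderOf_coe, hj])
    rw [show x ^ k = x * x * x from Subtype.ext (by rw [Subgroup.coe_pow, hx, pow_three, ← mul_assoc]; rfl),
      map_mul, map_mul, hlam, one_mul]
  have hinv : ∀ χ : IrrCharacter G, m (powIrr hcop χ) = m χ := by
    intro χ
    have e : classInner (fun x : (P : Subgroup G) => (powIrr hcop χ : G → ℂ) x) (fun x => (lam x : ℂ)) =
        classInner (fun x : (P : Subgroup G) => (χ : G → ℂ) x) (fun x => (lam x : ℂ)) := by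
      simp only [classInner]
      congr 1
      refine Fintype.sum_equiv (powCoprime hcopP) _ _ fun x => ?_
      show (χ : G → ℂ) ((x : G) ^ k) * conj (lam x : ℂ) = (χ : G → ℂ) ((x ^ k : (P : Subgroup G)) : G) * _
      rw [Subgroup.coe_pow]
      show _ = _ * conj (lam (x ^ k) : ℂ)
      rw [hlamk]
    rw [hm, hm, Nat.cast_inj] at e
    exact e
  let S := {χ : IrrCharacter G // χ ∈ principalBlock M G ∧ Odd (charDegree (χ : G → ℂ) * m χ)}
  have hdeg : ∀ χ : IrrCharacter G, charDegree (powIrr hcop χ : G → ℂ) = charDegree (χ : G → ℂ) := fun χ => by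
    show ⌊((χ : G → ℂ) (1 ^ k)).re⌋₊ = _
    rw [one_pow]; rfl
  let f : S → S := fun χ => ⟨powIrr hcop χ.1, powIrr_mem_principal hk₁ hk₂ χ.2.1,
    by rw [hdeg, hinv]; exact χ.2.2⟩
  have hinj : Function.Injective f := fun χ ψ e =>
    Subtype.ext ((powIrr_bijective hcop).1 (congrArg Subtype.val e))
  let σ : Equiv.Perm S := Equiv.ofBijective f (Finite.injective_iff_bijective.1 hinj)
  have hσ : ∀ (e : ℕ) (χ : S) (g : G), (((σ ^ e) χ).1 : G → ℂ) g = (χ.1 : G → ℂ) (g ^ k ^ e) := by
    intro e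
    induction e with
    | zero => intro χ g; simp
    | succ e ih =>
      intro χ g
      rw [pow_succ', Equiv.Perm.mul_apply]
      show (((σ ^ e) χ).1 : G → ℂ) (g ^ k) = _
      rw [ih, ← pow_mul, pow_succ']
  have hσ1 : σ ^ 2 ^ (Nat.card G).factorization 2 = 1 := by
    ext χ : 1
    exact Subtype.ext (Subtype.ext (funext fun g => by
      rw [hσ, cube_periodic hk₁ hk₂, Equiv.Perm.one_apply]))
  have hSodd : Fintype.card S % 2 = 1 := by
    rw [Fintype.card_eq_nat_card]
    have h3 : Nat.card S = ((bset (principalBlock M G)).filter fun χ : IrrCharacter G =>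
        Odd (charDegree (χ : G → ℂ) * m χ)).card :=
      Nat.subtype_card _ (fun χ => by simp [mem_bset])
    rw [h3]
    have h2 : ∀ χ ∈ bset (principalBlock M G), (charDegree (χ : G → ℂ) * m χ) % 2 =
        if Odd (charDegree (χ : G → ℂ) * m χ) then 1 else 0 := by
      intro χ _
      split_ifs with h
      · exact Nat.odd_iff.1 h
      · exact Nat.even_iff.1 (Nat.not_odd_iff_even.1 h)
    rw [Nat.two_dvd_ne_zero, Finset.sum_nat_mod, Finset.sum_congr rfl h2, Finset.sum_boole, Nat.cast_id] at hsum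
    exact hsum
  have hmod := Equiv.Perm.card_compl_support_modEq (p := 2) hσ1
  obtain ⟨χ, hχ⟩ : σ.supportᶜ.Nonempty := by
    rw [← Finset.card_pos]
    have h := hmod
    rw [Nat.ModEq, hSodd] at h
    omega
  rw [Finset.mem_compl, Equiv.Perm.notMem_support] at hχ
  obtain ⟨ho1, ho2⟩ := Nat.odd_mul.1 χ.2.2
  refine ⟨χ.1, χ.2.1, ho1, fun g => congrFun (congrArg (fun s : S => (s.1 : G → ℂ)) hχ) g, ?_⟩
  rw [hm]
  exact Nat.cast_ne_zero.2 (fun e => by rw [e] at ho2; simp at ho2)

end CfsgLib.Blocks.LinearCount
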