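import Cfsg.Agent.Lib.Blocks.CyclicLocalTrace
import Mathlib.LinearAlgebra.Matrix.ToLin

/-!
# The simple modules of a block that correspond to the extensions of the socle
-/

namespace CfsgLib.Blocks

open Module MonoidAlgebra

set_option linter.unusedVariables false
set_option linter.unusedSimpArgs false
set_option linter.unusedSectionVars false
set_option linter.style.haveILetI false

namespace CyclicRep

variable {k : Type*} [Field k] {G : Type*} [Group G] [Fintype G]

section layers

variable {T : Subgroup G} [Fintype T] {V W : Type*} [AddCommGroup V] [Module k V] [AddCommGroup W]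
  [Module k W] {R : MonoidAlgebra k G →ₐ[k] Module.End k V} {σ : G → Module.End k W}

/-- The column modules of the matrix components. -/
noncomputable def colRep {r : ℕ} {d : Fin r → ℕ}
    (πG : MonoidAlgebra k G →ₐ[k] Π i, Matrix (Fin (d i)) (Fin (d i)) k) (i : Fin r) :
    MonoidAlgebra k G →ₐ[k] Module.End k (Fin (d i) → k) :=
  (Matrix.toLinAlgEquiv' (R := k) (n := Fin (d i))).toAlgHom.comp ((Pi.evalAlgHom k _ i).comp πG)

theorem colRep_apply {r : ℕ} {d : Fin r → ℕ}
    (πG : MonoidAlgebra k G →ₐ[k] Π i, Matrix (Fin (d i)) (Fin (d i)) k) (i : Fin r)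
    (x : MonoidAlgebra k G) (v : Fin (d i) → k) (j : Fin (d i)) :
    colRep πG i x v j = ∑ l, πG x i j l * v l := by
  show Matrix.toLinAlgEquiv' (πG x i) v j = _
  rw [Matrix.toLinAlgEquiv'_apply]
  rfl

theorem colRep_surjective {r : ℕ} {d : Fin r → ℕ}
    (πG : MonoidAlgebra k G →ₐ[k] Π i, Matrix (Fin (d i)) (Fin (d i)) k)
    (hπ : Function.Surjective πG) (i : Fin r) : Function.Surjective (colRep πG i) := by
  intro ψ
  obtain ⟨x, hx⟩ := hπ (Pi.single i (Matrix.toLinAlgEquiv'.symm ψ))
  refine ⟨x, ?_⟩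
  show Matrix.toLinAlgEquiv' (πG x i) = ψ
  rw [hx, Pi.single_eq_same, AlgEquiv.apply_symm_apply]

/-- A map is a trace if its restrictions to all the simple modules are. -/
theorem trace_of_components [FiniteDimensional k V] (hσ : IsTRep T σ) {r : ℕ} {d : Fin r → ℕ}
    [∀ i, NeZero (d i)]
    (πG : MonoidAlgebra k G →ₐ[k] Π i, Matrix (Fin (d i)) (Fin (d i)) k)
    (hπ : Function.Surjective πG) {m : ℕ} (hm : (LinearMap.ker πG.toLinearMap) ^ m = ⊥)
    (hall : ∀ i (K : (Fin (d i) → k) →ₗ[k] W),
      IsEq T (colRep πG i) σ K → IsTr T (colRep πG i) σ K)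
    {f : V →ₗ[k] W} (hf : IsEq T R σ f) : IsTr T R σ f := by
  classical
  set L := LinearMap.ker πG.toLinearMap with hL
  have hLmem : ∀ x, x ∈ L ↔ πG x = 0 := fun x => Iff.rfl
  let M : ℕ → Submodule k V := fun s => Submodule.span k (Set.image2 (fun y u => R y u) ((L ^ s : Submodule k _) : Set _) Set.univ)
  have hM0 : M 0 = ⊤ := eq_top_iff.2 fun u _ => Submodule.subset_span
    ⟨1, by rw [pow_zero]; exact Submodule.one_le.1 le_rfl, u, Set.mem_univ _, by simp⟩
  have hMstab : ∀ s x, ∀ u ∈ M s, R x u ∈ M s := by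
    intro s x u hu
    rcases s with _ | s
    · rw [hM0]; exact Submodule.mem_top
    refine (Submodule.span_le.2 ?_ : M (s + 1) ≤ (M (s + 1)).comap (R x)) hu
    rintro _ ⟨y, hy, v, -, rfl⟩
    refine Submodule.subset_span ⟨x * y, ?_, v, Set.mem_univ _, by simp only [map_mul, Module.End.mul_apply]⟩
    rw [SetLike.mem_coe, pow_succ'] at hy ⊢
    refine Submodule.mul_induction_on hy (fun a ha b hb => ?_) fun a b ha hb => ?_
    · rw [← mul_assoc]
      refine Submodule.mul_mem_mul ?_ hb
      rw [hLmem] at ha ⊢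
      rw [map_mul, ha, mul_zero]
    · rw [mul_add]; exact Submodule.add_mem _ ha hb
  have hMstep : ∀ s, ∀ y ∈ L, ∀ u ∈ M s, R y u ∈ M (s + 1) := by
    intro s y hy u hu
    refine (Submodule.span_le.2 ?_ : M s ≤ (M (s + 1)).comap (R y)) hu
    rintro _ ⟨y', hy', v, -, rfl⟩
    exact Submodule.subset_span ⟨y * y', by
      rw [SetLike.mem_coe, pow_succ']; exact Submodule.mul_mem_mul hy hy', v, Set.mem_univ _,
      by simp only [map_mul, Module.End.mul_apply]⟩
  suffices hind : ∀ j, j ≤ m → ∃ h' : V →ₗ[k] W, ∀ u ∈ M (m - j),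
      f u = ∑ x : T, σ (x : G) (h' (R (of k G (x : G)⁻¹) u)) by
    obtain ⟨h', hh'⟩ := hind m le_rfl
    exact ⟨h', fun u => hh' u (by rw [Nat.sub_self, hM0]; exact Submodule.mem_top)⟩
  intro j
  induction j with
  | zero =>
    intro _
    refine ⟨0, fun u hu => ?_⟩
    have hbot : M m = ⊥ := by
      rw [eq_bot_iff]
      refine Submodule.span_le.2 ?_
      rintro _ ⟨y, hy, v, -, rfl⟩
      rw [SetLike.mem_coe, hm, Submodule.mem_bot] at hy
      simp [hy]
    rw [Nat.sub_zero, hbot, Submodule.mem_bot] at hu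
    simp [hu]
  | succ j ih =>
    intro hj
    obtain ⟨h1, hh1⟩ := ih (by omega)
    set s := m - (j + 1) with hs
    rw [show m - j = s + 1 by omega] at hh1
    let f1 : V →ₗ[k] W := ∑ x : T, (σ (x : G)).comp (h1.comp (R (of k G (x : G)⁻¹)))
    have hf1 : ∀ u, f1 u = ∑ x : T, σ (x : G) (h1 (R (of k G (x : G)⁻¹) u)) := fun u => by simp [f1]
    set g := f - f1 with hg
    have hgeq : IsEq T R σ g := hf.sub (IsTr.isEq hσ ⟨h1, hf1⟩)
    have hg0 : ∀ u ∈ M (s + 1), g u = 0 := fun u hu => by
      rw [hg, LinearMap.sub_apply, hh1 u hu, hf1, sub_self]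
    -- coordinates modulo the next layer
    let Q := M s ⧸ (M (s + 1)).comap (M s).subtype
    let bs := Module.finBasis k Q
    choose β hβ using fun l => Submodule.mkQ_surjective ((M (s + 1)).comap (M s).subtype) (bs l)
    choose ψ hψ using fun l =>
      LinearMap.exists_extend ((bs.coord l).comp ((M (s + 1)).comap (M s).subtype).mkQ)
    have hψ' : ∀ l (u : M s), ψ l (u : V) = bs.coord l (Submodule.Quotient.mk u) := fun l u =>
      LinearMap.congr_fun (hψ l) u
    have hdec : ∀ u : M s, (u : V) - ∑ l, ψ l (u : V) • (β l : V) ∈ M (s + 1) := by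
      intro u
      have h2 : u - ∑ l, ψ l (u : V) • β l ∈ (M (s + 1)).comap (M s).subtype := by
        rw [← Submodule.Quotient.mk_eq_zero, ← Submodule.mkQ_apply, map_sub, map_sum]
        simp only [map_smul, hβ, hψ', Module.Basis.coord_apply]
        rw [bs.sum_repr]
        exact sub_self _
      simpa using h2
    have hψ0 : ∀ l u, ∀ y ∈ L, u ∈ M s → ψ l (R y u) = 0 := by
      intro l u y hy hu
      rw [hψ' l ⟨_, hMstab s y u hu⟩,
        (Submodule.Quotient.mk_eq_zero _).2 (show (⟨_, hMstab s y u hu⟩ : M s) ∈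
          (M (s + 1)).comap (M s).subtype from hMstep s y hy u hu), map_zero]
    choose E hE using fun (i : Fin r) (x : Fin (d i)) (y : Fin (d i)) =>
      hπ (Pi.single i (Matrix.single x y 1))
    have hone : (1 - ∑ i, ∑ a, E i a 0 * E i 0 a) ∈ L := by
      rw [hLmem, map_sub, map_one, sub_eq_zero]
      funext i
      simp only [map_sum, map_mul, hE, Finset.sum_apply, Pi.mul_apply]
      rw [Finset.sum_eq_single i (fun i' _ hne => Finset.sum_eq_zero fun a _ => by
        rw [Pi.single_eq_of_ne (Ne.symm hne), zero_mul]) (by simp)]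
      simp only [Pi.single_eq_same, Matrix.single_mul_single_same, one_mul]
      ext x y
      rw [Matrix.sum_apply, Finset.sum_eq_single x (fun l _ hl => by simp [hl]) (by simp)]
      by_cases hxy : x = y <;> simp [hxy, Matrix.one_apply]
    have hEg : ∀ i (x : MonoidAlgebra k G) (a : Fin (d i)),
        x * E i a 0 - ∑ c, πG x i c a • E i c 0 ∈ L ∧
          E i 0 a * x - ∑ c, πG x i a c • E i 0 c ∈ L := by
      intro i x a
      constructor <;>
      · rw [hLmem, map_sub, sub_eq_zero, map_mul, map_sum]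
        simp only [map_smul, hE]
        funext i'
        simp only [Pi.mul_apply, Finset.sum_apply, Pi.smul_apply]
        by_cases hi : i' = i
        · subst hi
          simp only [Pi.single_eq_same, Matrix.smul_single, smul_eq_mul, mul_one]
          ext u v
          simp [Matrix.sum_apply, Matrix.single_apply, Matrix.mul_apply, ite_and]
        · simp [Pi.single_eq_of_ne hi]
    -- the maps through the column modules
    let η : ∀ i, Fin (finrank k Q) → ((Fin (d i) → k) →ₗ[k] V) := fun i l =>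
      Fintype.linearCombination k (fun a => R (E i a 0) (β l))
    let ξ : ∀ i, Fin (finrank k Q) → (V →ₗ[k] (Fin (d i) → k)) := fun i l =>
      LinearMap.pi fun a => (ψ l).comp (R (E i 0 a))
    have hη : ∀ i l w, η i l w = ∑ a, w a • R (E i a 0) (β l) := fun i l w =>
      Fintype.linearCombination_apply k _ w
    have hgη : ∀ i l, IsEq T (colRep πG i) σ (g.comp (η i l)) := by
      intro i l x hx w
      rw [LinearMap.comp_apply, LinearMap.comp_apply, ← hgeq x hx, ← sub_eq_zero, ← map_sub]
      refine hg0 _ ?_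
      rw [hη, hη, map_sum]
      have e2 : ∑ a, (colRep πG i (of k G x) w) a • R (E i a 0) (β l) =
          ∑ a, w a • R (∑ c, πG (of k G x) i c a • E i c 0) (β l) := by
        simp only [colRep_apply, map_sum, map_smul, LinearMap.sum_apply, LinearMap.smul_apply,
          Finset.sum_smul, Finset.smul_sum, smul_smul]
        rw [Finset.sum_comm]
        exact Finset.sum_congr rfl fun a _ => Finset.sum_congr rfl fun c _ => by rw [mul_comm]
      rw [e2, ← Finset.sum_sub_distrib]
      refine Submodule.sum_mem _ fun a _ => ?_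
      rw [map_smul, ← smul_sub, ← Module.End.mul_apply (R (of k G x)), ← map_mul,
        ← LinearMap.sub_apply, ← map_sub]
      refine Submodule.smul_mem _ _ (hMstep s _ ?_ _ (β l).2)
      have := L.neg_mem (hEg i (of k G x) a).1
      rwa [neg_sub] at this
    choose hh hhh using fun i l => hall i _ (hgη i l)
    have hξ : ∀ i l x, ∀ u ∈ M s, colRep πG i (of k G x) (ξ i l u) = ξ i l (R (of k G x) u) := by
      intro i l x u hu
      funext a
      rw [colRep_apply]
      show ∑ c, πG (of k G x) i a c * ψ l (R (E i 0 c) u) = ψ l (R (E i 0 a) (R (of k G x) u))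
      have h2 := hψ0 l u _ (hEg i (of k G x) a).2 hu
      rw [map_sub, LinearMap.sub_apply, map_sub, sub_eq_zero, map_mul R, Module.End.mul_apply] at h2
      rw [h2]
      simp only [map_sum, map_smul, LinearMap.sum_apply, LinearMap.smul_apply, smul_eq_mul]
    refine ⟨h1 + ∑ i, ∑ l, (hh i l).comp (ξ i l), fun u hu => ?_⟩
    have hgu : g u = ∑ i, ∑ l, g (η i l (ξ i l u)) := by
      have h2 : g u = g (∑ i, ∑ a, R (E i a 0) (R (E i 0 a) u)) := by
        rw [← sub_eq_zero, ← map_sub]
        refine hg0 _ ?_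
        have := hMstep s _ hone u hu
        simpa [map_sum, map_mul, LinearMap.sum_apply] using this
      rw [h2, map_sum]
      refine Finset.sum_congr rfl fun i _ => ?_
      simp only [hη, map_sum, map_smul]
      rw [Finset.sum_comm]
      refine Finset.sum_congr rfl fun a _ => ?_
      have h3 := hdec ⟨R (E i 0 a) u, hMstab s _ u hu⟩
      have h4 := hg0 _ (hMstab (s + 1) (E i a 0) _ h3)
      rw [map_sub, map_sub, sub_eq_zero, map_sum, map_sum] at h4
      simp only [map_smul] at h4
      exact h4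
    have hfu : f u = g u + f1 u := by rw [hg, LinearMap.sub_apply, sub_add_cancel]
    rw [hfu, hgu, hf1]
    simp only [LinearMap.add_apply, LinearMap.sum_apply, LinearMap.comp_apply, map_add, map_sum,
      Finset.sum_add_distrib]
    rw [add_comm]
    congr 1
    conv_rhs => rw [Finset.sum_comm]
    refine Finset.sum_congr rfl fun i _ => ?_
    rw [Finset.sum_comm]
    refine Finset.sum_congr rfl fun l _ => ?_
    rw [← LinearMap.comp_apply, hhh i l]
    refine Finset.sum_congr rfl fun x _ => ?_
    rw [hξ i l _ u hu]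

end layers

namespace LocalSetup

variable {p : ℕ} {P C T : Subgroup G} {z t : G} {e : ℕ} {e1 q ε w : MonoidAlgebra k G} {N n : ℕ}
  {a b : Fin n → MonoidAlgebra k G} (h : LocalSetup p P C T z t e e1 q ε w N n a b)

include h

/-- Some simple module maps to each extension by a map that is not a trace. -/
theorem exists_nontrace [Fintype T] {σ : G → Module.End k (socle C q ε N)} (hσ : IsTRep T σ)
    (hc : ∀ c ∈ C, ∀ y : socle C q ε N, (σ c y : MonoidAlgebra k G) = of k G c * y)
    {r : ℕ} {d : Fin r → ℕ} [∀ i, NeZero (d i)]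
    (πG : MonoidAlgebra k G →ₐ[k] Π i, Matrix (Fin (d i)) (Fin (d i)) k)
    (hπ : Function.Surjective πG) {m : ℕ} (hm : (LinearMap.ker πG.toLinearMap) ^ m = ⊥) :
    ∃ (i : Fin r) (K : (Fin (d i) → k) →ₗ[k] socle C q ε N),
      IsEq T (colRep πG i) σ K ∧ ¬ IsTr T (colRep πG i) σ K := by
  classical
  by_contra hno
  push Not at hno
  let I : Submodule k (G → socle C q ε N) :=
    { carrier := {φ | ∀ x ∈ T, ∀ g, φ (x * g) = σ x (φ g)}
      add_mem' := fun {φ φ'} hφ hφ' x hx g => by simp [hφ x hx g, hφ' x hx g]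
      zero_mem' := fun x hx g => by simp
      smul_mem' := fun c φ hφ x hx g => by simp [hφ x hx g] }
  let ρ : G →* Module.End k I :=
    { toFun := fun g =>
        { toFun := fun φ => ⟨fun y => (φ : G → socle C q ε N) (y * g), fun x hx y => by
            show (φ : G → socle C q ε N) (x * y * g) = _
            rw [mul_assoc]; exact φ.2 x hx _⟩
          map_add' := fun φ φ' => rfl
          map_smul' := fun c φ => rfl }
      map_one' := LinearMap.ext fun φ => Subtype.ext (funext fun y => by simp)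
      map_mul' := fun g g' => LinearMap.ext fun φ => Subtype.ext (funext fun y => by
        show (φ : G → socle C q ε N) (y * (g * g')) = (φ : G → socle C q ε N) (y * g * g')
        rw [mul_assoc]) }
  set RI : MonoidAlgebra k G →ₐ[k] Module.End k I := MonoidAlgebra.lift k _ G ρ with hRI
  have hRIof : ∀ g, RI (of k G g) = ρ g := fun g => MonoidAlgebra.lift_of ρ g
  let ev : I →ₗ[k] socle C q ε N :=
    { toFun := fun φ => (φ : G → socle C q ε N) 1
      map_add' := fun φ φ' => rfl
      map_smul' := fun c φ => rfl }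
  have hev : IsEq (V := I) T RI σ ev := by
    intro x hx φ
    show (RI (of k G x) φ : G → socle C q ε N) 1 = σ x ((φ : G → socle C q ε N) 1)
    rw [hRIof]
    show (φ : G → socle C q ε N) (1 * x) = _
    rw [one_mul, ← φ.2 x hx 1, mul_one]
  obtain ⟨h', hh'⟩ := trace_of_components hσ πG hπ hm hno hev
  let sec : socle C q ε N →ₗ[k] I :=
    { toFun := fun y => ⟨fun g => if hg : g ∈ T then σ g y else 0, fun x hx g => by
        by_cases hg : g ∈ T
        · simp only [dif_pos hg, dif_pos (T.mul_mem hx hg)]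
          exact (hσ.comp hx hg y).symm
        · have hxg : x * g ∉ T := fun h2 => hg (by
            have := T.mul_mem (T.inv_mem hx) h2; rwa [inv_mul_cancel_left] at this)
          simp only [dif_neg hg, dif_neg hxg, map_zero]⟩
      map_add' := fun y y' => Subtype.ext (funext fun g => by
        by_cases hg : g ∈ T <;> simp [hg])
      map_smul' := fun c y => Subtype.ext (funext fun g => by
        by_cases hg : g ∈ T <;> simp [hg]) }
  have hsec : ∀ x ∈ T, ∀ y, RI (of k G x) (sec y) = sec (σ x y) := by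
    intro x hx y
    rw [hRIof]
    refine Subtype.ext (funext fun g => ?_)
    show (if hg : g * x ∈ T then σ (g * x) y else 0) = if hg : g ∈ T then σ g (σ x y) else 0
    by_cases hg : g ∈ T
    · rw [dif_pos hg, dif_pos (T.mul_mem hg hx), hσ.comp hg hx]
    · rw [dif_neg hg, dif_neg fun h2 => hg (by
        have := T.mul_mem h2 (T.inv_mem hx); rwa [mul_inv_cancel_right] at this)]
  have hid : ∀ y : socle C q ε N,
      y = ∑ x : T, σ (x : G) (h' (sec (σ (x : G)⁻¹ y))) := by
    intro y
    have h1 := hh' (sec y)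
    have h2 : ev (sec y) = y := by
      show (if hg : (1 : G) ∈ T then σ 1 y else 0) = y
      rw [dif_pos T.one_mem, hσ.one, Module.End.one_apply]
    rw [h2] at h1
    conv_lhs => rw [h1]
    exact Finset.sum_congr rfl fun x _ => by rw [hsec _ (inv_mem x.2)]
  -- the element of order `p` acts trivially
  have hzT : z ∈ T := h.CT (h.PC h.zP)
  have hσz : ∀ y, σ z y = y := fun y => Subtype.ext (by rw [hc z (h.PC h.zP), h.socle_z y.2])
  have hσzpow : ∀ (j : ℤ) y, σ (z ^ j) y = y := by
    intro j
    induction j using Int.induction_on with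
    | zero => intro y; rw [zpow_zero, hσ.one, Module.End.one_apply]
    | succ j ih =>
      intro y
      rw [zpow_add, zpow_one, ← hσ.comp (T.zpow_mem hzT _) hzT, hσz, ih]
    | pred j ih =>
      intro y
      have h2 : σ z⁻¹ y = y := by
        conv_lhs => rw [← hσz y, hσ.comp (T.inv_mem hzT) hzT, inv_mul_cancel, hσ.one,
          Module.End.one_apply]
      rw [zpow_sub, zpow_one, ← hσ.comp (T.zpow_mem hzT _) (T.inv_mem hzT), h2, ih]
  haveI := h.char
  haveI : Fintype (G ⧸ Subgroup.zpowers z) := Fintype.ofFinite _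
  set x0 : socle C q ε N := ⟨_, h.socle_x0⟩
  have hzero : ∑ x : T, σ (x : G) (h' (sec (σ (x : G)⁻¹ x0))) = 0 := by
    rw [← Finset.sum_fiberwise Finset.univ
      (fun x : T => (QuotientGroup.mk (x : G) : G ⧸ Subgroup.zpowers z))]
    refine Finset.sum_eq_zero fun o _ => ?_
    rcases (Finset.univ.filter fun x : T =>
      (QuotientGroup.mk (x : G) : G ⧸ Subgroup.zpowers z) = o).eq_empty_or_nonempty with h0 | ⟨x₁, hx₁⟩
    · rw [h0, Finset.sum_empty]
    have hconst : ∀ x ∈ Finset.univ.filter (fun x : T =>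
        (QuotientGroup.mk (x : G) : G ⧸ Subgroup.zpowers z) = o),
        σ (x : G) (h' (sec (σ (x : G)⁻¹ x0))) = σ (x₁ : G) (h' (sec (σ (x₁ : G)⁻¹ x0))) := by
      intro x hx
      have h2 : (x₁ : G)⁻¹ * x ∈ Subgroup.zpowers z := QuotientGroup.eq.1
        ((Finset.mem_filter.1 hx₁).2.trans (Finset.mem_filter.1 hx).2.symm)
      obtain ⟨j, hj⟩ := Subgroup.mem_zpowers_iff.1 h2
      have hx' : (x : G) = x₁ * z ^ j := by rw [hj, mul_inv_cancel_left]
      rw [hx', mul_inv_rev, ← hσ.comp x₁.2 (T.zpow_mem hzT j), hσzpow,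
        ← hσ.comp (T.inv_mem (T.zpow_mem hzT j)) (T.inv_mem x₁.2), ← zpow_neg, hσzpow]
    rw [Finset.sum_congr rfl hconst, Finset.sum_const]
    have hcard : (Finset.univ.filter fun x : T =>
        (QuotientGroup.mk (x : G) : G ⧸ Subgroup.zpowers z) = o).card =
          Nat.card (Subgroup.zpowers z) := by
      rw [← Fintype.card_subtype, ← Nat.card_eq_fintype_card]
      refine Nat.card_congr
        { toFun := fun x => ⟨(x₁ : G)⁻¹ * (x.1 : G), QuotientGroup.eq.1
            ((Finset.mem_filter.1 hx₁).2.trans x.2.symm)⟩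
          invFun := fun v => ⟨⟨x₁ * v, T.mul_mem x₁.2
            ((Subgroup.zpowers_le.2 hzT) v.2)⟩, by
              refine Eq.trans ?_ (Finset.mem_filter.1 hx₁).2
              exact (QuotientGroup.mk_mul_of_mem _ v.2)⟩
          left_inv := fun x => Subtype.ext (Subtype.ext (mul_inv_cancel_left _ _))
          right_inv := fun v => Subtype.ext (inv_mul_cancel_left _ _) }
    rw [hcard, Nat.card_zpowers, orderOf_eq_prime (hp := ⟨h.prime⟩) h.zp h.z1,
      ← Nat.cast_smul_eq_nsmul k, CharP.cast_eq_zero, zero_smul]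
  exact h.core.ne (congrArg Subtype.val ((hid x0).trans hzero))

/-- If the central idempotent kills a module, every map to an extension is a trace. -/
theorem trace_of_kill [Fintype P] [Fintype T] {V : Type*} [AddCommGroup V] [Module k V]
    {R : MonoidAlgebra k G →ₐ[k] Module.End k V} {σ : G → Module.End k (socle C q ε N)}
    (hσ : IsTRep T σ) (hc : ∀ c ∈ C, ∀ y : socle C q ε N, (σ c y : MonoidAlgebra k G) = of k G c * y)
    (eB : MonoidAlgebra k G) (hcen : ∀ x, eB * x = x * eB)
    (hin : ∃ r ∈ supp k C, (∑ g ∈ elems C, eB.coeff g • of k G g) * e1 - e1 = q * r)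
    (hkill : R eB = 0) {F : V →ₗ[k] socle C q ε N} (hF : IsEq T R σ F) : IsTr T R σ F := by
  classical
  set zin := ∑ g ∈ elems C, eB.coeff g • of k G g with hzin
  have hzinS : zin ∈ supp k C :=
    sum_mem fun g hg => (supp k C).smul_mem (of_mem_supp (mem_elems.1 hg)) _
  obtain ⟨r, hr, hzr⟩ := hin
  have hFin : ∀ v, F (R zin v) = F v := fun v => Subtype.ext (by
    rw [h.eq_supp hc hF hzinS]
    conv_lhs => rw [← h.socle_e (F v).2, ← mul_assoc, ← sub_add_cancel (zin * e1) e1, hzr, add_mul,
      h.socle_e (F v).2, h.core.qcen r hr, mul_assoc, h.socle_q (F v).2, mul_zero, zero_add])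
  let Lw : Module.End k (socle C q ε N) :=
    { toFun := fun y => ⟨w * y, h.socle_mul h.w_mem y.2⟩
      map_add' := fun y y' => Subtype.ext (mul_add _ _ _)
      map_smul' := fun c y => Subtype.ext (mul_smul_comm _ _ _) }
  set s := Finset.univ.filter fun g : G => g ∉ C with hs
  let φ : G → (V →ₗ[k] socle C q ε N) := fun g => eB.coeff g • F.comp (R (of k G g))
  have hcoef : ∀ x g : G, eB.coeff (x * g * x⁻¹) = eB.coeff g := fun x g => by
    have h1 := congrArg (fun y : MonoidAlgebra k G => y.coeff (x * g)) (hcen (of k G x))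
    simp only [coeff_mul_of, coeff_of_mul] at h1
    rwa [inv_mul_cancel_left] at h1
  have htr : IsTr T R σ ((1 : Module.End k (socle C q ε N)).comp (∑ g ∈ s, φ g)) := by
    refine h.free_trace hσ Lw 1 (fun u hu y => Subtype.ext ?_) (fun y => Subtype.ext ?_)
      (fun x hx y => by rfl) (fun x g => x * g * x⁻¹) (fun g => by simp)
      (fun x hx x' hx' g => by group) s (fun x hx g hg => ?_) (fun u hu hu1 g hg he => ?_) φ
      fun x hx g hg v => ?_
    · show (σ u ⟨w * y, _⟩ : MonoidAlgebra k G) = w * (σ u y : MonoidAlgebra k G)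
      rw [hc u (h.PC hu), hc u (h.PC hu), ← mul_assoc, h.w_fix u hu, mul_assoc]
    · show _ = (y : MonoidAlgebra k G)
      rw [Submodule.coe_sum]
      conv_rhs => rw [← h.socle_e y.2, ← h.trace, Finset.sum_mul]
      refine Finset.sum_congr rfl fun o ho => ?_
      have hoC := mem_cosets.1 ho
      rw [hc _ hoC]
      show of k G o.out * (w * (σ o.out⁻¹ y : MonoidAlgebra k G)) = _
      rw [hc _ (C.inv_mem hoC), conjK]
      simp only [mul_assoc]
    · refine Finset.mem_filter.2 ⟨Finset.mem_univ _, fun h2 => (Finset.mem_filter.1 hg).2 ?_⟩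
      have := h.TC (h.TN (T.inv_mem hx)) h2
      rwa [show x⁻¹ * (x * g * x⁻¹) * x⁻¹⁻¹ = g by group] at this
    · refine (Finset.mem_filter.1 hg).2 ((h.hC g).2 ?_)
      obtain ⟨j, hj⟩ := Subgroup.mem_zpowers_iff.1 (h.zmin u hu hu1 (Subgroup.mem_zpowers z))
      have h2 : Commute g u := (mul_inv_eq_iff_eq_mul.1 he).symm
      rw [← hj]
      exact (h2.zpow_right j).eq
    · show eB.coeff (x * g * x⁻¹) • F (R (of k G (x * g * x⁻¹)) (R (of k G x) v)) =
        σ x (eB.coeff g • F (R (of k G g) v))
      rw [hcoef, map_smul, R_comp, inv_mul_cancel_right, ← R_comp (R := R) x g, hF x hx]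
  have hsplit : ∀ v, F v + (∑ g ∈ s, φ g) v = 0 := by
    intro v
    have h1 : eB = zin + ∑ g ∈ s, eB.coeff g • of k G g := by
      rw [hzin, show elems C = Finset.univ.filter (fun g : G => g ∈ C) by ext; simp [mem_elems],
        hs, Finset.sum_filter_add_sum_filter_not]
      refine MonoidAlgebra.ext (Finsupp.ext fun g => ?_)
      rw [coeff_sum, Finsupp.finsetSum_apply, Finset.sum_eq_single g]
      · rw [coeff_smul, Finsupp.smul_apply, MonoidAlgebra.of_apply, coeff_single,
          Finsupp.single_eq_same, smul_eq_mul, mul_one]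
      · intro g' _ hne
        rw [coeff_smul, Finsupp.smul_apply, MonoidAlgebra.of_apply, coeff_single,
          Finsupp.single_eq_of_ne hne.symm, smul_zero]
      · simp
    have h2 : F (R eB v) = 0 := by rw [hkill, LinearMap.zero_apply, map_zero]
    rw [h1, map_add, LinearMap.add_apply, map_add, hFin] at h2
    convert h2 using 2
    simp only [map_sum, LinearMap.sum_apply, map_smul, LinearMap.smul_apply]
    exact Finset.sum_congr rfl fun g _ => rfl
  obtain ⟨h', hh'⟩ := htr
  refine ⟨-h', fun v => ?_⟩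
  simp only [LinearMap.neg_apply, map_neg, Finset.sum_neg_distrib]
  rw [← hh', LinearMap.comp_apply, Module.End.one_apply]
  exact eq_neg_of_add_eq_zero_left (hsplit v)

/-- The `e` simple modules in the block. -/
theorem exists_components [IsAlgClosed k] [Fintype P] [Fintype T] {r : ℕ} {d : Fin r → ℕ}
    [∀ i, NeZero (d i)] (πG : MonoidAlgebra k G →ₐ[k] Π i, Matrix (Fin (d i)) (Fin (d i)) k)
    (hπ : Function.Surjective πG) {m : ℕ} (hm : (LinearMap.ker πG.toLinearMap) ^ m = ⊥)
    (eB : MonoidAlgebra k G) (hidem : eB * eB = eB) (hcen : ∀ x, eB * x = x * eB)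
    (hin : ∃ r ∈ supp k C, (∑ g ∈ elems C, eB.coeff g • of k G g) * e1 - e1 = q * r) :
    ∃ ι : Fin e → Fin r, Function.Injective ι ∧ ∀ j, πG eB (ι j) = 1 := by
  classical
  obtain ⟨η, σ, hη, hσ, hrel⟩ := h.exists_reps
  choose ι K hK hnK using fun j : Fin e =>
    h.exists_nontrace (hσ (j : ℕ)).1 (hσ (j : ℕ)).2 πG hπ hm
  have he0 : e ≠ 0 := fun h0 => h.e_ne (by rw [h0, Nat.cast_zero])
  have hη0 : η ≠ 0 := hη.ne_zero he0
  refine ⟨ι, fun i j hij => ?_, fun j => ?_⟩
  · by_contra hne
    have key : ∀ (l : Fin r) (hl : ι j = l),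
        ∃ K' : (Fin (d l) → k) →ₗ[k] socle C q ε N,
          IsEq T (colRep πG l) (σ (j : ℕ)) K' ∧ ¬ IsTr T (colRep πG l) (σ (j : ℕ)) K' := by
      intro l hl
      subst hl
      exact ⟨K j, hK j, hnK j⟩
    obtain ⟨K', hK', hnK'⟩ := key _ hij.symm
    refine h.not_two (colRep_surjective πG hπ (ι i)) (hσ (i : ℕ)).1 (hσ (j : ℕ)).1 (hσ (i : ℕ)).2
      (hσ (j : ℕ)).2 (ν := (η ^ (i : ℕ))⁻¹ * η ^ (j : ℕ)) ?_ ?_ ?_ (hK i) hK' (hnK i) hnK'
    · rw [mul_pow, inv_pow, ← pow_mul, ← pow_mul, mul_comm (i : ℕ), mul_comm (j : ℕ), pow_mul,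
        pow_mul, hη.pow_eq_one, one_pow, one_pow, inv_one, one_mul]
    · intro h1
      rw [inv_mul_eq_one₀ (pow_ne_zero _ hη0)] at h1
      exact hne (Fin.ext (hη.pow_inj i.2 j.2 h1))
    · intro l y
      rw [hrel (j : ℕ) l y, hrel (i : ℕ) l y, smul_smul, ← mul_pow, mul_comm (η ^ (i : ℕ))⁻¹,
        mul_assoc, inv_mul_cancel₀ (pow_ne_zero _ hη0), mul_one]
  · have hc : ∀ Y, Commute Y (πG eB (ι j)) := fun Y => by
      obtain ⟨y, hy⟩ := hπ (Pi.single (ι j) Y)
      have h1 := congrFun (congrArg πG (hcen y)) (ι j)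
      simp only [map_mul, Pi.mul_apply, hy, Pi.single_eq_same] at h1
      exact h1.symm
    rcases matrix_central_idem (πG eB (ι j)) hc
      (by rw [← Pi.mul_apply, ← map_mul, hidem]) with h0 | h0
    · refine absurd (h.trace_of_kill (hσ (j : ℕ)).1 (hσ (j : ℕ)).2 eB hcen hin ?_ (hK j)) (hnK j)
      show (Matrix.toLinAlgEquiv' (R := k)) (πG eB (ι j)) = 0
      rw [h0, map_zero]
    · exact h0

end LocalSetup

end CyclicRep

end CfsgLib.Blocks
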