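import Cfsg.Agent.Lib.Blocks.SmallLocal
import Mathlib.Data.Matrix.Basis

/-!
# A central idempotent whose corner is a truncated polynomial algebra
-/

namespace CfsgLib.Blocks

open Module

set_option linter.unusedVariables false
set_option linter.unusedSimpArgs false
set_option linter.unusedSectionVars false

section

variable {k : Type*} {A : Type*} [Field k] [Ring A] [Algebra k A]

/-- The corner at `ε` of the central idempotent `e1` is spanned by the powers of the central
element `q`, and `ε` generates `e1` as a two-sided ideal. -/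
structure PiCore (k : Type*) {A : Type*} [Field k] [Ring A] [Algebra k A]
    (S : Subalgebra k A) (e1 q ε : A) (N n : ℕ) (a b : Fin n → A) : Prop where
  hN : 1 < N
  mem_e : e1 ∈ S
  mem_q : q ∈ S
  mem_ε : ε ∈ S
  mem_a : ∀ i, a i ∈ S
  mem_b : ∀ i, b i ∈ S
  idem : e1 * e1 = e1
  ecen : ∀ x ∈ S, e1 * x = x * e1
  qcen : ∀ x ∈ S, q * x = x * q
  qe : q * e1 = q
  nil : q ^ N = 0
  ne : q ^ (N - 1) * ε ≠ 0
  εidem : ε * ε = ε
  εe : ε * e1 = ε
  corner : ∀ x ∈ S, ∃ c : ℕ → k, ε * x * ε = ∑ i ∈ Finset.range N, c i • (q ^ i * ε)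
  sum : ∑ i, a i * ε * b i = e1

namespace PiCore

variable {S : Subalgebra k A} {e1 q ε : A} {N n : ℕ} {a b : Fin n → A}
  (h : PiCore k S e1 q ε N n a b)

include h

theorem qpow_cen (i : ℕ) {x : A} (hx : x ∈ S) : q ^ i * x = x * q ^ i :=
  ((show Commute q x from h.qcen x hx).pow_left i).eq

theorem qpow_zero {i : ℕ} (hi : N ≤ i) : q ^ i = 0 := by
  obtain ⟨j, rfl⟩ := Nat.exists_eq_add_of_le hi
  rw [pow_add, h.nil, zero_mul]

theorem top_mul {i : ℕ} (hi : i ≠ 0) : q ^ (N - 1) * q ^ i = 0 := by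
  rw [← pow_add]
  exact h.qpow_zero (by have := h.hN; omega)

theorem corner_mem (x : A) (hx : x ∈ S) : ε * x * ε ∈ S :=
  mul_mem (mul_mem h.mem_ε hx) h.mem_ε

/-- Split off the leading coefficient of a corner element. -/
theorem corner_split {x : A} (hx : x ∈ S) :
    ∃ (c : k) (r : A), r ∈ S ∧ ε * x * ε = c • ε + q * r ∧
      q ^ (N - 1) * (ε * x * ε) = c • (q ^ (N - 1) * ε) := by
  classical
  obtain ⟨c, hc⟩ := h.corner x hx
  have hN := h.hN
  obtain ⟨M, rfl⟩ : ∃ M, N = M + 1 := ⟨N - 1, by omega⟩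
  rw [Finset.sum_range_succ'] at hc
  have e : ∑ i ∈ Finset.range M, c (i + 1) • (q ^ (i + 1) * ε) =
      q * ∑ i ∈ Finset.range M, c (i + 1) • (q ^ i * ε) := by
    rw [Finset.mul_sum]
    refine Finset.sum_congr rfl fun i _ => ?_
    rw [mul_smul_comm, pow_succ', mul_assoc]
  refine ⟨c 0, ∑ i ∈ Finset.range M, c (i + 1) • (q ^ i * ε),
    sum_mem fun i _ => S.smul_mem (mul_mem (pow_mem h.mem_q _) h.mem_ε) _, ?_, ?_⟩
  · rw [hc, e, pow_zero, one_mul, add_comm]
  · rw [hc, e, mul_add, ← mul_assoc]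
    conv_lhs => arg 1; arg 1; arg 2; rw [← pow_one q]
    rw [h.top_mul one_ne_zero, zero_mul, zero_add, pow_zero, one_mul, mul_smul_comm]

theorem expand {x : A} (hx : x ∈ S) : x * e1 = ∑ i, a i * ε * (b i * x) := by
  rw [← h.ecen x hx, ← h.sum, Finset.sum_mul]
  exact Finset.sum_congr rfl fun i _ => by rw [mul_assoc]

theorem expand₂ {x : A} (hx : x ∈ S) :
    x * e1 = ∑ i, ∑ j, a i * (ε * (b i * x * a j) * ε) * b j := by
  have e : x * e1 = x * e1 * e1 := by rw [mul_assoc, h.idem]
  rw [e, h.expand hx, Finset.sum_mul]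
  refine Finset.sum_congr rfl fun i _ => ?_
  rw [← h.sum, Finset.mul_sum]
  exact Finset.sum_congr rfl fun j _ => by simp only [mul_assoc]

/-- An element killed by the top power of `q` lies in `q S`. -/
theorem mem_q_of_top {x : A} (hx : x ∈ S) (h0 : q ^ (N - 1) * x = 0) :
    ∃ r ∈ S, x * e1 = q * r := by
  have key : ∀ i j, ∃ r ∈ S, ε * (b i * x * a j) * ε = q * r := by
    intro i j
    obtain ⟨c, r, hr, e, e'⟩ := h.corner_split (mul_mem (mul_mem (h.mem_b i) hx) (h.mem_a j))
    refine ⟨r, hr, ?_⟩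
    have hb : q ^ (N - 1) * (b i * x) = 0 := by
      rw [← mul_assoc, h.qpow_cen _ (h.mem_b i), mul_assoc, h0, mul_zero]
    have h1 : q ^ (N - 1) * (ε * (b i * x * a j) * ε) = 0 := by
      rw [← mul_assoc, ← mul_assoc, h.qpow_cen _ h.mem_ε, mul_assoc ε, ← mul_assoc _ (b i * x),
        hb, zero_mul, mul_zero, zero_mul]
    rw [h1] at e'
    rcases smul_eq_zero.1 e'.symm with hc | hc
    · rw [e, hc, zero_smul, zero_add]
    · exact absurd hc h.ne
  choose r hr hrq using key
  refine ⟨∑ i, ∑ j, a i * r i j * b j,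
    sum_mem fun i _ => sum_mem fun j _ => mul_mem (mul_mem (h.mem_a i) (hr i j)) (h.mem_b j), ?_⟩
  rw [h.expand₂ hx, Finset.mul_sum]
  refine Finset.sum_congr rfl fun i _ => ?_
  rw [Finset.mul_sum]
  refine Finset.sum_congr rfl fun j _ => ?_
  rw [hrq, ← mul_assoc (a i), ← h.qcen _ (h.mem_a i)]
  simp only [mul_assoc]

/-- A nilpotent element central in `S` lies in `q S` after multiplication by `e1`. -/
theorem central_nilpotent {y : A} (hy : y ∈ S) (hc : ∀ x ∈ S, y * x = x * y) {m : ℕ}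
    (hn : y ^ m = 0) : ∃ r ∈ S, y * e1 = q * r := by
  refine h.mem_q_of_top hy ?_ |>.imp fun r hr => hr
  -- the leading coefficient vanishes
  obtain ⟨c, r, hr, e, e'⟩ := h.corner_split hy
  have hyε : ε * y * ε = y * ε := by rw [← hc _ h.mem_ε, mul_assoc, h.εidem]
  rw [hyε] at e'
  have hpow : ∀ j : ℕ, q ^ (N - 1) * (y ^ j * ε) = c ^ j • (q ^ (N - 1) * ε) := by
    intro j
    induction j with
    | zero => simp
    | succ j ih =>
      calc q ^ (N - 1) * (y ^ (j + 1) * ε) = y ^ j * (q ^ (N - 1) * (y * ε)) := by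
            rw [pow_succ, mul_assoc (y ^ j), ← mul_assoc, h.qpow_cen _ (pow_mem hy j), mul_assoc]
        _ = c • (q ^ (N - 1) * (y ^ j * ε)) := by
            rw [e', mul_smul_comm, ← mul_assoc, ← h.qpow_cen _ (pow_mem hy j), mul_assoc]
        _ = _ := by rw [ih, smul_smul, pow_succ']
  have h1 := hpow m
  rw [hn, zero_mul, mul_zero] at h1
  have hc0 : c = 0 := by
    rcases smul_eq_zero.1 h1.symm with h2 | h2
    · exact eq_zero_of_pow_eq_zero h2
    · exact absurd h2 h.ne
  have h3 : ∀ i, q ^ (N - 1) * y * (a i * ε * b i) = 0 := by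
    intro i
    have e3 : y * (a i * ε * b i) = a i * (y * ε) * b i := by
      rw [← mul_assoc, ← mul_assoc y, hc _ (h.mem_a i), mul_assoc (a i)]
    rw [mul_assoc, e3, ← mul_assoc, ← mul_assoc, h.qpow_cen _ (h.mem_a i), mul_assoc (a i), e', hc0,
      zero_smul, mul_zero, zero_mul]
  calc q ^ (N - 1) * y = q ^ (N - 1) * y * e1 := by
        rw [mul_assoc, ← h.ecen y hy, ← mul_assoc]
        congr 1
        obtain ⟨M, rfl⟩ : ∃ M, N = M + 2 := ⟨N - 2, by have := h.hN; omega⟩
        rw [show M + 2 - 1 = M + 1 by omega, pow_succ, mul_assoc, h.qe]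
    _ = 0 := by rw [← h.sum, Finset.mul_sum]; exact Finset.sum_eq_zero fun i _ => h3 i

/-- A nonzero element of `q ^ (N - 1) S ε` generates the generator. -/
theorem socle_gen {y : A} (hy : y ∈ S) (hne : q ^ (N - 1) * y * ε ≠ 0) :
    ∃ i, ∃ c : k, c ≠ 0 ∧ ε * b i * (q ^ (N - 1) * y * ε) = c • (q ^ (N - 1) * ε) := by
  by_contra hno
  push Not at hno
  apply hne
  have h1 : ∀ i, ε * b i * (q ^ (N - 1) * y * ε) = 0 := by
    intro i
    obtain ⟨c, r, hr, e, e'⟩ := h.corner_split (mul_mem (h.mem_b i) hy)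
    have e3 : ε * b i * (q ^ (N - 1) * y * ε) = q ^ (N - 1) * (ε * (b i * y) * ε) := by
      rw [← mul_assoc, ← mul_assoc, ← h.qpow_cen _ (mul_mem h.mem_ε (h.mem_b i))]
      simp only [mul_assoc]
    rw [e'] at e3
    by_contra hz
    exact hno i c (fun hc => hz (by rw [e3, hc, zero_smul])) e3
  obtain ⟨M, rfl⟩ : ∃ M, N = M + 2 := ⟨N - 2, by have := h.hN; omega⟩
  have e4 : q ^ (M + 2 - 1) * y * ε = e1 * (q ^ (M + 2 - 1) * y * ε) := by
    rw [show M + 2 - 1 = M + 1 by omega, pow_succ']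
    rw [← mul_assoc, ← mul_assoc, ← mul_assoc, h.ecen _ h.mem_q, h.qe]
  rw [e4, ← h.sum, Finset.sum_mul]
  exact Finset.sum_eq_zero fun i _ => by
    rw [mul_assoc (a i * ε), ← mul_one (a i * ε), mul_assoc (a i), mul_one, mul_assoc (a i),
      ← mul_assoc ε, h1, mul_zero]

end PiCore

theorem matrix_central_scalar {n : ℕ} [NeZero n] (x : Matrix (Fin n) (Fin n) k)
    (hx : ∀ y, Commute y x) : x = x 0 0 • 1 := by
  obtain ⟨c, hc⟩ := Matrix.mem_range_scalar_of_commute_single (M := x) fun i j _ => hx _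
  rw [← hc, Matrix.smul_one_eq_diagonal]
  simp [Matrix.scalar_apply]

theorem matrix_central_idem {n : ℕ} [NeZero n] (x : Matrix (Fin n) (Fin n) k)
    (hx : ∀ y, Commute y x) (hi : x * x = x) : x = 0 ∨ x = 1 := by
  rw [matrix_central_scalar x hx] at hi ⊢
  rw [smul_mul_assoc, one_mul, smul_smul] at hi
  have h1 := congrFun (congrFun hi 0) 0
  simp only [Matrix.smul_apply, Matrix.one_apply_eq, smul_eq_mul, mul_one] at h1
  rcases eq_or_ne (x 0 0) 0 with h0 | h0
  · exact Or.inl (by rw [h0, zero_smul])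
  · exact Or.inr (by rw [mul_right_eq_self₀.1 h1 |>.resolve_right h0, one_smul])

theorem matrix_central_nilpotent {n : ℕ} [NeZero n] (x : Matrix (Fin n) (Fin n) k)
    (hx : ∀ y, Commute y x) {m : ℕ} (hi : x ^ m = 0) : x = 0 := by
  rw [matrix_central_scalar x hx] at hi ⊢
  rw [smul_pow, one_pow] at hi
  have h1 := congrFun (congrFun hi 0) 0
  simp only [Matrix.smul_apply, Matrix.one_apply_eq, smul_eq_mul, mul_one, Matrix.zero_apply] at h1
  rw [eq_zero_of_pow_eq_zero h1, zero_smul]

/-- Construction of the corner. -/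
theorem exists_piCore [FiniteDimensional k A] {r : ℕ} {d : Fin r → ℕ} [∀ i, NeZero (d i)]
    (πA : A →ₐ[k] Π i, Matrix (Fin (d i)) (Fin (d i)) k) (hπ : Function.Surjective πA) {m : ℕ}
    (hm : (LinearMap.ker πA.toLinearMap) ^ m = ⊥) (e1 q : A) (he : e1 * e1 = e1)
    (hec : ∀ x, e1 * x = x * e1) (hqc : ∀ x, q * x = x * q) (hqe : q * e1 = q)
    (i0 : Fin r) (hi0 : ∀ i, πA e1 i ≠ 0 → i = i0) (hi0' : πA e1 i0 ≠ 0)
    {N : ℕ} (hN : 1 < N) (hnil : q ^ N = 0)
    (hdim : ∀ F : Fin (N + 1) → (A →ₗ[k] k), (∀ l x y, F l (x * y) = F l (y * x)) →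
      (∀ l x, F l (x * e1) = F l x) → ¬ LinearIndependent k F)
    (t : A →ₗ[k] k) (ht : ∀ x y, t (x * y) = t (y * x)) (c : k) (hc : c ≠ 0)
    (htc : ∀ x, t (q ^ (N - 1) * x) = c * (πA x i0).trace) :
    ∃ (ε : A) (n : ℕ) (a b : Fin n → A), PiCore k ⊤ e1 q ε N n a b := by
  classical
  haveI : Nontrivial A := ⟨⟨e1, 0, fun h0 => hi0' (by rw [h0, map_zero]; rfl)⟩⟩
  set L := LinearMap.ker πA.toLinearMap with hL
  have hLmem : ∀ x, x ∈ L ↔ πA x = 0 := fun x => Iff.rfl
  have hnilL : ∀ x, πA x = 0 → IsNilpotent x := by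
    intro x hx
    refine ⟨m, ?_⟩
    have := Submodule.pow_mem_pow L ((hLmem x).2 hx) m
    rw [hm] at this
    simpa using this
  have hcenπ : ∀ x, (∀ y, x * y = y * x) → ∀ i, ∀ Y, Commute Y (πA x i) := by
    intro x hx i Y
    obtain ⟨y, hy⟩ := hπ (Pi.single i Y)
    have h1 := congrFun (congrArg πA (hx y)) i
    simp only [map_mul, Pi.mul_apply, hy, Pi.single_eq_same] at h1
    exact h1.symm
  have heπ : ∀ i, πA e1 i = if i = i0 then 1 else 0 := by
    intro i
    split_ifs with hi
    · subst hi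
      exact (matrix_central_idem _ (hcenπ e1 hec i) (by rw [← Pi.mul_apply, ← map_mul, he])).resolve_left
        hi0'
    · by_contra hne
      exact hi (hi0 i hne)
  have hqπ : πA q = 0 := funext fun i =>
    matrix_central_nilpotent _ (hcenπ q hqc i) (m := N) (by rw [← Pi.pow_apply, ← map_pow, hnil, map_zero]; rfl)
  -- the idempotent
  set E00 : Π i, Matrix (Fin (d i)) (Fin (d i)) k := Pi.single i0 (Matrix.single 0 0 1) with hE00
  obtain ⟨ε', hε'i, hε'π⟩ := exists_isIdempotentElem_eq_of_ker_isNilpotent πA.toRingHom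
    (fun x hx => hnilL x (RingHom.mem_ker.1 hx)) E00 (hπ _)
    (show E00 * E00 = E00 by rw [hE00, ← Pi.single_mul, Matrix.single_mul_single_same, one_mul])
  have hε'π' : πA ε' = E00 := hε'π
  set ε := ε' * e1 with hε
  have hεi : ε * ε = ε := by
    rw [hε, mul_assoc, ← mul_assoc e1, hec ε', mul_assoc ε', he, ← mul_assoc, hε'i.eq]
  have hεe : ε * e1 = ε := by rw [hε, mul_assoc, he]
  have hεπ : πA ε = E00 := by
    rw [hε, map_mul, hε'π']
    funext i
    rw [Pi.mul_apply, heπ]
    by_cases hi : i = i0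
    · rw [if_pos hi, mul_one]
    · rw [if_neg hi, mul_zero, hE00, Pi.single_eq_of_ne hi]
  -- the expansion of `e1`
  choose a' ha using fun j : Fin (d i0) => hπ (Pi.single i0 (Matrix.single j 0 1))
  choose b' hb using fun j : Fin (d i0) => hπ (Pi.single i0 (Matrix.single 0 j 1))
  set w := ∑ j, a' j * ε * b' j * e1 with hw
  set z := e1 - w with hz
  have hzπ : πA z = 0 := by
    funext i
    rw [hz, hw, map_sub, map_sum, Pi.sub_apply, Finset.sum_apply, Pi.zero_apply, sub_eq_zero]
    simp only [map_mul, ha, hb, hεπ, hE00, Pi.mul_apply, heπ]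
    by_cases hi : i = i0
    · subst hi
      simp only [Pi.single_eq_same, if_pos, Matrix.single_mul_single_same, one_mul, mul_one]
      ext u v
      rw [Matrix.sum_apply, Finset.sum_eq_single u (fun l _ hl => by simp [hl]) (by simp)]
      by_cases huv : u = v <;> simp [huv, Matrix.one_apply]
    · simp [Pi.single_eq_of_ne hi, hi]
  obtain ⟨mz, hmz⟩ := hnilL z hzπ
  set W := ∑ j ∈ Finset.range mz, z ^ j with hW
  have hwW : w * (W * e1) = e1 := by
    have h1 : (1 - z) * W = 1 := by
      rw [hW, mul_neg_geom_sum, hmz, sub_zero]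
    have h2 : w = (1 - z) * e1 := by
      rw [hz, sub_mul, one_mul, sub_mul, he, sub_sub_cancel, hw, Finset.sum_mul]
      exact Finset.sum_congr rfl fun j _ => by rw [mul_assoc _ e1, he]
    rw [h2, mul_assoc, ← mul_assoc e1, hec W, mul_assoc W, he, ← mul_assoc, h1, one_mul]
  set b : Fin (d i0) → A := fun j => b' j * e1 * (W * e1) with hbdef
  have hsum : ∑ j, a' j * ε * b j = e1 := by
    rw [← hwW, hw, Finset.sum_mul]
    exact Finset.sum_congr rfl fun j _ => by simp only [hbdef, mul_assoc]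
  -- the corner
  set u : Fin (d i0) → A := fun j => e1 * a' j * ε with hu
  set v : Fin (d i0) → A := fun j => ε * b j with hv
  have huv : ∑ j, u j * v j = e1 := by
    calc ∑ j, u j * v j = e1 * ∑ j, a' j * ε * b j := by
          rw [Finset.mul_sum]
          exact Finset.sum_congr rfl fun j _ => by
            simp only [hu, hv, mul_assoc]
            rw [← mul_assoc ε ε, hεi]
      _ = e1 := by rw [hsum, he]
  have hve : ∀ j, v j * e1 = v j := fun j => by
    simp only [hv, hbdef, mul_assoc, he]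
  have hεv : ∀ j, ε * v j = v j := fun j => by rw [hv, ← mul_assoc, hεi]
  have huε : ∀ j, u j * ε = u j := fun j => by simp only [hu, mul_assoc, hεi]
  clear_value u v
  clear_value ε
  set R := corner k ε with hR
  have hεI : IsIdempotentElem ε := hεi
  have hRmem : ∀ x, x ∈ R ↔ ε * x * ε = x := fun x => mem_corner hεI
  have hRε : ∀ x ∈ R, ε * x = x ∧ x * ε = x := fun x hx => corner_unit hεI hx
  set cR := commOn R with hcR
  have hcR_mem : ∀ x ∈ R, ∀ y ∈ R, x * y - y * x ∈ cR := fun x hx y hy =>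
    Submodule.subset_span ⟨(x, y), ⟨hx, hy⟩, rfl⟩
  have hvau : ∀ x i j, v i * x * u j ∈ R := fun x i j => by
    rw [hRmem, show ε * (v i * x * u j) * ε = ε * v i * x * (u j * ε) by simp only [mul_assoc],
      hεv, huε]
  let τ : A →ₗ[k] A :=
    { toFun := fun x => ∑ i, v i * x * u i
      map_add' := fun x y => by simp [mul_add, add_mul, Finset.sum_add_distrib]
      map_smul' := fun c x => by simp [Finset.smul_sum] }
  have hτR : ∀ r ∈ R, τ r - r ∈ cR := by
    intro r hr
    have hre : e1 * r = r := by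
      calc e1 * r = e1 * ε * r := by rw [mul_assoc, (hRε r hr).1]
        _ = r := by rw [hec ε, hεe, (hRε r hr).1]
    have e : r = ∑ i, (ε * u i) * (v i * r) := by
      rw [show ∑ i, ε * u i * (v i * r) = ε * (∑ i, u i * v i) * r by
        simp only [Finset.mul_sum, Finset.sum_mul, mul_assoc], huv, mul_assoc, hre, (hRε r hr).1]
    have e' : τ r - r = ∑ i, ((v i * r) * (ε * u i) - (ε * u i) * (v i * r)) := by
      rw [Finset.sum_sub_distrib, ← e]
      congr 1
      show ∑ i, v i * r * u i = _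
      refine Finset.sum_congr rfl fun i _ => ?_
      rw [mul_assoc (v i) r (ε * u i), ← mul_assoc r ε, (hRε r hr).2, mul_assoc]
    rw [e']
    refine Submodule.sum_mem _ fun i _ => hcR_mem _ ?_ _ ?_
    · rw [hRmem, ← mul_assoc, hεv, mul_assoc (v i), (hRε r hr).2]
    · rw [hRmem, ← mul_assoc, hεi, mul_assoc, huε]
  have hτe : ∀ x, τ (x * e1) = τ x := fun x => by
    show ∑ i, v i * (x * e1) * u i = ∑ i, v i * x * u i
    refine Finset.sum_congr rfl fun i _ => ?_
    rw [← hec x, ← mul_assoc, hve]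
  have hτc : ∀ x y, τ (x * y) - τ (y * x) ∈ cR := by
    intro x y
    have e : ∀ x y : A, τ (x * y) = ∑ i, ∑ j, (v i * x * u j) * (v j * y * u i) := by
      intro x y
      show ∑ i, v i * (x * y) * u i = _
      refine Finset.sum_congr rfl fun i _ => ?_
      calc v i * (x * y) * u i = v i * (e1 * x) * (y * u i) := by
            rw [← mul_assoc (v i) e1, hve]; simp only [mul_assoc]
        _ = v i * x * (∑ j, u j * v j) * (y * u i) := by rw [huv, hec x]; simp only [mul_assoc]
        _ = _ := by simp only [Finset.mul_sum, Finset.sum_mul, mul_assoc]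
    rw [e x y, e y x, Finset.sum_comm (f := fun i j => (v i * y * u j) * (v j * x * u i)),
      ← Finset.sum_sub_distrib]
    refine Submodule.sum_mem _ fun i _ => ?_
    rw [← Finset.sum_sub_distrib]
    exact Submodule.sum_mem _ fun j _ => hcR_mem _ (hvau _ _ _) _ (hvau _ _ _)
  have hcRt : ∀ x ∈ cR, ∀ j, t (q ^ j * x) = 0 := by
    intro x hx j
    refine (Submodule.span_le.2 ?_ : cR ≤ LinearMap.ker (t.comp (LinearMap.mulLeft k (q ^ j)))) hx
    rintro _ ⟨⟨y, y'⟩, -, rfl⟩
    show t (q ^ j * (y * y' - y' * y)) = 0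
    rw [mul_sub, map_sub, ← mul_assoc, ← mul_assoc, ((show Commute q y' from hqc y').pow_left j).eq,
      mul_assoc y', ht (y') , sub_self]
  -- the powers of `q` are independent modulo commutators
  have hεt : t (q ^ (N - 1) * ε) ≠ 0 := by
    rw [htc, hεπ, hE00, Pi.single_eq_same, Matrix.trace_single_eq_same, mul_one]
    exact hc
  have hindep : ∀ g : ℕ → k, (∑ i ∈ Finset.range N, g i • (q ^ i * ε)) ∈ cR →
      ∀ i < N, g i = 0 := by
    intro g hg i
    induction i using Nat.strong_induction_on with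
    | _ i ih =>
      intro hi
      have h1 := hcRt _ hg (N - 1 - i)
      rw [Finset.mul_sum, map_sum, Finset.sum_eq_single i] at h1
      · rw [mul_smul_comm, map_smul, smul_eq_mul, ← mul_assoc, ← pow_add,
          show N - 1 - i + i = N - 1 by omega] at h1
        exact (mul_eq_zero.1 h1).resolve_right hεt
      · intro j hj hji
        rcases lt_or_gt_of_ne hji with hlt | hgt
        · rw [ih j hlt (Finset.mem_range.1 hj), zero_smul, mul_zero, map_zero]
        · rw [mul_smul_comm, ← mul_assoc, ← pow_add]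
          obtain ⟨l, hl⟩ := Nat.exists_eq_add_of_le (show N ≤ N - 1 - i + j by omega)
          rw [hl, pow_add, hnil, zero_mul, zero_mul, smul_zero, map_zero]
      · simp [hi]
  set K := Submodule.span k (Set.range fun i : Fin N => q ^ (i : ℕ) * ε) with hK
  have hqR : ∀ i : ℕ, q ^ i * ε ∈ R := fun i => by
    rw [hRmem, ← mul_assoc, ← ((show Commute q ε from hqc ε).pow_left i).eq, mul_assoc _ ε ε,
      hεi, mul_assoc, hεi]
  have hRK : R ≤ K ⊔ cR := by
    intro x hx
    by_contra hxn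
    set vv : Fin (N + 1) → A := Fin.snoc (fun i : Fin N => q ^ (i : ℕ) * ε) x with hvv
    have hvR : ∀ l, vv l ∈ R := fun l => by
      refine Fin.lastCases ?_ (fun i => ?_) l
      · simp only [hvv, Fin.snoc_last]; exact hx
      · simp only [hvv, Fin.snoc_castSucc]; exact hqR _
    set ω : Fin (N + 1) → A ⧸ cR := fun l => cR.mkQ (vv l) with hω
    have hωi : LinearIndependent k ω := by
      rw [Fintype.linearIndependent_iff]
      intro g hg
      have hmem : ∑ l, g l • vv l ∈ cR := by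
        rw [← Submodule.Quotient.mk_eq_zero cR, ← Submodule.mkQ_apply, map_sum]
        simpa [hω] using hg
      rw [Fin.sum_univ_castSucc] at hmem
      simp only [hvv, Fin.snoc_castSucc, Fin.snoc_last] at hmem
      have hlast : g (Fin.last N) = 0 := by
        by_contra hne
        apply hxn
        have h2 : g (Fin.last N) • x ∈ K ⊔ cR := by
          have h3 := Submodule.sub_mem (K ⊔ cR) (Submodule.mem_sup_right hmem)
            (Submodule.mem_sup_left (Submodule.sum_mem K (t := Finset.univ) fun (i : Fin N) _ =>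
              Submodule.smul_mem K (g (Fin.castSucc i)) (Submodule.subset_span ⟨i, rfl⟩)))
          simpa using h3
        have := Submodule.smul_mem _ (g (Fin.last N))⁻¹ h2
        rwa [smul_smul, inv_mul_cancel₀ hne, one_smul] at this
      rw [hlast, zero_smul, add_zero] at hmem
      have h4 := hindep (fun i => if h : i < N then g (Fin.castSucc ⟨i, h⟩) else 0) (by
        rw [← Fin.sum_univ_eq_sum_range (fun i => (if h : i < N then g (Fin.castSucc ⟨i, h⟩) else 0) •
          (q ^ i * ε))]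
        simpa using hmem)
      intro l
      refine Fin.lastCases hlast (fun i => ?_) l
      simpa using h4 i i.2
    obtain ⟨P, hP⟩ := LinearMap.exists_extend hωi.repr
    let F : Fin (N + 1) → (A →ₗ[k] k) := fun l =>
      ((Finsupp.lapply l).comp P).comp (cR.mkQ.comp τ)
    have hFv : ∀ l l', F l (vv l') = if l' = l then 1 else 0 := by
      intro l l'
      have h2 : cR.mkQ (τ (vv l')) = ω l' := (Submodule.Quotient.eq cR).2 (hτR _ (hvR l'))
      show (P (cR.mkQ (τ (vv l')))) l = _
      rw [h2]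
      have h3 : P (ω l') = Finsupp.single l' 1 := by
        have h4 := LinearMap.congr_fun hP ⟨ω l', Submodule.subset_span ⟨l', rfl⟩⟩
        rw [LinearMap.comp_apply, Submodule.subtype_apply] at h4
        rw [h4]
        exact hωi.repr_eq_single l' _ rfl
      rw [h3, Finsupp.single_apply]
    refine hdim F (fun l y y' => ?_) (fun l y => ?_) ?_
    · show (P (cR.mkQ (τ (y * y')))) l = (P (cR.mkQ (τ (y' * y)))) l
      rw [show cR.mkQ (τ (y * y')) = cR.mkQ (τ (y' * y)) from
        (Submodule.Quotient.eq cR).2 (hτc y y')]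
    · show (P (cR.mkQ (τ (y * e1)))) l = _
      rw [hτe]; rfl
    · rw [Fintype.linearIndependent_iff]
      intro g hg l'
      have h2 := LinearMap.congr_fun hg (vv l')
      simp only [LinearMap.sum_apply, LinearMap.smul_apply, hFv, smul_eq_mul, mul_ite, mul_one,
        mul_zero, LinearMap.zero_apply, Finset.sum_ite_eq, Finset.mem_univ, if_true] at h2
      exact h2
  -- commutativity
  have hRL : ∀ x ∈ R, ∃ c' : k, x - c' • ε ∈ L := by
    intro x hx
    refine ⟨πA x i0 0 0, (hLmem _).2 (funext fun i => ?_)⟩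
    have h1 := congrFun (congrArg πA ((hRmem x).1 hx)) i
    simp only [map_mul, Pi.mul_apply, hεπ, hE00] at h1
    rw [map_sub, map_smul, Pi.sub_apply, Pi.smul_apply, hεπ, hE00, Pi.zero_apply, sub_eq_zero,
      ← h1]
    by_cases hi : i = i0
    · subst hi
      simp only [Pi.single_eq_same, Matrix.single_mul_mul_single, one_mul, mul_one,
        Matrix.smul_single, smul_eq_mul]
    · simp [Pi.single_eq_of_ne hi]
  have hLL : L * L ≤ L := Submodule.mul_le.2 fun x hx y hy => by
    rw [hLmem] at hx ⊢; rw [map_mul, hx, zero_mul]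
  have hanti : ∀ i, 1 ≤ i → L ^ (i + 1) ≤ L ^ i := by
    intro i hi
    obtain ⟨j, rfl⟩ := Nat.exists_eq_add_of_le hi
    rw [show 1 + j + 1 = j + 2 by omega, show 1 + j = j + 1 by omega, pow_add, pow_two, pow_succ]
    exact mul_le_mul' le_rfl hLL
  have hKc : ∀ x ∈ K, ∀ y ∈ R, x * y = y * x := by
    intro x hx y hy
    induction hx using Submodule.span_induction with
    | mem x hx =>
      obtain ⟨i, rfl⟩ := hx
      show q ^ (i : ℕ) * ε * y = y * (q ^ (i : ℕ) * ε)
      rw [mul_assoc, (hRε y hy).1, ← mul_assoc, ← ((show Commute q y from hqc y).pow_left _).eq,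
        mul_assoc, (hRε y hy).2]
    | zero => simp
    | add x y _ _ h1 h2 => simp only [add_mul, mul_add, h1, h2]
    | smul c x _ h1 => simp only [smul_mul_assoc, mul_smul_comm, h1]
  have hcRR : cR ≤ R := by
    refine Submodule.span_le.2 ?_
    rintro _ ⟨⟨y, y'⟩, ⟨hy, hy'⟩, rfl⟩
    show y * y' - y' * y ∈ R
    refine R.sub_mem ?_ ?_ <;> rw [hRmem]
    · rw [← mul_assoc, (hRε y hy).1, mul_assoc, (hRε y' hy').2]
    · rw [← mul_assoc, (hRε y' hy').1, mul_assoc, (hRε y hy).2]
  have hdeep : ∀ j, cR ≤ L ^ (j + 1) := by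
    intro j
    induction j with
    | zero =>
      rw [pow_one]
      refine Submodule.span_le.2 ?_
      rintro _ ⟨⟨y, y'⟩, ⟨hy, hy'⟩, rfl⟩
      obtain ⟨c1, h1⟩ := hRL y hy
      obtain ⟨c2, h2⟩ := hRL y' hy'
      have h3 : y * y' - y' * y = (y - c1 • ε) * (y' - c2 • ε) - (y' - c2 • ε) * (y - c1 • ε) := by
        simp only [sub_mul, mul_sub, smul_mul_assoc, mul_smul_comm, (hRε y hy).1, (hRε y hy).2,
          (hRε y' hy').1, (hRε y' hy').2, hεi, smul_sub, smul_smul, mul_comm c1 c2]
        abel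
      show y * y' - y' * y ∈ L
      rw [h3]
      exact Submodule.sub_mem _ (hLL (Submodule.mul_mem_mul h1 h2))
        (hLL (Submodule.mul_mem_mul h2 h1))
    | succ j ih =>
      have hle : L ^ (j + 1) * L ^ (j + 1) ≤ L ^ (j + 2) := by
        rw [← pow_add]
        clear ih
        induction j with
        | zero => exact le_rfl
        | succ j ih =>
          calc L ^ (j + 1 + 1 + (j + 1 + 1)) = L * L ^ (j + 1 + (j + 1)) * L := by
                rw [← pow_succ', ← pow_succ]; congr 1; omega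
            _ ≤ L * L ^ (j + 2) * L := mul_le_mul' (mul_le_mul' le_rfl ih) le_rfl
            _ = L ^ (j + 2 + 1 + 1) := by rw [← pow_succ', ← pow_succ]
            _ ≤ L ^ (j + 1 + 2) := hanti _ (by omega)
      refine Submodule.span_le.2 ?_
      rintro _ ⟨⟨y, y'⟩, ⟨hy, hy'⟩, rfl⟩
      obtain ⟨k1, hk1, c1, hc1, rfl⟩ := Submodule.mem_sup.1 (hRK hy)
      obtain ⟨k2, hk2, c2, hc2, rfl⟩ := Submodule.mem_sup.1 (hRK hy')
      have hKR : ∀ z ∈ K, z ∈ R := fun z hz => by
        refine (Submodule.span_le.2 ?_ : K ≤ R) hz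
        rintro _ ⟨i, rfl⟩
        exact hqR _
      show (k1 + c1) * (k2 + c2) - (k2 + c2) * (k1 + c1) ∈ L ^ (j + 1 + 1)
      rw [show (k1 + c1) * (k2 + c2) - (k2 + c2) * (k1 + c1) = c1 * c2 - c2 * c1 by
        simp only [add_mul, mul_add, hKc k1 hk1 k2 (hKR _ hk2), hKc k1 hk1 c2 (hcRR hc2),
          hKc k2 hk2 c1 (hcRR hc1)]
        abel]
      exact hle (Submodule.sub_mem _ (Submodule.mul_mem_mul (ih hc1) (ih hc2))
        (Submodule.mul_mem_mul (ih hc2) (ih hc1)))
  have hzero : cR = ⊥ := by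
    rw [eq_bot_iff]
    rcases Nat.eq_zero_or_pos m with hm0 | hm0
    · subst hm0
      intro x hx
      have h1 : (1 : A) ∈ (⊥ : Submodule k A) := hm ▸ (by rw [pow_zero]; exact Submodule.one_le.1 le_rfl)
      exact absurd ((Submodule.mem_bot k).1 h1) one_ne_zero
    · exact (hdeep (m - 1)).trans (by rw [show m - 1 + 1 = m by omega, hm])
  refine ⟨ε, d i0, a', b,
    { hN := hN, mem_e := Algebra.mem_top, mem_q := Algebra.mem_top, mem_ε := Algebra.mem_top
      mem_a := fun _ => Algebra.mem_top, mem_b := fun _ => Algebra.mem_top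
      idem := he, ecen := fun x _ => hec x, qcen := fun x _ => hqc x, qe := hqe, nil := hnil
      ne := fun h0 => hεt (by rw [h0, map_zero]), εidem := hεi, εe := hεe
      corner := fun x _ => ?_
      sum := hsum }⟩
  have h1 : ε * x * ε ∈ K := by
    have h2 := hRK (show ε * x * ε ∈ R by
      rw [hRmem, ← mul_assoc, ← mul_assoc, hεi, mul_assoc _ ε ε, hεi])
    rwa [hzero, sup_bot_eq] at h2
  obtain ⟨g, hg⟩ := (Submodule.mem_span_range_iff_exists_fun k).1 h1
  refine ⟨fun i => if h : i < N then g ⟨i, h⟩ else 0, ?_⟩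
  rw [← hg, ← Fin.sum_univ_eq_sum_range (fun i => (if h : i < N then g ⟨i, h⟩ else 0) • (q ^ i * ε))]
  exact Finset.sum_congr rfl fun i _ => by rw [dif_pos i.2]

/-- Transport along an injective map of algebras. -/
theorem PiCore.map {B : Type*} [Ring B] [Algebra k B] (j : A →ₐ[k] B) (hj : Function.Injective j)
    {e1 q ε : A} {N n : ℕ} {a b : Fin n → A} (h : PiCore k ⊤ e1 q ε N n a b) :
    PiCore k j.range (j e1) (j q) (j ε) N n (fun i => j (a i)) (fun i => j (b i)) := by
  refine
    { hN := h.hN, mem_e := ⟨_, rfl⟩, mem_q := ⟨_, rfl⟩, mem_ε := ⟨_, rfl⟩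
      mem_a := fun i => ⟨_, rfl⟩, mem_b := fun i => ⟨_, rfl⟩
      idem := by rw [← map_mul, h.idem]
      ecen := ?_, qcen := ?_
      qe := by rw [← map_mul, h.qe]
      nil := by rw [← map_pow, h.nil, map_zero]
      ne := fun h0 => h.ne (hj (by rw [map_mul, map_pow, h0, map_zero]))
      εidem := by rw [← map_mul, h.εidem]
      εe := by rw [← map_mul, h.εe]
      corner := ?_
      sum := by simp only [← map_mul, ← map_sum, h.sum] }
  · rintro _ ⟨x, rfl⟩
    show j e1 * j x = j x * j e1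
    rw [← map_mul, ← map_mul, h.ecen x Algebra.mem_top]
  · rintro _ ⟨x, rfl⟩
    show j q * j x = j x * j q
    rw [← map_mul, ← map_mul, h.qcen x Algebra.mem_top]
  · rintro _ ⟨x, rfl⟩
    obtain ⟨c, hc⟩ := h.corner x Algebra.mem_top
    refine ⟨c, ?_⟩
    show j ε * j x * j ε = _
    rw [← map_mul, ← map_mul, hc, map_sum]
    simp

end

end CfsgLib.Blocks
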