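import Cfsg.Agent.Lib.Blocks.Induced
import Cfsg.Agent.Lib.Blocks.Knorr

/-!
# The correspondence of Harris and Knörr
-/

namespace CfsgLib.Blocks

open Cfsg CfsgLib.CharTheory

set_option linter.unusedVariables false
set_option linter.unusedSimpArgs false
set_option linter.style.haveILetI false
set_option linter.unusedSectionVars false

universe u

variable {p : ℕ} {M : Ideal AlgInt}

section general

variable {G : Type u} [Group G] [Fintype G]

/-- Blocks with congruent idempotent coefficients on the centralizer of a `p`-subgroup, at which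
one of them does not vanish, coincide. -/
theorem block_eq_of_congr (hM : IsPModular p M) {P : Subgroup G} (hP : IsPGroup p P)
    {b b' : Set (IrrCharacter G)} (hb : IsPBlock M b) (hb' : IsPBlock M b')
    (h : ∀ x ∈ Subgroup.centralizer (P : Set G),
      res hM (blockCoeff b x) = res hM (blockCoeff b' x))
    {c : G} (hc : c ∈ Subgroup.centralizer (P : Set G))
    (hu : res hM (blockCoeff b c) ≠ 0) : b = b' := by
  by_contra hne
  apply hu
  have h1 : rk hM (blockCoeff b) =
      kconv (fun g => rk hM (blockCoeff b) g - rk hM (blockCoeff b') g)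
        (rk hM (blockCoeff b)) := by
    funext g
    simp only [kconv, sub_mul, Finset.sum_sub_distrib]
    have e1 := congrFun (rk_conv hM (memRing_blockCoeff hM hb) (memRing_blockCoeff hM hb)) g
    have e2 := congrFun (rk_conv hM (memRing_blockCoeff hM hb') (memRing_blockCoeff hM hb)) g
    rw [conv_blockCoeff] at e1
    rw [conv_blockCoeff_eq_zero (block_disjoint hM hb' hb (Ne.symm hne))] at e2
    simp only [kconv] at e1 e2
    rw [← e1, ← e2]
    simp [rk, res_zero]
  show rk hM (blockCoeff b) c = 0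
  rw [h1]
  refine kconv_vanish hM hP (fun r hr x => ?_) (fun r hr x => ?_) (fun g hg => ?_) hc
  · simp only [rk, blockCoeff_isClassFunction b x r, blockCoeff_isClassFunction b' x r]
  · simp only [rk, blockCoeff_isClassFunction b x r]
  · simp only [rk, h g hg, sub_self]

/-- A defect group contains every normal `p`-subgroup. -/
theorem normal_le_defectGroup (hM : IsPModular p M) {B : Set (IrrCharacter G)} (hB : IsPBlock M B)
    {P : Subgroup G} [P.Normal] (hP : IsPGroup p P) {D : Subgroup G}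
    (hD : IsDefectGroup p M B D) : P ≤ D := by
  haveI : Fact p.Prime := ⟨hM.1⟩
  obtain ⟨g, hg, S, rfl⟩ := hD
  have hgC := mem_centralizer_normal hM hB hP hg.2.1
  have hPC : P ≤ Subgroup.centralizer ({g} : Set G) := fun r hr =>
    Subgroup.mem_centralizer_singleton_iff.2 (hgC r hr)
  have h1 : IsPGroup p (P.subgroupOf (Subgroup.centralizer ({g} : Set G))) :=
    hP.comap_of_injective _ (Subgroup.subtype_injective _)
  have h2 : P.subgroupOf (Subgroup.centralizer ({g} : Set G)) ≤
      (S : Subgroup (Subgroup.centralizer ({g} : Set G))) :=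
    le_sup_left.trans (S.3 (h1.to_sup_of_normal_left S.2) le_sup_right).le
  intro r hr
  exact ⟨⟨r, hPC hr⟩, h2 hr, rfl⟩

/-- Congruence on the centralizer of a normal `p`-subgroup gives congruent central characters. -/
theorem res_omega_congr_normal (hM : IsPModular p M) (P : Subgroup G) [P.Normal]
    (hP : IsPGroup p P) {f f' : G → ℂ} (hf : IsClassFunction G f) (hf' : IsClassFunction G f')
    (hfM : ∀ x, MemLocalRing M (f x)) (hfM' : ∀ x, MemLocalRing M (f' x))
    (h : ∀ x ∈ Subgroup.centralizer (P : Set G), res hM (f x) = res hM (f' x))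
    (χ : IrrCharacter G) :
    res hM (omega (χ : G → ℂ) f) = res hM (omega (χ : G → ℂ) f') := by
  classical
  have hCn : (Subgroup.centralizer (P : Set G)).Normal := inferInstance
  set d : G → ℂ := fun x => f x - f' x with hd
  set d₀ : G → ℂ := fun x => if x ∈ Subgroup.centralizer (P : Set G) then 0 else d x with hd₀
  have hdc : IsClassFunction G d := isClassFunction_sub hf hf'
  have hd₀c : IsClassFunction G d₀ := by
    intro x y
    have : y * x * y⁻¹ ∈ Subgroup.centralizer (P : Set G) ↔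
        x ∈ Subgroup.centralizer (P : Set G) :=
      ⟨fun h => by simpa [mul_assoc] using hCn.conj_mem _ h y⁻¹, fun h => hCn.conj_mem _ h y⟩
    simp only [hd₀, this, hdc x y]
  have hdM : ∀ x, MemLocalRing M (d x) := fun x => (loc hM).sub_mem (hfM x) (hfM' x)
  have hd₀M : ∀ x, MemLocalRing M (d₀ x) := fun x => by
    simp only [hd₀]; split_ifs
    · exact (loc hM).zero_mem
    · exact hdM x
  have h0 : res hM (omega (χ : G → ℂ) d₀) = 0 :=
    (res_eq_zero_iff hM (memRing_omega hM hd₀c hd₀M χ)).2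
      (omega_vanish_off_centralizer hM P hP hd₀c hd₀M (fun x hx => by simp [hd₀, hx]) χ)
  rw [← res_omega_congr hM hdc hd₀c hdM hd₀M (fun x => by
      simp only [hd₀]
      split_ifs with hx
      · rw [hd, res_sub hM (hfM x) (hfM' x), h x hx, sub_self, res_zero]
      · rfl) χ,
    show omega (χ : G → ℂ) d = omega (χ : G → ℂ) f - omega (χ : G → ℂ) f' by
      simp only [hd, omega, ← sub_div, ← Finset.sum_sub_distrib, sub_mul],
    res_sub hM (memRing_omega hM hf hfM χ) (memRing_omega hM hf' hfM' χ), sub_eq_zero] at h0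
  exact h0

variable {N : Subgroup G} [hN : N.Normal] [Fintype N]

theorem covFn_coe (b : Set (IrrCharacter N)) (k : N) :
    covFn b (k : G) = ∑ c ∈ covOrb b, blockCoeff c k :=
  sext_coe N _ k

/-- A covering block sees the orbit idempotent on the centralizer of its defect group. -/
theorem exists_covFn_unit (hM : IsPModular p M) {B : Set (IrrCharacter G)}
    (hB : IsPBlock M B) {b : Set (IrrCharacter N)} (hb : IsPBlock M b)
    (hcov : ∃ χ ∈ B, ∃ θ ∈ b, classInner (fun n : N => (χ : G → ℂ) n) (θ : N → ℂ) ≠ 0)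
    {P : Subgroup G} (hP : IsDefectGroup p M B P) :
    ∃ g ∈ Subgroup.centralizer (P : Set G), g ∈ N ∧ res hM (covFn b g) ≠ 0 := by
  have hPp := defectGroup_isPGroup hP
  obtain ⟨t, ⟨htR, htI, -⟩, S, hPS⟩ := hP
  have htP : t ∈ Subgroup.centralizer (P : Set G) := fun r hr =>
    Subgroup.mem_centralizer_singleton_iff.1 (Subgroup.map_subtype_le _ (hPS.le hr))
  obtain ⟨g, hg, hgu⟩ : ∃ g ∈ Subgroup.centralizer (P : Set G), res hM (covFn b g) ≠ 0 := by
    by_contra hno
    push Not at hno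
    refine htI ((res_eq_zero_iff hM htR).1 ?_)
    have h1 : rk hM (blockCoeff B) t = 0 := by
      rw [← conv_blockCoeff_covFn hM hB hb hcov, conv_comm_class (blockCoeff_isClassFunction B),
        rk_conv hM (covFn_mem hM hb) (memRing_blockCoeff hM hB)]
      exact kconv_vanish hM hPp (fun r _ x => congrArg (res hM) (covFn_cls b x r))
        (fun r _ x => congrArg (res hM) (blockCoeff_isClassFunction B x r)) hno htP
    exact h1
  refine ⟨g, hg, ?_, hgu⟩
  by_contra h
  rw [covFn_off b h, res_zero] at hgu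
  exact hgu rfl

/-- A block induced from `H ≥ C(P)` keeps the pairs at `P`. -/
theorem pair_of_induced (hM : IsPModular p M) {H : Subgroup G} [Fintype H] {P : Subgroup G}
    (hP : IsPGroup p P) {a : BrauerPairIdx H}
    {ha : Subgroup.centralizer ((a.1.map H.subtype : Subgroup G) : Set G) ≤ H}
    {e : Set (IrrCharacter (Subgroup.centralizer (P : Set G)))} (h : upIdx a ha = ⟨P, e⟩)
    {c : Set (IrrCharacter H)} (hc : IsBrauerPairOf p M c a.1 a.2)
    {B : Set (IrrCharacter G)} (hind : IsInducedBlock M H c B) :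
    IsBrauerPairOf p M B P e := by
  have he := isPBlock_upIdx hc.1.2 h
  obtain ⟨χ, hχ⟩ := block_nonempty hM hind.2.1
  obtain ⟨R', g'⟩ := a
  obtain ⟨h1, h2⟩ := Sigma.mk.inj_iff.1 h
  subst h1
  have h3 := eq_of_heq h2
  subst h3
  obtain ⟨η, hη⟩ := bne hM hc.1.2
  refine pairOf_of_lam hM hP he ⟨η, hη, rfl⟩ hind.2.1 ?_
  rw [lam, brauerOmega_up]
  obtain ⟨φ, hφ⟩ := exists_lam_irr hM hc.1.1 η
  have hcl : IsClassFunction H (fun k : H => blockCoeff B (k : G)) :=
    fun x y => blockCoeff_isClassFunction _ (x : G) (y : G)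
  have h4 := hφ _ hcl (fun k => memRing_blockCoeff hM hind.2.1 _)
  rw [lam] at h4
  have hφb := lam_irr_mem hM hc.2.1 hφ (pairOf_lam hM hc hη)
  rw [h4, res_omega_of_induced H hM φ χ (hind.2.2 φ hφb χ hχ)
    (blockCoeff_isClassFunction _) (memRing_blockCoeff hM hind.2.1), ← cf_ind, omega_cf,
    ind_of_mem hχ, res_one]

/-- A block induced from `H ≥ N(D)`, `D` a defect group below, has `D` as defect group. -/
theorem exists_maximal_of_induced (hM : IsPModular p M) {H : Subgroup G} [Fintype H]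
    {c : Set (IrrCharacter H)} {B : Set (IrrCharacter G)} (hind : IsInducedBlock M H c B)
    {D : Subgroup H} (hD : IsDefectGroup p M c D)
    (hND : Subgroup.normalizer ((D.map H.subtype : Subgroup G) : Set G) ≤ H) :
    ∃ e, IsMaximalBrauerPair p M B (D.map H.subtype) e ∧
      ∀ ξ ∈ e, lam hM (D.map H.subtype) (subgroupBlockCoeff H c) ξ = 1 := by
  obtain ⟨e', hmax⟩ := exists_maximal_at hM hind.1 hD
  have ha : Subgroup.centralizer ((D.map H.subtype : Subgroup G) : Set G) ≤ H :=
    (Subgroup.centralizer_le_normalizer _).trans hND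
  have hDp : IsPGroup p (D.map H.subtype : Subgroup G) := hmax.1.1.1.map _
  refine ⟨irrPull (upE D ha) '' e', ?_, fun ξ hξ => ?_⟩
  · have h : upIdx (⟨D, e'⟩ : BrauerPairIdx H) ha =
        ⟨D.map H.subtype, irrPull (upE D ha) '' e'⟩ := rfl
    exact (maximal_up_iff hM hND h (pair_of_induced hM hDp h hmax.1 hind) hmax.1).2 hmax
  · exact (pairOf_iff_lam_up hM (a := (⟨D, e'⟩ : BrauerPairIdx H)) (ha := ha) hmax.1.1.2 rfl
      hDp hind.1 hξ).1 hmax.1

/-- Two blocks of `H ≥ N(D)` with defect group `D` inducing the same block coincide. -/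
theorem eq_of_induced (hM : IsPModular p M) {H : Subgroup G} [Fintype H]
    {c c' : Set (IrrCharacter H)} {B : Set (IrrCharacter G)} (hind : IsInducedBlock M H c B)
    (hind' : IsInducedBlock M H c' B) {D : Subgroup H} (hD : IsDefectGroup p M c D)
    (hD' : IsDefectGroup p M c' D)
    (hND : Subgroup.normalizer ((D.map H.subtype : Subgroup G) : Set G) ≤ H) : c = c' := by
  obtain ⟨e, hmax, hce⟩ := exists_maximal_of_induced hM hind hD hND
  obtain ⟨e', hmax', hce'⟩ := exists_maximal_of_induced hM hind' hD' hND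
  obtain ⟨n, hn, hne⟩ := pairs_orbit hM hmax hmax'.1
  set P : Subgroup G := D.map H.subtype with hP
  have hPH : P ≤ H := Subgroup.map_subtype_le D
  have hC : Subgroup.centralizer (P : Set G) ≤ H :=
    (Subgroup.centralizer_le_normalizer _).trans hND
  have hn' : n ∈ H := hND hn
  obtain ⟨a, ha, hup, hab⟩ := exists_upIdx (H := H) hPH hC hmax.1.1.2
  obtain ⟨ξ, hξ⟩ := bne hM hmax.1.1.2
  have hac := (pairOf_iff_lam_up hM hab hup hmax.1.1.1 hind.1 hξ).2 (hce ξ hξ)
  have hmap := le_map_subtype_of_eq hup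
  have ha' : Subgroup.centralizer
      (((conjIdx (⟨n, hn'⟩ : H) a).1.map H.subtype : Subgroup G) : Set G) ≤ H := by
    show Subgroup.centralizer (((a.1.map (MulAut.conj (⟨n, hn'⟩ : H)).toMonoidHom).map
      H.subtype : Subgroup G) : Set G) ≤ H
    rw [map_conj_subtype, hmap, map_conj_normalizer hn]
    exact hC
  have h2 := upIdx_conj a ha ⟨n, hn'⟩ ha'
  rw [hup, conjIdx_normalizer hn, ← hne] at h2
  have h3 := pairOf_conj hM hac (⟨n, hn'⟩ : H)
  obtain ⟨ξ', hξ'⟩ := bne hM hmax'.1.1.2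
  exact pairOf_block_unique hM h3
    ((pairOf_iff_lam_up hM h3.1.2 h2 hmax.1.1.1 hind'.1 hξ').2 (hce' ξ' hξ'))

end general

section HarrisKnorr

variable {G : Type u} [Group G] [Fintype G] {N : Subgroup G} [hN : N.Normal] [Fintype N]
  {Q H : Subgroup G} [Fintype H] [(N.subgroupOf H).Normal] [Fintype (N.subgroupOf H)]
  {d : Set (IrrCharacter N)} {e : Set (IrrCharacter (N.subgroupOf H))}

/-- Standing hypotheses: `H = N(Q)`, `d` has defect group `Q`, and the Brauer images of `d` and
`e` at `Q` agree. -/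
structure HKData (p : ℕ) (hM : IsPModular p M) (Q H : Subgroup G) (d : Set (IrrCharacter N))
    (e : Set (IrrCharacter (N.subgroupOf H))) : Prop where
  pgroup : IsPGroup p Q
  le_N : Q ≤ N
  eq_norm : H = Subgroup.normalizer (Q : Set G)
  block_d : IsPBlock M d
  block_e : IsPBlock M e
  defect : IsDefectGroup p M d (Q.subgroupOf N)
  congr : ∀ y : N.subgroupOf H, ((y : H) : G) ∈ Subgroup.centralizer (Q : Set G) →
    res hM (blockCoeff d ⟨((y : H) : G), y.2⟩) = res hM (blockCoeff e y)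

namespace HKData

variable {hM : IsPModular p M} (hd : HKData p hM Q H d e)
include hd

theorem cent_le : Subgroup.centralizer (Q : Set G) ≤ H :=
  (Subgroup.centralizer_le_normalizer _).trans hd.eq_norm.ge

theorem le_H : Q ≤ H := Subgroup.le_normalizer.trans hd.eq_norm.ge

theorem conj_cent {h : H} {x : G} (hx : x ∈ Subgroup.centralizer (Q : Set G)) :
    (h : G)⁻¹ * x * h ∈ Subgroup.centralizer (Q : Set G) := by
  simpa using (conj_mem_centralizer_iff Q hd.eq_norm.le h⁻¹ x).2 hx

/-- The congruence, transported by an element of `H`. -/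
theorem congr_conj (h : H) (y : N.subgroupOf H)
    (hy : ((y : H) : G) ∈ Subgroup.centralizer (Q : Set G)) :
    res hM (blockCoeff (blockConj (h : G) d) ⟨((y : H) : G), y.2⟩) =
      res hM (blockCoeff (blockConj h e) y) := by
  rw [blockConj, blockCoeff_image, blockConj, blockCoeff_image]
  exact hd.congr (conjE (mem_normalizer_normal (N := N.subgroupOf H) h) y) (hd.conj_cent hy)

theorem exists_unit_d : ∃ l : N, (l : G) ∈ Subgroup.centralizer (Q : Set G) ∧
    res hM (blockCoeff d l) ≠ 0 := by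
  obtain ⟨t, ⟨htR, htI, -⟩, S, hS⟩ := hd.defect
  refine ⟨t, fun q hq => ?_, fun h => htI ((res_eq_zero_iff hM htR).1 h)⟩
  have h1 : (⟨q, hd.le_N hq⟩ : N) ∈ Subgroup.centralizer ({t} : Set N) :=
    Subgroup.map_subtype_le _ (hS.le (Subgroup.mem_subgroupOf.2 hq))
  exact congrArg Subtype.val (Subgroup.mem_centralizer_singleton_iff.1 h1)

/-- A stabilizer in `H` of `e` is one of `d`, and conversely. -/
theorem stab_iff (h k : H) :
    blockConj (h : G) d = blockConj (k : G) d ↔ blockConj h e = blockConj k e := by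
  obtain ⟨l, hl, hlu⟩ := hd.exists_unit_d
  -- a unit coefficient of the conjugates
  set x : G := (h : G) * l * (h : G)⁻¹ with hx
  have hxC : x ∈ Subgroup.centralizer (Q : Set G) :=
    (conj_mem_centralizer_iff Q hd.eq_norm.le h (l : G)).2 hl
  have hxN : x ∈ N := hN.conj_mem _ l.2 _
  have hu : res hM (blockCoeff (blockConj (h : G) d) ⟨x, hxN⟩) ≠ 0 := by
    rw [blockConj, blockCoeff_image]
    convert hlu using 4
    apply Subtype.ext
    simp [hx, mul_assoc]
  have hdb : ∀ g : G, IsPBlock M (blockConj g d) := fun g => isPBlock_image _ hd.block_d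
  have heb : ∀ g : H, IsPBlock M (blockConj g e) := fun g => isPBlock_image _ hd.block_e
  constructor
  · intro heq
    refine block_eq_of_congr hM
      (P := (Q.subgroupOf H).subgroupOf (N.subgroupOf H))
      ((hd.pgroup.comap_of_injective _ (Subgroup.subtype_injective _)).comap_of_injective _
        (Subgroup.subtype_injective _)) (heb h) (heb k) (fun y hy => ?_)
      (c := ⟨⟨x, hd.cent_le hxC⟩, hxN⟩) ?_ ?_
    · have hy' : ((y : H) : G) ∈ Subgroup.centralizer (Q : Set G) := fun q hq =>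
        congrArg (fun z : N.subgroupOf H => ((z : H) : G))
          (hy ⟨⟨q, hd.le_H hq⟩, hd.le_N hq⟩ hq)
      rw [← hd.congr_conj h y hy', ← hd.congr_conj k y hy', heq]
    · intro r hr
      exact Subtype.ext (Subtype.ext (hxC _ hr))
    · rw [← hd.congr_conj h _ hxC]
      exact hu
  · intro heq
    refine block_eq_of_congr hM (P := Q.subgroupOf N)
      (hd.pgroup.comap_of_injective _ (Subgroup.subtype_injective _)) (hdb h) (hdb k)
      (fun y hy => ?_) (c := ⟨x, hxN⟩) ?_ hu
    · have hy' : (y : G) ∈ Subgroup.centralizer (Q : Set G) := fun q hq =>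
        congrArg Subtype.val (hy ⟨q, hd.le_N hq⟩ hq)
      have e1 := hd.congr_conj h ⟨⟨(y : G), hd.cent_le hy'⟩, y.2⟩ hy'
      have e2 := hd.congr_conj k ⟨⟨(y : G), hd.cent_le hy'⟩, y.2⟩ hy'
      exact e1.trans ((congrArg (fun b => res hM (blockCoeff b _)) heq).trans e2.symm)
    · intro r hr
      exact Subtype.ext (hxC _ hr)

/-- A `p`-subgroup of `N` centralizing a unit coefficient of a conjugate of `d`. -/
theorem card_le (g : G) {n : N} (hu : res hM (blockCoeff (blockConj g d) n) ≠ 0) {R : Subgroup G}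
    (hR : IsPGroup p R) (hRN : R ≤ N) (hRn : (n : G) ∈ Subgroup.centralizer (R : Set G)) :
    Nat.card R ≤ Nat.card Q ∧ (Q ≤ R → ∃ m ∈ N, g * m ∈ H) := by
  haveI : Fact p.Prime := ⟨hM.1⟩
  rw [blockConj, blockCoeff_image] at hu
  set R' : Subgroup G := R.map (MulAut.conj g⁻¹).toMonoidHom with hR'
  have hR'N : R' ≤ N := map_conj_le hRN g⁻¹
  obtain ⟨D, hD, hle⟩ := exists_defectGroup_ge hM hd.block_d
    (fun h0 => hu ((res_eq_zero_iff hM (memRing_blockCoeff hM hd.block_d _)).2 h0))
    ((hR.map _).comap_of_injective _ (Subgroup.subtype_injective N) : IsPGroup p (R'.subgroupOf N))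
    (fun y hy => by
      rw [Subgroup.mem_centralizer_singleton_iff]
      obtain ⟨r, hr, hry⟩ := Subgroup.mem_subgroupOf.1 hy
      have hc : r * (n : G) = n * r := hRn r hr
      apply Subtype.ext
      show (y : G) * (g⁻¹ * n * g) = g⁻¹ * n * g * y
      rw [← hry]
      show g⁻¹ * r * g⁻¹⁻¹ * (g⁻¹ * n * g) = g⁻¹ * n * g * (g⁻¹ * r * g⁻¹⁻¹)
      calc g⁻¹ * r * g⁻¹⁻¹ * (g⁻¹ * n * g) = g⁻¹ * (r * n) * g := by group
        _ = g⁻¹ * (n * r) * g := by rw [hc]
        _ = g⁻¹ * n * g * (g⁻¹ * r * g⁻¹⁻¹) := by group)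
  have hcardD : Nat.card D = Nat.card Q := by
    rw [card_defectGroup hM hd.block_d hD, ← card_defectGroup hM hd.block_d hd.defect,
      Nat.card_congr (Subgroup.subgroupOfEquivOfLe hd.le_N).toEquiv]
  have hcardR : Nat.card (R'.subgroupOf N) = Nat.card R := by
    rw [Nat.card_congr (Subgroup.subgroupOfEquivOfLe hR'N).toEquiv, hR',
      Subgroup.card_map_of_injective (MulAut.conj g⁻¹).injective]
  have h1 : Nat.card R ≤ Nat.card Q := hcardR ▸ hcardD ▸ Subgroup.card_le_of_le hle
  refine ⟨h1, fun hQR => ?_⟩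
  have hQR' : Q = R := Subgroup.eq_of_le_of_card_ge hQR h1
  subst hQR'
  have hRD : R'.subgroupOf N = D :=
    Subgroup.eq_of_le_of_card_ge hle (by rw [hcardD, hcardR])
  obtain ⟨m, hm⟩ := defectGroup_conjugate hM hd.block_d hd.defect hD
  refine ⟨m, m.2, ?_⟩
  have hQ : ∀ q ∈ Q, g * m * q * (g * m)⁻¹ ∈ Q := by
    intro q hq
    have h2 : m * ⟨q, hd.le_N hq⟩ * m⁻¹ ∈ R'.subgroupOf N := by
      rw [hRD, ← hm]
      exact ⟨⟨q, hd.le_N hq⟩, hq, rfl⟩
    obtain ⟨r, hr, hr'⟩ := Subgroup.mem_subgroupOf.1 h2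
    change g⁻¹ * r * g⁻¹⁻¹ = (m : G) * q * (m : G)⁻¹ at hr'
    rw [show g * m * q * (g * m)⁻¹ = g * ((m : G) * q * (m : G)⁻¹) * g⁻¹ by group, ← hr']
    rw [show g * (g⁻¹ * r * g⁻¹⁻¹) * g⁻¹ = r by group]
    exact hr
  rw [hd.eq_norm]
  exact mem_normalizer_of_forall_mem hQ

/-- The orbit idempotents agree on the centralizer of `Q`. -/
theorem res_covFn (y : H) (hy : (y : G) ∈ Subgroup.centralizer (Q : Set G)) :
    res hM (covFn d (y : G)) = res hM (covFn e y) := by
  classical
  by_cases hyN : (y : G) ∈ N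
  swap
  · rw [covFn_off d hyN, covFn_off e (show y ∉ N.subgroupOf H from hyN)]
  have e1 := covFn_coe d (⟨y, hyN⟩ : N)
  have e2 := covFn_coe e (⟨y, hyN⟩ : N.subgroupOf H)
  rw [show covFn d (y : G) = _ from e1, show covFn e y = _ from e2,
    res_sum hM fun c hc => memRing_blockCoeff hM (isPBlock_covOrb hd.block_d hc) _,
    res_sum hM fun c hc => memRing_blockCoeff hM (isPBlock_covOrb hd.block_e hc) _]
  rw [← Finset.sum_filter_of_ne (p := fun c => ∃ h : H, c = blockConj (h : G) d) (fun c hc hne => ?_)]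
  · symm
    refine Finset.sum_bij (fun c hc => blockConj (((mem_covOrb.1 hc).choose : H) : G) d) ?_ ?_ ?_ ?_
    · intro c hc
      exact Finset.mem_filter.2 ⟨mem_covOrb.2 ⟨_, rfl⟩, ⟨_, rfl⟩⟩
    · intro c hc c' hc' heq
      rw [(mem_covOrb.1 hc).choose_spec, (mem_covOrb.1 hc').choose_spec]
      exact (hd.stab_iff _ _).1 heq
    · intro c hc
      obtain ⟨-, h, rfl⟩ := Finset.mem_filter.1 hc
      have hm : blockConj h e ∈ covOrb e := mem_covOrb.2 ⟨h, rfl⟩
      exact ⟨_, hm, ((hd.stab_iff _ _).2 (mem_covOrb.1 hm).choose_spec).symm⟩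
    · intro c hc
      have h3 := hd.congr_conj (mem_covOrb.1 hc).choose ⟨y, hyN⟩ hy
      rw [← (mem_covOrb.1 hc).choose_spec] at h3
      exact h3.symm
  · obtain ⟨g, rfl⟩ := mem_covOrb.1 hc
    obtain ⟨-, h2⟩ := hd.card_le g hne hd.pgroup hd.le_N hy
    obtain ⟨m, hm, hmH⟩ := h2 le_rfl
    refine ⟨⟨g * m, hmH⟩, ?_⟩
    show blockConj g d = blockConj (g * m) d
    rw [← blockConj_mul, (stabilizesBlock_iff_blockConj m d).1 (stabilizes_of_mem d hm)]

/-- The central characters of inducing and induced characters agree on the orbit idempotents. -/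
theorem res_omega (ψ : IrrCharacter H) (χ : IrrCharacter G)
    (h : ∀ g, MemLocalIdeal M (inducedCentralChar H (ψ : H → ℂ) g - centralChar (χ : G → ℂ) g)) :
    res hM (omega (χ : G → ℂ) (covFn d)) = res hM (omega (ψ : H → ℂ) (covFn e)) := by
  haveI : (Q.subgroupOf H).Normal := by
    refine ⟨fun n hn y => ?_⟩
    rw [Subgroup.mem_subgroupOf] at hn ⊢
    exact (Subgroup.mem_normalizer_iff).1 (hd.eq_norm.le y.2) _ |>.1 hn
  rw [← res_omega_of_induced H hM ψ χ h (covFn_cls d) (covFn_mem hM hd.block_d)]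
  exact res_omega_congr_normal hM (Q.subgroupOf H)
    (hd.pgroup.comap_of_injective _ (Subgroup.subtype_injective _))
    (fun a b => covFn_cls d (a : G) (b : G)) (covFn_cls e) (fun x => covFn_mem hM hd.block_d _)
    (covFn_mem hM hd.block_e)
    (fun x hx => hd.res_covFn x fun q hq => congrArg Subtype.val (hx ⟨q, hd.le_H hq⟩ hq)) ψ

/-- Induction carries covering of `e` to covering of `d` and back. -/
theorem covers_iff {c : Set (IrrCharacter H)} {B : Set (IrrCharacter G)}
    (hind : IsInducedBlock M H c B) :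
    (∃ ψ ∈ c, ∃ ξ ∈ e, classInner (fun l : N.subgroupOf H => (ψ : H → ℂ) l)
      (ξ : N.subgroupOf H → ℂ) ≠ 0) ↔
    (∃ χ ∈ B, ∃ θ ∈ d, classInner (fun n : N => (χ : G → ℂ) n) (θ : N → ℂ) ≠ 0) := by
  obtain ⟨ψ, hψ⟩ := block_nonempty hM hind.1
  obtain ⟨χ, hχ⟩ := block_nonempty hM hind.2.1
  have h := hd.res_omega ψ χ (hind.2.2 ψ hψ χ hχ)
  constructor
  · intro hc
    rw [res_covFn_covers hM hind.1 hd.block_e hc hψ] at h
    exact ⟨χ, hχ, covers_of_res hM h⟩
  · intro hc
    rw [res_covFn_covers hM hind.2.1 hd.block_d hc hχ] at h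
    exact ⟨ψ, hψ, covers_of_res hM h.symm⟩

theorem existsUnique_induced {c : Set (IrrCharacter H)} (hc : IsPBlock M c)
    (hcov : ∃ ψ ∈ c, ∃ ξ ∈ e, classInner (fun l : N.subgroupOf H => (ψ : H → ℂ) l)
      (ξ : N.subgroupOf H → ℂ) ≠ 0) :
    ∃! B : Set (IrrCharacter G), IsInducedBlock M H c B ∧
      (∃ χ ∈ B, ∃ θ ∈ d, classInner (fun n : N => (χ : G → ℂ) n) (θ : N → ℂ) ≠ 0) := by
  obtain ⟨ψ, hψ⟩ := block_nonempty hM hc
  obtain ⟨χ, hχ⟩ := exists_induced_brauer Q H hM hd.pgroup hd.cent_le hd.le_H hd.eq_norm.le ψ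
  have hind := isInducedBlock_of_congr H hM hc (blockOf_isPBlock χ) hψ (mem_blockOf_self hM χ) hχ
  exact ⟨_, ⟨hind, (hd.covers_iff hind).1 hcov⟩, fun B hB => isInducedBlock_unique hM hB.1 hind⟩

/-- A block covering `e`: its defect groups meet `N` in `Q`. -/
theorem defect_inf {c : Set (IrrCharacter H)} (hc : IsPBlock M c)
    (hcov : ∃ ψ ∈ c, ∃ ξ ∈ e, classInner (fun l : N.subgroupOf H => (ψ : H → ℂ) l)
      (ξ : N.subgroupOf H → ℂ) ≠ 0)
    {D : Subgroup H} (hD : IsDefectGroup p M c D) :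
    D.map H.subtype ⊓ N = Q := by
  haveI : (Q.subgroupOf H).Normal := by
    refine ⟨fun n hn y => ?_⟩
    rw [Subgroup.mem_subgroupOf] at hn ⊢
    exact (Subgroup.mem_normalizer_iff).1 (hd.eq_norm.le y.2) _ |>.1 hn
  have hQD : Q ≤ D.map H.subtype := by
    have h := normal_le_defectGroup (P := Q.subgroupOf H) hM hc
      (hd.pgroup.comap_of_injective _ (Subgroup.subtype_injective H)) hD
    intro q hq
    exact ⟨⟨q, hd.le_H hq⟩, h hq, rfl⟩
  obtain ⟨y, hy, hyN, hyu⟩ := exists_covFn_unit hM hc hd.block_e hcov hD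
  have hyQ : (y : G) ∈ Subgroup.centralizer (Q : Set G) := by
    intro q hq
    obtain ⟨r, hr, rfl⟩ := hQD hq
    exact congrArg Subtype.val (hy r hr)
  rw [← hd.res_covFn y hyQ, show covFn d (y : G) = _ from covFn_coe d (⟨y, hyN⟩ : N),
    res_sum hM fun b hb => memRing_blockCoeff hM (isPBlock_covOrb hd.block_d hb) _] at hyu
  obtain ⟨b, hb, hbu⟩ := Finset.exists_ne_zero_of_sum_ne_zero hyu
  obtain ⟨g, rfl⟩ := mem_covOrb.1 hb
  obtain ⟨h1, -⟩ := hd.card_le g hbu (R := D.map H.subtype ⊓ N)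
    (((defectGroup_isPGroup hD).map _).to_le inf_le_left) inf_le_right (by
      intro z hz
      obtain ⟨r, hr, rfl⟩ := (Subgroup.mem_inf.1 hz).1
      exact congrArg Subtype.val (hy r hr))
  exact (Subgroup.eq_of_le_of_card_ge (le_inf hQD hd.le_N) h1).symm

theorem normalizer_le {R : Subgroup G} (hR : R ⊓ N = Q) :
    Subgroup.normalizer (R : Set G) ≤ H := by
  intro x hx
  rw [hd.eq_norm]
  refine mem_normalizer_of_forall_mem fun q hq => ?_
  rw [← hR] at hq ⊢
  exact Subgroup.mem_inf.2 ⟨(Subgroup.mem_normalizer_iff.1 hx q).1 (Subgroup.mem_inf.1 hq).1,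
    hN.conj_mem _ (Subgroup.mem_inf.1 hq).2 x⟩

theorem existsUnique_inducing {B : Set (IrrCharacter G)} (hB : IsPBlock M B)
    (hcov : ∃ χ ∈ B, ∃ θ ∈ d, classInner (fun n : N => (χ : G → ℂ) n) (θ : N → ℂ) ≠ 0) :
    ∃! c : Set (IrrCharacter H), (IsPBlock M c ∧
      ∃ ψ ∈ c, ∃ ξ ∈ e, classInner (fun l : N.subgroupOf H => (ψ : H → ℂ) l)
        (ξ : N.subgroupOf H → ℂ) ≠ 0) ∧ IsInducedBlock M H c B := by
  haveI : Fact p.Prime := ⟨hM.1⟩
  obtain ⟨l, hl, hlu⟩ := hd.exists_unit_d
  obtain ⟨g, hg, hu⟩ := exists_unit_cover hM hB hd.block_d hcov hd.pgroup hd.le_N hl hlu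
  obtain ⟨c, hind⟩ := exists_inducing hM Q H hd.pgroup hd.le_H hd.cent_le hd.eq_norm.le hB hg
    (fun h => hu ((res_eq_zero_iff hM (memRing_blockCoeff hM hB g)).2 h))
  have hc := (hd.covers_iff hind).2 hcov
  refine ⟨c, ⟨⟨hind.1, hc⟩, hind⟩, ?_⟩
  rintro c' ⟨⟨hcb', hc'⟩, hind'⟩
  obtain ⟨e₁, hmax, -⟩ : ∃ e, IsMaximalBrauerPair p M B _ e ∧ _ :=
    exists_maximal_of_induced hM hind (exists_defectGroup hM hind.1).choose_spec
      (hd.normalizer_le (hd.defect_inf hind.1 hc (exists_defectGroup hM hind.1).choose_spec))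
  set D := (exists_defectGroup hM hind.1).choose with hDdef
  have hD : IsDefectGroup p M c D := (exists_defectGroup hM hind.1).choose_spec
  have hDN := hd.defect_inf hind.1 hc hD
  obtain ⟨D', hD'⟩ := exists_defectGroup hM hcb'
  have hDN' := hd.defect_inf hcb' hc' hD'
  obtain ⟨e₂, hmax', -⟩ := exists_maximal_of_induced hM hind' hD' (hd.normalizer_le hDN')
  obtain ⟨x, hx⟩ := defectGroup_conjugate hM hB (maximal_isDefectGroup hM hmax')
    (maximal_isDefectGroup hM hmax)
  have hxH : x ∈ H := by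
    rw [hd.eq_norm]
    refine mem_normalizer_of_forall_mem fun q hq => ?_
    rw [← hDN'] at hq
    rw [← hDN]
    exact Subgroup.mem_inf.2 ⟨hx ▸ ⟨q, (Subgroup.mem_inf.1 hq).1, rfl⟩,
      hN.conj_mem _ (Subgroup.mem_inf.1 hq).2 x⟩
  have hD'' : IsDefectGroup p M c' (D'.map (MulAut.conj (⟨x, hxH⟩ : H)).toMonoidHom) :=
    isDefectGroup_conj hD' _
  have heq : D'.map (MulAut.conj (⟨x, hxH⟩ : H)).toMonoidHom = D := by
    apply Subgroup.map_injective (Subgroup.subtype_injective H)
    rw [map_conj_subtype]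
    exact hx
  rw [heq] at hD''
  exact (eq_of_induced hM hind hind' hD hD'' (hd.normalizer_le hDN)).symm

end HKData

end HarrisKnorr

end CfsgLib.Blocks
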