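import Cfsg.Agent.Lib.Blocks.CyclicIso
import Cfsg.Agent.Lib.Blocks.HarrisKnorr

/-!
# Cyclic defect groups: data of a block and of its correspondent in a subgroup
-/

namespace CfsgLib.Blocks

open Cfsg CfsgLib.CharTheory
open scoped ComplexConjugate

set_option linter.unusedVariables false
set_option linter.unusedSimpArgs false
set_option linter.style.haveILetI false
set_option linter.unusedSectionVars false

universe u

variable {p : ℕ} {M : Ideal AlgInt} {G : Type u} [Group G] [Fintype G]

/-- The stabilizer in `H` of a pair of `H` is the one in `G` cut down to `H`. -/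
theorem mem_pairStab_up_iff {H : Subgroup G} [Fintype H] {D : Subgroup H}
    (ha : Subgroup.centralizer ((D.map H.subtype : Subgroup G) : Set G) ≤ H)
    (e' : Set (IrrCharacter (Subgroup.centralizer (D : Set H)))) (y : H) :
    y ∈ pairStab D e' ↔ (y : G) ∈ pairStab (D.map H.subtype) (irrPull (upE D ha) '' e') := by
  refine ⟨fun hy => pairStab_upIdx (a := (⟨D, e'⟩ : BrauerPairIdx H)) (ha := ha) rfl hy,
    fun hy => ?_⟩
  obtain ⟨hN, hCN, hst⟩ := (mem_pairStab _).1 hy
  have hND : y ∈ Subgroup.normalizer (D : Set H) := by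
    refine Subgroup.mem_normalizer_iff.2 fun d => ?_
    have h1 := Subgroup.mem_normalizer_iff.1 hN (d : G)
    have e1 : ∀ z : H, (z : G) ∈ D.map H.subtype ↔ z ∈ D := fun z =>
      ⟨fun ⟨w, hw, e⟩ => by rwa [← Subtype.ext (show (w : G) = (z : G) from e)], fun hz => ⟨z, hz, rfl⟩⟩
    show d ∈ D ↔ y * d * y⁻¹ ∈ D
    rw [← e1, ← e1, h1]
    push_cast
    rfl
  refine (mem_pairStab y).2 ⟨hND, normalizer_le_normalizer_cent D hND, fun χ hχ => ?_⟩
  obtain ⟨ψ, hψ, hc⟩ := hst (irrPull (upE D ha) χ) ⟨χ, hχ, rfl⟩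
  obtain ⟨χ', hχ', rfl⟩ := hψ
  refine ⟨χ', hχ', fun k k' hk => ?_⟩
  have h1 := hc ((upE D ha).symm k) ((upE D ha).symm k')
    (show ((k' : H) : G) = (y : G) * ((k : H) : G) * (y : G)⁻¹ by rw [hk]; push_cast; rfl)
  exact h1

/-- The data of a block with cyclic defect group and of a correspondent in `H ≥ N(P)`. -/
theorem cyc_correspondent (hM : IsPModular p M) {H : Subgroup G} [Fintype H]
    {c : Set (IrrCharacter H)} {B : Set (IrrCharacter G)} (hind : IsInducedBlock M H c B)
    {D : Subgroup H} (hD : IsDefectGroup p M c D)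
    (hcyc : IsCyclic (D.map H.subtype : Subgroup G))
    (hND : Subgroup.normalizer ((D.map H.subtype : Subgroup G) : Set G) ≤ H) {a : ℕ}
    (hcard : Nat.card (D.map H.subtype : Subgroup G) = p ^ a) (ha1 : 1 ≤ a) :
    ∃ (e : Set (IrrCharacter (Subgroup.centralizer ((D.map H.subtype : Subgroup G) : Set G))))
      (e' : Set (IrrCharacter (Subgroup.centralizer (D : Set H)))),
      CycData p M B (D.map H.subtype) e a ∧ CycData p M c D e' a ∧
        cycIndex D e' = cycIndex (D.map H.subtype) e := by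
  obtain ⟨e', hmax⟩ := exists_maximal_at hM hind.1 hD
  have ha : Subgroup.centralizer ((D.map H.subtype : Subgroup G) : Set G) ≤ H :=
    (Subgroup.centralizer_le_normalizer _).trans hND
  have hDp : IsPGroup p (D.map H.subtype : Subgroup G) := hmax.1.1.1.map _
  have h : upIdx (⟨D, e'⟩ : BrauerPairIdx H) ha =
      ⟨D.map H.subtype, irrPull (upE D ha) '' e'⟩ := rfl
  have hmaxG := (maximal_up_iff hM hND h (pair_of_induced hM hDp h hmax.1 hind) hmax.1).2 hmax
  have eD : D ≃* (D.map H.subtype : Subgroup G) :=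
    Subgroup.equivMapOfInjective D H.subtype Subtype.coe_injective
  haveI := hcyc
  refine ⟨irrPull (upE D ha) '' e', e', ⟨hM, hmaxG, hcyc, hcard, ha1⟩,
    ⟨hM, hmax, isCyclic_of_surjective eD.symm eD.symm.surjective,
      by rw [Nat.card_congr eD.toEquiv, hcard], ha1⟩, ?_⟩
  have hTH : pairStab (D.map H.subtype) (irrPull (upE D ha) '' e') ≤ H :=
    fun t ht => hND ((mem_pairStab t).1 ht).1
  have hT : pairStab D e' =
      (pairStab (D.map H.subtype) (irrPull (upE D ha) '' e')).subgroupOf H :=
    Subgroup.ext fun y => (mem_pairStab_up_iff ha e' y).trans Subgroup.mem_subgroupOf.symm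
  have hC : Subgroup.centralizer (D : Set H) =
      (Subgroup.centralizer ((D.map H.subtype : Subgroup G) : Set G)).subgroupOf H :=
    Subgroup.ext fun y => (mem_cent_map_iff D y).symm.trans Subgroup.mem_subgroupOf.symm
  exact (congrArg₂ Subgroup.relIndex hC hT).trans (Subgroup.relIndex_subgroupOf hTH)

end CfsgLib.Blocks
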