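import Cfsg.Agent.Lib.Blocks.CyclicValue

/-!
# Divisibility of the values of combinations vanishing at singular elements
-/

namespace CfsgLib.Blocks

open Cfsg CfsgLib.CharTheory
open scoped ComplexConjugate

set_option linter.unusedVariables false
set_option linter.unusedSimpArgs false
set_option linter.style.haveILetI false
set_option linter.unusedSectionVars false

universe u v w

variable {p : ℕ} {M : Ideal AlgInt} {G : Type u} [Group G] [Fintype G]

/-- A combination of characters vanishing at singular elements is divisible, at a regular `x`,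
by the order of the centralizer of `x`. -/
theorem local_of_vanish (hM : IsPModular p M) {ι : Type w} (S : Finset ι)
    (J : ι → IrrCharacter G) (cf : ι → ℂ) (hcf : ∀ i ∈ S, MemLocalRing M (cf i))
    (hvan : ∀ y : G, p ∣ orderOf y → ∑ i ∈ S, cf i * (J i : G → ℂ) y = 0)
    {x : G} (hx : ¬ p ∣ orderOf x) :
    MemLocalRing M ((∑ i ∈ S, cf i * (J i : G → ℂ) x) /
      (Nat.card (Subgroup.centralizer ({x} : Set G)) : ℂ)) := by
  classical
  haveI : Fact p.Prime := ⟨hM.1⟩
  haveI := res_charP hM
  set C := Subgroup.centralizer ({x} : Set G) with hC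
  obtain ⟨R⟩ := (inferInstance : Nonempty (Sylow p C))
  set P : Subgroup G := (R : Subgroup C).map C.subtype with hP
  haveI : Fintype P := Fintype.ofFinite _
  have hPp : IsPGroup p P := R.2.map _
  have hxP : x ∈ Subgroup.centralizer (P : Set G) := by
    intro u hu
    obtain ⟨u', -, rfl⟩ := hu
    exact Subgroup.mem_centralizer_singleton_iff.1 u'.2
  have h1 : ∑ u : P, ∑ i ∈ S, cf i * (J i : G → ℂ) (x * u) = ∑ i ∈ S, cf i * (J i : G → ℂ) x := by
    rw [Finset.sum_eq_single (1 : P) (fun u _ hu => ?_) (by simp), Subgroup.coe_one, mul_one]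
    refine hvan _ ?_
    obtain ⟨k, hk⟩ := IsPGroup.iff_orderOf.1 hPp u
    exact orderOf_mul_pPart (hxP u u.2).symm hx (by rw [Subgroup.orderOf_coe, hk]) hM.1
      (fun h => hu (Subtype.ext h))
  have hcard : Nat.card P = p ^ (Nat.card C).factorization p := by
    rw [hP, Subgroup.card_map_of_injective Subtype.coe_injective]
    exact R.card_eq_multiplicity
  set m := Nat.card C / p ^ (Nat.card C).factorization p with hm
  have hCm : Nat.card C = Nat.card P * m := by
    rw [hcard, hm]; exact (Nat.ordProj_mul_ordCompl_eq_self _ p).symm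
  have hmd : ¬ p ∣ m := Nat.not_dvd_ordCompl hM.1 Nat.card_pos.ne'
  have hminv : MemLocalRing M ((m : ℂ))⁻¹ := memRing_inv hM (memRing_natCast hM m) fun hI =>
    hmd ((CharP.cast_eq_zero_iff (AlgInt ⧸ M) p m).1 (by
      rw [← res_natCast hM]; exact (res_eq_zero_iff hM (memRing_natCast hM m)).2 hI))
  have e : (∑ i ∈ S, cf i * (J i : G → ℂ) x) / (Nat.card C : ℂ) =
      (m : ℂ)⁻¹ * ∑ i ∈ S, cf i * ((Fintype.card P : ℂ)⁻¹ * ∑ u : P, (J i : G → ℂ) (x * u)) := by
    rw [← h1, Finset.sum_comm, Finset.sum_div, Finset.mul_sum]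
    refine Finset.sum_congr rfl fun i _ => ?_
    rw [← Finset.mul_sum, hCm, Nat.cast_mul, Nat.card_eq_fintype_card, div_eq_mul_inv, mul_inv]
    ring
  rw [e]
  refine (loc hM).mul_mem hminv (memRing_sum hM fun i hi => (loc hM).mul_mem (hcf i hi) ?_)
  exact memRing_of_isIntegral hM (isIntegral_average (isCharacter_of_irr (J i).2) P hxP)

/-- For a block with one Brauer character `φ`, `p ^ d(b) φ x` is divisible by `|C(x)|`. -/
theorem single_block_div (hM : IsPModular p M) {b : Set (IrrCharacter G)} (hb : IsPBlock M b)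
    {φ : G → ℂ} {d : IrrCharacter G → ℕ} (hf : 0 < bdeg b)
    (hval : ∀ χ ∈ b, ∀ x : G, ¬ p ∣ orderOf x → (χ : G → ℂ) x = (d χ : ℂ) * φ x)
    (hdeg : ∀ χ ∈ b, charDegree (χ : G → ℂ) = d χ * bdeg b)
    (hsq : ∑ χ ∈ bset b, d χ ^ 2 = p ^ blockDefect p b) {x : G} (hx : ¬ p ∣ orderOf x) :
    MemLocalRing M (φ x * (p : ℂ) ^ blockDefect p b /
      (Nat.card (Subgroup.centralizer ({x} : Set G)) : ℂ)) := by
  classical
  have h1 := local_of_vanish hM (bset b) id (fun χ => (d χ : ℂ))
    (fun χ _ => memRing_natCast hM _) (fun y hy => ?_) hx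
  · simp only [id] at h1
    convert h1 using 2
    have h2 := congrArg (fun k : ℕ => (k : ℂ)) hsq
    push_cast at h2
    rw [← h2, Finset.mul_sum]
    exact Finset.sum_congr rfl fun χ hχ => by rw [hval χ (mem_bset.1 hχ) x hx]; ring
  · simp only [id]
    have h2 := weak_orth hM hb (x := (1 : G)) (y := y)
      (by rw [orderOf_one]; exact hM.1.not_dvd_one) hy
    refine mul_left_cancel₀ (Nat.cast_ne_zero.2 hf.ne' : (bdeg b : ℂ) ≠ 0) ?_
    rw [mul_zero, ← h2, Finset.mul_sum]
    refine Finset.sum_congr rfl fun χ hχ => ?_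
    rw [← irr_charDegree_cast χ, hdeg χ (mem_bset.1 hχ), Nat.cast_mul]
    ring

/-- Centralizers correspond under isomorphisms. -/
theorem card_cent_equiv {K : Type u} {L : Type v} [Group K] [Group L] (e : K ≃* L) (x : K) :
    Nat.card (Subgroup.centralizer ({x} : Set K)) =
      Nat.card (Subgroup.centralizer ({e x} : Set L)) := by
  refine Nat.card_congr (e.toEquiv.subtypeEquiv fun y => ?_)
  simp only [SetLike.mem_coe, Subgroup.mem_centralizer_singleton_iff]
  show y * x = x * y ↔ e y * e x = e x * e y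
  rw [← map_mul, ← map_mul, e.injective.eq_iff]

/-- The centralizer of `z * s` is the centralizer of `s` in the centralizer of `z`. -/
theorem card_cent_section {z s : G} {H : Subgroup G} (hH : IsCentr z H) (hs : s ∈ H)
    (hz : z ∈ Subgroup.zpowers (z * s)) (hs' : s ∈ Subgroup.zpowers (z * s)) :
    Nat.card (Subgroup.centralizer ({(⟨s, hs⟩ : H)} : Set H)) =
      Nat.card (Subgroup.centralizer ({z * s} : Set G)) := by
  have key : ∀ (y g : G), g ∈ Subgroup.zpowers (z * s) → y * (z * s) = z * s * y → y * g = g * y := by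
    rintro y g ⟨i, rfl⟩ h
    exact ((show Commute y (z * s) from h).zpow_right i).eq
  refine Nat.card_congr
    { toFun := fun y => ⟨((y : H) : G), ?_⟩
      invFun := fun y => ⟨⟨(y : G), (hH _).2 ?_⟩, ?_⟩
      left_inv := fun y => rfl
      right_inv := fun y => rfl }
  · have h1 : Commute ((y : H) : G) z := (hH _).1 (y : H).2
    have h2 : Commute ((y : H) : G) s :=
      congrArg Subtype.val (Subgroup.mem_centralizer_singleton_iff.1 y.2)
    exact Subgroup.mem_centralizer_singleton_iff.2 (h1.mul_right h2).eq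
  · exact key _ _ hz (Subgroup.mem_centralizer_singleton_iff.1 y.2)
  · exact Subgroup.mem_centralizer_singleton_iff.2
      (Subtype.ext (key _ _ hs' (Subgroup.mem_centralizer_singleton_iff.1 y.2)))

end CfsgLib.Blocks
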