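import Cfsg.Agent.Lib.Blocks.AbData
import Cfsg.Prelude.Def_BlockLocal

/-!
# Matching values on subsections give a perfect isometry
-/

namespace CfsgLib.Blocks

open Cfsg CfsgLib.CharTheory
open scoped ComplexConjugate

set_option linter.unusedVariables false
set_option linter.unusedSimpArgs false
set_option linter.style.haveILetI false
set_option linter.unusedSectionVars false

universe u v w

variable {p : ℕ} {M : Ideal AlgInt} {G : Type u} [Group G] [Fintype G]

/-- Two blocks with abelian defect groups whose values on subsections match up to signs. -/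
structure DsecMatch {G : Type u} [Group G] [Fintype G] {G' : Type v} [Group G'] [Fintype G']
    {ι : Type w} [Fintype ι] (p : ℕ) (M : Ideal AlgInt) (B : Set (IrrCharacter G)) (P : Subgroup G)
    (c : Set (IrrCharacter (Subgroup.centralizer (P : Set G)))) (B' : Set (IrrCharacter G'))
    (P' : Subgroup G') (c' : Set (IrrCharacter (Subgroup.centralizer (P' : Set G'))))
    (J : ι → IrrCharacter G) (J' : ι → IrrCharacter G') (ε : ι → ℤ) (φ : P' ≃* P)
    (t : P' → ℤ) : Prop where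
  inj : Function.Injective J
  mem : ∀ i, J i ∈ B
  surj : ∀ χ ∈ B, ∃ i, J i = χ
  inj' : Function.Injective J'
  mem' : ∀ i, J' i ∈ B'
  surj' : ∀ χ ∈ B', ∃ i, J' i = χ
  sign : ∀ i, ε i = 1 ∨ ε i = -1
  tsign : ∀ v, t v = 1 ∨ t v = -1
  eq : ∀ v : P', v ≠ 1 → ∀ i, (ε i : ℂ) * dsec p M P c (φ v : G) (J i : G → ℂ) =
    (t v : ℂ) * dsec p M P' c' (v : G') (J' i : G' → ℂ)

namespace DsecMatch

variable {G' : Type v} [Group G'] [Fintype G'] {ι : Type w} [Fintype ι]
  {B : Set (IrrCharacter G)} {P : Subgroup G}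
  {c : Set (IrrCharacter (Subgroup.centralizer (P : Set G)))} {B' : Set (IrrCharacter G')}
  {P' : Subgroup G'} {c' : Set (IrrCharacter (Subgroup.centralizer (P' : Set G')))}
  {J : ι → IrrCharacter G} {J' : ι → IrrCharacter G'} {ε : ι → ℤ} {φ : P' ≃* P} {t : P' → ℤ}
  {a : ℕ} (d : DsecMatch p M B P c B' P' c' J J' ε φ t)

include d

theorem symm : DsecMatch p M B' P' c' B P c J' J ε φ.symm (fun w => t (φ.symm w)) where
  inj := d.inj'
  mem := d.mem'
  surj := d.surj'
  inj' := d.inj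
  mem' := d.mem
  surj' := d.surj
  sign := d.sign
  tsign := fun w => d.tsign _
  eq := fun w hw i => by
    have h1 := d.eq (φ.symm w) (fun e => hw (by rw [← φ.apply_symm_apply w, e, map_one])) i
    rw [φ.apply_symm_apply] at h1
    have e1 : (ε i : ℂ) * ε i = 1 := by rcases d.sign i with e | e <;> rw [e] <;> norm_num
    have e2 : (t (φ.symm w) : ℂ) * t (φ.symm w) = 1 := by
      rcases d.tsign (φ.symm w) with e | e <;> rw [e] <;> norm_num
    linear_combination -((ε i : ℂ) * (t (φ.symm w) : ℂ)) * h1 +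
      ((t (φ.symm w) : ℂ) * dsec p M P c (w : G) (J i : G → ℂ)) * e1 -
      ((ε i : ℂ) * dsec p M P' c' (φ.symm w : G') (J' i : G' → ℂ)) * e2

theorem sum_eq (F : IrrCharacter G → ℂ) : ∑ i, F (J i) = ∑ χ ∈ bset B, F χ :=
  Finset.sum_bij (fun i _ => J i) (fun i _ => mem_bset.2 (d.mem i)) (fun i _ j _ e => d.inj e)
    (fun χ hχ => by
      obtain ⟨i, hi⟩ := d.surj χ (mem_bset.1 hχ)
      exact ⟨i, Finset.mem_univ _, hi⟩)
    fun i _ => rfl

variable (h : AbData p M B P c a) (h' : AbData p M B' P' c' a)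

include h h'

theorem mixed {x : G} {y : G'} (hx : ¬ p ∣ orderOf x) (hy : p ∣ orderOf y) :
    ∑ i, (ε i : ℂ) * (J i : G → ℂ) x * (J' i : G' → ℂ) y = 0 := by
  obtain ⟨w, -, hw⟩ := h'.singular_expansion_int hy
  rw [Finset.sum_congr rfl fun i _ => by rw [hw _ (d.mem' i), Finset.mul_sum], Finset.sum_comm]
  refine Finset.sum_eq_zero fun v hv => ?_
  rw [Set.Finite.mem_toFinset] at hv
  have hv1 : (⟨v, hv.1⟩ : P') ≠ 1 := fun e => hv.2 (congrArg Subtype.val e)
  have hu1 : (φ ⟨v, hv.1⟩ : G) ≠ 1 := fun e =>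
    hv1 (φ.injective ((Subtype.ext e : φ ⟨v, hv.1⟩ = 1).trans (map_one φ).symm))
  set T : ℂ := (t ⟨v, hv.1⟩ : ℂ) with hT
  have e2 : T * T = 1 := by rw [hT]; rcases d.tsign ⟨v, hv.1⟩ with e | e <;> rw [e] <;> norm_num
  have e : ∀ i, (ε i : ℂ) * (J i : G → ℂ) x *
      (w v * dsec p M P' c' v (J' i : G' → ℂ)) =
      (w v * T) * (dsec p M P c (φ ⟨v, hv.1⟩ : G) (J i : G → ℂ) * (J i : G → ℂ) x) := fun i => by
    have h1 := d.eq _ hv1 i
    change _ = T * dsec p M P' c' v (J' i : G' → ℂ) at h1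
    have e1 : (ε i : ℂ) * ε i = 1 := by rcases d.sign i with e | e <;> rw [e] <;> norm_num
    linear_combination -(w v * T * (ε i : ℂ) * (J i : G → ℂ) x) * h1 +
      (w v * T * dsec p M P c (φ ⟨v, hv.1⟩ : G) (J i : G → ℂ) * (J i : G → ℂ) x) * e1 -
      ((ε i : ℂ) * (J i : G → ℂ) x * w v * dsec p M P' c' v (J' i : G' → ℂ)) * e2
  rw [Finset.sum_congr rfl fun i _ => e i, ← Finset.mul_sum,
    d.sum_eq fun χ => dsec p M P c (φ ⟨v, hv.1⟩ : G) (χ : G → ℂ) * (χ : G → ℂ) x,
    h.dsec_regular (φ ⟨v, hv.1⟩).2 hu1 hx, mul_zero]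

theorem half (x : G) (y : G') (hs : p ∣ orderOf x ↔ p ∣ orderOf y) :
    MemLocalRing M ((∑ i, (ε i : ℂ) * (J i : G → ℂ) x * (J' i : G' → ℂ) y) /
      (Nat.card (Subgroup.centralizer ({x} : Set G)) : ℂ)) := by
  classical
  have hM := h.mod
  by_cases hx : p ∣ orderOf x
  · obtain ⟨w, -, hwdiv, hw⟩ := h.singular_expansion_div hx
    obtain ⟨w', hwi', hw'⟩ := h'.singular_expansion_int (hs.1 hx)
    set V := (Set.toFinite {v : G | v ∈ P ∧ v ≠ 1}).toFinset with hV
    set V' := (Set.toFinite {v : G' | v ∈ P' ∧ v ≠ 1}).toFinset with hV'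
    have key : ∀ v ∈ V, ∀ v' ∈ V', ∃ n : ℤ,
        ∑ i, (ε i : ℂ) * dsec p M P c v (J i : G → ℂ) * dsec p M P' c' v' (J' i : G' → ℂ) =
          (n : ℂ) * (p : ℂ) ^ a := by
      intro v hv v' hv'
      rw [hV, Set.Finite.mem_toFinset] at hv
      rw [hV', Set.Finite.mem_toFinset] at hv'
      have hv1 : (⟨v', hv'.1⟩ : P') ≠ 1 := fun e => hv'.2 (congrArg Subtype.val e)
      set u : G := (φ ⟨v', hv'.1⟩ : G) with hu
      have huP : u ∈ P := (φ ⟨v', hv'.1⟩).2
      have hu1 : u ≠ 1 := fun e =>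
        hv1 (φ.injective ((Subtype.ext e : φ ⟨v', hv'.1⟩ = 1).trans (map_one φ).symm))
      set T : ℤ := t ⟨v', hv'.1⟩ with hT
      have e2 : (T : ℂ) * T = 1 := by
        rw [hT]; rcases d.tsign ⟨v', hv'.1⟩ with e | e <;> rw [e] <;> norm_num
      have e : ∀ i, (ε i : ℂ) * dsec p M P c v (J i : G → ℂ) *
          dsec p M P' c' v' (J' i : G' → ℂ) =
          (T : ℂ) * (dsec p M P c v (J i : G → ℂ) * conj (dsec p M P c u⁻¹ (J i : G → ℂ))) := by
        intro i
        rw [h.dsec_conj_inv (P.inv_mem huP) (inv_ne_one.2 hu1), inv_inv]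
        have h1 := d.eq _ hv1 i
        change _ = (T : ℂ) * dsec p M P' c' v' (J' i : G' → ℂ) at h1
        change (ε i : ℂ) * dsec p M P c u (J i : G → ℂ) = _ at h1
        have e1 : (ε i : ℂ) * ε i = 1 := by rcases d.sign i with e | e <;> rw [e] <;> norm_num
        linear_combination -((T : ℂ) * (ε i : ℂ) * dsec p M P c v (J i : G → ℂ)) * h1 +
          ((T : ℂ) * dsec p M P c v (J i : G → ℂ) * dsec p M P c u (J i : G → ℂ)) * e1 -
          ((ε i : ℂ) * dsec p M P c v (J i : G → ℂ) * dsec p M P' c' v' (J' i : G' → ℂ)) * e2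
      refine ⟨T * if ∃ s ∈ pairStab P c, s * v * s⁻¹ = u⁻¹ then 1 else 0, ?_⟩
      rw [Finset.sum_congr rfl fun i _ => e i, ← Finset.mul_sum,
        d.sum_eq fun χ => dsec p M P c v (χ : G → ℂ) * conj (dsec p M P c u⁻¹ (χ : G → ℂ)),
        h.dsec_orth hv.1 hv.2 (P.inv_mem huP) (inv_ne_one.2 hu1)]
      split_ifs <;> push_cast <;> ring
    choose n hn using key
    have e : (∑ i, (ε i : ℂ) * (J i : G → ℂ) x * (J' i : G' → ℂ) y) =
        ∑ v ∈ V.attach, ∑ v' ∈ V'.attach,
          (w v.1 * (p : ℂ) ^ a) * (w' v'.1 * (n v.1 v.2 v'.1 v'.2 : ℂ)) := by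
      have e1 : ∀ i, (ε i : ℂ) * (J i : G → ℂ) x * (J' i : G' → ℂ) y = ∑ v ∈ V, ∑ v' ∈ V',
          w v * w' v' * ((ε i : ℂ) * dsec p M P c v (J i : G → ℂ) *
            dsec p M P' c' v' (J' i : G' → ℂ)) := fun i => by
        rw [hw _ (d.mem i), hw' _ (d.mem' i), mul_assoc, Finset.sum_mul_sum,
          Finset.mul_sum]
        refine Finset.sum_congr rfl fun v _ => ?_
        rw [Finset.mul_sum]
        exact Finset.sum_congr rfl fun v' _ => by ring
      rw [Finset.sum_congr rfl fun i _ => e1 i, Finset.sum_comm, ← Finset.sum_attach V]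
      refine Finset.sum_congr rfl fun v _ => ?_
      rw [Finset.sum_comm, ← Finset.sum_attach V']
      refine Finset.sum_congr rfl fun v' _ => ?_
      rw [← Finset.mul_sum, hn v.1 v.2 v'.1 v'.2]
      ring
    rw [e]
    simp only [Finset.sum_div]
    refine memRing_sum hM fun v _ => memRing_sum hM fun v' _ => ?_
    rw [show w v.1 * (p : ℂ) ^ a * (w' v'.1 * (n v.1 v.2 v'.1 v'.2 : ℂ)) /
        (Nat.card (Subgroup.centralizer ({x} : Set G)) : ℂ) =
      (w v.1 * (p : ℂ) ^ a / (Nat.card (Subgroup.centralizer ({x} : Set G)) : ℂ)) *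
        (w' v'.1 * (n v.1 v.2 v'.1 v'.2 : ℂ)) by ring]
    exact (loc hM).mul_mem (hwdiv _)
      ((loc hM).mul_mem (memRing_of_isIntegral hM (hwi' _)) (memRing_intCast hM _))
  · have h1 := local_of_vanish hM Finset.univ J (fun i => (ε i : ℂ) * (J' i : G' → ℂ) y)
      (fun i _ => (loc hM).mul_mem (memRing_intCast hM _)
        (memRing_of_isIntegral hM (isIntegral_of_char (isCharacter_of_irr (J' i).2) y)))
      (fun z hz => by
        rw [← d.symm.mixed h' h (fun hy => hx (hs.2 hy)) hz]) hx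
    convert h1 using 2
    exact Finset.sum_congr rfl fun i _ => by ring

theorem perfect : IsPerfectFun p M (fun (x : G) (y : G') =>
    ∑ i, (ε i : ℂ) * (J i : G → ℂ) x * (J' i : G' → ℂ) y) := by
  intro x y
  have hswap : ∑ i, (ε i : ℂ) * (J i : G → ℂ) x * (J' i : G' → ℂ) y =
      ∑ i, (ε i : ℂ) * (J' i : G' → ℂ) y * (J i : G → ℂ) x :=
    Finset.sum_congr rfl fun i _ => by ring
  simp only [IsPRegular]
  by_cases hs : p ∣ orderOf x ↔ p ∣ orderOf y
  · refine ⟨d.half h h' x y hs, ?_, Or.inl (not_congr hs)⟩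
    rw [hswap]
    exact d.symm.half h' h y x hs.symm
  · have h0 : ∑ i, (ε i : ℂ) * (J i : G → ℂ) x * (J' i : G' → ℂ) y = 0 := by
      rcases Classical.em (p ∣ orderOf x) with hx | hx
      · rw [hswap]
        exact d.symm.mixed h' h (fun hy => hs (iff_of_true hx hy)) hx
      · refine d.mixed h h' hx ?_
        by_contra hy
        exact hs (iff_of_false hx hy)
    simp only [h0, zero_div]
    exact ⟨zero_mem (loc h.mod), zero_mem (loc h.mod), Or.inr trivial⟩

/-- The isometry given by a match. -/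
theorem isometry [Nonempty ι] : ∃ (I : IrrCharacter G' → IrrCharacter G) (e : IrrCharacter G' → ℤ),
    IsPerfectIsometry p M B' B I e := by
  classical
  set k : IrrCharacter G' → ι := Function.invFun J' with hk
  have hk1 : ∀ i, k (J' i) = i := Function.leftInverse_invFun d.inj'
  refine ⟨fun η => J (k η), fun η => ε (k η), ⟨fun η _ => d.mem _, ?_, ?_⟩,
    fun η _ => d.sign _, ?_⟩
  · intro η hη η' hη' e1
    obtain ⟨i, rfl⟩ := d.surj' η hη
    obtain ⟨i', rfl⟩ := d.surj' η' hη'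
    simp only [hk1] at e1
    rw [d.inj e1]
  · intro χ hχ
    obtain ⟨i, rfl⟩ := d.surj χ hχ
    exact ⟨J' i, d.mem' i, by simp only [hk1]⟩
  · intro x y
    have hker : signedBijectionKernel B' (fun η => J (k η)) (fun η => ε (k η)) x y =
        ∑ i, (ε i : ℂ) * (J i : G → ℂ) x * (J' i : G' → ℂ) y := by
      rw [signedBijectionKernel, finsum_mem_bset, ← d.symm.sum_eq fun η =>
        (ε (k η) : ℂ) * (J (k η) : G → ℂ) x * (η : G' → ℂ) y]
      exact Finset.sum_congr rfl fun i _ => by rw [hk1]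
    rw [hker]
    exact d.perfect h h' x y

end DsecMatch

end CfsgLib.Blocks
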