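import Cfsg.Agent.Lib.Blocks.CyclicMain
import Cfsg.Agent.Lib.Blocks.CyclicPerfect
import Mathlib.GroupTheory.SpecificGroups.Cyclic
import Mathlib.RingTheory.ZMod.UnitsCyclic

/-!
# Blocks with cyclic defect groups of one order and inertial index are perfectly isometric
-/

namespace CfsgLib.Blocks

open Cfsg CfsgLib.CharTheory
open scoped ComplexConjugate

set_option linter.unusedVariables false
set_option linter.unusedSimpArgs false
set_option linter.style.haveILetI false
set_option linter.unusedSectionVars false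

universe u v

variable {p : ℕ} {M : Ideal AlgInt} {G : Type u} [Group G] [Fintype G]
  {B : Set (IrrCharacter G)} {P : Subgroup G}
  {c : Set (IrrCharacter (Subgroup.centralizer (P : Set G)))} {a : ℕ}

namespace CycData

section Relation

variable (h : CycData p M B P c a)

include h

/-- The orbits are those of the automorphisms with `σ ^ e = 1`. -/
theorem rel_iff_pow (θ' θ : ↥P →* ℂˣ) :
    CharRel P c θ' θ ↔ ∃ σ : MulAut P, σ ^ cycIndex P c = 1 ∧ θ' = θ.comp σ.toMonoidHom := by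
  classical
  haveI := h.cyc
  haveI : Fintype (MulAut P) := Fintype.ofFinite _
  set e := cycIndex P c with he
  set hN : pairStab P c ≤ Subgroup.normalizer (P : Set G) := fun t ht => ((mem_pairStab t).1 ht).1
    with hhN
  set ψ : pairStab P c →* MulAut P :=
    (Subgroup.normalizerMonoidHom P).comp (Subgroup.inclusion hN) with hψ
  have hψv : ∀ (t : pairStab P c) (v : P), ((ψ t v : P) : G) = (t : G) * v * (t : G)⁻¹ :=
    fun t v => rfl
  have hker : ψ.ker = (Subgroup.centralizer (P : Set G)).subgroupOf (pairStab P c) := by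
    ext t
    rw [MonoidHom.mem_ker, show ψ t = Subgroup.normalizerMonoidHom P ⟨t, hN t.2⟩ from rfl,
      ← MonoidHom.mem_ker, Subgroup.normalizerMonoidHom_ker, Subgroup.mem_subgroupOf,
      Subgroup.mem_subgroupOf]
  have hcard : Nat.card ψ.range = e := by
    rw [← Subgroup.index_ker, hker]; rfl
  have hrange : ∀ σ : MulAut P, σ ^ e = 1 ↔ σ ∈ ψ.range := by
    have hsub : (Set.toFinite (ψ.range : Set (MulAut P))).toFinset ⊆
        Finset.univ.filter fun σ : MulAut P => σ ^ e = 1 := fun σ hσ => by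
      rw [Set.Finite.mem_toFinset] at hσ
      refine Finset.mem_filter.2 ⟨Finset.mem_univ _, ?_⟩
      have h1 : (⟨σ, hσ⟩ : ψ.range) ^ Nat.card ψ.range = 1 := pow_card_eq_one'
      rw [hcard] at h1
      exact congrArg Subtype.val h1
    have hle : (Finset.univ.filter fun σ : MulAut P => σ ^ e = 1).card ≤ e := by
      rcases eq_or_ne p 2 with rfl | hp2
      · have h1 : e = 1 := Nat.dvd_one.1 h.index_dvd
        rw [h1]
        refine Finset.card_le_one.2 fun x hx y hy => ?_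
        rw [Finset.mem_filter, pow_one] at hx hy
        rw [hx.2, hy.2]
      · haveI : IsCyclic (MulAut P) := by
          haveI : IsCyclic (ZMod (Nat.card P))ˣ := by
            rw [h.card]; exact ZMod.isCyclic_units_of_prime_pow p h.prime hp2 a
          exact isCyclic_of_injective (IsCyclic.mulAutMulEquiv P).toMonoidHom
            (IsCyclic.mulAutMulEquiv P).injective
        exact IsCyclic.card_pow_eq_one_le h.index_pos
    have heq := Finset.eq_of_subset_of_card_le hsub (hle.trans (le_of_eq (by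
      rw [← hcard, ← Set.ncard_eq_toFinset_card, ← Nat.card_coe_set_eq]; rfl)))
    intro σ
    rw [← SetLike.mem_coe, ← Set.Finite.mem_toFinset (Set.toFinite (ψ.range : Set (MulAut P))),
      heq, Finset.mem_filter, and_iff_right (Finset.mem_univ _)]
  constructor
  · rintro ⟨t, ht, e1⟩
    exact ⟨ψ ⟨t, ht⟩, (hrange _).2 ⟨_, rfl⟩,
      MonoidHom.ext fun v => e1 v _ (hψv ⟨t, ht⟩ v)⟩
  · rintro ⟨σ, hσ, rfl⟩
    obtain ⟨t, rfl⟩ := (hrange σ).1 hσ
    refine ⟨t, t.2, fun v w hw => ?_⟩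
    show θ (ψ t v) = θ w
    exact congrArg θ (Subtype.ext ((hψv t v).trans hw.symm))

end Relation

variable {G' : Type v} [Group G'] [Fintype G'] {B' : Set (IrrCharacter G')} {P' : Subgroup G'}
  {c' : Set (IrrCharacter (Subgroup.centralizer (P' : Set G')))}
  (h : CycData p M B P c a) (h' : CycData p M B' P' c' a)

include h h'

theorem rel_transport (φ : P' ≃* P) (he : cycIndex P' c' = cycIndex P c)
    (θ₁ θ₂ : ↥P' →* ℂˣ) :
    CharRel P c (θ₁.comp φ.symm.toMonoidHom) (θ₂.comp φ.symm.toMonoidHom) ↔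
      CharRel P' c' θ₁ θ₂ := by
  rw [h.rel_iff_pow, h'.rel_iff_pow, he]
  constructor
  · rintro ⟨σ, hσ, e1⟩
    refine ⟨MulAut.congr φ.symm σ, by rw [← map_pow, hσ, map_one], MonoidHom.ext fun v => ?_⟩
    have h1 := DFunLike.congr_fun e1 (φ v)
    change θ₁ (φ.symm (φ v)) = θ₂ (φ.symm (σ (φ v))) at h1
    rw [φ.symm_apply_apply] at h1
    exact h1
  · rintro ⟨σ, hσ, e1⟩
    refine ⟨MulAut.congr φ σ, by rw [← map_pow, hσ, map_one], MonoidHom.ext fun v => ?_⟩
    show θ₁ (φ.symm v) = θ₂ (φ.symm (φ (σ (φ.symm v))))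
    rw [φ.symm_apply_apply, e1]
    rfl

/-- The perfect isometry. -/
theorem exists_isometry [Fintype (↥P →* ℂˣ)] [Fintype (↥P' →* ℂˣ)] {s : G → ℤ}
    {m : IrrCharacter G → (↥P →* ℂˣ) → ℤ} {ζ : (↥P →* ℂˣ) → IrrCharacter G} {δ : ℤ}
    {α : IrrCharacter G → ℤ} {X Y : Finset (IrrCharacter G)} (hV : CycValues p M B P c s m)
    (hS : CycShape B P c a p m ζ δ α X Y) {s' : G' → ℤ}
    {m' : IrrCharacter G' → (↥P' →* ℂˣ) → ℤ} {ζ' : (↥P' →* ℂˣ) → IrrCharacter G'} {δ' : ℤ}
    {α' : IrrCharacter G' → ℤ} {X' Y' : Finset (IrrCharacter G')}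
    (hV' : CycValues p M B' P' c' s' m') (hS' : CycShape B' P' c' a p m' ζ' δ' α' X' Y')
    (he : cycIndex P' c' = cycIndex P c) :
    ∃ (I : IrrCharacter G' → IrrCharacter G) (ε : IrrCharacter G' → ℤ),
      IsPerfectIsometry p M B' B I ε ∧ (∀ η ∈ Y', ε η = δ * δ') ∧
        ∀ η ∈ X', ∃ χ ∈ X, ε η = α χ * α' η := by
  classical
  haveI := h.cyc
  haveI := h'.cyc
  set φ : P' ≃* P := mulEquivOfCyclicCardEq (h'.card.trans h.card.symm) with hφ
  set pull : (↥P' →* ℂˣ) → (↥P →* ℂˣ) := fun θ => θ.comp φ.symm.toMonoidHom with hpull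
  have pull_bij : Function.Bijective pull := by
    refine ⟨fun x y e => MonoidHom.ext fun v => ?_,
      fun θ => ⟨θ.comp φ.toMonoidHom, MonoidHom.ext fun v => ?_⟩⟩
    · have h1 := DFunLike.congr_fun e (φ v)
      change x (φ.symm (φ v)) = y (φ.symm (φ v)) at h1
      rwa [φ.symm_apply_apply] at h1
    · show θ (φ (φ.symm v)) = θ v
      rw [φ.apply_symm_apply]
  have pull_one : pull 1 = 1 := MonoidHom.ext fun v => rfl
  have pull_ne : ∀ θ, θ ≠ 1 → pull θ ≠ 1 := fun θ hθ e => hθ (pull_bij.1 (e.trans pull_one.symm))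
  have hrel : ∀ θ₁ θ₂, CharRel P c (pull θ₁) (pull θ₂) ↔ CharRel P' c' θ₁ θ₂ :=
    h.rel_transport h' φ he
  choose! θY hθY1 hθY2 using hS'.surj
  let eX : ↥X' ≃ ↥X := Finset.equivOfCardEq (by rw [hS'.cardX, hS.cardX, he])
  let I : IrrCharacter G' → IrrCharacter G := fun η =>
    if hη : η ∈ X' then (eX ⟨η, hη⟩ : IrrCharacter G) else ζ (pull (θY η))
  let ε : IrrCharacter G' → ℤ := fun η =>
    if η ∈ X' then α (I η) * α' η else δ * δ'
  have hIX : ∀ η ∈ X', I η ∈ X := fun η hη => by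
    simp only [I, dif_pos hη]; exact (eX ⟨η, hη⟩).2
  have hnX : ∀ η ∈ Y', η ∉ X' := fun η hη hη' => Finset.disjoint_left.1 hS'.disj hη' hη
  have hIY : ∀ η ∈ Y', I η = ζ (pull (θY η)) := fun η hη => dif_neg (hnX η hη)
  have hIY' : ∀ η ∈ Y', I η ∈ Y := fun η hη => by
    rw [hIY η hη]; exact hS.mem_ζ _ (pull_ne _ (hθY1 η hη))
  have hsign : ∀ η ∈ B', ε η = 1 ∨ ε η = -1 := by
    intro η hη
    rcases (hS'.union η).1 hη with hX | hY
    · simp only [ε, if_pos hX]
      rcases hS.hα _ (hIX η hX) with e1 | e1 <;> rcases hS'.hα _ hX with e2 | e2 <;>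
        rw [e1, e2] <;> norm_num
    · simp only [ε, if_neg (hnX η hY)]
      rcases hS.hδ with e1 | e1 <;> rcases hS'.hδ with e2 | e2 <;> rw [e1, e2] <;> norm_num
  have hmap : Set.MapsTo I B' B := fun η hη => (hS.union _).2 <| by
    rcases (hS'.union η).1 hη with hX | hY
    exacts [Or.inl (hIX η hX), Or.inr (hIY' η hY)]
  have hinj : Set.InjOn I B' := by
    intro η hη η' hη' e1
    rcases (hS'.union η).1 hη with hX | hY <;> rcases (hS'.union η').1 hη' with hX' | hY'
    · simp only [I, dif_pos hX, dif_pos hX'] at e1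
      exact congrArg Subtype.val (eX.injective (Subtype.ext e1))
    · exact absurd (hIY' η' hY') (Finset.disjoint_left.1 hS.disj (e1 ▸ hIX η hX))
    · exact absurd (hIY' η hY) (Finset.disjoint_left.1 hS.disj (e1.symm ▸ hIX η' hX'))
    · rw [hIY η hY, hIY η' hY', hS.ζ_rel _ _ (pull_ne _ (hθY1 η hY)) (pull_ne _ (hθY1 η' hY')),
        hrel] at e1
      rw [← hθY2 η hY, ← hθY2 η' hY']
      exact (hS'.ζ_rel _ _ (hθY1 η hY) (hθY1 η' hY')).2 e1
  have hsurj : Set.SurjOn I B' B := by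
    intro χ hχ
    rcases (hS.union χ).1 hχ with hX | hY
    · refine ⟨eX.symm ⟨χ, hX⟩, (hS'.union _).2 (Or.inl (eX.symm ⟨χ, hX⟩).2), ?_⟩
      simp only [I, dif_pos (eX.symm ⟨χ, hX⟩).2, Subtype.coe_eta, Equiv.apply_symm_apply]
    · obtain ⟨θ, hθ, rfl⟩ := hS.surj χ hY
      obtain ⟨θ', rfl⟩ := pull_bij.2 θ
      have hθ' : θ' ≠ 1 := fun e => hθ (e.symm ▸ pull_one)
      have hη := hS'.mem_ζ θ' hθ'
      refine ⟨ζ' θ', (hS'.union _).2 (Or.inr hη), ?_⟩
      rw [hIY _ hη]
      refine (hS.ζ_rel _ _ (pull_ne _ (hθY1 _ hη)) hθ).2 ((hrel _ _).2 ?_)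
      exact (hS'.ζ_rel _ _ (hθY1 _ hη) hθ').1 (hθY2 _ hη)
  -- the multiplicities correspond
  have hm : ∀ η ∈ B', ∀ θ' : ↥P' →* ℂˣ, ε η * m (I η) (pull θ') = m' η θ' := by
    intro η hη θ'
    rcases eq_or_ne θ' 1 with rfl | hθ'
    · rw [pull_one, hV.one, hV'.one, mul_zero]
    rcases (hS'.union η).1 hη with hX | hY
    · rw [hS.mX _ (hIX η hX) _ (pull_ne _ hθ'), hS'.mX η hX _ hθ']
      simp only [ε, if_pos hX]
      rcases hS.hα _ (hIX η hX) with e1 | e1 <;> rw [e1] <;> ring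
    · have hy := hθY1 η hY
      rw [hIY η hY]
      conv_rhs => rw [← hθY2 η hY]
      simp only [ε, if_neg (hnX η hY)]
      by_cases hr : CharRel P' c' θ' (θY η)
      · rw [(hS.mY _ _ (pull_ne _ hy) (pull_ne _ hθ')).1 ((hrel _ _).2 hr),
          (hS'.mY _ _ hy hθ').1 hr]
        rcases hS.hδ with e1 | e1 <;> rw [e1] <;> ring
      · rw [(hS.mY _ _ (pull_ne _ hy) (pull_ne _ hθ')).2 fun h2 => hr ((hrel _ _).1 h2),
          (hS'.mY _ _ hy hθ').2 hr, mul_zero]
  let t : P' → ℤ := fun v => s (φ v : G) * s' (v : G')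
  have d : DsecMatch p M B P c B' P' c' (fun i : ↥(bset B') => I i)
      (fun i : ↥(bset B') => (i : IrrCharacter G')) (fun i : ↥(bset B') => ε i) φ t :=
    { inj := fun i j e => Subtype.ext (hinj (mem_bset.1 i.2) (mem_bset.1 j.2) e)
      mem := fun i => hmap (mem_bset.1 i.2)
      surj := fun χ hχ => by
        obtain ⟨η, hη, e⟩ := hsurj hχ
        exact ⟨⟨η, mem_bset.2 hη⟩, e⟩
      inj' := Subtype.coe_injective
      mem' := fun i => mem_bset.1 i.2
      surj' := fun χ hχ => ⟨⟨χ, mem_bset.2 hχ⟩, rfl⟩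
      sign := fun i => hsign _ (mem_bset.1 i.2)
      tsign := fun v => by
        rcases hV.sign (φ v : G) with e1 | e1 <;> rcases hV'.sign (v : G') with e2 | e2 <;>
          simp [t, e1, e2]
      eq := fun v hv i => by
        have hv' : (v : G') ≠ 1 := fun e => hv (Subtype.ext e)
        have hu : (φ v : G) ≠ 1 := fun e =>
          hv (φ.injective ((Subtype.ext e : φ v = 1).trans (map_one φ).symm))
        have h1 := hV.val (I i) (φ v) hu
        have h2 := hV'.val (i : IrrCharacter G') v hv'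
        have h3 : (ε i : ℂ) * ∑ θ, (m (I i) θ : ℂ) * ((θ (φ v) : ℂˣ) : ℂ) =
            ∑ θ', (m' i θ' : ℂ) * ((θ' v : ℂˣ) : ℂ) := by
          rw [Finset.mul_sum]
          refine (Fintype.sum_bijective pull pull_bij _ _ fun θ' => ?_).symm
          rw [← hm i (mem_bset.1 i.2) θ', show pull θ' (φ v) = θ' (φ.symm (φ v)) from rfl,
            φ.symm_apply_apply]
          push_cast
          ring
        rw [← h1, ← h2] at h3
        have e1 : (s (φ v : G) : ℂ) * s (φ v : G) = 1 := by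
          rcases hV.sign (φ v : G) with e | e <;> rw [e] <;> norm_num
        simp only [t, Int.cast_mul]
        linear_combination (s (φ v : G) : ℂ) * h3 -
          ((ε i : ℂ) * dsec p M P c (φ v : G) (I i : G → ℂ)) * e1 }
  refine ⟨I, ε, ⟨⟨hmap, hinj, hsurj⟩, hsign, ?_⟩, fun η hη => if_neg (hnX η hη),
    fun η hη => ⟨I η, hIX η hη, if_pos hη⟩⟩
  intro x y
  have hker : signedBijectionKernel B' I ε x y =
      ∑ i : ↥(bset B'), (ε i : ℂ) * (I i : G → ℂ) x * ((i : IrrCharacter G') : G' → ℂ) y := by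
    rw [signedBijectionKernel, finsum_mem_bset]
    exact (Finset.sum_coe_sort (bset B') fun η =>
      (ε η : ℂ) * (I η : G → ℂ) x * (η : G' → ℂ) y).symm
  rw [hker]
  exact d.perfect h.toAb h'.toAb x y

end CycData

end CfsgLib.Blocks
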