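import Cfsg.Agent.Lib.Blocks.CyclicRoots

/-!
# Cyclic defect groups: the values on all subsections through one set of multiplicities
-/

namespace CfsgLib.Blocks

open Cfsg CfsgLib.CharTheory
open scoped ComplexConjugate

set_option linter.unusedVariables false
set_option linter.unusedSimpArgs false
set_option linter.style.haveILetI false
set_option linter.unusedSectionVars false

universe u

variable {p : ℕ} {M : Ideal AlgInt} {G : Type u} [Group G] [Fintype G]

/-- The values are `∑ mult χ θ · θ v` up to signs, with stable multiplicities, zero at `θ = 1`. -/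
structure CycValues (p : ℕ) (M : Ideal AlgInt) (B : Set (IrrCharacter G)) (P : Subgroup G)
    (c : Set (IrrCharacter (Subgroup.centralizer (P : Set G)))) [Fintype (↥P →* ℂˣ)]
    (s : G → ℤ) (m : IrrCharacter G → (↥P →* ℂˣ) → ℤ) : Prop where
  sign : ∀ v, s v = 1 ∨ s v = -1
  sinv : ∀ v ∈ P, ∀ w ∈ P, Subgroup.zpowers v = Subgroup.zpowers w → s v = s w
  one : ∀ χ, m χ 1 = 0
  stab : ∀ χ, ∀ t ∈ pairStab P c, ∀ θ θ' : ↥P →* ℂˣ,
    (∀ v w : P, (w : G) = t * v * t⁻¹ → θ' v = θ w) → m χ θ' = m χ θ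
  val : ∀ χ : IrrCharacter G, ∀ v : P, (v : G) ≠ 1 →
    (s v : ℂ) * dsec p M P c (v : G) (χ : G → ℂ) = ∑ θ, (m χ θ : ℂ) * ((θ v : ℂˣ) : ℂ)

theorem finite_linearChars (P : Subgroup G) : Finite (↥P →* ℂˣ) := by
  haveI := Fintype.ofFinite P
  exact Finite.of_injective
    (fun θ : ↥P →* ℂˣ => (⟨fun w => (θ w : ℂ), isIrrCharacter_linear θ⟩ : IrrCharacter P))
    fun a b e => MonoidHom.ext fun w => Units.ext (congrFun (congrArg Subtype.val e) w)

namespace CycData

variable {B : Set (IrrCharacter G)} {P : Subgroup G}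
  {c : Set (IrrCharacter (Subgroup.centralizer (P : Set G)))} {a : ℕ} (h : CycData p M B P c a)

include h

theorem below_self : belowIdx p M P c P = (⟨P, c⟩ : BrauerPairIdx G) :=
  (h.below_eq (a' := (⟨P, c⟩ : BrauerPairIdx G)) h.isBlockC Relation.ReflTransGen.refl).symm

/-- The local block at `Q` has cyclic defect and trivial inertial index. -/
theorem down {Q : Subgroup G} (hQ : Q ≤ P) (hQ1 : Q ≠ ⊥)
    [Fintype (Subgroup.centralizer (Q : Set G))] :
    ∃ (x : BrauerPairIdx (Subgroup.centralizer (Q : Set G)))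
      (hx : Subgroup.centralizer ((x.1.map (Subgroup.centralizer (Q : Set G)).subtype :
        Subgroup G) : Set G) ≤ Subgroup.centralizer (Q : Set G)),
      upIdx x hx = ⟨P, c⟩ ∧ CycData p M (belowIdx p M P c Q).2 x.1 x.2 a ∧
        pairStab x.1 x.2 ≤
          Subgroup.centralizer (x.1 : Set (Subgroup.centralizer (Q : Set G))) := by
  obtain ⟨x, hx, hup, hpair⟩ := h.pair_in hQ le_rfl
  rw [h.below_self] at hup
  have hmap : x.1.map (Subgroup.centralizer (Q : Set G)).subtype = P := le_map_subtype_of_eq hup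
  have hmax' := maximal_down h.mod hup h.max hpair
  have e := (Subgroup.equivMapOfInjective x.1 (Subgroup.centralizer (Q : Set G)).subtype
    Subtype.coe_injective).trans (MulEquiv.subgroupCongr hmap)
  haveI := h.cyc
  refine ⟨x, hx, hup, ⟨h.mod, hmax', isCyclic_of_surjective e.symm e.symm.surjective,
    by rw [Nat.card_congr e.toEquiv, h.card], h.pos⟩, fun y hy => ?_⟩
  have h2 := free_of_cyclic h.mod h.max hQ hQ1 ⟨pairStab_upIdx hup hy, y.2⟩
  refine (mem_cent_map_iff x.1 y).1 ?_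
  rw [hmap]
  exact h2

/-- The values through a local subgroup. -/
theorem dsec_restrict {Q : Subgroup G} (hQ : Q ≤ P) [Fintype (Subgroup.centralizer (Q : Set G))]
    {x : BrauerPairIdx (Subgroup.centralizer (Q : Set G))}
    {hx : Subgroup.centralizer ((x.1.map (Subgroup.centralizer (Q : Set G)).subtype :
      Subgroup G) : Set G) ≤ Subgroup.centralizer (Q : Set G)}
    (hup : upIdx x hx = ⟨P, c⟩) (hH : CycData p M (belowIdx p M P c Q).2 x.1 x.2 a)
    {v : Subgroup.centralizer (Q : Set G)} (hv : v ∈ x.1) (hvQ : Q ≤ Subgroup.zpowers (v : G))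
    (χ : IrrCharacter G) (n : IrrCharacter (Subgroup.centralizer (Q : Set G)) → ℂ)
    (hn : ∀ y : Subgroup.centralizer (Q : Set G), (χ : G → ℂ) y =
      ∑ ψ, n ψ * (ψ : Subgroup.centralizer (Q : Set G) → ℂ) y) :
    dsec p M P c (v : G) (χ : G → ℂ) = ∑ ψ ∈ bset (belowIdx p M P c Q).2,
      n ψ * dsec p M x.1 x.2 v (ψ : Subgroup.centralizer (Q : Set G) → ℂ) := by
  classical
  obtain ⟨hb, hle⟩ := hH.below_spec (hH.zpowers_le hv)
  have hmap : (Subgroup.zpowers v).map (Subgroup.centralizer (Q : Set G)).subtype = Subgroup.zpowers (v : G) := by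
    rw [MonoidHom.map_zpowers]; rfl
  have hC : Subgroup.centralizer
      (((Subgroup.zpowers v).map (Subgroup.centralizer (Q : Set G)).subtype : Subgroup G) : Set G) ≤ Subgroup.centralizer (Q : Set G) := by
    rw [hmap]; exact centralizer_anti hvQ
  obtain ⟨hb', hup'⟩ := subpair_up (Q := Subgroup.zpowers (v : G)) (centralizer_anti hvQ)
    (a := belowIdx p M x.1 x.2 (Subgroup.zpowers v)) (b := x) hle hmap.ge hC
  rw [hup] at hup'
  have e : upIdx (belowIdx p M x.1 x.2 (Subgroup.zpowers v)) hC =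
      belowIdx p M P c (Subgroup.zpowers (v : G)) := by
    have h1 := h.below_eq (isPBlock_image _ hb) hup'
    rwa [show (upIdx (belowIdx p M x.1 x.2 (Subgroup.zpowers v)) hC).1 =
      Subgroup.zpowers (v : G) from hmap] at h1
  rw [dsec, ← e, cval_upIdx, show (fun y : Subgroup.centralizer (Q : Set G) => (χ : G → ℂ) y) =
    fun y => ∑ ψ, n ψ * (ψ : Subgroup.centralizer (Q : Set G) → ℂ) y from funext hn, cval_sum]
  refine (Finset.sum_subset (Finset.subset_univ _) fun ψ _ hψ => ?_).symm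
  show n ψ * dsec p M x.1 x.2 v (ψ : Subgroup.centralizer (Q : Set G) → ℂ) = 0
  rw [hH.dsec_off hv (fun h' => hψ (mem_bset.2 h')), mul_zero]

theorem exists_zmin : ∃ z : G, z ∈ P ∧ z ≠ 1 ∧
    ∀ v ∈ P, v ≠ 1 → Subgroup.zpowers z ≤ Subgroup.zpowers v := by
  obtain ⟨u₀, hu₀, hord, hgen⟩ := h.exists_gen
  have hk : u₀ ^ p ^ (a - 1) ≠ 1 := fun h1 => by
    have := Nat.le_of_dvd (pow_pos h.prime.pos _) (orderOf_dvd_of_pow_eq_one h1)
    rw [hord] at this
    exact absurd this (not_le.2 (Nat.pow_lt_pow_right h.prime.one_lt (by have := h.pos; omega)))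
  refine ⟨u₀ ^ p ^ (a - 1), P.pow_mem hu₀ _, hk, fun v hv hv1 => ?_⟩
  obtain ⟨i, rfl⟩ := hgen v hv
  rcases h.exists_pow_split hu₀ i with h1 | ⟨k, m, rfl, hm, hlt⟩
  · exact absurd h1 hv1
  rw [hord] at hlt
  have hka : k < a := (Nat.pow_lt_pow_iff_right h.prime.one_lt).1 hlt
  rw [pow_mul, zpowers_pow_of_coprime (h.coprime_ord (P.pow_mem hu₀ _) hm)]
  refine Subgroup.zpowers_le.2 ?_
  rw [show p ^ (a - 1) = p ^ k * p ^ (a - 1 - k) by rw [← pow_add]; congr 1; omega, pow_mul]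
  exact Subgroup.pow_mem _ (Subgroup.mem_zpowers _) _

theorem card_chars [Fintype (↥P →* ℂˣ)] : Fintype.card (↥P →* ℂˣ) = p ^ a := by
  haveI := Fintype.ofFinite P
  have hcomm : ∀ x y : P, x * y = y * x := fun x y => Subtype.ext (h.comm x x.2 y y.2)
  have h1 : ∀ ψ : IrrCharacter P, (ψ : ↥P → ℂ) 1 = 1 :=
    fun ψ => degree_one_of_commutative hcomm ψ.2
  have hb : Function.Bijective
      (fun θ : ↥P →* ℂˣ => (⟨fun w => (θ w : ℂ), isIrrCharacter_linear θ⟩ : IrrCharacter P)) := by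
    refine ⟨fun a b e => MonoidHom.ext fun w => Units.ext (congrFun (congrArg Subtype.val e) w),
      fun ψ => ?_⟩
    obtain ⟨f, hf⟩ := exists_hom_of_degree_one (isCharacter_of_irr ψ.2) (h1 ψ)
    exact ⟨f, Subtype.ext hf.symm⟩
  classical
  rw [Fintype.card_of_bijective hb]
  have h2 := sum_irr_apply_mul_degree (G := P) 1
  rw [if_pos rfl, Finset.sum_congr rfl fun ν _ => by rw [h1, mul_one], Finset.sum_const,
    nsmul_eq_mul, mul_one, Finset.card_univ] at h2
  rw [← h.card]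
  exact_mod_cast h2

theorem sum_char {θ : ↥P →* ℂˣ} [Fintype P] [Decidable (θ = 1)] :
    ∑ v : P, ((θ v : ℂˣ) : ℂ) = if θ = 1 then ((p ^ a : ℕ) : ℂ) else 0 := by
  split_ifs with h1
  · subst h1
    simp [← Nat.card_eq_fintype_card, h.card]
  · have hne : (Units.coeHom ℂ).comp θ ≠ 1 := fun e => h1 (MonoidHom.ext fun v => by
      have h2 := DFunLike.congr_fun e v
      simpa using h2)
    simpa using sum_hom_units_eq_zero _ hne

theorem sum_chars_apply [Fintype (↥P →* ℂˣ)] {v : P} (hv : v ≠ 1) :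
    ∑ θ : ↥P →* ℂˣ, ((θ v : ℂˣ) : ℂ) = 0 := by
  classical
  haveI := Fintype.ofFinite P
  have hcomm : ∀ x y : P, x * y = y * x := fun x y => Subtype.ext (h.comm x x.2 y y.2)
  have h1 : ∀ ψ : IrrCharacter P, (ψ : ↥P → ℂ) 1 = 1 :=
    fun ψ => degree_one_of_commutative hcomm ψ.2
  have h2 := sum_irr_apply_mul_degree (G := P) v
  rw [if_neg hv] at h2
  rw [← h2]
  refine Fintype.sum_bijective
    (fun θ : ↥P →* ℂˣ => (⟨fun w => (θ w : ℂ), isIrrCharacter_linear θ⟩ : IrrCharacter P))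
    ⟨fun a b e => MonoidHom.ext fun w => Units.ext (congrFun (congrArg Subtype.val e) w),
      fun ψ => ?_⟩ _ _ fun θ => by rw [h1]; simp
  obtain ⟨f, hf⟩ := exists_hom_of_degree_one (isCharacter_of_irr ψ.2) (h1 ψ)
  exact ⟨f, Subtype.ext hf.symm⟩

/-- The multiplicities exist. -/
theorem exists_values [Fintype (↥P →* ℂˣ)] :
    ∃ (s : G → ℤ) (m : IrrCharacter G → (↥P →* ℂˣ) → ℤ), CycValues p M B P c s m := by
  classical
  haveI : Fintype P := Fintype.ofFinite P
  obtain ⟨z, hz, hz1, hzle⟩ := h.exists_zmin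
  set H := Subgroup.centralizer ((Subgroup.zpowers z : Subgroup G) : Set G) with hHdef
  haveI : Fintype H := Fintype.ofFinite _
  obtain ⟨x, hx, hup, hH, htriv⟩ := h.down (h.zpowers_le hz) (zpowers_ne_bot hz1)
  obtain ⟨s₁, Λ, hs₁, hsinv, hval, -⟩ := hH.linear_values htriv
  have hmap : x.1.map H.subtype = P := le_map_subtype_of_eq hup
  set e : x.1 ≃* P := (Subgroup.equivMapOfInjective x.1 H.subtype Subtype.coe_injective).trans
    (MulEquiv.subgroupCongr hmap) with he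
  have hev : ∀ y : x.1, ((e y : P) : G) = ((y : H) : G) := fun y => rfl
  set s : G → ℤ := fun v => if hv : v ∈ P then s₁ ((e.symm ⟨v, hv⟩ : x.1) : H) else 1 with hs
  choose k hk using fun (χ : IrrCharacter G) (ψ : IrrCharacter H) =>
    classInner_char_nat (isCharacter_restrict_irr H χ) (isCharacter_of_irr ψ.2)
  have hexp : ∀ (χ : IrrCharacter G) (y : H), (χ : G → ℂ) y =
      ∑ ψ, (k χ ψ : ℂ) * (ψ : H → ℂ) y := fun χ y => by
    have := congrFun (eq_sum_irr (isClassFunction_char (isCharacter_restrict_irr H χ))) y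
    simpa [hk] using this
  set b := bset (belowIdx p M P c (Subgroup.zpowers z)).2 with hb
  set n : IrrCharacter G → (↥P →* ℂˣ) → ℤ := fun χ θ =>
    ∑ ψ ∈ b.filter (fun ψ => (Λ ψ).comp e.symm.toMonoidHom = θ), (k χ ψ : ℤ) with hn
  have hsv : ∀ (v : G) (hv : v ∈ P), s v = s₁ ((e.symm ⟨v, hv⟩ : x.1) : H) := fun v hv => by
    simp only [hs, dif_pos hv]
  have hraw : ∀ χ : IrrCharacter G, ∀ v : P, (v : G) ≠ 1 →
      (s v : ℂ) * dsec p M P c (v : G) (χ : G → ℂ) =
        ∑ θ, (n χ θ : ℂ) * ((θ v : ℂˣ) : ℂ) := by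
    intro χ v hv1
    set y : x.1 := e.symm v with hy
    have hyv : ((y : H) : G) = (v : G) := by rw [← hev y, hy, e.apply_symm_apply]
    have hy1 : ((y : x.1) : H) ≠ 1 := fun h1 => hv1 (by rw [← hyv, h1]; rfl)
    have h2 := h.dsec_restrict (h.zpowers_le hz) hup hH (v := (y : H)) y.2
      (by rw [hyv]; exact hzle _ v.2 hv1) χ (fun ψ => (k χ ψ : ℂ)) (hexp χ)
    rw [hyv] at h2
    rw [hsv _ v.2, show (⟨(v : G), v.2⟩ : P) = v from rfl, ← hy, h2, Finset.mul_sum, ← hb,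
      ← Finset.sum_fiberwise b (fun ψ => (Λ ψ).comp e.symm.toMonoidHom)]
    refine Finset.sum_congr rfl fun θ _ => ?_
    simp only [hn, Int.cast_sum, Finset.sum_mul]
    refine Finset.sum_congr rfl fun ψ hψ => ?_
    obtain ⟨hψb, hψθ⟩ := Finset.mem_filter.1 hψ
    have hss : ((s₁ (y : H) : ℤ) : ℂ) * (s₁ (y : H) : ℂ) = 1 := by
      rcases hs₁ (y : H) with h3 | h3 <;> rw [h3] <;> norm_num
    rw [hval ψ (mem_bset.1 hψb) y hy1, ← hψθ, MonoidHom.comp_apply]
    rw [show e.symm.toMonoidHom v = y from rfl, Int.cast_natCast]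
    linear_combination (k χ ψ : ℂ) * ((Λ ψ y : ℂˣ) : ℂ) * hss
  have hone : ∀ χ, (fun θ => n χ θ - n χ 1) 1 = 0 := fun χ => sub_self _
  set m : IrrCharacter G → (↥P →* ℂˣ) → ℤ := fun χ θ => n χ θ - n χ 1 with hm
  have hvalm : ∀ χ : IrrCharacter G, ∀ v : P, (v : G) ≠ 1 →
      (s v : ℂ) * dsec p M P c (v : G) (χ : G → ℂ) = ∑ θ, (m χ θ : ℂ) * ((θ v : ℂˣ) : ℂ) := by
    intro χ v hv1
    rw [hraw χ v hv1]
    simp only [hm, Int.cast_sub, sub_mul, Finset.sum_sub_distrib, ← Finset.mul_sum,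
      h.sum_chars_apply (v := v) (fun e1 => hv1 (by rw [e1]; rfl)), mul_zero, sub_zero]
  -- the inversion formula
  have hinv : ∀ χ θ, (m χ θ : ℂ) * ((p ^ a : ℕ) : ℂ) =
      ∑ v : P, (∑ μ, (m χ μ : ℂ) * ((μ v : ℂˣ) : ℂ)) * (((θ⁻¹ v : ℂˣ) : ℂ) - 1) := by
    intro χ θ
    simp only [Finset.sum_mul]
    rw [Finset.sum_comm]
    have e1 : ∀ μ : ↥P →* ℂˣ, ∑ v : P, (m χ μ : ℂ) * ((μ v : ℂˣ) : ℂ) *
        (((θ⁻¹ v : ℂˣ) : ℂ) - 1) = (if μ = θ then (m χ μ : ℂ) * ((p ^ a : ℕ) : ℂ) else 0) -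
          (if μ = 1 then (m χ μ : ℂ) * ((p ^ a : ℕ) : ℂ) else 0) := by
      intro μ
      have h3 : ∑ v : P, (m χ μ : ℂ) * ((μ v : ℂˣ) : ℂ) * (((θ⁻¹ v : ℂˣ) : ℂ) - 1) =
          (m χ μ : ℂ) * (∑ v : P, (((μ * θ⁻¹) v : ℂˣ) : ℂ)) -
            (m χ μ : ℂ) * ∑ v : P, ((μ v : ℂˣ) : ℂ) := by
        rw [Finset.mul_sum, Finset.mul_sum, ← Finset.sum_sub_distrib]
        exact Finset.sum_congr rfl fun v _ => by
          rw [MonoidHom.mul_apply, Units.val_mul]; ring
      rw [h3, h.sum_char, h.sum_char]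
      rcases eq_or_ne μ θ with e2 | e2
      · rw [if_pos (mul_inv_eq_one.2 e2), if_pos e2]
        split_ifs <;> ring
      · rw [if_neg (fun e3 => e2 (mul_inv_eq_one.1 e3)), if_neg e2]
        split_ifs <;> ring
    rw [Finset.sum_congr rfl fun μ _ => e1 μ, Finset.sum_sub_distrib,
      Finset.sum_ite_eq', Finset.sum_ite_eq', if_pos (Finset.mem_univ _),
      if_pos (Finset.mem_univ _)]
    simp only [hm, sub_self, Int.cast_zero, zero_mul, sub_zero]
  have hsign : ∀ v, s v = 1 ∨ s v = -1 := fun v => by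
    simp only [hs]; split_ifs
    exacts [hs₁ _, Or.inl rfl]
  have hsinv' : ∀ v ∈ P, ∀ w ∈ P, Subgroup.zpowers v = Subgroup.zpowers w → s v = s w := by
    intro v hv w hw hzp
    rw [hsv v hv, hsv w hw]
    have e1 : (((e.symm ⟨v, hv⟩ : x.1) : H) : G) = v := by
      rw [← hev, e.apply_symm_apply]
    have e2 : (((e.symm ⟨w, hw⟩ : x.1) : H) : G) = w := by
      rw [← hev, e.apply_symm_apply]
    refine hsinv _ (e.symm ⟨v, hv⟩).2 _ (e.symm ⟨w, hw⟩).2 ?_
    apply Subgroup.map_injective (f := H.subtype) Subtype.coe_injective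
    rw [MonoidHom.map_zpowers, MonoidHom.map_zpowers, Subgroup.coe_subtype, e1, e2, hzp]
  refine ⟨s, m, hsign, hsinv', hone, fun χ t ht θ θ' hθ => ?_, hvalm⟩
  have hT : ∀ v : P, t * (v : G) * t⁻¹ ∈ P := fun v => h.mem_stab_conj ht v.2
  set τ : P → P := fun v => ⟨_, hT v⟩ with hτ
  have hτi : Function.Injective τ := fun v w e1 =>
    Subtype.ext (conj_injective (congrArg Subtype.val e1))
  have key : (m χ θ' : ℂ) * ((p ^ a : ℕ) : ℂ) = (m χ θ : ℂ) * ((p ^ a : ℕ) : ℂ) := by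
    rw [hinv, hinv]
    refine Fintype.sum_bijective τ (Finite.injective_iff_bijective.1 hτi) _ _ fun v => ?_
    rcases eq_or_ne (v : G) 1 with hv | hv
    · obtain rfl : v = 1 := Subtype.ext hv
      have e1 : τ 1 = 1 := Subtype.ext (by simp [hτ])
      rw [e1]
      simp
    · have hv' : (τ v : G) ≠ 1 := fun h1 => hv (conj_eq_one_iff.1 h1)
      rw [← hvalm χ v hv, ← hvalm χ (τ v) hv', MonoidHom.inv_apply, MonoidHom.inv_apply,
        hθ v (τ v) rfl]
      show _ = ((s (t * (v : G) * t⁻¹) : ℤ) : ℂ) * dsec p M P c (t * (v : G) * t⁻¹) _ * _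
      rw [h.dsec_conj ht v.2, hsinv' _ (hT v) _ v.2 (h.zpowers_conj_stab ht v.2)]
  exact_mod_cast mul_right_cancel₀ (Nat.cast_ne_zero.2 (pow_ne_zero _ h.prime.ne_zero)) key

end CycData

end CfsgLib.Blocks
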