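import Cfsg.Agent.Lib.Blocks.Principal
import Cfsg.Agent.Lib.Blocks.PermTrace
import Cfsg.Agent.Lib.Blocks.RegInt
import Cfsg.Agent.Lib.Blocks.CentralDefect
import Mathlib.Algebra.MonoidAlgebra.Basic

/-!
# Külshammer's formula for the principal block idempotent
-/

namespace CfsgLib.Blocks

open Cfsg CfsgLib.CharTheory
open scoped ComplexConjugate

set_option linter.unusedVariables false
set_option linter.unusedSimpArgs false
set_option linter.style.haveILetI false
set_option linter.unusedSectionVars false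

universe u

section algebra

variable {k : Type*} [CommRing k] {G : Type u} [Group G] [Fintype G]

/-- Powers in a group algebra as sums over tuples. -/
theorem monoidAlgebra_pow_eq (c : G → k) : ∀ n : ℕ,
    (∑ h, MonoidAlgebra.single h (c h) : MonoidAlgebra k G) ^ n =
      ∑ t : Fin n → G, MonoidAlgebra.single (List.ofFn t).prod (∏ i, c (t i)) := by
  intro n
  induction n with
  | zero => simp [MonoidAlgebra.one_def]
  | succ n ih =>
    rw [pow_succ', ih, Finset.sum_mul_sum,
      ← Fintype.sum_prod_type' (f := fun (a : G) (t : Fin n → G) =>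
        MonoidAlgebra.single a (c a) * MonoidAlgebra.single (List.ofFn t).prod (∏ i, c (t i)))]
    refine Fintype.sum_equiv (Fin.consEquiv fun _ => G) _ _ fun y => ?_
    rw [MonoidAlgebra.single_mul_single]
    simp [Fin.consEquiv, List.ofFn_succ, List.prod_cons, Fin.prod_univ_succ]

theorem coeff_sum_single [DecidableEq G] (c : G → k) (g : G) :
    (∑ h, MonoidAlgebra.single h (c h) : MonoidAlgebra k G).coeff g = c g := by
  rw [MonoidAlgebra.coeff_sum, Finsupp.finsetSum_apply, Finset.sum_eq_single g]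
  · simp
  · intro h _ hne
    simp [MonoidAlgebra.coeff_single, Finsupp.single_eq_of_ne hne.symm]
  · exact fun h => absurd (Finset.mem_univ g) h

variable {p : ℕ} [CharP k p]

/-- Sums over a rotation-invariant weight only see the fixed points. -/
theorem sum_eq_sum_fixed {ι : Type*} [Fintype ι] [DecidableEq ι] (hp : p.Prime)
    (σ : Equiv.Perm ι) (hσ : σ ^ p = 1) (f : ι → k) (hf : ∀ x, f (σ x) = f x) :
    ∑ x, f x = ∑ x ∈ Finset.univ.filter (fun x => σ x = x), f x := by
  classical
  rw [sum_orbits σ f]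
  have hiter : ∀ o u, f ((⇑σ)^[u] o) = f o := by
    intro o u
    induction u with
    | zero => rfl
    | succ u ih => rw [Function.iterate_succ_apply', hf, ih]
  rw [Finset.sum_congr rfl fun o _ => show ∑ u ∈ Finset.range (per σ o), f ((⇑σ)^[u] o) =
    (per σ o : k) * f o by
      rw [Finset.sum_congr rfl fun u _ => hiter o u, Finset.sum_const, Finset.card_range,
        nsmul_eq_mul]]
  have hper : ∀ o, per σ o = 1 ∨ per σ o = p := fun o => (Nat.dvd_prime hp).1 (per_dvd σ hσ o)
  symm
  refine Finset.sum_subset_zero_on_sdiff (fun o ho => mem_reps_of_fixed σ (Finset.mem_filter.1 ho).2)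
    (fun o ho => ?_) fun o ho => ?_
  · obtain ⟨-, hne⟩ := Finset.mem_sdiff.1 ho
    have h1 : per σ o ≠ 1 := fun h =>
      hne (Finset.mem_filter.2 ⟨Finset.mem_univ _, (per_eq_one_iff σ o).1 h⟩)
    rw [(hper o).resolve_left h1, CharP.cast_eq_zero, zero_mul]
  · rw [(per_eq_one_iff σ o).2 (Finset.mem_filter.1 ho).2, Nat.cast_one, one_mul]

/-- The sum of the coefficients of a `p`-th power over a normal set. -/
theorem trace_pow_p [DecidableEq G] (hp : p.Prime) (c : G → k) (S : Finset G)
    (hS : ∀ x y : G, y * x * y⁻¹ ∈ S ↔ x ∈ S) :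
    ∑ g ∈ S, ((∑ h, MonoidAlgebra.single h (c h) : MonoidAlgebra k G) ^ p).coeff g =
      ∑ h ∈ Finset.univ.filter (fun h => h ^ p ∈ S), c h ^ p := by
  classical
  obtain ⟨n, rfl⟩ : ∃ n, p = n + 1 := ⟨p - 1, (Nat.sub_add_cancel hp.one_le).symm⟩
  rw [monoidAlgebra_pow_eq]
  have e1 : ∀ g, (∑ t : Fin (n + 1) → G, MonoidAlgebra.single (List.ofFn t).prod
      (∏ i, c (t i)) : MonoidAlgebra k G).coeff g =
      ∑ t : Fin (n + 1) → G, if (List.ofFn t).prod = g then ∏ i, c (t i) else 0 := fun g => by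
    rw [MonoidAlgebra.coeff_sum, Finsupp.finsetSum_apply]
    exact Finset.sum_congr rfl fun t _ => by
      rw [MonoidAlgebra.coeff_single, Finsupp.single_apply]
  simp only [e1]
  rw [Finset.sum_comm]
  simp only [Finset.sum_ite_eq]
  set f : (Fin (n + 1) → G) → k := fun t => if (List.ofFn t).prod ∈ S then ∏ i, c (t i) else 0
    with hf
  let σ : Equiv.Perm (Fin (n + 1) → G) := Equiv.arrowCongr (finRotate (n + 1)).symm (Equiv.refl G)
  have hσa : ∀ t : Fin (n + 1) → G, σ t = t ∘ finRotate (n + 1) := fun t => rfl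
  have hit : ∀ (m : ℕ) (t : Fin (n + 1) → G), (σ ^ m) t = t ∘ ⇑(finRotate (n + 1) ^ m) := by
    intro m
    induction m with
    | zero => intro t; rfl
    | succ m ih =>
      intro t
      rw [pow_succ', Equiv.Perm.mul_apply, ih, hσa, pow_succ]
      rfl
  have hσp : σ ^ (n + 1) = 1 := Equiv.ext fun t => by
    have h1 : finRotate (n + 1) ^ (n + 1) = 1 := by
      rcases n with _ | m
      · exact Equiv.ext fun x => Fin.ext (by omega)
      · have := pow_orderOf_eq_one (finRotate (m + 2))
        rwa [(isCycle_finRotate (n := m)).orderOf, support_finRotate, Finset.card_univ,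
          Fintype.card_fin] at this
    rw [hit, h1]
    rfl
  have hfσ : ∀ t, f (σ t) = f t := by
    intro t
    have hprod : (List.ofFn (σ t)).prod = (t 0)⁻¹ * (List.ofFn t).prod * (t 0)⁻¹⁻¹ := by
      rw [hσa, List.ofFn_succ' (f := t ∘ finRotate (n + 1)), List.ofFn_succ (f := t)]
      simp only [List.concat_eq_append, List.prod_append, List.prod_cons, List.prod_nil, mul_one,
        inv_inv, inv_mul_cancel_left, Function.comp_apply, finRotate_succ_apply,
        Fin.last_add_one, Fin.coeSucc_eq_succ]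
    have hprodc : ∏ i, c (σ t i) = ∏ i, c (t i) := by
      rw [hσa]
      exact Equiv.prod_comp (finRotate (n + 1)) fun i => c (t i)
    simp only [hf, hprodc, hprod, hS]
  rw [show (∑ t : Fin (n + 1) → G, if (List.ofFn t).prod ∈ S then ∏ i, c (t i) else 0) = ∑ t, f t
    from rfl, sum_eq_sum_fixed hp σ hσp f hfσ]
  have hfix : ∀ t : Fin (n + 1) → G, σ t = t → t = fun _ => t 0 := by
    intro t ht
    funext i
    induction i using Fin.induction with
    | zero => rfl
    | succ i ih =>
      have := congrFun ht i.castSucc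
      rw [hσa, Function.comp_apply, finRotate_succ_apply, Fin.coeSucc_eq_succ] at this
      rw [this, ih]
  rw [Finset.sum_filter, Finset.sum_filter]
  refine (Fintype.sum_of_injective (fun h : G => fun _ : Fin (n + 1) => h)
    (fun a b e => congrFun e 0) _ _ (fun t ht => ?_) fun h => ?_).symm
  · rw [if_neg fun he => ht ⟨t 0, (hfix t he).symm⟩]
  · rw [if_pos (show σ (fun _ => h) = fun _ => h from rfl)]
    simp only [hf, List.ofFn_const, List.prod_replicate, Finset.prod_const, Finset.card_univ,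
      Fintype.card_fin]

/-- The identity coefficient of a `p ^ n`-th power. -/
theorem coeff_one_pow [DecidableEq G] (hp : p.Prime) : ∀ (n : ℕ) (c : G → k) (S : Finset G),
    (∀ x y : G, y * x * y⁻¹ ∈ S ↔ x ∈ S) →
    ∑ g ∈ S, ((∑ h, MonoidAlgebra.single h (c h) : MonoidAlgebra k G) ^ p ^ n).coeff g =
      (∑ h ∈ Finset.univ.filter (fun h => h ^ p ^ n ∈ S), c h) ^ p ^ n := by
  classical
  haveI : Fact p.Prime := ⟨hp⟩
  intro n
  induction n with
  | zero =>
    intro c S _
    simp only [pow_zero, pow_one, coeff_sum_single]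
    exact Finset.sum_congr (by simp) fun _ _ => rfl
  | succ n ih =>
    intro c S hS
    set b : G → k := fun g =>
      ((∑ h, MonoidAlgebra.single h (c h) : MonoidAlgebra k G) ^ p ^ n).coeff g with hb
    have hbs : (∑ h, MonoidAlgebra.single h (c h) : MonoidAlgebra k G) ^ p ^ n =
        ∑ h, MonoidAlgebra.single h (b h) := by
      refine MonoidAlgebra.ext (Finsupp.ext fun g => ?_)
      rw [coeff_sum_single]
    have hS' : ∀ x y : G, y * x * y⁻¹ ∈ Finset.univ.filter (fun h : G => h ^ p ∈ S) ↔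
        x ∈ Finset.univ.filter (fun h : G => h ^ p ∈ S) := fun x y => by
      simp only [Finset.mem_filter, Finset.mem_univ, true_and]
      rw [conj_pow, hS]
    rw [pow_succ, pow_mul, hbs, trace_pow_p hp b S hS,
      Finset.sum_congr rfl fun g _ => show b g ^ p = _ from rfl, ← sum_pow_char p,
      ih c _ hS', ← pow_mul, ← pow_succ]
    congr 1
    refine Finset.sum_congr ?_ fun _ _ => rfl
    ext h
    simp only [Finset.mem_filter, Finset.mem_univ, true_and]
    rw [← pow_mul, ← pow_succ]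

end algebra

section main

variable {p : ℕ} {M : Ideal AlgInt} {G : Type u} [Group G] [Fintype G]

/-- The `Z(OG)` to group algebra map modulo `M`. -/
noncomputable def toAlg (hM : IsPModular p M) (v : IrrCharacter G → ℂ) :
    MonoidAlgebra (AlgInt ⧸ M) G :=
  ∑ g, MonoidAlgebra.single g (res hM (cf v g))

theorem toAlg_mul (hM : IsPModular p M) (v w : Zloc G hM) :
    toAlg hM ((v * w : Zloc G hM) : IrrCharacter G → ℂ) =
      toAlg hM (v : IrrCharacter G → ℂ) * toAlg hM (w : IrrCharacter G → ℂ) := by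
  classical
  unfold toAlg
  rw [Finset.sum_mul_sum]
  conv_rhs => enter [2, a]; rw [← Fintype.sum_equiv (Equiv.mulLeft a⁻¹) (fun g =>
    MonoidAlgebra.single a (res hM (cf (v : IrrCharacter G → ℂ) a)) *
      MonoidAlgebra.single (a⁻¹ * g) (res hM (cf (w : IrrCharacter G → ℂ) (a⁻¹ * g)))) _
      fun g => rfl]
  rw [Finset.sum_comm]
  refine Finset.sum_congr rfl fun g _ => ?_
  simp only [MonoidAlgebra.single_mul_single, mul_inv_cancel_left]
  rw [Subring.coe_mul, cf_mul, conv, res_sum hM fun x _ => (loc hM).mul_mem (v.2 x) (w.2 _)]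
  refine (map_sum (MonoidAlgebra.singleAddHom g) _ _).trans (Finset.sum_congr rfl fun x _ => ?_)
  exact congrArg (MonoidAlgebra.singleAddHom g) (res_mul hM (v.2 x) (w.2 _))

theorem toAlg_pow (hM : IsPModular p M) (v : Zloc G hM) : ∀ n : ℕ, 0 < n →
    toAlg hM ((v ^ n : Zloc G hM) : IrrCharacter G → ℂ) =
      toAlg hM (v : IrrCharacter G → ℂ) ^ n := by
  intro n hn
  induction n with
  | zero => omega
  | succ n ih =>
    rcases Nat.eq_zero_or_pos n with h | h
    · subst h; simp
    · rw [pow_succ, toAlg_mul, ih h, pow_succ]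

theorem res_isAlgebraic_finite (hM : IsPModular p M) [Fact p.Prime] (r : AlgInt ⧸ M) :
    ∃ F : Set (AlgInt ⧸ M), F.Finite ∧ ∀ i : ℕ, r ^ i ∈ F := by
  classical
  haveI := res_isDomain hM
  haveI := res_charP hM
  letI : Algebra (ZMod p) (AlgInt ⧸ M) := ZMod.algebra _ p
  obtain ⟨a, rfl⟩ := Ideal.Quotient.mk_surjective r
  have h1 : IsIntegral ℤ a := (isIntegral_algHom_iff (AlgInt.val.restrictScalars ℤ)
    Subtype.val_injective).1 a.2
  have h2 : IsIntegral ℤ (Ideal.Quotient.mk M a) :=
    h1.map (Ideal.Quotient.mk M).toIntAlgHom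
  haveI : IsScalarTower ℤ (ZMod p) (AlgInt ⧸ M) :=
    IsScalarTower.of_algebraMap_eq' (RingHom.ext_int _ _)
  have h3 : IsIntegral (ZMod p) (Ideal.Quotient.mk M a) := h2.tower_top
  haveI : Module.Finite (ZMod p) (Algebra.adjoin (ZMod p) {Ideal.Quotient.mk M a}) :=
    Module.Finite.iff_fg.2 h3.fg_adjoin_singleton
  haveI : Finite (Algebra.adjoin (ZMod p) {Ideal.Quotient.mk M a}) :=
    Module.finite_of_finite (ZMod p)
  exact ⟨(Algebra.adjoin (ZMod p) {Ideal.Quotient.mk M a} : Set (AlgInt ⧸ M)),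
    Set.toFinite _, fun i => pow_mem (Algebra.self_mem_adjoin_singleton _ _) i⟩

/-- S0940. -/
theorem kulshammer (hM : IsPModular p M) {g : G} (hg : ¬ p ∣ orderOf g) :
    MemLocalIdeal M (blockCoeff (principalBlock M G) g -
      (Nat.card {xy : G × G // (∃ k : ℕ, orderOf xy.1 = p ^ k) ∧ ¬ p ∣ orderOf xy.2 ∧
        xy.1 * xy.2 = g} : ℂ) / (Nat.card {y : G // ¬ p ∣ orderOf y} : ℂ)) := by
  classical
  haveI : Fact p.Prime := ⟨hM.1⟩
  haveI := res_isDomain hM
  haveI := res_charP hM
  set B := principalBlock M G with hB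
  have hBb : IsPBlock M B := principalBlock_isPBlock
  set R := Finset.univ.filter (fun y : G => ¬ p ∣ orderOf y) with hR
  set Rf : G → ℂ := fun y => if p ∣ orderOf y then 0 else 1 with hRf
  have hRc : IsClassFunction G Rf := fun y h => by simp only [hRf, conj_orderOf]
  -- the number of regular elements is a unit
  have hone : dv p ((oneIrr G : IrrCharacter G) : G → ℂ) = 0 := by
    have h1 : charDegree ((oneIrr G : IrrCharacter G) : G → ℂ) = 1 := by
      apply Nat.cast_injective (R := ℂ)
      rw [irr_charDegree_cast, Nat.cast_one]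
      rfl
    simp [dv, h1]
  have hv0 : minDv p B = 0 := Nat.le_zero.1 (hone ▸ minDv_le (oneIrr_mem hM))
  obtain ⟨q, hq, -, hqp, -⟩ := exists_int_proj hM hBb (oneIrr_mem hM) (oneIrr_mem hM)
  have hcard : (Nat.card {y : G // ¬ p ∣ orderOf y} : ℂ) = (R.card : ℂ) := by
    rw [Nat.card_eq_fintype_card, Fintype.card_subtype]
  have hRu : ¬ p ∣ R.card := by
    intro hd
    apply hqp (by rw [hone, hv0]) (by rw [hone, hv0])
    rw [regS_eq_sum, blockDefect_eq, hv0, Nat.sub_zero,
      Finset.sum_congr rfl fun x _ => show ((oneIrr G : IrrCharacter G) : G → ℂ) x *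
        ((oneIrr G : IrrCharacter G) : G → ℂ) x⁻¹ = 1 by simp [oneIrr],
      Finset.sum_const, nsmul_eq_mul, mul_one] at hq
    have h2 : ((p ^ (Nat.card G).factorization p * R.card : ℕ) : ℤ) = (Nat.card G : ℤ) * q := by
      have h3 : ((((p ^ (Nat.card G).factorization p * R.card : ℕ) : ℤ)) : ℂ) =
          (((Nat.card G : ℤ) * q : ℤ) : ℂ) := by
        push_cast
        exact hq
      exact_mod_cast h3
    conv_rhs at h2 => rw [← Nat.ordProj_mul_ordCompl_eq_self (Nat.card G) p]
    rw [Nat.cast_mul, Nat.cast_mul, mul_assoc] at h2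
    have h4 := mul_left_cancel₀ (Nat.cast_ne_zero.2 (pow_ne_zero _ hM.1.ne_zero)) h2
    have h5 : (p : ℤ) ∣ _ * q := h4 ▸ Int.natCast_dvd_natCast.2 hd
    exact ((Nat.prime_iff_prime_int.1 hM.1).dvd_or_dvd h5).resolve_left fun h6 =>
      Nat.not_dvd_ordCompl hM.1 Nat.card_pos.ne' (Int.natCast_dvd_natCast.1 h6)
  have hRinv : MemLocalRing M ((R.card : ℂ)⁻¹) := natCast_inv_mem hM hRu
  have hRm : ∀ y, MemLocalRing M ((R.card : ℂ)⁻¹ * Rf y) := fun y => by
    simp only [hRf]; split_ifs
    · rw [mul_zero]; exact (loc hM).zero_mem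
    · rw [mul_one]; exact hRinv
  set f : G → ℂ := fun y => (R.card : ℂ)⁻¹ * Rf y with hf
  have hfc : IsClassFunction G f := fun y h => by simp only [hf, hRc y h]
  set v : Zloc G hM := ⟨fun χ => omega (χ : G → ℂ) f, omega_mem_Zloc hM hfc hRm⟩ with hv
  set e : Zloc G hM := ⟨ind B, ind_mem_Zloc hM hBb⟩ with he
  have hval : ∀ χ : IrrCharacter G, MemLocalIdeal M (((v - e : Zloc G hM) : IrrCharacter G → ℂ) χ) := by
    intro χ
    show MemLocalIdeal M (omega (χ : G → ℂ) f - ind B χ)
    by_cases hχ : χ ∈ B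
    · rw [ind_of_mem hχ, memIdeal_sub_iff hM (memRing_omega hM hfc hRm χ) (loc hM).one_mem,
        res_one, Zloc_res_congr hM (omega_mem_Zloc hM hfc hRm) (χ := χ) (ψ := oneIrr G)
          (sameBlock_of_mem hM hBb hχ (oneIrr_mem hM))]
      have h1 : omega ((oneIrr G : IrrCharacter G) : G → ℂ) f = 1 := by
        simp only [omega, hf, hRf, oneIrr, mul_one, div_one, ← Finset.mul_sum]
        rw [show (∑ y : G, if p ∣ orderOf y then (0 : ℂ) else 1) = (R.card : ℂ) by
          simp [hR, Finset.sum_ite]]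
        exact inv_mul_cancel₀ (Nat.cast_ne_zero.2 fun h => hRu (h ▸ dvd_zero p))
      rw [h1, res_one]
    · rw [ind_of_notMem hχ, sub_zero]
      have h1 : omega (χ : G → ℂ) f = (R.card : ℂ)⁻¹ *
          regS p ((oneIrr G : IrrCharacter G) : G → ℂ) (χ : G → ℂ) / (χ : G → ℂ) 1 := by
        rw [regS_comm, regS_eq_sum, omega]
        congr 1
        rw [Finset.mul_sum, Finset.sum_filter]
        refine Finset.sum_congr rfl fun y _ => ?_
        simp only [hf, hRf, oneIrr]
        split_ifs <;> simp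
      rw [h1, regS_eq_zero hM (fun hs => hχ (show SameBlock M _ _ from hs)), mul_zero, zero_div]
      exact memIdeal_zero hM
  -- a large exponent
  obtain ⟨F, hF, hFmem⟩ := res_isAlgebraic_finite hM (res hM (blockCoeff B g))
  obtain ⟨i, j, hij, hpair⟩ : ∃ i j : ℕ, i < j ∧
      res hM (blockCoeff B g) ^ p ^ i = res hM (blockCoeff B g) ^ p ^ j ∧ g ^ p ^ i = g ^ p ^ j := by
    have hfin := hF.prod (Set.toFinite (Set.univ : Set G))
    obtain ⟨i, -, j, -, hne, he⟩ := Set.infinite_univ.exists_ne_map_eq_of_mapsTo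
      (f := fun i : ℕ => (res hM (blockCoeff B g) ^ p ^ i, g ^ p ^ i))
      (fun i _ => Set.mk_mem_prod (hFmem _) (Set.mem_univ _)) hfin
    obtain ⟨h1, h2⟩ := Prod.mk.inj he
    rcases lt_or_gt_of_ne hne with h | h
    · exact ⟨i, j, h, h1, h2⟩
    · exact ⟨j, i, h, h1.symm, h2.symm⟩
  set d := j - i with hd
  have hd0 : 0 < d := Nat.sub_pos_of_lt hij
  have hrd : res hM (blockCoeff B g) ^ p ^ d = res hM (blockCoeff B g) := by
    apply iterateFrobenius_inj (R := AlgInt ⧸ M) p i
    simp only [iterateFrobenius_def]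
    rw [← pow_mul, ← pow_add, Nat.sub_add_cancel hij.le, hpair.1]
  have hgd : g ^ p ^ d = g := by
    obtain ⟨m, hm⟩ := exists_pow_eq_self_of_coprime (x := g) (n := p ^ i)
      (Nat.Coprime.pow_left i ((hM.1.coprime_iff_not_dvd.2 hg)))
    calc g ^ p ^ d = ((g ^ p ^ i) ^ m) ^ p ^ d := by rw [hm]
      _ = (g ^ p ^ j) ^ m := by
        rw [show p ^ j = p ^ i * p ^ d by rw [← pow_add, Nat.add_sub_cancel' hij.le],
          ← pow_mul, ← pow_mul, ← pow_mul]
        congr 1
        ring
      _ = g := by rw [← hpair.2, hm]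
  set N := d * ((Nat.card G).factorization p + Fintype.card (IrrCharacter G) + 1) with hN
  have hiterr : ∀ t, res hM (blockCoeff B g) ^ p ^ (d * t) = res hM (blockCoeff B g) := by
    intro t
    induction t with
    | zero => simp
    | succ t ih => rw [Nat.mul_succ, pow_add, pow_mul, ih, hrd]
  have hiterg : ∀ t, g ^ p ^ (d * t) = g := by
    intro t
    induction t with
    | zero => simp
    | succ t ih => rw [Nat.mul_succ, pow_add, pow_mul, ih, hgd]
  have hNle : (Nat.card G).factorization p + Fintype.card (IrrCharacter G) + 1 ≤ N :=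
    Nat.le_mul_of_pos_left _ hd0
  have hNbig : Fintype.card (IrrCharacter G) ≤ p ^ N :=
    le_trans (by omega) (Nat.lt_pow_self hM.1.one_lt).le
  -- the power of `f` is the idempotent
  have hpow : toAlg hM (v : IrrCharacter G → ℂ) ^ p ^ N = toAlg hM (ind B) := by
    have hJ : (v - e) ^ p ^ N ∈ Jloc G hM := by
      rw [← Nat.sub_add_cancel hNbig, pow_add]
      exact Ideal.mul_mem_left _ _ (pow_mem_Jloc hM (v - e) hval)
    have he2 : toAlg hM ((e * e : Zloc G hM) : IrrCharacter G → ℂ) = toAlg hM (ind B) := by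
      congr 1
      funext χ
      show ind B χ * ind B χ = ind B χ
      by_cases h : χ ∈ B
      · rw [ind_of_mem h, mul_one]
      · rw [ind_of_notMem h, mul_zero]
    have hz : toAlg hM (((v - e) ^ p ^ N : Zloc G hM) : IrrCharacter G → ℂ) = 0 := by
      unfold toAlg
      refine Finset.sum_eq_zero fun y _ => ?_
      rw [(res_eq_zero_iff hM (((v - e) ^ p ^ N : Zloc G hM).2 y)).2 (hJ y), MonoidAlgebra.single_zero]
    have hadd : toAlg hM (v : IrrCharacter G → ℂ) =
        toAlg hM ((v - e : Zloc G hM) : IrrCharacter G → ℂ) + toAlg hM (e : IrrCharacter G → ℂ) := by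
      unfold toAlg
      rw [← Finset.sum_add_distrib]
      refine Finset.sum_congr rfl fun y _ => ?_
      rw [← MonoidAlgebra.single_add, ← res_add hM ((v - e : Zloc G hM).2 y) (e.2 y)]
      congr 2
      rw [← Pi.add_apply (f := cf _), ← cf_add, AddSubgroupClass.coe_sub, sub_add_cancel]
    have hcomm : Commute (toAlg hM ((v - e : Zloc G hM) : IrrCharacter G → ℂ))
        (toAlg hM (e : IrrCharacter G → ℂ)) := by
      show _ * _ = _ * _
      rw [← toAlg_mul, ← toAlg_mul, mul_comm]
    haveI : CharP (MonoidAlgebra (AlgInt ⧸ M) G) p :=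
      charP_of_injective_ringHom (f := MonoidAlgebra.singleOneRingHom)
        (fun a b h => by simpa using congrArg (fun x => x.coeff (1 : G)) h) p
    rw [hadd, add_pow_char_pow_of_commute (p := p) (h := hcomm), ← toAlg_pow hM _ _ (pow_pos hM.1.pos _),
      hz, zero_add]
    have hidem : IsIdempotentElem (toAlg hM (e : IrrCharacter G → ℂ)) := by
      show _ * _ = _
      rw [← toAlg_mul, he2]
    obtain ⟨m, hm⟩ := Nat.exists_eq_succ_of_ne_zero (pow_pos (n := N) hM.1.pos).ne'
    rw [hm, hidem.pow_succ_eq]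
  -- multiply by `g⁻¹` and take the coefficient at the identity
  set Ux : Finset G := Finset.univ.filter (fun x => ∃ k : ℕ, orderOf x = p ^ k) with hUx
  set a : G → AlgInt ⧸ M := fun h => res hM (cf (v : IrrCharacter G → ℂ) (h * g)) with ha
  have hsum : (∑ h, MonoidAlgebra.single h (a h) : MonoidAlgebra (AlgInt ⧸ M) G) =
      toAlg hM (v : IrrCharacter G → ℂ) * MonoidAlgebra.single g⁻¹ 1 := by
    rw [toAlg, Finset.sum_mul]
    refine Fintype.sum_equiv (Equiv.mulRight g) _ _ fun h => ?_
    rw [MonoidAlgebra.single_mul_single, mul_one]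
    simp [ha]
  have hcent : Commute (toAlg hM (v : IrrCharacter G → ℂ)) (MonoidAlgebra.single g⁻¹ 1) := by
    show _ * _ = _ * _
    rw [toAlg, Finset.sum_mul, Finset.mul_sum]
    refine Fintype.sum_equiv (MulAut.conj g).toEquiv _ _ fun h => ?_
    rw [MonoidAlgebra.single_mul_single, MonoidAlgebra.single_mul_single, mul_one, one_mul]
    simp only [MulEquiv.toEquiv_eq_coe, EquivLike.coe_coe, MulAut.conj_apply]
    congr 1
    · group
    · rw [cf_isClassFunction (v : IrrCharacter G → ℂ) h g]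
  have hkey := coeff_one_pow (k := AlgInt ⧸ M) hM.1 N a {1} (fun x y => by
    simp only [Finset.mem_singleton, conj_eq_one_iff])
  rw [Finset.sum_singleton, hsum, hcent.mul_pow, hpow, MonoidAlgebra.single_pow, one_pow,
    MonoidAlgebra.coeff_mul_single_apply, inv_pow, hiterg, inv_inv, one_mul, mul_one,
    show (toAlg hM (ind B)).coeff g = res hM (blockCoeff B g) by
      rw [toAlg, coeff_sum_single, cf_ind]] at hkey
  have hset : Finset.univ.filter (fun h : G => h ^ p ^ N ∈ ({1} : Finset G)) = Ux := by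
    ext x
    simp only [hUx, Finset.mem_filter, Finset.mem_univ, true_and, Finset.mem_singleton]
    constructor
    · intro hx
      obtain ⟨m, -, hm⟩ := (Nat.dvd_prime_pow hM.1).1 (orderOf_dvd_of_pow_eq_one hx)
      exact ⟨m, hm⟩
    · rintro ⟨m, hm⟩
      refine orderOf_dvd_iff_pow_eq_one.1 (hm ▸ pow_dvd_pow p (le_trans ?_ hNle))
      have := (hM.1.pow_dvd_iff_le_factorization Nat.card_pos.ne').1 (hm ▸ orderOf_dvd_natCard x)
      omega
  rw [hset] at hkey
  have hSval : ∑ h ∈ Ux, a h = res hM (blockCoeff B g) := by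
    apply iterateFrobenius_inj (R := AlgInt ⧸ M) p N
    simp only [iterateFrobenius_def]
    rw [← hkey, hN, hiterr]
  -- the counting side
  have hcount : ∑ h ∈ Ux, cf (v : IrrCharacter G → ℂ) (h * g) =
      (Nat.card {xy : G × G // (∃ k : ℕ, orderOf xy.1 = p ^ k) ∧ ¬ p ∣ orderOf xy.2 ∧
        xy.1 * xy.2 = g} : ℂ) / (Nat.card {y : G // ¬ p ∣ orderOf y} : ℂ) := by
    have hcf : cf (v : IrrCharacter G → ℂ) = f := cf_omega hfc
    rw [hcf, hcard, Nat.card_eq_fintype_card, Fintype.card_subtype, div_eq_mul_inv,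
      mul_comm (_ : ℂ) (R.card : ℂ)⁻¹]
    simp only [hf, ← Finset.mul_sum]
    congr 1
    rw [show ∑ h ∈ Ux, Rf (h * g) = ((Ux.filter fun h => ¬ p ∣ orderOf (h * g)).card : ℂ) by
      simp [hRf, Finset.sum_ite]]
    congr 1
    refine Finset.card_bij (fun h _ => (h⁻¹, h * g)) (fun h hh => ?_) (fun a _ b _ e => ?_)
      fun y hy => ?_
    · obtain ⟨h1, h2⟩ := Finset.mem_filter.1 hh
      refine Finset.mem_filter.2 ⟨Finset.mem_univ _, ?_, h2, inv_mul_cancel_left h g⟩
      rw [orderOf_inv]
      exact (Finset.mem_filter.1 h1).2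
    · exact inv_injective (Prod.mk.inj e).1
    · obtain ⟨-, h1, h2, h3⟩ := Finset.mem_filter.1 hy
      have h4 : y.1⁻¹ * g = y.2 := by rw [← h3, inv_mul_cancel_left]
      exact ⟨y.1⁻¹, Finset.mem_filter.2 ⟨Finset.mem_filter.2 ⟨Finset.mem_univ _,
        by rwa [orderOf_inv]⟩, h4.symm ▸ h2⟩, Prod.ext (inv_inv _) h4⟩
  rw [← hcount, memIdeal_sub_iff hM (memRing_blockCoeff hM hBb g)
    ((loc hM).sum_mem fun h _ => v.2 _), ← hSval, res_sum hM fun h _ => v.2 _]

end main

end CfsgLib.Blocks
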