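import Cfsg.Agent.Lib.Blocks.BlockAlgebra
import Cfsg.Agent.Lib.Blocks.Kulshammer
import Cfsg.Agent.Lib.Blocks.SecondMain
import Cfsg.Agent.Lib.Blocks.SmallAlgebra
import Cfsg.Agent.Lib.Blocks.Rank

/-!
# Trace functions of a block idempotent modulo `M`
-/

namespace CfsgLib.Blocks

open Cfsg CfsgLib.CharTheory MonoidAlgebra
open scoped ComplexConjugate

set_option synthInstance.maxHeartbeats 200000
set_option linter.unusedVariables false
set_option linter.unusedSimpArgs false
set_option linter.style.haveILetI false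
set_option linter.unusedSectionVars false

universe u

variable {p : ℕ} {M : Ideal AlgInt} [M.IsMaximal] {G : Type u} [Group G] [Fintype G]

attribute [local instance] Ideal.Quotient.field

theorem traces_indep {k : Type*} [Field k] {H : Type*} [Group H] [Fintype H] {ι : Type*}
    [Fintype ι] (F : ι → (MonoidAlgebra k H →ₗ[k] k)) (hli : LinearIndependent k F) (c : ι → k)
    (hc : ∀ g, ∑ i, c i * F i (of k H g) = 0) : c = 0 := by
  classical
  have h0 : ∑ i, c i • F i = 0 := LinearMap.ext fun x => by
    induction x using MonoidAlgebra.induction_linear with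
    | zero => simp
    | add u v hu hv => rw [map_add, map_add, hu, hv]
    | single g r =>
      rw [show MonoidAlgebra.single g r = r • MonoidAlgebra.of k H g by simp, map_smul, map_smul]
      congr 1
      simpa [LinearMap.sum_apply] using hc g
  exact funext (Fintype.linearIndependent_iff.1 hli c h0)

theorem coeff_toAlg (hM : IsPModular p M) (v : IrrCharacter G → ℂ) (g : G) :
    (toAlg hM v).coeff g = res hM (cf v g) := by
  classical
  rw [toAlg, coeff_sum, Finsupp.finsetSum_apply, Finset.sum_eq_single g]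
  · rw [coeff_single, Finsupp.single_eq_same]
  · intro x _ hx
    rw [coeff_single, Finsupp.single_eq_of_ne hx.symm]
  · simp

theorem toAlg_central (hM : IsPModular p M) (v : IrrCharacter G → ℂ)
    (x : MonoidAlgebra (AlgInt ⧸ M) G) : toAlg hM v * x = x * toAlg hM v := by
  induction x using MonoidAlgebra.induction_linear with
  | zero => simp
  | add u w hu hw => simp only [mul_add, add_mul, hu, hw]
  | single g r =>
    rw [show MonoidAlgebra.single g r = r • MonoidAlgebra.of (AlgInt ⧸ M) G g by simp,
      mul_smul_comm, smul_mul_assoc]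
    congr 1
    refine MonoidAlgebra.ext (Finsupp.ext fun a => ?_)
    rw [coeff_mul_of, coeff_of_mul, coeff_toAlg, coeff_toAlg]
    congr 1
    have := cf_isClassFunction v (g⁻¹ * a) g
    rw [mul_inv_cancel_left] at this
    exact this

theorem toAlg_zero (hM : IsPModular p M) : toAlg hM (0 : IrrCharacter G → ℂ) = 0 := by
  refine MonoidAlgebra.ext (Finsupp.ext fun a => ?_)
  rw [coeff_toAlg]
  simp [cf, res_zero hM]

theorem toAlg_add (hM : IsPModular p M) (v w : Zloc G hM) :
    toAlg hM ((v + w : Zloc G hM) : IrrCharacter G → ℂ) =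
      toAlg hM (v : IrrCharacter G → ℂ) + toAlg hM (w : IrrCharacter G → ℂ) := by
  refine MonoidAlgebra.ext (Finsupp.ext fun a => ?_)
  rw [coeff_add, Finsupp.add_apply, coeff_toAlg, coeff_toAlg, coeff_toAlg, Subring.coe_add, cf_add]
  exact res_add hM (v.2 a) (w.2 a)

theorem toAlg_sub (hM : IsPModular p M) (v w : Zloc G hM) :
    toAlg hM ((v - w : Zloc G hM) : IrrCharacter G → ℂ) =
      toAlg hM (v : IrrCharacter G → ℂ) - toAlg hM (w : IrrCharacter G → ℂ) := by
  rw [eq_sub_iff_add_eq, ← toAlg_add, sub_add_cancel]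

theorem toAlg_sum (hM : IsPModular p M) {ι : Type*} (s : Finset ι) (v : ι → Zloc G hM) :
    toAlg hM ((∑ i ∈ s, v i : Zloc G hM) : IrrCharacter G → ℂ) =
      ∑ i ∈ s, toAlg hM (v i : IrrCharacter G → ℂ) := by
  classical
  induction s using Finset.induction_on with
  | empty => simpa using toAlg_zero hM
  | @insert a s ha ih => rw [Finset.sum_insert ha, toAlg_add, ih, Finset.sum_insert ha]

theorem toAlg_isNilpotent (hM : IsPModular p M) (v : Zloc G hM)
    (hv : ∀ χ, MemLocalIdeal M ((v : IrrCharacter G → ℂ) χ)) :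
    ∃ m : ℕ, toAlg hM (v : IrrCharacter G → ℂ) ^ m = 0 := by
  haveI : Nonempty (IrrCharacter G) := ⟨oneIrr G⟩
  refine ⟨Fintype.card (IrrCharacter G), ?_⟩
  rw [← toAlg_pow hM v _ Fintype.card_pos]
  refine MonoidAlgebra.ext (Finsupp.ext fun a => ?_)
  rw [coeff_toAlg]
  have h1 := pow_mem_Jloc hM v hv a
  simpa using (res_eq_zero_iff hM ((v ^ Fintype.card (IrrCharacter G) : Zloc G hM).2 a)).2 h1

/-- Independent trace functions of a block idempotent modulo `M` number at most the members of the
block, and at most its rank if they are constant on `p`-sections. -/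
theorem card_le_of_traces [Fact p.Prime] (hM : IsPModular p M) {B : Set (IrrCharacter G)}
    (hB : IsPBlock M B) {ι : Type*} [Fintype ι]
    (F : ι → (MonoidAlgebra (AlgInt ⧸ M) G →ₗ[AlgInt ⧸ M] (AlgInt ⧸ M)))
    (htr : ∀ i x y, F i (x * y) = F i (y * x))
    (hfix : ∀ i x, F i (x * toAlg hM (ind B)) = F i x)
    (hli : LinearIndependent (AlgInt ⧸ M) F) :
    Fintype.card ι ≤ (bset B).card ∧
      ((∀ i (z w : G), Commute z w → (∃ j : ℕ, orderOf z = p ^ j) →
          F i (of _ G (z * w)) = F i (of _ G w)) → Fintype.card ι ≤ blockRank p B) := by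
  classical
  set b : G → ℂ := blockCoeff B with hb
  have hbm : ∀ g, MemLocalRing M (b g) := memRing_blockCoeff hM hB
  have hbcl : IsClassFunction G b := by rw [hb, ← cf_ind]; exact cf_isClassFunction _
  have hbω : ∀ χ : IrrCharacter G, omega (χ : G → ℂ) b = ind B χ := fun χ => by
    rw [hb, ← cf_ind, omega_cf]
  have hexp : ∀ i (x : MonoidAlgebra (AlgInt ⧸ M) G),
      F i x = ∑ g, x.coeff g * F i (of _ G g) := by
    intro i x
    induction x using MonoidAlgebra.induction_linear with
    | zero => simp
    | add u v hu hv => simp [hu, hv, Finset.sum_add_distrib, add_mul]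
    | single g r =>
      rw [Finset.sum_eq_single g (fun h _ hh => by
        rw [coeff_single, Finsupp.single_eq_of_ne hh, zero_mul]) (by simp),
        coeff_single, Finsupp.single_eq_same,
        show MonoidAlgebra.single g r = r • MonoidAlgebra.of (AlgInt ⧸ M) G g by simp, map_smul,
        smul_eq_mul]
  set f : ι → G → AlgInt ⧸ M := fun i g => F i (of _ G g) with hf
  have hfcl : ∀ i g h, f i (h * g * h⁻¹) = f i g := by
    intro i g h
    show F i _ = F i _
    rw [map_mul, htr, ← map_mul]
    congr 2
    group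
  have hffix : ∀ i g, f i g = ∑ x, res hM (b (x * g⁻¹)) * f i x := by
    intro i g
    show F i _ = _
    rw [← hfix, ← toAlg_central, hexp]
    exact Finset.sum_congr rfl fun x _ => by rw [coeff_mul_of, coeff_toAlg, cf_ind]
  have hsurj : ∀ x : AlgInt ⧸ M, ∃ z : ℂ, MemLocalRing M z ∧ res hM z = x := by
    intro x
    obtain ⟨z, rfl⟩ := Ideal.Quotient.mk_surjective x
    exact ⟨_, memRing_coe hM z, res_coe hM z⟩
  choose lift hliftm hlift using hsurj
  set L : ι → G → ℂ := fun i g => lift (f i g) with hL
  have hLcl : ∀ i, IsClassFunction G (L i) := fun i g h => by simp only [hL, hfcl i g h]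
  set hf' : ι → G → ℂ := fun i g => ∑ x, b (x * g⁻¹) * L i x with hh
  have hres : ∀ i g, MemLocalRing M (hf' i g) ∧ res hM (hf' i g) = f i g := by
    intro i g
    have hm : ∀ x ∈ (Finset.univ : Finset G), MemLocalRing M (b (x * g⁻¹) * L i x) :=
      fun x _ => (loc hM).mul_mem (hbm _) (hliftm _)
    refine ⟨memRing_sum hM hm, ?_⟩
    rw [hh, res_sum hM hm, hffix i g]
    exact Finset.sum_congr rfl fun x _ => by rw [res_mul hM (hbm _) (hliftm _), hlift]
  have hspan : ∀ i g, hf' i g =
      ∑ χ ∈ bset B, classInner (L i) (χ : G → ℂ) * (χ : G → ℂ) g := by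
    intro i g
    rw [← sum_ind_mul B, hh]
    simp only []
    rw [Finset.sum_congr rfl fun x _ => show b (x * g⁻¹) * L i x =
      ∑ χ : IrrCharacter G, classInner (L i) (χ : G → ℂ) * (b (x * g⁻¹) * (χ : G → ℂ) x) by
        conv_lhs => rw [eq_sum_irr (hLcl i)]
        simp only [Finset.sum_apply, Pi.smul_apply, smul_eq_mul, Finset.mul_sum]
        exact Finset.sum_congr rfl fun χ _ => by ring, Finset.sum_comm]
    refine Finset.sum_congr rfl fun χ _ => ?_
    rw [← Finset.mul_sum]
    have hshift : ∑ x, b (x * g⁻¹) * (χ : G → ℂ) x = ind B χ * (χ : G → ℂ) g := by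
      rw [← hbω χ, ← sum_classFun_mul_shift hbcl χ g]
      refine Fintype.sum_equiv (Equiv.mulRight g⁻¹) _ _ fun x => ?_
      simp
    rw [hshift]
    ring
  -- independence on a set of points lifts
  have key : ∀ (R : Set G), (∀ c : ι → AlgInt ⧸ M, (∀ g ∈ R, ∑ i, c i * f i g = 0) → c = 0) →
      ∀ d : ι → ℂ, (∀ g ∈ R, ∑ i, d i * hf' i g = 0) → d = 0 := by
    intro R hR
    set vec : G → (ι → AlgInt ⧸ M) := fun g i => f i g
    have hspanR : Submodule.span (AlgInt ⧸ M) (vec '' R) = ⊤ := by
      by_contra hne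
      obtain ⟨φ, hφ, hφ'⟩ := Submodule.exists_le_ker_of_lt_top _ (Ne.lt_top hne)
      apply hφ
      refine LinearMap.pi_ext' fun i => LinearMap.ext_ring ?_
      have h1 := hR (fun j => φ (Pi.single j 1)) fun g hg => by
        have h2 : φ (vec g) = 0 := hφ' (Submodule.subset_span ⟨g, hg, rfl⟩)
        rw [pi_eq_sum_univ' (vec g), map_sum] at h2
        simp only [map_smul, smul_eq_mul] at h2
        rw [← h2]
        exact Finset.sum_congr rfl fun j _ => mul_comm _ _
      exact congrFun h1 i
    obtain ⟨S, hSR, hSspan, hSli⟩ := exists_linearIndependent (AlgInt ⧸ M) (vec '' R)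
    rw [hspanR] at hSspan
    haveI : Fintype S := hSli.setFinite.fintype
    let bS := Module.Basis.mk hSli (by rw [Subtype.range_coe_subtype, Set.setOf_mem_eq, hSspan])
    have hcard : Fintype.card ι = Fintype.card S := by
      rw [← Module.finrank_fintype_fun_eq_card (R := AlgInt ⧸ M) (η := ι),
        Module.finrank_eq_card_basis bS]
    obtain ⟨es⟩ : Nonempty (ι ≃ S) := ⟨Fintype.equivOfCardEq hcard⟩
    choose pt hptR hpt using fun j : ι => hSR (es j).2
    set A : Matrix ι ι (loc hM) := Matrix.of fun j i => ⟨hf' i (pt j), (hres i (pt j)).1⟩ with hA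
    have hAres : A.map (resHom hM) = Matrix.of fun j => ((es j : S) : ι → AlgInt ⧸ M) := by
      ext j i
      rw [Matrix.map_apply, hA, Matrix.of_apply, resHom_apply, Matrix.of_apply, ← hpt j]
      exact (hres i (pt j)).2
    have hunit : IsUnit (A.map (resHom hM)) := by
      rw [← Matrix.linearIndependent_rows_iff_isUnit, hAres]
      exact hSli.comp _ es.injective
    have hdet : A.det ≠ 0 ∧ ((A.det : loc hM) : ℂ) ≠ 0 := by
      have h1 : resHom hM A.det ≠ 0 := by
        rw [RingHom.map_det, RingHom.mapMatrix_apply]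
        exact ((Matrix.isUnit_iff_isUnit_det _).1 hunit).ne_zero
      exact ⟨fun h0 => h1 (by rw [h0, map_zero]),
        fun h0 => h1 (by rw [show A.det = 0 from Subtype.ext h0, map_zero])⟩
    intro d hd
    have hA' : (A.map (loc hM).subtype).det ≠ 0 := by
      rw [← RingHom.mapMatrix_apply, ← RingHom.map_det]
      exact hdet.2
    refine Matrix.eq_zero_of_mulVec_eq_zero hA' (funext fun j => ?_)
    rw [Matrix.mulVec, dotProduct, Pi.zero_apply, ← hd (pt j) (hptR j)]
    exact Finset.sum_congr rfl fun i _ => mul_comm _ _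
  have hli' : ∀ c : ι → AlgInt ⧸ M, (∀ g, ∑ i, c i * f i g = 0) → c = 0 := fun c hc =>
    traces_indep F hli c hc
  refine ⟨?_, fun hsec => ?_⟩
  · have hind : LinearIndependent ℂ (fun i => (hf' i : G → ℂ)) := by
      rw [Fintype.linearIndependent_iff]
      intro d hd
      refine congrFun (key Set.univ (fun c hc => hli' c fun g => hc g (Set.mem_univ _)) d fun g _ => ?_)
      have := congrFun hd g
      simpa using this
    set W := Submodule.span ℂ (Set.range fun χ : ↥(bset B) => ((χ : IrrCharacter G) : G → ℂ))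
    have hW : ∀ i, hf' i ∈ W := fun i => by
      rw [show hf' i = ∑ χ ∈ bset B, classInner (L i) (χ : G → ℂ) • (χ : G → ℂ) from
        funext fun g => by simp [hspan]]
      exact Submodule.sum_mem _ fun χ hχ => W.smul_mem _ (Submodule.subset_span ⟨⟨χ, hχ⟩, rfl⟩)
    have h2 : LinearIndependent ℂ fun i => (⟨hf' i, hW i⟩ : W) :=
      LinearIndependent.of_comp W.subtype hind
    exact (h2.fintype_card_le_finrank.trans (finrank_range_le_card _)).trans_eq (Fintype.card_coe _)
  · have hsec' : ∀ i g, ∃ w, ¬ p ∣ orderOf w ∧ f i g = f i w := by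
      intro i g
      obtain ⟨z, w, hzw, hc, hz, hw, -⟩ := exists_pPart hM.1 g
      exact ⟨w, hw, by rw [← hzw]; exact hsec i z w hc hz⟩
    have hregR : ∀ c : ι → AlgInt ⧸ M,
        (∀ g ∈ {g : G | ¬ p ∣ orderOf g}, ∑ i, c i * f i g = 0) → c = 0 := by
      intro c hc
      refine hli' c fun g => ?_
      obtain ⟨z, w, hzw, hcm, hz, hw, -⟩ := exists_pPart hM.1 g
      rw [← hc w hw]
      refine Finset.sum_congr rfl fun i _ => ?_
      rw [← hzw]
      exact congrArg (c i * ·) (hsec i z w hcm hz)
    have hind : LinearIndependent ℂ (fun i => pRegularPart p (hf' i)) := by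
      rw [Fintype.linearIndependent_iff]
      intro d hd
      refine congrFun (key _ hregR d fun g hg => ?_)
      have := congrFun hd g
      simp only [Finset.sum_apply, Pi.smul_apply, pRegularPart_apply, if_neg hg, smul_eq_mul,
        Pi.zero_apply] at this
      exact this
    set W := Submodule.span ℂ
      ((fun χ : IrrCharacter G => pRegularPart p (χ : G → ℂ)) '' B) with hWdef
    have hW : ∀ i, pRegularPart p (hf' i) ∈ W := fun i => by
      rw [show pRegularPart p (hf' i) = ∑ χ ∈ bset B,
          classInner (L i) (χ : G → ℂ) • pRegularPart p (χ : G → ℂ) from funext fun g => by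
        simp only [pRegularPart_apply, Finset.sum_apply, Pi.smul_apply, smul_eq_mul]
        split_ifs
        · simp
        · exact hspan i g]
      exact Submodule.sum_mem _ fun χ hχ =>
        W.smul_mem _ (Submodule.subset_span ⟨χ, mem_bset.1 hχ, rfl⟩)
    have h2 : LinearIndependent ℂ fun i => (⟨_, hW i⟩ : W) :=
      LinearIndependent.of_comp W.subtype hind
    exact h2.fintype_card_le_finrank

end CfsgLib.Blocks
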