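import Mathlib.Algebra.MonoidAlgebra.Basic
import Mathlib.GroupTheory.Sylow
import Mathlib.LinearAlgebra.Matrix.ToLin
import Cfsg.Agent.Lib.Blocks.SmallAlgebra

/-!
# Modular group algebras: projective left ideals and the cocenter of a block ideal
-/

namespace CfsgLib.Blocks

open Module MonoidAlgebra

set_option linter.unusedVariables false
set_option linter.unusedSimpArgs false
set_option linter.unusedSectionVars false

section

variable {k : Type*} [Field k] {G : Type*} [Group G] [Finite G]

local notation "KG" => MonoidAlgebra k G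

theorem coeff_of_mul (g : G) (v : KG) (a : G) :
    (MonoidAlgebra.of k G g * v).coeff a = v.coeff (g⁻¹ * a) := by
  rw [MonoidAlgebra.of_apply, coeff_single_mul_eq_mul_coeff (g⁻¹ * a)
    (fun m' _ => eq_inv_mul_iff_mul_eq.symm), one_mul]

theorem coeff_mul_of (g : G) (v : KG) (a : G) :
    (v * MonoidAlgebra.of k G g).coeff a = v.coeff (a * g⁻¹) := by
  rw [MonoidAlgebra.of_apply, coeff_mul_single_eq_coeff_mul (a * g⁻¹)
    (fun m' _ => eq_mul_inv_iff_mul_eq.symm), mul_one]

/-- A nonzero subspace stable under a `p`-group in characteristic `p` has a nonzero fixed vector. -/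
theorem exists_fixed_vector {p : ℕ} [Fact p.Prime] [CharP k p] {P : Type*} [Group P] [Finite P]
    (hP : IsPGroup p P) {V : Type*} [AddCommGroup V] [Module k V] (ρ : P →* (V →ₗ[k] V)) {v : V}
    (hv : v ≠ 0) (W : Submodule k V) (hW : v ∈ W) (hst : ∀ g, ∀ w ∈ W, ρ g w ∈ W) :
    ∃ w ∈ W, w ≠ 0 ∧ ∀ g, ρ g w = w := by
  classical
  haveI := Fintype.ofFinite P
  haveI : NeZero p := ⟨(Fact.out : p.Prime).ne_zero⟩
  let Φ : (P → ZMod p) →+ V :=
    { toFun := fun c => ∑ x, (ZMod.cast (c x) : k) • ρ x v
      map_zero' := by simp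
      map_add' := fun a b => by
        rw [← Finset.sum_add_distrib]
        exact Finset.sum_congr rfl fun x _ => by
          rw [Pi.add_apply, ZMod.cast_add (dvd_refl p), add_smul] }
  let S : AddSubgroup V := Φ.range
  have hsS : ∀ g : P, ∀ w ∈ S, ρ g w ∈ S := by
    rintro g _ ⟨c, rfl⟩
    refine ⟨fun x => c (g⁻¹ * x), ?_⟩
    show ∑ x, _ = ρ g (∑ x, _)
    rw [map_sum]
    refine Fintype.sum_equiv (Equiv.mulLeft g⁻¹) _ _ fun x => ?_
    simp only [Equiv.coe_mulLeft, map_smul]
    congr 1
    rw [← Module.End.mul_apply, ← map_mul, mul_inv_cancel_left]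
  letI : MulAction P S :=
    { smul := fun g w => ⟨ρ g w, hsS g w w.2⟩
      one_smul := fun w => Subtype.ext (by show ρ 1 (w : V) = w; rw [map_one]; rfl)
      mul_smul := fun g h w => Subtype.ext (by
        show ρ (g * h) (w : V) = ρ g (ρ h (w : V)); rw [map_mul]; rfl) }
  haveI : Finite S := Finite.of_surjective Φ.rangeRestrict Φ.rangeRestrict_surjective
  have hvS : v ∈ S := ⟨Pi.single 1 1, by
    show ∑ x, _ = v
    rw [Finset.sum_eq_single 1 (fun x _ hx => by simp [hx]) (by simp), Pi.single_eq_same,
      ZMod.cast_one (dvd_refl p), one_smul, map_one]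
    rfl⟩
  have hord : addOrderOf (⟨v, hvS⟩ : S) = p := by
    refine addOrderOf_eq_prime (Subtype.ext ?_) fun h => hv (congrArg Subtype.val h)
    show p • v = 0
    rw [← Nat.cast_smul_eq_nsmul k, CharP.cast_eq_zero, zero_smul]
  have hdvd : p ∣ Nat.card S := hord ▸ addOrderOf_dvd_natCard _
  obtain ⟨w, hw, hw0⟩ := hP.exists_fixed_point_of_prime_dvd_card_of_fixed_point S hdvd
    (a := (0 : S)) (fun g => Subtype.ext (map_zero (ρ g)))
  refine ⟨(w : V), ?_, fun h => hw0 (Subtype.ext h.symm), fun g => congrArg Subtype.val (hw g)⟩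
  obtain ⟨c, hc⟩ := w.2
  rw [← hc]
  exact W.sum_mem fun x _ => W.smul_mem _ (hst x v hW)

/-- The dimension of a projective left ideal is divisible by the order of a `p`-subgroup. -/
theorem card_dvd_finrank_mulRight {p : ℕ} [Fact p.Prime] [CharP k p] (P : Subgroup G)
    (hP : IsPGroup p P) (ε : KG) (hε : IsIdempotentElem ε) :
    Nat.card P ∣ finrank k (LinearMap.range (LinearMap.mulRight k ε)) := by
  classical
  haveI := Fintype.ofFinite G
  haveI := Fintype.ofFinite P
  haveI := Fintype.ofFinite (Quotient (QuotientGroup.rightRel P))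
  set Nm : KG := ∑ x : P, MonoidAlgebra.of k G (x : G) with hNm
  set Fx : Submodule k KG := LinearMap.range (LinearMap.mulLeft k Nm) with hFx
  have hNx : ∀ x : P, MonoidAlgebra.of k G (x : G) * Nm = Nm := by
    intro x
    rw [hNm, Finset.mul_sum]
    refine Fintype.sum_equiv (Equiv.mulLeft x) _ _ fun y => ?_
    rw [← map_mul]; rfl
  have hcoN : ∀ (w : KG) (a : G), (Nm * w).coeff a = ∑ x : P, w.coeff ((x : G)⁻¹ * a) := by
    intro w a
    rw [hNm, Finset.sum_mul, coeff_sum, Finsupp.finsetSum_apply]
    exact Finset.sum_congr rfl fun x _ => coeff_of_mul _ _ _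
  set π : G → Quotient (QuotientGroup.rightRel P) := Quotient.mk _ with hπ
  have hrel : ∀ a b : G, π a = π b ↔ b * a⁻¹ ∈ P := fun a b => by
    rw [hπ, Quotient.eq, QuotientGroup.rightRel_apply]
  set σ : Quotient (QuotientGroup.rightRel P) → G := Quotient.out with hσ
  have hπσ : ∀ q, π (σ q) = q := Quotient.out_eq
  -- fixed vectors are norms
  have hfix : ∀ v : KG, (∀ x : P, MonoidAlgebra.of k G (x : G) * v = v) → v ∈ Fx := by
    intro v hv
    refine ⟨∑ q, MonoidAlgebra.single (σ q) (v.coeff (σ q)), MonoidAlgebra.ext (Finsupp.ext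
      fun a => ?_)⟩
    show (Nm * _).coeff a = _
    rw [hcoN]
    have hmem : σ (π a) * a⁻¹ ∈ P := (hrel _ _).1 (hπσ (π a)).symm
    have hinv : a * (σ (π a))⁻¹ ∈ P := by
      have := P.inv_mem hmem; rwa [mul_inv_rev, inv_inv] at this
    rw [Finset.sum_eq_single (⟨a * (σ (π a))⁻¹, hinv⟩ : P)]
    · show (∑ q, _ : KG).coeff ((a * (σ (π a))⁻¹)⁻¹ * a) = _
      rw [mul_inv_rev, inv_inv, mul_assoc, inv_mul_cancel, mul_one, coeff_sum,
        Finsupp.finsetSum_apply, Finset.sum_eq_single (π a), coeff_single, Finsupp.single_eq_same]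
      · have h := congrArg (fun w : KG => w.coeff a) (hv ⟨a * (σ (π a))⁻¹, hinv⟩)
        simp only [coeff_of_mul] at h
        rw [mul_inv_rev, inv_inv, mul_assoc, inv_mul_cancel, mul_one] at h
        exact h
      · intro q _ hq
        rw [coeff_single, Finsupp.single_eq_of_ne]
        intro h
        exact hq (by rw [← hπσ q, ← h, hπσ])
      · simp
    · intro x _ hx
      rw [coeff_sum, Finsupp.finsetSum_apply]
      refine Finset.sum_eq_zero fun q _ => ?_
      rw [coeff_single, Finsupp.single_eq_of_ne]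
      intro h
      apply hx
      have hq : q = π a := by
        rw [← hπσ q, hrel, ← h, mul_inv_rev, inv_inv, ← mul_assoc, mul_inv_cancel, one_mul]
        exact x.2
      subst hq
      apply Subtype.ext
      show (x : G) = a * (σ (π a))⁻¹
      rw [← h, mul_inv_rev, inv_inv, ← mul_assoc, mul_inv_cancel, one_mul]
    · simp
  have hFxfix : ∀ v ∈ Fx, ∀ x : P, MonoidAlgebra.of k G (x : G) * v = v := by
    rintro _ ⟨w, rfl⟩ x
    show _ * (Nm * w) = Nm * w
    rw [← mul_assoc, hNx]
  -- dimension of the fixed space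
  have hFdim : finrank k Fx = Fintype.card (Quotient (QuotientGroup.rightRel P)) := by
    let E : Fx →ₗ[k] (Quotient (QuotientGroup.rightRel P) → k) :=
      { toFun := fun v q => (v : KG).coeff (σ q)
        map_add' := fun v w => by funext q; simp
        map_smul' := fun c v => by funext q; simp }
    have hEi : Function.Injective E := by
      intro v w h
      apply Subtype.ext
      refine MonoidAlgebra.ext (Finsupp.ext fun a => ?_)
      have hmem : σ (π a) * a⁻¹ ∈ P := (hrel _ _).1 (hπσ (π a)).symm
      have e : ∀ u : Fx, (u : KG).coeff a = (u : KG).coeff (σ (π a)) := fun u => by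
        have := congrArg (fun w : KG => w.coeff (σ (π a))) (hFxfix _ u.2 ⟨_, hmem⟩)
        simp only [coeff_of_mul] at this
        rwa [mul_inv_rev, inv_inv, mul_assoc, inv_mul_cancel, mul_one] at this
      rw [e v, e w]
      exact congrFun h (π a)
    have hEs : Function.Surjective E := by
      intro f
      refine ⟨⟨∑ a : G, MonoidAlgebra.single a (f (π a)), hfix _ fun x => ?_⟩, funext fun q => ?_⟩
      · refine MonoidAlgebra.ext (Finsupp.ext fun a => ?_)
        rw [coeff_of_mul, coeff_sum, Finsupp.finsetSum_apply, Finsupp.finsetSum_apply]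
        simp only [coeff_single, Finsupp.single_apply, Finset.sum_ite_eq', Finset.mem_univ, if_true]
        congr 1
        rw [hrel, mul_inv_rev, inv_inv, ← mul_assoc, mul_inv_cancel, one_mul]
        exact x.2
      · show (∑ a : G, MonoidAlgebra.single a (f (π a)) : KG).coeff (σ q) = f q
        rw [coeff_sum, Finsupp.finsetSum_apply]
        simp only [coeff_single, Finsupp.single_apply, Finset.sum_ite_eq', Finset.mem_univ, if_true]
        rw [hπσ]
    rw [(LinearEquiv.ofBijective E ⟨hEi, hEs⟩).finrank_eq, Module.finrank_fintype_fun_eq_card]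
  -- each summand
  have part : ∀ δ : KG, IsIdempotentElem δ →
      Nat.card P * finrank k ↥(Fx ⊓ LinearMap.range (LinearMap.mulRight k δ)) ≤
        finrank k (LinearMap.range (LinearMap.mulRight k δ)) := by
    intro δ hδ
    set X := LinearMap.range (LinearMap.mulRight k δ) with hX
    set F := Fx ⊓ X with hF
    let bs := Module.finBasis k F
    have hlift : ∀ i, ∃ z ∈ X, Nm * z = (bs i : KG) := by
      intro i
      obtain ⟨⟨w, hw⟩, ⟨y, hy⟩⟩ := (bs i).2
      refine ⟨w * δ, ⟨w, rfl⟩, ?_⟩
      rw [← mul_assoc, show Nm * w = (bs i : KG) from hw, ← show y * δ = (bs i : KG) from hy,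
        mul_assoc, hδ.eq]
    choose z hzX hz using hlift
    let Φ : (Fin (finrank k F) × P → k) →ₗ[k] KG :=
      { toFun := fun c => ∑ i, ∑ x : P, c (i, x) • (MonoidAlgebra.of k G (x : G) * z i)
        map_add' := fun c c' => by simp [add_smul, Finset.sum_add_distrib]
        map_smul' := fun r c => by simp [Finset.smul_sum, smul_smul] }
    have hΦX : LinearMap.range Φ ≤ X := by
      rintro _ ⟨c, rfl⟩
      show (∑ i, ∑ x : P, c (i, x) • (MonoidAlgebra.of k G (x : G) * z i)) ∈ X
      refine X.sum_mem fun i _ => X.sum_mem fun x _ => X.smul_mem _ ?_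
      obtain ⟨y, hy⟩ := hzX i
      exact ⟨MonoidAlgebra.of k G (x : G) * y, (mul_assoc _ _ _).trans (congrArg _ hy)⟩
    let ρ : P →* ((Fin (finrank k F) × P → k) →ₗ[k] (Fin (finrank k F) × P → k)) :=
      { toFun := fun g => LinearMap.funLeft k k
          (fun iy : Fin (finrank k F) × P => (iy.1, g⁻¹ * iy.2))
        map_one' := by ext c iy; simp [LinearMap.funLeft_apply]
        map_mul' := fun g h => by
          apply LinearMap.ext; intro c; funext iy
          simp [LinearMap.funLeft_apply, mul_assoc] }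
    have hker : LinearMap.ker Φ = ⊥ := by
      rw [Submodule.eq_bot_iff]
      by_contra hne
      push Not at hne
      obtain ⟨c, hc, hc0⟩ := hne
      have hst : ∀ g, ∀ w ∈ LinearMap.ker Φ, ρ g w ∈ LinearMap.ker Φ := by
        intro g w hw
        rw [LinearMap.mem_ker] at hw ⊢
        have : Φ (ρ g w) = MonoidAlgebra.of k G (g : G) * Φ w := by
          show ∑ i, ∑ x : P, w (i, g⁻¹ * x) • _ = _ * ∑ i, ∑ x : P, w (i, x) • _
          rw [Finset.mul_sum]
          refine Finset.sum_congr rfl fun i _ => ?_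
          rw [Finset.mul_sum]
          refine Fintype.sum_equiv (Equiv.mulLeft g⁻¹) _ _ fun x => ?_
          rw [Equiv.coe_mulLeft, mul_smul_comm, ← mul_assoc, ← map_mul, ← Subgroup.coe_mul,
            mul_inv_cancel_left]
        rw [this, hw, mul_zero]
      obtain ⟨w, hw, hw0, hwfix⟩ := exists_fixed_vector hP ρ hc0 (LinearMap.ker Φ) hc hst
      · apply hw0
        have hconst : ∀ i (x : P), w (i, x) = w (i, 1) := fun i x => by
          have := congrFun (hwfix x⁻¹) (i, 1)
          simpa [ρ, LinearMap.funLeft_apply] using this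
        have h0 : ∑ i, w (i, (1 : P)) • bs i = 0 := by
          apply Subtype.ext
          rw [Submodule.coe_sum]
          refine Eq.trans ?_ (LinearMap.mem_ker.1 hw)
          show _ = ∑ i, ∑ x : P, w (i, x) • (MonoidAlgebra.of k G (x : G) * z i)
          refine Finset.sum_congr rfl fun i _ => ?_
          rw [Submodule.coe_smul, ← hz i, hNm, Finset.sum_mul, Finset.smul_sum]
          exact Finset.sum_congr rfl fun x _ => by rw [hconst i x]
        have hall := Fintype.linearIndependent_iff.1 bs.linearIndependent _ h0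
        funext iy
        rw [hconst iy.1 iy.2, hall iy.1]; rfl
    refine le_trans (le_of_eq ?_) (Submodule.finrank_mono hΦX)
    rw [LinearMap.finrank_range_of_inj (LinearMap.ker_eq_bot.1 hker),
      Module.finrank_fintype_fun_eq_card, Fintype.card_prod, Fintype.card_fin,
      ← Nat.card_eq_fintype_card, mul_comm]
  set X := LinearMap.range (LinearMap.mulRight k ε) with hX
  set X' := LinearMap.range (LinearMap.mulRight k (1 - ε)) with hX'
  have h1 := part ε hε
  have h2 := part (1 - ε) hε.one_sub
  have hXX' : X ⊓ X' = ⊥ := by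
    rw [Submodule.eq_bot_iff]
    rintro v ⟨⟨a, rfl⟩, ⟨b, hb⟩⟩
    show a * ε = 0
    calc a * ε = a * ε * ε := by rw [mul_assoc, hε.eq]
      _ = b * (1 - ε) * ε := by rw [show b * (1 - ε) = a * ε from hb]
      _ = 0 := by rw [mul_assoc, sub_mul, one_mul, hε.eq, sub_self, mul_zero]
  have hsupX : X ⊔ X' = ⊤ := eq_top_iff.2 fun v _ => Submodule.mem_sup.2
    ⟨v * ε, ⟨v, rfl⟩, v * (1 - ε), ⟨v, rfl⟩, by rw [← mul_add, add_sub_cancel, mul_one]⟩
  have hsum : finrank k X + finrank k X' = Nat.card G := by
    have := Submodule.finrank_sup_add_finrank_inf_eq X X'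
    rw [hXX', hsupX, finrank_bot, add_zero, finrank_top,
      MonoidAlgebra.coeffLinearEquiv k |>.finrank_eq, Module.finrank_finsupp_self,
      ← Nat.card_eq_fintype_card] at this
    exact this.symm
  have hFsum : finrank k ↥(Fx ⊓ X) + finrank k ↥(Fx ⊓ X') = finrank k Fx := by
    have := Submodule.finrank_sup_add_finrank_inf_eq (Fx ⊓ X) (Fx ⊓ X')
    have hi : Fx ⊓ X ⊓ (Fx ⊓ X') = ⊥ :=
      le_bot_iff.1 (le_trans (inf_le_inf inf_le_right inf_le_right) hXX'.le)
    have hs : Fx ⊓ X ⊔ Fx ⊓ X' = Fx := by
      refine le_antisymm (sup_le inf_le_left inf_le_left) ?_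
      rintro _ ⟨w, rfl⟩
      refine Submodule.mem_sup.2 ⟨Nm * w * ε, ⟨⟨w * ε, (mul_assoc _ _ _).symm⟩, ⟨Nm * w, rfl⟩⟩,
        Nm * w * (1 - ε), ⟨⟨w * (1 - ε), (mul_assoc _ _ _).symm⟩, ⟨Nm * w, rfl⟩⟩, ?_⟩
      show _ = Nm * w
      rw [← mul_add, add_sub_cancel, mul_one]
    rw [hi, hs, finrank_bot, add_zero] at this
    exact this.symm
  have hidx : Nat.card P * finrank k Fx = Nat.card G := by
    rw [hFdim, ← Nat.card_eq_fintype_card,
      Nat.card_congr (QuotientGroup.quotientRightRelEquivQuotientLeftRel P),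
      ← Subgroup.index_eq_card, Subgroup.card_mul_index]
  refine ⟨finrank k ↥(Fx ⊓ X), ?_⟩
  have h3 : Nat.card P * finrank k ↥(Fx ⊓ X) + Nat.card P * finrank k ↥(Fx ⊓ X') = Nat.card G := by
    rw [← mul_add, hFsum, hidx]
  change Nat.card P * finrank k ↥(Fx ⊓ X) ≤ finrank k X at h1
  change Nat.card P * finrank k ↥(Fx ⊓ X') ≤ finrank k X' at h2
  linarith

/-- Class sum of a group algebra element. -/
noncomputable def classSum [Fintype G] [DecidableEq (ConjClasses G)] :
    KG →ₗ[k] (ConjClasses G → k) where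
  toFun x D := ∑ g ∈ Finset.univ.filter (fun g => ConjClasses.mk g = D), x.coeff g
  map_add' x y := by funext D; simp [Finset.sum_add_distrib]
  map_smul' c x := by funext D; simp [Finset.mul_sum]

/-- The bound for a block ideal of a modular group algebra with cocenter of dimension at most two. -/
theorem groupAlgebra_bound [IsAlgClosed k] {p : ℕ} [Fact p.Prime] [CharP k p]
    [Fintype G] [Fintype (ConjClasses G)] [DecidableEq (ConjClasses G)]
    (S : Sylow p G) (e : KG) (he : IsIdempotentElem e) (hc : ∀ x, e * x = x * e)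
    (rep : ConjClasses G → G) (hrep : ∀ C, ConjClasses.mk (rep C) = C)
    (T : Matrix (ConjClasses G) (ConjClasses G) k)
    (hT : ∀ D C, T D C = ∑ x ∈ Finset.univ.filter (fun x => ConjClasses.mk x = D),
      (e * MonoidAlgebra.of k G (rep C)).coeff x)
    (hrank : finrank k (LinearMap.range (Matrix.toLin' T)) ≤ 2) :
    Nat.card (S : Subgroup G) ^ 2 ∣ 2 * finrank k (LinearMap.range (LinearMap.mulLeft k e)) := by
  classical
  let I : Ideal KG := LinearMap.ker (LinearMap.toSpanSingleton KG KG e)
  have hImem : ∀ x, x ∈ I ↔ x * e = 0 := fun x => Iff.rfl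
  haveI : I.IsTwoSided := ⟨fun {a} b (ha : a * e = 0) => by
    show a * b * e = 0
    rw [mul_assoc, ← hc, ← mul_assoc, ha, zero_mul]⟩
  set q : KG →ₐ[k] KG ⧸ I := Ideal.Quotient.mkₐ k I with hqdef
  have hqs : Function.Surjective q := Ideal.Quotient.mk_surjective
  have hq0 : ∀ x, q x = 0 ↔ x * e = 0 := fun x => by
    rw [hqdef, Ideal.Quotient.mkₐ_eq_mk, Ideal.Quotient.eq_zero_iff_mem, hImem]
  have hqe : ∀ x, q (x * e) = q x := fun x => by
    rw [← sub_eq_zero, ← map_sub, hq0, sub_mul, mul_assoc, he.eq, sub_self]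
  haveI : FiniteDimensional k (KG ⧸ I) := Module.Finite.of_surjective q.toLinearMap hqs
  let Θ : (KG ⧸ I) →ₗ[k] KG :=
    (Submodule.liftQ I (LinearMap.toSpanSingleton KG KG e) le_rfl).restrictScalars k
  have hΘ : ∀ x, Θ (q x) = x * e := fun x => rfl
  have hΘi : Function.Injective Θ := by
    rw [injective_iff_map_eq_zero]
    intro a ha
    obtain ⟨x, rfl⟩ := hqs a
    rw [hΘ] at ha
    exact (hq0 x).2 ha
  have hΘr : LinearMap.range Θ = LinearMap.range (LinearMap.mulLeft k e) := by
    apply le_antisymm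
    · rintro _ ⟨a, rfl⟩
      obtain ⟨x, rfl⟩ := hqs a
      exact ⟨x, (hc x).trans (hΘ x).symm⟩
    · rintro _ ⟨x, rfl⟩
      exact ⟨q x, (hΘ x).trans (hc x).symm⟩
  rw [← hΘr, LinearMap.finrank_range_of_inj hΘi]
  let t : (KG ⧸ I) →ₗ[k] k :=
    { toFun := fun a => (Θ a).coeff 1
      map_add' := fun a b => by simp
      map_smul' := fun r a => by simp }
  have htr : ∀ x y : KG, (x * y).coeff 1 = (y * x).coeff 1 := by
    intro x y
    induction x using MonoidAlgebra.induction_linear with
    | zero => simp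
    | add a b ha hb => simp [add_mul, mul_add, ha, hb]
    | single g r =>
      rw [show MonoidAlgebra.single g r = r • MonoidAlgebra.of k G g by simp, smul_mul_assoc,
        mul_smul_comm, coeff_smul, coeff_smul, Finsupp.smul_apply, Finsupp.smul_apply,
        coeff_of_mul, coeff_mul_of, mul_one, one_mul]
  refine small_cocenter_bound ?_ t (fun a b => ?_) (fun a ha => ?_) (fun ε hε => ?_)
  · -- cocenter
    set C := commSub k (KG ⧸ I)
    set cls : G → (KG ⧸ I) ⧸ C := fun g => C.mkQ (q (MonoidAlgebra.of k G g)) with hcls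
    have hconj : ∀ g h : G, ConjClasses.mk g = ConjClasses.mk h → cls g = cls h := by
      intro g h hgh
      obtain ⟨c, rfl⟩ := isConj_iff.1 (ConjClasses.mk_eq_mk_iff_isConj.1 hgh)
      rw [hcls]
      apply (Submodule.Quotient.eq C).2
      have e2 : q (MonoidAlgebra.of k G g) - q (MonoidAlgebra.of k G (c * g * c⁻¹)) =
          q (MonoidAlgebra.of k G (g * c⁻¹)) * q (MonoidAlgebra.of k G c) -
          q (MonoidAlgebra.of k G c) * q (MonoidAlgebra.of k G (g * c⁻¹)) := by
        rw [← map_mul, ← map_mul, ← map_mul, ← map_mul, mul_assoc g, inv_mul_cancel, mul_one,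
          mul_assoc c]
      rw [e2]
      exact comm_mem k _ _
    let L : (ConjClasses G → k) →ₗ[k] (KG ⧸ I) ⧸ C :=
      { toFun := fun f => ∑ D, f D • cls (rep D)
        map_add' := fun f g => by simp [add_smul, Finset.sum_add_distrib]
        map_smul' := fun r f => by simp [Finset.smul_sum, smul_smul] }
    have hL : ∀ x : KG, L (classSum x) = C.mkQ (q x) := by
      intro x
      induction x using MonoidAlgebra.induction_linear with
      | zero => simp
      | add a b ha hb => simp only [map_add, ha, hb]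
      | single g r =>
        show ∑ D, _ • cls (rep D) = _
        rw [Finset.sum_eq_single (ConjClasses.mk g)]
        · have : (classSum (MonoidAlgebra.single g r : KG)) (ConjClasses.mk g) = r := by
            show ∑ h ∈ _, (MonoidAlgebra.single g r : KG).coeff h = r
            rw [Finset.sum_eq_single g] <;> simp +contextual [coeff_single, Finsupp.single_eq_of_ne]
          rw [this, hconj _ g (hrep _), hcls,
            show MonoidAlgebra.single g r = r • MonoidAlgebra.of k G g by simp, map_smul, map_smul]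
        · intro D _ hD
          have : (classSum (MonoidAlgebra.single g r : KG)) D = 0 := by
            refine Finset.sum_eq_zero fun h hh => ?_
            rw [coeff_single, Finsupp.single_eq_of_ne]
            rintro rfl
            exact hD (Finset.mem_filter.1 hh).2.symm
          rw [this, zero_smul]
        · simp
    have hLT : ∀ f, L (Matrix.toLin' T f) = L f := by
      have : L.comp (Matrix.toLin' T) = L := by
        apply LinearMap.pi_ext'
        intro D
        apply LinearMap.ext_ring
        show L (Matrix.toLin' T (Pi.single D 1)) = L (Pi.single D 1)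
        have e1 : Matrix.toLin' T (Pi.single D 1) =
            classSum (e * MonoidAlgebra.of k G (rep D)) := by
          rw [Matrix.toLin'_apply, Matrix.mulVec_single_one]
          exact funext fun D' => hT D' D
        rw [e1, hL, hc, hqe]
        show _ = ∑ D', (Pi.single D (1 : k) : ConjClasses G → k) D' • cls (rep D')
        rw [Finset.sum_eq_single D (fun D' _ h => by simp [h]) (by simp), Pi.single_eq_same,
          one_smul]
      exact fun f => LinearMap.congr_fun this f
    have hs : Function.Surjective (L.comp (LinearMap.range (Matrix.toLin' T)).subtype) := by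
      intro y
      obtain ⟨a, rfl⟩ := C.mkQ_surjective y
      obtain ⟨x, rfl⟩ := hqs a
      exact ⟨⟨_, classSum x, rfl⟩, (hLT _).trans (hL x)⟩
    exact (LinearMap.finrank_le_finrank_of_surjective hs).trans hrank
  · obtain ⟨x, rfl⟩ := hqs a
    obtain ⟨y, rfl⟩ := hqs b
    show (Θ (q x * q y)).coeff 1 = (Θ (q y * q x)).coeff 1
    rw [← map_mul, ← map_mul, hΘ, hΘ, mul_assoc, htr x (y * e), mul_assoc y e x, hc x,
      ← mul_assoc]
  · obtain ⟨x, rfl⟩ := hqs a
    refine (hq0 x).2 (MonoidAlgebra.ext (Finsupp.ext fun g => ?_))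
    have h : (Θ (q x * q (MonoidAlgebra.of k G g⁻¹))).coeff 1 = 0 := ha _
    rw [← map_mul, hΘ, mul_assoc, ← hc, ← mul_assoc, coeff_mul_of, inv_inv, one_mul] at h
    rw [h]; rfl
  · obtain ⟨x, rfl⟩ := hqs ε
    have hy : IsIdempotentElem (x * e) := by
      have h : q (x * x) = q x := by rw [map_mul]; exact hε.eq
      rw [← sub_eq_zero, ← map_sub, hq0, sub_mul, sub_eq_zero] at h
      show x * e * (x * e) = x * e
      rw [mul_assoc, ← mul_assoc e x e, hc x, mul_assoc x e e, he.eq, ← mul_assoc]
      exact h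
    have hmap : (LinearMap.range (LinearMap.mulRight k (q x))).map Θ =
        LinearMap.range (LinearMap.mulRight k (x * e)) := by
      apply le_antisymm
      · rintro _ ⟨_, ⟨a, rfl⟩, rfl⟩
        obtain ⟨y, rfl⟩ := hqs a
        refine ⟨y, ?_⟩
        show y * (x * e) = Θ (q y * q x)
        rw [← map_mul, hΘ, mul_assoc]
      · rintro _ ⟨y, rfl⟩
        refine ⟨q y * q x, ⟨q y, rfl⟩, ?_⟩
        show Θ (q y * q x) = y * (x * e)
        rw [← map_mul, hΘ, mul_assoc]
    rw [(Submodule.equivMapOfInjective Θ hΘi _).finrank_eq, hmap]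
    exact card_dvd_finrank_mulRight (S : Subgroup G) S.2 _ hy

end

end CfsgLib.Blocks
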