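import Cfsg.Agent.Lib.Blocks.CyclicCore
import Cfsg.Agent.Lib.Blocks.GroupAlgebra
import Mathlib.GroupTheory.Coset.Card
import Mathlib.Algebra.CharP.Lemmas
import Mathlib.Algebra.CharP.Algebra
import Mathlib.RingTheory.Polynomial.Cyclotomic.Roots
import Mathlib.FieldTheory.IsAlgClosed.Basic
import Mathlib.RingTheory.RootsOfUnity.PrimitiveRoots

/-!
# The normalizer of the subgroup of order `p` acting on the socle of a cyclic core
-/

namespace CfsgLib.Blocks

open Module MonoidAlgebra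

set_option linter.unusedVariables false
set_option linter.unusedSimpArgs false
set_option linter.unusedSectionVars false
set_option linter.style.haveILetI false

namespace CyclicRep

variable {k : Type*} [Field k] {G : Type*} [Group G] [Fintype G]

local notation "KG" => MonoidAlgebra k G

/-- The group algebra of a subgroup inside that of the group. -/
noncomputable def supp (k : Type*) [Field k] {G : Type*} [Group G] (C : Subgroup G) :
    Subalgebra k (MonoidAlgebra k G) :=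
  (MonoidAlgebra.mapDomainAlgHom k k C.subtype).range

theorem of_mem_supp {C : Subgroup G} {c : G} (hc : c ∈ C) : of k G c ∈ supp k C :=
  ⟨of k C ⟨c, hc⟩, by
    show (MonoidAlgebra.mapDomainAlgHom k k C.subtype) (MonoidAlgebra.single (⟨c, hc⟩ : C) (1 : k)) = _
    simp [MonoidAlgebra.of_apply]⟩

theorem supp_induction {C : Subgroup G} {motive : KG → Prop} {x : KG} (hx : x ∈ supp k C)
    (hadd : ∀ u v, motive u → motive v → motive (u + v)) (h0 : motive 0)
    (hof : ∀ (r : k) (c : G), c ∈ C → motive (r • of k G c)) : motive x := by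
  obtain ⟨y, rfl⟩ := hx
  induction y using MonoidAlgebra.induction_linear with
  | zero => simpa using h0
  | add u v hu hv =>
    show motive ((MonoidAlgebra.mapDomainAlgHom k k C.subtype) (u + v))
    rw [map_add]
    exact hadd _ _ hu hv
  | single c r =>
    have e : (MonoidAlgebra.mapDomainAlgHom k k C.subtype) (MonoidAlgebra.single c r) =
        r • of k G (c : G) := by simp [MonoidAlgebra.of_apply]
    exact e ▸ hof r c c.2

/-- Conjugation. -/
noncomputable def conjK (g : G) (x : KG) : KG := of k G g * x * of k G g⁻¹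

theorem conjK_mul (g : G) (x y : KG) : conjK g (x * y) = conjK g x * conjK g y := by
  simp only [conjK, mul_assoc]
  rw [← mul_assoc (of k G g⁻¹) (of k G g), ← map_mul, inv_mul_cancel, map_one, one_mul]

theorem conjK_conjK (g h : G) (x : KG) : conjK g (conjK h x) = conjK (g * h) x := by
  simp only [conjK, mul_inv_rev, map_mul, mul_assoc]

theorem conjK_one (x : KG) : conjK 1 x = x := by
  rw [conjK, inv_one, map_one, one_mul, mul_one]

theorem conjK_of (g h : G) : conjK (k := k) g (of k G h) = of k G (g * h * g⁻¹) := by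
  simp only [conjK, ← map_mul]

theorem conjK_add (g : G) (x y : KG) : conjK g (x + y) = conjK g x + conjK g y := by
  simp only [conjK, mul_add, add_mul]

theorem conjK_smul (g : G) (r : k) (x : KG) : conjK g (r • x) = r • conjK g x := by
  simp only [conjK, mul_smul_comm, smul_mul_assoc]

theorem conjK_zero (g : G) : conjK g (0 : KG) = 0 := by simp [conjK]

theorem conjK_pow (g : G) (x : KG) : ∀ n : ℕ, conjK g (x ^ n) = conjK g x ^ n := by
  intro n
  induction n with
  | zero => rw [pow_zero, pow_zero, conjK, mul_one, ← map_mul, mul_inv_cancel, map_one]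
  | succ n ih => rw [pow_succ, pow_succ, conjK_mul, ih]

theorem of_mul_eq_conjK (g : G) (x : KG) : of k G g * x = conjK g x * of k G g := by
  rw [conjK, mul_assoc, ← map_mul, inv_mul_cancel, map_one, mul_one]

theorem conjK_mem {C : Subgroup G} {g : G} (hg : ∀ c ∈ C, g * c * g⁻¹ ∈ C) {x : KG}
    (hx : x ∈ supp k C) : conjK g x ∈ supp k C := by
  refine supp_induction (motive := fun y => conjK g y ∈ supp k C) hx (fun u v hu hv => ?_) ?_
    fun r c hc => ?_
  · rw [conjK_add]; exact add_mem hu hv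
  · rw [conjK_zero]; exact zero_mem _
  · rw [conjK_smul, conjK_of]; exact (supp k C).smul_mem (of_mem_supp (hg c hc)) r

/-- The cosets of `P` inside `C`. -/
noncomputable def cosets (P C : Subgroup G) : Finset (G ⧸ P) :=
  haveI := Classical.decPred fun q : G ⧸ P => q.out ∈ C
  haveI := Fintype.ofFinite (G ⧸ P)
  Finset.univ.filter fun q => q.out ∈ C

theorem mem_cosets {P C : Subgroup G} {q : G ⧸ P} : q ∈ cosets P C ↔ q.out ∈ C := by
  simp [cosets]

theorem out_mem_iff {P C : Subgroup G} (hPC : P ≤ C) (g : G) :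
    ((QuotientGroup.mk g : G ⧸ P)).out ∈ C ↔ g ∈ C := by
  obtain ⟨u, hu⟩ := QuotientGroup.mk_out_eq_mul P g
  rw [hu]
  exact C.mul_mem_cancel_right (hPC u.2)

/-- The local hypotheses. -/
structure LocalSetup (p : ℕ) (P C T : Subgroup G) (z t : G) (e : ℕ)
    (e1 q ε w : MonoidAlgebra k G) (N n : ℕ) (a b : Fin n → MonoidAlgebra k G) : Prop where
  prime : p.Prime
  char : CharP k p
  zP : z ∈ P
  z1 : z ≠ 1
  zp : z ^ p = 1
  zmin : ∀ v ∈ P, v ≠ 1 → Subgroup.zpowers z ≤ Subgroup.zpowers v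
  hC : ∀ x : G, x ∈ C ↔ x * z = z * x
  PC : P ≤ C
  CT : C ≤ T
  TN : T ≤ Subgroup.normalizer ((Subgroup.zpowers z : Subgroup G) : Set G)
  tT : t ∈ T
  te : t ^ e ∈ C
  gen : ∀ x ∈ T, ∃! i : ℕ, i < e ∧ (t ^ i)⁻¹ * x ∈ C
  e_ne : (e : k) ≠ 0
  core : PiCore k (supp k C) e1 q ε N n a b
  e_inv : ∀ x ∈ T, of k G x * e1 = e1 * of k G x
  orth : ∀ g ∈ Subgroup.normalizer ((Subgroup.zpowers z : Subgroup G) : Set G), g ∉ T →
    e1 * conjK g e1 = 0
  w_mem : w ∈ supp k C
  we : w * e1 = w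
  w_fix : ∀ u ∈ P, of k G u * w = w * of k G u
  trace : ∑ y ∈ cosets P C, conjK y.out w = e1

/-- A representation of the subgroup `T`, extended by junk. -/
structure IsTRep (T : Subgroup G) {W : Type*} [AddCommGroup W] [Module k W]
    (σ : G → Module.End k W) : Prop where
  one : σ 1 = 1
  mul : ∀ x ∈ T, ∀ y ∈ T, σ (x * y) = σ x * σ y

/-- A trace from the trivial subgroup. -/
def IsTr (T : Subgroup G) [Fintype T] {V W : Type*} [AddCommGroup V] [Module k V] [AddCommGroup W]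
    [Module k W] (R : KG →ₐ[k] Module.End k V) (σ : G → Module.End k W) (f : V →ₗ[k] W) : Prop :=
  ∃ h : V →ₗ[k] W, ∀ v : V, f v = ∑ x : T, σ (x : G) (h (R (of k G (x : G)⁻¹) v))

/-- Equivariance. -/
def IsEq (T : Subgroup G) {V W : Type*} [AddCommGroup V] [Module k V] [AddCommGroup W]
    [Module k W] (R : KG →ₐ[k] Module.End k V) (σ : G → Module.End k W) (f : V →ₗ[k] W) : Prop :=
  ∀ x ∈ T, ∀ v : V, f (R (of k G x) v) = σ x (f v)

section tr

variable {T : Subgroup G} [Fintype T] {V W : Type*} [AddCommGroup V] [Module k V] [AddCommGroup W]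
    [Module k W] {R : MonoidAlgebra k G →ₐ[k] Module.End k V} {σ : G → Module.End k W}

theorem R_comp (x y : G) (v : V) :
    R (of k G x) (R (of k G y) v) = R (of k G (x * y)) v := by
  rw [map_mul (of k G), map_mul R, Module.End.mul_apply]

theorem R_one (v : V) : R (of k G 1) v = v := by rw [map_one, map_one, Module.End.one_apply]

theorem isTRep_R (T : Subgroup G) : IsTRep T fun g => R (of k G g) :=
  ⟨by show R (of k G 1) = 1; rw [map_one, map_one], fun x _ y _ => by rw [map_mul, map_mul]⟩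

theorem IsTRep.comp (hσ : IsTRep T σ) {x y : G} (hx : x ∈ T) (hy : y ∈ T) (w : W) :
    σ x (σ y w) = σ (x * y) w := by
  rw [hσ.mul x hx y hy, Module.End.mul_apply]

theorem IsTr.isEq (hσ : IsTRep T σ) {f : V →ₗ[k] W} (hf : IsTr T R σ f) : IsEq T R σ f := by
  obtain ⟨h, hh⟩ := hf
  intro y hy v
  rw [hh, hh, map_sum]
  refine (Fintype.sum_equiv (Equiv.mulLeft (⟨y, hy⟩ : T)) _ _ fun x => ?_).symm
  simp only [Equiv.coe_mulLeft, Subgroup.coe_mul]
  rw [hσ.comp hy x.2, R_comp]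
  congr 4
  group

theorem IsTr.sub {f f' : V →ₗ[k] W} (hf : IsTr T R σ f) (hf' : IsTr T R σ f') :
    IsTr T R σ (f - f') := by
  obtain ⟨h, hh⟩ := hf
  obtain ⟨h', hh'⟩ := hf'
  exact ⟨h - h', fun v => by simp [hh, hh']⟩

theorem IsEq.sub {f f' : V →ₗ[k] W} (hf : IsEq T R σ f) (hf' : IsEq T R σ f') :
    IsEq T R σ (f - f') := fun x hx v => by
  rw [LinearMap.sub_apply, LinearMap.sub_apply, hf x hx v, hf' x hx v, map_sub]

end tr

/-- Extension of a homomorphism along a cyclic quotient. -/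
theorem exists_extend_rep {M : Type*} [Monoid M] {C T : Subgroup G} {t : G} {e : ℕ} (hCT : C ≤ T)
    (htT : t ∈ T) (hte : t ^ e ∈ C) (hgen : ∀ x ∈ T, ∃! i : ℕ, i < e ∧ (t ^ i)⁻¹ * x ∈ C)
    (L : C →* M) (J : M) (hnorm : ∀ c ∈ C, t * c * t⁻¹ ∈ C)
    (hJ : ∀ (c : C), J * L c = L ⟨t * c * t⁻¹, hnorm c c.2⟩ * J)
    (hJe : J ^ e = L ⟨t ^ e, hte⟩) :
    ∃ σ : G → M, σ 1 = 1 ∧ (∀ x ∈ T, ∀ y ∈ T, σ (x * y) = σ x * σ y) ∧
      (∀ c : C, σ c = L c) ∧ ∀ i : ℕ, σ (t ^ i) = J ^ i := by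
  classical
  have hnpow : ∀ (i : ℕ) (c : G), c ∈ C → t ^ i * c * (t ^ i)⁻¹ ∈ C := by
    intro i
    induction i with
    | zero => simp
    | succ i ih =>
      intro c hc
      have := hnorm _ (ih c hc)
      rwa [show t * (t ^ i * c * (t ^ i)⁻¹) * t⁻¹ = t ^ (i + 1) * c * (t ^ (i + 1))⁻¹ by group] at this
  have hJpow : ∀ (i : ℕ) (c : C), J ^ i * L c = L ⟨t ^ i * c * (t ^ i)⁻¹, hnpow i c c.2⟩ * J ^ i := by
    intro i
    induction i with
    | zero => intro c; simp
    | succ i ih =>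
      intro c
      rw [pow_succ', mul_assoc, ih, ← mul_assoc, hJ, mul_assoc]
      congr 2
      apply Subtype.ext
      show t * (t ^ i * (c : G) * (t ^ i)⁻¹) * t⁻¹ = t ^ (i + 1) * (c : G) * (t ^ (i + 1))⁻¹
      group
  let idx : ∀ x, x ∈ T → ℕ := fun x hx => (hgen x hx).choose
  have hidx : ∀ x (hx : x ∈ T), idx x hx < e ∧ (t ^ idx x hx)⁻¹ * x ∈ C := fun x hx =>
    (hgen x hx).choose_spec.1
  let σ : G → M := fun x => if hx : x ∈ T then J ^ idx x hx * L ⟨_, (hidx x hx).2⟩ else 1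
  have key : ∀ (i : ℕ) (x : G) (hx : x ∈ T) (hi : (t ^ i)⁻¹ * x ∈ C), σ x = J ^ i * L ⟨_, hi⟩ := by
    intro i
    induction i using Nat.strong_induction_on with
    | _ i ih =>
      intro x hx hi
      rcases Nat.lt_or_ge i e with hlt | hge
      · have : i = idx x hx := (hgen x hx).choose_spec.2 i ⟨hlt, hi⟩
        subst this
        exact dif_pos hx
      · obtain ⟨j, rfl⟩ := Nat.exists_eq_add_of_le' hge
        have hj : (t ^ j)⁻¹ * x ∈ C := by
          have := C.mul_mem hte hi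
          rwa [show t ^ e * ((t ^ (j + e))⁻¹ * x) = (t ^ j)⁻¹ * x by rw [pow_add]; group] at this
        have he0 : 0 < e := (Nat.zero_le _).trans_lt (hidx x hx).1
        rw [ih j (by omega) x hx hj, pow_add, mul_assoc, hJe, ← map_mul]
        congr 2
        apply Subtype.ext
        show (t ^ j)⁻¹ * x = t ^ e * ((t ^ (j + e))⁻¹ * x)
        rw [pow_add]; group
  have hL : ∀ c : C, σ c = L c := fun c => by
    rw [key 0 c (hCT c.2) (by simp)]
    simp
  have h1 : σ 1 = 1 := by rw [← OneMemClass.coe_one C, hL, map_one]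
  refine ⟨σ, h1, fun x hx y hy => ?_, hL, fun i => ?_⟩
  · obtain ⟨i, hi, -⟩ := hgen x hx
    obtain ⟨j, hj, -⟩ := hgen y hy
    have hn : (t ^ j)⁻¹ * ((t ^ i)⁻¹ * x) * t ^ j ∈ C := by
      obtain ⟨l, hl, -⟩ := hgen _ (inv_mem (pow_mem htT j))
      have h2 := hnpow l _ (hnorm _ (hnorm _ hi.2))
      -- conjugation by an inverse is conjugation by a nonnegative power
      have h3 : ∀ c ∈ C, (t ^ j)⁻¹ * c * t ^ j ∈ C := by
        intro c hc
        have h4 := C.mul_mem (C.mul_mem (hnpow l _ (C.mul_mem (C.mul_mem hl.2 hc) (C.inv_mem hl.2)))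
          C.one_mem) C.one_mem
        rwa [mul_one, mul_one, show t ^ l * ((t ^ l)⁻¹ * (t ^ j)⁻¹ * c * ((t ^ l)⁻¹ * (t ^ j)⁻¹)⁻¹) *
          (t ^ l)⁻¹ = (t ^ j)⁻¹ * c * t ^ j by group] at h4
      exact h3 _ hi.2
    have hij : (t ^ (i + j))⁻¹ * (x * y) ∈ C := by
      have := C.mul_mem hn hj.2
      rwa [show (t ^ j)⁻¹ * ((t ^ i)⁻¹ * x) * t ^ j * ((t ^ j)⁻¹ * y) =
        (t ^ (i + j))⁻¹ * (x * y) by rw [pow_add]; group] at this
    rw [key i x hx hi.2, key j y hy hj.2, key (i + j) _ (T.mul_mem hx hy) hij, pow_add,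
      mul_assoc, mul_assoc]
    congr 1
    rw [← mul_assoc _ (J ^ j), show L ⟨_, hi.2⟩ * J ^ j = J ^ j * L ⟨_, hn⟩ by
      rw [hJpow j ⟨_, hn⟩]
      congr 2
      apply Subtype.ext
      show (t ^ i)⁻¹ * x = t ^ j * ((t ^ j)⁻¹ * ((t ^ i)⁻¹ * x) * t ^ j) * (t ^ j)⁻¹
      group, mul_assoc, ← map_mul]
    congr 2
    apply Subtype.ext
    show (t ^ (i + j))⁻¹ * (x * y) = (t ^ j)⁻¹ * ((t ^ i)⁻¹ * x) * t ^ j * ((t ^ j)⁻¹ * y)
    rw [pow_add]; group
  · rw [key i _ (pow_mem htT i) (by simp)]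
    conv_rhs => rw [← mul_one (J ^ i), ← map_one L]
    congr 2
    exact Subtype.ext (inv_mul_cancel _)

/-- The socle of the core. -/
noncomputable def socle (C : Subgroup G) (q ε : MonoidAlgebra k G) (N : ℕ) : Submodule k KG :=
  (supp k C).toSubmodule.map ((LinearMap.mulLeft k (q ^ (N - 1))).comp (LinearMap.mulRight k ε))

theorem mem_socle {C : Subgroup G} {q ε : MonoidAlgebra k G} {N : ℕ} {y : MonoidAlgebra k G} :
    y ∈ socle C q ε N ↔ ∃ x ∈ supp k C, q ^ (N - 1) * x * ε = y := by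
  simp [socle, mul_assoc]

namespace LocalSetup

variable {p : ℕ} {P C T : Subgroup G} {z t : G} {e : ℕ} {e1 q ε w : MonoidAlgebra k G} {N n : ℕ}
  {a b : Fin n → MonoidAlgebra k G} (h : LocalSetup p P C T z t e e1 q ε w N n a b)

include h

theorem TC {x c : G} (hx : x ∈ Subgroup.normalizer ((Subgroup.zpowers z : Subgroup G) : Set G))
    (hc : c ∈ C) : x * c * x⁻¹ ∈ C := by
  have hz : x⁻¹ * z * x ∈ Subgroup.zpowers z := by
    have h1 := ((Subgroup.mem_normalizer_iff.1 (inv_mem hx)) z).1 (Subgroup.mem_zpowers z)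
    rwa [inv_inv] at h1
  obtain ⟨i, hi⟩ := Subgroup.mem_zpowers_iff.1 hz
  have hcz : Commute c (x⁻¹ * z * x) := hi ▸ Commute.zpow_right ((h.hC c).1 hc) i
  refine (h.hC _).2 ?_
  calc x * c * x⁻¹ * z = x * (c * (x⁻¹ * z * x)) * x⁻¹ := by group
    _ = x * ((x⁻¹ * z * x) * c) * x⁻¹ := by rw [hcz.eq]
    _ = z * (x * c * x⁻¹) := by group

theorem conjK_T {x : G} (hx : x ∈ T) {y : KG} (hy : y ∈ supp k C) : conjK x y ∈ supp k C :=
  conjK_mem (fun c hc => h.TC (h.TN hx) hc) hy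

theorem conjK_e {x : G} (hx : x ∈ T) : conjK x e1 = e1 := by
  rw [conjK, h.e_inv x hx, mul_assoc, ← map_mul, mul_inv_cancel, map_one, mul_one]

theorem e_supp {y : KG} (hy : y ∈ supp k C) : e1 * y = y * e1 := h.core.ecen y hy

theorem conjK_q {x : G} (hx : x ∈ T) : ∃ r ∈ supp k C, conjK x q = q * r := by
  have hm := h.conjK_T hx h.core.mem_q
  obtain ⟨r, hr, e'⟩ := h.core.central_nilpotent hm (fun y hy => by
    have h1 := congrArg (conjK x) (h.core.qcen _ (h.conjK_T (inv_mem hx) hy))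
    rwa [conjK_mul, conjK_mul, conjK_conjK, mul_inv_cancel, conjK_one] at h1)
    (m := N) (by rw [← conjK_pow, h.core.nil, conjK_zero])
  refine ⟨r, hr, ?_⟩
  rw [← e']
  conv_lhs => rw [← h.core.qe, conjK_mul, h.conjK_e hx]

theorem conjK_qpow {x : G} (hx : x ∈ T) (i : ℕ) :
    ∃ r ∈ supp k C, conjK x (q ^ i) = q ^ i * r := by
  obtain ⟨r, hr, e'⟩ := h.conjK_q hx
  refine ⟨r ^ i, pow_mem hr i, ?_⟩
  rw [conjK_pow, e', (show Commute q r from h.core.qcen r hr).mul_pow]

theorem z_sub_one : ∃ r ∈ supp k C, (of k G z - 1) * e1 = q * r := by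
  haveI := h.char
  haveI : Fact p.Prime := ⟨h.prime⟩
  haveI : CharP KG p := charP_of_injective_algebraMap (FaithfulSMul.algebraMap_injective k KG) p
  refine h.core.central_nilpotent (sub_mem (of_mem_supp (h.PC h.zP)) (one_mem _)) ?_ (m := p) ?_
  · intro y hy
    refine supp_induction (motive := fun y => (of k G z - 1) * y = y * (of k G z - 1)) hy
      (fun u v hu hv => by rw [mul_add, add_mul, hu, hv]) (by simp) fun r c hc => ?_
    rw [sub_mul, mul_sub, one_mul, mul_one, mul_smul_comm, smul_mul_assoc, ← map_mul, ← map_mul,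
      (h.hC c).1 hc]
  · rw [sub_pow_char_of_commute _ (Commute.one_right _), one_pow, ← map_pow, h.zp, map_one, sub_self]

theorem socle_mem {y : KG} (hy : y ∈ socle C q ε N) : y ∈ supp k C := by
  obtain ⟨x, hx, rfl⟩ := mem_socle.1 hy
  exact mul_mem (mul_mem (pow_mem h.core.mem_q _) hx) h.core.mem_ε

theorem socle_mul {x y : KG} (hx : x ∈ supp k C) (hy : y ∈ socle C q ε N) :
    x * y ∈ socle C q ε N := by
  obtain ⟨r, hr, rfl⟩ := mem_socle.1 hy
  exact mem_socle.2 ⟨x * r, mul_mem hx hr, by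
    rw [← mul_assoc, ← mul_assoc, h.core.qpow_cen _ hx, mul_assoc x]⟩

theorem socle_e {y : KG} (hy : y ∈ socle C q ε N) : e1 * y = y := by
  obtain ⟨r, hr, rfl⟩ := mem_socle.1 hy
  rw [h.e_supp (mul_mem (mul_mem (pow_mem h.core.mem_q _) hr) h.core.mem_ε), mul_assoc, h.core.εe]

theorem socle_q {y : KG} (hy : y ∈ socle C q ε N) : q * y = 0 := by
  obtain ⟨r, hr, rfl⟩ := mem_socle.1 hy
  rw [← mul_assoc, ← mul_assoc, ← pow_succ', h.core.qpow_zero (by have := h.core.hN; omega),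
    zero_mul, zero_mul]

theorem socle_x0 : q ^ (N - 1) * ε ∈ socle C q ε N :=
  mem_socle.2 ⟨1, one_mem _, by rw [mul_one]⟩

theorem socle_ε {y : KG} (hy : y ∈ socle C q ε N) : ∃ c : k, ε * y = c • (q ^ (N - 1) * ε) := by
  obtain ⟨r, hr, rfl⟩ := mem_socle.1 hy
  obtain ⟨c, r', -, -, e'⟩ := h.core.corner_split hr
  refine ⟨c, ?_⟩
  rw [← e', ← mul_assoc, ← mul_assoc, ← h.core.qpow_cen _ h.core.mem_ε]
  simp only [mul_assoc]

theorem socle_expand {y : KG} (hy : y ∈ socle C q ε N) :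
    ∑ i, a i * (ε * b i * y) = y := by
  conv_rhs => rw [← h.socle_e hy, ← h.core.sum, Finset.sum_mul]
  exact Finset.sum_congr rfl fun i _ => by simp only [mul_assoc]

theorem socle_gen' {y : KG} (hy : y ∈ socle C q ε N) (hy0 : y ≠ 0) :
    ∃ r ∈ supp k C, r * y = q ^ (N - 1) * ε := by
  obtain ⟨x, hx, rfl⟩ := mem_socle.1 hy
  obtain ⟨i, c, hc, e'⟩ := h.core.socle_gen hx hy0
  refine ⟨c⁻¹ • (ε * b i), (supp k C).smul_mem (mul_mem h.core.mem_ε (h.core.mem_b i)) _, ?_⟩
  rw [smul_mul_assoc, e', smul_smul, inv_mul_cancel₀ hc, one_smul]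

theorem socle_z {y : KG} (hy : y ∈ socle C q ε N) : of k G z * y = y := by
  obtain ⟨r, hr, e'⟩ := h.z_sub_one
  have h1 : (of k G z - 1) * y = 0 := by
    rw [← h.socle_e hy, ← mul_assoc, e', h.core.qcen r hr, mul_assoc, h.socle_q hy, mul_zero]
  rwa [sub_mul, one_mul, sub_eq_zero] at h1

/-- A map on the socle that commutes with the group algebra of `C` is a scalar. -/
theorem socle_scalar (F : socle C q ε N →ₗ[k] socle C q ε N)
    (hF : ∀ (x : KG) (hx : x ∈ supp k C) (y : socle C q ε N),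
      ((F ⟨x * y, h.socle_mul hx y.2⟩ : socle C q ε N) : KG) = x * (F y : KG)) :
    ∃ c : k, ∀ y, F y = c • y := by
  set x0 : socle C q ε N := ⟨_, h.socle_x0⟩ with hx0
  have e0 : (⟨ε * (x0 : KG), h.socle_mul h.core.mem_ε x0.2⟩ : socle C q ε N) = x0 := by
    refine Subtype.ext ?_
    show ε * (q ^ (N - 1) * ε) = q ^ (N - 1) * ε
    rw [← mul_assoc, ← h.core.qpow_cen _ h.core.mem_ε, mul_assoc, h.core.εidem]
  have e1' := hF ε h.core.mem_ε x0
  rw [e0] at e1'
  obtain ⟨c, hc⟩ := h.socle_ε (F x0).2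
  rw [← e1'] at hc
  refine ⟨c, fun y => Subtype.ext ?_⟩
  obtain ⟨r, hr, hy⟩ := mem_socle.1 y.2
  have e2 : y = ⟨(r * ε) * (x0 : KG), h.socle_mul (mul_mem hr h.core.mem_ε) x0.2⟩ := by
    refine Subtype.ext ?_
    show (y : KG) = r * ε * (q ^ (N - 1) * ε)
    rw [← hy, ← mul_assoc, ← h.core.qpow_cen _ (mul_mem hr h.core.mem_ε)]
    simp only [mul_assoc, h.core.εidem]
  conv_lhs => rw [e2]
  rw [hF _ (mul_mem hr h.core.mem_ε), hc, mul_smul_comm]
  show c • _ = c • (y : KG)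
  rw [e2]

/-- Left multiplication on the socle. -/
noncomputable def socMul : C →* Module.End k (socle C q ε N) where
  toFun c :=
    { toFun := fun y => ⟨of k G (c : G) * y, h.socle_mul (of_mem_supp c.2) y.2⟩
      map_add' := fun y y' => Subtype.ext (mul_add _ _ _)
      map_smul' := fun r y => Subtype.ext (mul_smul_comm _ _ _) }
  map_one' := LinearMap.ext fun y => Subtype.ext (by
    show of k G ((1 : C) : G) * (y : KG) = y
    rw [OneMemClass.coe_one, map_one, one_mul])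
  map_mul' c d := LinearMap.ext fun y => Subtype.ext (by
    show of k G ((c : G) * d) * (y : KG) = of k G (c : G) * (of k G (d : G) * y)
    rw [map_mul, mul_assoc])

/-- The extensions of the socle to `T`, twisted by a primitive root. -/
theorem exists_reps [IsAlgClosed k] :
    ∃ (η : k) (σ : ℕ → G → Module.End k (socle C q ε N)),
      IsPrimitiveRoot η e ∧
      (∀ j, IsTRep T (σ j) ∧
        ∀ c ∈ C, ∀ y : socle C q ε N, (σ j c y : KG) = of k G c * y) ∧
      ∀ (j i : ℕ) (y : socle C q ε N), σ j (t ^ i) y = (η ^ j) ^ i • σ 0 (t ^ i) y := by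
  classical
  have he0 : 0 < e := Nat.pos_of_ne_zero fun h0 => h.e_ne (by rw [h0, Nat.cast_zero])
  set x0 := q ^ (N - 1) * ε with hx0
  obtain ⟨i₀, hi₀⟩ : ∃ i, conjK t x0 * (a i * ε) ≠ 0 := by
    by_contra hno
    push Not at hno
    have h1 : conjK t x0 * e1 = 0 := by
      rw [← h.core.sum, Finset.mul_sum]
      exact Finset.sum_eq_zero fun i _ => by rw [← mul_assoc (conjK t x0), hno i, zero_mul]
    have h2 : conjK t x0 * e1 = conjK t x0 := by
      conv_lhs => rw [← h.conjK_e h.tT, ← conjK_mul, hx0, mul_assoc, h.core.εe]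
    rw [h2] at h1
    have h3 := congrArg (conjK t⁻¹) h1
    rw [conjK_conjK, inv_mul_cancel, conjK_one, conjK_zero] at h3
    exact h.core.ne h3
  obtain ⟨r, hr, hqr⟩ := h.conjK_qpow h.tT (N - 1)
  have hmem : ∀ y ∈ socle C q ε N, conjK t y * (a i₀ * ε) ∈ socle C q ε N := by
    intro y hy
    obtain ⟨x, hx, rfl⟩ := mem_socle.1 hy
    refine mem_socle.2 ⟨r * conjK t x * conjK t ε * a i₀, mul_mem (mul_mem (mul_mem hr
      (h.conjK_T h.tT hx)) (h.conjK_T h.tT h.core.mem_ε)) (h.core.mem_a i₀), ?_⟩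
    rw [conjK_mul, conjK_mul, hqr]
    simp only [mul_assoc]
  let J : Module.End k (socle C q ε N) :=
    { toFun := fun y => ⟨_, hmem y y.2⟩
      map_add' := fun y y' => Subtype.ext (by
        show conjK t ((y : KG) + (y' : KG)) * _ = _
        rw [conjK_add, add_mul]; rfl)
      map_smul' := fun c y => Subtype.ext (by
        show conjK t (c • (y : KG)) * _ = _
        rw [conjK_smul, smul_mul_assoc]; rfl) }
  have hJs : ∀ (x : KG) (hx : x ∈ supp k C) (y : socle C q ε N),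
      (J ⟨x * y, h.socle_mul hx y.2⟩ : KG) = conjK t x * (J y : KG) := fun x hx y => by
    show conjK t (x * (y : KG)) * _ = conjK t x * (conjK t (y : KG) * _)
    rw [conjK_mul, mul_assoc]
  have hJi : ∀ y, J y = 0 → y = 0 := by
    intro y hy
    by_contra hne
    obtain ⟨r', hr', e'⟩ := h.socle_gen' y.2 (fun h0 => hne (Subtype.ext h0))
    apply hi₀
    rw [hx0, ← e']
    show (J ⟨r' * y, h.socle_mul hr' y.2⟩ : KG) = 0
    rw [hJs r' hr' y, hy]
    exact mul_zero _
  have hJp : ∀ (i : ℕ) (x : KG) (hx : x ∈ supp k C) (y : socle C q ε N),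
      ((J ^ i) ⟨x * y, h.socle_mul hx y.2⟩ : KG) = conjK (t ^ i) x * ((J ^ i) y : KG) := by
    intro i
    induction i with
    | zero =>
      intro x hx y
      simp [conjK_one]
    | succ i ih =>
      intro x hx y
      have hm := h.conjK_T (pow_mem h.tT i) hx
      simp only [pow_succ', Module.End.mul_apply]
      rw [show (J ^ i) ⟨x * y, h.socle_mul hx y.2⟩ =
        ⟨conjK (t ^ i) x * ((J ^ i) y : KG), h.socle_mul hm ((J ^ i) y).2⟩ from Subtype.ext (ih x hx y),
        hJs _ hm, conjK_conjK]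
  -- the scalar
  have hteT : t ^ e ∈ T := pow_mem h.tT e
  have hinv : (t ^ e)⁻¹ ∈ C := inv_mem h.te
  let Ψ : socle C q ε N →ₗ[k] socle C q ε N := h.socMul ⟨_, hinv⟩ * J ^ e
  obtain ⟨lam, hlam⟩ := h.socle_scalar Ψ fun x hx y => by
    show of k G (t ^ e)⁻¹ * ((J ^ e) ⟨x * y, h.socle_mul hx y.2⟩ : KG) =
      x * (of k G (t ^ e)⁻¹ * ((J ^ e) y : KG))
    rw [hJp e x hx y, ← mul_assoc, of_mul_eq_conjK, conjK_conjK, inv_mul_cancel, conjK_one,
      mul_assoc]
  have hJpi : ∀ (i : ℕ) y, (J ^ i) y = 0 → y = 0 := by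
    intro i
    induction i with
    | zero => simp
    | succ i ih => intro y hy; exact ih y (hJi _ (by rwa [pow_succ', Module.End.mul_apply] at hy))
  have hlam0 : lam ≠ 0 := by
    intro h0
    set y0 : socle C q ε N := ⟨_, h.socle_x0⟩
    have h1 := hlam y0
    rw [h0, zero_smul] at h1
    have h2 : (J ^ e) y0 = 0 := by
      have h3 := congrArg (h.socMul ⟨t ^ e, h.te⟩) h1
      rw [map_zero, show h.socMul ⟨t ^ e, h.te⟩ (Ψ y0) =
        (h.socMul ⟨t ^ e, h.te⟩ * h.socMul ⟨_, hinv⟩) ((J ^ e) y0) from rfl, ← map_mul,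
        show (⟨t ^ e, h.te⟩ : C) * ⟨_, hinv⟩ = 1 from Subtype.ext (mul_inv_cancel _), map_one] at h3
      exact h3
    exact h.core.ne (congrArg Subtype.val (hJpi e y0 h2))
  obtain ⟨μ, hμ⟩ := IsAlgClosed.exists_pow_nat_eq lam⁻¹ he0
  haveI : NeZero (e : k) := ⟨h.e_ne⟩
  obtain ⟨η, hη'⟩ := IsAlgClosed.exists_root (Polynomial.cyclotomic e k) (by
    rw [Polynomial.degree_cyclotomic, Ne, Nat.cast_eq_zero]
    exact (Nat.totient_pos.2 he0).ne')
  have hη : IsPrimitiveRoot η e := Polynomial.isRoot_cyclotomic_iff.1 hη'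
  have hJe : ∀ c : k, c ^ e = lam⁻¹ → (c • J) ^ e = h.socMul ⟨t ^ e, h.te⟩ := by
    intro c hc
    refine LinearMap.ext fun y => ?_
    rw [smul_pow, hc, LinearMap.smul_apply]
    have h3 := congrArg (h.socMul ⟨t ^ e, h.te⟩) (hlam y)
    rw [map_smul, show h.socMul ⟨t ^ e, h.te⟩ (Ψ y) =
      (h.socMul ⟨t ^ e, h.te⟩ * h.socMul ⟨_, hinv⟩) ((J ^ e) y) from rfl, ← map_mul,
      show (⟨t ^ e, h.te⟩ : C) * ⟨_, hinv⟩ = 1 from Subtype.ext (mul_inv_cancel _), map_one,
      Module.End.one_apply] at h3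
    rw [h3, smul_smul, inv_mul_cancel₀ hlam0, one_smul]
  have hext : ∀ j : ℕ, ∃ σ : G → Module.End k (socle C q ε N), σ 1 = 1 ∧
      (∀ x ∈ T, ∀ y ∈ T, σ (x * y) = σ x * σ y) ∧ (∀ c : C, σ c = h.socMul c) ∧
      ∀ i : ℕ, σ (t ^ i) = ((η ^ j * μ) • J) ^ i := fun j =>
    exists_extend_rep h.CT h.tT h.te h.gen h.socMul ((η ^ j * μ) • J)
      (fun c hc => h.TC (h.TN h.tT) hc)
      (fun c => LinearMap.ext fun y => Subtype.ext (by
        show (η ^ j * μ) • (J ⟨of k G (c : G) * y, h.socle_mul (of_mem_supp c.2) y.2⟩ : KG) =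
          of k G (t * c * t⁻¹) * ((η ^ j * μ) • (J y : KG))
        rw [hJs _ (of_mem_supp c.2), conjK_of, mul_smul_comm]))
      (hJe _ (by
        rw [mul_pow, ← pow_mul, mul_comm j, pow_mul, hη.pow_eq_one, one_pow, one_mul, hμ]))
  choose σ hσ1 hσm hσc hσt using hext
  refine ⟨η, σ, hη, fun j => ⟨⟨hσ1 j, hσm j⟩, fun c hc y => ?_⟩, fun j i y => ?_⟩
  · rw [show σ j c = h.socMul ⟨c, hc⟩ from hσc j ⟨c, hc⟩]
    rfl
  · rw [hσt, hσt, pow_zero, one_mul, smul_pow, smul_pow, LinearMap.smul_apply,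
      LinearMap.smul_apply, smul_smul, mul_pow]

end LocalSetup

end CyclicRep

end CfsgLib.Blocks
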