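import Cfsg.Agent.Lib.Blocks.CyclicLocalRep

/-!
# Traces from the trivial subgroup and separation of the extensions of the socle
-/

namespace CfsgLib.Blocks

open Module MonoidAlgebra

set_option linter.unusedVariables false
set_option linter.unusedSimpArgs false
set_option linter.unusedSectionVars false
set_option linter.style.haveILetI false

namespace CyclicRep

variable {k : Type*} [Field k] {G : Type*} [Group G] [Fintype G]

/-- The elements of a subgroup as a finite set. -/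
noncomputable def elems (C : Subgroup G) : Finset G :=
  haveI := Classical.decPred fun g : G => g ∈ C
  Finset.univ.filter fun g => g ∈ C

theorem mem_elems {C : Subgroup G} {g : G} : g ∈ elems C ↔ g ∈ C := by simp [elems]

theorem exists_factor {X V : Type*} [AddCommGroup X] [Module k X] [AddCommGroup V] [Module k V]
    (f : X →ₗ[k] V) (g : X →ₗ[k] k) (hfg : ∀ x, f x = 0 → g x = 0) :
    ∃ φ : V →ₗ[k] k, ∀ x, φ (f x) = g x := by
  obtain ⟨φ, hφ⟩ := LinearMap.exists_extend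
    (((LinearMap.ker f).liftQ g (fun x hx => hfg x hx)).comp f.quotKerEquivRange.symm.toLinearMap)
  refine ⟨φ, fun x => ?_⟩
  have h1 := LinearMap.congr_fun hφ ⟨f x, LinearMap.mem_range_self f x⟩
  rw [LinearMap.comp_apply, Submodule.subtype_apply, LinearMap.comp_apply, LinearEquiv.coe_coe,
    LinearMap.quotKerEquivRange_symm_apply_image] at h1
  rw [h1]
  exact Submodule.liftQ_apply _ _ _

theorem central_end_scalar {V : Type*} [AddCommGroup V] [Module k V] (Φ : Module.End k V)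
    (hΦ : ∀ ψ : Module.End k V, ∀ v, Φ (ψ v) = ψ (Φ v)) : ∃ c : k, ∀ v, Φ v = c • v := by
  by_cases hV : ∀ v : V, v = 0
  · exact ⟨0, fun v => by rw [hV v, map_zero, smul_zero]⟩
  · push Not at hV
    obtain ⟨v₀, hv₀⟩ := hV
    obtain ⟨g, hg⟩ := LinearMap.exists_extend
      (((LinearEquiv.toSpanNonzeroSingleton k V v₀ hv₀).symm :
        Submodule.span k {v₀} ≃ₗ[k] k).toLinearMap)
    have hg1 : g v₀ = 1 := by
      have h1 := LinearMap.congr_fun hg ⟨v₀, Submodule.mem_span_singleton_self v₀⟩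
      rw [LinearMap.comp_apply, Submodule.subtype_apply] at h1
      rw [h1]
      exact LinearEquiv.coord_self k V v₀ hv₀
    refine ⟨g (Φ v₀), fun v => ?_⟩
    have h1 := hΦ (g.smulRight v) v₀
    simp only [LinearMap.smulRight_apply, hg1, one_smul] at h1
    exact h1

theorem supp_expand {C : Subgroup G} {y : MonoidAlgebra k G} (hy : y ∈ supp k C) :
    y = ∑ c ∈ elems C, y.coeff c • of k G c := by
  classical
  refine supp_induction (motive := fun y => y = ∑ c ∈ elems C, y.coeff c • of k G c) hy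
    (fun u v hu hv => ?_) (by simp) fun r c hc => ?_
  · conv_lhs => rw [hu, hv]
    rw [← Finset.sum_add_distrib]
    exact Finset.sum_congr rfl fun c _ => by rw [coeff_add, Finsupp.add_apply, add_smul]
  · rw [Finset.sum_eq_single c]
    · rw [coeff_smul, Finsupp.smul_apply, MonoidAlgebra.of_apply, coeff_single,
        Finsupp.single_eq_same, smul_eq_mul, mul_one]
    · intro d _ hd
      rw [coeff_smul, Finsupp.smul_apply, MonoidAlgebra.of_apply, coeff_single,
        Finsupp.single_eq_of_ne hd, smul_zero, zero_smul]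
    · exact fun hn => absurd (mem_elems.2 hc) hn

theorem IsTr.smul {T : Subgroup G} [Fintype T] {V W : Type*} [AddCommGroup V] [Module k V]
    [AddCommGroup W] [Module k W] {R : MonoidAlgebra k G →ₐ[k] Module.End k V}
    {σ : G → Module.End k W} {f : V →ₗ[k] W} (hf : IsTr T R σ f) (c : k) :
    IsTr T R σ (c • f) := by
  obtain ⟨h, hh⟩ := hf
  exact ⟨c • h, fun v => by simp [hh, Finset.smul_sum]⟩

namespace LocalSetup

variable {p : ℕ} {P C T : Subgroup G} {z t : G} {e : ℕ} {e1 q ε w : MonoidAlgebra k G} {N n : ℕ}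
  {a b : Fin n → MonoidAlgebra k G} (h : LocalSetup p P C T z t e e1 q ε w N n a b)

include h

theorem tpow_mem (i : ℕ) : t ^ i ∈ T := pow_mem h.tT i

theorem tinv_mem (i : ℕ) : (t ^ i)⁻¹ ∈ T := inv_mem (h.tpow_mem i)

theorem sum_C [Fintype P] {A : Type*} [AddCommMonoid A] (F : G → A) :
    ∑ y ∈ cosets P C, ∑ u : P, F (y.out * (u : G)) = ∑ c ∈ elems C, F c := by
  classical
  rw [← Finset.sum_product']
  refine Finset.sum_bij (fun x _ => x.1.out * (x.2 : G)) (fun x hx => ?_) (fun x hx y hy he => ?_)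
    (fun c hc => ?_) fun x _ => rfl
  · exact mem_elems.2 (C.mul_mem (mem_cosets.1 (Finset.mem_product.1 hx).1) (h.PC x.2.2))
  · have h1 : x.1 = y.1 := by
      rw [← QuotientGroup.out_eq' x.1, ← QuotientGroup.out_eq' y.1]
      refine QuotientGroup.eq.2 ?_
      rw [show x.1.out⁻¹ * y.1.out = (x.2 : G) * (y.2 : G)⁻¹ by
        rw [inv_mul_eq_iff_eq_mul, ← mul_assoc, he, mul_inv_cancel_right]]
      exact P.mul_mem x.2.2 (P.inv_mem y.2.2)
    exact Prod.ext h1 (Subtype.ext (mul_left_cancel (h1 ▸ he)))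
  · refine ⟨(QuotientGroup.mk c, ⟨((QuotientGroup.mk c : G ⧸ P)).out⁻¹ * c,
      QuotientGroup.eq.1 (QuotientGroup.out_eq' _)⟩), Finset.mem_product.2
        ⟨mem_cosets.2 ((out_mem_iff h.PC c).2 (mem_elems.1 hc)), Finset.mem_univ _⟩, ?_⟩
    exact mul_inv_cancel_left _ _

theorem sum_T [Fintype T] {A : Type*} [AddCommMonoid A] (F : G → A) :
    ∑ i ∈ Finset.range e, ∑ c ∈ elems C, F (t ^ i * c) = ∑ x : T, F (x : G) := by
  classical
  rw [← Finset.sum_product']
  refine Finset.sum_bij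
    (fun x hx => (⟨t ^ x.1 * x.2, T.mul_mem (h.tpow_mem _)
      (h.CT (mem_elems.1 (Finset.mem_product.1 hx).2))⟩ : T))
    (fun x hx => Finset.mem_univ _) (fun x hx y hy he => ?_) (fun x _ => ?_) fun x _ => rfl
  · obtain ⟨hx1, hx2⟩ := Finset.mem_product.1 hx
    obtain ⟨hy1, hy2⟩ := Finset.mem_product.1 hy
    have he' : t ^ x.1 * x.2 = t ^ y.1 * y.2 := congrArg Subtype.val he
    obtain ⟨i, -, huniq⟩ := h.gen _ (T.mul_mem (h.tpow_mem x.1) (h.CT (mem_elems.1 hx2)))
    have h1 : x.1 = y.1 := by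
      rw [huniq x.1 ⟨Finset.mem_range.1 hx1, by rw [inv_mul_cancel_left]; exact mem_elems.1 hx2⟩,
        huniq y.1 ⟨Finset.mem_range.1 hy1, by rw [he', inv_mul_cancel_left]; exact mem_elems.1 hy2⟩]
    exact Prod.ext h1 (mul_left_cancel (h1 ▸ he'))
  · obtain ⟨i, ⟨hi, hc⟩, -⟩ := h.gen x x.2
    exact ⟨(i, (t ^ i)⁻¹ * x), Finset.mem_product.2 ⟨Finset.mem_range.2 hi, mem_elems.2 hc⟩,
      Subtype.ext (mul_inv_cancel_left _ _)⟩

section maps

variable {V W : Type*} [AddCommGroup V] [Module k V] [AddCommGroup W] [Module k W]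
  {R : MonoidAlgebra k G →ₐ[k] Module.End k V} {σ : G → Module.End k W}

/-- A sum over a set on which `P` acts freely gives a trace. -/
theorem free_trace [Fintype P] [Fintype T] (hσ : IsTRep T σ) (Lw Le : Module.End k W)
    (hLw : ∀ u ∈ P, ∀ x, σ u (Lw x) = Lw (σ u x))
    (hLe : ∀ x, ∑ y ∈ cosets P C, σ y.out (Lw (σ y.out⁻¹ x)) = Le x)
    (hLeT : ∀ x ∈ T, ∀ v, σ x (Le v) = Le (σ x v))
    {Ω : Type*} (α : G → Ω → Ω) (hα1 : ∀ ω, α 1 ω = ω)
    (hαm : ∀ x ∈ T, ∀ y ∈ T, ∀ ω, α (x * y) ω = α x (α y ω)) (s : Finset Ω)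
    (hs : ∀ x ∈ T, ∀ ω ∈ s, α x ω ∈ s) (hfree : ∀ u ∈ P, u ≠ 1 → ∀ ω ∈ s, α u ω ≠ ω)
    (φ : Ω → (V →ₗ[k] W))
    (hφ : ∀ x ∈ T, ∀ ω ∈ s, ∀ v, φ (α x ω) (R (of k G x) v) = σ x (φ ω v)) :
    IsTr T R σ (Le.comp (∑ ω ∈ s, φ ω)) := by
  classical
  have hPT : P ≤ T := h.PC.trans h.CT
  set f := ∑ ω ∈ s, φ ω with hf
  have heq : IsEq T R σ f := by
    intro x hx v
    simp only [hf, LinearMap.sum_apply, map_sum]
    symm
    refine Finset.sum_bij' (fun ω _ => α x ω) (fun ω _ => α x⁻¹ ω) (fun ω hω => hs x hx ω hω)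
      (fun ω hω => hs _ (inv_mem hx) ω hω) (fun ω hω => ?_) (fun ω hω => ?_)
      fun ω hω => (hφ x hx ω hω v).symm
    · rw [← hαm _ (inv_mem hx) _ hx, inv_mul_cancel, hα1]
    · rw [← hαm _ hx _ (inv_mem hx), mul_inv_cancel, hα1]
  -- orbits of `P`
  let st : Setoid s := ⟨fun ω ω' => ∃ u ∈ P, α u ω = ω',
    fun ω => ⟨1, P.one_mem, hα1 _⟩,
    fun {ω ω'} ⟨u, hu, e'⟩ => ⟨u⁻¹, P.inv_mem hu, by
      rw [← e', ← hαm _ (inv_mem (hPT hu)) _ (hPT hu), inv_mul_cancel, hα1]⟩,
    fun {ω ω' ω''} ⟨u, hu, e'⟩ ⟨u', hu', e''⟩ => ⟨u' * u, P.mul_mem hu' hu, by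
      rw [hαm _ (hPT hu') _ (hPT hu), e', e'']⟩⟩
  let O := Quotient st
  haveI : Fintype O := Fintype.ofFinite O
  set h0 := ∑ o : O, φ (o.out : Ω) with hh0
  have step1 : ∀ v, f v = ∑ u : P, σ (u : G) (h0 (R (of k G (u : G)⁻¹) v)) := by
    intro v
    simp only [hh0, LinearMap.sum_apply, map_sum, hf]
    rw [← Finset.sum_product', ← Finset.sum_coe_sort s]
    symm
    refine Fintype.sum_bijective (fun x : P × O => (⟨α (x.1 : G) (x.2.out : Ω),
      hs _ (hPT x.1.2) _ x.2.out.2⟩ : s)) ⟨?_, ?_⟩ _ _ fun x => ?_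
    · rintro ⟨u, o⟩ ⟨u', o'⟩ he
      have he' : α (u : G) (o.out : Ω) = α (u' : G) (o'.out : Ω) := congrArg Subtype.val he
      have ho : o = o' := by
        rw [← o.out_eq, ← o'.out_eq]
        exact Quotient.sound (s := st) ⟨(u' : G)⁻¹ * u, P.mul_mem (P.inv_mem u'.2) u.2, by
          rw [hαm _ (inv_mem (hPT u'.2)) _ (hPT u.2), he', ← hαm _ (inv_mem (hPT u'.2)) _ (hPT u'.2),
            inv_mul_cancel, hα1]⟩
      subst ho
      refine Prod.ext (Subtype.ext ?_) rfl
      by_contra hne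
      refine hfree ((u' : G)⁻¹ * u) (P.mul_mem (P.inv_mem u'.2) u.2)
        (fun h1 => hne (inv_mul_eq_one.1 h1).symm) _ o.out.2 ?_
      rw [hαm _ (inv_mem (hPT u'.2)) _ (hPT u.2), he', ← hαm _ (inv_mem (hPT u'.2)) _ (hPT u'.2),
        inv_mul_cancel, hα1]
    · intro ω
      obtain ⟨u, hu, e'⟩ : ∃ u ∈ P, α u ((Quotient.mk st ω).out : Ω) = ω :=
        (Quotient.mk_out (s := st) ω : _)
      exact ⟨(⟨u, hu⟩, Quotient.mk st ω), Subtype.ext e'⟩
    · show σ (x.1 : G) (φ (x.2.out : Ω) (R (of k G (x.1 : G)⁻¹) v)) =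
        φ (α (x.1 : G) (x.2.out : Ω)) v
      rw [← hφ _ (hPT x.1.2) _ x.2.out.2, R_comp, mul_inv_cancel, R_one]
  -- the part from `C`
  have hcos : ∀ y ∈ cosets P C, (y.out : G) ∈ T := fun y hy => h.CT (mem_cosets.1 hy)
  have step2 : ∀ v, Le (f v) = ∑ c ∈ elems C, σ c (Lw (h0 (R (of k G c⁻¹) v))) := by
    intro v
    rw [← hLe, ← h.sum_C fun c => σ c (Lw (h0 (R (of k G c⁻¹) v)))]
    refine Finset.sum_congr rfl fun y hy => ?_
    rw [← heq _ (inv_mem (hcos y hy)), step1, map_sum, map_sum]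
    refine Finset.sum_congr rfl fun u _ => ?_
    rw [← hLw _ u.2, hσ.comp (hcos y hy) (hPT u.2), R_comp, mul_inv_rev]
  -- the part from `T`
  refine ⟨(e : k)⁻¹ • Lw.comp h0, fun v => ?_⟩
  have step3 : ∑ x : T, σ (x : G) (Lw (h0 (R (of k G (x : G)⁻¹) v))) = (e : k) • Le (f v) := by
    rw [← h.sum_T fun x => σ x (Lw (h0 (R (of k G x⁻¹) v)))]
    have e1' : ∀ i ∈ Finset.range e, ∑ c ∈ elems C,
        σ (t ^ i * c) (Lw (h0 (R (of k G (t ^ i * c)⁻¹) v))) = Le (f v) := by
      intro i _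
      have e2 : Le (f v) = σ (t ^ i) (Le (f (R (of k G (t ^ i)⁻¹) v))) := by
        rw [hLeT _ (h.tpow_mem i), ← heq _ (h.tpow_mem i), R_comp, mul_inv_cancel, R_one]
      rw [e2, step2, map_sum]
      refine Finset.sum_congr rfl fun c hc => ?_
      rw [hσ.comp (h.tpow_mem i) (h.CT (mem_elems.1 hc)), R_comp, mul_inv_rev]
    rw [Finset.sum_congr rfl e1', Finset.sum_const, Finset.card_range, Nat.cast_smul_eq_nsmul]
  simp only [LinearMap.smul_apply, LinearMap.comp_apply, map_smul, ← Finset.smul_sum]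
  rw [step3, smul_smul, inv_mul_cancel₀ h.e_ne, one_smul]

omit h in
/-- Commuting with the group algebra of `C`. -/
def IsLin (C : Subgroup G) (R : MonoidAlgebra k G →ₐ[k] Module.End k V)
    (R' : MonoidAlgebra k G →ₐ[k] Module.End k W) (f : V →ₗ[k] W) : Prop :=
  ∀ x ∈ supp k C, ∀ v, f (R x v) = R' x (f v)

/-- A map defined on the corner extends to a map commuting with the group algebra of `C`. -/
theorem exists_corner_map (R' : MonoidAlgebra k G →ₐ[k] Module.End k W) {m : ℕ}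
    (φ : V →ₗ[k] k) (v : W) (hv : R' ε v = v) (hvm : R' (q ^ m) v = 0)
    (hφ : ∀ u, φ (R (q ^ m) (R ε u)) = 0) :
    ∃ Φ : V →ₗ[k] W, IsLin C R R' Φ ∧ (∀ u, R' e1 (Φ u) = Φ u) ∧
      ∀ u, Φ u = ∑ l, R' (a l * ε) (∑ i ∈ Finset.range m,
        φ (R (q ^ i) (R (ε * b l) u)) • R' (q ^ (m - 1 - i)) v) := by
  classical
  let ρ0 : V →ₗ[k] W := ∑ i ∈ Finset.range m, (φ.comp (R (q ^ i))).smulRight (R' (q ^ (m - 1 - i)) v)
  have hρ : ∀ u, ρ0 u = ∑ i ∈ Finset.range m, φ (R (q ^ i) u) • R' (q ^ (m - 1 - i)) v := fun u => by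
    simp [ρ0]
  have hshift : ∀ u, ρ0 (R q (R ε u)) = R' q (ρ0 (R ε u)) := by
    intro u
    rcases Nat.eq_zero_or_pos m with rfl | hm
    · simp [hρ]
    obtain ⟨M, rfl⟩ : ∃ M, m = M + 1 := ⟨m - 1, by omega⟩
    have eq1 : ∀ i, R (q ^ i) (R q (R ε u)) = R (q ^ (i + 1)) (R ε u) := fun i => by
      rw [← Module.End.mul_apply, ← map_mul, ← pow_succ]
    have eq2 : ∀ i, R' q (R' (q ^ i) v) = R' (q ^ (i + 1)) v := fun i => by
      rw [← Module.End.mul_apply, ← map_mul, ← pow_succ']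
    rw [hρ, hρ, map_sum, Finset.sum_range_succ, Finset.sum_range_succ']
    simp only [eq1, map_smul, eq2]
    rw [hφ, zero_smul, add_zero, show M + 1 - 1 - 0 + 1 = M + 1 by omega, hvm, smul_zero, add_zero]
    refine Finset.sum_congr rfl fun i hi => ?_
    have := Finset.mem_range.1 hi
    rw [show M + 1 - 1 - (i + 1) + 1 = M + 1 - 1 - i by omega]
  have hεεu : ∀ u, R ε (R ε u) = R ε u := fun u => by
    rw [← Module.End.mul_apply, ← map_mul, h.core.εidem]
  have hpow : ∀ (i : ℕ) u, ρ0 (R (q ^ i) (R ε u)) = R' (q ^ i) (ρ0 (R ε u)) := by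
    intro i
    induction i with
    | zero => intro u; simp
    | succ i ih =>
      intro u
      have e2 : R (q ^ (i + 1)) (R ε u) = R q (R ε (R (q ^ i) u)) := by
        rw [← Module.End.mul_apply, ← Module.End.mul_apply, ← Module.End.mul_apply, ← map_mul,
          ← map_mul, ← map_mul, pow_succ', mul_assoc, mul_assoc, h.core.qpow_cen i h.core.mem_ε]
      rw [e2, hshift, show R ε (R (q ^ i) u) = R (q ^ i) (R ε u) by
        rw [← Module.End.mul_apply, ← map_mul, ← h.core.qpow_cen i h.core.mem_ε, map_mul,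
          Module.End.mul_apply], ih, pow_succ', map_mul, Module.End.mul_apply]
  have hρε : ∀ u, R' ε (ρ0 u) = ρ0 u := by
    intro u
    rw [hρ, map_sum]
    refine Finset.sum_congr rfl fun i _ => ?_
    rw [map_smul, ← Module.End.mul_apply, ← map_mul, ← h.core.qpow_cen _ h.core.mem_ε, map_mul,
      Module.End.mul_apply, hv]
  have hcorner : ∀ x ∈ supp k C, ∀ u, ρ0 (R (ε * x * ε) (R ε u)) = R' (ε * x * ε) (ρ0 (R ε u)) := by
    intro x hx u
    obtain ⟨c, hc⟩ := h.core.corner x hx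
    simp only [hc, map_sum, LinearMap.sum_apply, map_smul, LinearMap.smul_apply]
    refine Finset.sum_congr rfl fun i _ => ?_
    rw [map_mul, map_mul, Module.End.mul_apply, Module.End.mul_apply, hεεu, hpow, hρε]
  let Φ : V →ₗ[k] W := ∑ l, (R' (a l * ε)).comp (ρ0.comp (R (ε * b l)))
  have hΦ : ∀ u, Φ u = ∑ l, R' (a l * ε) (ρ0 (R (ε * b l) u)) := fun u => by simp [Φ]
  refine ⟨Φ, ?_, fun u => ?_, fun u => by rw [hΦ]; simp only [hρ]⟩
  · intro x hx u
    rw [hΦ, hΦ, map_sum]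
    have eL : ∀ l, R (ε * b l) (R x u) =
        ∑ j, R (ε * (b l * x * a j) * ε) (R ε (R (ε * b j) u)) := by
      intro l
      have e3 : ∀ j, R (ε * (b l * x * a j) * ε) (R ε (R (ε * b j) u)) =
          R (ε * (b l * x) * (a j * ε * b j)) u := by
        intro j
        rw [← Module.End.mul_apply, ← Module.End.mul_apply, ← map_mul, ← map_mul]
        congr 2
        simp only [mul_assoc]
        rw [← mul_assoc ε ε, h.core.εidem, ← mul_assoc ε ε, h.core.εidem]
      simp only [e3]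
      rw [← LinearMap.sum_apply, ← map_sum, ← Finset.mul_sum, h.core.sum, mul_assoc,
        ← h.core.ecen _ (mul_mem (h.core.mem_b l) hx), ← mul_assoc, h.core.εe,
        ← Module.End.mul_apply, ← map_mul, mul_assoc]
    simp only [eL, map_sum]
    rw [Finset.sum_comm]
    refine Finset.sum_congr rfl fun j _ => ?_
    simp only [hcorner _ (mul_mem (mul_mem (h.core.mem_b _) hx) (h.core.mem_a j))]
    have e4 : R ε (R (ε * b j) u) = R (ε * b j) u := by
      rw [← Module.End.mul_apply, ← map_mul, ← mul_assoc, h.core.εidem]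
    simp only [e4]
    simp only [← Module.End.mul_apply, ← map_mul]
    rw [← LinearMap.sum_apply, ← map_sum]
    congr 2
    rw [Finset.sum_congr rfl fun l _ => show a l * ε * (ε * (b l * x * a j) * ε) =
      a l * ε * b l * (x * a j * ε) by
        simp only [mul_assoc]; rw [← mul_assoc ε ε, h.core.εidem], ← Finset.sum_mul, h.core.sum]
    rw [h.e_supp (mul_mem (mul_mem hx (h.core.mem_a j)) h.core.mem_ε)]
    simp only [mul_assoc, h.core.εe]
  · rw [hΦ, map_sum]
    refine Finset.sum_congr rfl fun l _ => ?_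
    rw [← Module.End.mul_apply, ← map_mul]
    congr 2
    rw [h.e_supp (mul_mem (h.core.mem_a l) h.core.mem_ε), mul_assoc, h.core.εe]

end maps

section endo

variable {V : Type*} [AddCommGroup V] [Module k V] {R : MonoidAlgebra k G →ₐ[k] Module.End k V}

theorem R_T_comm {x : G} (hx : x ∈ T) (v : V) :
    R (of k G x) (R e1 v) = R e1 (R (of k G x) v) := by
  rw [← Module.End.mul_apply, ← map_mul, h.e_inv x hx, map_mul, Module.End.mul_apply]

theorem kernel_stable {x : G} (hx : x ∈ T) (m : ℕ) {u : V} (hu : R (q ^ m) u = 0) :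
    R (q ^ m) (R (of k G x) u) = 0 := by
  obtain ⟨r, hr, e'⟩ := h.conjK_qpow (inv_mem hx) m
  have h1 : q ^ m * of k G x = of k G x * (r * q ^ m) := by
    rw [← h.core.qpow_cen m hr, ← e', of_mul_eq_conjK, conjK_conjK, mul_inv_cancel, conjK_one]
  rw [← Module.End.mul_apply, ← map_mul, h1, map_mul, map_mul, Module.End.mul_apply,
    Module.End.mul_apply, hu, map_zero, map_zero]

theorem range_stable {x : G} (hx : x ∈ T) (v : V) :
    ∃ v', R (of k G x) (R q v) = R q v' := by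
  obtain ⟨r, hr, e'⟩ := h.conjK_q hx
  exact ⟨R r (R (of k G x) v), by
    rw [← Module.End.mul_apply, ← map_mul, of_mul_eq_conjK, e', map_mul, map_mul,
      Module.End.mul_apply, Module.End.mul_apply]⟩

/-- Traces map the kernel of the top power of `q` into the image of `q`. -/
theorem trace_kills [FiniteDimensional k V] [Fintype T] {f : V →ₗ[k] V}
    (hf : IsTr T R (fun g => R (of k G g)) f) {u : V} (hu1 : R e1 u = u)
    (hu2 : R (q ^ (N - 1)) u = 0) : ∃ v, R e1 (f u) = R q v := by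
  classical
  obtain ⟨h', hh⟩ := hf
  let bs := Module.finBasis k V
  let A : Fin (finrank k V) → (V →ₗ[k] MonoidAlgebra k G) := fun l =>
    ∑ c ∈ elems C, ((bs.coord l).comp (h'.comp (R (of k G c⁻¹)))).smulRight (of k G c)
  have hA : ∀ l u, A l u = ∑ c ∈ elems C, bs.coord l (h' (R (of k G c⁻¹) u)) • of k G c :=
    fun l u => by simp [A]
  have hAS : ∀ l u, A l u ∈ supp k C := fun l u => by
    rw [hA]
    exact sum_mem fun c hc => (supp k C).smul_mem (of_mem_supp (mem_elems.1 hc)) _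
  have hAlin : ∀ l, ∀ x ∈ supp k C, ∀ u, A l (R x u) = x * A l u := by
    intro l x hx
    refine supp_induction (motive := fun x => ∀ u, A l (R x u) = x * A l u) hx
      (fun y y' hy hy' u => by simp only [map_add, LinearMap.add_apply, hy, hy', add_mul])
      (fun u => by simp) fun r d hd u => ?_
    rw [map_smul, LinearMap.smul_apply, map_smul, smul_mul_assoc]
    congr 1
    rw [hA, hA, Finset.mul_sum]
    refine Finset.sum_bij' (fun c _ => d⁻¹ * c) (fun c _ => d * c)
      (fun c hc => mem_elems.2 (C.mul_mem (C.inv_mem hd) (mem_elems.1 hc)))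
      (fun c hc => mem_elems.2 (C.mul_mem hd (mem_elems.1 hc)))
      (fun c _ => mul_inv_cancel_left d c) (fun c _ => inv_mul_cancel_left d c) fun c hc => ?_
    rw [mul_smul_comm, ← map_mul (of k G) d, mul_inv_cancel_left, R_comp, mul_inv_rev, inv_inv]
  have hC : ∀ u : V, R e1 u = u → R (q ^ (N - 1)) u = 0 →
      ∃ v, R e1 (∑ c ∈ elems C, R (of k G c) (h' (R (of k G c⁻¹) u))) = R q v := by
    intro u hu1 hu2
    have e0 : ∑ c ∈ elems C, R (of k G c) (h' (R (of k G c⁻¹) u)) = ∑ l, R (A l u) (bs l) := by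
      simp only [hA, map_sum, LinearMap.sum_apply, map_smul, LinearMap.smul_apply]
      rw [Finset.sum_comm]
      refine Finset.sum_congr rfl fun c _ => ?_
      conv_lhs => rw [← bs.sum_repr (h' (R (of k G c⁻¹) u)), map_sum]
      simp only [map_smul, Module.Basis.coord_apply]
    have hq : ∀ l, ∃ v, R e1 (R (A l u) (bs l)) = R q v := by
      intro l
      obtain ⟨r, hr, e'⟩ := h.core.mem_q_of_top (hAS l u) (by
        rw [← hAlin l _ (pow_mem h.core.mem_q _), hu2, map_zero])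
      exact ⟨R r (bs l), by
        rw [← Module.End.mul_apply, ← map_mul, h.e_supp (hAS l u), e', map_mul,
          Module.End.mul_apply]⟩
    choose v hv using hq
    exact ⟨∑ l, v l, by rw [e0, map_sum, map_sum]; exact Finset.sum_congr rfl fun l _ => hv l⟩
  have hterm : ∀ i, ∃ v, R e1 (∑ c ∈ elems C, R (of k G (t ^ i * c))
      (h' (R (of k G (t ^ i * c)⁻¹) u))) = R q v := by
    intro i
    obtain ⟨v, hv⟩ := hC (R (of k G (t ^ i)⁻¹) u)
      (by rw [← h.R_T_comm (h.tinv_mem i), hu1])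
      (h.kernel_stable (h.tinv_mem i) _ hu2)
    obtain ⟨v', hv'⟩ := h.range_stable (R := R) (h.tpow_mem i) v
    refine ⟨v', ?_⟩
    rw [← hv', ← hv, h.R_T_comm (h.tpow_mem i)]
    congr 1
    rw [map_sum]
    exact Finset.sum_congr rfl fun c _ => by rw [R_comp, R_comp, mul_inv_rev]
  choose v hv using hterm
  refine ⟨∑ i ∈ Finset.range e, v i, ?_⟩
  rw [hh, ← h.sum_T (fun x => R (of k G x) (h' (R (of k G x⁻¹) u))), map_sum, map_sum]
  exact Finset.sum_congr rfl fun i _ => hv i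

/-- The stable endomorphism ring of the `e1`-part of an absolutely simple module. -/
theorem stable_scalar [Fintype P] [Fintype T] (hR : Function.Surjective R) (Φ : Module.End k V)
    (hΦ : ∀ x ∈ T, ∀ v, Φ (R (of k G x) v) = R (of k G x) (Φ v))
    (h1 : ∀ v, R e1 (Φ v) = Φ v) (h2 : ∀ v, Φ (R e1 v) = Φ v) :
    ∃ (c : k) (τ : V →ₗ[k] V), IsTr T R (fun g => R (of k G g)) τ ∧
      ∀ v, Φ v = c • R e1 v + τ v := by
  classical
  haveI : Fintype (G ⧸ P) := Fintype.ofFinite _
  have hPT : P ≤ T := h.PC.trans h.CT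
  set Lw := R w with hLw
  set Le := R e1 with hLe
  set y : Module.End k V := Lw * Φ with hy
  have hyP : ∀ u ∈ P, ∀ v, y (R (of k G u) v) = R (of k G u) (y v) := by
    intro u hu v
    rw [hy, Module.End.mul_apply, Module.End.mul_apply, hΦ u (hPT hu), hLw, ← Module.End.mul_apply,
      ← map_mul, ← h.w_fix u hu, map_mul, Module.End.mul_apply]
  let φ : G ⧸ P → Module.End k V := fun o => R (of k G o.out) * y * R (of k G o.out⁻¹)
  have hφ : ∀ (g : G) (v : V), φ (QuotientGroup.mk g) v = R (of k G g) (y (R (of k G g⁻¹) v)) := by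
    intro g v
    obtain ⟨u, hu⟩ := QuotientGroup.mk_out_eq_mul P g
    show R (of k G _) (y (R (of k G _) v)) = _
    rw [hu, mul_inv_rev, ← R_comp (R := R) (u : G)⁻¹ g⁻¹, hyP _ (P.inv_mem u.2), R_comp,
      mul_inv_cancel_right]
  set F : Module.End k V := ∑ o, φ o with hF
  have hFG : ∀ (g : G) v, F (R (of k G g) v) = R (of k G g) (F v) := by
    intro g v
    simp only [hF, LinearMap.sum_apply, map_sum]
    symm
    refine Fintype.sum_equiv (MulAction.toPerm g) _ _ fun o => ?_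
    obtain ⟨x, rfl⟩ := QuotientGroup.mk_surjective o
    show R (of k G g) (φ (QuotientGroup.mk x) v) = φ (QuotientGroup.mk (g * x)) (R (of k G g) v)
    rw [hφ, hφ, R_comp, R_comp, mul_inv_rev, inv_mul_cancel_right]
  have hFall : ∀ x : MonoidAlgebra k G, ∀ v, F (R x v) = R x (F v) := by
    intro x
    induction x using MonoidAlgebra.induction_linear with
    | zero => simp
    | add x x' hx hx' => intro v; simp only [map_add, LinearMap.add_apply, hx, hx']
    | single g r =>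
      intro v
      rw [show MonoidAlgebra.single g r = r • of k G g by simp, map_smul, LinearMap.smul_apply,
        LinearMap.smul_apply, map_smul, hFG]
  obtain ⟨c, hc⟩ := central_end_scalar F fun ψ v => by
    obtain ⟨x, rfl⟩ := hR ψ
    exact hFall x v
  -- the three kinds of cosets
  set NZ := Subgroup.normalizer ((Subgroup.zpowers z : Subgroup G) : Set G) with hNZ
  set s := Finset.univ.filter fun o : G ⧸ P => o.out ∉ NZ with hs
  have hPN : P ≤ NZ := hPT.trans h.TN
  have hsmem : ∀ g : G, (QuotientGroup.mk g : G ⧸ P) ∈ s ↔ g ∉ NZ := fun g => by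
    rw [hs, Finset.mem_filter, out_mem_iff hPN]
    simp
  have hfree : IsTr T R (fun g => R (of k G g)) (Le.comp (∑ o ∈ s, φ o)) := by
    refine h.free_trace (isTRep_R T) Lw Le (fun u hu x => ?_) (fun x => ?_)
      (fun x hx v => h.R_T_comm hx v)
      (fun x o => QuotientGroup.mk (x * o.out)) (fun o => ?_) (fun x hx x' hx' o => ?_) s
      (fun x hx o ho => ?_) (fun u hu hu1 o ho he => ?_) φ fun x hx o ho v => ?_
    · show R (of k G u) (R w x) = R w (R (of k G u) x)
      rw [← Module.End.mul_apply, ← map_mul, h.w_fix u hu, map_mul, Module.End.mul_apply]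
    · rw [hLe, ← h.trace, map_sum, LinearMap.sum_apply]
      exact Finset.sum_congr rfl fun o _ => by
        rw [conjK, map_mul, map_mul, Module.End.mul_apply, Module.End.mul_apply]
    · rw [one_mul]; exact QuotientGroup.out_eq' o
    · obtain ⟨u, hu⟩ := QuotientGroup.mk_out_eq_mul P (x' * o.out)
      show QuotientGroup.mk (x * x' * o.out) =
        QuotientGroup.mk (x * (QuotientGroup.mk (x' * o.out) : G ⧸ P).out)
      rw [hu, ← mul_assoc, QuotientGroup.mk_mul_of_mem _ u.2, mul_assoc]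
    · rw [hsmem]
      rw [← QuotientGroup.out_eq' o, hsmem] at ho
      intro h3
      apply ho
      have := NZ.mul_mem (NZ.inv_mem (h.TN hx)) h3
      rwa [inv_mul_cancel_left] at this
    · rw [← QuotientGroup.out_eq' o, hsmem] at ho
      apply ho
      set g := o.out with hg
      have h3 : g⁻¹ * u * g ∈ P := by
        have h4 := QuotientGroup.eq.1 (he.trans (QuotientGroup.out_eq' o).symm)
        have h5 := P.inv_mem h4
        rwa [show ((u * g)⁻¹ * g)⁻¹ = g⁻¹ * u * g by group] at h5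
      have h4 : g⁻¹ * u * g ≠ 1 := fun h5 => hu1 (by
        have h6 : u = g * (g⁻¹ * u * g) * g⁻¹ := by group
        rw [h6, h5, mul_one, mul_inv_cancel])
      obtain ⟨j, hj⟩ := Subgroup.mem_zpowers_iff.1 (h.zmin _ h3 h4 (Subgroup.mem_zpowers z))
      have h5 : g * z * g⁻¹ = u ^ j := by
        rw [← hj, ← conj_zpow]; congr 1; group
      have h6 : g * z * g⁻¹ ≠ 1 := fun h7 => h.z1 (conj_eq_one_iff.1 h7)
      have h7 := h.zmin (g * z * g⁻¹) (h5 ▸ P.zpow_mem hu j) h6
      have h8 : Subgroup.zpowers z = Subgroup.zpowers (g * z * g⁻¹) := by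
        refine Subgroup.eq_of_le_of_card_ge h7 ?_
        rw [Nat.card_zpowers, Nat.card_zpowers]
        exact ((MulAut.conj g).orderOf_eq z).le
      rw [hNZ, Subgroup.mem_normalizer_iff]
      intro x
      constructor
      · intro hx
        obtain ⟨i, rfl⟩ := Subgroup.mem_zpowers_iff.1 hx
        rw [← conj_zpow]
        exact h8.ge (Subgroup.zpow_mem _ (Subgroup.mem_zpowers _) i)
      · intro hx
        rw [h8] at hx
        obtain ⟨i, hi⟩ := Subgroup.mem_zpowers_iff.1 hx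
        rw [conj_zpow] at hi
        exact (mul_left_cancel (mul_right_cancel hi)) ▸
          Subgroup.zpow_mem _ (Subgroup.mem_zpowers z) i
    · show φ (QuotientGroup.mk (x * o.out)) (R (of k G x) v) = R (of k G x) (φ o v)
      conv_rhs => rw [← QuotientGroup.out_eq' o]
      rw [hφ, hφ, R_comp, R_comp, mul_inv_rev, inv_mul_cancel_right]
  -- the cosets in `T`
  have hmid : ∀ g : G, g ∈ NZ → g ∉ T → ∀ v, Le (φ (QuotientGroup.mk g) v) = 0 := by
    intro g hg hgT v
    rw [hφ, hy, Module.End.mul_apply, hLe, hLw, ← Module.End.mul_apply, ← Module.End.mul_apply,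
      ← map_mul, ← map_mul]
    have h3 : e1 * of k G g * w = 0 := by
      have h4 : w = e1 * w := by rw [h.e_supp h.w_mem, h.we]
      rw [h4, ← mul_assoc, mul_assoc e1 (of k G g) e1, of_mul_eq_conjK, ← mul_assoc e1, h.orth g hg hgT,
        zero_mul, zero_mul]
    rw [h3, map_zero, LinearMap.zero_apply]
  have hTsum : ∀ v, Le (∑ o ∈ Finset.univ.filter (fun o : G ⧸ P => o.out ∈ T), φ o (R e1 v)) =
      (e : k) • Φ v := by
    intro v
    have hb : ∑ o ∈ Finset.univ.filter (fun o : G ⧸ P => o.out ∈ T), φ o (R e1 v) =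
        ∑ i ∈ Finset.range e, ∑ o ∈ cosets P C, φ (QuotientGroup.mk (t ^ i * o.out)) (R e1 v) := by
      rw [← Finset.sum_product']
      symm
      refine Finset.sum_bij (fun x _ => (QuotientGroup.mk (t ^ x.1 * x.2.out) : G ⧸ P))
        (fun x hx => ?_) (fun x hx x' hx' he => ?_) (fun o ho => ?_) fun x _ => rfl
      · refine Finset.mem_filter.2 ⟨Finset.mem_univ _, (out_mem_iff hPT _).2 ?_⟩
        exact T.mul_mem (h.tpow_mem _) (h.CT (mem_cosets.1 (Finset.mem_product.1 hx).2))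
      · obtain ⟨hx1, hx2⟩ := Finset.mem_product.1 hx
        obtain ⟨hy1, hy2⟩ := Finset.mem_product.1 hx'
        have h3 := QuotientGroup.eq.1 he
        have h4 : (t ^ x'.1)⁻¹ * (t ^ x.1 * x.2.out) ∈ C := by
          have h5 : (t ^ x'.1)⁻¹ * (t ^ x.1 * x.2.out) =
              x'.2.out * ((t ^ x.1 * x.2.out)⁻¹ * (t ^ x'.1 * x'.2.out))⁻¹ := by group
          rw [h5]
          exact C.mul_mem (mem_cosets.1 hy2) (C.inv_mem (h.PC h3))
        obtain ⟨i, -, huniq⟩ := h.gen _ (T.mul_mem (h.tpow_mem x.1) (h.CT (mem_cosets.1 hx2)))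
        have h6 : x.1 = x'.1 := by
          rw [huniq x.1 ⟨Finset.mem_range.1 hx1, by rw [inv_mul_cancel_left]; exact mem_cosets.1 hx2⟩,
            huniq x'.1 ⟨Finset.mem_range.1 hy1, h4⟩]
        refine Prod.ext h6 ?_
        rw [h6, mul_inv_rev, mul_assoc, inv_mul_cancel_left] at h3
        rw [← QuotientGroup.out_eq' x.2, ← QuotientGroup.out_eq' x'.2]
        exact QuotientGroup.eq.2 h3
      · have hoT := (Finset.mem_filter.1 ho).2
        obtain ⟨i, ⟨hi, hci⟩, -⟩ := h.gen _ hoT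
        refine ⟨(i, QuotientGroup.mk ((t ^ i)⁻¹ * o.out)), Finset.mem_product.2
          ⟨Finset.mem_range.2 hi, mem_cosets.2 ((out_mem_iff h.PC _).2 hci)⟩, ?_⟩
        obtain ⟨u, hu⟩ := QuotientGroup.mk_out_eq_mul P ((t ^ i)⁻¹ * o.out)
        show QuotientGroup.mk (t ^ i * (QuotientGroup.mk ((t ^ i)⁻¹ * o.out) : G ⧸ P).out) = o
        rw [hu, ← mul_assoc, mul_inv_cancel_left, QuotientGroup.mk_mul_of_mem _ u.2]
        exact QuotientGroup.out_eq' o
    rw [hb, map_sum]
    have hi : ∀ i ∈ Finset.range e,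
        Le (∑ o ∈ cosets P C, φ (QuotientGroup.mk (t ^ i * o.out)) (R e1 v)) = Φ v := by
      intro i _
      have h3 : ∀ o ∈ cosets P C, φ (QuotientGroup.mk (t ^ i * o.out)) (R e1 v) =
          R (of k G (t ^ i)) (R (conjK o.out w) (Φ (R (of k G (t ^ i)⁻¹) (R e1 v)))) := by
        intro o ho
        have hoT : o.out ∈ T := h.CT (mem_cosets.1 ho)
        rw [hφ, hy, Module.End.mul_apply, hLw, mul_inv_rev, ← R_comp (R := R) (o.out)⁻¹,
          hΦ _ (inv_mem hoT), ← R_comp (R := R) (t ^ i) o.out]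
        simp only [conjK, map_mul, Module.End.mul_apply]
      rw [Finset.sum_congr rfl h3, ← map_sum, ← LinearMap.sum_apply, ← map_sum, h.trace, h1,
        hΦ _ (h.tinv_mem i), h2, R_comp, mul_inv_cancel, R_one, hLe, h1]
    rw [Finset.sum_congr rfl hi, Finset.sum_const, Finset.card_range, Nat.cast_smul_eq_nsmul]
  have hsplit : ∀ v, c • R e1 v = (e : k) • Φ v + Le ((∑ o ∈ s, φ o) (R e1 v)) := by
    intro v
    have h3 : Le (F (R e1 v)) = c • R e1 v := by
      rw [hc, map_smul, hLe, ← Module.End.mul_apply, ← map_mul, h.core.idem]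
    rw [← h3, hF, LinearMap.sum_apply, LinearMap.sum_apply,
      ← Finset.sum_filter_add_sum_filter_not Finset.univ (fun o : G ⧸ P => o.out ∈ T) (fun o => φ o (R e1 v)),
      map_add, hTsum]
    congr 1
    rw [map_sum, map_sum]
    refine (Finset.sum_subset (fun o ho => ?_) fun o ho hno => ?_).symm
    · rw [hs, Finset.mem_filter] at ho
      exact Finset.mem_filter.2 ⟨Finset.mem_univ _, fun h5 => ho.2 (h.TN h5)⟩
    · have hoT := (Finset.mem_filter.1 ho).2
      have hoN : o.out ∈ NZ := by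
        by_contra h5
        exact hno (Finset.mem_filter.2 ⟨Finset.mem_univ _, h5⟩)
      have := hmid o.out hoN hoT (R e1 v)
      rwa [QuotientGroup.out_eq'] at this
  obtain ⟨h', hh'⟩ := hfree
  refine ⟨c * (e : k)⁻¹, -(e : k)⁻¹ • (Le.comp (∑ o ∈ s, φ o)).comp (R e1),
    IsTr.smul ⟨h'.comp (R e1), fun v => ?_⟩ _, fun v => ?_⟩
  · rw [LinearMap.comp_apply, hh']
    refine Finset.sum_congr rfl fun x _ => ?_
    rw [LinearMap.comp_apply, h.R_T_comm (inv_mem x.2)]
  · have h3 := congrArg (fun u => (e : k)⁻¹ • u) (hsplit v)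
    simp only [smul_add, smul_smul, inv_mul_cancel₀ h.e_ne, one_smul] at h3
    rw [mul_comm c, h3, LinearMap.smul_apply, LinearMap.comp_apply, LinearMap.comp_apply, neg_smul,
      add_neg_cancel_right]

end endo

section socleMaps

variable {V : Type*} [AddCommGroup V] [Module k V] {R : MonoidAlgebra k G →ₐ[k] Module.End k V}
  {σ : G → Module.End k (socle C q ε N)}
  (hc : ∀ c ∈ C, ∀ y : socle C q ε N, (σ c y : MonoidAlgebra k G) = of k G c * y)
  {F : V →ₗ[k] socle C q ε N} (hF : IsEq T R σ F)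

include hc hF

theorem eq_supp {x : MonoidAlgebra k G} (hx : x ∈ supp k C) (v : V) :
    (F (R x v) : MonoidAlgebra k G) = x * (F v : MonoidAlgebra k G) := by
  refine supp_induction (motive := fun x => (F (R x v) : MonoidAlgebra k G) = x * (F v)) hx
    (fun y y' hy hy' => by
      rw [map_add, LinearMap.add_apply, map_add, Submodule.coe_add, hy, hy', add_mul])
    (by simp) fun r c hcC => ?_
  rw [map_smul, LinearMap.smul_apply, map_smul, Submodule.coe_smul, smul_mul_assoc,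
    hF c (h.CT hcC), hc c hcC]

theorem eq_e (v : V) : F (R e1 v) = F v :=
  Subtype.ext (by rw [h.eq_supp hc hF h.core.mem_e, h.socle_e (F v).2])

/-- A map that kills the kernel of the top power of `q` is a trace. -/
theorem trace_of_kills [Fintype T] (hσ : IsTRep T σ)
    (h0 : ∀ u, R e1 u = u → R (q ^ (N - 1)) u = 0 → F u = 0) : IsTr T R σ F := by
  classical
  set x0 : socle C q ε N := ⟨_, h.socle_x0⟩
  obtain ⟨ν, hν⟩ : ∃ ν : MonoidAlgebra k G →ₗ[k] k, ν (q ^ (N - 1) * ε) = 1 := by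
    obtain ⟨ν, hν⟩ := exists_factor (LinearMap.toSpanSingleton k _ (q ^ (N - 1) * ε)) LinearMap.id
      fun r hr => (smul_eq_zero.1 hr).resolve_right h.core.ne
    exact ⟨ν, by have := hν 1; rwa [LinearMap.toSpanSingleton_apply, one_smul] at this⟩
  have hεF : ∀ v, ε * (F v : MonoidAlgebra k G) =
      ν (F (R ε v)) • (q ^ (N - 1) * ε) := by
    intro v
    obtain ⟨c, hc'⟩ := h.socle_ε (F v).2
    rw [h.eq_supp hc hF h.core.mem_ε, hc', map_smul, hν, smul_eq_mul, mul_one]
  have he_ε : ∀ v, R e1 (R ε v) = R ε v := fun v => by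
    rw [← Module.End.mul_apply, ← map_mul, h.e_supp h.core.mem_ε, h.core.εe]
  obtain ⟨φ, hφ⟩ := exists_factor ((R (q ^ (N - 1))).comp (R ε))
    (ν.comp ((socle C q ε N).subtype.comp (F.comp (R ε)))) fun v hv => by
      rw [LinearMap.comp_apply, LinearMap.comp_apply, LinearMap.comp_apply,
        h0 _ (he_ε v) hv, map_zero, map_zero]
  have hφN : ∀ u, φ (R (q ^ N) (R ε u)) = 0 := fun u => by
    rw [h.core.nil, map_zero, LinearMap.zero_apply, map_zero]
  obtain ⟨Φ, hlin, hΦe, hval⟩ := h.exists_corner_map (R := R)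
    (Algebra.lmul k (MonoidAlgebra k G)) (m := N) φ ε h.core.εidem
    (show q ^ N * ε = 0 by rw [h.core.nil, zero_mul]) hφN
  have hlin' : ∀ x ∈ supp k C, ∀ v, Φ (R x v) = x * Φ v := hlin
  have hΦS : ∀ u, Φ u ∈ supp k C := fun u => by
    rw [hval]
    refine sum_mem fun l _ => ?_
    rw [map_sum]
    refine sum_mem fun i _ => ?_
    rw [map_smul]
    exact (supp k C).smul_mem (mul_mem (mul_mem (h.core.mem_a l) h.core.mem_ε)
      (mul_mem (pow_mem h.core.mem_q _) h.core.mem_ε)) _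
  -- the value
  have hFΦ : ∀ u, (F u : MonoidAlgebra k G) = q ^ (N - 1) * Φ u * ε := by
    intro u
    have h1 : q ^ (N - 1) * Φ u * ε =
        ∑ l, a l * ε * (ν (F (R ε (R (b l) u))) • (q ^ (N - 1) * ε)) := by
      rw [hval, Finset.mul_sum, Finset.sum_mul]
      refine Finset.sum_congr rfl fun l _ => ?_
      show q ^ (N - 1) * (a l * ε * ∑ i ∈ Finset.range N,
        φ (R (q ^ i) (R (ε * b l) u)) • (q ^ (N - 1 - i) * ε)) * ε = _
      rw [← mul_assoc (q ^ (N - 1)), h.core.qpow_cen _ (mul_mem (h.core.mem_a l) h.core.mem_ε),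
        mul_assoc (a l * ε), mul_assoc (a l * ε)]
      congr 1
      rw [Finset.mul_sum, Finset.sum_mul, Finset.sum_eq_single (N - 1)]
      · rw [mul_smul_comm, smul_mul_assoc, Nat.sub_self, pow_zero, one_mul, mul_assoc, h.core.εidem,
          map_mul, Module.End.mul_apply]
        congr 1
        exact hφ _
      · intro i hi hne
        have := Finset.mem_range.1 hi
        rw [mul_smul_comm, smul_mul_assoc, ← mul_assoc, h.core.top_mul (by omega), zero_mul,
          zero_mul, smul_zero]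
      · intro hn
        exact absurd (Finset.mem_range.2 (by have := h.core.hN; omega)) hn
    rw [h1]
    conv_lhs => rw [← h.socle_expand (F u).2]
    refine Finset.sum_congr rfl fun l _ => ?_
    rw [← hεF, mul_assoc ε, h.eq_supp hc hF (h.core.mem_b l), mul_assoc (a l), ← mul_assoc ε ε,
      h.core.εidem]
  -- the coefficient map
  let co : MonoidAlgebra k G →ₗ[k] k :=
    { toFun := fun y => y.coeff 1
      map_add' := fun y y' => by simp
      map_smul' := fun r y => by simp }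
  refine ⟨(e : k)⁻¹ • (co.comp Φ).smulRight x0, fun v => ?_⟩
  have hC : ∀ u, F u = ∑ c ∈ elems C, σ c ((co (Φ (R (of k G c⁻¹) u))) • x0) := by
    intro u
    apply Subtype.ext
    rw [hFΦ, Submodule.coe_sum]
    conv_lhs => rw [supp_expand (hΦS u), Finset.mul_sum, Finset.sum_mul]
    refine Finset.sum_congr rfl fun c hcm => ?_
    have hcC := mem_elems.1 hcm
    rw [map_smul, Submodule.coe_smul, hc c hcC]
    show _ = _ • (of k G c * (q ^ (N - 1) * ε))
    rw [← mul_assoc (of k G c), ← h.core.qpow_cen _ (of_mem_supp hcC), mul_smul_comm,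
      smul_mul_assoc]
    congr 1
    show _ = (Φ (R (of k G c⁻¹) u)).coeff 1
    rw [hlin' _ (of_mem_supp (C.inv_mem hcC)), coeff_of_mul, inv_inv, mul_one]
  have hstep : ∑ x : T, σ (x : G) ((co (Φ (R (of k G (x : G)⁻¹) v))) • x0) = (e : k) • F v := by
    rw [← h.sum_T fun x => σ x ((co (Φ (R (of k G x⁻¹) v))) • x0)]
    have e1' : ∀ i ∈ Finset.range e, ∑ c ∈ elems C,
        σ (t ^ i * c) ((co (Φ (R (of k G (t ^ i * c)⁻¹) v))) • x0) = F v := by
      intro i _
      have e2 : F v = σ (t ^ i) (F (R (of k G (t ^ i)⁻¹) v)) := by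
        rw [← hF _ (h.tpow_mem i), R_comp, mul_inv_cancel, R_one]
      rw [e2, hC, map_sum]
      refine Finset.sum_congr rfl fun c hcm => ?_
      rw [hσ.comp (h.tpow_mem i) (h.CT (mem_elems.1 hcm)), R_comp, mul_inv_rev]
    rw [Finset.sum_congr rfl e1', Finset.sum_const, Finset.card_range, Nat.cast_smul_eq_nsmul]
  simp only [LinearMap.smul_apply, LinearMap.smulRight_apply, LinearMap.comp_apply, map_smul,
    ← Finset.smul_sum] at hstep ⊢
  rw [hstep, smul_smul, inv_mul_cancel₀ h.e_ne, one_smul]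

end socleMaps

section separate

variable {V : Type*} [AddCommGroup V] [Module k V] [FiniteDimensional k V]
  {R : MonoidAlgebra k G →ₐ[k] Module.End k V}

/-- If `m` is least with `F` nonzero on the kernel of `q ^ m`, a map to another extension vanishes
there. -/
theorem separate [Fintype P] [Fintype T] (hR : Function.Surjective R)
    {σ σ' : G → Module.End k (socle C q ε N)} (hσ : IsTRep T σ) (hσ' : IsTRep T σ')
    (hc : ∀ c ∈ C, ∀ y : socle C q ε N, (σ c y : MonoidAlgebra k G) = of k G c * y)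
    (hc' : ∀ c ∈ C, ∀ y : socle C q ε N, (σ' c y : MonoidAlgebra k G) = of k G c * y)
    {ν : k} (hν : ν ^ e = 1) (hν1 : ν ≠ 1) (hrel : ∀ i y, σ' (t ^ i) y = ν ^ i • σ (t ^ i) y)
    {F F' : V →ₗ[k] socle C q ε N} (hF : IsEq T R σ F) (hF' : IsEq T R σ' F') {m : ℕ}
    (hm0 : 1 ≤ m) (hmN : m ≤ N - 1)
    (hprev : ∀ u, R e1 u = u → R (q ^ (m - 1)) u = 0 → F u = 0)
    (hm : ∃ u, R e1 u = u ∧ R (q ^ m) u = 0 ∧ F u ≠ 0) :
    ∀ u, R e1 u = u → R (q ^ m) u = 0 → F' u = 0 := by
  classical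
  obtain ⟨M, rfl⟩ : ∃ M, m = M + 1 := ⟨m - 1, by omega⟩
  rw [Nat.add_sub_cancel] at hprev
  obtain ⟨u₀, hu₀, hu₀m, hu₀F⟩ := hm
  set x0 : socle C q ε N := ⟨_, h.socle_x0⟩ with hx0
  obtain ⟨ν₀, hν₀⟩ : ∃ ν₀ : MonoidAlgebra k G →ₗ[k] k, ν₀ (q ^ (N - 1) * ε) = 1 := by
    obtain ⟨ν₀, hν₀⟩ := exists_factor (LinearMap.toSpanSingleton k _ (q ^ (N - 1) * ε)) LinearMap.id
      fun r hr => (smul_eq_zero.1 hr).resolve_right h.core.ne
    exact ⟨ν₀, by have := hν₀ 1; rwa [LinearMap.toSpanSingleton_apply, one_smul] at this⟩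
  -- values on the corner
  have hcorner : ∀ (τ : G → Module.End k (socle C q ε N))
      (hτ : ∀ c ∈ C, ∀ y : socle C q ε N, (τ c y : MonoidAlgebra k G) = of k G c * y)
      (K : V →ₗ[k] socle C q ε N), IsEq T R τ K → ∀ v, R ε v = v → K v = ν₀ (K v) • x0 := by
    intro τ hτ K hK v hv
    obtain ⟨c, hc''⟩ := h.socle_ε (K v).2
    have h1 := h.eq_supp hτ hK h.core.mem_ε v
    rw [hv, hc''] at h1
    apply Subtype.ext
    rw [Submodule.coe_smul, h1, map_smul, hν₀, smul_eq_mul, mul_one]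
  have hεe : ∀ v, R e1 (R ε v) = R ε v := fun v => by
    rw [← Module.End.mul_apply, ← map_mul, h.e_supp h.core.mem_ε, h.core.εe]
  have hqcomm : ∀ (i : ℕ) {x : MonoidAlgebra k G}, x ∈ supp k C → ∀ v,
      R (q ^ i) (R x v) = R x (R (q ^ i) v) := fun i x hx v => by
    rw [← Module.End.mul_apply, ← map_mul, h.core.qpow_cen i hx, map_mul, Module.End.mul_apply]
  -- the generator
  obtain ⟨v, hvε, hvm, hvF⟩ : ∃ v, R ε v = v ∧ R (q ^ (M + 1)) v = 0 ∧ F v = x0 := by
    obtain ⟨r, hr, e'⟩ := h.socle_gen' (F u₀).2 fun h0 => hu₀F (Subtype.ext h0)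
    refine ⟨R ε (R r u₀), ?_, ?_, Subtype.ext ?_⟩
    · rw [← Module.End.mul_apply, ← map_mul, h.core.εidem]
    · rw [hqcomm _ h.core.mem_ε, hqcomm _ hr, hu₀m, map_zero, map_zero]
    · rw [h.eq_supp hc hF h.core.mem_ε, h.eq_supp hc hF hr, e', ← mul_assoc,
        ← h.core.qpow_cen _ h.core.mem_ε, mul_assoc, h.core.εidem]
  -- the functional
  let Z : Submodule k V := LinearMap.ker ((R (q ^ (M + 1))).comp (R ε))
  obtain ⟨φ, hφ⟩ := exists_factor
    ((((R (q ^ M)).comp (R ε)).comp Z.subtype).coprod ((R (q ^ (M + 1))).comp (R ε)))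
    ((ν₀.comp ((socle C q ε N).subtype.comp (F.comp ((R ε).comp Z.subtype)))).coprod 0)
    fun x hx => by
      obtain ⟨⟨x1, hx1⟩, x2⟩ := x
      simp only [LinearMap.coprod_apply, LinearMap.comp_apply, Submodule.subtype_apply,
        LinearMap.zero_apply, add_zero] at hx ⊢
      have h2 : R (q ^ M) (R ε x1 + R q (R ε x2)) = 0 := by
        rw [map_add, ← Module.End.mul_apply (R (q ^ M)) (R q), ← map_mul, ← pow_succ]
        exact hx
      have h3 : R e1 (R ε x1 + R q (R ε x2)) = R ε x1 + R q (R ε x2) := by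
        rw [map_add, hεe, ← Module.End.mul_apply (R e1) (R q), ← map_mul, h.e_supp h.core.mem_q,
          h.core.qe]
      have h4 := congrArg Subtype.val (hprev _ h3 h2)
      rw [map_add, Submodule.coe_add, h.eq_supp hc hF h.core.mem_q, h.socle_q (F _).2, add_zero] at h4
      rw [h4]
      exact map_zero _
  have hφ1 : ∀ x, φ (R (q ^ (M + 1)) (R ε x)) = 0 := fun x => by
    have := hφ (0, x)
    simpa using this
  have hφ2 : ∀ x, R ε x = x → R (q ^ (M + 1)) x = 0 → φ (R (q ^ M) x) = ν₀ (F x) := by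
    intro x hx hx'
    have := hφ (⟨x, by rw [LinearMap.mem_ker, LinearMap.comp_apply, hx, hx']⟩, 0)
    simpa [hx] using this
  obtain ⟨Φ₀, hlin, hΦe, hval⟩ := h.exists_corner_map (R := R) R (m := M + 1) φ v hvε hvm hφ1
  have hΦe2 : ∀ u, Φ₀ (R e1 u) = Φ₀ u := fun u => by rw [hlin _ h.core.mem_e, hΦe]
  -- values on the kernel
  have hker : ∀ (τ : G → Module.End k (socle C q ε N))
      (hτ : ∀ c ∈ C, ∀ y : socle C q ε N, (τ c y : MonoidAlgebra k G) = of k G c * y)
      (K : V →ₗ[k] socle C q ε N), IsEq T R τ K → ∀ u, R e1 u = u → R (q ^ (M + 1)) u = 0 →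
      (K (Φ₀ u) : MonoidAlgebra k G) = ν₀ (K v) • (F u : MonoidAlgebra k G) := by
    intro τ hτ K hK u hu hum
    rw [hval, map_sum, Submodule.coe_sum]
    conv_rhs => rw [← h.socle_expand (F u).2, Finset.smul_sum]
    refine Finset.sum_congr rfl fun l _ => ?_
    have hw1 : R ε (R (ε * b l) u) = R (ε * b l) u := by
      rw [← Module.End.mul_apply, ← map_mul, ← mul_assoc, h.core.εidem]
    have hw2 : R (q ^ (M + 1)) (R (ε * b l) u) = 0 := by
      rw [hqcomm _ (mul_mem h.core.mem_ε (h.core.mem_b l)), hum, map_zero]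
    rw [h.eq_supp hτ hK (mul_mem (h.core.mem_a l) h.core.mem_ε), map_sum, Submodule.coe_sum,
      Finset.sum_eq_single M]
    · rw [Nat.add_sub_cancel, Nat.sub_self, pow_zero, map_one, Module.End.one_apply, map_smul,
        hφ2 _ hw1 hw2, Submodule.coe_smul]
      obtain ⟨lam, hlam, hKv⟩ : ∃ lam, ν₀ (K v) = lam ∧ (K v : MonoidAlgebra k G) = lam • (x0 : MonoidAlgebra k G) :=
        ⟨_, rfl, congrArg Subtype.val (hcorner τ hτ K hK v hvε)⟩
      rw [hlam, hKv]
      have h5 := congrArg Subtype.val (hcorner σ hc F hF _ hw1)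
      rw [h.eq_supp hc hF (mul_mem h.core.mem_ε (h.core.mem_b l)), Submodule.coe_smul] at h5
      rw [h5, h.eq_supp hc hF (mul_mem h.core.mem_ε (h.core.mem_b l))]
      simp only [mul_smul_comm]
      rw [smul_comm]
      simp only [hx0]
      rw [mul_assoc (a l), ← mul_assoc ε (q ^ (N - 1)), ← h.core.qpow_cen _ h.core.mem_ε,
        mul_assoc (q ^ (N - 1)), h.core.εidem]
    · intro i hi hne
      have := Finset.mem_range.1 hi
      rw [map_smul, Submodule.coe_smul, h.eq_supp hτ hK (pow_mem h.core.mem_q _)]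
      obtain ⟨j, hj⟩ : ∃ j, M + 1 - 1 - i = j + 1 := ⟨M - i - 1, by omega⟩
      rw [hj, pow_succ, mul_assoc, h.socle_q (K v).2, mul_zero, smul_zero]
    · intro hn
      exact absurd (Finset.mem_range.2 (Nat.lt_succ_self M)) hn
  -- averaging
  let Φ : Module.End k V := (e : k)⁻¹ • ∑ i ∈ Finset.range e,
    (R (of k G (t ^ i))).comp (Φ₀.comp (R (of k G (t ^ i)⁻¹)))
  have hΦv : ∀ u, Φ u = (e : k)⁻¹ • ∑ i ∈ Finset.range e,
      R (of k G (t ^ i)) (Φ₀ (R (of k G (t ^ i)⁻¹) u)) := fun u => by simp [Φ]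
  have hΦC : ∀ c ∈ C, ∀ u, Φ (R (of k G c) u) = R (of k G c) (Φ u) := by
    intro c hcC u
    rw [hΦv, hΦv, map_smul, map_sum]
    congr 1
    refine Finset.sum_congr rfl fun i _ => ?_
    have hmem : (t ^ i)⁻¹ * c * t ^ i ∈ C := by
      have := h.TC (h.TN (h.tinv_mem i)) hcC
      rwa [inv_inv] at this
    rw [R_comp, show (t ^ i)⁻¹ * c = ((t ^ i)⁻¹ * c * t ^ i) * (t ^ i)⁻¹ by group, ← R_comp,
      hlin _ (of_mem_supp hmem), R_comp, R_comp]
    congr 3
    group
  have hΦt : ∀ u, Φ (R (of k G t) u) = R (of k G t) (Φ u) := by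
    intro u
    rw [hΦv, hΦv, map_smul, map_sum]
    congr 1
    obtain ⟨e', he'⟩ : ∃ e', e = e' + 1 := ⟨e - 1, by
      rcases Nat.eq_zero_or_pos e with h0 | h0
      · exact absurd (by rw [h0, Nat.cast_zero]) h.e_ne
      · omega⟩
    have hte : t ^ (e' + 1) ∈ C := he' ▸ h.te
    rw [he', Finset.sum_range_succ', Finset.sum_range_succ]
    congr 1
    · refine Finset.sum_congr rfl fun i _ => ?_
      rw [R_comp, R_comp, ← pow_succ', show (t ^ (i + 1))⁻¹ * t = (t ^ i)⁻¹ by rw [pow_succ']; group]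
    · rw [pow_zero, inv_one, R_one, R_one, R_comp, ← pow_succ',
        show t = t ^ (e' + 1) * (t ^ e')⁻¹ by rw [pow_succ']; group, ← R_comp,
        hlin _ (of_mem_supp hte)]
      congr 4
      group
  have hΦT : ∀ x ∈ T, ∀ u, Φ (R (of k G x) u) = R (of k G x) (Φ u) := by
    intro x hx u
    have hpow : ∀ (j : ℕ) u, Φ (R (of k G (t ^ j)) u) = R (of k G (t ^ j)) (Φ u) := by
      intro j
      induction j with
      | zero => intro u; rw [pow_zero, R_one, R_one]
      | succ j ih => intro u; rw [pow_succ', ← R_comp, hΦt, ih, R_comp]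
    obtain ⟨i, ⟨-, hc0⟩, -⟩ := h.gen x hx
    rw [show x = t ^ i * ((t ^ i)⁻¹ * x) by group, ← R_comp, hpow, hΦC _ hc0, R_comp]
  have hΦe1 : ∀ u, R e1 (Φ u) = Φ u := by
    intro u
    rw [hΦv, map_smul, map_sum]
    congr 1
    exact Finset.sum_congr rfl fun i _ => by rw [← h.R_T_comm (h.tpow_mem i), hΦe]
  have hΦe1' : ∀ u, Φ (R e1 u) = Φ u := by
    intro u
    rw [hΦv, hΦv]
    congr 1
    exact Finset.sum_congr rfl fun i _ => by rw [h.R_T_comm (h.tinv_mem i), hΦe2]
  obtain ⟨c, τ, hτ, hsplit⟩ := h.stable_scalar hR Φ hΦT hΦe1 hΦe1'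
  have hkill : ∀ (σ₀ : G → Module.End k (socle C q ε N))
      (hσ₀ : ∀ c ∈ C, ∀ y : socle C q ε N, (σ₀ c y : MonoidAlgebra k G) = of k G c * y)
      (K : V →ₗ[k] socle C q ε N), IsEq T R σ₀ K → ∀ u, R e1 u = u → R (q ^ (M + 1)) u = 0 →
      K (Φ u) = c • K u := by
    intro σ₀ hσ₀ K hK u hu hum
    have hu' : R (q ^ (N - 1)) u = 0 := by
      obtain ⟨j, hj⟩ := Nat.exists_eq_add_of_le' hmN
      rw [hj, pow_add, map_mul, Module.End.mul_apply, hum, map_zero]
    obtain ⟨v', hv'⟩ := h.trace_kills hτ hu hu'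
    rw [← h.eq_e hσ₀ hK (Φ u), hsplit, map_add, map_add, hv', map_smul, map_smul, hu, hu]
    rw [show K (R q v') = 0 from Subtype.ext (by
      rw [h.eq_supp hσ₀ hK h.core.mem_q, h.socle_q (K v').2]; rfl), add_zero]
  have hu_t : ∀ u, R e1 u = u → R (q ^ (M + 1)) u = 0 → ∀ i,
      R e1 (R (of k G (t ^ i)⁻¹) u) = R (of k G (t ^ i)⁻¹) u ∧
        R (q ^ (M + 1)) (R (of k G (t ^ i)⁻¹) u) = 0 := fun u hu hum i =>
    ⟨by rw [← h.R_T_comm (h.tinv_mem i), hu], h.kernel_stable (h.tinv_mem i) _ hum⟩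
  have hFΦ : ∀ u, R e1 u = u → R (q ^ (M + 1)) u = 0 → F (Φ u) = F u := by
    intro u hu hum
    rw [hΦv, map_smul, map_sum]
    have e1' : ∀ i ∈ Finset.range e,
        F (R (of k G (t ^ i)) (Φ₀ (R (of k G (t ^ i)⁻¹) u))) = F u := by
      intro i _
      obtain ⟨h4, h5⟩ := hu_t u hu hum i
      have h6 : F (Φ₀ (R (of k G (t ^ i)⁻¹) u)) = F (R (of k G (t ^ i)⁻¹) u) := Subtype.ext (by
        rw [hker σ hc F hF _ h4 h5, hvF, hν₀, one_smul])
      rw [hF _ (h.tpow_mem i), h6, ← hF _ (h.tpow_mem i), R_comp, mul_inv_cancel, R_one]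
    rw [Finset.sum_congr rfl e1', Finset.sum_const, Finset.card_range, ← Nat.cast_smul_eq_nsmul k,
      smul_smul, inv_mul_cancel₀ h.e_ne, one_smul]
  have hF'Φ : ∀ u, R e1 u = u → R (q ^ (M + 1)) u = 0 → F' (Φ u) = 0 := by
    intro u hu hum
    rw [hΦv, map_smul, map_sum]
    have e1' : ∀ i ∈ Finset.range e,
        F' (R (of k G (t ^ i)) (Φ₀ (R (of k G (t ^ i)⁻¹) u))) = ν ^ i • (ν₀ (F' v) • F u) := by
      intro i _
      obtain ⟨h4, h5⟩ := hu_t u hu hum i
      have h6 : F' (Φ₀ (R (of k G (t ^ i)⁻¹) u)) = ν₀ (F' v) • F (R (of k G (t ^ i)⁻¹) u) :=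
        Subtype.ext (by rw [hker σ' hc' F' hF' _ h4 h5, Submodule.coe_smul])
      rw [hF' _ (h.tpow_mem i), h6, map_smul, hrel, smul_comm, ← hF _ (h.tpow_mem i), R_comp,
        mul_inv_cancel, R_one]
    rw [Finset.sum_congr rfl e1', ← Finset.sum_smul]
    have h7 : ∑ i ∈ Finset.range e, ν ^ i = 0 := by
      have h8 := geom_sum_mul ν e
      rw [hν, sub_self] at h8
      exact (mul_eq_zero.1 h8).resolve_right (sub_ne_zero.2 hν1)
    rw [h7, zero_smul, smul_zero]
  have hc1 : c = 1 := by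
    have h8 := hkill σ hc F hF u₀ hu₀ hu₀m
    rw [hFΦ u₀ hu₀ hu₀m] at h8
    by_contra hne
    have h9 : (c - 1) • F u₀ = 0 :=
      (sub_smul c (1 : k) (F u₀)).trans (by rw [one_smul, ← h8, sub_self])
    exact hu₀F ((smul_eq_zero.1 h9).resolve_left (sub_ne_zero.2 hne))
  intro u hu hum
  have h8 := hkill σ' hc' F' hF' u hu hum
  rw [hF'Φ u hu hum, hc1, one_smul] at h8
  exact h8.symm

/-- Nontrivial maps from one absolutely simple module to two extensions. -/
theorem not_two [Fintype P] [Fintype T] (hR : Function.Surjective R)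
    {σ σ' : G → Module.End k (socle C q ε N)} (hσ : IsTRep T σ) (hσ' : IsTRep T σ')
    (hc : ∀ c ∈ C, ∀ y : socle C q ε N, (σ c y : MonoidAlgebra k G) = of k G c * y)
    (hc' : ∀ c ∈ C, ∀ y : socle C q ε N, (σ' c y : MonoidAlgebra k G) = of k G c * y)
    {ν : k} (hν : ν ^ e = 1) (hν1 : ν ≠ 1) (hrel : ∀ i y, σ' (t ^ i) y = ν ^ i • σ (t ^ i) y)
    {F F' : V →ₗ[k] socle C q ε N} (hF : IsEq T R σ F) (hF' : IsEq T R σ' F')
    (hn : ¬ IsTr T R σ F) (hn' : ¬ IsTr T R σ' F') : False := by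
  classical
  have he0 : e ≠ 0 := fun h0 => h.e_ne (by rw [h0, Nat.cast_zero])
  have hν0 : ν ≠ 0 := fun h0 => by rw [h0, zero_pow he0] at hν; exact zero_ne_one hν
  have hmin : ∀ (τ : G → Module.End k (socle C q ε N))
      (hτ : ∀ c ∈ C, ∀ y : socle C q ε N, (τ c y : MonoidAlgebra k G) = of k G c * y)
      (hτ' : IsTRep T τ) (K : V →ₗ[k] socle C q ε N), IsEq T R τ K → ¬ IsTr T R τ K →
      ∃ m, 1 ≤ m ∧ m ≤ N - 1 ∧ (∃ u, R e1 u = u ∧ R (q ^ m) u = 0 ∧ K u ≠ 0) ∧
        ∀ j < m, ∀ u, R e1 u = u → R (q ^ j) u = 0 → K u = 0 := by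
    intro τ hτ hτ' K hK hnK
    have hex : ∃ m, ∃ u, R e1 u = u ∧ R (q ^ m) u = 0 ∧ K u ≠ 0 := by
      by_contra hno
      refine hnK (h.trace_of_kills hτ hK hτ' fun u hu hu' => ?_)
      by_contra hne
      exact hno ⟨N - 1, u, hu, hu', hne⟩
    refine ⟨Nat.find hex, ?_, ?_, Nat.find_spec hex, fun j hj u hu hu' => ?_⟩
    · refine Nat.pos_of_ne_zero fun h0 => ?_
      obtain ⟨u, -, hu, hu'⟩ := Nat.find_spec hex
      rw [h0, pow_zero, map_one, Module.End.one_apply] at hu
      exact hu' (by rw [hu, map_zero])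
    · by_contra hlt
      refine hnK (h.trace_of_kills hτ hK hτ' fun u hu hu' => ?_)
      by_contra hne
      exact Nat.find_min hex (not_le.1 hlt) ⟨u, hu, hu', hne⟩
    · by_contra hne
      exact Nat.find_min hex hj ⟨u, hu, hu', hne⟩
  obtain ⟨m, hm0, hmN, hm, hmp⟩ := hmin σ hc hσ F hF hn
  obtain ⟨m', hm0', hmN', hm', hmp'⟩ := hmin σ' hc' hσ' F' hF' hn'
  have h1 := h.separate hR hσ hσ' hc hc' hν hν1 hrel hF hF' hm0 hmN
    (fun u => hmp (m - 1) (by omega) u) hm
  have h2 := h.separate hR hσ' hσ hc' hc (ν := ν⁻¹) (by rw [inv_pow, hν, inv_one])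
    (fun h3 => hν1 (inv_eq_one.1 h3))
    (fun i y => by rw [hrel, smul_smul, ← mul_pow, inv_mul_cancel₀ hν0, one_pow, one_smul])
    hF' hF hm0' hmN' (fun u => hmp' (m' - 1) (by omega) u) hm'
  have key : ∀ {i j : ℕ} {u : V}, i ≤ j → R (q ^ i) u = 0 → R (q ^ j) u = 0 := fun {i j u} hij hu => by
    obtain ⟨l, rfl⟩ := Nat.exists_eq_add_of_le' hij
    rw [pow_add, map_mul, Module.End.mul_apply, hu, map_zero]
  obtain ⟨u, hu, hum, hne⟩ := hm
  obtain ⟨u', hu', hum', hne'⟩ := hm'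
  rcases le_total m m' with hle | hle
  · exact hne (h2 u hu (key hle hum))
  · exact hne' (h1 u' hu' (key hle hum'))

end separate

end LocalSetup

end CyclicRep

end CfsgLib.Blocks
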