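import Cfsg.Agent.Lib.Blocks.CyclicIso
import Cfsg.Agent.Lib.Blocks.HarrisKnorr
import Cfsg.Agent.Lib.Blocks.Covering
import Cfsg.Agent.Lib.Blocks.InducedChar
import Cfsg.Agent.Lib.CharTheory.AbelianInertia
import Cfsg.Agent.Lib.CharTheory.Linear

/-!
# The model groups `C_{p^a} ⋊ C_e` for cyclic defect theory
-/

namespace CfsgLib.Blocks

open Cfsg CfsgLib.CharTheory
open scoped ComplexConjugate

set_option linter.unusedVariables false
set_option linter.unusedSimpArgs false
set_option linter.style.haveILetI false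
set_option linter.unusedSectionVars false

universe u

variable {p : ℕ} {M : Ideal AlgInt} {F : Type u} [Group F] [Fintype F]

/-- With a self-centralizing normal `p`-subgroup there is only one block. -/
theorem sameBlock_all (hM : IsPModular p M) (N : Subgroup F) [N.Normal] (hN : IsPGroup p N)
    (hC : Subgroup.centralizer (N : Set F) ≤ N) (χ χ' : IrrCharacter F) :
    SameBlock M (χ : F → ℂ) (χ' : F → ℂ) := by
  classical
  haveI : Fact p.Prime := ⟨hM.1⟩
  refine sameBlock_of_regular hM fun g hg => ?_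
  rcases eq_or_ne g 1 with rfl | hg1
  · simp only [clv, centralChar]
    rw [mul_div_assoc, mul_div_assoc, div_self, div_self] <;>
      rw [← irr_charDegree_cast] <;> exact Nat.cast_ne_zero.2 (irr_charDegree_pos _).ne'
  · have hgN : g ∉ Subgroup.centralizer (N : Set F) := fun h => by
      obtain ⟨k, hk⟩ := IsPGroup.iff_orderOf.1 hN ⟨g, hC h⟩
      rw [← Subgroup.orderOf_coe] at hk
      change orderOf g = p ^ k at hk
      rcases k with _ | k
      · exact hg1 (orderOf_eq_one_iff.1 (by simpa using hk))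
      · exact hg (hk ▸ dvd_pow_self p (Nat.succ_ne_zero k))
    have hf : IsClassFunction F (fun x : F => if IsConj g x then (1 : ℂ) else 0) := fun x y => by
      have e : IsConj g (y * x * y⁻¹) ↔ IsConj g x :=
        ⟨fun h => h.trans (isConj_iff.2 ⟨y⁻¹, by group⟩), fun h => h.trans (isConj_iff.2 ⟨y, rfl⟩)⟩
      simp only [e]
    have hmem : ∀ x : F, MemLocalRing M (if IsConj g x then (1 : ℂ) else 0) := fun x => by
      split_ifs
      exacts [(loc hM).one_mem, (loc hM).zero_mem]
    have key : ∀ ψ : IrrCharacter F, res hM (clv g ψ) = 0 := fun ψ => by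
      have h1 := res_omega_congr_normal hM N hN hf (f' := fun _ => (0 : ℂ))
        (fun _ _ => rfl) hmem (fun _ => (loc hM).zero_mem) (fun x hx => by
          rw [if_neg]
          intro hc
          obtain ⟨y, hy⟩ := isConj_iff.1 hc
          refine hgN ?_
          have h2 := (inferInstance : (Subgroup.centralizer (N : Set F)).Normal).conj_mem x hx y⁻¹
          rwa [← hy, show y⁻¹ * (y * g * y⁻¹) * y⁻¹⁻¹ = g by group] at h2) ψ
      rw [← cf_clv, omega_cf] at h1
      rw [h1, show omega (ψ : F → ℂ) (fun _ => (0 : ℂ)) = 0 by simp [omega], res_zero]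
    rw [key, key]

theorem block_eq_univ (hM : IsPModular p M) (N : Subgroup F) [N.Normal] (hN : IsPGroup p N)
    (hC : Subgroup.centralizer (N : Set F) ≤ N) {B : Set (IrrCharacter F)}
    (hB : IsPBlock M B) : B = Set.univ := by
  obtain ⟨χ, rfl⟩ := hB
  exact Set.eq_univ_of_forall fun ψ => sameBlock_all hM N hN hC χ ψ

theorem univ_isPBlock (hM : IsPModular p M) (N : Subgroup F) [N.Normal] (hN : IsPGroup p N)
    (hC : Subgroup.centralizer (N : Set F) ≤ N) : IsPBlock M (Set.univ : Set (IrrCharacter F)) :=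
  ⟨⟨_, isIrrCharacter_one⟩,
    (block_eq_univ hM N hN hC (blockOf_isPBlock ⟨_, isIrrCharacter_one⟩)).symm⟩

/-- A subgroup of index less than `p` and of `p`-power order is normal. -/
theorem normal_of_small_index [Fact p.Prime] {Q : Subgroup F} {a : ℕ} (hQ : Nat.card Q = p ^ a)
    (hlt : Q.index < p) : Q.Normal := by
  have hp : p.Prime := Fact.out
  have hpos : 0 < Q.index := Nat.pos_of_ne_zero Subgroup.index_ne_zero_of_finite
  have hfac : (Nat.card F).factorization p = a := by
    rw [← Subgroup.card_mul_index Q, hQ, Nat.factorization_mul (pow_ne_zero _ hp.ne_zero) hpos.ne',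
      Finsupp.add_apply, Nat.factorization_pow_self hp,
      Nat.factorization_eq_zero_of_not_dvd fun h => absurd (Nat.le_of_dvd hpos h) (not_le.2 hlt),
      add_zero]
  let S : Sylow p F := Sylow.ofCard Q (by rw [hQ, hfac])
  have h1 : Nat.card (Sylow p F) ∣ Q.index := by
    have := S.card_dvd_index
    simpa [S] using this
  have h2 : Nat.card (Sylow p F) = 1 := by
    have h3 := card_sylow_modEq_one p F
    have h4 := Nat.le_of_dvd hpos h1
    rw [Nat.ModEq, Nat.mod_eq_of_lt (lt_of_le_of_lt h4 hlt), Nat.one_mod_eq_one.2 hp.ne_one] at h3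
    exact h3
  haveI : Subsingleton (Sylow p F) := (Nat.card_eq_one_iff_unique.1 h2).1
  exact Subgroup.normal_of_characteristic (h := Sylow.characteristic_of_subsingleton S) _

/-- The quotient by a self-centralizing cyclic normal subgroup is abelian. -/
theorem comm_mem_of_cyclic (Q : Subgroup F) [Q.Normal] [IsCyclic Q]
    (hC : Subgroup.centralizer (Q : Set F) = Q) (x y : F) : x * y * x⁻¹ * y⁻¹ ∈ Q := by
  set ψ : F →* MulAut Q := MulAut.conjNormal with hψ
  have hcomm : ∀ σ τ : MulAut Q, σ * τ = τ * σ := fun σ τ =>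
    (IsCyclic.mulAutMulEquiv Q).injective (by rw [map_mul, map_mul, mul_comm])
  have h1 : ψ (x * y * x⁻¹ * y⁻¹) = 1 := by
    rw [map_mul, map_mul, map_mul, map_inv, map_inv, hcomm (ψ x) (ψ y)]
    group
  refine hC.le ?_
  intro q hq
  have h2 := congrArg Subtype.val (DFunLike.congr_fun h1 ⟨q, hq⟩)
  change x * y * x⁻¹ * y⁻¹ * q * (x * y * x⁻¹ * y⁻¹)⁻¹ = q at h2
  exact (mul_inv_eq_iff_eq_mul.1 h2).symm

/-- The number of characters trivial on a normal subgroup with abelian quotient. -/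
theorem card_trivial_on (Q : Subgroup F) [Q.Normal]
    (hab : ∀ x y : F, x * y * x⁻¹ * y⁻¹ ∈ Q) :
    Nat.card {χ : IrrCharacter F // ∀ k ∈ Q, (χ : F → ℂ) k = (χ : F → ℂ) 1} = Q.index := by
  haveI := Fintype.ofFinite (F ⧸ Q)
  rw [← Nat.card_congr (quotientIrrEquiv Q), card_irr_eq_card_conjClasses, Subgroup.index]
  have hc : ∀ u v : F ⧸ Q, u * v = v * u := fun u v => by
    induction u using QuotientGroup.induction_on with
    | H x => induction v using QuotientGroup.induction_on with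
      | H y =>
        rw [← QuotientGroup.mk_mul, ← QuotientGroup.mk_mul, QuotientGroup.eq]
        have h1 := hab y⁻¹ x⁻¹
        simpa [mul_assoc] using h1
  refine (Nat.card_congr (Equiv.ofBijective (ConjClasses.mk (α := F ⧸ Q))
    ⟨fun u v h => ?_, Quot.mk_surjective⟩)).symm
  obtain ⟨w, hw⟩ := isConj_iff.1 (ConjClasses.mk_eq_mk_iff_isConj.1 h)
  rw [← hw, hc w u, mul_inv_cancel_right]

/-- The model group: the unique block, with its data. -/
theorem model_data [Fact p.Prime] (hM : IsPModular p M) {Q : Subgroup F} {a : ℕ} (ha : 1 ≤ a)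
    (hcyc : IsCyclic Q) (hcard : Nat.card Q = p ^ a) (hC : Subgroup.centralizer (Q : Set F) = Q)
    (hlt : Q.index < p) :
    ∃ c : Set (IrrCharacter (Subgroup.centralizer (Q : Set F))),
      CycData p M Set.univ Q c a ∧ pairStab Q c = ⊤ ∧ cycIndex Q c = Q.index := by
  classical
  haveI := normal_of_small_index hcard hlt
  have hQp : IsPGroup p Q := IsPGroup.of_card hcard
  have hB := univ_isPBlock hM Q hQp hC.le
  obtain ⟨g, hg⟩ := exists_defectClass hM hB
  obtain ⟨S⟩ : Nonempty (Sylow p (Subgroup.centralizer ({g} : Set F))) := inferInstance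
  have hD : IsDefectGroup p M (Set.univ : Set (IrrCharacter F)) _ := ⟨g, hg, S, rfl⟩
  set D := ((S : Subgroup (Subgroup.centralizer ({g} : Set F))).map
    (Subgroup.centralizer ({g} : Set F)).subtype) with hDdef
  have hQD : Q = D := by
    refine Subgroup.eq_of_le_of_card_ge (normal_le_defectGroup hM hB hQp hD) ?_
    obtain ⟨k, hk⟩ := IsPGroup.exists_card_eq (defectGroup_isPGroup hD)
    have h1 : p ^ k ∣ p ^ a * Q.index := by
      rw [← hk, ← hcard, Subgroup.card_mul_index]
      exact Subgroup.card_subgroup_dvd_card D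
    have hpos : 0 < Q.index := Nat.pos_of_ne_zero Subgroup.index_ne_zero_of_finite
    have h2 : (p ^ k).Coprime Q.index := ((hM.1.coprime_iff_not_dvd).2
      (fun h => absurd (Nat.le_of_dvd hpos h) (not_le.2 hlt))).pow_left k
    rw [hk, hcard]
    exact Nat.le_of_dvd (pow_pos hM.1.pos a) (h2.dvd_of_dvd_mul_right h1)
  rw [← hQD] at hD
  obtain ⟨c, hmax⟩ := exists_maximal_at hM hB hD
  haveI := Fintype.ofFinite (Subgroup.centralizer (Q : Set F))
  have hcu : c = Set.univ := by
    refine block_eq_univ hM (⊤ : Subgroup (Subgroup.centralizer (Q : Set F))) ?_ le_top hmax.1.1.2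
    exact (hQp.of_equiv (MulEquiv.subgroupCongr hC.symm)).to_subgroup ⊤
  have htop : pairStab Q c = ⊤ := by
    refine eq_top_iff.2 fun t _ => (mem_pairStab t).2 ?_
    have hN : t ∈ Subgroup.normalizer (Q : Set F) := by
      rw [Subgroup.normalizer_eq_top]; exact Subgroup.mem_top t
    refine ⟨hN, (stabilizesBlock_iff (normalizer_le_normalizer_cent Q hN)).2 ?_⟩
    rw [hcu, Set.image_univ, Set.range_eq_univ]
    exact Finite.injective_iff_surjective.1 (irrPull_injective _)
  refine ⟨c, ⟨hM, hmax, hcyc, hcard, ha⟩, htop, ?_⟩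
  rw [cycIndex, htop, Subgroup.relIndex_top_right, hC]

/-- Where the characters nontrivial on the normal subgroup lie. -/
theorem model_nontrivial [Fact p.Prime] {Q : Subgroup F} {a : ℕ}
    {c : Set (IrrCharacter (Subgroup.centralizer (Q : Set F)))}
    (h : CycData p M Set.univ Q c a) (hC : Subgroup.centralizer (Q : Set F) = Q)
    (htop : pairStab Q c = ⊤) (hidx : cycIndex Q c = Q.index) (he : 2 ≤ cycIndex Q c)
    [Fintype (↥Q →* ℂˣ)] {s : F → ℤ} {m : IrrCharacter F → (↥Q →* ℂˣ) → ℤ}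
    {ζ : (↥Q →* ℂˣ) → IrrCharacter F} {δ : ℤ} {α : IrrCharacter F → ℤ}
    {X Y : Finset (IrrCharacter F)} (hV : CycValues p M Set.univ Q c s m)
    (hS : CycShape Set.univ Q c a p m ζ δ α X Y) {η η' : IrrCharacter F}
    (hη : ∃ x ∈ Q, (η : F → ℂ) x ≠ (η : F → ℂ) 1) (hη' : ∃ x ∈ Q, (η' : F → ℂ) x ≠ (η' : F → ℂ) 1) :
    η = η' ∨ (η ∈ Y ∧ η' ∈ Y) := by
  classical
  have hlt : Q.index < p := hidx ▸ h.index_lt
  haveI := normal_of_small_index h.card hlt
  haveI := h.cyc
  have hab := comm_mem_of_cyclic Q hC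
  set T := Finset.univ.filter fun χ : IrrCharacter F => ∀ k ∈ Q, (χ : F → ℂ) k = (χ : F → ℂ) 1
    with hT
  have hTcard : T.card = cycIndex Q c := by
    rw [hidx, ← card_trivial_on Q hab, Nat.card_eq_fintype_card, Fintype.card_subtype]
  have hnT : ∀ {χ : IrrCharacter F}, (∃ x ∈ Q, (χ : F → ℂ) x ≠ (χ : F → ℂ) 1) → χ ∉ T := by
    rintro χ ⟨x, hx, hne⟩ hχ
    exact hne ((Finset.mem_filter.1 hχ).2 x hx)
  have hU : (X ∪ Y) = Finset.univ := Finset.eq_univ_of_forall fun χ =>
    Finset.mem_union.2 ((hS.union χ).1 (Set.mem_univ χ))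
  by_cases hY : Y.card ≤ 1
  · left
    have h1 : (Finset.univ \ T).card ≤ 1 := by
      rw [Finset.card_sdiff_of_subset (Finset.subset_univ _), ← hU,
        Finset.card_union_of_disjoint hS.disj, hS.cardX, hTcard]
      omega
    exact Finset.card_le_one.1 h1 η (Finset.mem_sdiff.2 ⟨Finset.mem_univ _, hnT hη⟩) η'
      (Finset.mem_sdiff.2 ⟨Finset.mem_univ _, hnT hη'⟩)
  · right
    have hreg : ∀ x : F, ∃ z ∈ Q, ∃ w : F, ¬ p ∣ orderOf w ∧ x = z * w := by
      intro x
      obtain ⟨z, w, hzw, -, ⟨k, hk⟩, hw, -, -⟩ := exists_pPart h.prime x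
      refine ⟨z, ?_, w, hw, hzw.symm⟩
      rw [← QuotientGroup.eq_one_iff, ← orderOf_eq_one_iff]
      have hd1 : orderOf (z : F ⧸ Q) ∣ p ^ k := hk ▸ orderOf_map_dvd (QuotientGroup.mk' Q) z
      have hd2 : orderOf (z : F ⧸ Q) ∣ Q.index := orderOf_dvd_natCard _
      have hpos : 0 < Q.index := Nat.pos_of_ne_zero Subgroup.index_ne_zero_of_finite
      exact Nat.eq_one_of_dvd_coprimes (((h.prime.coprime_iff_not_dvd).2
        (fun hd => absurd (Nat.le_of_dvd hpos hd) (not_le.2 hlt))).pow_left k) hd1 hd2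
    obtain ⟨g, hg⟩ : ∃ g : F, g ∉ Q := by
      by_contra hno
      push Not at hno
      rw [Subgroup.index_eq_one.2 (eq_top_iff.2 fun g _ => hno g)] at hidx
      omega
    -- linear characters are trivial on `Q`
    have hlin : ∀ χ : IrrCharacter F, (χ : F → ℂ) 1 = 1 →
        ∃ φ : F →* ℂˣ, (∀ x, (χ : F → ℂ) x = (φ x : ℂ)) ∧ ∀ x ∈ Q, φ x = 1 := by
      intro χ h1
      obtain ⟨φ, hφ⟩ := exists_hom_of_degree_one (isCharacter_of_irr χ.2) h1
      refine ⟨φ, congrFun hφ, fun x hx => ?_⟩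
      by_contra hne
      have h2 := h.free_char (t := g) (htop ▸ Subgroup.mem_top g) (θ := φ.comp Q.subtype)
        (fun e => hne (by simpa using DFunLike.congr_fun e ⟨x, hx⟩))
        (fun v w hw => by
          show φ (v : F) = φ (w : F)
          rw [hw, map_mul, map_mul, map_inv, mul_inv_cancel_comm])
      rw [hC] at h2
      exact hg h2
    have hTX : T ⊆ X := by
      intro χ hχ
      obtain ⟨-, hχT⟩ := Finset.mem_filter.1 hχ
      rcases Finset.mem_union.1 (hU.ge (Finset.mem_univ χ)) with hX | hχY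
      · exact hX
      exfalso
      refine hY (Finset.card_le_one.2 ?_)
      have h1 : (χ : F → ℂ) 1 = 1 := irr_degree_one_of_kernel_commutator Q hab χ.2 hχT
      suffices key : ∀ ψ ∈ Y, ψ = χ from fun a ha b hb => (key a ha).trans (key b hb).symm
      intro ψ hψ
      have h2 : (ψ : F → ℂ) 1 = 1 := by
        rw [h.regularY hV hS hψ hχY (x := 1) (by rw [orderOf_one]; exact h.prime.not_dvd_one), h1]
      obtain ⟨φ, hφ, hφQ⟩ := hlin χ h1
      obtain ⟨φ', hφ', hφ'Q⟩ := hlin ψ h2
      refine Subtype.ext (funext fun x => ?_)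
      obtain ⟨z, hz, w, hw, rfl⟩ := hreg x
      rw [hφ, hφ', map_mul, map_mul, hφQ z hz, hφ'Q z hz, one_mul, one_mul, ← hφ, ← hφ']
      exact h.regularY hV hS hψ hχY hw
    have hTX' : T = X := Finset.eq_of_subset_of_card_le hTX (by rw [hS.cardX, hTcard])
    have key : ∀ {χ : IrrCharacter F}, (∃ x ∈ Q, (χ : F → ℂ) x ≠ (χ : F → ℂ) 1) → χ ∈ Y := by
      intro χ hχ
      exact (Finset.mem_union.1 (hU.ge (Finset.mem_univ χ))).resolve_left (hTX' ▸ hnT hχ)
    exact ⟨key hη, key hη'⟩

/-- With inertial index one the two signs are opposite. -/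
theorem CycData.alpha_eq_neg {B : Set (IrrCharacter F)} {P : Subgroup F}
    {c : Set (IrrCharacter (Subgroup.centralizer (P : Set F)))} {a : ℕ} (h : CycData p M B P c a)
    [Fintype (↥P →* ℂˣ)] {s : F → ℤ} {m : IrrCharacter F → (↥P →* ℂˣ) → ℤ}
    {ζ : (↥P →* ℂˣ) → IrrCharacter F} {δ : ℤ} {α : IrrCharacter F → ℤ}
    {X Y : Finset (IrrCharacter F)} (hV : CycValues p M B P c s m)
    (hS : CycShape B P c a p m ζ δ α X Y) (h0 : cycIndex P c = 1) {χ : IrrCharacter F}
    (hχ : χ ∈ X) : α χ = -δ := by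
  have hne : Y.card ≠ 0 := by
    intro h3
    have h4 := hS.cardY
    have h5 := Nat.one_lt_pow (n := a) (by have := h.pos; omega) h.prime.one_lt
    rw [h3, zero_mul] at h4
    omega
  obtain ⟨ψ, hψ⟩ := Finset.card_pos.1 (Nat.pos_of_ne_zero hne)
  obtain ⟨θ, hθ, rfl⟩ := hS.surj ψ hψ
  have h3 := h.regular_sum hV hS hθ (x := 1) (by rw [orderOf_one]; exact h.prime.not_dvd_one)
  have hX : X = {χ} := Finset.eq_singleton_iff_unique_mem.2
    ⟨hχ, fun ψ' hψ' => Finset.card_le_one.1 (le_of_eq (hS.cardX.trans h0)) ψ' hψ' χ hχ⟩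
  rw [hX, Finset.sum_singleton, ← irr_charDegree_cast, ← irr_charDegree_cast] at h3
  have h4 : δ * (charDegree ((ζ θ) : F → ℂ) : ℤ) + α χ * (charDegree (χ : F → ℂ) : ℤ) = 0 := by
    exact_mod_cast h3
  have h5 : (0 : ℤ) < charDegree ((ζ θ) : F → ℂ) := Int.natCast_pos.2 (irr_charDegree_pos _)
  have h6 : (0 : ℤ) < charDegree (χ : F → ℂ) := Int.natCast_pos.2 (irr_charDegree_pos _)
  rcases hS.hδ with e1 | e1 <;> rcases hS.hα χ hχ with e2 | e2 <;>
    rw [e1, e2] at h4 <;> rw [e1, e2] <;> omega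

end CfsgLib.Blocks
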