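import Cfsg.Agent.Lib.Blocks.TwoRankBound

/-!
# `k(B) ≤ p ^ d` for a major subsection with at most two Brauer characters: the count
-/

namespace CfsgLib.Blocks

open Cfsg CfsgLib.CharTheory EigenLattice
open scoped ComplexConjugate

set_option linter.unusedVariables false
set_option linter.unusedSimpArgs false
set_option linter.style.haveILetI false
set_option linter.unusedSectionVars false

universe u

variable {p : ℕ} {M : Ideal AlgInt} {G : Type u} [Group G] [Fintype G] {x : G} {H : Subgroup G}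
  [Fintype H] {b : Set (IrrCharacter H)} {B : Set (IrrCharacter G)}

/-- Averaged over the conjugates, a nonzero section coordinate weighs at least one. -/
theorem count_le_norms (hM : IsPModular p M) (hH : IsCentr x H)
    (hx : ∃ k : ℕ, orderOf x = p ^ k) (hind : IsInducedBlock M H b B) {ι : Type*} (T : Finset ι)
    (vec : ι → IrrCharacter H → ℤ)
    (hvec : ∀ i ∈ T, vec i ∈ lat (secQ p b) ((p : ℤ) ^ blockDefect p b))
    (S : Finset (IrrCharacter G × ι)) (hS : S ⊆ bset B ×ˢ T)
    (hne : ∀ q ∈ S, sCoord x H q.1 (vec q.2) ≠ 0) :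
    (S.card : ℤ) ≤ ∑ i ∈ T, ip (vec i) (vec i) := by
  classical
  obtain ⟨k, hk⟩ := hx
  haveI : NeZero (p ^ k) := ⟨pow_ne_zero _ hM.1.ne_zero⟩
  set sK : IrrCharacter G × ι → rootField (p ^ k) := fun q =>
    ⟨sCoord x H q.1 (vec q.2), (sCoord_props hM hH hk q.1 (vec q.2)).1⟩ with hsK
  have h := weighted_card_le S sK (fun _ => 1) (fun q _ => (sCoord_props hM hH hk q.1 (vec q.2)).2)
    (fun q hq h0 => hne q hq (congrArg Subtype.val h0)) (∑ i ∈ T, ip (vec i) (vec i)).toNat ?_
  · rw [Finset.sum_const, smul_eq_mul, mul_one] at h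
    have h0 : (0 : ℤ) ≤ ∑ i ∈ T, ip (vec i) (vec i) :=
      Finset.sum_nonneg fun i _ => ip_self_nonneg _
    omega
  intro σ
  have hconj : ∀ q, σ ⟨conj (sK q : ℂ), (conj_galois (NeZero.ne _) σ (sK q).2).1⟩ = conj (σ (sK q)) :=
    fun q => (conj_galois (NeZero.ne _) σ (sK q).2).2
  have hsum : (∑ q ∈ bset B ×ˢ T,
      sK q * ⟨conj (sK q : ℂ), (conj_galois (NeZero.ne _) σ (sK q).2).1⟩ : rootField (p ^ k)) =
      ((∑ i ∈ T, ip (vec i) (vec i) : ℤ) : rootField (p ^ k)) := by
    apply (rootField (p ^ k)).val.injective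
    rw [map_sum, map_intCast, Finset.sum_product_right, Int.cast_sum]
    refine Finset.sum_congr rfl fun i hi => ?_
    rw [← sum_sCoord_sq hM hH ⟨k, hk⟩ hind (hvec i hi)]
    refine Finset.sum_congr rfl fun θ _ => ?_
    rw [map_mul]
    rfl
  have h1 := congrArg σ hsum
  simp only [map_sum, map_mul, map_intCast, hconj, Complex.mul_conj] at h1
  rw [← Complex.ofReal_sum] at h1
  have h' : ∑ q ∈ bset B ×ˢ T, Complex.normSq (σ (sK q)) =
      ((∑ i ∈ T, ip (vec i) (vec i) : ℤ) : ℝ) := by exact_mod_cast h1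
  have h0 : (0 : ℤ) ≤ ∑ i ∈ T, ip (vec i) (vec i) :=
    Finset.sum_nonneg fun i _ => ip_self_nonneg _
  rw [← Int.cast_natCast (R := ℝ) (∑ i ∈ T, ip (vec i) (vec i)).toNat, Int.toNat_of_nonneg h0, ← h']
  exact le_of_eq_of_le (Finset.sum_congr rfl fun q _ => by rw [Nat.cast_one, one_mul])
    (Finset.sum_le_sum_of_subset_of_nonneg hS fun q _ _ => Complex.normSq_nonneg _)

theorem sCoord_comb {n : ℕ} (θ : IrrCharacter G) (f : Fin n → IrrCharacter H → ℤ)
    (c : Fin n → ℤ) :
    sCoord x H θ (fun ψ => ∑ i, c i * f i ψ) = ∑ i, (c i : ℂ) * sCoord x H θ (f i) := by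
  simp only [sCoord, Int.cast_sum, Int.cast_mul, Finset.mul_sum]
  rw [Finset.sum_comm]
  exact Finset.sum_congr rfl fun i _ => Finset.sum_congr rfl fun φ _ => by ring

/-- Some column of the scaled projection has a nonzero contribution at every character. -/
theorem exists_col_ne_zero (hM : IsPModular p M) (hH : IsCentr x H)
    (hx : ∃ k : ℕ, orderOf x = p ^ k) (hind : IsInducedBlock M H b B)
    (hdef : blockDefect p b = blockDefect p B) {θ : IrrCharacter G} (hθ : θ ∈ B) :
    ∃ φ, sCoord x H θ (fun ψ => secQ p b φ ψ) ≠ 0 := by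
  obtain ⟨χ₀, hχ₀, h0⟩ := exists_height_zero hM hind.2.1
  obtain ⟨u, hu, -, hune⟩ := secPair_div hM hH hx hind hdef hχ₀ hθ h0
  by_contra hno
  push Not at hno
  rw [secPair_sCoord hM hind.1, Finset.sum_eq_zero fun φ _ => by rw [hno φ]; simp] at hu
  exact hune ((mul_eq_zero.1 hu.symm).resolve_left
    (pow_ne_zero _ (Nat.cast_ne_zero.2 hM.1.ne_zero)))

/-- The mixed diagonal case. -/
theorem card_le_mixed (hM : IsPModular p M) (hH : IsCentr x H)
    (hx : ∃ k : ℕ, orderOf x = p ^ k) (hind : IsInducedBlock M H b B)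
    (hdef : blockDefect p b = blockDefect p B)
    {u v : IrrCharacter H → ℤ} (hu : u ∈ lat (secQ p b) ((p : ℤ) ^ blockDefect p b))
    (hv : v ∈ lat (secQ p b) ((p : ℤ) ^ blockDefect p b))
    {m : ℤ} (hm : (p : ℤ) ∣ m) (hQ : ∀ φ χ, secQ p b φ χ = u χ * u φ + m * (v χ * v φ))
    {φ₁ φ₂ : IrrCharacter H} (hd : ¬ (p : ℤ) ∣ u φ₁ * v φ₂ - u φ₂ * v φ₁) :
    (Nat.card B : ℤ) ≤ ip u u := by
  classical
  haveI := res_isDomain hM
  haveI := res_charP hM
  obtain ⟨χ₀, hχ₀, h0⟩ := exists_height_zero hM hind.2.1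
  obtain ⟨k, hk⟩ := hx
  have hx : ∃ k : ℕ, orderOf x = p ^ k := ⟨k, hk⟩
  set s : IrrCharacter G → ℂ := fun θ => sCoord x H θ u with hs
  set t : IrrCharacter G → ℂ := fun θ => sCoord x H θ v with ht
  have hsint : ∀ θ, IsIntegral ℤ (s θ) := fun θ => (sCoord_props hM hH hk θ u).2
  have htint : ∀ θ, IsIntegral ℤ (t θ) := fun θ => (sCoord_props hM hH hk θ v).2
  have hcs : IsIntegral ℤ (conj (s χ₀)) :=
    (hsint χ₀).map ((Complex.conjAe.toAlgHom).restrictScalars ℤ)
  have hct : IsIntegral ℤ (conj (t χ₀)) :=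
    (htint χ₀).map ((Complex.conjAe.toAlgHom).restrictScalars ℤ)
  have hcol : ∀ θ φ, sCoord x H θ (fun ψ => secQ p b φ ψ) =
      (u φ : ℂ) * s θ + (m : ℂ) * (v φ : ℂ) * t θ := by
    intro θ φ
    simp only [hs, ht, sCoord, Finset.mul_sum, ← Finset.sum_add_distrib, hQ]
    exact Finset.sum_congr rfl fun ψ _ => by push_cast; ring
  -- the unit at height zero
  have hs0 : res hM (s χ₀) ≠ 0 := by
    intro hz
    refine (secPair_res_ne hM hH hx hind hχ₀ hχ₀ h0 h0).2 ?_
    have e : secPair p x b (χ₀ : G → ℂ) (χ₀ : G → ℂ) =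
        s χ₀ * conj (s χ₀) + (m : ℂ) * (t χ₀ * conj (t χ₀)) := by
      rw [secPair_sCoord hM hind.1]
      simp only [hcol, map_add, map_mul, map_intCast]
      simp only [hs, ht, sCoord, Finset.sum_mul, Finset.mul_sum, mul_add, Finset.sum_add_distrib]
      congr 1
      · exact Finset.sum_congr rfl fun φ _ => by ring
      · exact Finset.sum_congr rfl fun φ _ => by ring
    have hm0 : (m : AlgInt ⧸ M) = 0 := (CharP.intCast_eq_zero_iff (AlgInt ⧸ M) p m).2 hm
    rw [e, res_add hM (memRing_of_isIntegral hM ((hsint χ₀).mul hcs))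
        (memRing_of_isIntegral hM ((isIntegral_intCast' m).mul ((htint χ₀).mul hct))),
      res_mul hM (memRing_of_isIntegral hM (hsint χ₀)) (memRing_of_isIntegral hM hcs), hz,
      res_mul hM (memRing_intCast hM m) (memRing_of_isIntegral hM ((htint χ₀).mul hct)),
      res_intCast', hm0]
    simp
  -- the minor
  set n : IrrCharacter H → ℤ :=
    fun φ => (if φ = φ₁ then v φ₂ else 0) - (if φ = φ₂ then v φ₁ else 0) with hn
  set d : ℤ := u φ₁ * v φ₂ - u φ₂ * v φ₁ with hddef
  have hnQ : (fun ψ => ∑ φ, n φ * secQ p b φ ψ) = fun ψ => d * u ψ := by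
    funext ψ
    simp only [hn, sub_mul, Finset.sum_sub_distrib, ite_mul, zero_mul, Finset.sum_ite_eq',
      Finset.mem_univ, if_true, hQ, hddef]
    ring
  have hns : ∀ θ, sCoord x H θ (fun ψ => ∑ φ, n φ * secQ p b φ ψ) = (d : ℂ) * s θ := by
    intro θ
    rw [hnQ]
    simp only [hs, sCoord, Finset.mul_sum, Int.cast_mul]
    exact Finset.sum_congr rfl fun ψ _ => by ring
  have hmem₁ : φ₁ ∈ b := by
    by_contra hc
    exact hd (by rw [hddef, lat_off hM hu hc, lat_off hM hv hc]; simp)
  have hmem₂ : φ₂ ∈ b := by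
    by_contra hc
    exact hd (by rw [hddef, lat_off hM hu hc, lat_off hM hv hc]; simp)
  have hnoff : ∀ φ, φ ∉ b → n φ = 0 := fun φ hφ => by
    simp only [hn, if_neg (fun e : φ = φ₁ => hφ (e ▸ hmem₁)),
      if_neg (fun e : φ = φ₂ => hφ (e ▸ hmem₂)), sub_self]
  have hres : res hM (sCoord x H χ₀ fun ψ => ∑ φ, n φ * secQ p b φ ψ) ≠ 0 := by
    rw [hns, res_mul hM (memRing_intCast hM d) (memRing_of_isIntegral hM (hsint χ₀)), res_intCast']
    exact mul_ne_zero (fun h => hd ((CharP.intCast_eq_zero_iff (AlgInt ⧸ M) p d).1 h)) hs0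
  have hall : ∀ θ ∈ B, s θ ≠ 0 := fun θ hθ h => by
    have := sCoord_ne_zero hM hH hx hind hdef n hnoff hχ₀ h0 hres hθ
    rw [hns, h, mul_zero] at this
    exact this rfl
  have h := count_le_norms hM hH hx hind ({0} : Finset ℕ) (fun _ => u) (fun _ _ => hu)
    (bset B ×ˢ {0}) subset_rfl fun q hq => hall q.1 (mem_bset.1 (Finset.mem_product.1 hq).1)
  rw [Finset.sum_singleton, Finset.card_product, Finset.card_singleton, mul_one] at h
  rwa [Nat.card_coe_set_eq, Set.ncard_eq_toFinset_card _ (Set.toFinite B)]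

/-- `k(B) ≤ p ^ d` when a major subsection has at most two Brauer characters. -/
theorem card_le_of_rank_two (hM : IsPModular p M) (hH : IsCentr x H)
    (hx : ∃ k : ℕ, orderOf x = p ^ k) (hind : IsInducedBlock M H b B)
    (hdef : blockDefect p b = blockDefect p B) (hl : blockRank p b ≤ 2) :
    Nat.card B ≤ p ^ blockDefect p B := by
  classical
  haveI := res_isDomain hM
  haveI := res_charP hM
  have hb := hind.1
  rw [← hdef]
  set P : ℤ := (p : ℤ) ^ blockDefect p b with hPdef
  suffices h : (Nat.card B : ℤ) ≤ P by rw [hPdef] at h; exact_mod_cast h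
  have hP : 0 < P := pow_pos (Int.natCast_pos.2 hM.1.pos) _
  have hcard : (bset B).card = Nat.card B := by
    rw [Nat.card_coe_set_eq, Set.ncard_eq_toFinset_card _ (Set.toFinite B)]
    rfl
  obtain ⟨n, basis⟩ := Submodule.basisOfPid (Pi.basisFun ℤ (IrrCharacter H)) (lat (secQ p b) P)
  have hsymm := secQ_symm hM hb
  obtain ⟨C₁, hC₁, -, htr⟩ := exists_coords hsymm (secQ_idem hM hb) basis
  have hnl : n = blockRank p b := by
    rw [secQ_trace hM hb, ← hPdef] at htr
    exact_mod_cast (mul_right_cancel₀ hP.ne' htr).symm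
  obtain ⟨ξ, hξ, hξ0⟩ := exists_height_zero hM hb
  have hξQ := secQ_not_dvd hM hb hξ hξ hξ0 hξ0
  interval_cases hrk : blockRank p b
  · subst hnl
    exact absurd (by rw [hC₁]; simp) hξQ
  · -- one vector
    subst hnl
    obtain ⟨C, hC, hCip, -⟩ := exists_coords hsymm (secQ_idem hM hb) basis
    set u : lat (secQ p b) P := basis 0 with hudef
    obtain ⟨m, hm⟩ : ∃ m : ℤ, C 0 = m • u := ⟨basis.repr (C 0) 0, by
      have := basis.sum_repr (C 0); simpa using this.symm⟩
    have hmP : m * ip (u : IrrCharacter H → ℤ) u = P := by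
      have := hCip 0 0
      rw [if_pos rfl, hm, Submodule.coe_smul, ip_smul_left] at this
      exact this
    have hall : ∀ θ ∈ B, sCoord x H θ (u : IrrCharacter H → ℤ) ≠ 0 := by
      intro θ hθ h
      obtain ⟨φ, hφ⟩ := exists_col_ne_zero hM hH hx hind hdef hθ
      apply hφ
      rw [show (fun ψ => secQ p b φ ψ) = fun ψ => ∑ i : Fin 1,
          ((basis i : IrrCharacter H → ℤ) φ * m) * (u : IrrCharacter H → ℤ) ψ by
        funext ψ
        rw [hC, Fin.sum_univ_one, Fin.sum_univ_one, hm, Submodule.coe_smul, Pi.smul_apply,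
          smul_eq_mul]
        ring, sCoord_comb θ (fun _ : Fin 1 => (u : IrrCharacter H → ℤ)), Fin.sum_univ_one, h, mul_zero]
    have h := count_le_norms hM hH hx hind ({0} : Finset ℕ) (fun _ => (u : IrrCharacter H → ℤ))
      (fun _ _ => u.2) (bset B ×ˢ {0}) subset_rfl
      fun q hq => hall q.1 (mem_bset.1 (Finset.mem_product.1 hq).1)
    rw [Finset.sum_singleton, Finset.card_product, Finset.card_singleton, mul_one, hcard] at h
    have hu0 : 0 < ip (u : IrrCharacter H → ℤ) u :=
      ip_self_pos fun h0 => basis.ne_zero 0 (Subtype.ext h0)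
    have hm0 : 0 < m := by nlinarith
    nlinarith
  · -- two vectors
    subst hnl
    have hgen0 : IsGen (basis 0) (basis 1) := by
      refine ⟨fun y => ⟨basis.repr y 0, basis.repr y 1, ?_⟩, fun i j hij => ?_⟩
      · have := basis.sum_repr y
        rw [Fin.sum_univ_two] at this
        exact this.symm
      · have := Fintype.linearIndependent_iff.1 basis.linearIndependent ![i, j]
          (by simpa [Fin.sum_univ_two] using hij)
        exact ⟨this 0, this 1⟩
    obtain ⟨u₀, v₀, hgen, hb0, h1, h2⟩ := exists_reduced hgen0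
    have hli : LinearIndependent ℤ ![u₀, v₀] := by
      rw [Fintype.linearIndependent_iff]
      intro g hg
      have := hgen.2 (g 0) (g 1) (by simpa [Fin.sum_univ_two] using hg)
      intro i
      fin_cases i
      · exact this.1
      · exact this.2
    have hsp : ⊤ ≤ Submodule.span ℤ (Set.range ![u₀, v₀]) := by
      intro y _
      obtain ⟨i, j, rfl⟩ := hgen.1 y
      exact Submodule.add_mem _ (Submodule.smul_mem _ _ (Submodule.subset_span ⟨0, rfl⟩))
        (Submodule.smul_mem _ _ (Submodule.subset_span ⟨1, rfl⟩))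
    set bas := Module.Basis.mk hli hsp with hbas
    obtain ⟨C, hC, hCip, -⟩ := exists_coords hsymm (secQ_idem hM hb) bas
    have hb0' : bas 0 = u₀ := by rw [hbas, Module.Basis.mk_apply]; rfl
    have hb1' : bas 1 = v₀ := by rw [hbas, Module.Basis.mk_apply]; rfl
    set u : IrrCharacter H → ℤ := (u₀ : IrrCharacter H → ℤ) with hu
    set v : IrrCharacter H → ℤ := (v₀ : IrrCharacter H → ℤ) with hv
    obtain ⟨m00, m01, hm0⟩ := hgen.1 (C 0)
    obtain ⟨m10, m11, hm1⟩ := hgen.1 (C 1)
    set a := ip u u with hadef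
    set β := ip u v with hbdef
    set c := ip v v with hcdef
    have g00 : m00 * a + m01 * β = P := by
      have h := hCip 0 0
      rw [if_pos rfl, hb0', hm0, coe_comb, ip_add_left, ip_smul_left, ip_smul_left,
        ip_comm (v₀ : IrrCharacter H → ℤ) u₀] at h
      exact h
    have g01 : m00 * β + m01 * c = 0 := by
      have h := hCip 1 0
      rw [if_neg (by decide), hb1', hm0, coe_comb, ip_add_left, ip_smul_left, ip_smul_left] at h
      exact h
    have g10 : m10 * a + m11 * β = 0 := by
      have h := hCip 0 1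
      rw [if_neg (by decide), hb0', hm1, coe_comb, ip_add_left, ip_smul_left, ip_smul_left,
        ip_comm (v₀ : IrrCharacter H → ℤ) u₀] at h
      exact h
    have g11 : m10 * β + m11 * c = P := by
      have h := hCip 1 1
      rw [if_pos rfl, hb1', hm1, coe_comb, ip_add_left, ip_smul_left, ip_smul_left] at h
      exact h
    have hQ : ∀ φ χ, secQ p b φ χ =
        (m00 * u χ + m01 * v χ) * u φ + (m10 * u χ + m11 * v χ) * v φ := by
      intro φ χ
      rw [hC, Fin.sum_univ_two, hb0', hb1', hm0, hm1, coe_comb, coe_comb]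
      simp only [Pi.add_apply, Pi.smul_apply, smul_eq_mul, hu, hv]
    have ha : 0 < a := ip_self_pos fun h0 => hli.ne_zero 0 (Subtype.ext h0)
    have hc : 0 < c := ip_self_pos fun h0 => hli.ne_zero 1 (Subtype.ext h0)
    rcases eq_or_lt_of_le hb0 with hb' | hb'
    · -- diagonal form
      change 0 = β at hb'
      rw [← hb'] at g00 g01 g10 g11
      simp only [mul_zero, add_zero, zero_add, mul_eq_zero, ha.ne', hc.ne', or_false] at g00 g01 g10 g11
      subst g01 g10
      simp only [zero_mul, add_zero, zero_add, mul_assoc] at hQ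
      have hdvd : ∀ m y : ℤ, m * y = P → 0 < y → (p : ℤ) ∣ m ∨ (m = 1 ∧ y = P) := by
        intro m y hmy hy
        have hm : 0 < m := by nlinarith
        obtain ⟨i, -, hi⟩ := (Nat.dvd_prime_pow hM.1).1 (show m.toNat ∣ p ^ blockDefect p b by
          rw [← Int.natCast_dvd_natCast, Int.toNat_of_nonneg hm.le, Nat.cast_pow]
          exact Dvd.intro _ hmy)
        rcases Nat.eq_zero_or_pos i with rfl | hi0
        · refine Or.inr ?_
          have : m = 1 := by rw [pow_zero] at hi; omega
          exact ⟨this, by rw [this, one_mul] at hmy; exact hmy⟩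
        · left
          rw [← Int.toNat_of_nonneg hm.le, hi, Nat.cast_pow]
          exact dvd_pow_self _ hi0.ne'
      -- `u, v` stay independent modulo `p`
      have hsat : ∀ i j : ℤ, (∀ φ, (p : ℤ) ∣ i * u φ + j * v φ) → (p : ℤ) ∣ i ∧ (p : ℤ) ∣ j := by
        intro i j hij
        choose w hw using hij
        have hwl : w ∈ lat (secQ p b) P := by
          intro φ
          have hp0 : (p : ℤ) ≠ 0 := Int.natCast_ne_zero.2 hM.1.ne_zero
          refine mul_left_cancel₀ hp0 ?_
          have hmem : i • u₀ + j • v₀ ∈ (⊤ : Submodule ℤ (lat (secQ p b) P)) := trivial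
          have h := (i • u₀ + j • v₀).2 φ
          simp only [coe_comb, Pi.add_apply, Pi.smul_apply, smul_eq_mul] at h
          simp only [hu, hv] at hw
          simp only [hw] at h
          rw [Finset.mul_sum, ← mul_assoc, mul_comm (p : ℤ) P, mul_assoc, ← h]
          exact Finset.sum_congr rfl fun ψ _ => by ring
        obtain ⟨i', j', hw'⟩ := hgen.1 ⟨w, hwl⟩
        have := hgen.2 (i - (p : ℤ) * i') (j - (p : ℤ) * j') (by
          apply Subtype.ext
          funext φ
          have e := congrArg (fun y : lat (secQ p b) P => (y : IrrCharacter H → ℤ) φ) hw'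
          simp only [coe_comb, Pi.add_apply, Pi.smul_apply, smul_eq_mul] at e
          simp only [coe_comb, Pi.add_apply, Pi.smul_apply, smul_eq_mul, ZeroMemClass.coe_zero,
            Pi.zero_apply]
          have := hw φ
          simp only [hu, hv] at this
          rw [e] at this
          linear_combination this)
        exact ⟨⟨i', by linarith [this.1]⟩, ⟨j', by linarith [this.2]⟩⟩
      have hpp := Nat.prime_iff_prime_int.1 hM.1
      obtain ⟨φ₁, hφ₁⟩ : ∃ φ, ¬ (p : ℤ) ∣ v φ := by
        by_contra hno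
        push Not at hno
        have := (hsat 0 1 fun φ => by simpa using hno φ).2
        exact hpp.not_dvd_one this
      obtain ⟨φ₂, hd⟩ : ∃ φ₂, ¬ (p : ℤ) ∣ u φ₂ * v φ₁ - u φ₁ * v φ₂ := by
        by_contra hno
        push Not at hno
        exact hφ₁ (hsat (v φ₁) (-u φ₁) fun φ => by
          have := hno φ
          rwa [show v φ₁ * u φ + -u φ₁ * v φ = u φ * v φ₁ - u φ₁ * v φ by ring]).1
      rcases hdvd m00 a g00 ha with h00 | ⟨h00, haP⟩ <;>
        rcases hdvd m11 c g11 hc with h11 | ⟨h11, hcP⟩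
      · exfalso
        refine hξQ ?_
        rw [hQ ξ ξ]
        exact dvd_add (dvd_mul_of_dvd_left h00 _) (dvd_mul_of_dvd_left h11 _)
      · rw [← hcP]
        refine card_le_mixed hM hH hx hind hdef v₀.2 u₀.2 h00 (fun φ χ => ?_) (φ₁ := φ₁) (φ₂ := φ₂) ?_
        · rw [hQ, h11]; ring
        · rw [mul_comm (v φ₁), mul_comm (v φ₂)]; exact hd
      · rw [← haP]
        refine card_le_mixed hM hH hx hind hdef u₀.2 v₀.2 h11 (fun φ χ => ?_) (φ₁ := φ₂) (φ₂ := φ₁) hd
        rw [hQ, h00]; ring
      · -- the projection would have rank two modulo `p`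
        exfalso
        subst h00 h11
        simp only [one_mul] at hQ
        have hz : ∀ φ, (p : ℤ) ∣ v ξ * u φ + -u ξ * v φ := by
          intro φ
          have hr := secQ_rank_one hM hb hξ φ φ
          rw [hQ, hQ, hQ, hQ] at hr
          refine hpp.dvd_of_dvd_pow (n := 2) ?_
          have e : (v ξ * u φ + -u ξ * v φ) ^ 2 = (u φ * u φ + v φ * v φ) * (u ξ * u ξ + v ξ * v ξ) -
              (u ξ * u φ + v ξ * v φ) * (u φ * u ξ + v φ * v ξ) := by ring
          rw [e]
          exact hr
        obtain ⟨h1, h2⟩ := hsat _ _ hz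
        refine hξQ ?_
        rw [hQ]
        exact dvd_add (dvd_mul_of_dvd_left (dvd_neg.1 h2) _) (dvd_mul_of_dvd_left h1 _)
    · -- a reduced form with nonzero middle term
      change 0 < β at hb'
      have da : (a * c - β ^ 2) ∣ P * a := ⟨m11, by linear_combination (-a) * g11 + β * g10⟩
      have db : (a * c - β ^ 2) ∣ P * β := ⟨-m01, by linear_combination (-β) * g00 + a * g01⟩
      have dc : (a * c - β ^ 2) ∣ P * c := ⟨m00, by linear_combination (-c) * g00 + β * g01⟩
      have hbound := reduced_bound hP (by linarith) h1 h2 da db dc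
      set vec : Fin 3 → IrrCharacter H → ℤ := ![u, v, u - v] with hvec
      have hmem : ∀ i ∈ (Finset.univ : Finset (Fin 3)), vec i ∈ lat (secQ p b) P := by
        intro i _
        fin_cases i
        · exact u₀.2
        · exact v₀.2
        · exact Submodule.sub_mem _ u₀.2 v₀.2
      set S := (bset B ×ˢ (Finset.univ : Finset (Fin 3))).filter
        (fun q => sCoord x H q.1 (vec q.2) ≠ 0) with hS
      have h := count_le_norms hM hH hx hind Finset.univ vec hmem S (Finset.filter_subset _ _)
        fun q hq => (Finset.mem_filter.1 hq).2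
      have hlow : 2 * (bset B).card ≤ S.card := by
        rw [hS, Finset.card_filter, Finset.sum_product, mul_comm, ← smul_eq_mul, ← Finset.sum_const]
        refine Finset.sum_le_sum fun θ hθ => ?_
        have hor : sCoord x H θ u ≠ 0 ∨ sCoord x H θ v ≠ 0 := by
          by_contra hno
          push Not at hno
          obtain ⟨φ, hφ⟩ := exists_col_ne_zero hM hH hx hind hdef (mem_bset.1 hθ)
          apply hφ
          simp only [sCoord] at hno ⊢
          calc ∑ ψ : IrrCharacter H, classInner (sec x H (θ : G → ℂ)) (ψ : H → ℂ) * (secQ p b φ ψ : ℂ)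
              = ((u φ : ℂ) * m00 + (v φ : ℂ) * m10) *
                  (∑ ψ : IrrCharacter H, classInner (sec x H (θ : G → ℂ)) (ψ : H → ℂ) * (u ψ : ℂ)) +
                ((u φ : ℂ) * m01 + (v φ : ℂ) * m11) *
                  (∑ ψ : IrrCharacter H, classInner (sec x H (θ : G → ℂ)) (ψ : H → ℂ) * (v ψ : ℂ)) := by
                rw [Finset.mul_sum, Finset.mul_sum, ← Finset.sum_add_distrib]
                exact Finset.sum_congr rfl fun ψ _ => by rw [hQ]; push_cast; ring
            _ = 0 := by rw [hno.1, hno.2]; simp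
        simp only [Fin.sum_univ_three, hvec, Matrix.cons_val_zero, Matrix.cons_val_one,
          Matrix.cons_val_two, Matrix.head_cons, Matrix.tail_cons, sCoord_sub]
        by_cases e1 : sCoord x H θ u = 0 <;> by_cases e2 : sCoord x H θ v = 0
        · exact absurd e2 (hor.resolve_left (not_not.2 e1))
        · simp [e1, e2]
        · simp [e1, e2]
        · simp only [e1, e2, not_false_iff, if_true, ne_eq]
          omega
      have hsum : ∑ i, ip (vec i) (vec i) = 2 * (a + c - β) := by
        simp only [Fin.sum_univ_three, hvec, Matrix.cons_val_zero, Matrix.cons_val_one,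
          Matrix.cons_val_two, Matrix.head_cons, Matrix.tail_cons, hadef, hbdef, hcdef, ip,
          Pi.sub_apply, Finset.mul_sum, ← Finset.sum_sub_distrib, ← Finset.sum_add_distrib]
        exact Finset.sum_congr rfl fun φ _ => by ring
      rw [hsum] at h
      rw [hcard] at hlow
      have hlow' : 2 * (Nat.card B : ℤ) ≤ (S.card : ℤ) := by exact_mod_cast hlow
      linarith

end CfsgLib.Blocks
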