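import Cfsg.Agent.Lib.Blocks.CentralQuotient
import Cfsg.Agent.Lib.Blocks.CyclicMain
import Cfsg.Agent.Lib.Blocks.TwoRankCount

/-!
# `k(B) ≤ p ^ d` for a major subsection with cyclic defect quotient
-/

namespace CfsgLib.Blocks

open Cfsg CfsgLib.CharTheory
open scoped ComplexConjugate

set_option linter.unusedVariables false
set_option linter.unusedSimpArgs false
set_option linter.style.haveILetI false
set_option linter.unusedSectionVars false
set_option maxHeartbeats 800000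

universe u

variable {p : ℕ} {M : Ideal AlgInt} {G : Type u} [Group G] [Fintype G]
  {B : Set (IrrCharacter G)} {P : Subgroup G}
  {c : Set (IrrCharacter (Subgroup.centralizer (P : Set G)))}

theorem quot_defectGroup (hM : IsPModular p M) (hmax : IsMaximalBrauerPair p M B P c)
    {U : Subgroup G} [U.Normal] [Fintype (G ⧸ U)] (hUc : U ≤ Subgroup.center G) (hUP : U ≤ P) :
    IsDefectGroup p M (quotBlock U B) (P.map (QuotientGroup.mk' U)) := by
  classical
  haveI : Fact p.Prime := ⟨hM.1⟩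
  have hB := hmax.1.2.1
  have hU : IsPGroup p U := hmax.1.1.1.to_le hUP
  have hC : ∃ k : ℕ, (Subgroup.centralizer (U : Set G)).index = p ^ k :=
    ⟨0, by rw [pow_zero, Subgroup.index_eq_one, Subgroup.centralizer_eq_top_iff_subset]; exact hUc⟩
  obtain ⟨g, ⟨hg1, hg2, hg3⟩, S, hS⟩ := maximal_isDefectGroup hM hmax
  have hgr : ¬ p ∣ orderOf g := fun h => hg2 (by
    rw [blockCoeff_eq_zero_singular hM hB h]; exact memIdeal_zero hM)
  have hcomap := Inflation.comap_centralizer_eq U hU hC hgr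
  refine ⟨(g : G ⧸ U), ⟨?_, ?_, fun ψ hψ => ?_⟩, ?_⟩
  · rwa [blockCoeff_quot hM hB hU hUc hgr]
  · rwa [blockCoeff_quot hM hB hU hUc hgr]
  · have h := hg3 (Inflation.inflIrr U ψ) hψ
    have e : centralChar (Inflation.inflIrr U ψ : G → ℂ) g =
        centralChar (ψ : G ⧸ U → ℂ) (g : G ⧸ U) := by
      have h2 := Inflation.clv_inflIrr U ψ g
      rw [hcomap, Subgroup.relIndex_self, Nat.cast_one, one_mul] at h2
      exact h2
    rwa [e] at h
  · let f : Subgroup.centralizer ({g} : Set G) →*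
        Subgroup.centralizer ({(g : G ⧸ U)} : Set (G ⧸ U)) :=
      ((QuotientGroup.mk' U).comp (Subgroup.centralizer ({g} : Set G)).subtype).codRestrict _
        fun y => Inflation.centralizer_le_comap U g y.2
    have hf : Function.Surjective f := by
      rintro ⟨q, hq⟩
      obtain ⟨y, rfl⟩ := QuotientGroup.mk'_surjective U q
      exact ⟨⟨y, hcomap ▸ (Subgroup.mem_comap.2 hq)⟩, rfl⟩
    refine ⟨S.mapSurjective hf, ?_⟩
    rw [Sylow.coe_mapSurjective, hS, Subgroup.map_map, Subgroup.map_map]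
    congr 1

theorem sum_orth {Γ : Type u} [Group Γ] [Fintype Γ] [DecidableEq (IrrCharacter Γ)]
    (χ ψ : IrrCharacter Γ) :
    ∑ g, (χ : Γ → ℂ) g * (ψ : Γ → ℂ) g⁻¹ = if χ = ψ then (Nat.card Γ : ℂ) else 0 := by
  have h : classInner (χ : Γ → ℂ) (ψ : Γ → ℂ) = if χ = ψ then (1 : ℂ) else 0 := by
    split_ifs with e
    · rw [e]; exact classInner_irr_self ψ.2
    · exact classInner_irr_ne χ.2 ψ.2 fun h => e (Subtype.ext h)
  simp only [classInner, irr_conjInv] at h
  rw [inv_mul_eq_iff_eq_mul₀ (Nat.cast_ne_zero.2 Nat.card_pos.ne')] at h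
  rw [h]
  split_ifs <;> simp

/-- The projection of a block whose defect group has cyclic quotient by a central subgroup. -/
theorem cyclic_form {H : Subgroup G} [Fintype H] {B : Set (IrrCharacter H)} {P : Subgroup H}
    {c : Set (IrrCharacter (Subgroup.centralizer (P : Set H)))} (hM : IsPModular p M) (hmax : IsMaximalBrauerPair p M B P c)
    (hab : ∀ x ∈ P, ∀ y ∈ P, x * y = y * x) {U : Subgroup H} [U.Normal]
    (hUc : U ≤ Subgroup.center H) (hUP : U ≤ P) (hcyc : IsCyclic (P.map (QuotientGroup.mk' U)))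
    (hne : P.map (QuotientGroup.mk' U) ≠ ⊥) :
    ∃ (ι : Type u) (_ : Fintype ι) (m s : ℕ) (w : ι → IrrCharacter H → ℤ),
      0 < Fintype.card ι ∧ 0 < m ∧ Fintype.card ι * m + 1 = s ∧
      blockRank p B = Fintype.card ι ∧
      (∀ i, w i ∈ EigenLattice.lat (secQ p B) ((p : ℤ) ^ blockDefect p B)) ∧
      ∀ φ φ', secQ p B φ φ' =
        (s : ℤ) * ∑ i, w i φ * w i φ' - (m : ℤ) * ((∑ i, w i φ) * ∑ i, w i φ') := by
  classical
  haveI : Fact p.Prime := ⟨hM.1⟩
  haveI : Fintype (H ⧸ U) := Fintype.ofFinite _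
  have hB := hmax.1.2.1
  have hU : IsPGroup p U := hmax.1.1.1.to_le hUP
  have hBq := quotBlock_isPBlock hM hmax hab hUc hUP
  have hDq := quot_defectGroup hM hmax hUc hUP
  have hDp := defectGroup_isPGroup hDq
  obtain ⟨a, ha⟩ := hDp.exists_card_eq
  have ha1 : 1 ≤ a := Nat.one_le_iff_ne_zero.2 fun h0 => hne (by
    rw [h0, pow_zero] at ha
    exact Subgroup.card_eq_one.1 ha)
  haveI := Fintype.ofFinite
    (Subgroup.centralizer ((P.map (QuotientGroup.mk' U) : Subgroup (H ⧸ U)) : Set (H ⧸ U)))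
  obtain ⟨b, hb⟩ := exists_maximal_at hM hBq hDq
  have h := cycData_of_defect hM hDq ((induced_centralizer_iff hM hDp).2 hb.1) hcyc ha ha1
  haveI : Finite (↥(P.map (QuotientGroup.mk' U)) →* ℂˣ) := finite_linearChars _
  haveI : Fintype (↥(P.map (QuotientGroup.mk' U)) →* ℂˣ) := Fintype.ofFinite _
  obtain ⟨sg, mm, ζ, δ, α, X, Y, hV, hS⟩ := h.exists_full
  set e := cycIndex (P.map (QuotientGroup.mk' U)) b with hedef
  have he0 : 0 < e := h.index_pos
  have hXc : Fintype.card X = e := (Fintype.card_coe X).trans hS.cardX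
  have hYe : Y.card * e + 1 = p ^ a := by
    rw [hS.cardY]
    exact Nat.sub_add_cancel (Nat.one_le_pow _ _ hM.1.pos)
  have hY0 : 0 < Y.card := by
    refine Nat.pos_of_ne_zero fun h0 => ?_
    rw [h0, zero_mul, zero_add] at hYe
    exact (Nat.one_lt_pow (by omega) hM.1.one_lt).ne hYe
  have hδ : (δ : ℂ) * δ = 1 := h.delta_sq hV hS
  have hα : ∀ i : X, (α i.1 : ℂ) * α i.1 = 1 := fun i => h.alpha_sq hV hS i.2
  -- coordinates on regular elements
  have hYreg : ∀ η ∈ Y, ∀ q : H ⧸ U, ¬ p ∣ orderOf q →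
      (η : H ⧸ U → ℂ) q = ∑ i : X, -((δ : ℂ) * (α i.1 : ℂ)) * (i.1 : H ⧸ U → ℂ) q := by
    intro η hη q hq
    obtain ⟨θ, hθ, rfl⟩ := hS.surj η hη
    have h1 := h.regular_sum hV hS hθ hq
    rw [← Finset.sum_coe_sort X] at h1
    rw [Finset.sum_congr rfl fun (i : X) _ => show -((δ : ℂ) * (α i.1 : ℂ)) * (i.1 : H ⧸ U → ℂ) q =
      -(δ : ℂ) * ((α i.1 : ℂ) * (i.1 : H ⧸ U → ℂ) q) by ring, ← Finset.mul_sum]
    linear_combination (δ : ℂ) * h1 - (ζ θ : H ⧸ U → ℂ) q * hδ
  have hcoord : ∀ φ : IrrCharacter H, ∃ v : X → ℤ, φ ∈ B → ∀ y : H, ¬ p ∣ orderOf y →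
      (φ : H → ℂ) y = ∑ i : X, (v i : ℂ) * (i.1 : H ⧸ U → ℂ) (y : H ⧸ U) := by
    intro φ
    by_cases hφ : φ ∈ B
    swap
    · exact ⟨0, fun h' => absurd h' hφ⟩
    obtain ⟨ψ, hψ, hreg⟩ := exists_quot_regular hM hmax hab hUc hUP hφ
    rcases (hS.union ψ).1 hψ with hX | hY
    · refine ⟨fun i => if i = ⟨ψ, hX⟩ then 1 else 0, fun _ y hy => ?_⟩
      rw [hreg y hy, Finset.sum_eq_single (⟨ψ, hX⟩ : X)]
      · simp
      · intro i _ hi; simp [hi]
      · simp
    · refine ⟨fun i => -(δ * α i.1), fun _ y hy => ?_⟩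
      rw [hreg y hy, hYreg ψ hY _ (mk_regular hy)]
      push_cast
      rfl
  choose v hv using hcoord
  -- the pairings of the basis
  set S0 : ℂ := if hne' : X.Nonempty then
    ∑ q ∈ Finset.univ.filter (fun q : H ⧸ U => p ∣ orderOf q),
      (hne'.choose : H ⧸ U → ℂ) q * (hne'.choose : H ⧸ U → ℂ) q⁻¹ else 0 with hS0
  have hXne : X.Nonempty := Finset.card_pos.1 (hS.cardX ▸ he0)
  set ξ₀ := hXne.choose with hξ₀
  have hξ₀X : ξ₀ ∈ X := hXne.choose_spec
  rw [dif_pos hXne] at hS0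
  have hsing : ∀ i : X, ∀ q : H ⧸ U, p ∣ orderOf q →
      (i.1 : H ⧸ U → ℂ) q = (α i.1 : ℂ) * ((α ξ₀ : ℂ) * (ξ₀ : H ⧸ U → ℂ) q) := by
    intro i q hq
    have h1 := h.singular_eq (S := {i.1}) (S' := {ξ₀}) (f := fun χ => (α χ : ℂ))
      (f' := fun χ => (α χ : ℂ)) (fun χ hχ => h.memX hV hS (Finset.mem_singleton.1 hχ ▸ i.2))
      (fun χ hχ => h.memX hV hS (Finset.mem_singleton.1 hχ ▸ hξ₀X)) (fun w hw hw1 => by
        rw [Finset.sum_singleton, Finset.sum_singleton, h.dsec_X hV hS i.2 hw hw1,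
          h.dsec_X hV hS hξ₀X hw hw1]) hq
    rw [Finset.sum_singleton, Finset.sum_singleton] at h1
    linear_combination (α i.1 : ℂ) * h1 - (i.1 : H ⧸ U → ℂ) q * hα i
  have hα₀ : (α ξ₀ : ℂ) * α ξ₀ = 1 := h.alpha_sq hV hS hξ₀X
  have hgram : ∀ i j : X, regS p (i.1 : H ⧸ U → ℂ) (j.1 : H ⧸ U → ℂ) =
      (if i = j then (Nat.card (H ⧸ U) : ℂ) else 0) - (α i.1 : ℂ) * (α j.1 : ℂ) * S0 := by
    intro i j
    rw [regS_eq_sum, show (if i = j then (Nat.card (H ⧸ U) : ℂ) else 0) =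
      ∑ q, (i.1 : H ⧸ U → ℂ) q * (j.1 : H ⧸ U → ℂ) q⁻¹ by
        rw [sum_orth]; exact if_congr Subtype.ext_iff rfl rfl,
      ← Finset.sum_filter_add_sum_filter_not Finset.univ (fun q : H ⧸ U => p ∣ orderOf q)]
    have e2 : ∑ q ∈ Finset.univ.filter (fun q : H ⧸ U => p ∣ orderOf q),
        (i.1 : H ⧸ U → ℂ) q * (j.1 : H ⧸ U → ℂ) q⁻¹ = (α i.1 : ℂ) * (α j.1 : ℂ) * S0 := by
      rw [hS0, Finset.mul_sum]
      refine Finset.sum_congr rfl fun q hq => ?_
      have hq' := (Finset.mem_filter.1 hq).2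
      rw [hsing i q hq', hsing j q⁻¹ (by rwa [orderOf_inv])]
      linear_combination ((α i.1 : ℂ) * (α j.1 : ℂ) * (ξ₀ : H ⧸ U → ℂ) q *
        (ξ₀ : H ⧸ U → ℂ) q⁻¹) * hα₀
    rw [e2]
    ring
  have hS0val : S0 * ((p ^ a : ℕ) : ℂ) = (Y.card : ℂ) * (Nat.card (H ⧸ U) : ℂ) := by
    have h1 := card_mul_blockRank hM hBq
    rw [h.bset_eq hV hS, Finset.sum_union hS.disj, hS.rank] at h1
    have eX : ∑ ψ ∈ X, regS p (ψ : H ⧸ U → ℂ) (ψ : H ⧸ U → ℂ) =
        (e : ℂ) * ((Nat.card (H ⧸ U) : ℂ) - S0) := by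
      rw [← Finset.sum_coe_sort X, Finset.sum_congr rfl fun (i : X) _ => (hgram i i).trans
        (show _ = (Nat.card (H ⧸ U) : ℂ) - S0 by rw [if_pos rfl, hα, one_mul]),
        Finset.sum_const, Finset.card_univ, hXc, nsmul_eq_mul]
    have eY : ∀ η ∈ Y, regS p (η : H ⧸ U → ℂ) (η : H ⧸ U → ℂ) =
        (e : ℂ) * (Nat.card (H ⧸ U) : ℂ) - (e : ℂ) * (e : ℂ) * S0 := by
      intro η hη
      have e1 : regS p (η : H ⧸ U → ℂ) (η : H ⧸ U → ℂ) = ∑ i : X, ∑ j : X,
          (α i.1 : ℂ) * (α j.1 : ℂ) * regS p (i.1 : H ⧸ U → ℂ) (j.1 : H ⧸ U → ℂ) := by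
        simp only [regS_eq_sum, Finset.mul_sum]
        rw [Finset.sum_congr rfl fun q hq => by
          rw [hYreg η hη q (Finset.mem_filter.1 hq).2,
            hYreg η hη q⁻¹ (by rw [orderOf_inv]; exact (Finset.mem_filter.1 hq).2),
            Finset.sum_mul_sum], Finset.sum_comm]
        refine Finset.sum_congr rfl fun i _ => ?_
        rw [Finset.sum_comm]
        refine Finset.sum_congr rfl fun j _ => Finset.sum_congr rfl fun q _ => ?_
        linear_combination ((α i.1 : ℂ) * (α j.1 : ℂ) * (i.1 : H ⧸ U → ℂ) q *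
          (j.1 : H ⧸ U → ℂ) q⁻¹) * hδ
      rw [e1]
      simp only [hgram, mul_sub, Finset.sum_sub_distrib, mul_ite, mul_zero, Finset.sum_ite_eq,
        Finset.mem_univ, if_true]
      rw [Finset.sum_congr rfl fun (i : X) _ => by rw [hα i, one_mul], Finset.sum_const,
        Finset.card_univ, hXc, nsmul_eq_mul,
        Finset.sum_congr rfl fun (i : X) _ => Finset.sum_congr rfl fun (j : X) _ =>
          show (α i.1 : ℂ) * (α j.1 : ℂ) * ((α i.1 : ℂ) * (α j.1 : ℂ) * S0) = S0 by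
            linear_combination ((α j.1 : ℂ) * (α j.1 : ℂ) * S0) * hα i + S0 * hα j]
      simp only [Finset.sum_const, Finset.card_univ, hXc, nsmul_eq_mul]
      ring
    rw [eX, Finset.sum_congr rfl eY, Finset.sum_const, nsmul_eq_mul] at h1
    have hpa : ((p ^ a : ℕ) : ℂ) = (Y.card : ℂ) * (e : ℂ) + 1 := by exact_mod_cast hYe.symm
    refine mul_left_cancel₀ (Nat.cast_ne_zero.2 he0.ne' : (e : ℂ) ≠ 0) ?_
    rw [hpa]
    linear_combination h1
  -- rank
  have hlin : ∀ z : X → ℂ, (∀ q : H ⧸ U, ¬ p ∣ orderOf q →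
      ∑ i, z i * (i.1 : H ⧸ U → ℂ) q = 0) → ∀ i, z i = 0 := by
    intro z hz
    have hli : LinearIndependent ℂ fun i : X => pRegularPart p (i.1 : H ⧸ U → ℂ) := by
      rw [linearIndependent_iff_card_eq_finrank_span, hXc]
      refine hS.rank.symm.trans ?_
      refine le_antisymm (Submodule.finrank_mono ?_) (Submodule.finrank_mono ?_)
      · rw [Submodule.span_le]
        rintro _ ⟨ψ, hψ, rfl⟩
        show pRegularPart p (ψ : H ⧸ U → ℂ) ∈ _
        rcases (hS.union ψ).1 hψ with hX | hY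
        · exact Submodule.subset_span ⟨⟨ψ, hX⟩, rfl⟩
        · rw [show pRegularPart p (ψ : H ⧸ U → ℂ) = ∑ i : X, (-((δ : ℂ) * (α i.1 : ℂ))) •
            pRegularPart p (i.1 : H ⧸ U → ℂ) from funext fun q => by
              simp only [Finset.sum_apply, Pi.smul_apply, smul_eq_mul, pRegularPart_apply]
              by_cases hq : p ∣ orderOf q
              · simp [hq]
              · simp only [if_neg hq]; exact hYreg ψ hY q hq]
          exact Submodule.sum_mem _ fun i _ =>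
            Submodule.smul_mem _ _ (Submodule.subset_span ⟨i, rfl⟩)
      · refine Submodule.span_mono ?_
        rintro _ ⟨i, rfl⟩
        exact ⟨i.1, h.memX hV hS i.2, rfl⟩
    refine Fintype.linearIndependent_iff.1 hli z (funext fun q => ?_)
    simp only [Finset.sum_apply, Pi.smul_apply, smul_eq_mul, pRegularPart_apply, Pi.zero_apply]
    by_cases hq : p ∣ orderOf q
    · simp [hq]
    · simp only [if_neg hq]; exact hz q hq
  have hrank : blockRank p B = Fintype.card X := by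
    have hli : LinearIndependent ℂ fun i : X =>
        pRegularPart p (Inflation.inflIrr U i.1 : H → ℂ) := by
      rw [Fintype.linearIndependent_iff]
      refine fun z hz => hlin z fun q hq => ?_
      obtain ⟨y, rfl, hy⟩ := Inflation.exists_regular_lift U hU hq
      have h1 := congrFun hz y
      simpa [pRegularPart_apply, hy, Inflation.inflIrr_apply] using h1
    rw [blockRank, ← finrank_span_eq_card hli]
    refine le_antisymm (Submodule.finrank_mono ?_) (Submodule.finrank_mono ?_)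
    · rw [Submodule.span_le]
      rintro _ ⟨φ, hφ, rfl⟩
      rw [show (fun χ : IrrCharacter H => pRegularPart p (χ : H → ℂ)) φ = ∑ i : X, (v φ i : ℂ) •
        pRegularPart p (Inflation.inflIrr U i.1 : H → ℂ) from funext fun y => by
          simp only [Finset.sum_apply, Pi.smul_apply, smul_eq_mul, pRegularPart_apply,
            Inflation.inflIrr_apply]
          by_cases hy : p ∣ orderOf y
          · simp [hy]
          · simp only [if_neg hy]; exact hv φ hφ y hy]
      exact Submodule.sum_mem _ fun i _ => Submodule.smul_mem _ _ (Submodule.subset_span ⟨i, rfl⟩)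
    · refine Submodule.span_mono ?_
      rintro _ ⟨i, rfl⟩
      exact ⟨Inflation.inflIrr U i.1, h.memX hV hS i.2, rfl⟩
  -- the vectors
  let w : X → IrrCharacter H → ℤ := fun i φ => if φ ∈ B then α i.1 * v φ i else 0
  have hw : ∀ i φ, φ ∈ B → (w i φ : ℂ) = (α i.1 : ℂ) * (v φ i : ℂ) := fun i φ hφ => by
    simp only [w, if_pos hφ]; push_cast; rfl
  have hG0 : (Nat.card H : ℂ) ≠ 0 := Nat.cast_ne_zero.2 Nat.card_pos.ne'
  refine ⟨X, inferInstance, Y.card, p ^ a, w, by rw [hXc]; exact he0, hY0,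
    by rw [hXc, mul_comm]; exact hYe, hrank, fun i φ => ?_, fun φ φ' => ?_⟩
  · -- eigenvectors
    by_cases hφ : φ ∈ B
    swap
    · rw [Finset.sum_eq_zero fun ψ _ => by rw [secQ_off (fun h' => hφ h'.1), zero_mul]]
      simp [w, hφ]
    let z : X → ℂ := fun i => (∑ ψ : IrrCharacter H, (secQ p B φ ψ : ℂ) * (w i ψ : ℂ) -
      (p : ℂ) ^ blockDefect p B * (w i φ : ℂ)) * (α i.1 : ℂ)
    have hz : ∀ i, z i = 0 := hlin z fun q hq => by
      obtain ⟨y, rfl, hy⟩ := Inflation.exists_regular_lift U hU hq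
      have h1 : ∑ ψ ∈ bset B, (secQ p B φ ψ : ℂ) * (ψ : H → ℂ) y =
          (p : ℂ) ^ blockDefect p B * (φ : H → ℂ) y := by
        refine mul_left_cancel₀ hG0 ?_
        rw [Finset.mul_sum, Finset.sum_congr rfl fun ψ hψ => by
          rw [← mul_assoc, ← secQ_spec hM hB hφ (mem_bset.1 hψ), mul_assoc],
          ← Finset.mul_sum, sum_regS_mul hM hB φ y, if_neg hy, ind_of_mem hφ]
        ring
      calc ∑ i, z i * (i.1 : H ⧸ U → ℂ) (y : H ⧸ U)
          = ∑ ψ ∈ bset B, (secQ p B φ ψ : ℂ) * (ψ : H → ℂ) y -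
              (p : ℂ) ^ blockDefect p B * (φ : H → ℂ) y := by
            have e3 : ∑ ψ ∈ bset B, (secQ p B φ ψ : ℂ) * (ψ : H → ℂ) y =
                ∑ i : X, ∑ ψ ∈ bset B, (secQ p B φ ψ : ℂ) *
                  ((v ψ i : ℂ) * (i.1 : H ⧸ U → ℂ) (y : H ⧸ U)) := by
              rw [Finset.sum_comm]
              refine Finset.sum_congr rfl fun ψ hψ => ?_
              rw [hv ψ (mem_bset.1 hψ) y hy, Finset.mul_sum]
            rw [e3, hv φ hφ y hy, Finset.mul_sum, ← Finset.sum_sub_distrib]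
            refine Finset.sum_congr rfl fun i _ => ?_
            simp only [z]
            rw [← Finset.sum_subset (Finset.subset_univ (bset B)) fun ψ _ hψ => by
              simp [w, show ψ ∉ B from fun h' => hψ (mem_bset.2 h')], hw i φ hφ, sub_mul, sub_mul,
              Finset.sum_mul, Finset.sum_mul]
            refine congrArg₂ (· - ·) (Finset.sum_congr rfl fun ψ hψ => ?_) ?_
            · rw [hw i ψ (mem_bset.1 hψ)]
              linear_combination
                ((secQ p B φ ψ : ℂ) * (v ψ i : ℂ) * (i.1 : H ⧸ U → ℂ) (y : H ⧸ U)) * hα i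
            · linear_combination ((p : ℂ) ^ blockDefect p B * (v φ i : ℂ) *
                (i.1 : H ⧸ U → ℂ) (y : H ⧸ U)) * hα i
        _ = 0 := by rw [h1, sub_self]
    have h2 := (mul_eq_zero.1 (hz i)).resolve_right fun h0 => by
      have := hα i
      rw [h0, mul_zero] at this
      exact zero_ne_one this
    rw [sub_eq_zero] at h2
    exact_mod_cast h2
  · -- the form
    by_cases hb' : φ ∈ B ∧ φ' ∈ B
    swap
    · rw [secQ_off hb']
      rcases not_and_or.1 hb' with hn | hn <;> simp [w, hn]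
    obtain ⟨hφ, hφ'⟩ := hb'
    have hcP : (p : ℂ) ^ blockDefect p B = ((p ^ a : ℕ) : ℂ) * (Nat.card U : ℂ) := by
      have h1 := card_defectGroup hM hB (maximal_isDefectGroup hM hmax)
      have h2 : Nat.card P = p ^ a * Nat.card U := by
        rw [← ha, Nat.mul_comm]
        have := Subgroup.card_mul_index (U.subgroupOf P)
        rw [Nat.card_congr (Subgroup.subgroupOfEquivOfLe hUP).toEquiv] at this
        rw [← this]
        congr 1
        have h3 := Subgroup.relIndex_ker (f := QuotientGroup.mk' U) (K := P)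
        rw [QuotientGroup.ker_mk'] at h3
        exact h3
      rw [h1] at h2
      exact_mod_cast h2
    have hcG : (Nat.card H : ℂ) = (Nat.card (H ⧸ U) : ℂ) * (Nat.card U : ℂ) := by
      exact_mod_cast Subgroup.card_eq_card_quotient_mul_card_subgroup U
    have hreg : regS p (φ : H → ℂ) (φ' : H → ℂ) = ∑ i : X, ∑ j : X,
        (v φ i : ℂ) * (v φ' j : ℂ) * regS p (i.1 : H ⧸ U → ℂ) (j.1 : H ⧸ U → ℂ) := by
      simp only [regS_eq_sum, Finset.mul_sum]
      rw [Finset.sum_congr rfl fun y hy => show (φ : H → ℂ) y * (φ' : H → ℂ) y⁻¹ =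
        (fun q : H ⧸ U => (∑ i : X, (v φ i : ℂ) * (i.1 : H ⧸ U → ℂ) q) *
          ∑ j : X, (v φ' j : ℂ) * (j.1 : H ⧸ U → ℂ) q⁻¹) (y : H ⧸ U) by
          rw [hv φ hφ y (Finset.mem_filter.1 hy).2,
            hv φ' hφ' y⁻¹ (by rw [orderOf_inv]; exact (Finset.mem_filter.1 hy).2)]
          rfl,
        sum_regular_quot hM hU hUc (fun q : H ⧸ U => (∑ i : X, (v φ i : ℂ) *
          (i.1 : H ⧸ U → ℂ) q) * ∑ j : X, (v φ' j : ℂ) * (j.1 : H ⧸ U → ℂ) q⁻¹)]
      simp only [Finset.sum_mul_sum]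
      rw [Finset.sum_comm]
      refine Finset.sum_congr rfl fun i _ => ?_
      rw [Finset.sum_comm]
      exact Finset.sum_congr rfl fun j _ => Finset.sum_congr rfl fun q _ => by ring
    have hspec := secQ_spec hM hB hφ hφ'
    rw [hcP, hcG, hreg] at hspec
    simp only [hgram, mul_sub, Finset.sum_sub_distrib, mul_ite, mul_zero, Finset.sum_ite_eq,
      Finset.mem_univ, if_true] at hspec
    have e1 : ∑ i : X, (w i φ : ℂ) * (w i φ' : ℂ) = ∑ i : X, (v φ i : ℂ) * (v φ' i : ℂ) :=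
      Finset.sum_congr rfl fun i _ => by
        rw [hw i φ hφ, hw i φ' hφ']
        linear_combination ((v φ i : ℂ) * (v φ' i : ℂ)) * hα i
    have e2 : (∑ i : X, (w i φ : ℂ)) * ∑ j : X, (w j φ' : ℂ) = ∑ i : X, ∑ j : X,
        (v φ i : ℂ) * (v φ' j : ℂ) * ((α i.1 : ℂ) * (α j.1 : ℂ)) := by
      rw [Finset.sum_mul_sum]
      exact Finset.sum_congr rfl fun i _ => Finset.sum_congr rfl fun j _ => by
        rw [hw i φ hφ, hw j φ' hφ']; ring
    rw [Finset.sum_congr rfl fun (i : X) _ => Finset.sum_congr rfl fun (j : X) _ =>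
        show (v φ i : ℂ) * (v φ' j : ℂ) * ((α i.1 : ℂ) * (α j.1 : ℂ) * S0) =
          S0 * ((v φ i : ℂ) * (v φ' j : ℂ) * ((α i.1 : ℂ) * (α j.1 : ℂ))) by ring] at hspec
    simp only [← Finset.mul_sum, ← Finset.sum_mul] at hspec
    rw [← e1, ← e2] at hspec
    have hfin : (secQ p B φ φ' : ℂ) = ((p ^ a : ℕ) : ℂ) * ∑ i : X, (w i φ : ℂ) * (w i φ' : ℂ) -
        (Y.card : ℂ) * ((∑ i : X, (w i φ : ℂ)) * ∑ j : X, (w j φ' : ℂ)) := by
      refine mul_left_cancel₀ (mul_ne_zero (Nat.cast_ne_zero.2 Nat.card_pos.ne' :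
        (Nat.card (H ⧸ U) : ℂ) ≠ 0) (Nat.cast_ne_zero.2 Nat.card_pos.ne' :
        (Nat.card U : ℂ) ≠ 0)) ?_
      linear_combination -hspec -
        ((Nat.card U : ℂ) * ((∑ i : X, (w i φ : ℂ)) * ∑ j : X, (w j φ' : ℂ))) * hS0val
    exact_mod_cast hfin

/-- The count: `k(B) ≤ p ^ d`. -/
theorem card_le_of_form {x : G} {H : Subgroup G} [Fintype H] {b : Set (IrrCharacter H)}
    (hM : IsPModular p M) (hH : IsCentr x H) (hx : ∃ k : ℕ, orderOf x = p ^ k)
    (hind : IsInducedBlock M H b B) (hdef : blockDefect p b = blockDefect p B) {ι : Type u}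
    [Fintype ι] (m s : ℕ) (w : ι → IrrCharacter H → ℤ) (he : 0 < Fintype.card ι) (hm : 0 < m)
    (hs : Fintype.card ι * m + 1 = s) (hl : blockRank p b = Fintype.card ι)
    (hw : ∀ i, w i ∈ EigenLattice.lat (secQ p b) ((p : ℤ) ^ blockDefect p b))
    (hQ : ∀ φ φ', secQ p b φ φ' =
      (s : ℤ) * ∑ i, w i φ * w i φ' - (m : ℤ) * ((∑ i, w i φ) * ∑ i, w i φ')) :
    Nat.card B ≤ p ^ blockDefect p B := by
  classical
  set e := Fintype.card ι with hedef
  let vec : (Fin 2 × ι) ⊕ (Fin m × ι × ι) → IrrCharacter H → ℤ :=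
    Sum.elim (fun a => w a.2) fun a => w a.2.1 - w a.2.2
  have hvec : ∀ q ∈ (Finset.univ : Finset ((Fin 2 × ι) ⊕ (Fin m × ι × ι))),
      vec q ∈ EigenLattice.lat (secQ p b) ((p : ℤ) ^ blockDefect p b) := by
    rintro (a | a) -
    · exact hw a.2
    · exact Submodule.sub_mem _ (hw a.2.1) (hw a.2.2)
  set S := (bset B ×ˢ (Finset.univ : Finset ((Fin 2 × ι) ⊕ (Fin m × ι × ι)))).filter
    (fun q => sCoord x H q.1 (vec q.2) ≠ 0) with hSdef
  have h := count_le_norms hM hH hx hind Finset.univ vec hvec S (Finset.filter_subset _ _)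
    fun q hq => (Finset.mem_filter.1 hq).2
  have hsum : ∀ φ, ∑ q, vec q φ * vec q φ = 2 * secQ p b φ φ := by
    intro φ
    rw [hQ, Fintype.sum_sum_type]
    simp only [vec, Sum.elim_inl, Sum.elim_inr, Fintype.sum_prod_type, Pi.sub_apply,
      Finset.sum_const, Finset.card_univ, Fintype.card_fin, nsmul_eq_mul, sub_mul, mul_sub,
      Finset.sum_sub_distrib, Finset.mul_sum, Finset.sum_mul]
    rw [← hs]
    simp only [← Finset.mul_sum, ← Finset.sum_mul]
    push_cast
    ring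
  have hip : ∑ q, EigenLattice.ip (vec q) (vec q) =
      2 * ((e : ℤ) * (p : ℤ) ^ blockDefect p b) := by
    simp only [EigenLattice.ip]
    rw [Finset.sum_comm, Finset.sum_congr rfl fun φ _ => hsum φ, ← Finset.mul_sum,
      secQ_trace hM hind.1, hl]
  rw [hip] at h
  have hlow : ∀ θ ∈ bset B, 2 * e ≤
      ((Finset.univ : Finset ((Fin 2 × ι) ⊕ (Fin m × ι × ι))).filter
        fun q => sCoord x H θ (vec q) ≠ 0).card := by
    intro θ hθ
    let N := Finset.univ.filter fun i : ι => sCoord x H θ (w i) ≠ 0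
    have hN : 0 < N.card := by
      rw [Finset.card_pos]
      by_contra hno
      obtain ⟨φ, hφ⟩ := exists_col_ne_zero hM hH hx hind hdef (mem_bset.1 hθ)
      apply hφ
      have h0 : ∀ i, sCoord x H θ (w i) = 0 := fun i => by
        by_contra hi
        exact hno ⟨i, Finset.mem_filter.2 ⟨Finset.mem_univ _, hi⟩⟩
      calc sCoord x H θ (fun ψ => secQ p b φ ψ)
          = ∑ i, (((s : ℤ) * w i φ - (m : ℤ) * ∑ j, w j φ : ℤ) : ℂ) * sCoord x H θ (w i) := by
            simp only [sCoord, Finset.mul_sum, hQ]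
            rw [Finset.sum_comm]
            refine Finset.sum_congr rfl fun ψ _ => ?_
            push_cast
            simp only [Finset.mul_sum, Finset.sum_mul, sub_mul, mul_sub,
              ← Finset.sum_sub_distrib]
            refine Finset.sum_congr rfl fun i _ => ?_
            simp only [← Finset.mul_sum, ← Finset.sum_mul]
            ring
        _ = 0 := Finset.sum_eq_zero fun i _ => by rw [h0 i, mul_zero]
    let A : Finset ((Fin 2 × ι) ⊕ (Fin m × ι × ι)) :=
      ((Finset.univ ×ˢ N).map ⟨Sum.inl, Sum.inl_injective⟩) ∪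
        ((Finset.univ ×ˢ (N ×ˢ Nᶜ ∪ Nᶜ ×ˢ N)).map ⟨Sum.inr, Sum.inr_injective⟩)
    have hA : A ⊆ Finset.univ.filter fun q => sCoord x H θ (vec q) ≠ 0 := by
      intro q hq
      refine Finset.mem_filter.2 ⟨Finset.mem_univ _, ?_⟩
      simp only [A, N, Finset.mem_union, Finset.mem_map, Finset.mem_product, Finset.mem_compl,
        Finset.mem_filter, Finset.mem_univ, true_and, Function.Embedding.coeFn_mk] at hq
      rcases hq with ⟨a, ha, rfl⟩ | ⟨a, ha, rfl⟩
      · exact ha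
      · show sCoord x H θ (w a.2.1 - w a.2.2) ≠ 0
        rw [sCoord_sub]
        rcases ha with ⟨h1, h2⟩ | ⟨h1, h2⟩
        · rw [not_not.1 h2, sub_zero]; exact h1
        · rw [not_not.1 h1, zero_sub, neg_ne_zero]; exact h2
    refine le_trans ?_ (Finset.card_le_card hA)
    have hd1 : Disjoint ((Finset.univ ×ˢ N).map
        (⟨Sum.inl, Sum.inl_injective⟩ : (Fin 2 × ι) ↪ (Fin 2 × ι) ⊕ (Fin m × ι × ι)))
        ((Finset.univ ×ˢ (N ×ˢ Nᶜ ∪ Nᶜ ×ˢ N)).map ⟨Sum.inr, Sum.inr_injective⟩) := by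
      rw [Finset.disjoint_left]
      intro q hq1 hq2
      simp only [Finset.mem_map, Function.Embedding.coeFn_mk] at hq1 hq2
      obtain ⟨a, -, rfl⟩ := hq1
      obtain ⟨a', -, h'⟩ := hq2
      exact absurd h' (by simp)
    have hd2 : Disjoint (N ×ˢ Nᶜ) (Nᶜ ×ˢ N) := by
      rw [Finset.disjoint_left]
      intro q hq1 hq2
      rw [Finset.mem_product] at hq1 hq2
      exact Finset.mem_compl.1 hq2.1 hq1.1
    simp only [A]
    rw [Finset.card_union_of_disjoint hd1, Finset.card_map, Finset.card_map, Finset.card_product,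
      Finset.card_product, Finset.card_union_of_disjoint hd2, Finset.card_product,
      Finset.card_product, Finset.card_univ, Finset.card_univ, Fintype.card_fin, Fintype.card_fin,
      Finset.card_compl]
    obtain ⟨r, hr⟩ := Nat.le.dest (Finset.card_le_univ N)
    rw [hedef, ← hr, Nat.add_sub_cancel_left]
    nlinarith [Nat.mul_le_mul (Nat.succ_le_of_lt hm) (Nat.mul_le_mul_right r (Nat.succ_le_of_lt hN))]
  have hS : 2 * e * (bset B).card ≤ S.card := by
    rw [hSdef, Finset.card_filter, Finset.sum_product, mul_comm, ← smul_eq_mul, ← Finset.sum_const]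
    exact Finset.sum_le_sum fun θ hθ => by rw [← Finset.card_filter]; exact hlow θ hθ
  have h3 : ((2 * e * (bset B).card : ℕ) : ℤ) ≤ 2 * ((e : ℤ) * (p : ℤ) ^ blockDefect p b) :=
    le_trans (by exact_mod_cast hS) h
  rw [card_bset', ← hdef]
  have h4 : 2 * e * (bset B).card ≤ 2 * e * p ^ blockDefect p b := by
    rw [← mul_assoc] at h3
    exact_mod_cast h3
  exact Nat.le_of_mul_le_mul_left h4 (by omega)

end CfsgLib.Blocks
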