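import Cfsg.Agent.Lib.Blocks.CyclicTrivCore
import Cfsg.Agent.Lib.Blocks.CyclicComponents
import Cfsg.Agent.Lib.Blocks.CyclicShape

/-!
# A block with cyclic defect group has at least as many Brauer characters as its inertial index
-/

namespace CfsgLib.Blocks

open Cfsg CfsgLib.CharTheory MonoidAlgebra CyclicRep
open scoped ComplexConjugate

set_option synthInstance.maxHeartbeats 200000
set_option linter.unusedVariables false
set_option linter.unusedSimpArgs false
set_option linter.style.haveILetI false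
set_option linter.unusedSectionVars false

universe u

variable {p : ℕ} {M : Ideal AlgInt} [M.IsMaximal] {G : Type u} [Group G] [Fintype G]

attribute [local instance] Ideal.Quotient.field

/-- The map of a group algebra of a subgroup. -/
noncomputable def subEmb (k : Type*) [Field k] {G : Type*} [Group G] (C : Subgroup G) :
    MonoidAlgebra k C →ₐ[k] MonoidAlgebra k G :=
  MonoidAlgebra.mapDomainAlgHom k k C.subtype

theorem subEmb_of (C : Subgroup G) (c : C) :
    subEmb (AlgInt ⧸ M) C (of _ C c) = of _ G (c : G) := by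
  simp [subEmb, MonoidAlgebra.of_apply]

theorem subEmb_injective (C : Subgroup G) : Function.Injective (subEmb (AlgInt ⧸ M) C) := by
  intro x y h
  exact MonoidAlgebra.mapDomain_injective (fun a b e => Subtype.ext e) h

theorem subEmb_toAlg (hM : IsPModular p M) (C : Subgroup G) [Fintype C] (v : IrrCharacter C → ℂ) :
    subEmb (AlgInt ⧸ M) C (toAlg hM v) = ∑ c : C, res hM (cf v c) • of _ G (c : G) := by
  rw [toAlg, map_sum]
  refine Finset.sum_congr rfl fun c _ => ?_
  rw [← subEmb_of, ← map_smul]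
  simp

/-- Conjugation of a block idempotent of a subgroup. -/
theorem conjK_toAlg_ind (hM : IsPModular p M) {C : Subgroup G} [Fintype C] {g : G}
    (hg : g ∈ Subgroup.normalizer (C : Set G)) (b : Set (IrrCharacter C)) :
    conjK g (subEmb (AlgInt ⧸ M) C (toAlg hM (ind b))) =
      subEmb (AlgInt ⧸ M) C (toAlg hM (ind (irrPull (conjE hg) '' b))) := by
  rw [subEmb_toAlg, subEmb_toAlg, conjK, Finset.mul_sum, Finset.sum_mul]
  refine Fintype.sum_equiv (conjE hg).symm.toEquiv _ _ fun c => ?_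
  rw [mul_smul_comm, smul_mul_assoc, ← map_mul, ← map_mul, cf_ind, cf_ind, blockCoeff_image]
  congr 2
  rw [MulEquiv.toEquiv_eq_coe, EquivLike.coe_coe, MulEquiv.apply_symm_apply]

/-- The algebra behind the next statement. -/
theorem trace_form_alg {k : Type*} [Field k] {H : Type*} [Group H] {D : Subgroup H}
    [Fintype (H ⧸ D)] (y : H) (e1 K Zn : MonoidAlgebra k H) (l : k) (hl : l ≠ 0) (m0 : k)
    (hm0 : m0 ≠ 0) (hee : e1 * e1 = e1) (hec : ∀ x, e1 * x = x * e1)
    (hZc : ∀ x, Zn * x = x * Zn) {m : ℕ} (hnil : Zn ^ m = 0) (hmul : K * e1 = l • e1 + Zn)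
    (hsum : ∑ o : H ⧸ D, of k H (o.out * y * o.out⁻¹) = m0 • K)
    (hwd : ∀ u ∈ D, u * y = y * u) :
    ∃ w : MonoidAlgebra k H, w * e1 = w ∧ (∀ u ∈ D, of k H u * w = w * of k H u) ∧
      ∑ o : H ⧸ D, of k H o.out * w * of k H o.out⁻¹ = e1 := by
  have hZe : Zn * e1 = Zn := by
    have h1 := congrArg (· * e1) hmul
    simp only [mul_assoc, hee, add_mul, smul_mul_assoc] at h1
    rw [hmul] at h1
    exact (add_left_cancel h1).symm
  set n := l⁻¹ • Zn with hn
  set Y := ∑ i ∈ Finset.range m, (-n) ^ i with hY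
  have hnY : (1 + n) * Y = 1 := by
    have h1 := mul_neg_geom_sum (-n) m
    rw [neg_pow n m, hn, smul_pow, hnil, smul_zero, mul_zero, sub_zero, ← hn, sub_neg_eq_add] at h1
    exact h1
  have hYcen : ∀ x, Y * x = x * Y := by
    intro x
    rw [hY, Finset.sum_mul, Finset.mul_sum]
    refine Finset.sum_congr rfl fun i _ => ((Commute.neg_left ?_).pow_left i).eq
    exact (show Commute Zn x from hZc x).smul_left _
  have hX : ∀ x, e1 * Y * x = x * (e1 * Y) := fun x => by
    rw [mul_assoc, hYcen, ← mul_assoc, hec, mul_assoc]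
  have hXe : e1 * Y * e1 = e1 * Y := by rw [hX, ← mul_assoc, hee]
  have hmain : e1 = l⁻¹ • (K * (e1 * Y)) := by
    have h1 : e1 * (1 + n) = l⁻¹ • (K * e1) := by
      rw [hmul, smul_add, smul_smul, inv_mul_cancel₀ hl, one_smul, mul_add, mul_one, hn,
        mul_smul_comm, ← hZc, hZe]
    calc e1 = e1 * ((1 + n) * Y) := by rw [hnY, mul_one]
      _ = _ := by rw [← mul_assoc, h1, smul_mul_assoc, mul_assoc]
  refine ⟨(m0⁻¹ * l⁻¹) • (of k H y * (e1 * Y)), ?_, fun u hu => ?_, ?_⟩
  · rw [smul_mul_assoc, mul_assoc, hXe]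
  · rw [mul_smul_comm, smul_mul_assoc]
    congr 1
    rw [← mul_assoc, ← map_mul, hwd u hu, map_mul, mul_assoc, mul_assoc, hX]
  · have hterm : ∀ o : H ⧸ D, of k H o.out * ((m0⁻¹ * l⁻¹) • (of k H y * (e1 * Y))) *
        of k H o.out⁻¹ = (m0⁻¹ * l⁻¹) • (of k H (o.out * y * o.out⁻¹) * (e1 * Y)) := by
      intro o
      rw [mul_smul_comm, smul_mul_assoc]
      congr 1
      rw [map_mul, map_mul, ← mul_assoc (of k H o.out), mul_assoc _ (e1 * Y), hX, ← mul_assoc]
    rw [Finset.sum_congr rfl fun o _ => hterm o, ← Finset.smul_sum, ← Finset.sum_mul, hsum,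
      smul_mul_assoc, smul_smul, mul_comm m0⁻¹ l⁻¹, mul_assoc l⁻¹, inv_mul_cancel₀ hm0, mul_one]
    exact hmain.symm

/-- The block idempotent as a relative trace from a defect group. -/
theorem exists_trace_form [Fact p.Prime] (hM : IsPModular p M) {B : Set (IrrCharacter G)}
    (hB : IsPBlock M B) {D : Subgroup G} (hD : IsDefectGroup p M B D) [Fintype (G ⧸ D)] :
    ∃ w : MonoidAlgebra (AlgInt ⧸ M) G, w * toAlg hM (ind B) = w ∧
      (∀ u ∈ D, of _ G u * w = w * of _ G u) ∧
      ∑ o : G ⧸ D, of _ G o.out * w * of _ G o.out⁻¹ = toAlg hM (ind B) := by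
  classical
  haveI := res_charP hM
  obtain ⟨y, hy, S, hS⟩ := hD
  obtain ⟨ψ₀, hψ₀⟩ := block_nonempty hM hB
  set e1 := toAlg hM (ind B) with he1
  set ez : Zloc G hM := ⟨ind B, ind_mem_Zloc hM hB⟩ with hez
  set cz : Zloc G hM := ⟨clv y, clv_mem_Zloc hM y⟩ with hcz
  set κ := clv y ψ₀ with hκ
  have hκm : MemLocalRing M κ := memRing_clv hM y ψ₀
  set kz : Zloc G hM := ⟨fun _ => κ, const_mem_Zloc hM hκm⟩ with hkz
  set l := res hM κ with hl
  have hl0 : l ≠ 0 := fun h0 => hy.2.2 ψ₀ hψ₀ ((res_eq_zero_iff hM hκm).1 h0)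
  obtain ⟨m, hm⟩ := toAlg_isNilpotent hM (cz * ez - kz * ez) (fun χ => by
    show MemLocalIdeal M (clv y χ * ind B χ - κ * ind B χ)
    by_cases hχ : χ ∈ B
    · rw [ind_of_mem hχ, mul_one, mul_one, memIdeal_sub_iff hM (memRing_clv hM y χ) hκm, hκ]
      exact Zloc_res_congr hM (clv_mem_Zloc hM y) (sameBlock_of_mem hM hB hχ hψ₀)
    · rw [ind_of_notMem hχ, mul_zero, mul_zero, sub_zero]
      exact memIdeal_zero hM)
  set Zn := toAlg hM ((cz * ez - kz * ez : Zloc G hM) : IrrCharacter G → ℂ) with hZn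
  have hk : toAlg hM ((kz * ez : Zloc G hM) : IrrCharacter G → ℂ) = l • e1 := by
    refine MonoidAlgebra.ext (Finsupp.ext fun g => ?_)
    rw [coeff_toAlg, coeff_smul, Finsupp.smul_apply, he1, coeff_toAlg, smul_eq_mul, hl,
      show ((kz * ez : Zloc G hM) : IrrCharacter G → ℂ) = κ • ind B from rfl, cf_smul, Pi.smul_apply,
      smul_eq_mul, res_mul hM hκm (ind_mem_Zloc hM hB g)]
  have hmul : toAlg hM (clv y) * e1 = l • e1 + Zn := by
    rw [hZn, toAlg_sub, hk, ← add_sub_assoc, add_sub_cancel_left]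
    exact (toAlg_mul hM cz ez).symm
  have hee : e1 * e1 = e1 := (toAlg_mul hM ez ez).symm.trans (by
    congr 1
    funext ψ
    show ind B ψ * ind B ψ = ind B ψ
    by_cases hψ : ψ ∈ B
    · rw [ind_of_mem hψ, one_mul]
    · rw [ind_of_notMem hψ, zero_mul])
  have hnil : Zn ^ m = 0 := hm
  -- counting the cosets
  have hDC : D ≤ (Subgroup.centralizer ({y} : Set G)) := by rw [hS]; exact Subgroup.map_subtype_le _
  have hSeq : D.subgroupOf (Subgroup.centralizer ({y} : Set G)) = (S : Subgroup (Subgroup.centralizer ({y} : Set G))) := by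
    rw [hS, Subgroup.subgroupOf,
      Subgroup.comap_map_eq_self_of_injective (Subgroup.subtype_injective _)]
  set m0 := (D.subgroupOf (Subgroup.centralizer ({y} : Set G))).index with hm0
  have hm0p : (m0 : AlgInt ⧸ M) ≠ 0 := by
    rw [Ne, CharP.cast_eq_zero_iff (AlgInt ⧸ M) p, hm0, hSeq]
    exact S.not_dvd_index
  have hwd : ∀ u ∈ D, u * y = y * u := fun u hu => Subgroup.mem_centralizer_singleton_iff.1 (hDC hu)
  have hsum : ∑ o : G ⧸ D, of (AlgInt ⧸ M) G (o.out * y * o.out⁻¹) =
      (m0 : AlgInt ⧸ M) • toAlg hM (clv y) := by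
    refine MonoidAlgebra.ext (Finsupp.ext fun x => ?_)
    rw [coeff_sum, Finsupp.finsetSum_apply, coeff_smul, Finsupp.smul_apply, coeff_toAlg, cf_clv,
      smul_eq_mul]
    simp only [MonoidAlgebra.of_apply, coeff_single, Finsupp.single_apply, Finset.sum_boole]
    split_ifs with hx
    · rw [res_one hM, mul_one]
      congr 1
      obtain ⟨c0, hc0⟩ := isConj_iff.1 hx
      rw [← Fintype.card_subtype, ← Nat.card_eq_fintype_card, hm0, Subgroup.index]
      have hout : ∀ g : G, ((QuotientGroup.mk g : G ⧸ D).out * y *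
          ((QuotientGroup.mk g : G ⧸ D).out)⁻¹) = g * y * g⁻¹ := by
        intro g
        obtain ⟨u, hu⟩ := QuotientGroup.mk_out_eq_mul D g
        rw [hu, mul_assoc g, hwd _ u.2]
        group
      have hmem : ∀ o : G ⧸ D, o.out * y * o.out⁻¹ = x →
          c0⁻¹ * o.out ∈ Subgroup.centralizer ({y} : Set G) := fun o ho =>
        Subgroup.mem_centralizer_singleton_iff.2 (by
          have h1 : o.out * y * o.out⁻¹ = c0 * y * c0⁻¹ := ho.trans hc0.symm
          calc c0⁻¹ * o.out * y = c0⁻¹ * (o.out * y * o.out⁻¹) * o.out := by group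
            _ = c0⁻¹ * (c0 * y * c0⁻¹) * o.out := by rw [h1]
            _ = _ := by group)
      refine Nat.card_congr
        { toFun := fun o => QuotientGroup.mk
            (⟨c0⁻¹ * o.1.out, hmem o.1 o.2⟩ : (Subgroup.centralizer ({y} : Set G)))
          invFun := fun o => ⟨QuotientGroup.mk (c0 * (o.out : G)), by
            rw [hout, ← hc0]
            have h1 : (o.out : G) * y = y * (o.out : G) :=
              Subgroup.mem_centralizer_singleton_iff.1 o.out.2
            rw [mul_assoc c0, h1]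
            group⟩
          left_inv := fun o => Subtype.ext ?_
          right_inv := fun o => ?_ }
      · have h1 : ((QuotientGroup.mk (⟨c0⁻¹ * o.1.out, hmem o.1 o.2⟩ : (Subgroup.centralizer ({y} : Set G))) : (Subgroup.centralizer ({y} : Set G)) ⧸ D.subgroupOf (Subgroup.centralizer ({y} : Set G))).out : G)⁻¹ *
            (c0⁻¹ * o.1.out) ∈ D := Subgroup.mem_subgroupOf.1
          (QuotientGroup.eq.1 (QuotientGroup.out_eq' _))
        refine Eq.trans ?_ (QuotientGroup.out_eq' o.1)
        refine QuotientGroup.eq.2 ?_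
        convert h1 using 1
        group
      · have h1 : ((QuotientGroup.mk (c0 * (o.out : G)) : G ⧸ D).out)⁻¹ * (c0 * (o.out : G)) ∈ D :=
          QuotientGroup.eq.1 (QuotientGroup.out_eq' _)
        refine Eq.trans ?_ (QuotientGroup.out_eq' o)
        refine QuotientGroup.eq.2 (Subgroup.mem_subgroupOf.2 ?_)
        show (c0⁻¹ * (QuotientGroup.mk (c0 * (o.out : G)) : G ⧸ D).out)⁻¹ * (o.out : G) ∈ D
        convert h1 using 1
        group
    · rw [res_zero hM, mul_zero, Finset.filter_eq_empty_iff.2 fun o _ ho =>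
        hx (isConj_iff.2 ⟨o.out, ho⟩), Finset.card_empty, Nat.cast_zero]
  exact trace_form_alg y e1 (toAlg hM (clv y)) Zn l hl0 (m0 : AlgInt ⧸ M) hm0p hee
    (toAlg_central hM (ind B)) (toAlg_central hM _) hnil hmul hsum hwd

namespace CycData

variable {B : Set (IrrCharacter G)} {P : Subgroup G}
  {c : Set (IrrCharacter (Subgroup.centralizer (P : Set G)))} {a : ℕ} (h : CycData p M B P c a)

include h

set_option maxHeartbeats 1600000 in
/-- At least `e` Brauer characters. -/
theorem index_le_blockRank' : cycIndex P c ≤ blockRank p B := by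
  classical
  haveI : Fact p.Prime := ⟨h.prime⟩
  have hM := h.mod
  haveI : IsAlgClosed (AlgInt ⧸ M) := res_isAlgClosed hM
  haveI := res_charP hM
  haveI : Fintype P := Fintype.ofFinite P
  -- the element of order `p`
  obtain ⟨z, hzP, hz1, hzmin⟩ := h.exists_zmin
  have hzp : z ^ p = 1 := by
    haveI : Nontrivial P := (Subgroup.nontrivial_iff_ne_bot P).2 h.ne_bot
    have hdvd : p ∣ Nat.card P := by rw [h.card]; exact dvd_pow_self p (by have := h.pos; omega)
    obtain ⟨x, hx⟩ := exists_prime_orderOf_dvd_card' p hdvd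
    have hx' : orderOf (x : G) = p := by rw [Subgroup.orderOf_coe]; exact hx
    have hle := hzmin x x.2 fun h1 => h.prime.one_lt.ne' (by rw [← hx', h1, orderOf_one])
    have hdv := Subgroup.card_dvd_of_le hle
    rw [Nat.card_zpowers, Nat.card_zpowers, hx'] at hdv
    exact orderOf_dvd_iff_pow_eq_one.1 hdv
  set Q := Subgroup.zpowers z with hQdef
  have hQP : Q ≤ P := h.zpowers_le hzP
  have hQ1 : Q ≠ ⊥ := zpowers_ne_bot hz1
  set C := Subgroup.centralizer (Q : Set G) with hCdef
  haveI : Fintype C := Fintype.ofFinite _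
  obtain ⟨hbstab, hbrel, -, -⟩ := h.below_props hQP hQ1
  set b1 : Set (IrrCharacter C) := (belowIdx p M P c Q).2 with hb1
  have hb1B : IsPBlock M b1 := (h.below_spec hQP).1
  obtain ⟨x, hx, hup, h1, htriv⟩ := h.down hQP hQ1
  have hmap : x.1.map C.subtype = P := le_map_subtype_of_eq hup
  obtain ⟨q, ε, n, a', b', hcore⟩ := h1.exists_triv_core htriv
  -- the stabilizer
  set T := pairStab Q b1 with hT
  have hTeq : T = pairStab P c ⊔ C := hbstab
  have hTN : T ≤ Subgroup.normalizer (Q : Set G) := fun g hg => ((mem_pairStab g).1 hg).1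
  have hC : ∀ g : G, g ∈ C ↔ g * z = z * g := fun g => isCentr_zpowers z g
  have hCN : ∀ {g : G}, g ∈ Subgroup.normalizer (Q : Set G) → ∀ d ∈ C, g * d * g⁻¹ ∈ C := by
    intro g hg d hd
    obtain ⟨i, hi⟩ := Subgroup.mem_zpowers_iff.1 (show g⁻¹ * z * g ∈ Q by
      have h2 := ((Subgroup.mem_normalizer_iff.1 (inv_mem hg)) z).1 (Subgroup.mem_zpowers z)
      rwa [inv_inv] at h2)
    have hcz : Commute d (g⁻¹ * z * g) := hi ▸ Commute.zpow_right ((hC d).1 hd) i
    refine (hC _).2 ?_
    calc g * d * g⁻¹ * z = g * (d * (g⁻¹ * z * g)) * g⁻¹ := by group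
      _ = g * ((g⁻¹ * z * g) * d) * g⁻¹ := by rw [hcz.eq]
      _ = z * (g * d * g⁻¹) := by group
  have hCnorm : ∀ {g : G}, g ∈ Subgroup.normalizer (Q : Set G) →
      g ∈ Subgroup.normalizer (C : Set G) := by
    intro g hg
    refine Subgroup.mem_normalizer_iff.2 fun d => ⟨hCN hg d, fun hd => ?_⟩
    have := hCN (inv_mem hg) _ hd
    rwa [show g⁻¹ * (g * d * g⁻¹) * g⁻¹⁻¹ = d by group] at this
  have hPC : P ≤ C := h.le_centralizer hQP
  have hCT : C ≤ T := hTeq ▸ le_sup_right
  haveI hnorm : (C.subgroupOf T).Normal := ⟨fun d hd g => Subgroup.mem_subgroupOf.2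
    (hCN (hTN g.2) _ (Subgroup.mem_subgroupOf.1 hd))⟩
  haveI : ((Subgroup.centralizer (P : Set G)).subgroupOf (pairStab P c)).Normal := by
    refine ⟨fun d hd g => ?_⟩
    rw [Subgroup.mem_subgroupOf] at hd ⊢
    refine Subgroup.mem_centralizer_iff.2 fun v hv => ?_
    have h2 := hd _ (h.mem_stab_conj (inv_mem g.2) hv)
    show v * ((g : G) * d * (g : G)⁻¹) = (g : G) * d * (g : G)⁻¹ * v
    calc v * ((g : G) * d * (g : G)⁻¹) = g * (((g : G)⁻¹ * v * ((g : G)⁻¹)⁻¹) * d) * (g : G)⁻¹ := by group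
      _ = g * (d * ((g : G)⁻¹ * v * ((g : G)⁻¹)⁻¹)) * (g : G)⁻¹ := by rw [h2]
      _ = _ := by group
  haveI : IsCyclic (pairStab P c ⧸ (Subgroup.centralizer (P : Set G)).subgroupOf (pairStab P c)) := by
    haveI := Fintype.ofFinite (Subgroup.centralizer (P : Set G))
    exact (Cfsg.Agent.S4633.result p M hM B h.isBlock P h.isDefect h.ne_bot h.cyc c
      ((induced_centralizer_iff hM h.isP).2 h.max.1) (pairStab P c) fun g => mem_pairStab g).1
  obtain ⟨g₀, hg₀⟩ := IsCyclic.exists_generator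
    (α := pairStab P c ⧸ (Subgroup.centralizer (P : Set G)).subgroupOf (pairStab P c))
  obtain ⟨t₀, rfl⟩ := QuotientGroup.mk_surjective g₀
  have htT : (t₀ : G) ∈ T := hTeq ▸ Subgroup.mem_sup_left t₀.2
  set tb : T ⧸ C.subgroupOf T := QuotientGroup.mk ⟨(t₀ : G), htT⟩ with htb
  have hgenT : ∀ o : T ⧸ C.subgroupOf T, o ∈ Subgroup.zpowers tb := by
    set U : Subgroup G := ((Subgroup.zpowers tb).comap (QuotientGroup.mk' _)).map T.subtype with hU
    have hTU : T ≤ U := by
      conv_lhs => rw [hTeq]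
      refine sup_le (fun g hg => ?_) fun d hd => ?_
      · obtain ⟨i, hi⟩ := Subgroup.mem_zpowers_iff.1 (hg₀ (QuotientGroup.mk ⟨g, hg⟩))
        rw [← QuotientGroup.mk_zpow, QuotientGroup.eq, Subgroup.mem_subgroupOf] at hi
        have hd : ((t₀ : G) ^ i)⁻¹ * g ∈ C :=
          Subgroup.centralizer_le (s := (Q : Set G)) (fun _ hq => hQP hq) hi
        refine ⟨⟨g, hTeq ▸ Subgroup.mem_sup_left hg⟩, Subgroup.mem_zpowers_iff.2 ⟨i, ?_⟩, rfl⟩
        rw [QuotientGroup.mk'_apply, htb, ← QuotientGroup.mk_zpow, QuotientGroup.eq,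
          Subgroup.mem_subgroupOf]
        exact hd
      · refine ⟨⟨d, hCT hd⟩, ?_, rfl⟩
        rw [SetLike.mem_coe, Subgroup.mem_comap, QuotientGroup.mk'_apply,
          (QuotientGroup.eq_one_iff _).2 (Subgroup.mem_subgroupOf.2 hd)]
        exact Subgroup.one_mem _
    intro o
    obtain ⟨g, rfl⟩ := QuotientGroup.mk_surjective o
    obtain ⟨g', hg', e'⟩ := hTU g.2
    rwa [show g' = g from Subtype.ext e'] at hg'
  have hordT : orderOf tb = cycIndex P c := by
    rw [orderOf_eq_card_of_forall_mem_zpowers hgenT]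
    exact hbrel
  set e := cycIndex P c with he
  have hpow : ∀ i : ℕ, tb ^ i = QuotientGroup.mk (⟨(t₀ : G) ^ i, pow_mem htT i⟩ : T) := fun i => by
    rw [htb, ← QuotientGroup.mk_pow]; rfl
  have hte : (t₀ : G) ^ e ∈ C := by
    have h2 := pow_orderOf_eq_one tb
    rw [hordT, hpow, QuotientGroup.eq_one_iff, Subgroup.mem_subgroupOf] at h2
    exact h2
  have hgen : ∀ g ∈ T, ∃! i : ℕ, i < e ∧ ((t₀ : G) ^ i)⁻¹ * g ∈ C := by
    intro g hg
    have hiff : ∀ i : ℕ, ((t₀ : G) ^ i)⁻¹ * g ∈ C ↔ tb ^ i = QuotientGroup.mk (⟨g, hg⟩ : T) :=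
      fun i => by rw [hpow, QuotientGroup.eq, Subgroup.mem_subgroupOf]; rfl
    obtain ⟨i, hi, e'⟩ := Finset.mem_image.1
      (mem_zpowers_iff_mem_range_orderOf.1 (hgenT (QuotientGroup.mk (⟨g, hg⟩ : T))))
    refine ⟨i, ⟨hordT ▸ Finset.mem_range.1 hi, (hiff i).2 e'⟩, fun j hj => ?_⟩
    refine pow_injOn_Iio_orderOf (show j < orderOf tb by rw [hordT]; exact hj.1)
      (Finset.mem_range.1 hi) ?_
    show tb ^ j = tb ^ i
    rw [(hiff j).1 hj.2, e']
  -- the idempotent, its trace form
  set j := subEmb (AlgInt ⧸ M) C with hj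
  haveI : Fintype (C ⧸ x.1) := Fintype.ofFinite _
  obtain ⟨w, hwe, hwfix, hwsum⟩ := exists_trace_form hM hb1B h1.isDefect
  have hsupp : supp (AlgInt ⧸ M) C = j.range := rfl
  have hconj : ∀ {g : G} (hg : g ∈ Subgroup.normalizer (Q : Set G)),
      conjK g (j (toAlg hM (ind b1))) =
        j (toAlg hM (ind (irrPull (conjE (hCnorm hg)) '' b1))) := fun {g} hg =>
    conjK_toAlg_ind hM (hCnorm hg) b1
  have hstab : ∀ g ∈ T, conjK g (j (toAlg hM (ind b1))) = j (toAlg hM (ind b1)) := by
    intro g hg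
    rw [hconj (hTN hg), (stabilizesBlock_iff (hCnorm (hTN hg))).1 ((mem_pairStab g).1 hg).2]
  have hxP : ∀ d : C, d ∈ x.1 ↔ (d : G) ∈ P := fun d => by
    rw [← hmap]
    exact (Subgroup.mem_map_iff_mem (Subgroup.subtype_injective C)).symm
  have hwP : ∀ u ∈ P, of (AlgInt ⧸ M) G u * j w = j w * of (AlgInt ⧸ M) G u := by
    intro u hu
    have h2 := congrArg j (hwfix ⟨u, hPC hu⟩ ((hxP _).2 hu))
    rwa [map_mul, map_mul, subEmb_of] at h2
  have htrace : ∑ o ∈ cosets P C, conjK o.out (j w) = j (toAlg hM (ind b1)) := by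
    rw [← hwsum, map_sum]
    symm
    have hinv : ∀ g : G, conjK (QuotientGroup.mk g : G ⧸ P).out (j w) = conjK g (j w) := by
      intro g
      obtain ⟨u, hu⟩ := QuotientGroup.mk_out_eq_mul P g
      rw [hu, ← conjK_conjK]
      congr 1
      rw [conjK, hwP _ u.2, mul_assoc, ← map_mul, mul_inv_cancel, map_one, mul_one]
    refine Finset.sum_bij (fun (o : C ⧸ x.1) _ => (QuotientGroup.mk (o.out : G) : G ⧸ P))
      (fun o _ => mem_cosets.2 ((out_mem_iff hPC _).2 o.out.2)) (fun o _ o' _ he' => ?_)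
      (fun o ho => ?_) fun o _ => ?_
    · rw [← QuotientGroup.out_eq' o, ← QuotientGroup.out_eq' o']
      exact QuotientGroup.eq.2 ((hxP _).2 (QuotientGroup.eq.1 he'))
    · refine ⟨QuotientGroup.mk ⟨o.out, mem_cosets.1 ho⟩, Finset.mem_univ _, ?_⟩
      refine Eq.trans ?_ (QuotientGroup.out_eq' o)
      refine QuotientGroup.eq.2 ?_
      exact (hxP _).1 (QuotientGroup.eq.1
        (QuotientGroup.out_eq' (QuotientGroup.mk (⟨o.out, mem_cosets.1 ho⟩ : C) : C ⧸ x.1)))
    · rw [hinv, map_mul, map_mul, subEmb_of, subEmb_of]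
      rfl
  have hsetup : LocalSetup p P C T z (t₀ : G) e (j (toAlg hM (ind b1))) (j q) (j ε) (j w) (p ^ a) n
      (fun i => j (a' i)) (fun i => j (b' i)) :=
    { prime := h.prime
      char := inferInstance
      zP := hzP
      z1 := hz1
      zp := hzp
      zmin := hzmin
      hC := hC
      PC := hPC
      CT := hCT
      TN := hTN
      tT := htT
      te := hte
      gen := hgen
      e_ne := fun h0 => by
        rw [CharP.cast_eq_zero_iff (AlgInt ⧸ M) p] at h0
        exact absurd (Nat.le_of_dvd h.index_pos h0) (not_le.2 h.index_lt)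
      core := hsupp ▸ hcore.map j (subEmb_injective C)
      e_inv := fun g hg => by rw [of_mul_eq_conjK, hstab g hg]
      orth := fun g hg hgT => by
        rw [hconj hg, ← map_mul]
        have hne : irrPull (conjE (hCnorm hg)) '' b1 ≠ b1 := fun e' =>
          hgT ((mem_pairStab g).2 ⟨hg, (stabilizesBlock_iff (hCnorm hg)).2 e'⟩)
        have hblk := isPBlock_image (conjE (hCnorm hg)) hb1B
        rw [show toAlg hM (ind b1) * toAlg hM (ind (irrPull (conjE (hCnorm hg)) '' b1)) = 0 from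
          (toAlg_mul hM ⟨_, ind_mem_Zloc hM hb1B⟩ ⟨_, ind_mem_Zloc hM hblk⟩).symm.trans (by
            rw [← toAlg_zero hM]
            congr 1
            funext ψ
            show ind b1 ψ * ind _ ψ = 0
            by_cases hψ : ψ ∈ b1
            · rw [ind_of_notMem (Set.disjoint_left.1 (block_disjoint hM hb1B hblk hne.symm) hψ),
                mul_zero]
            · rw [ind_of_notMem hψ, zero_mul]), map_zero]
      w_mem := ⟨w, rfl⟩
      we := by rw [← map_mul, hwe]
      w_fix := hwP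
      trace := htrace }
  -- the block idempotent
  obtain ⟨r, d, π, hd, hπ, m, hm⟩ :=
    exists_pi_quotient (k := AlgInt ⧸ M) (A := MonoidAlgebra (AlgInt ⧸ M) G)
  haveI := hd
  set eB := toAlg hM (ind B) with heB
  have heBi : eB * eB = eB :=
    (toAlg_mul hM ⟨_, ind_mem_Zloc hM h.isBlock⟩ ⟨_, ind_mem_Zloc hM h.isBlock⟩).symm.trans (by
      congr 1
      funext ψ
      show ind B ψ * ind B ψ = ind B ψ
      by_cases hψ : ψ ∈ B
      · rw [ind_of_mem hψ, one_mul]
      · rw [ind_of_notMem hψ, zero_mul])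
  have hin : ∃ r' ∈ supp (AlgInt ⧸ M) C,
      (∑ g ∈ elems C, eB.coeff g • of (AlgInt ⧸ M) G g) * j (toAlg hM (ind b1)) -
        j (toAlg hM (ind b1)) = j q * r' := by
    set β : C → ℂ := fun d => blockCoeff B (d : G) with hβ
    have hBcl : IsClassFunction G (blockCoeff B) := by rw [← cf_ind]; exact cf_isClassFunction _
    have hβcl : IsClassFunction C β := fun d g => by
      show blockCoeff B ((g * d * g⁻¹ : C) : G) = blockCoeff B (d : G)
      push_cast
      exact hBcl _ _
    have hBm := memRing_blockCoeff hM h.isBlock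
    set vz : Zloc C hM := ⟨fun ψ => omega (ψ : C → ℂ) β, omega_mem_Zloc hM hβcl fun d => hBm _⟩
      with hvz
    set ez : Zloc C hM := ⟨ind b1, ind_mem_Zloc hM hb1B⟩ with hez
    have hzin : ∑ g ∈ elems C, eB.coeff g • of (AlgInt ⧸ M) G g =
        j (toAlg hM (vz : IrrCharacter C → ℂ)) := by
      rw [subEmb_toAlg]
      refine (Finset.sum_subtype _ (fun g => mem_elems) _).trans (Finset.sum_congr rfl fun d _ => ?_)
      rw [heB, coeff_toAlg, cf_ind, show cf (vz : IrrCharacter C → ℂ) = β from cf_omega hβcl]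
    obtain ⟨χ₀, hχ₀⟩ := block_nonempty hM h.isBlock
    have hind := h.induced_below hQP
    have hval : ∀ ψ, MemLocalIdeal M (((vz * ez - ez : Zloc C hM) : IrrCharacter C → ℂ) ψ) := by
      intro ψ
      show MemLocalIdeal M (omega (ψ : C → ℂ) β * ind b1 ψ - ind b1 ψ)
      by_cases hψ : ψ ∈ b1
      · rw [ind_of_mem hψ, mul_one, memIdeal_sub_iff hM (Zloc_apply_mem hM vz.2 ψ) (loc hM).one_mem,
          res_one hM, res_omega_of_induced C hM ψ χ₀ (hind.2.2 ψ hψ χ₀ hχ₀) hBcl hBm, ← cf_ind,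
          omega_cf, ind_of_mem hχ₀, res_one hM]
      · rw [ind_of_notMem hψ, mul_zero, sub_zero]
        exact memIdeal_zero hM
    obtain ⟨mm, hmm⟩ := toAlg_isNilpotent hM _ hval
    set zz := toAlg hM ((vz * ez - ez : Zloc C hM) : IrrCharacter C → ℂ) with hzz
    obtain ⟨r', hr', e'⟩ := (hcore.map j (subEmb_injective C)).central_nilpotent
      (y := j zz) ⟨zz, rfl⟩ (by
        rintro _ ⟨y, rfl⟩
        show j zz * j y = j y * j zz
        rw [← map_mul, ← map_mul, toAlg_central hM _ y]) (m := mm) (by rw [← map_pow, hmm, map_zero])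
    refine ⟨r', hr', ?_⟩
    rw [← e', hzin, ← map_mul, ← map_sub, ← map_mul]
    congr 1
    rw [hzz, toAlg_sub, toAlg_mul, sub_mul, mul_assoc,
      show toAlg hM (ez : IrrCharacter C → ℂ) = toAlg hM (ind b1) from rfl, hcore.idem]
  haveI : Fintype T := Fintype.ofFinite _
  obtain ⟨ι, hι, hone⟩ := hsetup.exists_components π hπ hm eB heBi (toAlg_central hM _) hin
  let F : Fin e → MonoidAlgebra (AlgInt ⧸ M) G →ₗ[AlgInt ⧸ M] (AlgInt ⧸ M) := fun l =>
    { toFun := fun y => (π y (ι l)).trace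
      map_add' := fun y y' => by rw [map_add, Pi.add_apply, Matrix.trace_add]
      map_smul' := fun r y => by rw [map_smul, Pi.smul_apply, Matrix.trace_smul]; rfl }
  have hli : LinearIndependent (AlgInt ⧸ M) F := by
    rw [Fintype.linearIndependent_iff]
    intro g hg l
    obtain ⟨y, hy⟩ := hπ (Pi.single (ι l) (Matrix.single 0 0 1))
    have h2 := LinearMap.congr_fun hg y
    simp only [LinearMap.sum_apply, LinearMap.smul_apply, LinearMap.zero_apply, smul_eq_mul] at h2
    rw [Finset.sum_eq_single l] at h2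
    · change g l * (π y (ι l)).trace = 0 at h2
      rwa [hy, Pi.single_eq_same, Matrix.trace_single_eq_same, mul_one] at h2
    · intro l' _ hne
      show g l' * (π y (ι l')).trace = 0
      rw [hy, Pi.single_eq_of_ne (fun e' => hne (hι e')), Matrix.trace_zero, mul_zero]
    · simp
  have hcard := (card_le_of_traces hM h.isBlock F
    (fun l y y' => by
      show (π (y * y') (ι l)).trace = (π (y' * y) (ι l)).trace
      rw [map_mul, map_mul, Pi.mul_apply, Pi.mul_apply, Matrix.trace_mul_comm])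
    (fun l y => by
      show (π (y * eB) (ι l)).trace = (π y (ι l)).trace
      rw [map_mul, Pi.mul_apply, hone, mul_one]) hli).2
    (fun l g g' hc hz => trace_section
      (((Pi.evalMonoidHom _ (ι l)).comp π.toMonoidHom).comp (of (AlgInt ⧸ M) G)) hc hz)
  rwa [Fintype.card_fin] at hcard

end CycData

/-- At least `e` Brauer characters. -/
theorem CycData.index_le_blockRank {p : ℕ} {M : Ideal AlgInt} {G : Type u} [Group G] [Fintype G]
    {B : Set (IrrCharacter G)} {P : Subgroup G}
    {c : Set (IrrCharacter (Subgroup.centralizer (P : Set G)))} {a : ℕ}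
    (h : CycData p M B P c a) : cycIndex P c ≤ blockRank p B := by
  haveI := h.mod.2.1
  exact h.index_le_blockRank'

end CfsgLib.Blocks
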