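import Cfsg.Agent.Lib.Blocks.CyclicNested
import Mathlib.RingTheory.IntegralDomain

/-!
# Cyclic defect group with trivial inertial index: the values are linear characters up to signs
-/

namespace CfsgLib.Blocks

open Cfsg CfsgLib.CharTheory
open scoped ComplexConjugate

set_option linter.unusedVariables false
set_option linter.unusedSimpArgs false
set_option linter.style.haveILetI false
set_option linter.unusedSectionVars false

universe u

variable {p : ℕ} {M : Ideal AlgInt} {G : Type u} [Group G] [Fintype G]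

theorem central_omega_pow {K : Type u} [Group K] [Fintype K] {z : K} (hz : z ∈ Subgroup.center K)
    (χ : IrrCharacter K) (m : ℕ) :
    (χ : K → ℂ) (z ^ m) / (χ : K → ℂ) 1 = ((χ : K → ℂ) z / (χ : K → ℂ) 1) ^ m := by
  induction m with
  | zero => rw [pow_zero, pow_zero, div_self (irr_one_ne_zero χ)]
  | succ m ih => rw [pow_succ', central_value_mul hz, pow_succ', mul_div_assoc, ih]

theorem zpowers_pow_of_coprime {v : G} {m : ℕ} (hm : m.Coprime (orderOf v)) :
    Subgroup.zpowers (v ^ m) = Subgroup.zpowers v := by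
  refine Subgroup.eq_of_le_of_card_ge (Subgroup.zpowers_le.2
    (Subgroup.pow_mem _ (Subgroup.mem_zpowers v) m)) (le_of_eq ?_)
  rw [Nat.card_zpowers, Nat.card_zpowers, hm.symm.orderOf_pow]

namespace CycData

variable {B : Set (IrrCharacter G)} {P : Subgroup G}
  {c : Set (IrrCharacter (Subgroup.centralizer (P : Set G)))} {a : ℕ} (h : CycData p M B P c a)

include h

theorem pow_card {v : G} (hv : v ∈ P) : v ^ p ^ a = 1 := by
  have h1 : (⟨v, hv⟩ : P) ^ Nat.card P = 1 := pow_card_eq_one'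
  rw [h.card] at h1
  simpa using congrArg Subtype.val h1

theorem coprime_ord {v : G} (hv : v ∈ P) {m : ℕ} (hm : m.Coprime p) : m.Coprime (orderOf v) := by
  obtain ⟨k, hk⟩ := h.ord hv
  exact hk ▸ hm.pow_right k

/-- The values on a subsection as sums of roots of unity. -/
theorem dsec_roots {v : G} (hv : v ∈ P) (hv1 : v ≠ 1) (χ : IrrCharacter G) :
    ∃ (ι : Type u) (_ : Fintype ι) (k : ι → ℤ) (ω : ι → ℂ), (∀ i, ω i ^ orderOf v = 1) ∧
      ∀ m : ℕ, m.Coprime p → dsec p M P c (v ^ m) (χ : G → ℂ) = ∑ i, (k i : ℂ) * ω i ^ m := by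
  classical
  set Q := Subgroup.zpowers v with hQ
  set H := Subgroup.centralizer (Q : Set G) with hH
  haveI : Fintype H := Fintype.ofFinite _
  obtain ⟨φ, d, n, hf, -, -, -, hdeg, -⟩ := single_block h.mod (h.below_spec (h.zpowers_le hv)).1
    (h.below_props (h.zpowers_le hv) (zpowers_ne_bot hv1)).2.2.1
  choose k hk using fun θ : IrrCharacter H =>
    classInner_char_nat (isCharacter_restrict_irr H χ) (isCharacter_of_irr θ.2)
  have hexp : ∀ y : H, (χ : G → ℂ) y = ∑ θ, (k θ : ℂ) * (θ : H → ℂ) y := fun y => by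
    have := congrFun (eq_sum_irr (isClassFunction_char (isCharacter_restrict_irr H χ))) y
    simpa [hk] using this
  have hvH : v ∈ H := (isCentr_zpowers v).self_mem
  set z : H := ⟨v, hvH⟩ with hz
  have hzc : z ∈ Subgroup.center H :=
    Subgroup.mem_center_iff.2 fun g => Subtype.ext ((isCentr_zpowers v g).1 g.2)
  refine ⟨IrrCharacter H, inferInstance,
    fun θ => if θ ∈ (belowIdx p M P c Q).2 then (k θ : ℤ) * d θ else 0,
    fun θ => (θ : H → ℂ) z / (θ : H → ℂ) 1, fun θ => ?_, fun m hm => ?_⟩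
  · have := central_value_pow hzc θ
    rwa [hz, Subgroup.orderOf_mk] at this
  · have e : Subgroup.zpowers (v ^ m) = Q := zpowers_pow_of_coprime (h.coprime_ord hv hm)
    unfold dsec
    rw [e, cval_sext_expand (H := H) (a := belowIdx p M P c Q) (H.pow_mem hvH m) le_rfl
      (fun θ => (k θ : ℂ)) hexp]
    refine Finset.sum_congr rfl fun θ _ => ?_
    rw [show v ^ m = ((z ^ m : H) : G) from rfl,
      cval_central (Subgroup.pow_mem _ hzc m) le_rfl θ, cval_self h.mod hf hdeg θ,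
      central_omega_pow hzc]
    by_cases hθ : θ ∈ (belowIdx p M P c Q).2
    · rw [ind_of_mem hθ]; simp only [if_pos hθ]; push_cast; ring
    · rw [ind_of_notMem hθ]; simp only [if_neg hθ]; simp

theorem dval_roots {v : G} (hv : v ∈ P) (χ : IrrCharacter G) :
    ∃ (ι : Type u) (_ : Fintype ι) (k : ι → ℤ) (ω : ι → ℂ), (∀ i, ω i ^ orderOf v = 1) ∧
      ∀ m : ℕ, m.Coprime p → h.dval (v ^ m) χ = ∑ i, (k i : ℂ) * ω i ^ m := by
  rcases eq_or_ne v 1 with rfl | hv1
  · exact ⟨PUnit, inferInstance, fun _ => 1, fun _ => 1, fun _ => one_pow _,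
      fun m _ => by simp [h.dval_one]⟩
  · obtain ⟨ι, hι, k, ω, h1, h2⟩ := h.dsec_roots hv hv1 χ
    refine ⟨ι, hι, k, ω, h1, fun m hm => ?_⟩
    rw [h.dval_eq _, h2 m hm]
    intro he
    have := zpowers_pow_of_coprime (h.coprime_ord hv hm)
    rw [he, Subgroup.zpowers_one_eq_bot] at this
    exact zpowers_ne_bot hv1 this.symm

theorem dval_props {v : G} (hv : v ∈ P) (χ : IrrCharacter G) :
    h.dval v χ ∈ rootField (p ^ a) ∧ IsIntegral ℤ (h.dval v χ) := by
  obtain ⟨ι, hι, k, ω, hω, he⟩ := h.dval_roots hv χ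
  have h1 := he 1 (Nat.coprime_one_left p)
  rw [pow_one] at h1
  simp only [pow_one] at h1
  rw [h1]
  have hpa : ∀ i, ω i ^ p ^ a = 1 := fun i => by
    obtain ⟨q, hq⟩ := orderOf_dvd_of_pow_eq_one (h.pow_card hv)
    rw [hq, pow_mul, hω, one_pow]
  exact ⟨sum_mem fun i _ => mul_mem (intCast_mem _ _)
      (mem_rootField (pow_ne_zero _ h.prime.ne_zero) (hpa i)),
    IsIntegral.sum _ fun i _ => (isIntegral_intCast' _).mul
      (IsIntegral.of_pow (pow_pos h.prime.pos a) (by rw [hpa]; exact isIntegral_one))⟩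

theorem coprime_of_galois {m : ℕ} (hm : m.Coprime (p ^ a)) : m.Coprime p :=
  (Nat.coprime_pow_right_iff h.pos _ _).1 hm

/-- Galois automorphisms move the values to those at powers. -/
theorem dval_galois {v : G} (hv : v ∈ P) (χ : IrrCharacter G) {m : ℕ} (hm : m.Coprime p)
    (σ : rootField (p ^ a) →ₐ[ℚ] ℂ)
    (hσ : ∀ x : rootField (p ^ a), (x : ℂ) ^ p ^ a = 1 → σ x = (x : ℂ) ^ m) :
    σ ⟨h.dval v χ, (h.dval_props hv χ).1⟩ = h.dval (v ^ m) χ := by
  obtain ⟨ι, hι, k, ω, hω, he⟩ := h.dval_roots hv χ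
  have hpa : ∀ i, ω i ^ p ^ a = 1 := fun i => by
    obtain ⟨q, hq⟩ := orderOf_dvd_of_pow_eq_one (h.pow_card hv)
    rw [hq, pow_mul, hω, one_pow]
  have e : (⟨h.dval v χ, (h.dval_props hv χ).1⟩ : rootField (p ^ a)) =
      ∑ i, (k i : rootField (p ^ a)) *
        ⟨ω i, mem_rootField (pow_ne_zero _ h.prime.ne_zero) (hpa i)⟩ := by
    apply (rootField (p ^ a)).val.injective
    rw [map_sum]
    simp only [map_mul, map_intCast]
    show h.dval v χ = _
    have h1 := he 1 (Nat.coprime_one_left p)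
    simp only [pow_one] at h1
    exact h1
  rw [e, map_sum, he m hm]
  refine Finset.sum_congr rfl fun i _ => ?_
  rw [map_mul, map_intCast]
  exact congrArg _ (hσ ⟨ω i, _⟩ (hpa i))

/-- The nested function as a sum of roots of unity. -/
theorem nested_roots (hreg : ∀ χ ∈ B, ∀ χ' ∈ B, ∀ x : G, ¬ p ∣ orderOf x →
      (χ : G → ℂ) x = (χ' : G → ℂ) x) {u : G} (hu : u ∈ P) (hu1 : u ≠ 1) :
    ∃ m : G → ℤ, ∀ ψ ∈ B, ∃ (ι : Type u) (_ : Fintype ι) (k : ι → ℤ) (ω : ι → ℂ),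
      (∀ i, ω i ^ orderOf u = 1) ∧
      (∀ l : ℕ, l.Coprime p → h.dval (u ^ l) ψ = ∑ i, (k i : ℂ) * ω i ^ l) ∧
      ∀ l : ℕ, p ∣ l → (m (u ^ l) : ℂ) * h.dval (u ^ l) ψ = ∑ i, (k i : ℂ) * ω i ^ l := by
  classical
  set H := Subgroup.centralizer ((Subgroup.zpowers u : Subgroup G) : Set G) with hH
  haveI : Fintype H := Fintype.ofFinite _
  obtain ⟨n, hn⟩ := h.ord hu
  obtain ⟨φ, d, nn, hf, -, -, -, hdeg, -⟩ := single_block h.mod (h.below_spec (h.zpowers_le hu)).1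
    (h.below_props (h.zpowers_le hu) (zpowers_ne_bot hu1)).2.2.1
  obtain ⟨m, hm1, hm⟩ := h.exists_nested hreg n u hu hu1 hn
  refine ⟨m, fun ψ hψ => ?_⟩
  obtain ⟨F, -, hF⟩ := hm ψ hψ
  set z : H := ⟨u, (isCentr_zpowers u).self_mem⟩ with hz
  have hzc : z ∈ Subgroup.center H :=
    Subgroup.mem_center_iff.2 fun g => Subtype.ext ((isCentr_zpowers u g).1 g.2)
  have key : ∀ l : ℕ, (m (u ^ l) : ℂ) * h.dval (u ^ l) ψ =
      ∑ θ, ((if θ ∈ (belowIdx p M P c (Subgroup.zpowers u)).2 then F θ * (d θ : ℤ) else 0 : ℤ) :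
        ℂ) * ((θ : H → ℂ) z / (θ : H → ℂ) 1) ^ l := by
    intro l
    rw [← hF (u ^ l) (Subgroup.pow_mem _ (Subgroup.mem_zpowers u) l)]
    refine Finset.sum_congr rfl fun θ _ => ?_
    rw [show u ^ l = ((z ^ l : H) : G) from rfl,
      cval_central (Subgroup.pow_mem _ hzc l) le_rfl θ, cval_self h.mod hf hdeg θ,
      central_omega_pow hzc]
    by_cases hθ : θ ∈ (belowIdx p M P c (Subgroup.zpowers u)).2
    · rw [ind_of_mem hθ, if_pos hθ]; push_cast; ring
    · rw [ind_of_notMem hθ, if_neg hθ]; simp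
  refine ⟨IrrCharacter H, inferInstance, _, _, fun θ => ?_, fun l hl => ?_, fun l _ => key l⟩
  · have := central_value_pow hzc θ
    rwa [hz, Subgroup.orderOf_mk] at this
  · rw [← key l, hm1 _ (zpowers_pow_of_coprime (h.coprime_ord hu hl)), Int.cast_one, one_mul]

section Triv

variable (htriv : pairStab P c ≤ Subgroup.centralizer (P : Set G))

include htriv

theorem triv_basic :
    blockRank p B = 1 ∧ Nat.card B = p ^ a ∧
      (∀ χ ∈ B, charDegree (χ : G → ℂ) = bdeg B) ∧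
      ∀ χ ∈ B, ∀ χ' ∈ B, ∀ x : G, ¬ p ∣ orderOf x → (χ : G → ℂ) x = (χ' : G → ℂ) x := by
  classical
  haveI := h.cyc
  have hl : blockRank p B = 1 := rank_one_of_cyclic_triv h.mod h.max htriv
  have hk := card_le_sum_rankSum_triv h.mod h.max h.comm htriv
  rw [hl, h.card] at hk
  obtain ⟨φ, d, n, hf, -, -, hval, hdeg, hd0, -, hsq⟩ := single_block h.mod h.isBlock hl
  rw [h.defect] at hsq
  have hle : (bset B).card ≤ ∑ χ ∈ bset B, d χ ^ 2 := by
    rw [Finset.card_eq_sum_ones]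
    exact Finset.sum_le_sum fun χ hχ => Nat.one_le_pow _ _ (hd0 χ (mem_bset.1 hχ))
  have hpa : 1 ≤ p ^ a := Nat.one_le_pow _ _ h.prime.pos
  have hcard : Nat.card B = p ^ a := by
    have := card_bset B
    omega
  have hd : ∀ χ ∈ B, d χ = 1 := by
    intro χ hχ
    by_contra hne
    have h2 : (bset B).card < ∑ χ ∈ bset B, d χ ^ 2 := by
      rw [Finset.card_eq_sum_ones]
      refine Finset.sum_lt_sum (fun θ hθ => Nat.one_le_pow _ _ (hd0 θ (mem_bset.1 hθ)))
        ⟨χ, mem_bset.2 hχ, ?_⟩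
      have := hd0 χ hχ
      exact Nat.one_lt_pow two_ne_zero (by omega)
    rw [card_bset, hcard, hsq] at h2
    exact lt_irrefl _ h2
  refine ⟨hl, hcard, fun χ hχ => by rw [hdeg χ hχ, hd χ hχ, one_mul], fun χ hχ χ' hχ' x hx => ?_⟩
  rw [hval χ hχ x hx, hval χ' hχ' x hx, hd χ hχ, hd χ' hχ']

theorem triv_normSq {v : G} (hv : v ∈ P) {χ : IrrCharacter G} (hχ : χ ∈ B)
    (σ : rootField (p ^ a) →ₐ[ℚ] ℂ) :
    Complex.normSq (σ ⟨h.dval v χ, (h.dval_props hv χ).1⟩) = 1 := by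
  classical
  rcases eq_or_ne v 1 with rfl | hv1
  · have e : (⟨h.dval 1 χ, (h.dval_props hv χ).1⟩ : rootField (p ^ a)) = 1 :=
      Subtype.ext (h.dval_one χ)
    rw [e, map_one, map_one]
  haveI : NeZero (p ^ a) := ⟨pow_ne_zero _ h.prime.ne_zero⟩
  set z : IrrCharacter G → rootField (p ^ a) := fun θ => ⟨h.dval v θ, (h.dval_props hv θ).1⟩ with hz
  set N : ℝ := (Fintype.card (rootField (p ^ a) →ₐ[ℚ] ℂ) : ℝ) with hN
  have hcr : ∀ θ, conj (h.dval v θ) ∈ rootField (p ^ a) := fun θ =>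
    (conj_galois (NeZero.ne _) (rootField (p ^ a)).val (z θ).2).1
  have hsum : (∑ θ ∈ bset B, z θ * ⟨conj (h.dval v θ), hcr θ⟩ : rootField (p ^ a)) =
      ((p ^ a : ℕ) : rootField (p ^ a)) := by
    apply (rootField (p ^ a)).val.injective
    rw [map_sum, map_natCast]
    have h1 := h.dsec_orth hv hv1 hv hv1
    rw [if_pos ⟨1, one_mem _, by simp⟩] at h1
    push_cast
    rw [← h1]
    refine Finset.sum_congr rfl fun θ _ => ?_
    show h.dval v θ * conj (h.dval v θ) = _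
    rw [h.dval_eq hv1]
  have hσ : ∀ τ : rootField (p ^ a) →ₐ[ℚ] ℂ,
      ∑ θ ∈ bset B, Complex.normSq (τ (z θ)) = ((p ^ a : ℕ) : ℝ) := by
    intro τ
    have h1 := congrArg τ hsum
    simp only [map_sum, map_mul, map_natCast] at h1
    have e : ∀ θ, τ ⟨conj (h.dval v θ), hcr θ⟩ = conj (τ (z θ)) := fun θ =>
      (conj_galois (NeZero.ne _) τ (z θ).2).2
    simp only [e, Complex.mul_conj] at h1
    rw [← Complex.ofReal_sum] at h1
    exact_mod_cast h1
  have hne : ∀ θ ∈ B, z θ ≠ 0 := fun θ hθ h0 => by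
    have h1 := congrArg Subtype.val h0
    rw [hz] at h1
    simp only [h.dval_eq hv1, ZeroMemClass.coe_zero] at h1
    exact h.dsec_ne_zero hv hv1 hθ h1
  have hlow : ∀ θ ∈ bset B, N ≤ ∑ τ : rootField (p ^ a) →ₐ[ℚ] ℂ, Complex.normSq (τ (z θ)) :=
    fun θ hθ => card_le_sum_normSq (NeZero.ne _) _ (h.dval_props hv θ).2 (hne θ (mem_bset.1 hθ))
  refine normSq_eq_one_of_le (z χ) (h.dval_props hv χ).2 (hne χ hχ) ?_ σ
  by_contra hgt
  push Not at hgt
  have h2 := Finset.sum_lt_sum hlow ⟨χ, mem_bset.2 hχ, hgt⟩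
  rw [Finset.sum_comm, Finset.sum_congr rfl fun τ _ => hσ τ, Finset.sum_const, Finset.sum_const,
    Finset.card_univ, card_bset, (h.triv_basic htriv).2.1, nsmul_eq_mul, nsmul_eq_mul] at h2
  exact lt_irrefl _ (h2.trans_eq (mul_comm _ _))

theorem triv_mul_conj {v : G} (hv : v ∈ P) {χ : IrrCharacter G} (hχ : χ ∈ B) :
    h.dval v χ * conj (h.dval v χ) = 1 := by
  have h1 : Complex.normSq (h.dval v χ) = 1 := h.triv_normSq htriv hv hχ (rootField (p ^ a)).val
  rw [Complex.mul_conj, h1, Complex.ofReal_one]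

/-- One step: `d(v) ^ p = ± d(v ^ p)`, with a sign congruent to an integer independent of the
character. -/
theorem triv_step {v : G} (hv : v ∈ P) :
    ∃ K : ℤ, ¬ (p : ℤ) ∣ K ∧ ∀ χ ∈ B, ∃ g : ℂ, (g = 1 ∨ g = -1) ∧
      h.dval v χ ^ p = g * h.dval (v ^ p) χ ∧ IsIntegral ℤ ((g - K) / p) := by
  classical
  haveI : NeZero (p ^ a) := ⟨pow_ne_zero _ h.prime.ne_zero⟩
  rcases eq_or_ne v 1 with rfl | hv1
  · exact ⟨1, fun hd => h.prime.not_dvd_one (by exact_mod_cast hd), fun χ _ =>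
      ⟨1, Or.inl rfl, by simp [h.dval_one], by simp [isIntegral_zero]⟩⟩
  obtain ⟨m, hm⟩ := h.nested_roots (h.triv_basic htriv).2.2.2 hv hv1
  have hvp : v ^ p ∈ P := P.pow_mem hv p
  have key : ∀ χ ∈ B, ((h.dval v χ ^ p * conj (h.dval (v ^ p) χ) = 1 ∨
      h.dval v χ ^ p * conj (h.dval (v ^ p) χ) = -1) ∧ ¬ (p : ℤ) ∣ m (v ^ p)) ∧
      IsIntegral ℤ ((h.dval v χ ^ p * conj (h.dval (v ^ p) χ) - (m (v ^ p) : ℤ)) / p) := by
    intro χ hχ
    obtain ⟨ι, hι, k, ω, hω, hco, hdv⟩ := hm χ hχ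
    have hz := h.dval_props hv χ
    have hw := h.dval_props hvp χ
    obtain ⟨hcw, -⟩ := conj_galois (NeZero.ne (p ^ a)) (rootField (p ^ a)).val hw.1
    have hgi : IsIntegral ℤ (h.dval v χ ^ p * conj (h.dval (v ^ p) χ)) :=
      (hz.2.pow p).mul (hw.2.map ((Complex.conjAe.toAlgHom).restrictScalars ℤ))
    have hcong : IsIntegral ℤ
        ((h.dval v χ ^ p - (m (v ^ p) : ℂ) * h.dval (v ^ p) χ) / p) := by
      have h1 := hco 1 (Nat.coprime_one_left p)
      simp only [pow_one] at h1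
      rw [h1, hdv p dvd_rfl]
      refine isIntegral_sum_pow h.prime _ k ω fun i _ => ?_
      exact IsIntegral.of_pow (orderOf_pos v) (by rw [hω]; exact isIntegral_one)
    have hint : IsIntegral ℤ ((h.dval v χ ^ p * conj (h.dval (v ^ p) χ) - (m (v ^ p) : ℤ)) / p) := by
      have e : (h.dval v χ ^ p * conj (h.dval (v ^ p) χ) - (m (v ^ p) : ℤ)) / p =
          ((h.dval v χ ^ p - (m (v ^ p) : ℂ) * h.dval (v ^ p) χ) / p) *
            conj (h.dval (v ^ p) χ) := by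
        rw [div_mul_eq_mul_div, sub_mul, mul_assoc (m (v ^ p) : ℂ), h.triv_mul_conj htriv hvp hχ,
          mul_one]
      rw [e]
      exact hcong.mul (hw.2.map ((Complex.conjAe.toAlgHom).restrictScalars ℤ))
    set g : rootField (p ^ a) := ⟨h.dval v χ, hz.1⟩ ^ p * ⟨conj (h.dval (v ^ p) χ), hcw⟩ with hgdef
    have hgc : (g : ℂ) = h.dval v χ ^ p * conj (h.dval (v ^ p) χ) := by
      rw [hgdef]; push_cast; rfl
    refine ⟨?_, hint⟩
    have hs := sign_of_congr h.prime g (hgc ▸ hgi) (fun σ => ?_) _ (hgc ▸ hint)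
    · rwa [hgc] at hs
    · obtain ⟨hc', he⟩ := conj_galois (NeZero.ne (p ^ a)) σ hw.1
      rw [hgdef, map_mul, map_pow, show σ ⟨conj (h.dval (v ^ p) χ), hcw⟩ =
        conj (σ ⟨h.dval (v ^ p) χ, hw.1⟩) from he, map_mul, map_pow, Complex.normSq_conj,
        h.triv_normSq htriv hv hχ σ, h.triv_normSq htriv hvp hχ σ]
      simp
  obtain ⟨χ₀, hχ₀⟩ := block_nonempty h.mod h.isBlock
  refine ⟨m (v ^ p), (key χ₀ hχ₀).1.2, fun χ hχ =>
    ⟨_, (key χ hχ).1.1, ?_, (key χ hχ).2⟩⟩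
  rw [mul_assoc, mul_comm (conj (h.dval (v ^ p) χ)), h.triv_mul_conj htriv hvp hχ, mul_one]

/-- Up to a sign every value is a root of unity of order dividing the order of the element. -/
theorem triv_root {χ : IrrCharacter G} (hχ : χ ∈ B) : ∀ (n : ℕ) (v : G), v ∈ P →
    orderOf v = p ^ n → ∃ t : ℂ, (t = 1 ∨ t = -1) ∧ (t * h.dval v χ) ^ p ^ n = 1 ∧
      (p = 2 → h.dval v χ ^ p ^ n = 1) := by
  intro n
  induction n with
  | zero =>
    intro v _ hn
    obtain rfl : v = 1 := orderOf_eq_one_iff.1 (by rw [hn, pow_zero])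
    exact ⟨1, Or.inl rfl, by simp [h.dval_one], fun _ => by simp [h.dval_one]⟩
  | succ n ih =>
    intro v hv hn
    obtain ⟨K, -, hK⟩ := h.triv_step htriv hv
    obtain ⟨g, hg, hgz, -⟩ := hK χ hχ
    have hvp : orderOf (v ^ p) = p ^ n := by
      rw [orderOf_pow_of_dvd h.prime.ne_zero (by rw [hn, pow_succ']; exact dvd_mul_right _ _),
        hn, pow_succ', Nat.mul_div_cancel_left _ h.prime.pos]
    obtain ⟨t, ht, htw, htwo⟩ := ih _ (P.pow_mem hv p) hvp
    by_cases hp2 : p = 2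
    · subst hp2
      suffices h1 : h.dval v χ ^ 2 ^ (n + 1) = 1 from
        ⟨1, Or.inl rfl, by rw [one_mul]; exact h1, fun _ => h1⟩
      rcases Nat.eq_zero_or_pos n with rfl | hn0
      · have hv2 : orderOf v = 2 := by simpa using hn
        have hreal : conj (h.dval v χ) = h.dval v χ := by
          obtain ⟨ι, hι, k, ω, hω, he⟩ := h.dval_roots hv χ
          have e := he 1 (Nat.coprime_one_left _)
          simp only [pow_one] at e
          rw [e, map_sum]
          refine Finset.sum_congr rfl fun i _ => ?_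
          have h2 := hω i
          rw [hv2] at h2
          rcases sq_eq_one_iff.1 h2 with h3 | h3 <;> simp [h3]
        have h2 := h.triv_mul_conj htriv hv hχ
        rw [hreal] at h2
        simpa [sq] using h2
      · rw [pow_succ', pow_mul, hgz, mul_pow, htwo rfl, mul_one]
        have he : Even (2 ^ n) := (Nat.even_pow' hn0.ne').2 even_two
        rcases hg with rfl | rfl
        · exact one_pow _
        · exact he.neg_one_pow
    · have hodd : Odd p := h.prime.odd_of_ne_two hp2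
      refine ⟨t * g, ?_, ?_, fun e => absurd e hp2⟩
      · rcases ht with rfl | rfl <;> rcases hg with rfl | rfl <;> simp
      · rw [pow_succ', pow_mul, mul_pow (t * g), hgz]
        have e : (t * g) ^ p * (g * h.dval (v ^ p) χ) = t * h.dval (v ^ p) χ := by
          rcases ht with rfl | rfl <;> rcases hg with rfl | rfl <;>
            simp [hodd.neg_one_pow]
        rw [e, htw]

/-- The ratio of the values of two characters. -/
noncomputable def ratio (h : CycData p M B P c a) (χ χ₀ : IrrCharacter G) (v : G) : ℂ :=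
  h.dval v χ * conj (h.dval v χ₀)

theorem ratio_coprime {χ χ₀ : IrrCharacter G} (hχ : χ ∈ B) (hχ₀ : χ₀ ∈ B) {v : G} (hv : v ∈ P)
    (hpow : h.ratio χ χ₀ v ^ orderOf v = 1) {m : ℕ} (hm : m.Coprime p) :
    h.ratio χ χ₀ (v ^ m) = h.ratio χ χ₀ v ^ m := by
  haveI : NeZero (p ^ a) := ⟨pow_ne_zero _ h.prime.ne_zero⟩
  obtain ⟨σ, hσ⟩ := exists_galois_hom (NeZero.ne (p ^ a)) (hm.pow_right a)
  obtain ⟨hc, he⟩ := conj_galois (NeZero.ne (p ^ a)) σ (h.dval_props hv χ₀).1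
  have hpa : h.ratio χ χ₀ v ^ p ^ a = 1 := by
    obtain ⟨q, hq⟩ := orderOf_dvd_of_pow_eq_one (h.pow_card hv)
    rw [hq, pow_mul, hpow, one_pow]
  set x : rootField (p ^ a) := ⟨h.dval v χ, (h.dval_props hv χ).1⟩ *
    ⟨conj (h.dval v χ₀), hc⟩ with hx
  have hxc : (x : ℂ) = h.ratio χ χ₀ v := rfl
  have h1 := hσ x (by rw [hxc]; exact hpa)
  rw [hxc, hx, map_mul, h.dval_galois hv χ hm σ hσ, he, h.dval_galois hv χ₀ hm σ hσ] at h1
  exact h1

omit htriv in
theorem exists_pow_split {v : G} (hv : v ∈ P) (i : ℕ) :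
    v ^ i = 1 ∨ ∃ k m : ℕ, i = p ^ k * m ∧ m.Coprime p ∧ p ^ k < orderOf v := by
  rcases Nat.eq_zero_or_pos i with rfl | hi
  · exact Or.inl (pow_zero v)
  obtain ⟨k, m, hm, rfl⟩ := Nat.exists_eq_pow_mul_and_not_dvd hi.ne' p h.prime.ne_one
  obtain ⟨n, hn⟩ := h.ord hv
  by_cases hk : k < n
  · exact Or.inr ⟨k, m, rfl, (h.prime.coprime_iff_not_dvd.2 hm).symm,
      hn ▸ Nat.pow_lt_pow_right h.prime.one_lt hk⟩
  · left
    rw [pow_mul, orderOf_dvd_iff_pow_eq_one.1 (show orderOf v ∣ p ^ k by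
      rw [hn]; exact pow_dvd_pow p (not_lt.1 hk)), one_pow]

/-- From the `p`-th powers to all powers. -/
theorem ratio_pow_of {χ χ₀ : IrrCharacter G} (hχ : χ ∈ B) (hχ₀ : χ₀ ∈ B) {N : ℕ}
    (hp : ∀ v ∈ P, orderOf v ≤ N → h.ratio χ χ₀ (v ^ p) = h.ratio χ χ₀ v ^ p) :
    ∀ v ∈ P, orderOf v ≤ N → h.ratio χ χ₀ v ^ orderOf v = 1 ∧
      ∀ i : ℕ, h.ratio χ χ₀ (v ^ i) = h.ratio χ χ₀ v ^ i := by
  have h1 : h.ratio χ χ₀ 1 = 1 := by simp [ratio, h.dval_one]
  have hiter : ∀ v ∈ P, orderOf v ≤ N → ∀ k, h.ratio χ χ₀ (v ^ p ^ k) =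
      h.ratio χ χ₀ v ^ p ^ k := by
    intro v hv hN k
    induction k with
    | zero => simp
    | succ k ih =>
      rw [pow_succ, pow_mul, hp _ (P.pow_mem hv _)
        ((Nat.le_of_dvd (orderOf_pos v) (orderOf_pow_dvd _)).trans hN), ih, pow_mul]
  intro v hv hN
  have hroot : ∀ w ∈ P, orderOf w ≤ N → h.ratio χ χ₀ w ^ orderOf w = 1 := by
    intro w hw hwN
    obtain ⟨n, hn⟩ := h.ord hw
    rw [hn, ← hiter w hw hwN n, ← hn, pow_orderOf_eq_one, h1]
  refine ⟨hroot v hv hN, fun i => ?_⟩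
  rcases h.exists_pow_split hv i with hi | ⟨k, m, rfl, hm, -⟩
  · obtain ⟨q, rfl⟩ := orderOf_dvd_of_pow_eq_one hi
    rw [hi, h1, pow_mul, hroot v hv hN, one_pow]
  · rw [pow_mul, h.ratio_coprime htriv hχ hχ₀ (P.pow_mem hv _)
      (hroot _ (P.pow_mem hv _) ((Nat.le_of_dvd (orderOf_pos v) (orderOf_pow_dvd _)).trans hN)) hm,
      hiter v hv hN k, pow_mul]

/-- The signs of the steps do not depend on the character. -/
theorem ratio_step {χ χ₀ : IrrCharacter G} (hχ : χ ∈ B) (hχ₀ : χ₀ ∈ B) :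
    ∀ (n : ℕ) (v : G), v ∈ P → orderOf v = p ^ n →
      h.ratio χ χ₀ (v ^ p) = h.ratio χ χ₀ v ^ p := by
  classical
  intro n
  induction n using Nat.strong_induction_on with
  | _ n ih =>
  intro v hv hn
  obtain ⟨K, hKd, hK⟩ := h.triv_step htriv hv
  obtain ⟨g, hg, hgz, hgi⟩ := hK χ hχ
  obtain ⟨g₀, hg₀, hgz₀, hgi₀⟩ := hK χ₀ hχ₀
  have hr : h.ratio χ χ₀ v ^ p = g * g₀ * h.ratio χ χ₀ (v ^ p) := by
    have hc : conj g₀ = g₀ := by rcases hg₀ with rfl | rfl <;> simp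
    rw [ratio, ratio, mul_pow, ← map_pow, hgz, hgz₀, map_mul, hc]
    ring
  suffices hgg : g = g₀ by
    rw [hr, hgg]
    rcases hg₀ with rfl | rfl <;> simp
  by_cases hp2 : p = 2
  swap
  · refine sign_unique h.prime hp2 hg hg₀ ?_
    rw [show (g - g₀) / (p : ℂ) = (g - K) / p - (g₀ - K) / p by ring]
    exact hgi.sub hgi₀
  subst hp2
  rcases Nat.lt_or_ge n 2 with hn2 | hn2
  · -- elements of order at most two
    have hvp : v ^ 2 = 1 := by
      rw [← orderOf_dvd_iff_pow_eq_one, hn]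
      exact pow_dvd_pow 2 (show n ≤ 1 by omega) |>.trans (by simp)
    have key : ∀ θ ∈ B, h.dval v θ ^ 2 = 1 := fun θ hθ => by
      obtain ⟨t, -, -, ht⟩ := h.triv_root htriv hθ n v hv hn
      obtain ⟨q, hq⟩ := (pow_dvd_pow 2 (show n ≤ 1 by omega))
      rw [pow_one] at hq
      calc h.dval v θ ^ 2 = h.dval v θ ^ (2 ^ n * q) := congrArg (h.dval v θ ^ ·) hq
        _ = 1 := by rw [pow_mul, ht rfl, one_pow]
    rw [hvp, h.dval_one, mul_one, key χ hχ] at hgz
    rw [hvp, h.dval_one, mul_one, key χ₀ hχ₀] at hgz₀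
    rw [← hgz, ← hgz₀]
  obtain ⟨n, rfl⟩ : ∃ m, n = m + 2 := ⟨n - 2, by omega⟩
  by_contra hne
  have hgg : g * g₀ = -1 := by
    rcases hg with rfl | rfl <;> rcases hg₀ with rfl | rfl <;> simp_all
  set w := v ^ 2 with hw
  have hwP : w ∈ P := P.pow_mem hv 2
  have hwo : orderOf w = 2 ^ (n + 1) := by
    rw [hw, orderOf_pow_of_dvd two_ne_zero (by rw [hn, pow_succ']; exact dvd_mul_right _ _),
      hn, pow_succ', Nat.mul_div_cancel_left _ two_pos]
  have hroot : ∀ θ ∈ B, ∀ (k : ℕ) (x : G), x ∈ P → orderOf x = 2 ^ k →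
      h.dval x θ ^ 2 ^ k = 1 := fun θ hθ k x hx hxo => by
    obtain ⟨t, -, -, ht⟩ := h.triv_root htriv hθ k x hx hxo
    exact ht rfl
  have hodd : ∀ θ ∈ B, ∀ (k : ℕ) (x : G), x ∈ P → orderOf x = 2 ^ k → ∀ m : ℕ, m.Coprime 2 →
      h.dval (x ^ m) θ = h.dval x θ ^ m := by
    intro θ hθ k x hx hxo m hm
    haveI : NeZero (2 ^ a) := ⟨pow_ne_zero _ two_ne_zero⟩
    obtain ⟨σ, hσ⟩ := exists_galois_hom (NeZero.ne (2 ^ a)) (hm.pow_right a)
    rw [← h.dval_galois hx θ hm σ hσ]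
    refine hσ ⟨h.dval x θ, (h.dval_props hx θ).1⟩ ?_
    obtain ⟨q, hq⟩ := orderOf_dvd_of_pow_eq_one (h.pow_card hx)
    show h.dval x θ ^ 2 ^ a = 1
    rw [hq, pow_mul, hxo, hroot θ hθ k x hx hxo, one_pow]
  have hih : ∀ x ∈ P, orderOf x ≤ orderOf w → h.ratio χ χ₀ (x ^ 2) = h.ratio χ χ₀ x ^ 2 := by
    intro x hx hle
    obtain ⟨k, hk⟩ := h.ord hx
    refine ih k ?_ x hx hk
    have := (Nat.pow_le_pow_iff_right (le_refl 2)).1 (hk ▸ hwo ▸ hle)
    omega
  obtain ⟨-, hwpow⟩ := h.ratio_pow_of htriv hχ hχ₀ hih w hwP le_rfl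
  obtain ⟨m, hm⟩ := h.nested_roots (h.triv_basic htriv).2.2.2 hv (fun e => by
    rw [e, orderOf_one] at hn; exact (Nat.one_lt_two_pow (by omega)).ne hn)
  -- the Fourier coefficients
  have hT : ∀ θ ∈ B, IsIntegral ℤ ((∑ i ∈ Finset.range (2 ^ (n + 2)),
      (if Even i then (m (v ^ i) : ℂ) else 1) * h.dval (v ^ i) θ * conj (h.dval v θ) ^ i) /
      (2 ^ (n + 2) : ℂ)) := by
    intro θ hθ
    obtain ⟨ι, hι, k, ω, hω, hco, hdv⟩ := hm θ hθ
    have e : ∀ i, (if Even i then (m (v ^ i) : ℂ) else 1) * h.dval (v ^ i) θ *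
        conj (h.dval v θ) ^ i = ∑ j, (k j : ℂ) * (ω j * conj (h.dval v θ)) ^ i := by
      intro i
      by_cases hi : Even i
      · rw [if_pos hi, hdv i hi.two_dvd, Finset.sum_mul]
        exact Finset.sum_congr rfl fun j _ => by ring
      · rw [if_neg hi, one_mul, hco i (Nat.coprime_two_right.2 (Nat.not_even_iff_odd.1 hi)),
          Finset.sum_mul]
        exact Finset.sum_congr rfl fun j _ => by ring
    simp only [e]
    rw [Finset.sum_comm, Finset.sum_div]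
    refine IsIntegral.sum _ fun j _ => ?_
    rw [← Finset.mul_sum, mul_div_assoc]
    refine (isIntegral_intCast' _).mul ?_
    set x := ω j * conj (h.dval v θ) with hx
    have hxN : x ^ 2 ^ (n + 2) = 1 := by
      have h1 := hω j
      rw [hn] at h1
      rw [hx, mul_pow, h1, one_mul, ← map_pow, hroot θ hθ _ v hv hn, map_one]
    by_cases hx1 : x = 1
    · simp only [hx1, one_pow, Finset.sum_const, Finset.card_range, nsmul_eq_mul, mul_one]
      push_cast
      rw [div_self (pow_ne_zero _ two_ne_zero)]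
      exact isIntegral_one
    · rw [geom_sum_eq hx1, hxN, sub_self, zero_div, zero_div]
      exact isIntegral_zero
  have hterm : ∀ i : ℕ, (if Even i then (m (v ^ i) : ℂ) else 1) * h.dval (v ^ i) χ₀ *
        conj (h.dval v χ₀) ^ i -
      (if Even i then (m (v ^ i) : ℂ) else 1) * h.dval (v ^ i) χ * conj (h.dval v χ) ^ i =
      if i % 4 = 2 then 2 * (m w : ℂ) * g₀ else 0 := by
    intro i
    have hz : ∀ θ ∈ B, ∀ j : ℕ, h.dval v θ ^ j * conj (h.dval v θ) ^ j = 1 := fun θ hθ j => by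
      rw [← mul_pow, h.triv_mul_conj htriv hv hθ, one_pow]
    by_cases hi : Even i
    swap
    · have hcop : i.Coprime 2 := Nat.coprime_two_right.2 (Nat.not_even_iff_odd.1 hi)
      simp only [if_neg hi, one_mul, hodd χ hχ _ v hv hn i hcop, hodd χ₀ hχ₀ _ v hv hn i hcop,
        hz χ hχ, hz χ₀ hχ₀, sub_self]
      rw [if_neg (by rw [Nat.even_iff] at hi; omega)]
    obtain ⟨j, rfl⟩ := hi
    rw [if_pos ⟨j, rfl⟩, ← two_mul, pow_mul v, ← hw]
    have hchi : h.dval (w ^ j) χ = (g * g₀) ^ j * h.ratio χ χ₀ v ^ (2 * j) * h.dval (w ^ j) χ₀ := by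
      have h1 : h.ratio χ χ₀ (w ^ j) = ((g * g₀) * h.ratio χ χ₀ v ^ 2) ^ j := by
        rw [hwpow j, hr]
        congr 1
        rcases hg with rfl | rfl <;> rcases hg₀ with rfl | rfl <;> simp
      calc h.dval (w ^ j) χ = h.ratio χ χ₀ (w ^ j) * h.dval (w ^ j) χ₀ := by
            rw [ratio, mul_assoc, mul_comm (conj _),
              h.triv_mul_conj htriv (P.pow_mem hwP j) hχ₀, mul_one]
        _ = _ := by rw [h1, mul_pow, ← pow_mul]
    have hcz : h.ratio χ χ₀ v * conj (h.dval v χ) = conj (h.dval v χ₀) := by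
      rw [ratio, mul_comm, ← mul_assoc, mul_comm (conj _), h.triv_mul_conj htriv hv hχ, one_mul]
    have hprod : h.dval (w ^ j) χ * conj (h.dval v χ) ^ (2 * j) =
        (-1) ^ j * (h.dval (w ^ j) χ₀ * conj (h.dval v χ₀) ^ (2 * j)) := by
      rw [hchi, ← hgg, ← hcz, mul_pow (h.ratio χ χ₀ v)]
      ring
    rw [mul_assoc, mul_assoc, hprod]
    rcases Nat.even_or_odd j with hj | hj
    · rw [hj.neg_one_pow, one_mul, sub_self, if_neg (by rw [Nat.even_iff] at hj; omega)]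
    · rw [hj.neg_one_pow, if_pos (by rw [Nat.odd_iff] at hj; omega)]
      have hcop : j.Coprime 2 := Nat.coprime_two_right.2 hj
      have hval : h.dval (w ^ j) χ₀ * conj (h.dval v χ₀) ^ (2 * j) = g₀ := by
        rw [hodd χ₀ hχ₀ _ w hwP hwo j hcop, pow_mul, ← mul_pow]
        have h2 : h.dval w χ₀ * conj (h.dval v χ₀) ^ 2 = g₀ := by
          have h3 : h.dval w χ₀ = g₀ * h.dval v χ₀ ^ 2 := by
            rw [hgz₀, ← mul_assoc]
            rcases hg₀ with rfl | rfl <;> simp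
          rw [h3, mul_assoc, hz χ₀ hχ₀ 2, mul_one]
        rw [h2]
        rcases hg₀ with rfl | rfl
        · exact one_pow _
        · exact hj.neg_one_pow
      have hmj : (m (w ^ j) : ℂ) = m w := by
        obtain ⟨ι, hι, k, ω, hω, hco, hdv⟩ := hm χ₀ hχ₀
        haveI : NeZero (2 ^ a) := ⟨pow_ne_zero _ two_ne_zero⟩
        obtain ⟨σ, hσ⟩ := exists_galois_hom (NeZero.ne (2 ^ a)) (hcop.pow_right a)
        have hωa : ∀ i, ω i ^ 2 ^ a = 1 := fun i => by
          obtain ⟨q, hq⟩ := orderOf_dvd_of_pow_eq_one (h.pow_card hv)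
          rw [hq, pow_mul, hω, one_pow]
        have e1 := hdv 2 dvd_rfl
        rw [← hw] at e1
        have e2 := hdv (2 * j) (dvd_mul_right 2 j)
        rw [pow_mul, ← hw] at e2
        have e3 : ((m w : rootField (2 ^ a)) * ⟨h.dval w χ₀, (h.dval_props hwP χ₀).1⟩) =
            ∑ i, (k i : rootField (2 ^ a)) * ⟨ω i ^ 2, mem_rootField (NeZero.ne _) (by
              rw [← pow_mul, mul_comm, pow_mul, hωa, one_pow])⟩ := by
          apply (rootField (2 ^ a)).val.injective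
          simp only [map_mul, map_intCast, map_sum]
          exact e1
        have e4 := congrArg σ e3
        simp only [map_mul, map_intCast, map_sum, h.dval_galois hwP χ₀ hcop σ hσ] at e4
        rw [Finset.sum_congr rfl fun i _ => by
          rw [hσ ⟨ω i ^ 2, _⟩ (by
            show (ω i ^ 2) ^ 2 ^ a = 1
            rw [← pow_mul, mul_comm, pow_mul, hωa, one_pow]), ← pow_mul]] at e4
        refine mul_right_cancel₀ (b := h.dval (w ^ j) χ₀) ?_ (e2.trans e4.symm)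
        intro h0
        have := h.triv_mul_conj htriv (P.pow_mem hwP j) hχ₀
        rw [h0, zero_mul] at this
        exact zero_ne_one this
      rw [hval, hmj]
      ring
  have hdiff := (hT χ₀ hχ₀).sub (hT χ hχ)
  rw [← sub_div, ← Finset.sum_sub_distrib, Finset.sum_congr rfl fun i _ => hterm i,
    ← Finset.sum_filter, Finset.sum_const, nsmul_eq_mul] at hdiff
  have hcnt : ((Finset.range (2 ^ (n + 2))).filter fun i => i % 4 = 2).card = 2 ^ n := by
    rw [show (Finset.range (2 ^ (n + 2))).filter (fun i => i % 4 = 2) =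
      (Finset.range (2 ^ n)).image (fun i => 4 * i + 2) by
        ext i
        simp only [Finset.mem_filter, Finset.mem_range, Finset.mem_image]
        rw [show 2 ^ (n + 2) = 4 * 2 ^ n by ring]
        constructor
        · rintro ⟨h1, h2⟩; exact ⟨i / 4, by omega, by omega⟩
        · rintro ⟨j, h1, rfl⟩; omega,
      Finset.card_image_of_injective _ (fun x y hxy => by simpa using hxy), Finset.card_range]
  rw [hcnt] at hdiff
  -- `m w / 2` would be integral
  obtain ⟨K', hK'd, hK'⟩ : ∃ K' : ℤ, ¬ ((2 : ℕ) : ℤ) ∣ K' ∧ K' = m w := by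
    refine ⟨m w, ?_, rfl⟩
    obtain ⟨ι, hι, k, ω, hω, hco, hdv⟩ := hm χ₀ hχ₀
    intro hd
    obtain ⟨q, hq⟩ := hd
    have h1 := hco 1 (Nat.coprime_one_left _)
    simp only [pow_one] at h1
    have hc := isIntegral_sum_pow Nat.prime_two Finset.univ k ω fun i _ =>
      IsIntegral.of_pow (orderOf_pos v) (by rw [hω]; exact isIntegral_one)
    rw [← h1, ← hdv 2 dvd_rfl, ← hw, hq, hgz₀] at hc
    push_cast at hc
    have h2 : IsIntegral ℤ (g₀ * h.dval w χ₀ / 2) := by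
      have := hc.add ((isIntegral_intCast' q).mul (h.dval_props hwP χ₀).2)
      ring_nf at this ⊢
      exact this
    have hcc : IsIntegral ℤ (conj (h.dval w χ₀)) :=
      (h.dval_props hwP χ₀).2.map ((Complex.conjAe.toAlgHom).restrictScalars ℤ)
    have hg0i : IsIntegral ℤ g₀ := by
      rcases hg₀ with rfl | rfl
      · exact isIntegral_one
      · exact isIntegral_one.neg
    have h3 := (h2.mul hcc).mul hg0i
    have e : g₀ * h.dval w χ₀ / 2 * conj (h.dval w χ₀) * g₀ = ((1 / 2 : ℚ) : ℂ) := by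
      rw [show g₀ * h.dval w χ₀ / 2 * conj (h.dval w χ₀) * g₀ =
        (g₀ * g₀) * (h.dval w χ₀ * conj (h.dval w χ₀)) / 2 by ring,
        h.triv_mul_conj htriv hwP hχ₀]
      rcases hg₀ with rfl | rfl <;> push_cast <;> ring
    obtain ⟨z, hz⟩ := exists_int_of_isIntegral_ratCast (e ▸ h3)
    have hz2 : (1 : ℤ) = 2 * z := by
      have h4 : (1 : ℚ) = 2 * z := by rw [← hz]; norm_num
      exact_mod_cast h4
    omega
  apply hK'd
  have e : (((2 ^ n : ℕ) : ℂ) * (2 * (m w : ℂ) * g₀)) / (2 ^ (n + 2) : ℂ) * g₀ =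
      (((m w : ℚ) / 2 : ℚ) : ℂ) := by
    push_cast
    rcases hg₀ with rfl | rfl <;> field_simp <;> ring
  have hg0i : IsIntegral ℤ g₀ := by
    rcases hg₀ with rfl | rfl
    · exact isIntegral_one
    · exact isIntegral_one.neg
  obtain ⟨z, hz⟩ := exists_int_of_isIntegral_ratCast (e ▸ hdiff.mul hg0i)
  refine ⟨z, ?_⟩
  have h4 : (m w : ℚ) = 2 * z := by rw [← hz]; ring
  rw [hK']
  exact_mod_cast h4

theorem ratio_pow {χ χ₀ : IrrCharacter G} (hχ : χ ∈ B) (hχ₀ : χ₀ ∈ B) {v : G} (hv : v ∈ P) :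
    h.ratio χ χ₀ v ^ orderOf v = 1 ∧ ∀ i : ℕ, h.ratio χ χ₀ (v ^ i) = h.ratio χ χ₀ v ^ i :=
  h.ratio_pow_of htriv hχ hχ₀ (N := orderOf v) (fun w hw _ => by
    obtain ⟨k, hk⟩ := h.ord hw
    exact h.ratio_step htriv hχ hχ₀ k w hw hk) v hv le_rfl

omit htriv in
theorem exists_gen : ∃ u₀ : G, u₀ ∈ P ∧ orderOf u₀ = p ^ a ∧ ∀ v ∈ P, ∃ i : ℕ, u₀ ^ i = v := by
  haveI := h.cyc
  obtain ⟨u₀, rfl⟩ := Subgroup.isCyclic_iff_exists_zpowers_eq_top P |>.1 h.cyc
  refine ⟨u₀, Subgroup.mem_zpowers _, ?_, fun v hv => ?_⟩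
  · rw [← Nat.card_zpowers, h.card]
  · obtain ⟨i, hi⟩ := Submonoid.mem_powers_iff _ _ |>.1 (mem_powers_iff_mem_zpowers.2 hv)
    exact ⟨i, hi⟩

/-- One reference character: its values are those of a linear character up to rational signs. -/
theorem exists_lambda {χ : IrrCharacter G} (hχ : χ ∈ B) :
    ∃ u₀ : G, ∃ lam : ℂ, u₀ ∈ P ∧ orderOf u₀ = p ^ a ∧ (∀ v ∈ P, ∃ i : ℕ, u₀ ^ i = v) ∧
      lam ^ p ^ a = 1 ∧ ∀ i : ℕ, ∃ ε : ℂ, (ε = 1 ∨ ε = -1) ∧ h.dval (u₀ ^ i) χ = ε * lam ^ i := by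
  classical
  obtain ⟨u₀, hu₀, hord, hgen⟩ := h.exists_gen
  obtain ⟨t, ht, htz, -⟩ := h.triv_root htriv hχ a u₀ hu₀ hord
  refine ⟨u₀, t * h.dval u₀ χ, hu₀, hord, hgen, htz, ?_⟩
  have hk : ∀ k : ℕ, ∃ ε : ℂ, (ε = 1 ∨ ε = -1) ∧
      h.dval (u₀ ^ p ^ k) χ = ε * (t * h.dval u₀ χ) ^ p ^ k := by
    intro k
    induction k with
    | zero =>
      refine ⟨t, ht, ?_⟩
      rw [pow_zero, pow_one, pow_one, ← mul_assoc]
      rcases ht with rfl | rfl <;> simp
    | succ k ih =>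
      obtain ⟨ε, hε, he⟩ := ih
      obtain ⟨K, -, hK⟩ := h.triv_step htriv (v := u₀ ^ p ^ k) (P.pow_mem hu₀ _)
      obtain ⟨g, hg, hgz, -⟩ := hK χ hχ
      refine ⟨g * ε ^ p, ?_, ?_⟩
      · rcases hg with rfl | rfl <;> rcases hε with rfl | rfl <;>
          rcases Nat.even_or_odd p with hp | hp <;> simp [hp.neg_one_pow]
      · have h1 : h.dval ((u₀ ^ p ^ k) ^ p) χ = g * h.dval (u₀ ^ p ^ k) χ ^ p := by
          rw [hgz, ← mul_assoc]
          rcases hg with rfl | rfl <;> simp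
        rw [pow_succ, pow_mul, h1, he, mul_pow, ← mul_assoc, pow_mul]
  intro i
  rcases h.exists_pow_split hu₀ i with hi | ⟨k, m, rfl, hm, -⟩
  · obtain ⟨q, rfl⟩ := orderOf_dvd_of_pow_eq_one hi
    refine ⟨1, Or.inl rfl, ?_⟩
    rw [hi, h.dval_one, hord, pow_mul, htz, one_pow, mul_one]
  · obtain ⟨ε, hε, he⟩ := hk k
    refine ⟨ε, hε, ?_⟩
    haveI : NeZero (p ^ a) := ⟨pow_ne_zero _ h.prime.ne_zero⟩
    obtain ⟨σ, hσ⟩ := exists_galois_hom (NeZero.ne (p ^ a)) (hm.pow_right a)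
    rw [pow_mul, ← h.dval_galois (P.pow_mem hu₀ _) χ hm σ hσ, pow_mul]
    have hL : ((t * h.dval u₀ χ) ^ p ^ k) ^ p ^ a = 1 := by
      rw [← pow_mul, mul_comm (p ^ k), pow_mul, htz, one_pow]
    set x : rootField (p ^ a) := ⟨_, mem_rootField (NeZero.ne _) hL⟩ with hx
    rcases hε with rfl | rfl
    · rw [show (⟨h.dval (u₀ ^ p ^ k) χ, (h.dval_props (P.pow_mem hu₀ _) χ).1⟩ :
        rootField (p ^ a)) = x from Subtype.ext (he.trans (one_mul _)), hσ x hL, one_mul]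
    · rw [show (⟨h.dval (u₀ ^ p ^ k) χ, (h.dval_props (P.pow_mem hu₀ _) χ).1⟩ :
        rootField (p ^ a)) = -x from Subtype.ext (he.trans (neg_one_mul _)), map_neg, hσ x hL,
        neg_one_mul]

/-- With trivial inertial index the values on the subsections are, up to a sign depending on the
subgroup only, the linear characters of the defect group, each once. -/
theorem linear_values :
    ∃ (s : G → ℤ) (Λ : IrrCharacter G → (P →* ℂˣ)),
      (∀ v, s v = 1 ∨ s v = -1) ∧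
      (∀ v ∈ P, ∀ w ∈ P, Subgroup.zpowers v = Subgroup.zpowers w → s v = s w) ∧
      (∀ χ ∈ B, ∀ v : P, (v : G) ≠ 1 →
        dsec p M P c (v : G) (χ : G → ℂ) = (s v : ℂ) * ((Λ χ v : ℂˣ) : ℂ)) ∧
      Set.BijOn Λ B Set.univ := by
  classical
  obtain ⟨χ₀, hχ₀⟩ := block_nonempty h.mod h.isBlock
  obtain ⟨u₀, lam, hu₀, hord, hgen, hlam, hsign⟩ := h.exists_lambda htriv hχ₀
  have hN0 : p ^ a ≠ 0 := pow_ne_zero _ h.prime.ne_zero
  set g₀ : P := ⟨u₀, hu₀⟩ with hg₀
  have hg0gen : ∀ x : P, x ∈ Subgroup.zpowers g₀ := fun x => by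
    obtain ⟨i, hi⟩ := hgen x x.2
    exact Subgroup.mem_zpowers_iff.2 ⟨i, Subtype.ext (by simpa using hi)⟩
  set z : IrrCharacter G → ℂ := fun χ => if χ ∈ B then h.ratio χ χ₀ u₀ * lam else 1 with hz
  have hzpow : ∀ χ, z χ ^ p ^ a = 1 := fun χ => by
    simp only [hz]
    split_ifs with hχ
    · rw [mul_pow, hlam, mul_one, ← hord, (h.ratio_pow htriv hχ hχ₀ hu₀).1]
    · exact one_pow _
  set Z : IrrCharacter G → ℂˣ := fun χ => Units.ofPowEqOne (z χ) (p ^ a) (hzpow χ) hN0 with hZ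
  have hZord : ∀ χ, orderOf (Z χ) ∣ orderOf g₀ := fun χ => by
    rw [hg₀, Subgroup.orderOf_mk, hord]
    exact orderOf_dvd_of_pow_eq_one (Units.pow_ofPowEqOne _ _)
  set Λ : IrrCharacter G → (P →* ℂˣ) := fun χ => monoidHomOfForallMemZpowers hg0gen (hZord χ)
    with hΛ
  have hΛval : ∀ χ ∈ B, ∀ i : ℕ, ((Λ χ (g₀ ^ i) : ℂˣ) : ℂ) = h.ratio χ χ₀ (u₀ ^ i) * lam ^ i := by
    intro χ hχ i
    rw [map_pow, Units.val_pow_eq_pow_val, hΛ]
    simp only [monoidHomOfForallMemZpowers_apply_gen, hZ, Units.val_ofPowEqOne, hz, if_pos hχ]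
    rw [mul_pow, (h.ratio_pow htriv hχ hχ₀ hu₀).2 i]
  have hr1 : ∀ v ∈ P, h.ratio χ₀ χ₀ v = 1 := fun v hv => h.triv_mul_conj htriv hv hχ₀
  set s : G → ℤ := fun v => if hv : v ∈ P then
    (if h.dval v χ₀ = ((Λ χ₀ ⟨v, hv⟩ : ℂˣ) : ℂ) then 1 else -1) else 1 with hs
  have hsval : ∀ v (hv : v ∈ P), (s v : ℂ) * ((Λ χ₀ ⟨v, hv⟩ : ℂˣ) : ℂ) = h.dval v χ₀ := by
    intro v hv
    obtain ⟨i, rfl⟩ := hgen v hv
    obtain ⟨ε, hε, he⟩ := hsign i
    have e : (⟨u₀ ^ i, hv⟩ : P) = g₀ ^ i := Subtype.ext (by simp [hg₀])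
    simp only [hs, dif_pos hv]
    rw [e, hΛval χ₀ hχ₀ i, hr1 _ hv, one_mul, he]
    split_ifs with h0
    · rw [h0, Int.cast_one, one_mul]
    · rcases hε with rfl | rfl
      · exact absurd (one_mul _) h0
      · simp
  have hs1 : ∀ v, s v = 1 ∨ s v = -1 := fun v => by
    simp only [hs]; split_ifs <;> simp
  have hvals : ∀ χ ∈ B, ∀ v : P, (v : G) ≠ 1 →
      dsec p M P c (v : G) (χ : G → ℂ) = (s v : ℂ) * ((Λ χ v : ℂˣ) : ℂ) := by
    intro χ hχ v hv1
    obtain ⟨v, hv⟩ := v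
    obtain ⟨i, rfl⟩ := hgen v hv
    have e : (⟨u₀ ^ i, hv⟩ : P) = g₀ ^ i := Subtype.ext (by simp [hg₀])
    rw [← h.dval_eq hv1, e, hΛval χ hχ i]
    have h1 := hsval (u₀ ^ i) hv
    rw [e, hΛval χ₀ hχ₀ i, hr1 _ hv, one_mul] at h1
    show _ = (s (u₀ ^ i) : ℂ) * _
    calc h.dval (u₀ ^ i) χ = h.ratio χ χ₀ (u₀ ^ i) * h.dval (u₀ ^ i) χ₀ := by
          rw [ratio, mul_assoc, mul_comm (conj _), h.triv_mul_conj htriv hv hχ₀, mul_one]
      _ = _ := by rw [← h1]; ring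
  refine ⟨s, Λ, hs1, fun v hv w hw hzp => ?_, hvals, ?_⟩
  · rcases eq_or_ne v 1 with rfl | hv1
    · rw [Subgroup.zpowers_one_eq_bot, eq_comm, Subgroup.zpowers_eq_bot] at hzp
      rw [hzp]
    obtain ⟨m, hm⟩ : ∃ m : ℕ, v ^ m = w := by
      have := mem_powers_iff_mem_zpowers.2 (hzp ▸ Subgroup.mem_zpowers w : w ∈ Subgroup.zpowers v)
      exact Submonoid.mem_powers_iff _ _ |>.1 this
    have hcop : m.Coprime p := by
      refine (h.prime.coprime_iff_not_dvd.2 fun hd => ?_).symm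
      obtain ⟨n, hn⟩ := h.ord hv
      rcases n with _ | n
      · exact hv1 (orderOf_eq_one_iff.1 (by rw [hn, pow_zero]))
      have h1 : orderOf w = orderOf v := by rw [← Nat.card_zpowers, ← hzp, Nat.card_zpowers]
      obtain ⟨q, rfl⟩ := hd
      have h2 : w ^ p ^ n = 1 := by
        rw [← hm, ← pow_mul, show p * q * p ^ n = p ^ (n + 1) * q by ring, pow_mul, ← hn,
          pow_orderOf_eq_one, one_pow]
      have h3 := orderOf_dvd_of_pow_eq_one h2
      rw [h1, hn] at h3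
      exact absurd ((Nat.pow_dvd_pow_iff_le_right h.prime.one_lt).1 h3) (by omega)
    haveI : NeZero (p ^ a) := ⟨hN0⟩
    obtain ⟨σ, hσ⟩ := exists_galois_hom (NeZero.ne (p ^ a)) (hcop.pow_right a)
    have hL : ((Λ χ₀ ⟨v, hv⟩ : ℂˣ) : ℂ) ^ p ^ a = 1 := by
      rw [← Units.val_pow_eq_pow_val, ← map_pow,
        show (⟨v, hv⟩ : P) ^ p ^ a = 1 from Subtype.ext (by simpa using h.pow_card hv), map_one,
        Units.val_one]
    set x : rootField (p ^ a) := ⟨_, mem_rootField (NeZero.ne _) hL⟩ with hx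
    have e1 : (⟨h.dval v χ₀, (h.dval_props hv χ₀).1⟩ : rootField (p ^ a)) =
        (s v : rootField (p ^ a)) * x := by
      apply (rootField (p ^ a)).val.injective
      rw [map_mul, map_intCast]
      exact (hsval v hv).symm
    have e2 := h.dval_galois hv χ₀ hcop σ hσ
    rw [e1, map_mul, map_intCast, hσ x hL] at e2
    have e3 := hsval w hw
    have ew : (⟨w, hw⟩ : P) = (⟨v, hv⟩ : P) ^ m := Subtype.ext (by simp [hm])
    rw [ew, map_pow, Units.val_pow_eq_pow_val, ← hm, ← e2] at e3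
    rw [← hm]
    exact_mod_cast (mul_right_cancel₀ (pow_ne_zero m (Units.ne_zero _)) e3).symm
  · haveI : Fintype P := Fintype.ofFinite _
    obtain ⟨-, hcard, hdeg, -⟩ := h.triv_basic htriv
    have hcol : ∀ v : P, ∑ χ ∈ bset B, ((Λ χ v : ℂˣ) : ℂ) =
        if v = 1 then ((p ^ a : ℕ) : ℂ) else 0 := by
      intro v
      split_ifs with hv1
      · subst hv1
        simp only [map_one, Units.val_one, Finset.sum_const, card_bset, hcard, nsmul_eq_mul, mul_one]
      · have hv1' : (v : G) ≠ 1 := fun e => hv1 (Subtype.ext e)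
        have h1 := h.dsec_regular v.2 hv1' (s := 1)
          (by rw [orderOf_one]; exact h.prime.not_dvd_one)
        rw [Finset.sum_congr rfl fun χ hχ => by
          rw [hvals χ (mem_bset.1 hχ) v hv1', ← irr_charDegree_cast χ, hdeg χ (mem_bset.1 hχ)],
          ← Finset.sum_mul, ← Finset.mul_sum, mul_eq_zero, mul_eq_zero] at h1
        rcases h1 with (h1 | h1) | h1
        · rcases hs1 v with h2 | h2 <;> rw [h2] at h1 <;> simp at h1
        · exact h1
        · have := hdeg χ₀ hχ₀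
          rw [Nat.cast_eq_zero.1 h1] at this
          exact absurd this (irr_charDegree_pos χ₀).ne'
    have hfib : ∀ θ : P →* ℂˣ, ((bset B).filter fun χ => Λ χ = θ).card = 1 := by
      intro θ
      have hsum : ∑ v : P, (∑ χ ∈ bset B, ((Λ χ v : ℂˣ) : ℂ)) * ((θ⁻¹ v : ℂˣ) : ℂ) =
          ((p ^ a : ℕ) : ℂ) := by
        rw [Finset.sum_eq_single 1 (fun v _ hv => by rw [hcol v, if_neg hv, zero_mul]) (by simp),
          hcol 1, if_pos rfl, map_one, Units.val_one, mul_one]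
      have hin : ∀ χ, ∑ v : P, ((Λ χ v : ℂˣ) : ℂ) * ((θ⁻¹ v : ℂˣ) : ℂ) =
          if Λ χ = θ then ((p ^ a : ℕ) : ℂ) else 0 := by
        intro χ
        split_ifs with he
        · rw [he]
          simp [← Nat.card_eq_fintype_card, h.card]
        · have hne : (Units.coeHom ℂ).comp (Λ χ * θ⁻¹) ≠ 1 := fun h1 => he (by
            refine MonoidHom.ext fun v => ?_
            have h2 := DFunLike.congr_fun h1 v
            simp only [MonoidHom.comp_apply, MonoidHom.mul_apply, MonoidHom.inv_apply,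
              Units.coeHom_apply, MonoidHom.one_apply, Units.val_eq_one] at h2
            exact mul_inv_eq_one.1 h2)
          have := sum_hom_units_eq_zero _ hne
          simpa using this
      simp only [Finset.sum_mul] at hsum
      rw [Finset.sum_comm, Finset.sum_congr rfl fun χ _ => hin χ, ← Finset.sum_filter,
        Finset.sum_const, nsmul_eq_mul] at hsum
      have hne : ((p ^ a : ℕ) : ℂ) ≠ 0 := Nat.cast_ne_zero.2 hN0
      exact_mod_cast mul_right_cancel₀ hne (hsum.trans (one_mul _).symm)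
    refine ⟨fun _ _ => Set.mem_univ _, fun χ hχ χ' hχ' he => ?_, fun θ _ => ?_⟩
    · exact Finset.card_le_one.1 (hfib (Λ χ)).le χ (Finset.mem_filter.2 ⟨mem_bset.2 hχ, rfl⟩) χ'
        (Finset.mem_filter.2 ⟨mem_bset.2 hχ', he.symm⟩)
    · obtain ⟨χ, hχ⟩ := Finset.card_pos.1 (by rw [hfib θ]; exact one_pos)
      exact ⟨χ, mem_bset.1 (Finset.mem_filter.1 hχ).1, (Finset.mem_filter.1 hχ).2⟩

end Triv

end CycData

end CfsgLib.Blocks
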