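import Cfsg.Agent.Lib.Blocks.CyclicValue
import Cfsg.Agent.Lib.Blocks.CyclicDiv
import Cfsg.Agent.Lib.Blocks.CyclicPairs

/-!
# The subsections of a block with cyclic defect group
-/

namespace CfsgLib.Blocks

open Cfsg CfsgLib.CharTheory
open scoped ComplexConjugate

set_option linter.unusedVariables false
set_option linter.unusedSimpArgs false
set_option linter.style.haveILetI false
set_option linter.unusedSectionVars false

universe u

variable {p : ℕ} {M : Ideal AlgInt} {G : Type u} [Group G] [Fintype G]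

/-- A pair computed inside an overgroup of the centralizer gives induction inside it. -/
theorem inducedIn_of_pairOf (hM : IsPModular p M) {H : Subgroup G} [Fintype H] {P : Subgroup G}
    (hP : IsPGroup p P) {c : Set (IrrCharacter (Subgroup.centralizer (P : Set G)))}
    (hc : IsPBlock M c) {f : Set (IrrCharacter H)} {a : BrauerPairIdx H}
    {ha : Subgroup.centralizer ((a.1.map H.subtype : Subgroup G) : Set G) ≤ H}
    (hup : upIdx a ha = ⟨P, c⟩) (hpair : IsBrauerPairOf p M f a.1 a.2) :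
    IsInducedBlockIn M H (Subgroup.centralizer (P : Set G)) c f := by
  classical
  obtain ⟨R, g⟩ := a
  obtain ⟨h1, h2⟩ := Sigma.mk.inj_iff.1 hup
  subst h1
  have h3 := eq_of_heq h2
  subst h3
  haveI := Fintype.ofFinite (Subgroup.centralizer (R : Set H))
  have hind := (induced_centralizer_iff hM hpair.1.1).2 hpair
  refine ⟨hc, hpair.2.1, ?_⟩
  rintro _ ⟨ξ, hξ, rfl⟩ χ hχ t
  have key : inducedCentralCharIn H
      (Subgroup.centralizer ((R.map H.subtype : Subgroup G) : Set G))
      (irrPull (upE R ha) ξ : _ → ℂ) (t : G) =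
      inducedCentralChar (Subgroup.centralizer (R : Set H)) (ξ : _ → ℂ) t := by
    simp only [inducedCentralCharIn, inducedCentralChar]
    refine finsum_mem_eq_of_bijOn (upE R ha) ⟨?_, (upE R ha).injective.injOn, ?_⟩ fun k _ => by
      simp only [irrPull_apply, map_one]
    · rintro k ⟨x, hx⟩
      refine isConj_iff.2 ⟨x⁻¹, Subtype.ext ?_⟩
      show (x : G)⁻¹ * (t : G) * (x : G)⁻¹⁻¹ = (k : G)
      rw [← hx]; group
    · intro k' hk'
      obtain ⟨y, hy⟩ := isConj_iff.1 (show IsConj t (k' : H) from hk')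
      refine ⟨(upE R ha).symm k', ⟨y⁻¹, ?_⟩, (upE R ha).apply_symm_apply k'⟩
      show (y : G)⁻¹ * ((k' : H) : G) * (y : G)⁻¹⁻¹ = (t : G)
      rw [← hy]
      push_cast
      group
  rw [key]
  exact hind.2.2 ξ hξ χ hχ t

/-- A block with a cyclic defect group of order `p ^ a > 1`, with a maximal pair. -/
structure CycData (p : ℕ) (M : Ideal AlgInt) (B : Set (IrrCharacter G)) (P : Subgroup G)
    (c : Set (IrrCharacter (Subgroup.centralizer (P : Set G)))) (a : ℕ) : Prop where
  mod : IsPModular p M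
  max : IsMaximalBrauerPair p M B P c
  cyc : IsCyclic P
  card : Nat.card P = p ^ a
  pos : 1 ≤ a

/-- The pair below `(P, c)` at `Q`. -/
noncomputable abbrev belowIdx (p : ℕ) (M : Ideal AlgInt) (P : Subgroup G)
    (c : Set (IrrCharacter (Subgroup.centralizer (P : Set G)))) (Q : Subgroup G) : BrauerPairIdx G :=
  ⟨Q, Classical.epsilon fun f => IsPBlock M f ∧ SubpairLE p M Q f P c⟩

theorem belowIdx_fst (p : ℕ) (M : Ideal AlgInt) (P : Subgroup G)
    (c : Set (IrrCharacter (Subgroup.centralizer (P : Set G)))) (Q : Subgroup G) :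
    (belowIdx p M P c Q).1 = Q := rfl

/-- The value of `F` on the subsection of `u` below `(P, c)`. -/
noncomputable def dsec (p : ℕ) (M : Ideal AlgInt) (P : Subgroup G)
    (c : Set (IrrCharacter (Subgroup.centralizer (P : Set G)))) (u : G) (F : G → ℂ) : ℂ :=
  cval u (belowIdx p M P c (Subgroup.zpowers u)) F

namespace CycData

variable {B : Set (IrrCharacter G)} {P : Subgroup G}
  {c : Set (IrrCharacter (Subgroup.centralizer (P : Set G)))} {a : ℕ} (h : CycData p M B P c a)

include h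

theorem prime : p.Prime := h.mod.1

theorem isP : IsPGroup p P := h.max.1.1.1

theorem isBlock : IsPBlock M B := h.max.1.2.1

theorem isBlockC : IsPBlock M c := h.max.1.1.2

theorem comm : ∀ x ∈ P, ∀ y ∈ P, x * y = y * x := by
  haveI := h.cyc
  haveI : IsMulCommutative P := IsCyclic.isMulCommutative
  exact fun x hx y hy =>
    congrArg Subtype.val ((IsMulCommutative.is_comm (M := P)).comm ⟨x, hx⟩ ⟨y, hy⟩)

theorem isDefect : IsDefectGroup p M B P := maximal_isDefectGroup h.mod h.max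

theorem defect : blockDefect p B = a :=
  (Nat.pow_right_injective h.prime.two_le
    (h.card.symm.trans (card_defectGroup h.mod h.isBlock h.isDefect))).symm

theorem below_spec {Q : Subgroup G} (hQ : Q ≤ P) :
    IsPBlock M (belowIdx p M P c Q).2 ∧ SubpairLE p M Q (belowIdx p M P c Q).2 P c := by
  obtain ⟨f, hf, -⟩ := existsUnique_subpair h.mod h.isP h.isBlockC Q hQ
  exact Classical.epsilon_spec (p := fun f => IsPBlock M f ∧ SubpairLE p M Q f P c) ⟨f, hf⟩

theorem below_eq {a' : BrauerPairIdx G} (hb : IsPBlock M a'.2)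
    (hle : Relation.ReflTransGen (NormalSubpairRel p M) a' ⟨P, c⟩) :
    a' = belowIdx p M P c a'.1 := by
  obtain ⟨Q, f⟩ := a'
  obtain ⟨h1, h2⟩ := h.below_spec (Q := Q) (subpairLE_le hle)
  exact congrArg (Sigma.mk Q) (subpair_unique h.mod h.isP h.isBlockC hb h1 hle h2)

theorem le_centralizer {Q : Subgroup G} (hQ : Q ≤ P) : P ≤ Subgroup.centralizer (Q : Set G) :=
  fun x hx q hq => h.comm q (hQ hq) x hx

theorem inducedIn_below {Q : Subgroup G} (hQ : Q ≤ P)
    [Fintype (Subgroup.centralizer (Q : Set G))] :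
    IsInducedBlockIn M (Subgroup.centralizer (Q : Set G)) (Subgroup.centralizer (P : Set G)) c
      (belowIdx p M P c Q).2 := by
  classical
  obtain ⟨x, hx, hup, hxb⟩ := exists_upIdx (H := Subgroup.centralizer (Q : Set G))
    (h.le_centralizer hQ) (centralizer_anti hQ) h.isBlockC
  have hRp : IsPGroup p x.1 := by
    have hmap : x.1.map (Subgroup.centralizer (Q : Set G)).subtype = P := le_map_subtype_of_eq hup
    exact h.isP.of_equiv ((Subgroup.equivMapOfInjective x.1 _ Subtype.coe_injective).trans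
      (MulEquiv.subgroupCongr hmap)).symm
  obtain ⟨f', hf'⟩ := exists_block_of_pair h.mod hRp hxb
  obtain ⟨h1, h2⟩ := h.below_spec hQ
  have hstep := normalSubpair_of_pairOf h.mod hQ h.isP (h.le_centralizer hQ) hf'.2.1 h.isBlockC
    hup hf'
  have e : f' = (belowIdx p M P c Q).2 := subpair_unique h.mod h.isP h.isBlockC hf'.2.1 h1
    (Relation.ReflTransGen.single hstep) h2
  have := inducedIn_of_pairOf h.mod h.isP h.isBlockC hup hf'
  rwa [e] at this

theorem induced_below {Q : Subgroup G} (hQ : Q ≤ P)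
    [Fintype (Subgroup.centralizer (Q : Set G))] :
    IsInducedBlock M (Subgroup.centralizer (Q : Set G)) (belowIdx p M P c Q).2 B :=
  (induced_centralizer_iff h.mod (h.isP.to_le hQ)).2
    ((pairOf_subpair_iff h.mod (a := ⟨Q, (belowIdx p M P c Q).2⟩) (b := ⟨P, c⟩)
      (h.below_spec hQ).2 B).2 h.max.1)

theorem defect_below {Q : Subgroup G} (hQ : Q ≤ P) :
    blockDefect p (belowIdx p M P c Q).2 = a := by
  obtain ⟨hf, hle⟩ := h.below_spec hQ
  have e1 := card_centP_le h.mod h.isP hQ hf h.isBlockC hle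
  rw [inf_eq_left.2 (h.le_centralizer hQ), h.card] at e1
  obtain ⟨w, -, e2⟩ := exists_conj_centP h.mod h.max hf hle
  exact Nat.pow_right_injective h.prime.two_le
    (le_antisymm (e2.le.trans ((Subgroup.card_le_of_le inf_le_left).trans h.card.le)) e1)

theorem below_props {Q : Subgroup G} (hQ : Q ≤ P) (hQ1 : Q ≠ ⊥) :
    pairStab Q (belowIdx p M P c Q).2 = pairStab P c ⊔ Subgroup.centralizer (Q : Set G) ∧
      (Subgroup.centralizer (Q : Set G)).relIndex (pairStab Q (belowIdx p M P c Q).2) =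
        (Subgroup.centralizer (P : Set G)).relIndex (pairStab P c) ∧
      blockRank p (belowIdx p M P c Q).2 = 1 ∧
      IsNilpotentBlock p M (belowIdx p M P c Q).2 := by
  haveI := h.cyc
  haveI := Fintype.ofFinite (Subgroup.centralizer (Q : Set G))
  exact cyclic_subpair h.mod h.max hQ hQ1 (h.inducedIn_below hQ)

theorem ord {u : G} (hu : u ∈ P) : ∃ k : ℕ, orderOf u = p ^ k := by
  haveI : Fact p.Prime := ⟨h.prime⟩
  obtain ⟨k, hk⟩ := IsPGroup.iff_orderOf.1 h.isP ⟨u, hu⟩
  exact ⟨k, by rw [← hk, Subgroup.orderOf_mk]⟩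

omit h in
theorem zpowers_ne_bot {u : G} (hu : u ≠ 1) : Subgroup.zpowers u ≠ ⊥ := fun hb =>
  hu (Subgroup.zpowers_eq_bot.1 hb)

theorem zpowers_le {u : G} (hu : u ∈ P) : Subgroup.zpowers u ≤ P := Subgroup.zpowers_le.2 hu

theorem stab_le_normalizer {Q : Subgroup G} (hQ : Q ≤ P) :
    pairStab P c ≤ Subgroup.normalizer (Q : Set G) := by
  haveI := h.cyc
  exact fun t ht => normalizes_of_cyclic hQ ((mem_pairStab t).1 ht).1

theorem mem_stab_conj {t u : G} (ht : t ∈ pairStab P c) (hu : u ∈ P) : t * u * t⁻¹ ∈ P :=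
  (Subgroup.mem_normalizer_iff.1 ((mem_pairStab t).1 ht).1 u).1 hu

theorem zpowers_conj_stab {t u : G} (ht : t ∈ pairStab P c) (hu : u ∈ P) :
    Subgroup.zpowers (t * u * t⁻¹) = Subgroup.zpowers u := by
  refine Subgroup.eq_of_le_of_card_ge (Subgroup.zpowers_le.2 ?_) ?_
  · exact (Subgroup.mem_normalizer_iff.1 (h.stab_le_normalizer (h.zpowers_le hu) ht) u).1
      (Subgroup.mem_zpowers u)
  · rw [Nat.card_zpowers, Nat.card_zpowers, conj_orderOf]

theorem conjIdx_below {t : G} (ht : t ∈ pairStab P c) {Q : Subgroup G} (hQ : Q ≤ P) :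
    conjIdx t (belowIdx p M P c Q) = belowIdx p M P c Q := by
  rcases eq_or_ne Q ⊥ with rfl | hQ1
  · have hfix : conjIdx t (⟨P, c⟩ : BrauerPairIdx G) = ⟨P, c⟩ := ht
    obtain ⟨h1, h2⟩ := h.below_spec hQ
    have h3 := subpair_conj h.mod
      (show Relation.ReflTransGen (NormalSubpairRel p M) (belowIdx p M P c ⊥) ⟨P, c⟩ from h2) t
    rw [hfix] at h3
    have h4 := h.below_eq (a' := conjIdx t (belowIdx p M P c ⊥)) (isPBlock_conjBlock h1 t) h3
    rw [show (conjIdx t (belowIdx p M P c ⊥)).1 = ⊥ from Subgroup.map_bot _] at h4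
    exact h4
  · have hmem : t ∈ pairStab Q (belowIdx p M P c Q).2 := by
      rw [(h.below_props hQ hQ1).1]
      exact Subgroup.mem_sup_left ht
    exact hmem

theorem dsec_conj {t u : G} (ht : t ∈ pairStab P c) (hu : u ∈ P) (χ : IrrCharacter G) :
    dsec p M P c (t * u * t⁻¹) (χ : G → ℂ) = dsec p M P c u (χ : G → ℂ) := by
  unfold dsec
  conv_rhs => rw [← cval_conj χ t u, h.conjIdx_below ht (h.zpowers_le hu)]
  rw [h.zpowers_conj_stab ht hu]

theorem centr (u : G) :
    IsCentr u (Subgroup.centralizer ((Subgroup.zpowers u : Subgroup G) : Set G)) :=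
  isCentr_zpowers u

theorem dsec_off {u : G} (hu : u ∈ P) {χ : IrrCharacter G} (hχ : χ ∉ B) :
    dsec p M P c u (χ : G → ℂ) = 0 := by
  haveI := Fintype.ofFinite (Subgroup.centralizer ((Subgroup.zpowers u : Subgroup G) : Set G))
  exact cval_off h.mod (isCentr_zpowers u) (h.ord hu) (h.induced_below (h.zpowers_le hu)) hχ

theorem secPair_eq {u : G} (hu : u ∈ P) (hu1 : u ≠ 1)
    [Fintype (Subgroup.centralizer ((Subgroup.zpowers u : Subgroup G) : Set G))] (F F' : G → ℂ) :
    secPair p u (belowIdx p M P c (Subgroup.zpowers u)).2 F F' =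
      dsec p M P c u F * conj (dsec p M P c u F') :=
  secPair_eq_cval h.mod (h.below_spec (h.zpowers_le hu)).1
    (h.below_props (h.zpowers_le hu) (zpowers_ne_bot hu1)).2.2.1 u F F'

theorem eq_of_card {Q Q' : Subgroup G} (hQ : Q ≤ P) (hQ' : Q' ≤ P)
    (hcard : Nat.card Q = Nat.card Q') : Q = Q' := by
  classical
  haveI := h.cyc
  haveI : Fintype P := Fintype.ofFinite _
  have key : ∀ R : Subgroup G, R ≤ P → Nat.card R = Nat.card Q →
      Finset.univ.filter (fun x : P => (x : G) ∈ R) =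
        Finset.univ.filter (fun x : P => x ^ Nat.card Q = 1) := by
    intro R hR hc
    refine Finset.eq_of_subset_of_card_le (fun x hx => ?_) ?_
    · refine Finset.mem_filter.2 ⟨Finset.mem_univ _, Subtype.ext ?_⟩
      have h1 : (⟨(x : G), (Finset.mem_filter.1 hx).2⟩ : R) ^ Nat.card Q = 1 := by
        rw [← hc]; exact pow_card_eq_one'
      have h2 := congrArg Subtype.val h1
      rw [SubmonoidClass.coe_pow] at h2 ⊢
      exact h2
    · refine (IsCyclic.card_pow_eq_one_le Nat.card_pos).trans (le_of_eq ?_)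
      rw [← hc, Nat.card_congr (Subgroup.subgroupOfEquivOfLe hR).toEquiv.symm,
        Nat.card_eq_fintype_card, Fintype.card_subtype]
      rfl
  have h1 := (key Q hQ rfl).trans (key Q' hQ' hcard.symm).symm
  ext x
  constructor
  · intro hx
    have h2 : (⟨x, hQ hx⟩ : P) ∈ Finset.univ.filter (fun x : P => (x : G) ∈ Q) :=
      Finset.mem_filter.2 ⟨Finset.mem_univ _, hx⟩
    rw [h1] at h2
    exact (Finset.mem_filter.1 h2).2
  · intro hx
    have h2 : (⟨x, hQ' hx⟩ : P) ∈ Finset.univ.filter (fun x : P => (x : G) ∈ Q') :=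
      Finset.mem_filter.2 ⟨Finset.mem_univ _, hx⟩
    rw [← h1] at h2
    exact (Finset.mem_filter.1 h2).2

theorem conj_related_iff {u v : G} (hu : u ∈ P) (hu1 : u ≠ 1) (hv : v ∈ P) :
    (∃ g : G, g * u * g⁻¹ = v ∧ conjIdx g (belowIdx p M P c (Subgroup.zpowers u)) =
      belowIdx p M P c (Subgroup.zpowers v)) ↔ ∃ t ∈ pairStab P c, t * u * t⁻¹ = v := by
  constructor
  · rintro ⟨g, hg, hidx⟩
    have hQ : Subgroup.zpowers v = Subgroup.zpowers u :=
      h.eq_of_card (h.zpowers_le hv) (h.zpowers_le hu)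
        (by rw [Nat.card_zpowers, Nat.card_zpowers, ← hg, conj_orderOf])
    rw [hQ] at hidx
    have hmem : g ∈ pairStab (Subgroup.zpowers u) (belowIdx p M P c (Subgroup.zpowers u)).2 := hidx
    rw [(h.below_props (h.zpowers_le hu) (zpowers_ne_bot hu1)).1] at hmem
    have hle : pairStab P c ≤ Subgroup.normalizer
        (Subgroup.centralizer ((Subgroup.zpowers u : Subgroup G) : Set G) : Set G) :=
      (h.stab_le_normalizer (h.zpowers_le hu)).trans (normalizer_le_normalizer_cent _)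
    rw [← SetLike.mem_coe, Subgroup.coe_mul_of_left_le_normalizer_right _ _ hle] at hmem
    obtain ⟨t, ht, y, hy, rfl⟩ := hmem
    refine ⟨t, ht, ?_⟩
    rw [← hg]
    have hc : Commute y u := (isCentr_zpowers u y).1 hy
    calc t * u * t⁻¹ = t * (u * y) * y⁻¹ * t⁻¹ := by group
      _ = t * (y * u) * y⁻¹ * t⁻¹ := by rw [hc.eq]
      _ = t * y * u * (t * y)⁻¹ := by group
  · rintro ⟨t, ht, rfl⟩
    exact ⟨t, rfl, by rw [h.conjIdx_below ht (h.zpowers_le hu), h.zpowers_conj_stab ht hu]⟩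

/-- The values on two subsections are orthogonal, with squares summing to `p ^ a`. -/
theorem dsec_orth {u v : G} (hu : u ∈ P) (hu1 : u ≠ 1) (hv : v ∈ P) (hv1 : v ≠ 1)
    [Decidable (∃ t ∈ pairStab P c, t * u * t⁻¹ = v)] :
    ∑ χ ∈ bset B, dsec p M P c u (χ : G → ℂ) * conj (dsec p M P c v (χ : G → ℂ)) =
      if ∃ t ∈ pairStab P c, t * u * t⁻¹ = v then (p : ℂ) ^ a else 0 := by
  classical
  haveI : ∀ Q : Subgroup G, Fintype (Subgroup.centralizer (Q : Set G)) :=
    fun Q => Fintype.ofFinite _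
  have hsum : ∑ χ ∈ bset B, dsec p M P c u (χ : G → ℂ) * conj (dsec p M P c v (χ : G → ℂ)) =
      ∑ χ : IrrCharacter G, dsec p M P c u (χ : G → ℂ) * conj (dsec p M P c v (χ : G → ℂ)) :=
    Finset.sum_subset (Finset.subset_univ _) fun χ _ hχ => by
      rw [h.dsec_off hu (fun h' => hχ (mem_bset.2 h')), zero_mul]
  have hb := fun {w : G} (hw : w ∈ P) => (h.below_spec (h.zpowers_le hw)).1
  split_ifs with hr
  · obtain ⟨t, ht, rfl⟩ := hr
    simp only [h.dsec_conj ht hu]
    rw [← h.defect_below (h.zpowers_le hu)]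
    exact sum_cval_sq h.mod (isCentr_zpowers u) (h.ord hu) (h.induced_below (h.zpowers_le hu))
      (h.below_props (h.zpowers_le hu) (zpowers_ne_bot hu1)).2.2.1
  · rw [hsum]
    by_cases hc : IsConj u v
    · obtain ⟨g, rfl⟩ := isConj_iff.1 hc
      set a' := conjIdx g⁻¹ (belowIdx p M P c (Subgroup.zpowers (g * u * g⁻¹))) with ha'
      have hgu : g⁻¹ * (g * u * g⁻¹) * g⁻¹⁻¹ = u := by group
      have e : ∀ χ : IrrCharacter G, dsec p M P c (g * u * g⁻¹) (χ : G → ℂ) =
          cval u a' (χ : G → ℂ) := fun χ => by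
        have e2 := cval_conj χ g⁻¹ (g * u * g⁻¹) (belowIdx p M P c (Subgroup.zpowers (g * u * g⁻¹)))
        rw [hgu] at e2
        exact e2.symm
      simp only [e]
      have hblk : IsPBlock M a'.2 := isPBlock_conjBlock (hb hv) g⁻¹
      have h1 : a'.1 = Subgroup.zpowers u := by
        show (Subgroup.zpowers (g * u * g⁻¹)).map (MulAut.conj g⁻¹).toMonoidHom = _
        rw [zpowers_conj, hgu]
      have hback : conjIdx g a' = belowIdx p M P c (Subgroup.zpowers (g * u * g⁻¹)) := by
        rw [ha', conjIdx_mul, mul_inv_cancel, conjIdx_one]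
      obtain ⟨Q, b'⟩ := a'
      change Q = Subgroup.zpowers u at h1
      subst h1
      refine sum_cval_disjoint h.mod (isCentr_zpowers u) (h.ord hu) (hb hu) hblk fun heq => hr ?_
      refine (h.conj_related_iff hu hu1 hv).1 ⟨g, rfl, ?_⟩
      rw [← hback, ← heq]
    · exact sum_cval_ne h.mod (hb hv) (isCentr_zpowers u) (isCentr_zpowers v) (h.ord hu)
        (h.ord hv) (hb hu) hc

/-- The values are orthogonal to the values at regular elements. -/
theorem dsec_regular {u : G} (hu : u ∈ P) (hu1 : u ≠ 1) {s : G} (hs : ¬ p ∣ orderOf s) :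
    ∑ χ ∈ bset B, dsec p M P c u (χ : G → ℂ) * (χ : G → ℂ) s = 0 := by
  classical
  haveI : ∀ Q : Subgroup G, Fintype (Subgroup.centralizer (Q : Set G)) :=
    fun Q => Fintype.ofFinite _
  rw [Finset.sum_subset (Finset.subset_univ _) fun χ _ hχ => by
    rw [h.dsec_off hu (fun h' => hχ (mem_bset.2 h')), zero_mul]]
  have e : ∀ χ : IrrCharacter G, (χ : G → ℂ) s = conj ((χ : G → ℂ) s⁻¹) := fun χ => by
    rw [irr_conjInv, inv_inv]
  simp only [e]
  refine sum_cval_mul_conj_irr h.mod (h.below_spec (h.zpowers_le hu)).1 fun y hy hcj => ?_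
  obtain ⟨g, hg⟩ := isConj_iff.1 hcj
  have hcm : Commute (g * u * g⁻¹) (g * (y : G) * g⁻¹) :=
    ((isCentr_zpowers u _).1 y.2).symm.map (MulAut.conj g).toMonoidHom
  obtain ⟨e1, -⟩ := pPart_unique h.prime hcm (Commute.one_left s⁻¹)
    ((h.ord hu).imp fun k hk => by rw [conj_orderOf, hk]) ⟨0, orderOf_one⟩
    (by rw [conj_orderOf, Subgroup.orderOf_coe]; exact hy) (by rwa [orderOf_inv])
    (by rw [one_mul, ← hg]; group)
  exact hu1 (conj_eq_one_iff.1 e1)

/-- No value vanishes; a unit value means height zero. -/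
theorem dsec_ne_zero {u : G} (hu : u ∈ P) (hu1 : u ≠ 1) {ψ : IrrCharacter G} (hψ : ψ ∈ B) :
    dsec p M P c u (ψ : G → ℂ) ≠ 0 := by
  haveI := Fintype.ofFinite (Subgroup.centralizer ((Subgroup.zpowers u : Subgroup G) : Set G))
  obtain ⟨χ, hχ, h0⟩ := exists_height_zero h.mod h.isBlock
  obtain ⟨w, hw, -, hw0⟩ := secPair_div h.mod (isCentr_zpowers u) (h.ord hu)
    (h.induced_below (h.zpowers_le hu))
    ((h.defect_below (h.zpowers_le hu)).trans h.defect.symm) hχ hψ h0
  intro h1
  rw [h.secPair_eq hu hu1, h1, map_zero, mul_zero] at hw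
  exact mul_ne_zero (pow_ne_zero _ (Nat.cast_ne_zero.2 h.prime.ne_zero)) hw0 hw.symm

/-- The values at a singular element are combinations of the values on the subsections. -/
theorem singular_expansion_div {x : G} (hx : p ∣ orderOf x) :
    ∃ w : G → ℂ, (∀ v, IsIntegral ℤ (w v)) ∧
      (∀ v, MemLocalRing M (w v * (p : ℂ) ^ a /
        (Nat.card (Subgroup.centralizer ({x} : Set G)) : ℂ))) ∧ ∀ χ ∈ B, (χ : G → ℂ) x =
      ∑ v ∈ (Set.toFinite {v : G | v ∈ P ∧ v ≠ 1}).toFinset,
        w v * dsec p M P c v (χ : G → ℂ) := by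
  classical
  haveI : ∀ Q : Subgroup G, Fintype (Subgroup.centralizer (Q : Set G)) :=
    fun Q => Fintype.ofFinite _
  obtain ⟨z, s, hzs, hcz, hz, hs, hzx, hsx⟩ := exists_pPart h.prime x
  have hz1 : z ≠ 1 := by
    rintro rfl
    rw [one_mul] at hzs
    exact hs (hzs ▸ hx)
  set H := Subgroup.centralizer ((Subgroup.zpowers z : Subgroup G) : Set G) with hH
  let S : H := ⟨s, (isCentr_zpowers z s).2 hcz.symm⟩
  have hS : ¬ p ∣ orderOf S := by rw [← Subgroup.orderOf_coe]; exact hs
  set V := (Set.toFinite {v : G | v ∈ P ∧ v ≠ 1}).toFinset with hV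
  have key : ∀ b : Set (IrrCharacter H), IsPBlock M b → b ⊆ overBlocks M H B →
      ∃ (v : G) (k : ℂ), v ∈ V ∧ IsIntegral ℤ k ∧ MemLocalRing M (k * (p : ℂ) ^ a /
        (Nat.card (Subgroup.centralizer ({x} : Set G)) : ℂ)) ∧ ∀ χ ∈ B,
        blockPart b (sec z H (χ : G → ℂ)) S = k * dsec p M P c v (χ : G → ℂ) := by
    intro b hb hbo
    obtain ⟨ψ, hψ⟩ := block_nonempty h.mod hb
    have hind : IsInducedBlock M H b B := by
      have h4 : IsInducedBlock M H (blockOf M (ψ : H → ℂ)) B := hbo hψ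
      rw [← eq_blockOf h.mod hb hψ] at h4
      exact h4
    have hpair := (induced_centralizer_iff h.mod (isPGroup_zpowers h.prime hz)).1 hind
    obtain ⟨g, hg⟩ := exists_conj_subpair h.mod (a := ⟨Subgroup.zpowers z, b⟩) (m := ⟨P, c⟩)
      h.max hpair
    set v := g * z * g⁻¹ with hv
    have hz' : (Subgroup.zpowers z).map (MulAut.conj g).toMonoidHom = Subgroup.zpowers v :=
      zpowers_conj g z
    have hvP : v ∈ P := by
      have h1 := subpairLE_le hg
      rw [show (conjIdx g (⟨Subgroup.zpowers z, b⟩ : BrauerPairIdx G)).1 = Subgroup.zpowers v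
        from hz'] at h1
      exact h1 (Subgroup.mem_zpowers v)
    have hv1 : v ≠ 1 := fun h1 => hz1 (conj_eq_one_iff.1 h1)
    have heq' := h.below_eq (isPBlock_conjBlock hb g) hg
    set Q' := (Subgroup.zpowers z).map (MulAut.conj g).toMonoidHom with hQ'
    change (⟨Q', conjBlock _ g b⟩ : BrauerPairIdx G) = belowIdx p M P c Q' at heq'
    have hQP : Q' ≤ P := hz' ▸ h.zpowers_le hvP
    have hb2 : conjBlock _ g b = (belowIdx p M P c Q').2 :=
      eq_of_heq (Sigma.mk.inj_iff.1 heq').2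
    obtain ⟨φ, d, n, hf, -, hφn, hval, hdeg, -, -, hsq⟩ := single_block h.mod (h.below_spec hQP).1
      (h.below_props hQP (hz' ▸ zpowers_ne_bot hv1)).2.2.1
    set S' : Subgroup.centralizer (Q' : Set G) := (centE (Subgroup.zpowers z) g).symm S with hS'
    have hS'reg : ¬ p ∣ orderOf S' := by
      rw [← Subgroup.orderOf_coe]
      show ¬ p ∣ orderOf (g * (S : G) * g⁻¹)
      rw [conj_orderOf]; exact hs
    have hint : IsIntegral ℤ (φ S') := by
      rw [hφn S' hS'reg]
      exact IsIntegral.sum _ fun ψ _ =>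
        (isIntegral_intCast' _).mul (isIntegral_of_char (isCharacter_of_irr ψ.2) _)
    have hdiv : MemLocalRing M (φ S' * (p : ℂ) ^ a /
        (Nat.card (Subgroup.centralizer ({x} : Set G)) : ℂ)) := by
      have h3 := single_block_div h.mod (h.below_spec hQP).1 hf hval hdeg hsq hS'reg
      rw [h.defect_below hQP, card_cent_equiv (centE (Subgroup.zpowers z) g) S', hS',
        MulEquiv.apply_symm_apply,
        card_cent_section (isCentr_zpowers z) S.2 (hzs.symm ▸ hzx) (hzs.symm ▸ hsx), hzs] at h3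
      exact h3
    refine ⟨v, φ S', (Set.Finite.mem_toFinset _).2 ⟨hvP, hv1⟩, hint, hdiv, fun χ hχ => ?_⟩
    have h2 := blockPart_conj χ g z (Subgroup.zpowers z) b S'
    rw [hS', MulEquiv.apply_symm_apply] at h2
    rw [← h2, hb2, ← hS']
    refine (blockPart_eq_cval h.mod hf hdeg hval _ _ ?_).trans ?_
    · rw [← Subgroup.orderOf_coe]
      show ¬ p ∣ orderOf (g * (S : G) * g⁻¹)
      rw [conj_orderOf]; exact hs
    · rw [mul_comm]
      refine congrArg (φ S' * ·) ?_
      show cval v (belowIdx p M P c Q') (χ : G → ℂ) = _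
      rw [hz']
      rfl
  choose! vv kk hmem hint hdiv hkk using key
  set K := Finset.univ.filter (fun b : Set (IrrCharacter H) => IsPBlock M b ∧ b ⊆ overBlocks M H B)
    with hK
  refine ⟨fun v => ∑ b ∈ K.filter (fun b => vv b = v), kk b, fun v => IsIntegral.sum _ fun b hb =>
    hint b (Finset.mem_filter.1 (Finset.mem_filter.1 hb).1).2.1 (Finset.mem_filter.1 (Finset.mem_filter.1 hb).1).2.2,
    fun v => by
      rw [Finset.sum_mul, Finset.sum_div]
      exact memRing_sum h.mod fun b hb => hdiv b (Finset.mem_filter.1 (Finset.mem_filter.1 hb).1).2.1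
        (Finset.mem_filter.1 (Finset.mem_filter.1 hb).1).2.2,
    fun χ hχ => ?_⟩
  have h1 := sec_eq_overBlocks h.mod (isCentr_zpowers z) hz h.isBlock χ hS
  rw [ind_of_mem hχ, one_mul, sum_blockPart_eq h.mod _ (fun ψ hψ φ hφ => by
    show IsInducedBlock M H (blockOf M (φ : H → ℂ)) B
    rw [blockOf_eq_of_mem h.mod hφ]; exact hψ)] at h1
  rw [← hzs, show (χ : G → ℂ) (z * s) = (χ : G → ℂ) (z * (S : G)) from rfl, ← h1, ← hK,
    ← Finset.sum_fiberwise_of_maps_to (t := V) (g := vv) (fun b hb =>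
      hmem b (Finset.mem_filter.1 hb).2.1 (Finset.mem_filter.1 hb).2.2)]
  refine Finset.sum_congr rfl fun v _ => ?_
  rw [Finset.sum_mul]
  refine Finset.sum_congr rfl fun b hb => ?_
  obtain ⟨hb1, hb2⟩ := Finset.mem_filter.1 hb
  obtain ⟨-, hb3, hb4⟩ := Finset.mem_filter.1 hb1
  rw [hkk b hb3 hb4 χ hχ, hb2]

theorem singular_expansion_int {x : G} (hx : p ∣ orderOf x) :
    ∃ w : G → ℂ, (∀ v, IsIntegral ℤ (w v)) ∧ ∀ χ ∈ B, (χ : G → ℂ) x =
      ∑ v ∈ (Set.toFinite {v : G | v ∈ P ∧ v ≠ 1}).toFinset,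
        w v * dsec p M P c v (χ : G → ℂ) := by
  obtain ⟨w, h1, -, h2⟩ := h.singular_expansion_div hx
  exact ⟨w, h1, h2⟩

theorem singular_expansion {x : G} (hx : p ∣ orderOf x) :
    ∃ w : G → ℂ, ∀ χ ∈ B, (χ : G → ℂ) x =
      ∑ v ∈ (Set.toFinite {v : G | v ∈ P ∧ v ≠ 1}).toFinset,
        w v * dsec p M P c v (χ : G → ℂ) := by
  obtain ⟨w, -, hw⟩ := h.singular_expansion_int hx
  exact ⟨w, hw⟩

end CycData

end CfsgLib.Blocks
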