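import Cfsg.Agent.Lib.Blocks.CyclicCore
import Cfsg.Agent.Lib.Blocks.CyclicLift
import Cfsg.Agent.Lib.Blocks.CyclicLambda
import Mathlib.Algebra.CharP.Lemmas
import Mathlib.Algebra.CharP.Algebra
import Mathlib.Algebra.Polynomial.AlgebraMap
import Mathlib.LinearAlgebra.Matrix.Trace

/-!
# The core of a block with cyclic defect group and trivial inertial index
-/

namespace CfsgLib.Blocks

open Cfsg CfsgLib.CharTheory MonoidAlgebra
open scoped ComplexConjugate

set_option synthInstance.maxHeartbeats 200000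
set_option linter.unusedVariables false
set_option linter.unusedSimpArgs false
set_option linter.style.haveILetI false
set_option linter.unusedSectionVars false

universe u

/-- A `p`-part does not change a trace. -/
theorem trace_section {k : Type*} [Field k] {p : ℕ} [Fact p.Prime] [CharP k p] {n : ℕ} [NeZero n]
    {H : Type*} [Group H] (U : H →* Matrix (Fin n) (Fin n) k) {z w : H} (hc : Commute z w)
    (hz : ∃ j : ℕ, orderOf z = p ^ j) : (U (z * w)).trace = (U w).trace := by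
  haveI : CharP (Matrix (Fin n) (Fin n) k) p := charP_of_injective_algebraMap
    (FaithfulSMul.algebraMap_injective k (Matrix (Fin n) (Fin n) k)) p
  obtain ⟨s, hs⟩ := hz
  have hUV : Commute (U z) (U w) := hc.map U
  have hUp : U z ^ p ^ s = 1 := by rw [← map_pow, ← hs, pow_orderOf_eq_one, map_one]
  have hnil : IsNilpotent ((U z - 1) * U w) := by
    refine Commute.isNilpotent_mul_right (hUV.sub_left (Commute.one_left (U w))) ⟨p ^ s, ?_⟩
    rw [sub_pow_char_pow_of_commute _ _ (Commute.one_right _), hUp, one_pow, sub_self]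
  have htr0 := (Matrix.isNilpotent_trace_of_isNilpotent hnil).eq_zero
  rw [sub_mul, one_mul, Matrix.trace_sub, sub_eq_zero, ← map_mul] at htr0
  exact htr0

/-- A geometric sum in characteristic `p`. -/
theorem sub_one_pow_card_sub_one {k : Type*} [Field k] {p : ℕ} [Fact p.Prime] [CharP k p]
    {A : Type*} [Ring A] [Algebra k A] (u : A) (a : ℕ) :
    (u - 1) ^ (p ^ a - 1) = ∑ j ∈ Finset.range (p ^ a), u ^ j := by
  have h1 : ((Polynomial.X : Polynomial k) - 1) ^ (p ^ a - 1) =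
      ∑ j ∈ Finset.range (p ^ a), Polynomial.X ^ j := by
    refine mul_right_cancel₀ (Polynomial.X_sub_C_ne_zero (1 : k)) ?_
    rw [map_one, ← pow_succ, geom_sum_mul, Nat.sub_add_cancel
      (Nat.one_le_pow _ _ (Fact.out : p.Prime).pos), sub_pow_char_pow_of_commute _ _ (Commute.one_right _),
      one_pow]
  have h2 := congrArg (Polynomial.aeval u) h1
  simpa using h2

/-- Evaluation of the coefficient at the identity. -/
noncomputable def coeffOne (k : Type*) [Field k] (H : Type*) [Group H] :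
    MonoidAlgebra k H →ₗ[k] k where
  toFun x := x.coeff 1
  map_add' x y := by simp
  map_smul' r x := by simp

theorem coeffOne_mul_comm {k : Type*} [Field k] {H : Type*} [Group H] (x y : MonoidAlgebra k H) :
    coeffOne k H (x * y) = coeffOne k H (y * x) := by
  show (x * y).coeff 1 = (y * x).coeff 1
  induction x using MonoidAlgebra.induction_linear with
  | zero => simp
  | add a b ha hb => simp [add_mul, mul_add, ha, hb]
  | single g r =>
    rw [show MonoidAlgebra.single g r = r • MonoidAlgebra.of k H g by simp, smul_mul_assoc,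
      mul_smul_comm, coeff_smul, coeff_smul, Finsupp.smul_apply, Finsupp.smul_apply]
    congr 1
    rw [MonoidAlgebra.of_apply, coeff_single_mul_eq_mul_coeff (g⁻¹ * 1)
      (fun m' _ => eq_inv_mul_iff_mul_eq.symm), coeff_mul_single_eq_coeff_mul (1 * g⁻¹)
      (fun m' _ => eq_mul_inv_iff_mul_eq.symm), one_mul, mul_one, mul_one, one_mul]

variable {p : ℕ} {M : Ideal AlgInt} [M.IsMaximal] {G : Type u} [Group G] [Fintype G]

attribute [local instance] Ideal.Quotient.field

namespace CycData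

variable {B : Set (IrrCharacter G)} {P : Subgroup G}
  {c : Set (IrrCharacter (Subgroup.centralizer (P : Set G)))} {a : ℕ} (h : CycData p M B P c a)

include h

/-- The ratio `p ^ a φ(1) / |G|` is a local integer. -/
theorem degree_ratio_mem (htriv : pairStab P c ≤ Subgroup.centralizer (P : Set G)) :
    MemLocalRing M (((p ^ a : ℕ) : ℂ) * (bdeg B : ℂ) / (Nat.card G : ℂ)) := by
  haveI : Fact p.Prime := ⟨h.prime⟩
  obtain ⟨-, -, hdeg, -⟩ := h.triv_basic htriv
  obtain ⟨θ, hθ, hθ0⟩ := exists_height_zero h.mod h.isBlock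
  have hG := (Nat.card_pos (α := G)).ne'
  have hb0 : bdeg B ≠ 0 := by rw [← hdeg θ hθ]; exact (irr_charDegree_pos θ).ne'
  have hfac : a + (bdeg B).factorization p = (Nat.card G).factorization p := by
    have h1 := h.defect
    have h2 := minDv_le_card h.mod h.isBlock
    have h3 := h.pos
    rw [blockDefect_eq] at h1
    rw [← hdeg θ hθ, show (charDegree (θ : G → ℂ)).factorization p = dv p (θ : G → ℂ) from rfl,
      hθ0]
    omega
  set d' := bdeg B / p ^ (bdeg B).factorization p with hd'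
  set m' := Nat.card G / p ^ (Nat.card G).factorization p with hm'
  have hnat : p ^ a * bdeg B * m' = Nat.card G * d' := by
    conv_lhs => rw [← Nat.ordProj_mul_ordCompl_eq_self (bdeg B) p, ← hd']
    conv_rhs => rw [← Nat.ordProj_mul_ordCompl_eq_self (Nat.card G) p, ← hm', ← hfac, pow_add]
    ring
  have hm'0 : ¬ p ∣ m' := Nat.not_dvd_ordCompl h.prime hG
  have h3 : ((p ^ a : ℕ) : ℂ) * (bdeg B : ℂ) / (Nat.card G : ℂ) = (d' : ℂ) * (m' : ℂ)⁻¹ := by
    rw [← div_eq_mul_inv, div_eq_div_iff (Nat.cast_ne_zero.2 hG)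
      (Nat.cast_ne_zero.2 (fun h0 => hm'0 (by rw [h0]; exact dvd_zero p)))]
    exact_mod_cast hnat.trans (mul_comm _ _)
  rw [h3]
  exact (loc h.mod).mul_mem (memRing_natCast h.mod _) (natCast_inv_mem h.mod hm'0)

set_option maxHeartbeats 1600000 in
/-- The corner of the idempotent of a block with trivial inertial index. -/
theorem exists_triv_core (htriv : pairStab P c ≤ Subgroup.centralizer (P : Set G)) :
    ∃ (q ε : MonoidAlgebra (AlgInt ⧸ M) G) (n : ℕ)
      (a' b' : Fin n → MonoidAlgebra (AlgInt ⧸ M) G),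
      PiCore (AlgInt ⧸ M) ⊤ (toAlg h.mod (ind B)) q ε (p ^ a) n a' b' := by
  classical
  haveI : Fact p.Prime := ⟨h.prime⟩
  haveI : IsAlgClosed (AlgInt ⧸ M) := res_isAlgClosed h.mod
  haveI := res_charP h.mod
  haveI : Fintype P := Fintype.ofFinite P
  haveI : Finite (↥P →* ℂˣ) := finite_linearChars P
  haveI : Fintype (↥P →* ℂˣ) := Fintype.ofFinite _
  haveI : CharP (MonoidAlgebra (AlgInt ⧸ M) G) p := charP_of_injective_algebraMap
    (FaithfulSMul.algebraMap_injective (AlgInt ⧸ M) (MonoidAlgebra (AlgInt ⧸ M) G)) p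
  have hM := h.mod
  have hB := h.isBlock
  obtain ⟨hl, hcard, hdeg, hregeq⟩ := h.triv_basic htriv
  obtain ⟨s, Λ, hs, -, hval, hbij⟩ := h.linear_values htriv
  obtain ⟨u₀, hu₀, hord, hgen⟩ := h.exists_gen
  set u : P := ⟨u₀, hu₀⟩ with hu
  set N := p ^ a with hN
  have hN1 : 1 < N := Nat.one_lt_pow (by have := h.pos; omega) h.prime.one_lt
  have hu1 : u₀ ≠ 1 := fun h1 => by rw [h1, orderOf_one] at hord; omega
  have hpowN : ∀ θ : ↥P →* ℂˣ, ((θ u : ℂˣ) : ℂ) ^ N = 1 := fun θ => by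
    rw [← Units.val_pow_eq_pow_val, ← map_pow,
      show u ^ N = 1 from Subtype.ext (by simpa using h.pow_card hu₀), map_one, Units.val_one]
  have hgenP : ∀ θ : ↥P →* ℂˣ, ((θ u : ℂˣ) : ℂ) = 1 → θ = 1 := fun θ hθ => MonoidHom.ext fun v => by
    obtain ⟨i, hi⟩ := hgen v v.2
    rw [show v = u ^ i from Subtype.ext (by rw [SubmonoidClass.coe_pow]; exact hi.symm), map_pow,
      show θ u = 1 from Units.ext hθ, one_pow, MonoidHom.one_apply]
  obtain ⟨ψ₀, hψ₀, hψ₀1⟩ := hbij.surjOn (Set.mem_univ (1 : ↥P →* ℂˣ))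
  -- the central function
  set v : IrrCharacter G → ℂ := fun ψ => if ψ ∈ B then ((Λ ψ u : ℂˣ) : ℂ) else 0 with hv
  have hvmem : ∀ ψ ∈ B, v ψ = ((Λ ψ u : ℂˣ) : ℂ) := fun ψ hψ => if_pos hψ
  have hvoff : ∀ ψ, ψ ∉ B → v ψ = 0 := fun ψ hψ => if_neg hψ
  set Kc : ℂ := (N : ℂ) * (bdeg B : ℂ) / (Nat.card G : ℂ) with hKc
  have hKcm : MemLocalRing M Kc := h.degree_ratio_mem htriv
  have hN0 : (N : ℂ) ≠ 0 := Nat.cast_ne_zero.2 (by omega)
  have hcf : ∀ (x : IrrCharacter G → ℂ), (∀ ψ, ψ ∉ B → x ψ = 0) → ∀ g,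
      cf x g = Kc * ((N : ℂ)⁻¹ * ∑ ψ ∈ bset B, x ψ * conj ((ψ : G → ℂ) g)) := by
    intro x hx g
    rw [cf, ← Finset.sum_subset (Finset.subset_univ (bset B)) fun ψ _ hψ => by
      rw [hx ψ (fun h' => hψ (mem_bset.2 h')), zero_mul], hKc]
    rw [Finset.mul_sum, Finset.mul_sum, Finset.mul_sum]
    refine Finset.sum_congr rfl fun ψ hψ => ?_
    rw [← irr_charDegree_cast, hdeg ψ (mem_bset.1 hψ)]
    field_simp
  have hsumΛ : ∀ f : (↥P →* ℂˣ) → ℂ, ∑ ψ ∈ bset B, f (Λ ψ) = ∑ θ, f θ := fun f =>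
    Finset.sum_bij (fun ψ _ => Λ ψ) (fun _ _ => Finset.mem_univ _)
      (fun ψ hψ ψ' hψ' e => hbij.injOn (mem_bset.1 hψ) (mem_bset.1 hψ') e)
      (fun θ _ => by
        obtain ⟨ψ, hψ, e⟩ := hbij.surjOn (Set.mem_univ θ)
        exact ⟨ψ, mem_bset.2 hψ, e⟩) fun _ _ => rfl
  have hvZ : v ∈ Zloc G hM := by
    intro g
    rw [hcf v hvoff g]
    refine (loc hM).mul_mem hKcm ?_
    by_cases hg : p ∣ orderOf g
    · obtain ⟨w, hwi, hw⟩ := h.singular_expansion_int hg
      set V := (Set.toFinite {x : G | x ∈ P ∧ x ≠ 1}).toFinset with hV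
      have hVmem : ∀ x ∈ V, x ∈ P ∧ x ≠ 1 := fun x hx => by
        rw [hV, Set.Finite.mem_toFinset] at hx; exact hx
      have h1 : ∑ ψ ∈ bset B, v ψ * conj ((ψ : G → ℂ) g) =
          (N : ℂ) * (conj (w u₀) * (s u₀ : ℂ)) := by
        have h2 : ∀ ψ ∈ bset B, v ψ * conj ((ψ : G → ℂ) g) = ∑ x ∈ V.attach,
            conj (w x.1) * (s x.1 : ℂ) *
              (((Λ ψ (u * (⟨x.1, (hVmem x.1 x.2).1⟩ : P)⁻¹) : ℂˣ) : ℂ)) := by
          intro ψ hψ
          have hψB := mem_bset.1 hψ
          rw [hvmem ψ hψB, hw ψ hψB, map_sum, Finset.mul_sum, ← Finset.sum_attach]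
          refine Finset.sum_congr rfl fun x _ => ?_
          obtain ⟨hxP, hx1⟩ := hVmem x.1 x.2
          rw [hval ψ hψB ⟨x.1, hxP⟩ hx1, map_mul, map_mul, map_intCast, map_mul (Λ ψ), map_inv,
            Units.val_mul, Units.val_inv_eq_inv_val]
          have h3 : ((Λ ψ ⟨x.1, hxP⟩ : ℂˣ) : ℂ) ^ N = 1 := by
            rw [← Units.val_pow_eq_pow_val, ← map_pow,
              show (⟨x.1, hxP⟩ : P) ^ N = 1 from Subtype.ext (by simpa using h.pow_card hxP),
              map_one, Units.val_one]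
          rw [Complex.inv_eq_conj (Complex.norm_eq_one_of_pow_eq_one h3 (by omega))]
          ring
        rw [Finset.sum_congr rfl h2, Finset.sum_comm]
        simp only [← Finset.mul_sum]
        have hu₀V : u₀ ∈ V := (Set.Finite.mem_toFinset _).2 ⟨hu₀, hu1⟩
        rw [Finset.sum_eq_single (⟨u₀, hu₀V⟩ : V)]
        · rw [hsumΛ (fun θ => ((θ (u * (⟨u₀, hu₀⟩ : P)⁻¹) : ℂˣ) : ℂ)), ← hu]
          simp only [mul_inv_cancel, map_one, Units.val_one, Finset.sum_const, Finset.card_univ,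
            h.card_chars, nsmul_eq_mul, mul_one]
          rw [mul_comm]
        · intro x _ hx
          rw [hsumΛ (fun θ => ((θ (u * (⟨x.1, (hVmem x.1 x.2).1⟩ : P)⁻¹) : ℂˣ) : ℂ)),
            h.sum_chars_apply, mul_zero]
          intro e
          exact hx (Subtype.ext (congrArg Subtype.val (mul_inv_eq_one.1 e)).symm)
        · exact fun hn => absurd (Finset.mem_attach _ _) hn
      rw [h1, inv_mul_cancel_left₀ hN0]
      exact memRing_of_isIntegral hM (IsIntegral.mul ((hwi u₀).map (starRingEnd ℂ).toIntAlgHom) (isIntegral_intCast' _))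
    · have h1 : ∑ ψ ∈ bset B, v ψ * conj ((ψ : G → ℂ) g) = 0 := by
        rw [Finset.sum_congr rfl fun ψ hψ => by
          rw [hvmem ψ (mem_bset.1 hψ), hregeq ψ (mem_bset.1 hψ) ψ₀ hψ₀ g hg], ← Finset.sum_mul,
          hsumΛ (fun θ => ((θ u : ℂˣ) : ℂ)),
          h.sum_chars_apply (fun e => hu1 (congrArg Subtype.val e)), zero_mul]
      rw [h1, mul_zero]
      exact (loc hM).zero_mem
  set vz : Zloc G hM := ⟨v, hvZ⟩ with hvz
  set ez : Zloc G hM := ⟨ind B, ind_mem_Zloc hM hB⟩ with hez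
  set e1 := toAlg hM (ind B) with he1
  have hee : ez * ez = ez := by
    refine Subtype.ext (funext fun ψ => ?_)
    show ind B ψ * ind B ψ = ind B ψ
    by_cases hψ : ψ ∈ B
    · rw [ind_of_mem hψ, one_mul]
    · rw [ind_of_notMem hψ, zero_mul]
  have hve : vz * ez = vz := by
    refine Subtype.ext (funext fun ψ => ?_)
    show v ψ * ind B ψ = v ψ
    by_cases hψ : ψ ∈ B
    · rw [ind_of_mem hψ, mul_one]
    · rw [ind_of_notMem hψ, hvoff ψ hψ, mul_zero]
  have he1i : e1 * e1 = e1 := (toAlg_mul hM ez ez).symm.trans (by rw [hee])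
  set V1 := toAlg hM v with hV1
  have hV1e : V1 * e1 = V1 := (toAlg_mul hM vz ez).symm.trans (by rw [hve])
  set q := V1 - e1 with hq
  have hVN : V1 ^ N = e1 := by
    rw [hV1, show v = ((vz : Zloc G hM) : IrrCharacter G → ℂ) from rfl,
      ← toAlg_pow hM vz N (by omega)]
    congr 1
    funext ψ
    show v ψ ^ N = ind B ψ
    by_cases hψ : ψ ∈ B
    · rw [ind_of_mem hψ, hvmem ψ hψ, hpowN]
    · rw [ind_of_notMem hψ, hvoff ψ hψ, zero_pow (by omega)]
  have hnil : q ^ N = 0 := by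
    have h1 : e1 ^ N = e1 := by
      obtain ⟨j, hj⟩ : ∃ j, N = j + 1 := ⟨N - 1, by omega⟩
      rw [hj]
      exact IsIdempotentElem.pow_succ_eq j he1i
    rw [hq, hN, sub_pow_char_pow_of_commute _ _ (toAlg_central hM v e1), ← hN, hVN, h1, sub_self]
  have hqe : q * e1 = q := by rw [hq, sub_mul, hV1e, he1i]
  -- the top power
  set wz : Zloc G hM := ∑ j ∈ Finset.range N, vz ^ j * ez with hwz
  have hwval : ∀ ψ, (wz : IrrCharacter G → ℂ) ψ = if ψ = ψ₀ then (N : ℂ) else 0 := by
    intro ψ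
    rw [hwz, AddSubmonoidClass.coe_finset_sum, Finset.sum_apply]
    show ∑ j ∈ Finset.range N, v ψ ^ j * ind B ψ = _
    by_cases hψ : ψ ∈ B
    · simp only [ind_of_mem hψ, mul_one, hvmem ψ hψ]
      split_ifs with h0
      · subst h0
        simp [hψ₀1]
      · have hne : ((Λ ψ u : ℂˣ) : ℂ) ≠ 1 := fun h1 =>
          h0 (hbij.injOn hψ hψ₀ ((hgenP _ h1).trans hψ₀1.symm))
        have h2 := geom_sum_mul ((Λ ψ u : ℂˣ) : ℂ) N
        rw [hpowN, sub_self] at h2
        exact (mul_eq_zero.1 h2).resolve_right (sub_ne_zero.2 hne)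
    · simp only [ind_of_notMem hψ, mul_zero, Finset.sum_const_zero]
      rw [if_neg fun e : ψ = ψ₀ => hψ (e ▸ hψ₀)]
  have hpow : q ^ (N - 1) = toAlg hM (wz : IrrCharacter G → ℂ) := by
    set U := V1 + (1 - e1) with hU
    have h1 : q = U - 1 := by rw [hq, hU]; abel
    have h2 : ∀ j, U ^ j * e1 = toAlg hM ((vz ^ j * ez : Zloc G hM) : IrrCharacter G → ℂ) := by
      intro j
      induction j with
      | zero => simp [he1, hez]
      | succ j ih =>
        have h3 : U * e1 = V1 := by rw [hU, add_mul, hV1e, sub_mul, one_mul, he1i, sub_self, add_zero]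
        calc U ^ (j + 1) * e1 = U ^ j * (U * e1) * e1 := by
              rw [pow_succ, mul_assoc (U ^ j), mul_assoc (U ^ j), mul_assoc U, he1i]
          _ = U ^ j * e1 * V1 := by
              rw [h3, mul_assoc, mul_assoc, toAlg_central hM v e1]
          _ = _ := by
              rw [ih, hV1, show v = ((vz : Zloc G hM) : IrrCharacter G → ℂ) from rfl, ← toAlg_mul,
                mul_assoc, mul_comm ez, ← mul_assoc, ← pow_succ]
    have h4 : q ^ (N - 1) = q ^ (N - 1) * e1 := by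
      obtain ⟨j, hj⟩ : ∃ j, N = j + 2 := ⟨N - 2, by omega⟩
      rw [hj, show j + 2 - 1 = j + 1 by omega, pow_succ, mul_assoc, hqe]
    rw [h4, h1, hN, sub_one_pow_card_sub_one (k := AlgInt ⧸ M) (p := p), Finset.sum_mul, hwz,
      toAlg_sum]
    exact Finset.sum_congr rfl fun j _ => h2 j
  have hcoef : ∀ g, (q ^ (N - 1)).coeff g = res hM (Kc * conj ((ψ₀ : G → ℂ) g)) := by
    intro g
    rw [hpow, coeff_toAlg, hcf _ (fun ψ hψ => by rw [hwval, if_neg fun e : ψ = ψ₀ => hψ (e ▸ hψ₀)]) g]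
    congr 2
    rw [Finset.sum_congr rfl fun ψ _ => by rw [hwval], Finset.sum_eq_single ψ₀]
    · rw [if_pos rfl, inv_mul_cancel_left₀ hN0]
    · intro ψ _ hne
      rw [if_neg hne, zero_mul]
    · exact fun hn => absurd (mem_bset.2 hψ₀) hn
  -- the trace function
  set G0 : MonoidAlgebra (AlgInt ⧸ M) G →ₗ[AlgInt ⧸ M] (AlgInt ⧸ M) :=
    (coeffOne _ G).comp (LinearMap.mulLeft (AlgInt ⧸ M) (q ^ (N - 1))) with hG0
  have hqcen : ∀ x, q * x = x * q := fun x => by
    rw [hq, sub_mul, mul_sub, toAlg_central hM v x, toAlg_central hM (ind B) x]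
  have hqpow : ∀ x, q ^ (N - 1) * x = x * q ^ (N - 1) := fun x =>
    ((show Commute q x from hqcen x).pow_left _).eq
  have hG0tr : ∀ x y, G0 (x * y) = G0 (y * x) := by
    intro x y
    show coeffOne _ G (q ^ (N - 1) * (x * y)) = coeffOne _ G (q ^ (N - 1) * (y * x))
    rw [← mul_assoc, coeffOne_mul_comm, ← mul_assoc, ← hqpow y, mul_assoc]
  have hqe' : q ^ (N - 1) * e1 = q ^ (N - 1) := by
    rw [hpow, he1, show ind B = ((ez : Zloc G hM) : IrrCharacter G → ℂ) from rfl, ← toAlg_mul, hwz,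
      Finset.sum_mul]
    congr 2
    exact Finset.sum_congr rfl fun j _ => by rw [mul_assoc, hee]
  have hG0fix : ∀ x, G0 (x * e1) = G0 x := by
    intro x
    show coeffOne _ G (q ^ (N - 1) * (x * e1)) = coeffOne _ G (q ^ (N - 1) * x)
    rw [← toAlg_central hM (ind B) x, ← he1, ← mul_assoc, hqe']
  have hG0of : ∀ g, G0 (of _ G g) = res hM (Kc * (ψ₀ : G → ℂ) g) := by
    intro g
    show (q ^ (N - 1) * of _ G g).coeff 1 = _
    rw [coeff_mul_of, one_mul, hcoef, irr_conjInv, inv_inv]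
  have hG0sec : ∀ (z w : G), Commute z w → (∃ j : ℕ, orderOf z = p ^ j) →
      G0 (of _ G (z * w)) = G0 (of _ G w) := by
    rintro z w hc ⟨j, hz⟩
    rw [hG0of, hG0of, res_mul hM hKcm (memRing_irr hM _ _), res_mul hM hKcm (memRing_irr hM _ _),
      irr_res_pPart hM ψ₀ hc hz]
  have hG0ne : G0 ≠ 0 := by
    obtain ⟨y, hy, -⟩ := id h.isDefect
    have hyr := isDefectClass_regular hM hB hy
    intro h0
    apply hy.2.1
    refine (res_eq_zero_iff hM hy.1).1 ?_
    have h1 := LinearMap.congr_fun h0 (of _ G y⁻¹)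
    rw [hG0of, LinearMap.zero_apply] at h1
    rw [← h1]
    congr 1
    rw [← cf_ind, hcf _ (fun ψ hψ => ind_of_notMem hψ) y, Finset.sum_congr rfl fun ψ hψ => by
      rw [ind_of_mem (mem_bset.1 hψ), one_mul, hregeq ψ (mem_bset.1 hψ) ψ₀ hψ₀ y hyr],
      Finset.sum_const, nsmul_eq_mul, card_bset, hcard, irr_conjInv]
    rw [← mul_assoc (N : ℂ)⁻¹, inv_mul_cancel₀ hN0, one_mul]
  -- the component
  obtain ⟨r, d, π, hd, hπ, m, hm⟩ :=
    exists_pi_quotient (k := AlgInt ⧸ M) (A := MonoidAlgebra (AlgInt ⧸ M) G)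
  haveI := hd
  let τ : Fin r → MonoidAlgebra (AlgInt ⧸ M) G →ₗ[AlgInt ⧸ M] (AlgInt ⧸ M) := fun i =>
    { toFun := fun x => (π x i).trace
      map_add' := fun x y => by rw [map_add, Pi.add_apply, Matrix.trace_add]
      map_smul' := fun c x => by rw [map_smul, Pi.smul_apply, Matrix.trace_smul]; rfl }
  have hcenm : ∀ i Y, Commute Y (π e1 i) := by
    intro i Y
    obtain ⟨y, hy⟩ := hπ (Pi.single i Y)
    have h1 := congrFun (congrArg π (toAlg_central hM (ind B) y)) i
    simp only [map_mul, Pi.mul_apply, hy, Pi.single_eq_same] at h1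
    exact h1.symm
  have hone : ∀ i, π e1 i ≠ 0 → π e1 i = 1 := fun i hi =>
    (matrix_central_idem _ (hcenm i) (by rw [← Pi.mul_apply, ← map_mul, he1i])).resolve_left hi
  have hτtr : ∀ i x y, τ i (x * y) = τ i (y * x) := fun i x y => by
    show (π (x * y) i).trace = (π (y * x) i).trace
    rw [map_mul, map_mul, Pi.mul_apply, Pi.mul_apply, Matrix.trace_mul_comm]
  have hτfix : ∀ i, π e1 i = 1 → ∀ x, τ i (x * e1) = τ i x := fun i hi x => by
    show (π (x * e1) i).trace = (π x i).trace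
    rw [map_mul, Pi.mul_apply, hi, mul_one]
  have hτsec : ∀ i (z w : G), Commute z w → (∃ j : ℕ, orderOf z = p ^ j) →
      τ i (of _ G (z * w)) = τ i (of _ G w) := fun i z w hc hz =>
    trace_section (((Pi.evalMonoidHom _ i).comp π.toMonoidHom).comp (of (AlgInt ⧸ M) G)) hc hz
  have hE : ∀ i i', ∃ x, τ i' x = if i' = i then 1 else 0 := by
    intro i i'
    haveI := hd i
    obtain ⟨x, hx⟩ := hπ (Pi.single i (Matrix.single 0 0 1))
    refine ⟨x, ?_⟩
    show (π x i').trace = _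
    rw [hx]
    split_ifs with he
    · subst he
      rw [Pi.single_eq_same, Matrix.trace_single_eq_same]
    · rw [Pi.single_eq_of_ne he, Matrix.trace_zero]
  obtain ⟨i₀, hi₀⟩ : ∃ i, π e1 i ≠ 0 := by
    by_contra hno
    push Not at hno
    have h1 : π e1 = 0 := funext hno
    have h2 := Submodule.pow_mem_pow _ (show e1 ∈ LinearMap.ker π.toLinearMap from h1) (m + 1)
    rw [pow_succ, hm, IsIdempotentElem.pow_succ_eq m he1i, Submodule.bot_mul, Submodule.mem_bot] at h2
    refine hG0ne (LinearMap.ext fun x => ?_)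
    rw [← hG0fix, h2, mul_zero, map_zero, LinearMap.zero_apply]
  have huniq : ∀ i, π e1 i ≠ 0 → i = i₀ := by
    intro i hi
    by_contra hne
    have hli : LinearIndependent (AlgInt ⧸ M) ![τ i, τ i₀] := by
      rw [LinearIndependent.pair_iff]
      intro x y hxy
      obtain ⟨z, hz⟩ := hπ (Pi.single i (Matrix.single 0 0 1))
      obtain ⟨z', hz'⟩ := hπ (Pi.single i₀ (Matrix.single 0 0 1))
      constructor
      · have h1 := LinearMap.congr_fun hxy z
        change x * (π z i).trace + y * (π z i₀).trace = 0 at h1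
        rwa [hz, Pi.single_eq_same, Pi.single_eq_of_ne (Ne.symm hne), Matrix.trace_single_eq_same,
          Matrix.trace_zero, mul_one, mul_zero, add_zero] at h1
      · have h1 := LinearMap.congr_fun hxy z'
        change x * (π z' i).trace + y * (π z' i₀).trace = 0 at h1
        rwa [hz', Pi.single_eq_same, Pi.single_eq_of_ne hne, Matrix.trace_single_eq_same,
          Matrix.trace_zero, mul_one, mul_zero, zero_add] at h1
    have h1 := (card_le_of_traces hM hB ![τ i, τ i₀] (Fin.forall_fin_two.2 ⟨hτtr i, hτtr i₀⟩)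
      (Fin.forall_fin_two.2 ⟨hτfix i (hone i hi), hτfix i₀ (hone i₀ hi₀)⟩) hli).2
      (Fin.forall_fin_two.2 ⟨hτsec i, hτsec i₀⟩)
    rw [hl, Fintype.card_fin] at h1
    omega
  obtain ⟨c', hc', hG0c⟩ : ∃ c', c' ≠ 0 ∧ ∀ x, G0 x = c' * τ i₀ x := by
    obtain ⟨x₁, hx₁⟩ := hE i₀ i₀
    rw [if_pos rfl] at hx₁
    have hnli : ¬ LinearIndependent (AlgInt ⧸ M) ![G0, τ i₀] := fun hli => by
      have h1 := (card_le_of_traces hM hB ![G0, τ i₀] (Fin.forall_fin_two.2 ⟨hG0tr, hτtr i₀⟩)
        (Fin.forall_fin_two.2 ⟨hG0fix, hτfix i₀ (hone i₀ hi₀)⟩) hli).2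
        (Fin.forall_fin_two.2 ⟨hG0sec, hτsec i₀⟩)
      rw [hl, Fintype.card_fin] at h1
      omega
    rw [LinearIndependent.pair_iff] at hnli
    push Not at hnli
    obtain ⟨x, y, hxy, hne⟩ := hnli
    have hev : ∀ z, x * G0 z + y * τ i₀ z = 0 := fun z => LinearMap.congr_fun hxy z
    have hx0 : x ≠ 0 := fun h0 => by
      have h1 := hev x₁
      rw [h0, zero_mul, zero_add, hx₁, mul_one] at h1
      exact hne h0 h1
    refine ⟨-(x⁻¹ * y), fun h0 => ?_, fun z => ?_⟩
    · have hy0 : y = 0 := (mul_eq_zero.1 (neg_eq_zero.1 h0)).resolve_left (inv_ne_zero hx0)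
      refine hG0ne (LinearMap.ext fun z => ?_)
      have h1 := hev z
      rw [hy0, zero_mul, add_zero] at h1
      exact (mul_eq_zero.1 h1).resolve_left hx0
    · have h1 := hev z
      field_simp
      linear_combination h1
  obtain ⟨ε, n, a', b', hcore⟩ := exists_piCore π hπ hm e1 q he1i (toAlg_central hM (ind B)) hqcen hqe
    i₀ huniq hi₀ hN1 hnil (fun F htr hfix hli => by
      have h1 := (card_le_of_traces hM hB F htr hfix hli).1
      rw [card_bset, hcard, Fintype.card_fin] at h1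
      omega)
    (coeffOne _ G) coeffOne_mul_comm c' hc' hG0c
  exact ⟨q, ε, n, a', b', hcore⟩

end CycData

end CfsgLib.Blocks
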