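import Mathlib

/-!
# Integral columns with Gram matrix `e + 1` and small orbit sums
-/

namespace CfsgLib.Blocks.DefectOneColumns

set_option linter.unusedVariables false
set_option linter.unusedSectionVars false

variable {κ ι : Type*} [DecidableEq κ] [Fintype ι] [DecidableEq ι]

/-- The hypotheses. -/
structure Data (B : Finset κ) (g : κ → ι → ℤ) (orb : κ → Finset κ) (e : ℕ) : Prop where
  gram : ∀ O O', ∑ χ ∈ B, g χ O * g χ O' = (e : ℤ) + if O = O' then 1 else 0
  ne : ∀ χ ∈ B, ∃ O, g χ O ≠ 0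
  self : ∀ χ ∈ B, χ ∈ orb χ
  sub : ∀ χ ∈ B, orb χ ⊆ B
  eq : ∀ χ ∈ B, ∀ ψ ∈ orb χ, orb ψ = orb χ
  perm : ∀ χ ∈ B, ∀ ψ ∈ orb χ, ∃ π : ι ≃ ι, ∀ O, g χ O = g ψ (π O)
  indep : ∀ χ ∈ B, ∀ O O', ∑ ψ ∈ orb χ, g ψ O = ∑ ψ ∈ orb χ, g ψ O'
  bound : ∀ χ ∈ B, ∀ O, |∑ ψ ∈ orb χ, g ψ O| ≤ 1

variable {B : Finset κ} {g : κ → ι → ℤ} {orb : κ → Finset κ} {e : ℕ}

/-- The total squared variation of a row. -/
def var (f : ι → ℤ) : ℤ := ∑ O, ∑ O', (f O - f O') ^ 2

theorem var_nonneg (f : ι → ℤ) : 0 ≤ var f :=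
  Finset.sum_nonneg fun _ _ => Finset.sum_nonneg fun _ _ => sq_nonneg _

theorem var_comp (f : ι → ℤ) (π : ι ≃ ι) : var (fun O => f (π O)) = var f := by
  unfold var
  rw [Equiv.sum_comp π fun O => ∑ O', (f O - f (π O')) ^ 2]
  exact Finset.sum_congr rfl fun O _ => Equiv.sum_comp π fun O' => (f O - f O') ^ 2

theorem var_two_values (f : ι → ℤ) (u : ℤ) (h : ∀ O, f O = u ∨ f O = u + 1) :
    var f = 2 * ((Finset.univ.filter fun O => f O = u + 1).card : ℤ) *
      ((Fintype.card ι : ℤ) - (Finset.univ.filter fun O => f O = u + 1).card) := by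
  set i : ι → ℤ := fun O => if f O = u + 1 then 1 else 0 with hi
  have hf : ∀ O, f O = u + i O := fun O => by
    simp only [hi]
    rcases h O with e | e
    · rw [if_neg (by omega), e, add_zero]
    · rw [if_pos e, e]
  have hsum : ∑ O, i O = ((Finset.univ.filter fun O => f O = u + 1).card : ℤ) := by
    simp [hi, Finset.sum_boole]
  have hsq : ∀ O, i O ^ 2 = i O := fun O => by simp only [hi]; split_ifs <;> simp
  unfold var
  simp only [hf, add_sub_add_left_eq_sub, sub_sq, hsq, Finset.sum_add_distrib, Finset.sum_sub_distrib,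
    Finset.sum_const, Finset.card_univ, nsmul_eq_mul, ← Finset.mul_sum, ← Finset.sum_mul]
  simp only [← hf, hsum]
  ring

theorem Data.diff (h : Data B g orb e) {O O' : ι} (hO : O ≠ O') :
    ∑ χ ∈ B, (g χ O - g χ O') ^ 2 = 2 := by
  have e1 : ∀ χ, (g χ O - g χ O') ^ 2 = g χ O * g χ O + g χ O' * g χ O' - (g χ O * g χ O' + g χ O * g χ O') :=
    fun χ => by ring
  simp only [e1, Finset.sum_sub_distrib, Finset.sum_add_distrib, h.gram, if_neg hO, if_true]
  ring

theorem Data.var_total (h : Data B g orb e) :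
    ∑ χ ∈ B, var (g χ) = 2 * (Fintype.card ι : ℤ) * ((Fintype.card ι : ℤ) - 1) := by
  unfold var
  rw [Finset.sum_comm]
  have h1 : ∀ O, ∑ χ ∈ B, ∑ O', (g χ O - g χ O') ^ 2 = 2 * ((Fintype.card ι : ℤ) - 1) := by
    intro O
    rw [Finset.sum_comm, ← Finset.add_sum_erase _ _ (Finset.mem_univ O),
      Finset.sum_congr rfl fun O' hO' => h.diff (Finset.ne_of_mem_erase hO').symm, Finset.sum_const,
      Finset.card_erase_of_mem (Finset.mem_univ O), Finset.card_univ, nsmul_eq_mul]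
    simp only [sub_self, ne_eq, OfNat.ofNat_ne_zero, not_false_eq_true, zero_pow,
      Finset.sum_const_zero, zero_add]
    rw [Nat.cast_sub (Fintype.card_pos_iff.2 ⟨O⟩)]
    push_cast
    ring
  rw [Finset.sum_congr rfl fun O _ => h1 O, Finset.sum_const, Finset.card_univ, nsmul_eq_mul]
  ring

theorem Data.close (h : Data B g orb e) {χ : κ} (hχ : χ ∈ B) (O O' : ι) :
    |g χ O - g χ O'| ≤ 1 := by
  rcases eq_or_ne O O' with rfl | hne
  · simp
  · have h1 := Finset.single_le_sum (f := fun χ => (g χ O - g χ O') ^ 2) (fun χ _ => sq_nonneg _) hχ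
    rw [h.diff hne] at h1
    rw [abs_le]
    constructor <;> nlinarith

theorem Data.mem_of_orb (h : Data B g orb e) {χ ψ : κ} (hχ : χ ∈ B) (hψ : ψ ∈ orb χ) : ψ ∈ B :=
  h.sub χ hχ hψ

theorem Data.const (h : Data B g orb e) [Nonempty ι] {χ : κ} (hχ : χ ∈ B)
    (hc : ∀ O O', g χ O = g χ O') : orb χ = {χ} ∧ ∀ O, g χ O = 1 ∨ g χ O = -1 := by
  obtain ⟨O, hO⟩ := h.ne χ hχ
  have hval : ∀ ψ ∈ orb χ, g ψ O = g χ O := fun ψ hψ => by
    obtain ⟨π, hπ⟩ := h.perm χ hχ ψ hψ
    rw [← hc (π.symm O) O, hπ, π.apply_symm_apply]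
  have h1 := h.bound χ hχ O
  rw [Finset.sum_congr rfl hval, Finset.sum_const, nsmul_eq_mul, abs_mul, Nat.abs_cast] at h1
  have hc0 : 1 ≤ (orb χ).card := Finset.card_pos.2 ⟨χ, h.self χ hχ⟩
  have hg0 : 1 ≤ |g χ O| := Int.one_le_abs hO
  have hcard : (orb χ).card = 1 := by
    by_contra hne
    have : (2 : ℤ) ≤ ((orb χ).card : ℤ) := by exact_mod_cast (show 2 ≤ (orb χ).card by omega)
    nlinarith
  refine ⟨?_, fun O' => ?_⟩
  · obtain ⟨ψ, hψ⟩ := Finset.card_eq_one.1 hcard
    have := h.self χ hχ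
    rw [hψ, Finset.mem_singleton] at this
    rw [hψ, this]
  · rw [hcard, Nat.cast_one, one_mul] at h1
    rw [hc O' O]
    exact (abs_eq one_pos.le).1 (le_antisymm h1 hg0)

/-- The shape of a row which is not constant. -/
theorem Data.orbit (h : Data B g orb e) {χ : κ} (hχ : χ ∈ B) (hnc : ¬ ∀ O O', g χ O = g χ O') :
    (Fintype.card ι : ℤ) ^ 2 ≤ ∑ ψ ∈ orb χ, var (g ψ) ∧
      ((∑ ψ ∈ orb χ, var (g ψ) = 2 * (Fintype.card ι : ℤ) * ((Fintype.card ι : ℤ) - 1)) →
        ∃ (ε : ℤ) (O₁ : ι), (ε = 1 ∨ ε = -1) ∧ (∀ O, g χ O = if O = O₁ then ε else 0) ∧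
          ∀ O, ∑ ψ ∈ orb χ, g ψ O = ε) := by
  haveI : Nonempty ι := ⟨(h.ne χ hχ).choose⟩
  obtain ⟨O0, -, hmin⟩ := Finset.exists_min_image Finset.univ (g χ) Finset.univ_nonempty
  set u := g χ O0 with hu
  have htwo : ∀ O, g χ O = u ∨ g χ O = u + 1 := fun O => by
    have h1 := hmin O (Finset.mem_univ _)
    have h2 := abs_le.1 (h.close hχ O O0)
    omega
  set A := (Finset.univ.filter fun O => g χ O = u + 1).card with hA
  set r : ℤ := (Fintype.card ι : ℤ) with hr
  have hA1 : (1 : ℤ) ≤ A := by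
    rw [hA]
    refine Int.ofNat_le.2 (Finset.card_pos.2 ?_)
    by_contra hno
    refine hnc fun O O' => ?_
    have hu' : ∀ O, g χ O = u := fun O => (htwo O).resolve_right fun e =>
      hno ⟨O, Finset.mem_filter.2 ⟨Finset.mem_univ _, e⟩⟩
    rw [hu', hu']
  have hA2 : (A : ℤ) < r := by
    rw [hA, hr]
    refine Int.ofNat_lt.2 (Finset.card_lt_card ⟨Finset.subset_univ _, fun hs => ?_⟩)
    have := (Finset.mem_filter.1 (hs (Finset.mem_univ O0))).2
    omega
  have hS : ∑ O, g χ O = r * u + A := by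
    have : ∀ O, g χ O = u + if g χ O = u + 1 then 1 else 0 := fun O => by
      rcases htwo O with e | e
      · rw [if_neg (by omega), e, add_zero]
      · rw [if_pos e, e]
    rw [Finset.sum_congr rfl fun O _ => this O, Finset.sum_add_distrib, Finset.sum_const,
      Finset.card_univ, nsmul_eq_mul, Finset.sum_boole]
  set D := ∑ ψ ∈ orb χ, g ψ O0 with hD
  set c : ℤ := ((orb χ).card : ℤ) with hc
  have hcD : c * (r * u + A) = r * D := by
    have h1 : ∑ ψ ∈ orb χ, ∑ O, g ψ O = c * (r * u + A) := by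
      rw [Finset.sum_congr rfl fun ψ hψ => show ∑ O, g ψ O = r * u + A by
        obtain ⟨π, hπ⟩ := h.perm χ hχ ψ hψ
        rw [← hS, Finset.sum_congr rfl fun O _ => hπ O, Equiv.sum_comp π (g ψ)],
        Finset.sum_const, nsmul_eq_mul]
    rw [← h1, Finset.sum_comm, Finset.sum_congr rfl fun O _ => h.indep χ hχ O O0, Finset.sum_const,
      Finset.card_univ, nsmul_eq_mul]
  have hV : ∑ ψ ∈ orb χ, var (g ψ) = c * (2 * A * (r - A)) := by
    rw [Finset.sum_congr rfl fun ψ hψ => show var (g ψ) = 2 * A * (r - A) by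
      obtain ⟨π, hπ⟩ := h.perm χ hχ ψ hψ
      rw [← var_comp (g ψ) π, show (fun O => g ψ (π O)) = g χ from funext fun O => (hπ O).symm,
        var_two_values _ u htwo],
      Finset.sum_const, nsmul_eq_mul]
  set k := D - c * u with hk
  have hcA : c * A = r * k := by rw [hk]; linarith
  have hcA' : c * (r - A) = r * (c - k) := by rw [hk]; linarith
  have hc1 : (1 : ℤ) ≤ c := by
    rw [hc]; exact Int.ofNat_le.2 (Finset.card_pos.2 ⟨χ, h.self χ hχ⟩)
  have hk1 : 1 ≤ k := by
    by_contra hlt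
    have : r * k ≤ 0 := mul_nonpos_of_nonneg_of_nonpos (by linarith) (by linarith)
    nlinarith
  have hk2 : 1 ≤ c - k := by
    by_contra hlt
    have : r * (c - k) ≤ 0 := mul_nonpos_of_nonneg_of_nonpos (by linarith) (by linarith)
    nlinarith
  constructor
  · rw [hV]
    have h1 : r * (r - A) ≤ c * A * (r - A) := by
      rw [hcA]; exact mul_le_mul_of_nonneg_right (le_mul_of_one_le_right (by linarith) hk1) (by linarith)
    have h2 : r * A ≤ c * (r - A) * A := by
      rw [hcA']; exact mul_le_mul_of_nonneg_right (le_mul_of_one_le_right (by linarith) hk2) (by linarith)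
    nlinarith
  · intro heq
    rw [hV] at heq
    have hr0 : r ≠ 0 := by linarith
    have e1 : k * (r - A) = r - 1 := mul_left_cancel₀ hr0 (by
      rw [← mul_assoc, ← hcA]; linarith)
    have e2 : (c - k) * A = r - 1 := mul_left_cancel₀ hr0 (by
      rw [← mul_assoc, ← hcA']; linarith)
    have hB := h.bound χ hχ O0
    rw [← hD, abs_le] at hB
    -- one of the two values occurs once
    have hcase : (A : ℤ) = 1 ∨ r - A = 1 := by
      by_contra hno
      push Not at hno
      have a2 : (2 : ℤ) ≤ A := by omega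
      have b2 : (2 : ℤ) ≤ r - A := by omega
      have f1 : (k - 1) * (r - A) = A - 1 := by linarith
      have f2 : (c - k - 1) * A = r - A - 1 := by linarith
      have k2 : 1 ≤ k - 1 := by nlinarith
      have k3 : 1 ≤ c - k - 1 := by nlinarith
      have g1 : r - A ≤ A - 1 := f1 ▸ le_mul_of_one_le_left (by linarith) k2
      have g2 : (A : ℤ) ≤ r - A - 1 := f2 ▸ le_mul_of_one_le_left (by linarith) k3
      linarith
    have hOmin : g χ O0 = u := hu.symm
    have hgA : (A : ℤ) = 1 → u = 0 →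
        ∃ O₁, (∀ O, g χ O = if O = O₁ then (1 : ℤ) else 0) := by
      intro hA' hu0
      obtain ⟨O₁, hO₁⟩ := Finset.card_eq_one.1 (show A = 1 by exact_mod_cast hA')
      refine ⟨O₁, fun O => ?_⟩
      have hiff : g χ O = u + 1 ↔ O = O₁ := by
        rw [← Finset.mem_singleton (a := O₁), ← hO₁]; simp
      split_ifs with e
      · rw [hiff.2 e, hu0]; norm_num
      · rw [(htwo O).resolve_right fun q => e (hiff.1 q), hu0]
    have hgB : r - A = 1 → u = -1 →
        ∃ O₁, (∀ O, g χ O = if O = O₁ then (-1 : ℤ) else 0) := by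
      intro hA' hu0
      have hcomp : (Finset.univ.filter fun O => g χ O = u + 1)ᶜ.card = 1 := by
        have h1 : (((Finset.univ.filter fun O => g χ O = u + 1)ᶜ).card : ℤ) = r - A := by
          rw [Finset.card_compl, Nat.cast_sub (Finset.card_le_univ _)]
        exact_mod_cast h1.trans hA'
      obtain ⟨O₁, hO₁⟩ := Finset.card_eq_one.1 hcomp
      refine ⟨O₁, fun O => ?_⟩
      have hiff : g χ O ≠ u + 1 ↔ O = O₁ := by
        rw [← Finset.mem_singleton (a := O₁), ← hO₁]; simp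
      split_ifs with e
      · rw [(htwo O).resolve_right (hiff.2 e), hu0]
      · rw [not_ne_iff.1 fun q => e (hiff.1 q), hu0]; norm_num
    have hsum : ∀ O, ∑ ψ ∈ orb χ, g ψ O = D := fun O => h.indep χ hχ O O0
    rcases hcase with hA' | hA'
    · have ek : k = 1 := by
        rw [hA'] at e1
        exact mul_right_cancel₀ (show r - 1 ≠ 0 by linarith) (e1.trans (one_mul _).symm)
      have ec : c = r := by
        rw [hA', mul_one] at e2; linarith
      have hD1 : D = r * u + 1 := by rw [← ec, ← ek, hk]; ring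
      rcases eq_or_ne u 0 with hu0 | hu0
      · obtain ⟨O₁, hO₁⟩ := hgA hA' hu0
        exact ⟨1, O₁, Or.inl rfl, hO₁, fun O => by rw [hsum, hD1, hu0]; ring⟩
      · have hu1 : u ≤ -1 := by
          by_contra hlt
          have : 1 ≤ u := by omega
          nlinarith
        have hu2 : u = -1 := by nlinarith
        have hr2 : r = 2 := by
          rw [hu2] at hD1
          norm_num at hD1
          omega
        obtain ⟨O₁, hO₁⟩ := hgB (by linarith) hu2
        exact ⟨-1, O₁, Or.inr rfl, hO₁, fun O => by rw [hsum, hD1, hu2, hr2]; norm_num⟩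
    · have ek : k = r - 1 := by rw [hA', mul_one] at e1; exact e1
      have ec : c = r := by
        rw [show (A : ℤ) = r - 1 by linarith] at e2
        have : c - k = 1 := mul_right_cancel₀ (show r - 1 ≠ 0 by linarith) (e2.trans (one_mul _).symm)
        linarith
      have hD1 : D = r * (u + 1) - 1 := by rw [← ec]; linarith [hk]
      rcases eq_or_ne u (-1) with hu0 | hu0
      · obtain ⟨O₁, hO₁⟩ := hgB hA' hu0
        exact ⟨-1, O₁, Or.inr rfl, hO₁, fun O => by rw [hsum, hD1, hu0]; ring⟩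
      · have hu1 : 1 ≤ u + 1 := by
          by_contra hlt
          have : u + 1 ≤ -1 := by omega
          nlinarith
        have hu2 : u = 0 := by nlinarith
        have hr2 : r = 2 := by
          rw [hu2] at hD1
          norm_num at hD1
          omega
        obtain ⟨O₁, hO₁⟩ := hgA (by linarith) hu2
        exact ⟨1, O₁, Or.inl rfl, hO₁, fun O => by rw [hsum, hD1, hu2, hr2]; norm_num⟩

/-- The classification of the rows. -/
theorem Data.classify (h : Data B g orb e) [Nonempty ι] :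
    ∃ (Y : Finset κ) (ε : ℤ) (τ : κ → ι), Y ⊆ B ∧ (ε = 1 ∨ ε = -1) ∧ (B \ Y).card = e ∧
      (∀ χ ∈ B \ Y, orb χ = {χ} ∧ ∃ a : ℤ, (a = 1 ∨ a = -1) ∧ ∀ O, g χ O = a) ∧
      (∀ χ ∈ Y, orb χ = Y ∧ ∀ O, g χ O = if O = τ χ then ε else 0) ∧
      ∀ O, (Y.filter fun χ => τ χ = O).card = 1 := by
  classical
  obtain ⟨O0⟩ := ‹Nonempty ι›
  have diag : ∀ (Y : Finset κ) (ε : ℤ) (τ : κ → ι), Y ⊆ B → (ε = 1 ∨ ε = -1) →
      (∀ χ ∈ B \ Y, ∀ O, g χ O = 1 ∨ g χ O = -1) →
      (∀ χ ∈ Y, ∀ O, g χ O = if O = τ χ then ε else 0) →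
      (Y.filter fun χ => τ χ = O0).card = 1 → (B \ Y).card = e := by
    intro Y ε τ hY hε hX hYg h1
    have h2 := h.gram O0 O0
    rw [if_pos rfl, ← Finset.sum_sdiff hY,
      Finset.sum_congr rfl fun χ hχ => show g χ O0 * g χ O0 = 1 by
        rcases hX χ hχ O0 with e1 | e1 <;> rw [e1] <;> norm_num,
      Finset.sum_congr (s₁ := Y) rfl fun χ hχ => show g χ O0 * g χ O0 =
          if τ χ = O0 then (1 : ℤ) else 0 by
        rw [hYg χ hχ O0]
        by_cases e1 : τ χ = O0
        · rw [if_pos e1.symm, if_pos e1]; rcases hε with e2 | e2 <;> rw [e2] <;> norm_num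
        · rw [if_neg (fun q => e1 q.symm), if_neg e1, zero_mul],
      Finset.sum_boole, h1, Finset.sum_const, nsmul_eq_mul, mul_one, Nat.cast_one] at h2
    exact_mod_cast add_right_cancel h2
  by_cases hall : ∀ χ ∈ B, ∀ O O', g χ O = g χ O'
  · have hsingle : ∀ O, O = O0 := fun O => by
      by_contra hne
      have h1 := h.diff hne
      rw [Finset.sum_eq_zero fun χ hχ => by rw [hall χ hχ O O0, sub_self, zero_pow two_ne_zero]] at h1
      exact two_ne_zero h1.symm
    obtain ⟨χ0, hχ0⟩ : B.Nonempty := by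
      by_contra hno
      have h1 := h.gram O0 O0
      rw [Finset.not_nonempty_iff_eq_empty.1 hno, Finset.sum_empty, if_pos rfl] at h1
      omega
    have hε := (h.const hχ0 (hall χ0 hχ0)).2 O0
    have hY : ({χ0} : Finset κ) ⊆ B := Finset.singleton_subset_iff.2 hχ0
    have hYg : ∀ χ ∈ ({χ0} : Finset κ), ∀ O, g χ O = if O = O0 then g χ0 O0 else 0 := fun χ hχ O => by
      rw [Finset.mem_singleton.1 hχ, if_pos (hsingle O), hsingle O]
    have hfil : ∀ O, (({χ0} : Finset κ).filter fun _ => O0 = O).card = 1 := fun O => by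
      rw [Finset.filter_true_of_mem fun _ _ => (hsingle O).symm, Finset.card_singleton]
    refine ⟨{χ0}, g χ0 O0, fun _ => O0, hY, hε,
      diag _ _ (fun _ => O0) hY hε (fun χ hχ => (h.const (Finset.mem_sdiff.1 hχ).1
        (hall χ (Finset.mem_sdiff.1 hχ).1)).2) hYg (hfil O0), fun χ hχ => ?_, fun χ hχ => ?_, hfil⟩
    · have hB := (Finset.mem_sdiff.1 hχ).1
      exact ⟨(h.const hB (hall χ hB)).1, g χ O0, (h.const hB (hall χ hB)).2 O0,
        fun O => hall χ hB O O0⟩
    · refine ⟨?_, hYg χ hχ⟩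
      rw [Finset.mem_singleton.1 hχ]
      exact (h.const hχ0 (hall χ0 hχ0)).1
  · obtain ⟨χ0, hχ0, hnc⟩ : ∃ χ ∈ B, ¬ ∀ O O', g χ O = g χ O' := by
      by_contra hno
      push Not at hno
      exact hall hno
    set Y := orb χ0 with hYdef
    have hY : Y ⊆ B := h.sub χ0 hχ0
    have hr1 : (1 : ℤ) ≤ Fintype.card ι := by exact_mod_cast Fintype.card_pos
    -- only one orbit of such rows
    have honly : ∀ χ ∈ B, χ ∉ Y → ∀ O O', g χ O = g χ O' := by
      intro χ hχ hχY
      by_contra hnc'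
      have hdis : Disjoint Y (orb χ) := Finset.disjoint_left.2 fun ψ h1 h2 =>
        hχY (by rw [hYdef, ← h.eq χ0 hχ0 ψ h1, h.eq χ hχ ψ h2]; exact h.self χ hχ)
      have h1 := Finset.sum_le_sum_of_subset_of_nonneg (Finset.union_subset hY (h.sub χ hχ))
        (f := fun ψ => var (g ψ)) fun ψ _ _ => var_nonneg _
      rw [Finset.sum_union hdis, h.var_total] at h1
      have h2 := (h.orbit hχ0 hnc).1
      have h3 := (h.orbit hχ hnc').1
      nlinarith
    obtain ⟨ε, O₁, hε, hO₁, hD⟩ := (h.orbit hχ0 hnc).2 (by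
      rw [← h.var_total]
      refine Finset.sum_subset hY fun χ hχ hχY => ?_
      exact Finset.sum_eq_zero fun O _ => Finset.sum_eq_zero fun O' _ => by
        rw [honly χ hχ hχY O O', sub_self, zero_pow two_ne_zero])
    have hsh : ∀ ψ ∈ Y, ∃ O₂, ∀ O, g ψ O = if O = O₂ then ε else 0 := fun ψ hψ => by
      obtain ⟨π, hπ⟩ := h.perm χ0 hχ0 ψ hψ
      refine ⟨π O₁, fun O => ?_⟩
      have := hπ (π.symm O)
      rw [π.apply_symm_apply, hO₁] at this
      rw [← this]
      by_cases e1 : O = π O₁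
      · rw [if_pos e1, if_pos (by rw [e1, π.symm_apply_apply])]
      · rw [if_neg e1, if_neg fun q => e1 (by rw [← q, π.apply_symm_apply])]
    choose! τ hτ using hsh
    have hfil : ∀ O, (Y.filter fun χ => τ χ = O).card = 1 := fun O => by
      have h1 := hD O
      rw [Finset.sum_congr rfl fun ψ hψ => show g ψ O = if τ ψ = O then ε else 0 by
        rw [hτ ψ hψ O]; simp only [eq_comm], ← Finset.sum_filter, Finset.sum_const, nsmul_eq_mul] at h1
      rcases hε with e1 | e1 <;> rw [e1] at h1 <;>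
        exact_mod_cast (by linarith : ((Y.filter fun χ => τ χ = O).card : ℤ) = 1)
    refine ⟨Y, ε, τ, hY, hε,
      diag Y ε τ hY hε (fun χ hχ => (h.const (Finset.mem_sdiff.1 hχ).1
        (honly χ (Finset.mem_sdiff.1 hχ).1 (Finset.mem_sdiff.1 hχ).2)).2) hτ (hfil O0),
      fun χ hχ => ?_, fun χ hχ => ⟨h.eq χ0 hχ0 χ hχ, hτ χ hχ⟩, hfil⟩
    obtain ⟨hB, hnY⟩ := Finset.mem_sdiff.1 hχ
    have hc := honly χ hB hnY
    exact ⟨(h.const hB hc).1, g χ O0, (h.const hB hc).2 O0, fun O => hc O O0⟩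

end CfsgLib.Blocks.DefectOneColumns
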