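import Cfsg.Agent.Lib.Blocks.DefectOneBound
import Cfsg.Agent.Lib.Blocks.DefectOneColumns
import Cfsg.Agent.Lib.Blocks.ComplexAut

/-!
# Blocks with a Sylow subgroup of prime order: the structure
-/

namespace CfsgLib.Blocks.DefectOne

open Cfsg CfsgLib.CharTheory CfsgLib.CharTheory.SmallDegree CfsgLib.Blocks.GaloisLattice
open scoped ComplexConjugate

set_option linter.unusedVariables false
set_option linter.style.haveILetI false
set_option linter.unusedSectionVars false

universe u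

noncomputable local instance normalizerFintype' {G : Type u} [Group G] [Fintype G] (P : Subgroup G) :
    Fintype (Subgroup.normalizer (P : Set G)) :=
  Fintype.ofFinite _

variable {G : Type u} [Group G] [Fintype G] {p : ℕ} {M : Ideal AlgInt} {P H : Subgroup G}
  [Fintype P] [Fintype (cen P)] [Fintype H] {B : Set (IrrCharacter G)} {θ : IrrCharacter (cen P)}

/-- The structure of the block: `e` rows with constant differences, one orbit of `(p - 1) / e`
rows with a single difference each. -/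
structure Shape (h : Setup p P) (hH : Compl P H) (B : Set (IrrCharacter G))
    (θ : IrrCharacter (cen P)) (X Y : Finset (IrrCharacter G)) (ε : ℤ)
    (a : IrrCharacter G → ℤ) (τ : IrrCharacter G → IrrCharacter P) : Prop where
  union : (X : Set (IrrCharacter G)) ∪ (Y : Set (IrrCharacter G)) = B
  disj : Disjoint X Y
  cardX : X.card = (cen P).relIndex (stab θ)
  cardY : Y.card * (cen P).relIndex (stab θ) = p - 1
  hε : ε = 1 ∨ ε = -1
  ha : ∀ χ ∈ X, a χ = 1 ∨ a χ = -1
  orbX : ∀ χ ∈ X, galOrbit p χ = {χ}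
  rowX : ∀ χ ∈ X, ∀ ν, ν ≠ oneP P → ddz h hH θ χ ν = a χ
  orbY : ∀ χ ∈ Y, galOrbit p χ = Y
  neY : ∀ χ ∈ Y, τ χ ≠ oneP P
  rowY : ∀ χ ∈ Y, ∀ ν, ν ≠ oneP P →
    (Sim θ ν (τ χ) → ddz h hH θ χ ν = ε) ∧ (¬ Sim θ ν (τ χ) → ddz h hH θ χ ν = 0)
  hit : ∀ ν, ν ≠ oneP P → ∃! χ, χ ∈ Y ∧ Sim θ ν (τ χ)

theorem exists_shape (hM : IsPModular p M) (h : Setup p P) (hH : Compl P H)
    (hr : Root hM h hH B θ) : ∃ X Y ε a τ, Shape h hH B θ X Y ε a τ := by
  classical
  let N1 := {ν : IrrCharacter P // ν ≠ oneP P}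
  let s : Setoid N1 := ⟨fun a b => Sim θ a.1 b.1, fun a => sim_refl θ _, sim_symm, sim_trans⟩
  let ι := Quotient s
  haveI : Fintype ι := Fintype.ofFinite ι
  obtain ⟨ν0, hν0⟩ := exists_nontrivial h hr.card
  haveI : Nonempty ι := ⟨Quotient.mk s ⟨ν0, hν0⟩⟩
  let g : IrrCharacter G → ι → ℤ := fun χ O => ddz h hH θ χ O.out.1
  have hout : ∀ (χ : IrrCharacter G) (ν : N1), g χ (Quotient.mk s ν) = ddz h hH θ χ ν.1 := by
    intro χ ν
    obtain ⟨x, hx, e⟩ := (Quotient.mk_out (s := s) ν : Sim θ _ ν.1)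
    show ddz h hH θ χ _ = _
    rw [← e, ddz, ddz, dd_conjugate h hH hr.card hr.ker hx]
  have hdata : DefectOneColumns.Data (bset B) g (galOrbit p) ((cen P).relIndex (stab θ)) :=
    { gram := fun O O' => by
        rw [gram hM h hH hr O.out.2 O'.out.2]
        congr 1
        exact if_congr (Quotient.out_equiv_out (s := s)) rfl rfl
      ne := fun χ hχ => by
        obtain ⟨ν, hν, hne⟩ := exists_ddz_ne hM h hH hr (mem_bset.1 hχ)
        exact ⟨Quotient.mk s ⟨ν, hν⟩, by rwa [hout]⟩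
      self := fun χ _ => self_mem_galOrbit χ
      sub := fun χ hχ ψ hψ =>
        mem_bset.2 (galOrbit_mem_block hM (dvd_card hr.card) hr.ind.2.1 (mem_bset.1 hχ) hψ)
      eq := fun χ _ ψ hψ => galOrbit_eq hψ
      perm := fun χ _ ψ hψ => by
        obtain ⟨m, hm, rfl⟩ := mem_galOrbit'.1 hψ
        let f : N1 → N1 := fun ν => ⟨powIrr (coprime_sub P hm) ν.1, pow_ne_one hm ν.2⟩
        let π : ι → ι := Quotient.map f fun a b hab => sim_pow hm hab
        have hsurj : Function.Surjective π := by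
          intro O
          obtain ⟨m', hm', e⟩ := exists_galExp_inv hm
          refine ⟨Quotient.mk s ⟨powIrr (coprime_sub P hm') O.out.1, pow_ne_one hm' O.out.2⟩, ?_⟩
          show Quotient.mk s (f _) = O
          conv_rhs => rw [← Quotient.out_eq O]
          refine congrArg _ (Subtype.ext (Subtype.ext (funext fun x => ?_)))
          show (O.out.1 : P → ℂ) ((x ^ m) ^ m') = _
          refine congrArg _ (Subtype.ext ?_)
          rw [← pow_mul, mul_comm, pow_mul]
          push_cast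
          exact e x
        refine ⟨Equiv.ofBijective π ((Finite.surjective_iff_bijective).1 hsurj), fun O => ?_⟩
        show g χ O = g (powIrr hm.1 χ) (π O)
        conv_rhs => rw [← Quotient.out_eq O]
        show _ = g _ (Quotient.mk s (f O.out))
        rw [hout, ddz_pow h hH hr.card hr.ker hm]
      indep := fun χ _ O O' =>
        (orbD_indep h hH hr.card hr.ker χ O.out.2 O'.out.2).symm
      bound := fun χ _ O => abs_orbD_le hM h hH hr.card hr.ker χ O.out.2 }
  obtain ⟨Y, ε, τ, hY, hε, hcX, hX, hYr, hhit⟩ := hdata.classify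
  let a : IrrCharacter G → ℤ := fun χ => g χ (Quotient.mk s ⟨ν0, hν0⟩)
  have hsim : ∀ (ν : N1) (O : ι), Sim θ ν.1 O.out.1 ↔ Quotient.mk s ν = O := fun ν O => by
    conv_rhs => rw [← Quotient.out_eq O]
    exact (Quotient.eq (r := s)).symm
  have hcardι : Fintype.card ι * (cen P).relIndex (stab θ) = p - 1 := by
    have h1 : Fintype.card N1 = p - 1 := by
      rw [Fintype.card_subtype_compl, Fintype.card_subtype_eq, card_irr_P h hr.card]
    rw [← h1, ← Finset.card_univ (α := N1),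
      Finset.card_eq_sum_card_fiberwise (f := Quotient.mk s) (t := (Finset.univ : Finset ι))
        (fun x _ => Finset.mem_univ _),
      Finset.sum_congr rfl fun O _ => show (Finset.univ.filter fun ν : N1 => Quotient.mk s ν = O).card =
          (cen P).relIndex (stab θ) by
        rw [← card_sim h (θ := θ) O.out.2]
        refine Finset.card_bij (fun ν _ => ν.1) (fun ν hν => ?_) (fun a _ b _ e => Subtype.ext e)
          fun ν hν => ?_
        · exact Finset.mem_filter.2 ⟨Finset.mem_univ _, (hsim ν O).2 (Finset.mem_filter.1 hν).2⟩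
        · have h2 := (Finset.mem_filter.1 hν).2
          exact ⟨⟨ν, sim_ne_one h h2 O.out.2⟩, Finset.mem_filter.2 ⟨Finset.mem_univ _,
            (hsim ⟨ν, sim_ne_one h h2 O.out.2⟩ O).1 h2⟩, rfl⟩,
      Finset.sum_const, Finset.card_univ, smul_eq_mul]
  refine ⟨bset B \ Y, Y, ε, a, fun χ => (τ χ).out.1, ?_⟩
  refine
    { union := ?_
      disj := Finset.sdiff_disjoint
      cardX := hcX
      cardY := ?_
      hε := hε
      ha := fun χ hχ => ?_
      orbX := fun χ hχ => (hX χ hχ).1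
      rowX := fun χ hχ ν hν => ?_
      orbY := fun χ hχ => (hYr χ hχ).1
      neY := fun χ _ => (τ χ).out.2
      rowY := fun χ hχ ν hν => ?_
      hit := fun ν hν => ?_ }
  · rw [← Finset.coe_union, Finset.sdiff_union_of_subset hY]
    ext χ
    exact mem_bset
  · rw [← hcardι, ← Finset.card_univ (α := ι), Finset.card_eq_sum_card_fiberwise (f := τ) (s := Y)
      (t := (Finset.univ : Finset ι)) (fun _ _ => Finset.mem_univ _),
      Finset.sum_congr rfl fun O _ => hhit O, Finset.card_eq_sum_ones]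
  · obtain ⟨-, b, hb, hb'⟩ := hX χ hχ
    show g χ _ = 1 ∨ g χ _ = -1
    rw [hb']; exact hb
  · obtain ⟨-, b, hb, hb'⟩ := hX χ hχ
    rw [← hout χ ⟨ν, hν⟩, hb']
    exact (hb' _).symm
  · have h1 := (hYr χ hχ).2 (Quotient.mk s ⟨ν, hν⟩)
    rw [hout] at h1
    exact ⟨fun hs => by rw [h1, if_pos ((hsim ⟨ν, hν⟩ _).1 hs)],
      fun hs => by rw [h1, if_neg fun q => hs ((hsim ⟨ν, hν⟩ _).2 q)]⟩
  · obtain ⟨χ, hχ⟩ := Finset.card_eq_one.1 (hhit (Quotient.mk s ⟨ν, hν⟩))
    have h1 : ∀ ψ, (ψ ∈ Y ∧ Sim θ ν (τ ψ).out.1) ↔ ψ = χ := fun ψ => by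
      rw [← Finset.mem_singleton (a := χ), ← hχ, Finset.mem_filter, hsim ⟨ν, hν⟩, eq_comm (a := τ ψ)]
    exact ⟨χ, (h1 χ).2 rfl, fun ψ hψ => (h1 ψ).1 hψ⟩

variable {X Y : Finset (IrrCharacter G)} {ε : ℤ} {a : IrrCharacter G → ℤ}
  {τ : IrrCharacter G → IrrCharacter P}

theorem Shape.mem_X {h : Setup p P} {hH : Compl P H} (S : Shape h hH B θ X Y ε a τ)
    {χ : IrrCharacter G} (hχ : χ ∈ X) : χ ∈ B := S.union ▸ Or.inl hχ

theorem Shape.mem_Y {h : Setup p P} {hH : Compl P H} (S : Shape h hH B θ X Y ε a τ)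
    {χ : IrrCharacter G} (hχ : χ ∈ Y) : χ ∈ B := S.union ▸ Or.inr hχ

theorem Shape.bset_eq [DecidableEq (IrrCharacter G)] {h : Setup p P} {hH : Compl P H}
    (S : Shape h hH B θ X Y ε a τ) : bset B = X ∪ Y := by
  ext χ
  rw [mem_bset, ← S.union, Finset.mem_union]
  rfl

theorem Shape.nonempty_Y {h : Setup p P} {hH : Compl P H} (S : Shape h hH B θ X Y ε a τ)
    (hP : Nat.card P = p) : Y.Nonempty := by
  obtain ⟨ν, hν⟩ := exists_nontrivial h hP
  obtain ⟨χ, hχ, -⟩ := S.hit ν hν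
  exact ⟨χ, hχ.1⟩

/-- The relation on regular elements. -/
theorem Shape.relation (hM : IsPModular p M) {h : Setup p P} {hH : Compl P H}
    (hr : Root hM h hH B θ) (S : Shape h hH B θ X Y ε a τ) {η : IrrCharacter G} (hη : η ∈ Y)
    {g : G} (hg : ¬ p ∣ orderOf g) :
    ∑ χ ∈ X, (a χ : ℂ) * (χ : G → ℂ) g + (ε : ℂ) * (η : G → ℂ) g = 0 := by
  classical
  have hν := S.neY η hη
  have h1 := congrFun (alpha_eq_sum hM h hH hr (τ η)) g
  rw [alpha_regular h hH hr.card hr.ker _ hg, S.bset_eq, Finset.sum_apply,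
    Finset.sum_union S.disj] at h1
  rw [h1]
  congr 1
  · exact Finset.sum_congr rfl fun χ hχ => by
      rw [Pi.smul_apply, smul_eq_mul, dd_eq_cast, S.rowX χ hχ _ hν]
  · rw [Finset.sum_eq_single η]
    · rw [Pi.smul_apply, smul_eq_mul, dd_eq_cast, (S.rowY η hη _ hν).1 (sim_refl θ _)]
    · intro χ hχ hne
      rw [Pi.smul_apply, smul_eq_mul, dd_eq_cast, (S.rowY χ hχ _ hν).2, Int.cast_zero, zero_mul]
      intro hs
      exact hne ((S.hit _ hν).unique ⟨hχ, hs⟩ ⟨hη, sim_refl θ _⟩)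
    · exact fun h0 => absurd hη h0

theorem Shape.agree (hM : IsPModular p M) {h : Setup p P} {hH : Compl P H}
    (hr : Root hM h hH B θ) (S : Shape h hH B θ X Y ε a τ) {η η' : IrrCharacter G} (hη : η ∈ Y)
    (hη' : η' ∈ Y) {g : G} (hg : ¬ p ∣ orderOf g) : (η : G → ℂ) g = (η' : G → ℂ) g := by
  have h1 := S.relation hM hr hη hg
  rw [← S.relation hM hr hη' hg, add_right_inj] at h1
  refine mul_left_cancel₀ ?_ h1
  rcases S.hε with e | e <;> rw [e] <;> norm_num

theorem nConj_ne_one {g : G} (hg : g ∈ Subgroup.normalizer (P : Set G)) {ν : IrrCharacter P}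
    (hν : ν ≠ oneP P) : nConj hg ν ≠ oneP P := fun e => hν (Subtype.ext (funext fun c => by
  have h1 := congrFun (congrArg Subtype.val e)
    ⟨g⁻¹ * c * g, (Subgroup.mem_normalizer_iff.1 hg _).2 (by simpa [mul_assoc] using c.2)⟩
  show (ν : P → ℂ) c = 1
  rw [← show _ = (1 : ℂ) from h1]
  exact congrArg (ν : P → ℂ) (Subtype.ext (by simp [mul_assoc]))))

theorem sum_nontriv (h : Setup p P) [DecidableEq (IrrCharacter P)] {x : P} (hx : (x : G) ≠ 1) :
    ∑ ν ∈ Finset.univ.erase (oneP P), (ν : P → ℂ) x = -1 := by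
  have h1 := sum_nu h hx
  rw [← Finset.add_sum_erase _ _ (Finset.mem_univ (oneP P)), show (oneP P : P → ℂ) x = 1 from rfl] at h1
  exact eq_neg_of_add_eq_zero_right h1

theorem value_nu (hM : IsPModular p M) (h : Setup p P) (hH : Compl P H)
    (hr : Root hM h hH B θ) {χ : IrrCharacter G} (hχ : χ ∈ B) (x : P) (hx : (x : G) ≠ 1) (y : H)
    [DecidableEq (IrrCharacter P)] :
    (Nat.card (stab θ) : ℂ) * (χ : G → ℂ) ((x : G) * y) =
      ∑ n : Subgroup.normalizer (P : Set G), ∑ ν ∈ Finset.univ.erase (oneP P),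
        (ddz h hH θ χ ν : ℂ) * ((nConj n.2 ν : P → ℂ) x * resH hH (cConj n.2 θ) y) := by
  rw [value_singular hM h hH hr hχ x hx y]
  refine Finset.sum_congr rfl fun n _ => ?_
  rw [← Finset.add_sum_erase _ _ (Finset.mem_univ (oneP P)), dd_one h hH hr.ker, zero_mul, zero_add]
  refine Finset.sum_congr rfl fun ν _ => ?_
  rw [dd_eq_cast, (cConj_mk h hH hr.card hr.ker n.2 ν).2,
    mk_apply h hH (cConj_mk h hH hr.card hr.ker n.2 ν).1]

theorem sum_nConj (h : Setup p P) {g : G} (hg : g ∈ Subgroup.normalizer (P : Set G)) {x : P}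
    (hx : (x : G) ≠ 1) [DecidableEq (IrrCharacter P)] :
    ∑ ν ∈ Finset.univ.erase (oneP P), (nConj hg ν : P → ℂ) x = -1 :=
  sum_nontriv h (x := ⟨g * x * g⁻¹, (Subgroup.mem_normalizer_iff.1 hg _).1 x.2⟩)
    fun e => hx (conj_eq_one_iff.1 e)

/-- The values of the characters with constant differences. -/
theorem Shape.valueX (hM : IsPModular p M) {h : Setup p P} {hH : Compl P H}
    (hr : Root hM h hH B θ) (S : Shape h hH B θ X Y ε a τ) {χ : IrrCharacter G} (hχ : χ ∈ X)
    (x : P) (hx : (x : G) ≠ 1) (y : H) :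
    (Nat.card (stab θ) : ℂ) * (χ : G → ℂ) ((x : G) * y) =
      -(a χ : ℂ) * ∑ n : Subgroup.normalizer (P : Set G), resH hH (cConj n.2 θ) y := by
  classical
  rw [value_nu hM h hH hr (S.mem_X hχ) x hx y, Finset.mul_sum]
  refine Finset.sum_congr rfl fun n _ => ?_
  rw [Finset.sum_congr rfl fun ν hν => by rw [S.rowX χ hχ ν (Finset.ne_of_mem_erase hν)],
    ← Finset.mul_sum, ← Finset.sum_mul, sum_nConj h n.2 hx]
  ring

/-- The degree modulo `p`. -/
theorem degree_modEq (hM : IsPModular p M) (h : Setup p P) (hH : Compl P H)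
    (hr : Root hM h hH B θ) {χ : IrrCharacter G} (hχ : χ ∈ B) [DecidableEq (IrrCharacter P)] :
    (charDegree (χ : G → ℂ) : ℤ) ≡ ((stab θ).relIndex (Subgroup.normalizer (P : Set G)) : ℤ) *
      charDegree (θ : cen P → ℂ) * ∑ ν ∈ Finset.univ.erase (oneP P), ddz h hH θ χ ν [ZMOD p] := by
  classical
  set N := Subgroup.normalizer (P : Set G)
  set S : ℂ := ∑ x ∈ Finset.univ.erase (1 : P), (χ : G → ℂ) x with hS
  set σ := ∑ ν ∈ Finset.univ.erase (oneP P), ddz h hH θ χ ν with hσ
  have hcardN : Nat.card N = Nat.card (stab θ) * (stab θ).relIndex N := by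
    rw [← Subgroup.card_mul_index ((stab θ).subgroupOf N),
      Nat.card_congr (Subgroup.subgroupOfEquivOfLe (stab_le θ)).toEquiv]
    rfl
  have h1 : (Nat.card (stab θ) : ℂ) * S =
      -((Nat.card N : ℂ) * ((θ : cen P → ℂ) 1 * (σ : ℂ))) := by
    have hterm : ∀ x ∈ Finset.univ.erase (1 : P), (Nat.card (stab θ) : ℂ) * (χ : G → ℂ) x =
        ∑ n : N, ∑ ν ∈ Finset.univ.erase (oneP P),
          (ddz h hH θ χ ν : ℂ) * ((nConj n.2 ν : P → ℂ) x * resH hH (cConj n.2 θ) 1) := by
      intro x hx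
      have h2 := value_nu hM h hH hr hχ x (fun e => Finset.ne_of_mem_erase hx (Subtype.ext e)) 1
      rwa [Subgroup.coe_one, mul_one] at h2
    rw [hS, Finset.mul_sum, Finset.sum_congr rfl hterm, Finset.sum_comm]
    rw [Nat.card_eq_fintype_card (α := N), ← Finset.card_univ (α := N), ← nsmul_eq_mul,
      ← Finset.sum_const, ← Finset.sum_neg_distrib]
    refine Finset.sum_congr rfl fun n _ => ?_
    rw [Finset.sum_comm, hσ, Int.cast_sum, Finset.mul_sum, ← Finset.sum_neg_distrib]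
    refine Finset.sum_congr rfl fun ν hν => ?_
    rw [← Finset.mul_sum, ← Finset.sum_mul]
    have hd1 : resH hH (cConj n.2 θ) 1 = (θ : cen P → ℂ) 1 := by
      show (θ : cen P → ℂ) (cEquiv n.2 1) = _
      rw [map_one]
    have hsum : ∑ x ∈ Finset.univ.erase (1 : P), (nConj n.2 ν : P → ℂ) x = -1 := by
      have h3 := classInner_irr_ne (nConj n.2 ν).2 (isIrrCharacter_one : IsIrrCharacter P fun _ => 1)
        fun e => nConj_ne_one n.2 (Finset.ne_of_mem_erase hν) (Subtype.ext e)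
      rw [classInner, mul_eq_zero, inv_eq_zero, Nat.cast_eq_zero] at h3
      have h4 := h3.resolve_left Nat.card_pos.ne'
      simp only [map_one, mul_one] at h4
      rw [← Finset.add_sum_erase _ _ (Finset.mem_univ (1 : P)), irrP_one h] at h4
      exact eq_neg_of_add_eq_zero_right h4
    rw [hsum, hd1]
    ring
  have h2 : S = -(((stab θ).relIndex N : ℂ) * ((θ : cen P → ℂ) 1 * (σ : ℂ))) := by
    refine mul_left_cancel₀ (Nat.cast_ne_zero.2 (Nat.card_pos (α := stab θ)).ne') (h1.trans ?_)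
    rw [hcardN, Nat.cast_mul]; ring
  obtain ⟨n, hn⟩ := classInner_char_nat (isCharacter_restrict (isCharacter_of_irr χ.2) P)
    (isCharacter_of_irr (isIrrCharacter_one : IsIrrCharacter P fun _ => 1))
  have h3 : (χ : G → ℂ) 1 + S = (p : ℂ) * n := by
    rw [classInner, hr.card, inv_mul_eq_iff_eq_mul₀ (Nat.cast_ne_zero.2 h.prime.ne_zero)] at hn
    simp only [map_one, mul_one] at hn
    rw [← hn, ← Finset.add_sum_erase _ _ (Finset.mem_univ (1 : P))]
    rfl
  rw [h2, ← irr_charDegree_cast χ, ← irr_charDegree_cast θ] at h3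
  have h4 : (charDegree (χ : G → ℂ) : ℤ) - ((stab θ).relIndex N : ℤ) *
      charDegree (θ : cen P → ℂ) * σ = (p : ℤ) * n := by
    have h5 : (((charDegree (χ : G → ℂ) : ℤ) - ((stab θ).relIndex N : ℤ) *
        charDegree (θ : cen P → ℂ) * σ : ℤ) : ℂ) = (((p : ℤ) * n : ℤ) : ℂ) := by
      push_cast; linear_combination h3
    exact_mod_cast h5
  rw [Int.modEq_iff_dvd]
  exact ⟨-(n : ℤ), by linarith⟩

theorem relIndex_mul (θ : IrrCharacter (cen P)) :
    (cen P).relIndex (stab θ) * (stab θ).relIndex (Subgroup.normalizer (P : Set G)) =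
      (cen P).relIndex (Subgroup.normalizer (P : Set G)) :=
  Subgroup.relIndex_mul_relIndex _ _ _ (cen_le_stab θ) (stab_le θ)

theorem Shape.degX (hM : IsPModular p M) {h : Setup p P} {hH : Compl P H}
    (hr : Root hM h hH B θ) (S : Shape h hH B θ X Y ε a τ) {χ : IrrCharacter G} (hχ : χ ∈ X) :
    (charDegree (χ : G → ℂ) : ℤ) ≡ -a χ *
      (((cen P).relIndex (Subgroup.normalizer (P : Set G)) / (cen P).relIndex (stab θ) *
        charDegree (θ : cen P → ℂ) : ℕ) : ℤ) [ZMOD p] := by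
  classical
  refine (degree_modEq hM h hH hr (S.mem_X hχ)).trans ?_
  have hdiv : (cen P).relIndex (Subgroup.normalizer (P : Set G)) / (cen P).relIndex (stab θ) =
      (stab θ).relIndex (Subgroup.normalizer (P : Set G)) := by
    rw [← relIndex_mul θ, Nat.mul_div_cancel_left _ (show 0 < (cen P).relIndex (stab θ) from
      Nat.pos_of_ne_zero Subgroup.index_ne_zero_of_finite)]
  rw [hdiv, Finset.sum_congr rfl fun ν hν => S.rowX χ hχ ν (Finset.ne_of_mem_erase hν),
    Finset.sum_const, Finset.card_erase_of_mem (Finset.mem_univ _), Finset.card_univ,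
    card_irr_P h hr.card, nsmul_eq_mul, Int.modEq_iff_dvd, Nat.cast_sub h.prime.one_le]
  push_cast
  exact ⟨-((stab θ).relIndex (Subgroup.normalizer (P : Set G)) * charDegree (θ : cen P → ℂ) * a χ),
    by ring⟩

theorem Shape.degY (hM : IsPModular p M) {h : Setup p P} {hH : Compl P H}
    (hr : Root hM h hH B θ) (S : Shape h hH B θ X Y ε a τ) {χ : IrrCharacter G} (hχ : χ ∈ Y) :
    (charDegree (χ : G → ℂ) : ℤ) ≡ ε * (((cen P).relIndex (Subgroup.normalizer (P : Set G)) *
      charDegree (θ : cen P → ℂ) : ℕ) : ℤ) [ZMOD p] := by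
  classical
  refine (degree_modEq hM h hH hr (S.mem_Y hχ)).trans ?_
  have hsum : ∑ ν ∈ Finset.univ.erase (oneP P), ddz h hH θ χ ν =
      ε * ((cen P).relIndex (stab θ) : ℤ) := by
    rw [← card_sim h (θ := θ) (S.neY χ hχ), ← Finset.sum_subset
      (s₁ := Finset.univ.filter fun ν => Sim θ ν (τ χ))
      (fun ν hν => Finset.mem_erase.2 ⟨sim_ne_one h (Finset.mem_filter.1 hν).2 (S.neY χ hχ),
        Finset.mem_univ _⟩)
      (fun ν hν hn => (S.rowY χ hχ ν (Finset.ne_of_mem_erase hν)).2 fun hs =>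
        hn (Finset.mem_filter.2 ⟨Finset.mem_univ _, hs⟩)),
      Finset.sum_congr rfl fun ν hν => (S.rowY χ hχ ν (sim_ne_one h (Finset.mem_filter.1 hν).2
        (S.neY χ hχ))).1 (Finset.mem_filter.1 hν).2, Finset.sum_const, nsmul_eq_mul, mul_comm]
  rw [hsum, ← relIndex_mul θ]
  push_cast
  rw [Int.modEq_iff_dvd]
  exact ⟨0, by ring⟩

/-- A character not vanishing on a singular element gives a root. -/
theorem exists_root (hM : IsPModular p M) (h : Setup p P) (hH : Compl P H) (hP : Nat.card P = p)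
    (hB : IsPBlock M B) (hd : 0 < blockDefect p B) : ∃ θ, Root hM h hH B θ := by
  classical
  haveI : Fact p.Prime := ⟨h.prime⟩
  obtain ⟨χ, hχ, hdv⟩ : ∃ χ ∈ B, dv p (χ : G → ℂ) = 0 := by
    obtain ⟨χ, hχ, h0⟩ := exists_height_zero hM hB
    refine ⟨χ, hχ, ?_⟩
    have h1 : (Nat.card G).factorization p ≤ 1 := by
      refine Nat.lt_succ_iff.1 (Nat.lt_of_not_le fun h2 => sq_not_dvd h hP ?_)
      exact (h.prime.pow_dvd_iff_le_factorization Nat.card_pos.ne').2 h2
    have h2 := blockDefect_eq p B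
    omega
  obtain ⟨x, hx, hne⟩ : ∃ x : P, (x : G) ≠ 1 ∧ (χ : G → ℂ) x ≠ 0 := by
    by_contra hno
    push Not at hno
    obtain ⟨n, hn⟩ := classInner_char_nat (isCharacter_restrict (isCharacter_of_irr χ.2) P)
      (isCharacter_of_irr (isIrrCharacter_one : IsIrrCharacter P fun _ => 1))
    rw [classInner, Finset.sum_eq_single (1 : P) (fun x _ hx => by
      rw [hno x fun e => hx (Subtype.ext e), zero_mul]) (fun h0 => absurd (Finset.mem_univ _) h0),
      map_one, mul_one, hP, Subgroup.coe_one,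
      inv_mul_eq_iff_eq_mul₀ (Nat.cast_ne_zero.2 h.prime.ne_zero), ← Nat.cast_mul,
      ← irr_charDegree_cast χ, Nat.cast_inj] at hn
    have h3 : 1 ≤ dv p (χ : G → ℂ) := by
      refine h.prime.factorization_pos_of_dvd (fun h0 => ?_) ⟨n, hn⟩
      exact irr_one_ne_zero χ (by rw [← irr_charDegree_cast, h0, Nat.cast_zero])
    omega
  obtain ⟨μ, hμ⟩ : (bset (overBlocks M (cen P) B)).Nonempty := by
    by_contra hno
    have h1 := value_eq_sum hM h hH hP hB hχ x hx 1
    rw [Finset.not_nonempty_iff_eq_empty.1 hno, Finset.sum_empty, Subgroup.coe_one, mul_one] at h1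
    exact hne h1
  let ν : IrrCharacter P := ⟨fun z => SmallDegree.lam h μ z⁻¹, by
    let φ : P →* ℂ :=
      { toFun := fun z => SmallDegree.lam h μ z⁻¹
        map_one' := by rw [inv_one, (lam_spec h μ).2.1]
        map_mul' := fun a b => by
          rw [show (a * b)⁻¹ = a⁻¹ * b⁻¹ by
            rw [mul_inv_rev]; exact Subtype.ext (h.comm (P.inv_mem b.2) (P.inv_mem a.2)),
            (lam_spec h μ).2.2.1] }
    exact isIrrCharacter_linear φ.toHomUnits⟩
  refine ⟨mk h hH μ ν, hP, funext fun z => ?_, ?_⟩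
  · have e1 : ∀ (z : P) (y : H), (mk h hH μ ν : cen P → ℂ) (pr h hH (z, y)) = resH hH μ y := by
      intro z y
      show (μ : cen P → ℂ) _ * SmallDegree.lam h μ (projP h hH _)⁻¹ = _
      rw [projP_pr, apply_xy, mul_right_comm, ← (lam_spec h μ).2.2.1, mul_inv_cancel,
        (lam_spec h μ).2.1, one_mul]
    have e2 := e1 z 1
    have e3 := e1 1 1
    show (mk h hH μ ν : cen P → ℂ) _ / _ = 1
    rw [show (⟨(z : G), h.le_cent z.2⟩ : cen P) = pr h hH (z, 1) from Subtype.ext (mul_one _).symm,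
      show (1 : cen P) = pr h hH (1, 1) from Subtype.ext (mul_one _).symm, e2, e3]
    exact div_self (by rw [resH_one]; exact irr_ne_zero μ.2)
  · have hres : resH hH (mk h hH μ ν) = resH hH μ := by
      funext y
      show (μ : cen P → ℂ) ⟨y, hH.le y.2⟩ * SmallDegree.lam h μ (projP h hH ⟨y, hH.le y.2⟩)⁻¹ = _
      rw [show (⟨(y : G), hH.le y.2⟩ : cen P) = pr h hH (1, y) from Subtype.ext (one_mul _).symm,
        projP_pr, inv_one, (lam_spec h μ).2.1, mul_one]
      exact congrArg _ (Subtype.ext (one_mul _))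
    rw [show blockOf M (mk h hH μ ν : cen P → ℂ) = blockOf M (μ : cen P → ℂ) from
      blockOf_eq_of_mem hM ((mem_blockOf_iff hM h hH hP).2 hres)]
    exact mem_bset.1 hμ

end CfsgLib.Blocks.DefectOne
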