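import Cfsg.Agent.Lib.Blocks.DefectOne

/-!
# Blocks with a Sylow subgroup of prime order: interface
-/

namespace CfsgLib.Blocks.DefectOne

open Cfsg CfsgLib.CharTheory CfsgLib.CharTheory.SmallDegree CfsgLib.Blocks.GaloisLattice
open scoped ComplexConjugate

set_option linter.unusedVariables false
set_option linter.style.haveILetI false
set_option linter.unusedSectionVars false

universe u

variable {G : Type u} [Group G] [Fintype G] {p : ℕ} {M : Ideal AlgInt}

theorem setup_sylow [Fact p.Prime] (P : Sylow p G) (hP : Nat.card P = p) :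
    Setup p (P : Subgroup G) :=
  setup_of_card Fact.out hP P.not_dvd_index

theorem exists_Compl {P : Subgroup G} (h : Setup p P) : ∃ H, Compl P H := by
  obtain ⟨H, a, b, c, d⟩ := h.exists_compl
  exact ⟨H, ⟨a, b, c, d⟩⟩

theorem card_coe {α : Type*} (s : Finset α) : Nat.card (s : Set α) = s.card := by simp

theorem card_union_coe {α : Type*} {s t : Finset α} (h : Disjoint s t) :
    Nat.card ((s : Set α) ∪ (t : Set α) : Set α) = s.card + t.card := by
  classical
  rw [← Finset.coe_union, card_coe, Finset.card_union_of_disjoint h]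

/-- The `p`-conjugates are the images under the automorphisms fixing the `p'`-th roots of unity. -/
theorem galOrbit_iff_aut (hp : p.Prime) (hdvd : p ∣ Nat.card G) (hsq : ¬ p ^ 2 ∣ Nat.card G)
    (χ ψ : IrrCharacter G) :
    (∃ σ : ℂ ≃+* ℂ, σ (Complex.exp (2 * Real.pi * Complex.I /
        ((Nat.card G / p ^ (Nat.card G).factorization p : ℕ)))) =
        Complex.exp (2 * Real.pi * Complex.I /
          ((Nat.card G / p ^ (Nat.card G).factorization p : ℕ))) ∧
      (ψ : G → ℂ) = fun g => σ ((χ : G → ℂ) g)) ↔ ψ ∈ galOrbit p χ := by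
  have hfac : (Nat.card G).factorization p = 1 := by
    refine le_antisymm (Nat.lt_succ_iff.1 (Nat.lt_of_not_le fun h2 => hsq ?_))
      (hp.factorization_pos_of_dvd Nat.card_pos.ne' hdvd)
    exact (hp.pow_dvd_iff_le_factorization Nat.card_pos.ne').2 h2
  rw [hfac, pow_one]
  have hn0 : Nat.card G / p ≠ 0 :=
    (Nat.div_pos (Nat.le_of_dvd Nat.card_pos hdvd) hp.pos).ne'
  set n := Nat.card G / p with hn
  have hζ := isPrimitiveRoot_exp' hn0
  set ζ := Complex.exp (2 * Real.pi * Complex.I / (n : ℕ))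
  have hζG : ζ ^ Nat.card G = 1 := by
    rw [← Nat.div_mul_cancel hdvd, ← hn, pow_mul, hζ.pow_eq_one, one_pow]
  constructor
  · rintro ⟨σ, hσ, e⟩
    obtain ⟨m, hm, hpow⟩ := ComplexAut.exists_pow_of_aut (Nat.card_pos (α := G)).ne' σ
    refine mem_galOrbit.2 ⟨m, ⟨hm, ?_⟩, ?_⟩
    · have h1 : ζ ^ m = ζ ^ 1 := by rw [pow_one, ← hpow ζ hζG, hσ]
      rw [pow_eq_pow_mod m hζ.pow_eq_one, pow_eq_pow_mod 1 hζ.pow_eq_one] at h1
      exact hζ.pow_inj (Nat.mod_lt _ (Nat.pos_of_ne_zero hn0)) (Nat.mod_lt _ (Nat.pos_of_ne_zero hn0)) h1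
    · rw [e]
      funext g
      exact ComplexAut.aut_apply_char (isCharacter_of_irr χ.2) σ hpow g
  · intro h
    obtain ⟨m, hm, e⟩ := mem_galOrbit.1 h
    obtain ⟨σ, hσ⟩ := ComplexAut.exists_aut_pow (Nat.card_pos (α := G)).ne' hm.1
    refine ⟨σ, ?_, ?_⟩
    · rw [hσ ζ hζG, pow_eq_pow_mod m hζ.pow_eq_one, hm.2, ← pow_eq_pow_mod 1 hζ.pow_eq_one, pow_one]
    · rw [e]
      funext g
      exact (ComplexAut.aut_apply_char (isCharacter_of_irr χ.2) σ hσ g).symm

section principal

variable {P : Subgroup G} [Fintype P] [Fintype (cen P)]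

theorem stab_one : stab (⟨fun _ => 1, isIrrCharacter_one⟩ : IrrCharacter (cen P)) =
    Subgroup.normalizer (P : Set G) :=
  le_antisymm (stab_le _) fun g hg => ⟨hg, rfl⟩

theorem lam_one (h : Setup p P) :
    SmallDegree.lam h (⟨fun _ => 1, isIrrCharacter_one⟩ : IrrCharacter (cen P)) = fun _ => 1 :=
  funext fun x => div_self one_ne_zero

theorem charDegree_one_cen :
    charDegree ((⟨fun _ => 1, isIrrCharacter_one⟩ : IrrCharacter (cen P)) : cen P → ℂ) = 1 := by
  have h1 := irr_charDegree_cast (⟨fun _ => 1, isIrrCharacter_one⟩ : IrrCharacter (cen P))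
  apply Nat.cast_injective (R := ℂ)
  rw [h1, Nat.cast_one]

end principal

theorem root_principal (hM : IsPModular p M) [Fact p.Prime] (P : Sylow p G) (hP : Nat.card P = p)
    [Fintype (P : Subgroup G)] [Fintype (cen (P : Subgroup G))] {H : Subgroup G} [Fintype H]
    (hH : Compl (P : Subgroup G) H) :
    Root hM (setup_sylow P hP) hH (principalBlock M G)
      (⟨fun _ => 1, isIrrCharacter_one⟩ : IrrCharacter (cen (P : Subgroup G))) :=
  ⟨hP, lam_one _, (induced_centralizer_iff hM P.isPGroup').2 (principal_maximal hM P).1⟩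

end CfsgLib.Blocks.DefectOne
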