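import Cfsg.Agent.Lib.Blocks.Local

/-!
# Separating endomorphisms of a semisimple representation
-/

namespace CfsgLib.Blocks.SemisimplePieces

open Polynomial

set_option linter.unusedVariables false
set_option linter.style.haveILetI false
set_option linter.unusedSectionVars false

variable {k : Type*} [Field k] {V : Type*} [AddCommGroup V] [Module k V] [FiniteDimensional k V]
  {Q : Type*} [Group Q] [Fintype Q]

/-- Invariant subspaces. -/
def Inv (ρ : Q →* Module.End k V) (S : Submodule k V) : Prop := ∀ g, ∀ v ∈ S, ρ g v ∈ S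

theorem rho_inv_apply (ρ : Q →* Module.End k V) (g : Q) (v : V) : ρ g (ρ g⁻¹ v) = v := by
  rw [← Module.End.mul_apply, ← map_mul, mul_inv_cancel, map_one, Module.End.one_apply]

/-- An equivariant projection onto an invariant subspace. -/
theorem exists_proj (ρ : Q →* Module.End k V) (hQ : (Nat.card Q : k) ≠ 0) {S : Submodule k V}
    (hS : Inv ρ S) :
    ∃ π : Module.End k V, (∀ v, π v ∈ S) ∧ (∀ v ∈ S, π v = v) ∧ ∀ g, Commute π (ρ g) := by
  obtain ⟨B, hB⟩ := S.exists_isCompl
  set P : Module.End k V := S.subtype ∘ₗ S.projectionOnto B hB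
  have hP : ∀ v ∈ S, P v = v := fun v hv =>
    congrArg Subtype.val (Submodule.projectionOnto_apply_left hB ⟨v, hv⟩)
  refine ⟨(Nat.card Q : k)⁻¹ • ∑ g, ρ g * P * ρ g⁻¹, fun v => ?_, fun v hv => ?_, fun h => ?_⟩
  · rw [LinearMap.smul_apply, LinearMap.sum_apply]
    refine S.smul_mem _ (Submodule.sum_mem _ fun g _ => ?_)
    simp only [Module.End.mul_apply]
    exact hS g _ (S.projectionOnto B hB _).2
  · rw [LinearMap.smul_apply, LinearMap.sum_apply, Finset.sum_congr rfl fun g _ => by
      rw [Module.End.mul_apply, Module.End.mul_apply, hP _ (hS _ v hv), rho_inv_apply],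
      Finset.sum_const, Finset.card_univ, ← Nat.card_eq_fintype_card, ← Nat.cast_smul_eq_nsmul k,
      inv_smul_smul₀ hQ]
  · show _ * _ = _ * _
    rw [smul_mul_assoc, mul_smul_comm, Finset.sum_mul, Finset.mul_sum]
    congr 1
    refine Fintype.sum_equiv (Equiv.mulLeft h⁻¹) _ _ fun g => ?_
    simp only [Equiv.coe_mulLeft, mul_inv_rev, inv_inv, map_mul, ← mul_assoc]
    rw [← map_mul ρ h h⁻¹, mul_inv_cancel, map_one, one_mul]

/-- Density: a minimal invariant subspace sees all its endomorphisms. -/
theorem span_range_eq_top [IsAlgClosed k] [Nontrivial V] (ρ : Q →* Module.End k V)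
    (hirr : ∀ S, Inv ρ S → S = ⊥ ∨ S = ⊤) : Submodule.span k (Set.range ρ) = ⊤ := by
  set A : Subalgebra k (Module.End k V) := Algebra.adjoin k (Set.range ρ)
  have hA : Subalgebra.toSubmodule A = Submodule.span k (Set.range ρ) := by
    rw [Algebra.adjoin_eq_span, show Submonoid.closure (Set.range ρ) = MonoidHom.mrange ρ by
      rw [← MonoidHom.coe_mrange, Submonoid.closure_eq], MonoidHom.coe_mrange]
  rw [← hA, eq_top_iff]
  haveI : IsSimpleModule A V := by
    rw [isSimpleModule_iff]
    refine { eq_bot_or_eq_top := fun N => ?_ }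
    have hN : Inv ρ (N.restrictScalars k) := fun g v hv =>
      N.smul_mem (⟨ρ g, Algebra.subset_adjoin ⟨g, rfl⟩⟩ : A) hv
    rcases hirr _ hN with h | h
    · exact Or.inl (by rwa [Submodule.restrictScalars_eq_bot_iff] at h)
    · exact Or.inr (by rwa [Submodule.restrictScalars_eq_top_iff] at h)
  intro T _
  -- the commutant is scalar
  have hsc : ∀ f : Module.End A V, ∃ c : k, ∀ v, f v = c • v := by
    intro f
    let f' : Module.End k V := f.restrictScalars k
    obtain ⟨c, hc⟩ := Module.End.exists_eigenvalue f'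
    refine ⟨c, ?_⟩
    have hN : Inv ρ (Module.End.eigenspace f' c) := fun g v hv => by
      rw [Module.End.mem_eigenspace_iff] at hv ⊢
      show f ((⟨ρ g, Algebra.subset_adjoin ⟨g, rfl⟩⟩ : A) • v) = c • ρ g v
      rw [map_smul, show f v = c • v from hv]
      exact (ρ g).map_smul c v
    intro v
    have : v ∈ Module.End.eigenspace f' c := by
      rcases hirr _ hN with h | h
      · exact absurd h (Module.End.hasEigenvalue_iff.1 hc)
      · rw [h]; trivial
    exact Module.End.mem_eigenspace_iff.1 this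
  let T' : Module.End (Module.End A V) V :=
    { toFun := T
      map_add' := T.map_add
      map_smul' := fun f v => by
        obtain ⟨c, hc⟩ := hsc f
        show T (f v) = f (T v)
        rw [hc, hc, map_smul] }
  let b := Module.Free.chooseBasis k V
  haveI : DecidableEq V := Classical.decEq V
  obtain ⟨r, hr⟩ := jacobson_density T' (Finset.univ.image b)
  have : T = (r : Module.End k V) := b.ext fun i => hr _ (Finset.mem_image_of_mem _ (Finset.mem_univ i))
  rw [this]
  exact r.2

/-- A minimal nonzero invariant subspace. -/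
theorem exists_minimal (ρ : Q →* Module.End k V) {U : Submodule k V} (hU : Inv ρ U) (hne : U ≠ ⊥) :
    ∃ S ≤ U, Inv ρ S ∧ S ≠ ⊥ ∧ ∀ S' ≤ S, Inv ρ S' → S' = ⊥ ∨ S' = S := by
  classical
  have hex : ∃ n, ∃ S ≤ U, Inv ρ S ∧ S ≠ ⊥ ∧ Module.finrank k S = n := ⟨_, U, le_rfl, hU, hne, rfl⟩
  obtain ⟨S, hSU, hSi, hS0, hSn⟩ := Nat.find_spec hex
  refine ⟨S, hSU, hSi, hS0, fun S' hS' hS'i => ?_⟩
  by_contra hc
  push Not at hc
  have h1 := Submodule.finrank_lt_finrank_of_lt (lt_of_le_of_ne hS' hc.2)
  exact Nat.find_min hex (hSn ▸ h1) ⟨S', hS'.trans hSU, hS'i, hc.1, rfl⟩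

/-- Decomposition into minimal pieces. -/
theorem exists_pieces (ρ : Q →* Module.End k V) (hQ : (Nat.card Q : k) ≠ 0) (d : ℕ)
    (hd : ∀ S : Submodule k V, Inv ρ S → S ≠ ⊥ → (∀ S' ≤ S, Inv ρ S' → S' = ⊥ ∨ S' = S) →
      Module.finrank k S ≤ d) :
    ∀ (N : ℕ) (E : Module.End k V), Module.finrank k (LinearMap.range E) ≤ N → E * E = E →
      (∀ g, Commute E (ρ g)) →
      ∃ (n : ℕ) (π : Fin n → Module.End k V), (∀ i, π i * π i = π i ∧ π i ≠ 0 ∧
        (∀ g, Commute (π i) (ρ g)) ∧ E * π i = π i ∧ π i * E = π i) ∧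
        (∀ i j, i ≠ j → π i * π j = 0) ∧ ∑ i, π i = E ∧
        Module.finrank k (LinearMap.range E) ≤ n * d := by
  intro N
  induction N with
  | zero =>
    intro E hN hE hEc
    have hbot : LinearMap.range E = ⊥ := Submodule.finrank_eq_zero.1 (Nat.le_zero.1 hN)
    exact ⟨0, Fin.elim0, fun i => i.elim0, fun i => i.elim0, by
      rw [LinearMap.range_eq_bot] at hbot; simp [hbot], by rw [hbot, finrank_bot]; simp⟩
  | succ N ih =>
    intro E hN hE hEc
    by_cases h0 : LinearMap.range E = ⊥
    · exact ⟨0, Fin.elim0, fun i => i.elim0, fun i => i.elim0, by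
        rw [LinearMap.range_eq_bot] at h0; simp [h0], by rw [h0, finrank_bot]; simp⟩
    have hU : Inv ρ (LinearMap.range E) := by
      rintro g _ ⟨v, rfl⟩
      exact ⟨ρ g v, by rw [← Module.End.mul_apply, (hEc g).eq, Module.End.mul_apply]⟩
    obtain ⟨S, hSU, hSi, hS0, hSmin⟩ := exists_minimal ρ hU h0
    obtain ⟨P, hPS, hPid, hPc⟩ := exists_proj ρ hQ hSi
    have hfix : ∀ v ∈ LinearMap.range E, E v = v := by
      rintro _ ⟨w, rfl⟩; rw [← Module.End.mul_apply, hE]
    set π := P * E with hπ
    have hEπ : E * π = π := LinearMap.ext fun v => hfix _ (hSU (hPS _))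
    have hππ : π * π = π := LinearMap.ext fun v => by
      show P (E (P (E v))) = P (E v)
      rw [hfix _ (hSU (hPS _)), hPid _ (hPS _)]
    have hπE : π * E = π := by rw [hπ, mul_assoc, hE]
    have hπc : ∀ g, Commute π (ρ g) := fun g => (hPc g).mul_left (hEc g)
    have hrange : LinearMap.range π = S := le_antisymm (by rintro _ ⟨v, rfl⟩; exact hPS _)
      fun v hv => ⟨v, by show P (E v) = v; rw [hfix v (hSU hv), hPid v hv]⟩
    set E' := E - π with hE'
    have hE'E' : E' * E' = E' := by
      rw [hE', sub_mul, mul_sub, mul_sub, hE, hEπ, hπE, hππ]; abel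
    have hE'c : ∀ g, Commute E' (ρ g) := fun g => (hEc g).sub_left (hπc g)
    have hEE' : E * E' = E' := by rw [hE', mul_sub, hE, hEπ]
    have hE'E : E' * E = E' := by rw [hE', sub_mul, hE, hπE]
    have hπE' : π * E' = 0 := by rw [hE', mul_sub, hπE, hππ, sub_self]
    have hE'π : E' * π = 0 := by rw [hE', sub_mul, hEπ, hππ, sub_self]
    have hdim : Module.finrank k (LinearMap.range E) =
        Module.finrank k (LinearMap.range E') + Module.finrank k S := by
      rw [← hrange, ← Submodule.finrank_sup_add_finrank_inf_eq,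
        show LinearMap.range E' ⊓ LinearMap.range π = ⊥ by
          rw [Submodule.eq_bot_iff]
          rintro v ⟨⟨a, rfl⟩, ⟨b, hb⟩⟩
          rw [← hE'E', Module.End.mul_apply, ← hb, ← Module.End.mul_apply, hE'π,
            LinearMap.zero_apply],
        finrank_bot, add_zero]
      refine congrArg (fun T : Submodule k V => Module.finrank k T) ?_
      refine le_antisymm ?_ (sup_le ?_ ?_)
      · rintro _ ⟨v, rfl⟩
        rw [show E v = E' v + π v by simp [hE']]
        exact Submodule.add_mem_sup ⟨v, rfl⟩ ⟨v, rfl⟩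
      · rintro _ ⟨v, rfl⟩; exact ⟨E' v, by rw [← Module.End.mul_apply, hEE']⟩
      · rintro _ ⟨v, rfl⟩; exact ⟨π v, by rw [← Module.End.mul_apply, hEπ]⟩
    have hSpos : 0 < Module.finrank k S := Nat.pos_of_ne_zero fun h => hS0 (Submodule.finrank_eq_zero.1 h)
    obtain ⟨n, σ, hσ, hσo, hσs, hσd⟩ := ih E' (by omega) hE'E' hE'c
    refine ⟨n + 1, Fin.cons π σ, ?_, ?_, ?_, ?_⟩
    · refine Fin.cases ?_ fun i => ?_
      · simp only [Fin.cons_zero]
        refine ⟨hππ, fun h => hS0 ?_, hπc, hEπ, hπE⟩
        rw [← hrange, h, LinearMap.range_zero]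
      · simp only [Fin.cons_succ]
        obtain ⟨a, b, c, e1, e2⟩ := hσ i
        exact ⟨a, b, c, by rw [← e1, ← mul_assoc, hEE'], by rw [← e2, mul_assoc, hE'E]⟩
    · refine Fin.cases ?_ fun i => ?_
      · refine Fin.cases (fun h => absurd rfl h) fun j _ => ?_
        simp only [Fin.cons_zero, Fin.cons_succ]
        rw [← (hσ j).2.2.2.1, ← mul_assoc, hπE', zero_mul]
      · refine Fin.cases (fun _ => ?_) fun j h => ?_
        · simp only [Fin.cons_zero, Fin.cons_succ]
          rw [← (hσ i).2.2.2.2, mul_assoc, hE'π, mul_zero]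
        · simp only [Fin.cons_succ]
          exact hσo i j fun e => h (e ▸ rfl)
    · rw [Fin.sum_cons, hσs, hE']; abel
    · have := hd S hSi hS0 hSmin
      rw [hdim, add_mul, one_mul]
      omega

/-- An equivariant endomorphism with as many eigenvalues as there are pieces. -/
theorem exists_separating [IsAlgClosed k] (ρ : Q →* Module.End k V) (hQ : (Nat.card Q : k) ≠ 0)
    (d : ℕ)
    (hd : ∀ S : Submodule k V, Inv ρ S → S ≠ ⊥ → (∀ S' ≤ S, Inv ρ S' → S' = ⊥ ∨ S' = S) →
      Module.finrank k S ≤ d) :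
    ∃ f : Module.End k V, (∀ g, Commute f (ρ g)) ∧
      ∀ (P : k[X]) (m : ℕ), P ≠ 0 → aeval f (P ^ m) = 0 →
        Module.finrank k V ≤ P.natDegree * d := by
  classical
  obtain ⟨n, π, hπ, hπo, hπs, hπd⟩ :=
    exists_pieces ρ hQ d hd _ 1 le_rfl (one_mul 1) fun g => Commute.one_left _
  rw [show LinearMap.range (1 : Module.End k V) = ⊤ from LinearMap.range_id, finrank_top] at hπd
  let γ : Fin n ↪ k := Fin.valEmbedding.trans (Infinite.natEmbedding k)
  set f := ∑ i, γ i • π i with hf
  refine ⟨f, fun g => Commute.sum_left _ _ _ fun i _ => ((hπ i).2.2.1 g).smul_left _, ?_⟩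
  intro P m hP h0
  have hev : ∀ (R : k[X]) (i : Fin n), aeval f R * π i = R.eval (γ i) • π i := by
    intro R i
    have h1 : f * π i = γ i • π i := by
      rw [hf, Finset.sum_mul, Finset.sum_eq_single i
        (fun j _ hj => by rw [smul_mul_assoc, hπo j i hj, smul_zero])
        (fun h => absurd (Finset.mem_univ i) h), smul_mul_assoc, (hπ i).1]
    induction R using Polynomial.induction_on' with
    | add a b ha hb => rw [map_add, add_mul, ha, hb, eval_add, add_smul]
    | monomial l c =>
      rw [aeval_monomial, eval_monomial, mul_smul]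
      rw [← Algebra.smul_def, smul_mul_assoc]
      congr 1
      induction l with
      | zero => simp
      | succ l ihl => rw [pow_succ, mul_assoc, h1, mul_smul_comm, ihl, smul_smul, pow_succ, mul_comm]
  have hroot : ∀ i, γ i ∈ P.roots.toFinset := fun i => by
    rw [Multiset.mem_toFinset, mem_roots hP]
    have := hev (P ^ m) i
    rw [h0, zero_mul] at this
    have h2 : (P ^ m).eval (γ i) = 0 := (smul_eq_zero.1 this.symm).resolve_right (hπ i).2.1
    rw [eval_pow] at h2
    exact (pow_eq_zero_iff (fun hm => by rw [hm, pow_zero] at h2; exact one_ne_zero h2)).1 h2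
  refine hπd.trans (Nat.mul_le_mul_right d ?_)
  calc n = ((Finset.univ : Finset (Fin n)).map γ).card := by simp
    _ ≤ P.roots.toFinset.card := Finset.card_le_card fun x hx => by
        obtain ⟨i, -, rfl⟩ := Finset.mem_map.1 hx; exact hroot i
    _ ≤ P.natDegree := (Multiset.toFinset_card_le _).trans (card_roots' P)

/-- Minimal subspaces are small when the group algebra acts through small matrix blocks. -/
theorem finrank_minimal_le [IsAlgClosed k] (ρ : Q →* Module.End k V) {J : Type*} [Fintype J]
    (ej : J → Q → k) (hsum : ∑ j, ∑ h, ej j h • ρ h = 1)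
    (hidem : ∀ j, (∑ h, ej j h • ρ h) * (∑ h, ej j h • ρ h) = ∑ h, ej j h • ρ h)
    (hcomm : ∀ j g, Commute (∑ h, ej j h • ρ h) (ρ g)) (d : ℕ)
    (hrank : ∀ j, Module.finrank k
      (Submodule.span k (Set.range fun g : Q => fun h : Q => ej j (g⁻¹ * h))) ≤ d * d)
    (S : Submodule k V) (hS : Inv ρ S) (hS0 : S ≠ ⊥)
    (hmin : ∀ S' ≤ S, Inv ρ S' → S' = ⊥ ∨ S' = S) : Module.finrank k S ≤ d := by
  classical
  haveI : Nontrivial S := Submodule.nontrivial_iff_ne_bot.2 hS0
  let σ : Q →* Module.End k S :=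
    { toFun := fun g => (ρ g).restrict (hS g)
      map_one' := LinearMap.ext fun v => Subtype.ext (by simp)
      map_mul' := fun a b => LinearMap.ext fun v => Subtype.ext (by simp) }
  have hirr : ∀ T, Inv σ T → T = ⊥ ∨ T = ⊤ := by
    intro T hT
    rcases hmin (T.map S.subtype) (Submodule.map_subtype_le S T) (by
      rintro g _ ⟨v, hv, rfl⟩
      exact ⟨σ g v, hT g v hv, rfl⟩) with h | h
    · exact Or.inl (Submodule.map_injective_of_injective S.subtype_injective
        (h.trans (Submodule.map_bot _).symm))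
    · exact Or.inr (Submodule.map_injective_of_injective S.subtype_injective
        (h.trans (by rw [Submodule.map_top, Submodule.range_subtype])))
  -- one block acts as the identity
  obtain ⟨j, hj⟩ : ∃ j, ∀ v ∈ S, (∑ h, ej j h • ρ h) v = v := by
    by_contra hno
    push Not at hno
    obtain ⟨v0, hv0, hne⟩ := S.exists_mem_ne_zero_of_ne_bot hS0
    refine hne ?_
    rw [show v0 = (1 : Module.End k V) v0 from rfl, ← hsum, LinearMap.sum_apply]
    refine Finset.sum_eq_zero fun j _ => ?_
    set E := ∑ h, ej j h • ρ h with hE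
    obtain ⟨v, hv, hvne⟩ := hno j
    rcases hmin (S ⊓ LinearMap.ker E) inf_le_left (fun g w hw => ⟨hS g w hw.1, by
      show E (ρ g w) = 0
      rw [← Module.End.mul_apply, (hcomm j g).eq, Module.End.mul_apply,
        show E w = 0 from hw.2, map_zero]⟩) with h | h
    · refine absurd ?_ hvne
      have hmem : E v ∈ S := by
        rw [hE, LinearMap.sum_apply]
        exact Submodule.sum_mem _ fun h' _ => S.smul_mem _ (hS h' v hv)
      have h3 : E v - v ∈ S ⊓ LinearMap.ker E := ⟨S.sub_mem hmem hv, by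
        show E (E v - v) = 0
        rw [map_sub, ← Module.End.mul_apply, hidem, sub_self]⟩
      rw [h, Submodule.mem_bot] at h3
      exact sub_eq_zero.1 h3
    · exact (h.ge hv0).2
  let Φ : (Q → k) →ₗ[k] Module.End k S :=
    { toFun := fun a => ∑ h, a h • σ h
      map_add' := fun a b => by simp [add_smul, Finset.sum_add_distrib]
      map_smul' := fun c a => by simp [Finset.smul_sum, smul_smul] }
  set R := Submodule.span k (Set.range fun g : Q => fun h : Q => ej j (g⁻¹ * h)) with hR
  have htop : (⊤ : Submodule k (Module.End k S)) ≤ R.map Φ := by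
    rw [← span_range_eq_top σ hirr, Submodule.span_le]
    rintro _ ⟨g, rfl⟩
    refine ⟨fun h => ej j (g⁻¹ * h), Submodule.subset_span ⟨g, rfl⟩, LinearMap.ext fun v => Subtype.ext ?_⟩
    have h1 := congrArg (ρ g) (hj v v.2)
    rw [LinearMap.sum_apply, map_sum] at h1
    simp only [LinearMap.smul_apply, map_smul] at h1
    show ((∑ h, ej j (g⁻¹ * h) • σ h) v : V) = ρ g (v : V)
    rw [← h1, LinearMap.sum_apply, Submodule.coe_sum]
    refine (Fintype.sum_equiv (Equiv.mulLeft g) _ _ fun h => ?_).symm
    simp [σ, ← Module.End.mul_apply, ← map_mul]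
  have h2 := (Submodule.finrank_mono htop).trans ((Submodule.finrank_map_le Φ R).trans (hrank j))
  rw [finrank_top, Module.finrank_linearMap] at h2
  exact Nat.mul_self_le_mul_self_iff.1 h2

open CfsgLib.Blocks Cfsg in
/-- Independence modulo `M` lifts to independence over `ℂ`. -/
theorem res_linearIndependent {p : ℕ} {M : Ideal AlgInt} (hM : IsPModular p M) {ι κ : Type*}
    [Fintype ι] [Fintype κ] {v : ι → κ → ℂ} (hv : ∀ i x, MemLocalRing M (v i x))
    (h : haveI := hM.2.1; letI := Ideal.Quotient.field M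
      LinearIndependent (AlgInt ⧸ M) fun i x => res hM (v i x)) :
    LinearIndependent ℂ v := by
  classical
  haveI := hM.2.1
  letI := Ideal.Quotient.field M
  let f : (ι → AlgInt ⧸ M) →ₗ[AlgInt ⧸ M] (κ → AlgInt ⧸ M) :=
    Fintype.linearCombination (AlgInt ⧸ M) fun i x => res hM (v i x)
  have hf : LinearMap.ker f = ⊥ := LinearMap.ker_eq_bot'.2 fun c hc =>
    funext fun i => (Fintype.linearIndependent_iff.1 h) c (by simpa [f, Fintype.linearCombination_apply] using hc) i
  obtain ⟨g, hg⟩ := f.exists_leftInverse_of_injective hf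
  choose A hA using fun (i : ι) (x : κ) => Ideal.Quotient.mk_surjective (g (Pi.single x 1) i)
  set W : Matrix ι ι ℂ := Matrix.of fun i j => ∑ x, (A i x : ℂ) * v j x with hW
  have hmem : ∀ i j, MemLocalRing M (W i j) := fun i j =>
    memRing_sum hM fun x _ => (loc hM).mul_mem (memRing_coe hM _) (hv j x)
  let W' : Matrix ι ι (loc hM) := Matrix.of fun i j => ⟨W i j, hmem i j⟩
  have h1 : W'.map (resHom hM) = 1 := by
    ext i j
    have h2 : g (fun x => res hM (v j x)) = Pi.single j 1 := by
      have h3 := LinearMap.congr_fun hg (Pi.single j 1)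
      simpa [f, Fintype.linearCombination_apply_single] using h3
    show res hM (W i j) = (1 : Matrix ι ι (AlgInt ⧸ M)) i j
    rw [hW, Matrix.of_apply, res_sum hM fun x _ => (loc hM).mul_mem (memRing_coe hM _) (hv j x)]
    have h4 : g (fun x => res hM (v j x)) i = ∑ x, res hM (v j x) * g (Pi.single x 1) i := by
      conv_lhs => rw [pi_eq_sum_univ' (fun x => res hM (v j x))]
      simp
    rw [h2, Pi.single_apply] at h4
    rw [Matrix.one_apply, h4]
    exact Finset.sum_congr rfl fun x _ => by
      rw [res_mul hM (memRing_coe hM _) (hv j x), res_coe, hA, mul_comm]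
  have hdet : W.det ≠ 0 := by
    intro h0
    have h2 : (W'.map (resHom hM)).det = resHom hM W'.det := ((resHom hM).map_det W').symm
    have h3 : ((W'.det : loc hM) : ℂ) = W.det := (loc hM).subtype.map_det W'
    rw [h1, Matrix.det_one, show W'.det = 0 from Subtype.ext (h3.trans h0), map_zero] at h2
    exact one_ne_zero h2
  rw [Fintype.linearIndependent_iff]
  intro c hc
  refine congrFun (Matrix.eq_zero_of_mulVec_eq_zero hdet (v := c) (funext fun i => ?_))
  simp only [Matrix.mulVec, dotProduct, hW, Matrix.of_apply, Finset.sum_mul, Pi.zero_apply]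
  rw [Finset.sum_comm]
  refine Finset.sum_eq_zero fun x _ => ?_
  have := congrFun hc x
  simp only [Finset.sum_apply, Pi.smul_apply, smul_eq_mul, Pi.zero_apply] at this
  calc ∑ j, (A i x : ℂ) * v j x * c j = (A i x : ℂ) * ∑ j, c j * v j x := by
        rw [Finset.mul_sum]; exact Finset.sum_congr rfl fun j _ => by ring
    _ = 0 := by rw [this, mul_zero]

end CfsgLib.Blocks.SemisimplePieces
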