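import Cfsg.Agent.Lib.Blocks.Unramified
import Cfsg.Agent.Lib.Blocks.SemisimplePieces
import Cfsg.Agent.Lib.Blocks.Central

/-!
# Central idempotents of groups of order prime to `p` over the unramified ring
-/

namespace CfsgLib.Blocks.DefectOne

open Cfsg CfsgLib.CharTheory
open scoped ComplexConjugate

set_option linter.unusedVariables false
set_option linter.style.haveILetI false
set_option linter.unusedSectionVars false

universe u

variable {K : Type u} [Group K] [Fintype K] {p : ℕ} {M : Ideal AlgInt}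

/-- The coefficients of the idempotent of an irreducible character. -/
noncomputable def idemC (ψ : IrrCharacter K) : K → ℂ :=
  fun a => (ψ : K → ℂ) 1 / (Nat.card K : ℂ) * conj ((ψ : K → ℂ) a)

theorem idemC_class (ψ : IrrCharacter K) (a b : K) : idemC ψ (b * a * b⁻¹) = idemC ψ a := by
  simp only [idemC]
  rw [isClassFunction_irr ψ.2 a b]

theorem idemC_conv (ψ ψ' : IrrCharacter K) [Decidable (ψ = ψ')] (c : K) :
    ∑ a, idemC ψ a * idemC ψ' (a⁻¹ * c) = if ψ = ψ' then idemC ψ c else 0 := by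
  classical
  have hq : (Nat.card K : ℂ) ≠ 0 := Nat.cast_ne_zero.2 Nat.card_pos.ne'
  have hf : IsClassFunction K (fun a => (ψ : K → ℂ) a⁻¹) := fun a b => by
    show (ψ : K → ℂ) (b * a * b⁻¹)⁻¹ = (ψ : K → ℂ) a⁻¹
    rw [conj_inv, isClassFunction_irr ψ.2 a⁻¹ b]
  have h1 : ∑ a, (ψ : K → ℂ) a * (ψ' : K → ℂ) (a⁻¹ * c) =
      if ψ = ψ' then (Nat.card K : ℂ) / (ψ : K → ℂ) 1 * (ψ : K → ℂ) c else 0 := by
    rw [← Equiv.sum_comp (Equiv.inv K)]
    simp only [Equiv.inv_apply, inv_inv]
    rw [sum_classFun_mul_shift hf ψ' c]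
    have h2 : ∑ a, (ψ : K → ℂ) a⁻¹ * (ψ' : K → ℂ) a =
        (Nat.card K : ℂ) * classInner (ψ' : K → ℂ) (ψ : K → ℂ) := by
      rw [classInner, mul_inv_cancel_left₀ hq]
      exact Finset.sum_congr rfl fun a _ => by rw [irr_conjInv, mul_comm]
    show (∑ a, (ψ : K → ℂ) a⁻¹ * (ψ' : K → ℂ) a) / (ψ' : K → ℂ) 1 * _ = _
    rw [h2]
    split_ifs with e
    · subst e; rw [classInner_irr_self ψ.2, mul_one]
    · rw [classInner_irr_ne ψ'.2 ψ.2 fun q => e (Subtype.ext q).symm, mul_zero, zero_div, zero_mul]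
  calc ∑ a, idemC ψ a * idemC ψ' (a⁻¹ * c)
      = (ψ : K → ℂ) 1 / (Nat.card K : ℂ) * ((ψ' : K → ℂ) 1 / (Nat.card K : ℂ)) *
          conj (∑ a, (ψ : K → ℂ) a * (ψ' : K → ℂ) (a⁻¹ * c)) := by
        rw [map_sum, Finset.mul_sum]
        exact Finset.sum_congr rfl fun a _ => by simp only [idemC, map_mul]; ring
    _ = _ := by
        rw [h1]
        split_ifs with e
        · subst e
          simp only [idemC, map_mul, map_div₀, map_natCast, irr_one_conj]
          have := irr_one_ne_zero ψ
          field_simp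
        · rw [map_zero, mul_zero]

theorem idemC_mem (hM : IsPModular p M) (hK : ¬ p ∣ Nat.card K) (ψ : IrrCharacter K) (a : K) :
    idemC ψ a ∈ Wr hM := by
  simp only [idemC, div_eq_mul_inv]
  refine Subring.mul_mem _ (Subring.mul_mem _ ?_ (natCast_inv_mem_Wr hM hK)) ?_
  · exact regRing_le_Wr hM (char_mem_regRing (isCharacter_of_irr ψ.2) hK 1)
  · rw [irr_conjInv]
    exact regRing_le_Wr hM (char_mem_regRing (isCharacter_of_irr ψ.2) hK _)

/-- The same in the unramified ring. -/
noncomputable def idemW (hM : IsPModular p M) (hK : ¬ p ∣ Nat.card K) (ψ : IrrCharacter K) (a : K) :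
    Wr hM := ⟨idemC ψ a, idemC_mem hM hK ψ a⟩

theorem idemW_conv (hM : IsPModular p M) (hK : ¬ p ∣ Nat.card K) (ψ ψ' : IrrCharacter K)
    [Decidable (ψ = ψ')] (c : K) :
    ∑ a, idemW hM hK ψ a * idemW hM hK ψ' (a⁻¹ * c) =
      if ψ = ψ' then idemW hM hK ψ c else 0 := by
  refine Subtype.ext ?_
  have h1 := idemC_conv ψ ψ' c
  rw [AddSubmonoidClass.coe_finsetSum]
  simp only [Subring.coe_mul, idemW]
  rw [h1]
  split_ifs <;> rfl

section wsum

variable {R : Type*} [CommRing R] {ι : Type*} [Fintype ι] [DecidableEq ι]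

/-- The operator of a function on a group. -/
noncomputable def wsum (φ : K →* Matrix ι ι R) (f : K → R) : Matrix ι ι R := ∑ a, f a • φ a

theorem wsum_mul (φ : K →* Matrix ι ι R) (f f' : K → R) :
    wsum φ f * wsum φ f' = wsum φ fun c => ∑ a, f a * f' (a⁻¹ * c) := by
  simp only [wsum, Finset.sum_mul_sum, Finset.sum_smul, smul_mul_smul_comm, ← map_mul]
  rw [Finset.sum_comm (s := Finset.univ) (f := fun c a => (f a * f' (a⁻¹ * c)) • φ c)]
  refine Finset.sum_congr rfl fun a _ => ?_
  exact Fintype.sum_equiv (Equiv.mulLeft a) _ _ fun b => by simp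

theorem wsum_zero (φ : K →* Matrix ι ι R) : wsum φ (fun _ => 0) = 0 := by simp [wsum]

/-- An invariant function gives an operator commuting with the conjugating element. -/
theorem wsum_shift (φ : K →* Matrix ι ι R) (f f' : K → R) (A : Matrix ι ι R) (e : K ≃ K)
    (hA : ∀ a, φ (e a) * A = A * φ a) (hf : ∀ a, f (e a) = f' a) :
    wsum φ f * A = A * wsum φ f' := by
  simp only [wsum, Finset.sum_mul, Finset.mul_sum, smul_mul_assoc, mul_smul_comm]
  refine (Fintype.sum_equiv e _ _ fun a => ?_).symm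
  rw [hf, hA]

end wsum

/-- The translates of an idempotent span a space of dimension at most the square of the degree,
also modulo `p`. -/
theorem idem_rank (hM : IsPModular p M) (hK : ¬ p ∣ Nat.card K) (ψ : IrrCharacter K) :
    haveI := hM.2.1
    letI := Ideal.Quotient.field M
    Module.finrank (AlgInt ⧸ M) (Submodule.span (AlgInt ⧸ M)
      (Set.range fun g : K => fun t : K => redW hM (idemW hM hK ψ (g⁻¹ * t)))) ≤
        charDegree (ψ : K → ℂ) * charDegree (ψ : K → ℂ) := by
  classical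
  haveI := hM.2.1
  letI := Ideal.Quotient.field M
  obtain ⟨d, ρ, hirr, he⟩ := id ψ.2
  have hd : charDegree (ψ : K → ℂ) = d := by
    have h1 : ((charDegree (ψ : K → ℂ) : ℕ) : ℂ) = (d : ℂ) := by
      rw [irr_charDegree_cast, ← he, ρ.char_one, Module.finrank_fin_fun]
    exact_mod_cast h1
  let R : K → Matrix (Fin d) (Fin d) ℂ := fun a => LinearMap.toMatrix' (ρ a)
  have hψ : ∀ a b, (ψ : K → ℂ) (a * b) = ∑ i, ∑ l, R a i l * R b l i := by
    intro a b
    rw [← he]
    show LinearMap.trace ℂ _ (ρ (a * b)) = _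
    rw [LinearMap.trace_eq_matrix_trace ℂ (Pi.basisFun ℂ (Fin d)), LinearMap.toMatrix_eq_toMatrix',
      map_mul, LinearMap.toMatrix'_mul, Matrix.trace]
    simp [R, Matrix.mul_apply]
  set F : K → K → AlgInt ⧸ M := fun g => fun t => redW hM (idemW hM hK ψ (g⁻¹ * t)) with hF
  obtain ⟨b, hb, hspan, hli⟩ := exists_linearIndependent (AlgInt ⧸ M) (Set.range F)
  haveI : Fintype b := (((Set.finite_range F).subset hb)).fintype
  choose g hg using fun i : b => hb i.2
  let w : b → K → ℂ := fun i t => idemC ψ ((g i)⁻¹ * t)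
  have hwi : LinearIndependent ℂ w := by
    refine SemisimplePieces.res_linearIndependent hM
      (fun i t => memRing_Wr hM (idemC_mem hM hK ψ _)) ?_
    have : (fun (i : b) (t : K) => res hM (w i t)) = fun i : b => (i : K → AlgInt ⧸ M) := by
      funext i t
      rw [← hg i]
      rfl
    rw [this]
    exact hli
  let U : Fin d × Fin d → K → ℂ := fun q t =>
    (ψ : K → ℂ) 1 / (Nat.card K : ℂ) * R t⁻¹ q.1 q.2
  have hmem : ∀ i, w i ∈ Submodule.span ℂ (Set.range U) := by
    intro i
    have e : w i = ∑ q : Fin d × Fin d, R (g i) q.2 q.1 • U q := by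
      funext t
      simp only [w, idemC, Finset.sum_apply, Pi.smul_apply, smul_eq_mul, U]
      rw [irr_conjInv, mul_inv_rev, inv_inv, hψ, Fintype.sum_prod_type, Finset.mul_sum]
      refine Finset.sum_congr rfl fun a _ => ?_
      rw [Finset.mul_sum]
      exact Finset.sum_congr rfl fun l _ => by ring
    rw [e]
    exact Submodule.sum_mem _ fun q _ => Submodule.smul_mem _ _ (Submodule.subset_span ⟨q, rfl⟩)
  have h1 : Fintype.card b ≤ d * d := by
    let w' : b → Submodule.span ℂ (Set.range U) := fun i => ⟨w i, hmem i⟩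
    have hw' : LinearIndependent ℂ w' :=
      LinearIndependent.of_comp (Submodule.span ℂ (Set.range U)).subtype hwi
    refine hw'.fintype_card_le_finrank.trans ((finrank_range_le_card U).trans ?_)
    simp
  rw [← hspan, finrank_span_set_eq_card hli, Set.toFinset_card, hd]
  exact h1

end CfsgLib.Blocks.DefectOne
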