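import Mathlib

/-!
# Tate cohomology of a lattice over a group of prime order, modulo `p`

A lattice is `ι → R` with an automorphism given by a matrix `X` with `X ^ p = 1`.
-/

namespace CfsgLib.Blocks.TateLattice

open Matrix

set_option linter.unusedVariables false
set_option linter.style.haveILetI false
set_option linter.unusedSectionVars false

variable {R : Type*} [CommRing R] [IsDomain R] [IsPrincipalIdealRing R] {k : Type*} [Field k]
  (red : R →+* k) {p : ℕ} {ι : Type*} [Fintype ι] [DecidableEq ι]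

/-- The hypotheses. -/
structure Red (red : R →+* k) (p : ℕ) : Prop where
  prime : p.Prime
  ne : (p : R) ≠ 0
  surj : Function.Surjective red
  ker : ∀ r, red r = 0 ↔ (p : R) ∣ r

/-- Coordinatewise reduction. -/
def rv (v : ι → R) : ι → k := fun i => red (v i)

theorem rv_mulVec (A : Matrix ι ι R) (v : ι → R) : rv red (A *ᵥ v) = A.map red *ᵥ rv red v := by
  funext i
  simp [rv, Matrix.mulVec, dotProduct]

theorem rv_add (v w : ι → R) : rv red (v + w) = rv red v + rv red w := by funext i; simp [rv]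

theorem rv_sub (v w : ι → R) : rv red (v - w) = rv red v - rv red w := by funext i; simp [rv]

theorem rv_smul (r : R) (v : ι → R) : rv red (r • v) = red r • rv red v := by funext i; simp [rv]

theorem rv_surj (h : Red red p) : Function.Surjective (rv red (ι := ι)) := fun w => by
  choose v hv using fun i => h.surj (w i)
  exact ⟨v, funext hv⟩

theorem rv_eq_zero (h : Red red p) {v : ι → R} (hv : rv red v = 0) : ∃ w, v = (p : R) • w := by
  choose w hw using fun i => (h.ker (v i)).1 (congrFun hv i)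
  exact ⟨w, funext hw⟩

theorem red_p (h : Red red p) : red (p : R) = 0 := (h.ker _).2 dvd_rfl

/-- Image of a submodule under reduction. -/
def redSub (h : Red red p) (L : Submodule R (ι → R)) : Submodule k (ι → k) where
  carrier := rv red '' L
  add_mem' := by
    rintro _ _ ⟨v, hv, rfl⟩ ⟨w, hw, rfl⟩
    exact ⟨v + w, L.add_mem hv hw, rv_add red v w⟩
  zero_mem' := ⟨0, L.zero_mem, by funext i; simp [rv]⟩
  smul_mem' := by
    rintro c _ ⟨v, hv, rfl⟩
    obtain ⟨r, rfl⟩ := h.surj c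
    exact ⟨r • v, L.smul_mem r hv, rv_smul red r v⟩

theorem mem_redSub (h : Red red p) {L : Submodule R (ι → R)} {x : ι → k} :
    x ∈ redSub red h L ↔ ∃ v ∈ L, rv red v = x := Iff.rfl

/-- A saturated submodule keeps its rank. -/
theorem finrank_redSub (h : Red red p) {L : Submodule R (ι → R)}
    (hL : ∀ v, (p : R) • v ∈ L → v ∈ L) :
    Module.finrank k (redSub red h L) = Module.finrank R L := by
  classical
  let b := Module.Free.chooseBasis R L
  let w : Module.Free.ChooseBasisIndex R L → redSub red h L :=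
    fun j => ⟨rv red (b j : ι → R), (b j : ι → R), (b j).2, rfl⟩
  have hind : LinearIndependent k w := by
    rw [Fintype.linearIndependent_iff]
    intro c hc j
    choose r hr using fun j => h.surj (c j)
    have h1 : rv red (((∑ j, r j • b j : L) : ι → R)) = 0 := by
      have := congrArg Subtype.val hc
      refine Eq.trans ?_ this
      funext i
      simp [w, rv, hr, map_sum]
    obtain ⟨u, hu⟩ := rv_eq_zero red h h1
    have hu' : u ∈ L := hL u (hu ▸ Subtype.coe_prop _)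
    have h2 : ∑ j, r j • b j = (p : R) • (⟨u, hu'⟩ : L) := Subtype.ext hu
    have h3 := congrArg (fun v => b.repr v j) h2
    simp only [map_sum, map_smul, b.repr_self, Finsupp.coe_finsetSum, Finset.sum_apply,
      Finsupp.smul_apply, Finsupp.single_apply, smul_eq_mul, mul_ite, mul_one, mul_zero,
      Finset.sum_ite_eq', Finset.mem_univ, if_true] at h3
    rw [← hr j, h.ker]
    exact ⟨_, h3⟩
  have hspan : ⊤ ≤ Submodule.span k (Set.range w) := by
    rintro ⟨x, v, hv, rfl⟩ -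
    have h1 : (⟨rv red v, ⟨v, hv, rfl⟩⟩ : redSub red h L) =
        ∑ j, red (b.repr ⟨v, hv⟩ j) • w j := by
      apply Subtype.ext
      have := congrArg Subtype.val (b.sum_repr ⟨v, hv⟩)
      simp only [Submodule.coe_sum, Submodule.coe_smul] at this
      show rv red v = _
      conv_lhs => rw [← this]
      funext i
      simp [w, rv, map_sum]
    rw [show (⟨rv red v, ⟨v, hv, rfl⟩⟩ : redSub red h L) = _ from h1]
    exact Submodule.sum_mem _ fun j _ => Submodule.smul_mem _ _ (Submodule.subset_span ⟨j, rfl⟩)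
  rw [Module.finrank_eq_card_basis b, Module.finrank_eq_card_basis (Module.Basis.mk hind hspan)]

variable (X : Matrix ι ι R)

/-- The norm. -/
def Sm (p : ℕ) : Matrix ι ι R := ∑ i ∈ Finset.range p, X ^ i

/-- The difference. -/
def Nm : Matrix ι ι R := X - 1

/-- Fixed vectors. -/
def Z : Submodule R (ι → R) := LinearMap.ker (Matrix.mulVecLin (Nm X))

/-- Vectors of norm zero. -/
def K (p : ℕ) : Submodule R (ι → R) := LinearMap.ker (Matrix.mulVecLin (Sm X p))

theorem mem_Z {v : ι → R} : v ∈ Z X ↔ Nm X *ᵥ v = 0 := LinearMap.mem_ker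

theorem mem_K {v : ι → R} : v ∈ K X p ↔ Sm X p *ᵥ v = 0 := LinearMap.mem_ker

variable {X} (hX : X ^ p = 1)

include hX

theorem Sm_Nm : Sm X p * Nm X = 0 := by rw [Sm, Nm, geom_sum_mul, hX, sub_self]

theorem Nm_Sm : Nm X * Sm X p = 0 := by rw [Sm, Nm, mul_geom_sum, hX, sub_self]

theorem X_pow_Sm (i : ℕ) : X ^ i * Sm X p = Sm X p := by
  induction i with
  | zero => simp
  | succ i ih =>
    have := Nm_Sm hX
    rw [Nm, sub_mul, one_mul, sub_eq_zero] at this
    rw [pow_succ, mul_assoc, this, ih]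

theorem sum_rev : ∑ i ∈ Finset.range p, X ^ (p - i) = Sm X p := by
  conv_rhs => rw [← X_pow_Sm hX 1, Sm, Finset.mul_sum, ← Finset.sum_range_reflect]
  refine Finset.sum_congr rfl fun i hi => ?_
  rw [← pow_add]
  congr 1
  have := Finset.mem_range.1 hi
  omega

omit hX in
theorem X_pow_fix {v : ι → R} (hv : v ∈ Z X) (i : ℕ) : X ^ i *ᵥ v = v := by
  have h1 : X *ᵥ v = v := by
    have := (mem_Z X).1 hv
    rwa [Nm, Matrix.sub_mulVec, Matrix.one_mulVec, sub_eq_zero] at this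
  induction i with
  | zero => simp
  | succ i ih => rw [pow_succ, ← Matrix.mulVec_mulVec, h1, ih]

omit hX in
theorem Sm_Z {v : ι → R} (hv : v ∈ Z X) : Sm X p *ᵥ v = (p : R) • v := by
  rw [Sm, Matrix.sum_mulVec, Finset.sum_congr rfl fun i _ => X_pow_fix hv i, Finset.sum_const,
    Finset.card_range, Nat.cast_smul_eq_nsmul]

theorem Sm_mem_Z (v : ι → R) : Sm X p *ᵥ v ∈ Z X := by
  rw [mem_Z, Matrix.mulVec_mulVec, Nm_Sm hX, Matrix.zero_mulVec]

theorem Nm_mem_K (v : ι → R) : Nm X *ᵥ v ∈ K X p := by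
  rw [mem_K, Matrix.mulVec_mulVec, Sm_Nm hX, Matrix.zero_mulVec]

omit hX in
theorem Z_sat (h : Red red p) (v : ι → R) (hv : (p : R) • v ∈ Z X) : v ∈ Z X := by
  rw [mem_Z] at hv ⊢
  rw [Matrix.mulVec_smul] at hv
  exact (smul_eq_zero.1 hv).resolve_left h.ne

omit hX in
theorem K_sat (h : Red red p) (v : ι → R) (hv : (p : R) • v ∈ K X p) : v ∈ K X p := by
  rw [mem_K] at hv ⊢
  rw [Matrix.mulVec_smul] at hv
  exact (smul_eq_zero.1 hv).resolve_left h.ne

omit hX in
theorem Nm_inj_K (h : Red red p) {v : ι → R} (hv : v ∈ K X p) (h0 : Nm X *ᵥ v = 0) : v = 0 := by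
  have := Sm_Z (p := p) ((mem_Z X).2 h0)
  rw [(mem_K X).1 hv] at this
  exact (smul_eq_zero.1 this.symm).resolve_left h.ne

theorem Nm_pow_mem_K {v : ι → R} (hv : v ∈ K X p) (i : ℕ) : Nm X ^ i *ᵥ v ∈ K X p := by
  induction i with
  | zero => simpa using hv
  | succ i ih => rw [pow_succ', ← Matrix.mulVec_mulVec]; exact Nm_mem_K hX _

omit hX in
theorem Nm_pow_inj_K (h : Red red p) (hX : X ^ p = 1) {v : ι → R} (hv : v ∈ K X p) (i : ℕ)
    (h0 : Nm X ^ i *ᵥ v = 0) : v = 0 := by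
  induction i generalizing v with
  | zero => simpa using h0
  | succ i ih =>
    rw [pow_succ, ← Matrix.mulVec_mulVec] at h0
    exact Nm_inj_K red h hv (ih (Nm_mem_K hX v) h0)

omit hX in
theorem polynomial_identity (hp : p.Prime) :
    ∃ Q : Polynomial ℤ, (Polynomial.X - 1) ^ (p - 1) - ∑ i ∈ Finset.range p, Polynomial.X ^ i =
      (p : Polynomial ℤ) * (-1 + (Polynomial.X - 1) * Q) := by
  classical
  haveI : Fact p.Prime := ⟨hp⟩
  have hdvd : (p : Polynomial ℤ) ∣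
      (Polynomial.X - 1) ^ (p - 1) - ∑ i ∈ Finset.range p, Polynomial.X ^ i := by
    rw [← map_natCast Polynomial.C, Polynomial.C_dvd_iff_dvd_coeff]
    intro n
    rw [← ZMod.intCast_zmod_eq_zero_iff_dvd]
    have h1 : ((Polynomial.X - 1) ^ (p - 1) - ∑ i ∈ Finset.range p, Polynomial.X ^ i :
        Polynomial (ZMod p)) = 0 := by
      refine mul_right_cancel₀ (Polynomial.X_sub_C_ne_zero (1 : ZMod p)) ?_
      rw [map_one, zero_mul, sub_mul, geom_sum_mul, ← pow_succ, Nat.sub_add_cancel hp.one_le,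
        sub_pow_char, one_pow, sub_self]
    have h2 := congrArg (fun f => Polynomial.coeff f n) h1
    simp only [Polynomial.coeff_zero] at h2
    rw [← eq_intCast (Int.castRingHom (ZMod p)), ← Polynomial.coeff_map]
    simpa [Polynomial.map_sum] using h2
  obtain ⟨Q0, hQ0⟩ := hdvd
  have h3 : Polynomial.eval 1 Q0 = -1 := by
    have h4 := congrArg (Polynomial.eval 1) hQ0
    have hp1 : p - 1 ≠ 0 := by have := hp.two_le; omega
    simp [Polynomial.eval_finsetSum, zero_pow hp1] at h4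
    have hp0 : (p : ℤ) ≠ 0 := by exact_mod_cast hp.ne_zero
    exact mul_left_cancel₀ hp0 (by linarith)
  obtain ⟨Q, hQ⟩ : (Polynomial.X - Polynomial.C (1 : ℤ)) ∣ (Q0 + 1) := by
    rw [Polynomial.dvd_iff_isRoot]
    simp [h3]
  refine ⟨Q, ?_⟩
  rw [hQ0]
  rw [map_one] at hQ
  congr 1
  linear_combination hQ

omit hX in
theorem matrix_identity (hp : p.Prime) :
    ∃ Q : Matrix ι ι R, Commute (Nm X) Q ∧
      Nm X ^ (p - 1) - Sm X p = (p : R) • (-1 + Nm X * Q) := by
  obtain ⟨Q, hQ⟩ := polynomial_identity (p := p) hp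
  refine ⟨Polynomial.aeval X Q, ?_, ?_⟩
  · rw [show Nm X = Polynomial.aeval X (Polynomial.X - 1 : Polynomial ℤ) by simp [Nm]]
    exact (Commute.all _ Q).map _
  · have := congrArg (Polynomial.aeval X) hQ
    simp only [map_sub, map_pow, map_mul, map_add, map_neg, map_one, Polynomial.aeval_X, map_sum,
      map_natCast] at this
    rw [Nm, Sm, this, Nat.cast_smul_eq_nsmul, nsmul_eq_mul]

theorem Nm_top_K (h : Red red p) :
    (∀ v ∈ K X p, ∃ w ∈ K X p, Nm X ^ (p - 1) *ᵥ v = (p : R) • w) ∧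
      ∀ v ∈ K X p, ∃ w ∈ K X p, (p : R) • v = Nm X ^ (p - 1) *ᵥ w := by
  obtain ⟨Q, hcomm, hQ⟩ := matrix_identity (X := X) h.prime
  have key : ∀ v ∈ K X p, Nm X ^ (p - 1) *ᵥ v = (p : R) • ((-1 + Nm X * Q) *ᵥ v) := by
    intro v hv
    rw [← Matrix.smul_mulVec, ← hQ, Matrix.sub_mulVec, (mem_K X).1 hv, sub_zero]
  have hmem : ∀ v ∈ K X p, (-1 + Nm X * Q) *ᵥ v ∈ K X p := fun v hv => by
    refine K_sat red h _ ?_
    rw [← key v hv]
    exact Nm_pow_mem_K hX hv _
  have hNQ : ∀ v ∈ K X p, (Nm X * Q) *ᵥ v ∈ K X p := fun v hv => by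
    rw [← Matrix.mulVec_mulVec]; exact Nm_mem_K hX _
  refine ⟨fun v hv => ⟨_, hmem v hv, key v hv⟩, ?_⟩
  -- iterate
  have it : ∀ i : ℕ, ∀ v ∈ K X p, ∃ w ∈ K X p, ∃ u ∈ K X p,
      (p : R) • v = Nm X ^ (p - 1) *ᵥ w + (p : R) • ((Nm X * Q) ^ i *ᵥ u) := by
    intro i
    induction i with
    | zero => exact fun v hv => ⟨0, Submodule.zero_mem _, v, hv, by simp⟩
    | succ i ih =>
      intro v hv
      obtain ⟨w, hw, u, hu, e⟩ := ih v hv
      have hu' : (Nm X * Q) ^ i *ᵥ u ∈ K X p := by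
        clear e
        induction i with
        | zero => simpa using hu
        | succ i _ => rw [pow_succ', ← Matrix.mulVec_mulVec, ← Matrix.mulVec_mulVec]; exact Nm_mem_K hX _
      refine ⟨w - (Nm X * Q) ^ i *ᵥ u, Submodule.sub_mem _ hw hu', u, hu, ?_⟩
      rw [e, Matrix.mulVec_sub, key _ hu', pow_succ' (Nm X * Q), ← Matrix.mulVec_mulVec,
        Matrix.add_mulVec, Matrix.neg_mulVec, Matrix.one_mulVec, smul_add, smul_neg]
      abel
  intro v hv
  obtain ⟨w, hw, u, hu, e⟩ := it (p - 1) v hv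
  refine ⟨w + (p : R) • (Q ^ (p - 1) *ᵥ u), Submodule.add_mem _ hw ?_, ?_⟩
  · rw [mem_K, Matrix.mulVec_smul, Matrix.mulVec_mulVec]
    have hcS : Commute (Sm X p) (Q ^ (p - 1)) := by
      have h1 : Commute X Q := by
        have := hcomm.add_left (Commute.one_left Q)
        rwa [Nm, sub_add_cancel] at this
      exact (Commute.sum_left _ _ _ fun i _ => h1.pow_left i).pow_right _
    rw [hcS.eq, ← Matrix.mulVec_mulVec, (mem_K X).1 hu, Matrix.mulVec_zero, smul_zero]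
  · rw [e, hcomm.mul_pow, ← Matrix.mulVec_mulVec, Matrix.mulVec_add, Matrix.mulVec_smul]

omit hX in
/-- The reduced fixed vectors. -/
def Zb (h : Red red p) (X : Matrix ι ι R) : Submodule k (ι → k) := redSub red h (Z X)

omit hX in
/-- The reduced vectors of norm zero. -/
def Kb (h : Red red p) (X : Matrix ι ι R) : Submodule k (ι → k) := redSub red h (K X p)

omit hX in
/-- Reduced image. -/
def rangeB (A : Matrix ι ι R) : Submodule k (ι → k) := LinearMap.range (A.map red).mulVecLin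

omit hX in
theorem mem_rangeB (h : Red red p) {A : Matrix ι ι R} {x : ι → k} :
    x ∈ rangeB red A ↔ ∃ v, rv red (A *ᵥ v) = x := by
  constructor
  · rintro ⟨y, rfl⟩
    obtain ⟨v, rfl⟩ := rv_surj red h y
    exact ⟨v, by rw [rv_mulVec]; rfl⟩
  · rintro ⟨v, rfl⟩
    exact ⟨rv red v, by rw [rv_mulVec]; rfl⟩

theorem rangeS_eq (h : Red red p) : rangeB red (Sm X p) = Zb red h X ⊓ Kb red h X := by
  apply le_antisymm
  · intro x hx
    obtain ⟨v, rfl⟩ := (mem_rangeB red h).1 hx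
    refine ⟨⟨_, Sm_mem_Z hX v, rfl⟩, Sm X p *ᵥ v - (p : R) • v, ?_, ?_⟩
    · rw [SetLike.mem_coe, mem_K, Matrix.mulVec_sub, Matrix.mulVec_smul, Sm_Z (Sm_mem_Z hX v), sub_self]
    · rw [rv_sub, rv_smul, red_p red h, zero_smul, sub_zero]
  · rintro x ⟨⟨z, hz, rfl⟩, u, hu, e⟩
    obtain ⟨w, hw⟩ := rv_eq_zero red h (v := z - u) (by rw [rv_sub, e, sub_self])
    refine (mem_rangeB red h).2 ⟨w, ?_⟩
    congr 1
    have h1 := congrArg (fun v => Sm X p *ᵥ v) hw
    simp only [Matrix.mulVec_sub, Matrix.mulVec_smul, (mem_K X).1 hu, sub_zero,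
      Sm_Z (p := p) hz] at h1
    exact (smul_right_injective _ h.ne h1).symm

theorem ker_S (h : Red red p) :
    LinearMap.ker ((Sm X p).map red).mulVecLin = Zb red h X ⊔ Kb red h X := by
  apply le_antisymm
  · intro x hx
    obtain ⟨v, rfl⟩ := rv_surj red h x
    rw [LinearMap.mem_ker, Matrix.mulVecLin_apply, ← rv_mulVec] at hx
    obtain ⟨w, hw⟩ := rv_eq_zero red h hx
    have hwZ : w ∈ Z X := Z_sat red h w (hw ▸ Sm_mem_Z hX v)
    rw [show rv red v = rv red w + rv red (v - w) by rw [rv_sub]; abel]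
    refine Submodule.add_mem_sup ⟨w, hwZ, rfl⟩ ⟨v - w, ?_, rfl⟩
    rw [SetLike.mem_coe, mem_K, Matrix.mulVec_sub, Sm_Z hwZ, hw, sub_self]
  · refine sup_le ?_ ?_
    · rintro x ⟨v, hv, rfl⟩
      rw [LinearMap.mem_ker, Matrix.mulVecLin_apply, ← rv_mulVec, Sm_Z hv, rv_smul, red_p red h,
        zero_smul]
    · rintro x ⟨v, hv, rfl⟩
      rw [LinearMap.mem_ker, Matrix.mulVecLin_apply, ← rv_mulVec, (mem_K X).1 hv]
      funext i; simp [rv]

omit hX in
/-- The powers of the difference on reduced vectors of norm zero. -/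
def Kpow (h : Red red p) (X : Matrix ι ι R) (i : ℕ) : Submodule k (ι → k) :=
  (Kb red h X).map (((Nm X) ^ i).map red).mulVecLin

omit hX in
theorem mem_Kpow (h : Red red p) {i : ℕ} {x : ι → k} :
    x ∈ Kpow red h X i ↔ ∃ v ∈ K X p, rv red (Nm X ^ i *ᵥ v) = x := by
  constructor
  · rintro ⟨_, ⟨v, hv, rfl⟩, rfl⟩
    exact ⟨v, hv, by rw [rv_mulVec]; rfl⟩
  · rintro ⟨v, hv, rfl⟩
    exact ⟨_, ⟨v, hv, rfl⟩, by rw [rv_mulVec]; rfl⟩

theorem ker_N_K (h : Red red p) {v : ι → R} (hv : rv red (Nm X *ᵥ v) = 0) :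
    ∃ u ∈ K X p, v - Nm X ^ (p - 2) *ᵥ u ∈ Z X ∧
      (v ∈ K X p → v = Nm X ^ (p - 2) *ᵥ u) := by
  obtain ⟨w, hw⟩ := rv_eq_zero red h hv
  obtain ⟨u, hu, e⟩ := (Nm_top_K red hX h).2 w (K_sat red h w (hw ▸ Nm_mem_K hX v))
  have h1 : Nm X *ᵥ (v - Nm X ^ (p - 2) *ᵥ u) = 0 := by
    rw [Matrix.mulVec_sub, Matrix.mulVec_mulVec, ← pow_succ',
      show p - 2 + 1 = p - 1 by have := h.prime.two_le; omega, hw, e, sub_self]
  refine ⟨u, hu, (mem_Z X).2 h1, fun hvK => ?_⟩
  exact sub_eq_zero.1 (Nm_inj_K red h (Submodule.sub_mem _ hvK (Nm_pow_mem_K hX hu _)) h1)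

theorem ker_N (h : Red red p) :
    LinearMap.ker ((Nm X).map red).mulVecLin = Zb red h X ⊔ Kpow red h X (p - 2) := by
  apply le_antisymm
  · intro x hx
    obtain ⟨v, rfl⟩ := rv_surj red h x
    rw [LinearMap.mem_ker, Matrix.mulVecLin_apply, ← rv_mulVec] at hx
    obtain ⟨u, hu, hz, -⟩ := ker_N_K red hX h hx
    rw [show rv red v = rv red (v - Nm X ^ (p - 2) *ᵥ u) + rv red (Nm X ^ (p - 2) *ᵥ u) by
      rw [rv_sub]; abel]
    exact Submodule.add_mem_sup ⟨_, hz, rfl⟩ ((mem_Kpow red h).2 ⟨u, hu, rfl⟩)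
  · refine sup_le ?_ ?_
    · rintro x ⟨v, hv, rfl⟩
      rw [LinearMap.mem_ker, Matrix.mulVecLin_apply, ← rv_mulVec, (mem_Z X).1 hv]
      funext i; simp [rv]
    · intro x hx
      obtain ⟨u, hu, rfl⟩ := (mem_Kpow red h).1 hx
      obtain ⟨w, hw, e⟩ := (Nm_top_K red hX h).1 u hu
      rw [LinearMap.mem_ker, Matrix.mulVecLin_apply, ← rv_mulVec, Matrix.mulVec_mulVec, ← pow_succ',
        show p - 2 + 1 = p - 1 by have := h.prime.two_le; omega, e, rv_smul, red_p red h,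
        zero_smul]

theorem Zb_inf_Kpow (h : Red red p) :
    Zb red h X ⊓ Kpow red h X (p - 2) = Zb red h X ⊓ Kb red h X := by
  apply le_antisymm
  · rintro x ⟨hx, hx'⟩
    obtain ⟨u, hu, rfl⟩ := (mem_Kpow red h).1 hx'
    exact ⟨hx, _, Nm_pow_mem_K hX hu _, rfl⟩
  · rintro x ⟨hx, v, hv, rfl⟩
    have h0 : rv red (Nm X *ᵥ v) = 0 := by
      have := (ker_N red hX h).ge (Submodule.mem_sup_left hx)
      rwa [LinearMap.mem_ker, Matrix.mulVecLin_apply, ← rv_mulVec] at this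
    obtain ⟨u, hu, -, e⟩ := ker_N_K red hX h h0
    exact ⟨hx, (mem_Kpow red h).2 ⟨u, hu, by rw [← e hv]⟩⟩

theorem finrank_Kb (h : Red red p) :
    Module.finrank k (Kb red h X) = (p - 1) * Module.finrank k (Kpow red h X (p - 2)) := by
  set t := Module.finrank k (Kpow red h X (p - 2))
  have step : ∀ i ≤ p - 2, Module.finrank k (Kpow red h X i) =
      Module.finrank k (Kpow red h X (i + 1)) + t := by
    intro i hi
    let f := ((Nm X).map red).mulVecLin.domRestrict (Kpow red h X i)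
    have hr : LinearMap.range f = Kpow red h X (i + 1) := by
      ext x
      constructor
      · rintro ⟨⟨y, hy⟩, rfl⟩
        obtain ⟨v, hv, rfl⟩ := (mem_Kpow red h).1 hy
        refine (mem_Kpow red h).2 ⟨v, hv, ?_⟩
        rw [pow_succ', ← Matrix.mulVec_mulVec, rv_mulVec]
        rfl
      · intro hx
        obtain ⟨v, hv, rfl⟩ := (mem_Kpow red h).1 hx
        refine ⟨⟨_, (mem_Kpow red h).2 ⟨v, hv, rfl⟩⟩, ?_⟩
        rw [pow_succ', ← Matrix.mulVec_mulVec, rv_mulVec red (Nm X)]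
        rfl
    have hk : (LinearMap.ker f).map (Kpow red h X i).subtype = Kpow red h X (p - 2) := by
      ext x
      constructor
      · rintro ⟨⟨y, hy⟩, h0, rfl⟩
        obtain ⟨v, hv, rfl⟩ := (mem_Kpow red h).1 hy
        have h0' : rv red (Nm X *ᵥ (Nm X ^ i *ᵥ v)) = 0 := by rw [rv_mulVec]; exact h0
        obtain ⟨u, hu, -, e⟩ := ker_N_K red hX h h0'
        exact (mem_Kpow red h).2 ⟨u, hu, by rw [← e (Nm_pow_mem_K hX hv i)]; rfl⟩
      · intro hx
        obtain ⟨v, hv, rfl⟩ := (mem_Kpow red h).1 hx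
        refine ⟨⟨_, (mem_Kpow red h).2 ⟨Nm X ^ (p - 2 - i) *ᵥ v, Nm_pow_mem_K hX hv _, ?_⟩⟩, ?_, rfl⟩
        · rw [Matrix.mulVec_mulVec, ← pow_add, show i + (p - 2 - i) = p - 2 by omega]
          rfl
        · have := (ker_N red hX h).ge (Submodule.mem_sup_right ((mem_Kpow red h).2 ⟨v, hv, rfl⟩))
          exact this
    rw [← f.finrank_range_add_finrank_ker, hr, show t = Module.finrank k (Kpow red h X (p - 2)) from rfl, ← hk,
      LinearEquiv.finrank_eq ((Submodule.equivMapOfInjective (Kpow red h X i).subtype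
        (Submodule.injective_subtype _) (LinearMap.ker f)).symm)]
  have last : Kpow red h X (p - 1) = ⊥ := by
    rw [eq_bot_iff]
    intro x hx
    obtain ⟨v, hv, rfl⟩ := (mem_Kpow red h).1 hx
    obtain ⟨w, hw, e⟩ := (Nm_top_K red hX h).1 v hv
    rw [e, rv_smul, red_p red h, zero_smul]
    exact Submodule.zero_mem _
  have key : ∀ j ≤ p - 1, Module.finrank k (Kpow red h X (p - 1 - j)) = j * t := by
    intro j
    induction j with
    | zero => intro; rw [Nat.sub_zero, last, finrank_bot, zero_mul]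
    | succ j ih =>
      intro hj
      rw [step _ (by omega), show p - 1 - (j + 1) + 1 = p - 1 - j by omega, ih (by omega)]
      ring
  have h0 : Kpow red h X 0 = Kb red h X := by
    rw [Kpow, pow_zero, Matrix.map_one _ (map_zero _) (map_one _), Matrix.mulVecLin_one,
      Submodule.map_id]
  have := key (p - 1) le_rfl
  rwa [Nat.sub_self, h0] at this

theorem finrank_Z_add_K (h : Red red p) :
    Module.finrank R (Z X) + Module.finrank R (K X p) = Fintype.card ι := by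
  have h1 := Submodule.finrank_quotient_add_finrank (LinearMap.ker (Sm X p).mulVecLin)
  rw [(Sm X p).mulVecLin.quotKerEquivRange.finrank_eq] at h1
  rw [Module.finrank_fintype_fun_eq_card] at h1
  rw [← h1]
  congr 1
  apply le_antisymm
  · let g : Z X →ₗ[R] LinearMap.range (Sm X p).mulVecLin :=
      ((Sm X p).mulVecLin.domRestrict (Z X)).codRestrict _ fun v => ⟨v, rfl⟩
    refine LinearMap.finrank_le_finrank_of_injective (f := g) fun a b e => ?_
    have e' : Sm X p *ᵥ (a : ι → R) = Sm X p *ᵥ (b : ι → R) := congrArg Subtype.val e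
    rw [Sm_Z a.2, Sm_Z b.2] at e'
    exact Subtype.ext (smul_right_injective _ h.ne e')
  · exact Submodule.finrank_mono (by rintro x ⟨v, rfl⟩; exact Sm_mem_Z hX v)

/-- The first Tate module. -/
theorem Zb_sup_ge (h : Red red p) : rangeB red (Sm X p) ≤ Zb red h X :=
  (rangeS_eq red hX h).le.trans inf_le_left

theorem Kb_ge (h : Red red p) : rangeB red (Nm X) ≤ Kb red h X := by
  intro x hx
  obtain ⟨v, rfl⟩ := (mem_rangeB red h).1 hx
  exact ⟨_, Nm_mem_K hX v, rfl⟩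

theorem trace_Sm (h : Red red p) :
    Matrix.trace (Sm X p) = (p : R) * (Module.finrank R (Z X) : R) := by
  have h1 := LinearMap.trace_restrict_eq_of_forall_mem (Z X) (Sm X p).mulVecLin
    (fun v => Sm_mem_Z hX v)
  rw [← Matrix.trace_toLin'_eq, Matrix.toLin'_apply', ← h1]
  have h2 : (Sm X p).mulVecLin.restrict (fun v (_ : v ∈ Z X) => Sm_mem_Z hX v) =
      (p : R) • (LinearMap.id : Z X →ₗ[R] Z X) := by
    ext v : 1
    exact Subtype.ext (Sm_Z v.2)
  rw [h2, map_smul, LinearMap.trace_id, smul_eq_mul]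

/-- The difference of the dimensions of the two Tate modules. -/
theorem herbrand (h : Red red p) :
    ((p - 1 : ℕ) : R) * ((Module.finrank k (Zb red h X) : R) -
        Module.finrank k (rangeB red (Sm X p)) -
        ((Module.finrank k (Kb red h X) : R) - Module.finrank k (rangeB red (Nm X)))) =
      ∑ i ∈ Finset.range (p - 1), Matrix.trace (X ^ (i + 1)) := by
  have hz : Module.finrank k (Zb red h X) = Module.finrank R (Z X) :=
    finrank_redSub red h (Z_sat red h)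
  have hkK : Module.finrank k (Kb red h X) = Module.finrank R (K X p) :=
    finrank_redSub red h (K_sat red h)
  have hk := finrank_Kb red hX h
  have hn := finrank_Z_add_K red hX h
  have hS := ((Sm X p).map red).mulVecLin.finrank_range_add_finrank_ker
  have hN := ((Nm X).map red).mulVecLin.finrank_range_add_finrank_ker
  rw [ker_S red hX h, Module.finrank_fintype_fun_eq_card] at hS
  rw [ker_N red hX h, Module.finrank_fintype_fun_eq_card] at hN
  have hS' := Submodule.finrank_sup_add_finrank_inf_eq (Zb red h X) (Kb red h X)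
  have hN' := Submodule.finrank_sup_add_finrank_inf_eq (Zb red h X) (Kpow red h X (p - 2))
  rw [Zb_inf_Kpow red hX h] at hN'
  have htr := trace_Sm red hX h
  rw [Sm, Matrix.trace_sum, show p = p - 1 + 1 from (Nat.sub_add_cancel h.prime.one_le).symm,
    Finset.sum_range_succ', Nat.sub_add_cancel h.prime.one_le, pow_zero, Matrix.trace_one] at htr
  change Module.finrank k (rangeB red (Sm X p)) + _ = _ at hS
  change Module.finrank k (rangeB red (Nm X)) + _ = _ at hN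
  obtain ⟨q, rfl⟩ : ∃ q, p = q + 1 := ⟨p - 1, (Nat.sub_add_cancel h.prime.one_le).symm⟩
  simp only [Nat.add_sub_cancel] at htr hk ⊢
  have e1 := congrArg (Nat.cast : ℕ → R) hS
  have e2 := congrArg (Nat.cast : ℕ → R) hN
  have e3 := congrArg (Nat.cast : ℕ → R) hS'
  have e4 := congrArg (Nat.cast : ℕ → R) hN'
  have e5 := congrArg (Nat.cast : ℕ → R) hk
  have e6 := congrArg (Nat.cast : ℕ → R) hn
  have e7 := congrArg (Nat.cast : ℕ → R) hz
  have e8 := congrArg (Nat.cast : ℕ → R) hkK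
  push_cast at e1 e2 e3 e4 e5 e6 e7 e8 htr ⊢
  linear_combination (q : R) * (e2 - e1 + e3 - e4) + (q : R) * e7 + e5 - e8 - e6 - htr

omit hX in
/-- A linear map killing one subspace and a section of it on another. -/
theorem exists_split (A U : Submodule k (ι → k)) :
    ∃ P : (ι → k) →ₗ[k] (ι → k), (∀ u ∈ U, P u = 0) ∧ ∀ a ∈ A, P a ∈ A ∧ P a - a ∈ U := by
  let q := U.mkQ.domRestrict A
  obtain ⟨s, hs⟩ := q.rangeRestrict.exists_rightInverse_of_surjective
    (LinearMap.range_rangeRestrict q)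
  obtain ⟨s', hs'⟩ := LinearMap.exists_extend s
  refine ⟨A.subtype ∘ₗ s' ∘ₗ U.mkQ, fun u hu => ?_, fun a ha => ?_⟩
  · simp [(Submodule.Quotient.mk_eq_zero U).2 hu]
  · refine ⟨(s' (U.mkQ a)).2, ?_⟩
    have h1 : s' (U.mkQ a) = s (q.rangeRestrict ⟨a, ha⟩) :=
      LinearMap.congr_fun hs' (q.rangeRestrict ⟨a, ha⟩)
    have h2 : q (s (q.rangeRestrict ⟨a, ha⟩)) = q ⟨a, ha⟩ :=
      congrArg Subtype.val (LinearMap.congr_fun hs (q.rangeRestrict ⟨a, ha⟩))
    show (s' (U.mkQ a) : ι → k) - a ∈ U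
    rw [h1]
    exact (Submodule.Quotient.eq U).1 h2

omit hX in
/-- Lifting of functionals. -/
theorem exists_lift_fn (h : Red red p) (φ : (ι → k) →ₗ[k] k) :
    ∃ f : ι → R, ∀ v, red (f ⬝ᵥ v) = φ (rv red v) := by
  choose f hf using fun i => h.surj (φ (Pi.single i 1))
  refine ⟨f, fun v => ?_⟩
  conv_rhs => rw [← Finset.univ_sum_single (rv red v)]
  rw [map_sum, dotProduct, map_sum]
  refine Finset.sum_congr rfl fun i _ => ?_
  rw [map_mul, hf, show Pi.single i (rv red v i) = rv red v i • (Pi.single i 1 : ι → k) by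
    rw [← Pi.single_smul', smul_eq_mul, mul_one], map_smul, smul_eq_mul, mul_comm]
  rfl

omit hX in
theorem exists_div (h : Red red p) {f : ι → R} (hf : ∀ v, red (f ⬝ᵥ v) = 0) :
    ∃ g, f = (p : R) • g := by
  choose g hg using fun i => (h.ker (f i)).1 (by simpa using hf (Pi.single i 1))
  exact ⟨g, funext hg⟩

theorem lift_Z_one (h : Red red p) {u : ι → R} (hu : u ∈ Z X) (φ : (ι → k) →ₗ[k] k)
    (hφ : ∀ a ∈ Kb red h X, φ a = 0) :
    ∃ Φ : Matrix ι ι R, Commute Φ X ∧ ∀ a ∈ Zb red h X, Φ.map red *ᵥ a = φ a • rv red u := by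
  obtain ⟨f, hf⟩ := exists_lift_fn red h φ
  obtain ⟨g, hg⟩ := exists_div red h (f := f ᵥ* Sm X p) fun v => by
    rw [← Matrix.dotProduct_mulVec, hf]
    exact hφ _ ((rangeS_eq red hX h).le ((mem_rangeB red h).2 ⟨v, rfl⟩)).2
  have hgX : g ᵥ* X = g := by
    refine smul_right_injective _ h.ne ?_
    show (p : R) • (g ᵥ* X) = (p : R) • g
    rw [← Matrix.smul_vecMul, ← hg, Matrix.vecMul_vecMul]
    congr 1
    have := Sm_Nm hX
    rwa [Nm, mul_sub, mul_one, sub_eq_zero] at this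
  refine ⟨Matrix.vecMulVec u g, ?_, ?_⟩
  · show _ * _ = _ * _
    rw [Matrix.vecMulVec_mul, Matrix.mul_vecMulVec, hgX]
    congr 1
    simpa using (X_pow_fix hu 1).symm
  · rintro a ⟨v, hv, rfl⟩
    rw [← rv_mulVec, Matrix.vecMulVec_mulVec, op_smul_eq_smul, rv_smul, ← hf]
    congr 2
    refine mul_left_cancel₀ h.ne ?_
    rw [← smul_eq_mul, ← smul_dotProduct, ← hg, ← Matrix.dotProduct_mulVec, Sm_Z hv,
      dotProduct_smul, smul_eq_mul]

theorem lift_K_one (h : Red red p) {u : ι → R} (hu : u ∈ K X p) (φ : (ι → k) →ₗ[k] k)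
    (hφ : ∀ a ∈ rangeB red (Nm X), φ a = 0) :
    ∃ Φ : Matrix ι ι R, Commute Φ X ∧
      ∀ a ∈ Kb red h X, Φ.map red *ᵥ a - φ a • rv red u ∈ rangeB red (Nm X) := by
  obtain ⟨f, hf⟩ := exists_lift_fn red h φ
  obtain ⟨g, hg⟩ := exists_div red h (f := f ᵥ* Nm X) fun v => by
    rw [← Matrix.dotProduct_mulVec, hf]
    exact hφ _ ((mem_rangeB red h).2 ⟨v, rfl⟩)
  set G : ℕ → Matrix ι ι R := fun j => ∑ l ∈ Finset.range j, X ^ l
  set Φ : Matrix ι ι R :=
    -∑ i ∈ Finset.range p, Matrix.vecMulVec (X ^ i *ᵥ u) (g ᵥ* G (p - i)) with hΦ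
  have hdiff : ∀ j, (p : R) • (g ᵥ* G j) = f ᵥ* (X ^ j) - f := by
    intro j
    rw [← Matrix.smul_vecMul, ← hg, Matrix.vecMul_vecMul, Nm, mul_geom_sum, Matrix.vecMul_sub,
      Matrix.vecMul_one]
  have hp : (p : R) • Φ =
      -∑ i ∈ Finset.range p, X ^ i * Matrix.vecMulVec u f * X ^ (p - i) := by
    rw [hΦ, smul_neg, neg_inj, Finset.smul_sum]
    have h0 : ∑ i ∈ Finset.range p, Matrix.vecMulVec (X ^ i *ᵥ u) f = 0 := by
      ext a b
      have := congrFun ((mem_K X).1 hu) a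
      simp only [Sm, Matrix.sum_mulVec, Finset.sum_apply] at this
      simp [Matrix.sum_apply, Matrix.vecMulVec_apply, ← Finset.sum_mul, this]
    rw [← sub_eq_zero, ← Finset.sum_sub_distrib, ← neg_eq_zero, ← Finset.sum_neg_distrib, ← h0]
    refine Finset.sum_congr rfl fun i _ => ?_
    rw [← Matrix.vecMulVec_smul, hdiff, Matrix.mul_vecMulVec, Matrix.vecMulVec_mul,
      Matrix.vecMulVec_sub]
    abel
  refine ⟨Φ, ?_, ?_⟩
  · -- commutation after multiplication by `p`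
    refine smul_right_injective _ h.ne ?_
    show (p : R) • (Φ * X) = (p : R) • (X * Φ)
    rw [← smul_mul_assoc, ← mul_smul_comm, hp, neg_mul, mul_neg, neg_inj, Finset.sum_mul,
      Finset.mul_sum]
    obtain ⟨q, rfl⟩ : ∃ q, p = q + 1 := ⟨p - 1, (Nat.sub_add_cancel h.prime.one_le).symm⟩
    rw [Finset.sum_range_succ' _ q, Finset.sum_range_succ _ q]
    simp only [pow_zero, one_mul, Nat.sub_zero, add_tsub_cancel_left, pow_one]
    congr 1
    · refine Finset.sum_congr rfl fun i hi => ?_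
      rw [show q + 1 - i = (q + 1 - (i + 1)) + 1 by have := Finset.mem_range.1 hi; omega,
        pow_succ' X i, pow_succ X (q + 1 - (i + 1))]
      simp only [mul_assoc]
    · rw [hX, mul_one, ← mul_assoc, ← mul_assoc, ← pow_succ', hX, one_mul]
  · rintro a ⟨v, hv, rfl⟩
    obtain ⟨w, hw⟩ : ∃ w, Φ *ᵥ v = (f ⬝ᵥ v) • u + Nm X *ᵥ w := by
      refine ⟨-∑ i ∈ Finset.range p, ((g ᵥ* G (p - i)) ⬝ᵥ v) • (G i *ᵥ u), ?_⟩
      have hs : ∑ i ∈ Finset.range p, (g ᵥ* G (p - i)) ⬝ᵥ v = -(f ⬝ᵥ v) := by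
        refine mul_left_cancel₀ h.ne ?_
        have hone : ∀ j, (p : R) * ((g ᵥ* G j) ⬝ᵥ v) = f ⬝ᵥ (X ^ j *ᵥ v) - f ⬝ᵥ v := fun j => by
          rw [← smul_eq_mul, ← smul_dotProduct, hdiff, sub_dotProduct, Matrix.dotProduct_mulVec]
        rw [Finset.mul_sum, Finset.sum_congr rfl fun i _ => hone (p - i), Finset.sum_sub_distrib,
          ← dotProduct_sum, ← Matrix.sum_mulVec, sum_rev hX, (mem_K X).1 hv, dotProduct_zero,
          Finset.sum_const, Finset.card_range, nsmul_eq_mul, zero_sub, mul_neg]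
      rw [hΦ, Matrix.neg_mulVec, Matrix.sum_mulVec, Matrix.mulVec_neg, Matrix.mulVec_sum,
        ← sub_eq_add_neg, ← neg_neg ((f ⬝ᵥ v) • u), ← neg_smul, ← hs, Finset.sum_smul,
        sub_eq_add_neg, ← neg_add, ← Finset.sum_add_distrib]
      congr 1
      refine Finset.sum_congr rfl fun i _ => ?_
      rw [Matrix.vecMulVec_mulVec, op_smul_eq_smul, Matrix.mulVec_smul, ← smul_add,
        Matrix.mulVec_mulVec, Nm, mul_geom_sum, Matrix.sub_mulVec, Matrix.one_mulVec,
        add_sub_cancel]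
    rw [← rv_mulVec, hw, rv_add, rv_smul, hf, add_sub_cancel_left]
    exact (mem_rangeB red h).2 ⟨w, rfl⟩

omit hX in
theorem lift_sum {A T : Submodule k (ι → k)}
    (one : ∀ j : ι, ∀ φ : (ι → k) →ₗ[k] k, ∀ u : ι → k, (∀ t ∈ T, φ t = 0) → u ∈ A →
      ∃ Φ : Matrix ι ι R, Commute Φ X ∧ ∀ a ∈ A, Φ.map red *ᵥ a - φ a • u ∈ A ⊓ T)
    (ψ : (ι → k) →ₗ[k] (ι → k)) (hA : ∀ a ∈ A, ψ a ∈ A) (hT : ∀ a ∈ A ⊓ T, ψ a ∈ T) :
    ∃ Φ : Matrix ι ι R, Commute Φ X ∧ ∀ a ∈ A, Φ.map red *ᵥ a - ψ a ∈ A ⊓ T := by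
  classical
  obtain ⟨P, hP0, hP⟩ := exists_split A T
  obtain ⟨Q', hQ'⟩ : ∃ Q' : (ι → k) →ₗ[k] (ι → k), ∀ x, (Q' x ∈ A) ∧ (x ∈ A → Q' x = x) := by
    obtain ⟨B, hB⟩ := A.exists_isCompl
    exact ⟨A.subtype ∘ₗ A.projectionOnto B hB, fun x =>
      ⟨(A.projectionOnto B hB x).2, fun hx =>
        congrArg Subtype.val (Submodule.projectionOnto_apply_left hB ⟨x, hx⟩)⟩⟩
  choose Φ hΦc hΦ using fun j => one j ((LinearMap.proj j).comp (ψ.comp P))
    (Q' (Pi.single j 1)) (fun t ht => by simp [hP0 t ht]) (hQ' _).1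
  refine ⟨∑ j, Φ j, Commute.sum_left _ _ _ fun j _ => hΦc j, fun a ha => ?_⟩
  have h1 : ∑ j, ((LinearMap.proj j).comp (ψ.comp P)) a • Q' (Pi.single j 1) = ψ (P a) := by
    simp only [← map_smul, ← map_sum, LinearMap.comp_apply, LinearMap.proj_apply]
    rw [show ∑ j, ψ (P a) j • (Pi.single j 1 : ι → k) = ψ (P a) from (pi_eq_sum_univ' (ψ (P a))).symm]
    exact (hQ' _).2 (hA _ (hP a ha).1)
  have hd : P a - a ∈ A ⊓ T := ⟨A.sub_mem (hP a ha).1 ha, (hP a ha).2⟩
  rw [show (∑ j, Φ j).map red = ∑ j, (Φ j).map red from map_sum red.mapMatrix Φ _, Matrix.sum_mulVec,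
    show ∑ j, (Φ j).map red *ᵥ a - ψ a =
      ∑ j, ((Φ j).map red *ᵥ a - ((LinearMap.proj j).comp (ψ.comp P)) a • Q' (Pi.single j 1)) +
        ψ (P a - a) by rw [Finset.sum_sub_distrib, h1, map_sub]; abel]
  exact Submodule.add_mem _ (Submodule.sum_mem _ fun j _ => hΦ j a ha)
    ⟨hA _ hd.1, hT _ hd⟩

/-- Every endomorphism of the first Tate module lifts. -/
theorem lift_Z (h : Red red p) (ψ : (ι → k) →ₗ[k] (ι → k))
    (hA : ∀ a ∈ Zb red h X, ψ a ∈ Zb red h X)
    (hT : ∀ a ∈ rangeB red (Sm X p), ψ a ∈ rangeB red (Sm X p)) :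
    ∃ Φ : Matrix ι ι R, Commute Φ X ∧
      ∀ a ∈ Zb red h X, Φ.map red *ᵥ a - ψ a ∈ rangeB red (Sm X p) := by
  rw [rangeS_eq red hX h] at hT ⊢
  refine lift_sum red (fun j φ u hφ hu => ?_) ψ hA fun a ha => (hT a ha).2
  obtain ⟨v, hv, rfl⟩ := hu
  obtain ⟨Φ, hc, hΦ⟩ := lift_Z_one red hX h hv φ hφ
  exact ⟨Φ, hc, fun a ha => by rw [hΦ a ha, sub_self]; exact Submodule.zero_mem _⟩

/-- Every endomorphism of the second Tate module lifts. -/
theorem lift_K (h : Red red p) (ψ : (ι → k) →ₗ[k] (ι → k))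
    (hA : ∀ a ∈ Kb red h X, ψ a ∈ Kb red h X)
    (hT : ∀ a ∈ rangeB red (Nm X), ψ a ∈ rangeB red (Nm X)) :
    ∃ Φ : Matrix ι ι R, Commute Φ X ∧
      ∀ a ∈ Kb red h X, Φ.map red *ᵥ a - ψ a ∈ rangeB red (Nm X) := by
  have e : Kb red h X ⊓ rangeB red (Nm X) = rangeB red (Nm X) := inf_eq_right.2 (Kb_ge red hX h)
  obtain ⟨Φ, hc, hΦ⟩ := lift_sum red (A := Kb red h X) (T := rangeB red (Nm X))
    (fun j φ u hφ hu => by
      obtain ⟨v, hv, rfl⟩ := hu
      rw [e]
      exact lift_K_one red hX h hv φ hφ) ψ hA fun a ha => hT a ha.2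
  exact ⟨Φ, hc, fun a ha => (hΦ a ha).2⟩

theorem proj_zero (h : Red red p) (Ψ : Matrix ι ι R) :
    (∀ a ∈ Zb red h X, (∑ i ∈ Finset.range p, X ^ i * Ψ * X ^ (p - i)).map red *ᵥ a ∈
        rangeB red (Sm X p)) ∧
      ∀ a ∈ Kb red h X, (∑ i ∈ Finset.range p, X ^ i * Ψ * X ^ (p - i)).map red *ᵥ a ∈
        rangeB red (Nm X) := by
  constructor
  · rintro a ⟨v, hv, rfl⟩
    rw [← rv_mulVec]
    refine (mem_rangeB red h).2 ⟨Ψ *ᵥ v, ?_⟩
    congr 1
    rw [Sm, Matrix.sum_mulVec, Matrix.sum_mulVec]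
    exact Finset.sum_congr rfl fun i _ => by
      rw [← Matrix.mulVec_mulVec, X_pow_fix hv, ← Matrix.mulVec_mulVec]
  · rintro a ⟨v, hv, rfl⟩
    rw [← rv_mulVec]
    refine (mem_rangeB red h).2
      ⟨∑ i ∈ Finset.range p, (∑ l ∈ Finset.range i, X ^ l) *ᵥ (Ψ *ᵥ (X ^ (p - i) *ᵥ v)), ?_⟩
    congr 1
    have h0 : ∑ i ∈ Finset.range p, X ^ (p - i) *ᵥ v = 0 := by
      rw [← Matrix.sum_mulVec, sum_rev hX, (mem_K X).1 hv]
    rw [Matrix.mulVec_sum]
    simp only [Matrix.mulVec_mulVec, Nm, ← mul_assoc, mul_geom_sum]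
    simp only [sub_mul, one_mul, Matrix.sub_mulVec, Finset.sum_sub_distrib, Matrix.sum_mulVec]
    rw [show ∑ i ∈ Finset.range p, (Ψ * X ^ (p - i)) *ᵥ v = 0 by
      simp only [← Matrix.mulVec_mulVec]; rw [← Matrix.mulVec_sum, h0, Matrix.mulVec_zero],
      sub_zero]

end CfsgLib.Blocks.TateLattice
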