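import Cfsg.Agent.Lib.Blocks.Unramified
import Cfsg.Agent.Lib.Blocks.TateLattice
import Cfsg.Agent.Lib.CharTheory.PowerMap

/-!
# The lattice spanned by the translates of a sum of `p`-conjugate characters

For `p` dividing the group order exactly once, the `p`-conjugates of an irreducible character `χ`
agree on `p`-regular elements.  The translates of their sum span a lattice over the unramified ring
whose endomorphisms satisfy, modulo `p`, a polynomial of degree at most `χ 1`.
-/

namespace CfsgLib.Blocks.GaloisLattice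

open Cfsg CfsgLib.CharTheory Polynomial
open scoped ComplexConjugate Matrix

set_option linter.unusedVariables false
set_option linter.style.haveILetI false
set_option linter.unusedSectionVars false

universe u

variable {p : ℕ} {M : Ideal AlgInt} {G : Type u} [Group G] [Fintype G]

theorem root_of_monic_Wr (hM : IsPModular p M) {C : (Wr hM)[X]} (hC : C.Monic) {μ : ℂ}
    (h : C.eval₂ (Wr hM).subtype μ = 0) : MemLocalRing M μ := by
  classical
  choose a b hb hab using fun i => memLocalRing_iff.1 (memRing_Wr hM (C.coeff i).2)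
  set n := C.natDegree
  set B : AlgInt := ∏ i ∈ Finset.range n, b i
  haveI := res_isDomain hM
  have hB : B ∉ M := fun hm => by
    rw [← Ideal.Quotient.eq_zero_iff_mem, map_prod, Finset.prod_eq_zero_iff] at hm
    obtain ⟨i, -, hi⟩ := hm
    exact mk_ne_zero (hb i) hi
  let c : ℕ → AlgInt := fun i =>
    a i * (∏ j ∈ (Finset.range n).erase i, b j) * B ^ (n - i - 1)
  let Q : AlgInt[X] := X ^ n + ∑ i ∈ Finset.range n, Polynomial.C (c i) * X ^ i
  have hQ : Q.Monic := monic_X_pow_add (by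
    refine (degree_sum_le _ _).trans_lt ((Finset.sup_lt_iff (WithBot.bot_lt_coe n)).2 fun i hi => ?_)
    exact (degree_C_mul_X_pow_le i _).trans_lt (WithBot.coe_lt_coe.2 (Finset.mem_range.1 hi)))
  have hroot : Q.eval₂ (algebraMap AlgInt ℂ) ((B : ℂ) * μ) = 0 := by
    rw [eval₂_eq_sum_range, show C.natDegree = n from rfl, Finset.sum_range_succ,
      hC.coeff_natDegree, map_one, one_mul] at h
    simp only [Q, eval₂_add, eval₂_pow, eval₂_X, eval₂_finsetSum, eval₂_mul, eval₂_C]
    have : ∀ i ∈ Finset.range n, algebraMap AlgInt ℂ (c i) * ((B : ℂ) * μ) ^ i =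
        (B : ℂ) ^ n * ((Wr hM).subtype (C.coeff i) * μ ^ i) := by
      intro i hi
      set π := ∏ j ∈ (Finset.range n).erase i, b j with hπ
      have e1 : (B : ℂ) = (b i : ℂ) * (π : ℂ) := by
        rw [show B = b i * π from (Finset.mul_prod_erase _ _ hi).symm]; rfl
      obtain ⟨l, hn⟩ : ∃ l, n = i + l + 1 :=
        ⟨n - i - 1, by have := Finset.mem_range.1 hi; omega⟩
      show ((a i * π * B ^ (n - i - 1) : AlgInt) : ℂ) * _ = _
      rw [show n - i - 1 = l by omega, hn]
      simp only [Subalgebra.coe_mul, Subalgebra.coe_pow, Subring.coe_subtype, ← hab i, mul_pow]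
      linear_combination
        (-((B : ℂ) ^ i * (B : ℂ) ^ l * ((C.coeff i : ℂ)) * μ ^ i)) * e1
    rw [Finset.sum_congr rfl this, mul_pow, ← Finset.mul_sum, ← mul_add, add_comm (μ ^ n), h,
      mul_zero]
  haveI : Algebra.IsIntegral ℤ AlgInt := integralClosure.AlgebraIsIntegral
  have hint : IsIntegral ℤ ((B : ℂ) * μ) :=
    isIntegral_trans (A := AlgInt) _ ⟨Q, hQ, hroot⟩
  exact memLocalRing_iff.2 ⟨⟨_, hint⟩, B, hB, mul_comm _ _⟩

section pairs

variable {ζ ζ' : ℂ}

/-- Pairs of values of one polynomial at two primitive roots. -/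
noncomputable def pairs (hM : IsPModular p M) (ζ ζ' : ℂ) : Subring (ℂ × ℂ) :=
  (RingHom.prod (eval₂RingHom (Wr hM).subtype ζ) (eval₂RingHom (Wr hM).subtype ζ')).range

theorem pair_mem_pairs (hM : IsPModular p M) {a : ℂ} (ha : a ∈ Wr hM) (i : ℕ) :
    (a * ζ ^ i, a * ζ' ^ i) ∈ pairs hM ζ ζ' :=
  ⟨Polynomial.C ⟨a, ha⟩ * X ^ i, by simp⟩

theorem geom_root (hp : 1 < p) (hζ : IsPrimitiveRoot ζ p) : ∑ i ∈ Finset.range p, ζ ^ i = 0 :=
  hζ.geom_sum_eq_zero hp

theorem pairs_res (hM : IsPModular p M) (hζ : IsPrimitiveRoot ζ p) (hζ' : IsPrimitiveRoot ζ' p)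
    {N : ℕ} (hN : N ≠ 0) {a b : ℂ} (h : ((N : ℂ) * a, (N : ℂ) * b) ∈ pairs hM ζ ζ')
    (ha : MemLocalRing M a) : res hM a = res hM b := by
  classical
  haveI := res_isDomain hM
  obtain ⟨R0, hR0⟩ := h
  obtain ⟨v, c, hc, rfl⟩ := Nat.exists_eq_pow_mul_and_not_dvd hN p hM.1.ne_one
  set Φ : (Wr hM)[X] := ∑ i ∈ Finset.range p, X ^ i with hΦ
  have hΦm : Φ.Monic := monic_geom_sum_X hM.1.ne_zero
  have hΦd : Φ.natDegree = p - 1 := by
    obtain ⟨q, rfl⟩ : ∃ q, p = q + 1 := ⟨p - 1, (Nat.sub_add_cancel hM.1.one_le).symm⟩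
    refine natDegree_eq_of_le_of_coeff_ne_zero ?_ ?_
    · exact natDegree_sum_le_of_forall_le _ _ fun i hi =>
        (natDegree_X_pow i).le.trans (by have := Finset.mem_range.1 hi; omega)
    · simp [hΦ]
  set R : (Wr hM)[X] := (Polynomial.C ⟨(c : ℂ)⁻¹, natCast_inv_mem_Wr hM hc⟩ * R0) %ₘ Φ with hR
  have hev : ∀ {z : ℂ}, IsPrimitiveRoot z p → R.eval₂ (Wr hM).subtype z =
      (c : ℂ)⁻¹ * R0.eval₂ (Wr hM).subtype z := by
    intro z hz
    rw [hR, modByMonic_eq_sub_mul_div]
    simp only [eval₂_sub, eval₂_mul, eval₂_C, hΦ, eval₂_finsetSum, eval₂_pow, eval₂_X,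
      geom_root hM.1.one_lt hz, zero_mul, sub_zero]
    rfl
  set R1 : (Wr hM)[X] := R.comp (1 - X) with hR1
  have hdeg : R1.natDegree < p - 1 := by
    have hp2 := hM.1.two_le
    by_cases h0 : R = 0
    · rw [hR1, h0, zero_comp, natDegree_zero]; omega
    have h1 : R.natDegree < p - 1 := by
      rw [← hΦd]
      exact natDegree_modByMonic_lt _ hΦm (fun e => by
        rw [e, natDegree_one] at hΦd; omega)
    refine lt_of_le_of_lt (natDegree_comp_le.trans ?_) h1
    have : (1 - X : (Wr hM)[X]).natDegree ≤ 1 :=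
      (natDegree_sub_le _ _).trans (by simp)
    calc R.natDegree * (1 - X : (Wr hM)[X]).natDegree ≤ R.natDegree * 1 := Nat.mul_le_mul_left _ this
      _ = R.natDegree := mul_one _
  set β : ℕ → ℂ := fun i => (R1.coeff i : ℂ)
  have hexp : ∀ {z : ℂ}, IsPrimitiveRoot z p →
      R.eval₂ (Wr hM).subtype z = ∑ i ∈ Finset.range (p - 1), β i * (1 - z) ^ i := by
    intro z hz
    rw [show R.eval₂ (Wr hM).subtype z = R1.eval₂ (Wr hM).subtype (1 - z) by
      rw [hR1, eval₂_comp]; simp, eval₂_eq_sum_range' _ hdeg]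
    rfl
  have hp0 : ((p : ℂ) ^ v) ≠ 0 := pow_ne_zero _ (Nat.cast_ne_zero.2 hM.1.ne_zero)
  have hc0 : (c : ℂ) ≠ 0 := Nat.cast_ne_zero.2 (right_ne_zero_of_mul hN)
  have e1 : R0.eval₂ (Wr hM).subtype ζ = ((p ^ v * c : ℕ) : ℂ) * a := congrArg Prod.fst hR0
  have e2 : R0.eval₂ (Wr hM).subtype ζ' = ((p ^ v * c : ℕ) : ℂ) * b := congrArg Prod.snd hR0
  have ea : ∑ i ∈ Finset.range (p - 1), β i * (1 - ζ) ^ i = (p : ℂ) ^ v * a := by
    rw [← hexp hζ, hev hζ, e1]; push_cast; field_simp
  have eb : ∑ i ∈ Finset.range (p - 1), β i * (1 - ζ') ^ i = (p : ℂ) ^ v * b := by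
    rw [← hexp hζ', hev hζ', e2]; push_cast; field_simp
  choose! w hw ew using
    zeta_coeff_dvd hM hζ v β (fun i => (R1.coeff i).2) ⟨a, ha, ea⟩
  have key : ∀ {z x : ℂ}, IsPrimitiveRoot z p →
      ∑ i ∈ Finset.range (p - 1), β i * (1 - z) ^ i = (p : ℂ) ^ v * x → res hM x = res hM (w 0) := by
    intro z x hz hx
    have hzr : MemLocalRing M (1 - z) := (loc hM).sub_mem (loc hM).one_mem
      (memRing_of_isIntegral hM
        (IsIntegral.of_pow hM.1.pos (by rw [hz.pow_eq_one]; exact isIntegral_one)))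
    have h1 : x = ∑ i ∈ Finset.range (p - 1), w i * (1 - z) ^ i := by
      apply mul_left_cancel₀ hp0
      rw [← hx, Finset.mul_sum]
      exact Finset.sum_congr rfl fun i hi => by rw [ew i (Finset.mem_range.1 hi)]; ring
    have hterm : ∀ i ∈ Finset.range (p - 1), MemLocalRing M (w i * (1 - z) ^ i) := fun i hi =>
      (loc hM).mul_mem (memRing_Wr hM (hw i (Finset.mem_range.1 hi))) ((loc hM).pow_mem hzr i)
    rw [h1, res_sum hM hterm, Finset.sum_eq_single 0]
    · simp
    · intro i hi hne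
      rw [res_mul hM (memRing_Wr hM (hw i (Finset.mem_range.1 hi))) ((loc hM).pow_mem hzr i),
        res_pow hM hzr, (one_sub_zeta hM hz).1, zero_pow hne, mul_zero]
    · intro h0
      exact absurd (Finset.mem_range.2 (show 0 < p - 1 by have := hM.1.two_le; omega)) h0
  rw [key hζ ea, key hζ' eb]

theorem esymm_pairs (hM : IsPModular p M) {s : ℕ} (v : Fin s → ℂ × ℂ)
    (h : ∀ l, 1 ≤ l → ∑ i, v i ^ l ∈ pairs hM ζ ζ') (l : ℕ) :
    ((l.factorial : ℕ) : ℂ × ℂ) * (Finset.univ.val.map v).esymm l ∈ pairs hM ζ ζ' := by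
  induction l using Nat.strong_induction_on with
  | _ l ih =>
    rw [← MvPolynomial.aeval_esymm_eq_multiset_esymm (Fin s) ℤ]
    rcases Nat.eq_zero_or_pos l with rfl | hl
    · simp [MvPolynomial.esymm_zero, Subring.one_mem]
    obtain ⟨q, rfl⟩ : ∃ q, l = q + 1 := ⟨l - 1, by omega⟩
    have h1 := congrArg (MvPolynomial.aeval v) (MvPolynomial.mul_esymm_eq_sum (Fin s) ℤ (q + 1))
    simp only [map_mul, map_natCast, map_pow, map_neg, map_one, map_sum] at h1
    rw [Nat.factorial_succ, Nat.cast_mul, mul_comm ((q + 1 : ℕ) : ℂ × ℂ), mul_assoc, h1,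
      ← mul_assoc, mul_comm ((q.factorial : ℕ) : ℂ × ℂ), mul_assoc, Finset.mul_sum]
    refine Subring.mul_mem _ (Subring.pow_mem _ (Subring.neg_mem _ (Subring.one_mem _)) _)
      (Subring.sum_mem _ fun a ha => ?_)
    obtain ⟨ha1, ha2⟩ := Finset.mem_filter.1 ha
    rw [Finset.HasAntidiagonal.mem_antidiagonal] at ha1
    obtain ⟨t, ht⟩ := Nat.factorial_dvd_factorial (show a.1 ≤ q by omega)
    have hps : MvPolynomial.aeval v (MvPolynomial.psum (Fin s) ℤ a.2) = ∑ i, v i ^ a.2 := by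
      simp [MvPolynomial.psum, map_sum]
    rw [ht, Nat.cast_mul, hps, MvPolynomial.aeval_esymm_eq_multiset_esymm,
      show ((a.1.factorial : ℕ) : ℂ × ℂ) * (t : ℂ × ℂ) *
          ((-1) ^ a.1 * (Finset.univ.val.map v).esymm a.1 * ∑ i, v i ^ a.2) =
        (t : ℂ × ℂ) * ((-1) ^ a.1 *
          (((a.1.factorial : ℕ) : ℂ × ℂ) * (Finset.univ.val.map v).esymm a.1) *
          ∑ i, v i ^ a.2) by ring]
    exact Subring.mul_mem _ (natCast_mem _ t) (Subring.mul_mem _ (Subring.mul_mem _
      (Subring.pow_mem _ (Subring.neg_mem _ (Subring.one_mem _)) _) (ih a.1 ha2))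
      (h a.2 (by omega)))

end pairs

/-- The traces of the powers of a matrix are the power sums of its eigenvalues. -/
theorem trace_pow_roots {ι : Type*} [Fintype ι] [DecidableEq ι] (B : Matrix ι ι ℂ) {l : ℕ}
    (hl : 0 < l) : Matrix.trace (B ^ l) = (B.charpoly.roots.map (· ^ l)).sum := by
  classical
  obtain ⟨ω, hω⟩ : ∃ ω : ℂ, IsPrimitiveRoot ω l := ⟨_, Complex.isPrimitiveRoot_exp l hl.ne'⟩
  have hω' : IsPrimitiveRoot (Polynomial.C ω) l := hω.map_of_injective Polynomial.C_injective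
  have hid : ∀ (α : ℂ[X]) , (X ^ l - Polynomial.C (α ^ l) : ℂ[X][X]) =
      ∏ i ∈ Finset.range l, (X - Polynomial.C (Polynomial.C ω ^ i * α)) := fun α =>
    X_pow_sub_C_eq_prod hω' hl rfl
  set Bc : Matrix ι ι ℂ[X] := B.map Polynomial.C
  let φ : ℂ[X][X] →* ℂ[X] :=
    Matrix.detMonoidHom.comp (aeval Bc : ℂ[X][X] →ₐ[ℂ[X]] Matrix ι ι ℂ[X]).toRingHom.toMonoidHom
  have hcp : ∀ (A : Matrix ι ι ℂ) (q : ℂ[X]),
      (A.map Polynomial.C - algebraMap ℂ[X] (Matrix ι ι ℂ[X]) q).det =
        (-1) ^ Fintype.card ι * A.charpoly.comp q := by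
    intro A q
    rw [← neg_sub, Matrix.det_neg]
    congr 1
    have h1 := (compRingHom q).map_det A.charmatrix
    rw [show A.charpoly.comp q = compRingHom q A.charmatrix.det from rfl, h1]
    congr 1
    ext i j
    by_cases hij : i = j
    · subst hij
      simp [Matrix.algebraMap_matrix_apply]
    · simp [Matrix.algebraMap_matrix_apply, hij, Matrix.charmatrix_apply_ne _ _ _ hij]
  set cp := B.charpoly with hcpdef
  have hsplit : cp = (cp.roots.map fun r => X - Polynomial.C r).prod :=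
    ((IsAlgClosed.splits cp).eq_prod_roots_of_monic B.charpoly_monic)
  have hcard : Multiset.card cp.roots = Fintype.card ι := by
    rw [← IsAlgClosed.splits cp |>.natDegree_eq_card_roots, B.charpoly_natDegree_eq_dim]
  have hprod : ((B ^ l).charpoly).comp ((X : ℂ[X]) ^ l) =
      ((cp.roots.map (· ^ l)).map fun r => X - Polynomial.C r).prod.comp ((X : ℂ[X]) ^ l) := by
    apply mul_left_cancel₀ (pow_ne_zero (Fintype.card ι) (neg_ne_zero.2 (one_ne_zero (α := ℂ[X]))))
    rw [← hcp (B ^ l) (X ^ l), Matrix.map_pow]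
    have h1 := congrArg φ (hid X)
    rw [map_prod] at h1
    simp only [φ, MonoidHom.comp_apply, AlgHom.toRingHom_eq_coe, RingHom.toMonoidHom_eq_coe, MonoidHom.coe_coe, RingHom.coe_coe, map_sub, map_pow, aeval_X, aeval_C,
      Matrix.coe_detMonoidHom] at h1
    rw [map_pow (algebraMap ℂ[X] (Matrix ι ι ℂ[X])), h1]
    simp only [← map_mul, Bc]
    rw [Finset.prod_congr rfl fun i _ => by
      rw [← map_pow Polynomial.C, hcp B (Polynomial.C (ω ^ i) * X)]]
    rw [show (-1 : ℂ[X]) ^ Fintype.card ι = (cp.roots.map fun _ => (-1 : ℂ[X])).prod by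
      rw [Multiset.map_const', Multiset.prod_replicate, hcard]]
    have h2 : ∀ q : ℂ[X], (cp.roots.map fun _ => (-1 : ℂ[X])).prod * cp.comp q =
        (cp.roots.map fun r => Polynomial.C r - q).prod := fun q => by
      conv_lhs => arg 2; rw [hsplit]
      rw [multiset_prod_comp, Multiset.map_map, ← Multiset.prod_map_mul]
      exact congrArg Multiset.prod (Multiset.map_congr rfl fun r _ => by
        simp [sub_comp])
    rw [multiset_prod_comp, Multiset.map_map, Multiset.map_map, ← Multiset.prod_map_mul]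
    rw [Finset.prod_congr rfl fun i _ => h2 (Polynomial.C (ω ^ i) * X)]
    rw [show ∏ i ∈ Finset.range l, (cp.roots.map fun r => Polynomial.C r - Polynomial.C (ω ^ i) * X).prod =
      (cp.roots.map fun r => ∏ i ∈ Finset.range l, (Polynomial.C r - Polynomial.C (ω ^ i) * X)).prod by
        rw [Multiset.prod_map_prod]]
    refine congrArg Multiset.prod (Multiset.map_congr rfl fun r _ => ?_)
    have h3 := congrArg (Polynomial.eval (Polynomial.C r)) (hid X)
    simp only [eval_sub, eval_pow, eval_X, eval_C, eval_prod] at h3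
    simp only [Function.comp_apply, sub_comp, X_comp, C_comp, pow_comp, map_pow]
    rw [← h3]
    ring
  have heq : (B ^ l).charpoly = ((cp.roots.map (· ^ l)).map fun r => X - Polynomial.C r).prod := by
    have h1 : ∀ f : ℂ[X], f.comp (X ^ l) = expand ℂ l f := fun f => (expand_eq_comp_X_pow l).symm
    rw [h1, h1] at hprod
    exact expand_injective hl hprod
  rw [Matrix.trace_eq_sum_roots_charpoly, heq, roots_multiset_prod_X_sub_C]

/-- Exponents of Galois automorphisms fixing the roots of unity of order prime to `p`. -/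
def GalExp (G : Type u) (p m : ℕ) : Prop :=
  m.Coprime (Nat.card G) ∧ m ≡ 1 [MOD Nat.card G / p]

open Classical in
/-- The `p`-conjugates of a character. -/
noncomputable def galOrbit (p : ℕ) (χ : IrrCharacter G) : Finset (IrrCharacter G) :=
  Finset.univ.filter fun ψ => ∃ m, GalExp G p m ∧ (ψ : G → ℂ) = fun g => (χ : G → ℂ) (g ^ m)

theorem galExp_one : GalExp G p 1 := ⟨Nat.coprime_one_left _, rfl⟩

theorem galExp_mul {m m' : ℕ} (h : GalExp G p m) (h' : GalExp G p m') : GalExp G p (m * m') :=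
  ⟨h.1.mul_left h'.1, by simpa using h.2.mul h'.2⟩

theorem mem_galOrbit {χ ψ : IrrCharacter G} : ψ ∈ galOrbit p χ ↔
    ∃ m, GalExp G p m ∧ (ψ : G → ℂ) = fun g => (χ : G → ℂ) (g ^ m) := by
  classical
  simp [galOrbit]

theorem self_mem_galOrbit (χ : IrrCharacter G) : χ ∈ galOrbit p χ :=
  mem_galOrbit.2 ⟨1, galExp_one, by simp⟩

theorem exists_galExp (hp : p.Prime) (hdvd : p ∣ Nat.card G) (hsq : ¬ p ^ 2 ∣ Nat.card G) {j : ℕ}
    (hj : ¬ p ∣ j) : ∃ m, GalExp G p m ∧ m ≡ j [MOD p] := by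
  obtain ⟨n, hn⟩ := hdvd
  have hpn : ¬ p ∣ n := fun h => hsq (by rw [hn, sq]; exact mul_dvd_mul_left p h)
  have hcop : n.Coprime p := (hp.coprime_iff_not_dvd.2 hpn).symm
  have hdiv : Nat.card G / p = n := by rw [hn, Nat.mul_div_cancel_left _ hp.pos]
  obtain ⟨m, hm1, hm2⟩ := Nat.chineseRemainder hcop 1 j
  refine ⟨m, ⟨?_, hdiv.symm ▸ hm1⟩, hm2⟩
  rw [hn]
  refine Nat.Coprime.mul_right ((hp.coprime_iff_not_dvd.2 fun h => hj ?_).symm) ?_
  · exact (Nat.ModEq.dvd_iff hm2 dvd_rfl).1 h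
  · exact Nat.Coprime.symm (Nat.coprime_iff_gcd_eq_one.2 (by
      rw [Nat.gcd_comm, hm1.gcd_eq, Nat.gcd_one_left]))

/-- The decomposition of a root of unity. -/
theorem root_split (hp : p.Prime) (hdvd : p ∣ Nat.card G) (hsq : ¬ p ^ 2 ∣ Nat.card G) {y : ℂ}
    (hy : y ^ Nat.card G = 1) :
    ∃ a b : ℂ, y = a * b ∧ a ∈ regRing p ∧ b ^ p = 1 ∧
      ∀ m, GalExp G p m → y ^ m = a * b ^ m := by
  obtain ⟨n, hn⟩ := hdvd
  have hpn : ¬ p ∣ n := fun h => hsq (by rw [hn, sq]; exact mul_dvd_mul_left p h)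
  have hcop : n.Coprime p := (hp.coprime_iff_not_dvd.2 hpn).symm
  have hdiv : Nat.card G / p = n := by rw [hn, Nat.mul_div_cancel_left _ hp.pos]
  obtain ⟨u, hu1, hu2⟩ := Nat.chineseRemainder hcop 1 0
  obtain ⟨v, hv1, hv2⟩ := Nat.chineseRemainder hcop 0 1
  have hred : ∀ {i j : ℕ}, i ≡ j [MOD Nat.card G] → y ^ i = y ^ j := fun {i j} h => by
    rw [pow_eq_pow_mod i hy, pow_eq_pow_mod j hy, h]
  have hyuv : y = y ^ u * y ^ v := by
    rw [← pow_add]
    conv_lhs => rw [← pow_one y]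
    refine hred ?_
    rw [hn, mul_comm]
    exact (Nat.modEq_and_modEq_iff_modEq_mul hcop).1
      ⟨(hu1.add hv1).symm, (hu2.add hv2).symm⟩
  have ha : (y ^ u) ^ n = 1 := by
    rw [← pow_mul, ← pow_zero y]
    refine hred ?_
    rw [hn, mul_comm p n, Nat.modEq_zero_iff_dvd, mul_comm u]
    exact Nat.mul_dvd_mul_left n (Nat.modEq_zero_iff_dvd.1 hu2)
  refine ⟨y ^ u, y ^ v, hyuv, Subring.subset_closure ⟨n, hpn, ha⟩, ?_, fun m hm => ?_⟩
  · rw [← pow_mul, ← pow_zero y]
    refine hred ?_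
    rw [hn, Nat.modEq_zero_iff_dvd, mul_comm p n]
    exact Nat.mul_dvd_mul_right (Nat.modEq_zero_iff_dvd.1 hv1) p
  · conv_lhs => rw [hyuv, mul_pow]
    congr 1
    have h2 := hm.2
    rw [hdiv] at h2
    rw [pow_eq_pow_mod m ha, h2, ← pow_eq_pow_mod _ ha, pow_one]

theorem galOrbit_regular (hp : p.Prime) (hdvd : p ∣ Nat.card G) {χ ψ : IrrCharacter G}
    (h : ψ ∈ galOrbit p χ) {g : G} (hg : ¬ p ∣ orderOf g) :
    (ψ : G → ℂ) g = (χ : G → ℂ) g := by
  obtain ⟨m, hm, e⟩ := mem_galOrbit.1 h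
  have hd : orderOf g ∣ Nat.card G / p := by
    obtain ⟨n, hn⟩ := hdvd
    rw [hn, Nat.mul_div_cancel_left _ hp.pos]
    exact ((hp.coprime_iff_not_dvd.2 hg).symm).dvd_of_dvd_mul_left (hn ▸ orderOf_dvd_natCard g)
  rw [e]
  show (χ : G → ℂ) (g ^ m) = _
  rw [← pow_mod_orderOf, hm.2.of_dvd hd, pow_mod_orderOf, pow_one]

theorem galOrbit_one (hp : p.Prime) (hdvd : p ∣ Nat.card G) {χ ψ : IrrCharacter G}
    (h : ψ ∈ galOrbit p χ) : (ψ : G → ℂ) 1 = (χ : G → ℂ) 1 :=
  galOrbit_regular hp hdvd h (by rw [orderOf_one]; exact hp.not_dvd_one)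

/-- The sum over the orbit takes unramified values. -/
theorem galSum_mem (hM : IsPModular p M) (hdvd : p ∣ Nat.card G) (hsq : ¬ p ^ 2 ∣ Nat.card G)
    (χ : IrrCharacter G) (g : G) : ∑ ψ ∈ galOrbit p χ, (ψ : G → ℂ) g ∈ Wr hM := by
  classical
  haveI : Fact p.Prime := ⟨hM.1⟩
  set F : G → ℂ := fun g => ∑ ψ ∈ galOrbit p χ, (ψ : G → ℂ) g with hF
  have hinv : ∀ m, GalExp G p m → ∀ g, F (g ^ m) = F g := by
    intro m hm g
    have hmem : ∀ ψ ∈ galOrbit p χ, powIrr hm.1 ψ ∈ galOrbit p χ := by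
      intro ψ hψ
      obtain ⟨m', hm', e⟩ := mem_galOrbit.1 hψ
      refine mem_galOrbit.2 ⟨m * m', galExp_mul hm hm', funext fun x => ?_⟩
      show (ψ : G → ℂ) (x ^ m) = _
      rw [e]
      show (χ : G → ℂ) ((x ^ m) ^ m') = _
      rw [← pow_mul]
    refine Finset.sum_bij (fun ψ _ => powIrr hm.1 ψ) hmem
      (fun a _ b _ e => (powIrr_bijective hm.1).1 e) (fun b hb => ?_) fun ψ _ => rfl
    obtain ⟨a, ha, e⟩ := Finset.surj_on_of_inj_on_of_card_le (fun ψ _ => powIrr hm.1 ψ) hmem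
      (fun a b _ _ e => (powIrr_bijective hm.1).1 e) le_rfl b hb
    exact ⟨a, ha, e.symm⟩
  choose m hm hmod using fun (j : ℕ) (hj : j < p - 1) =>
    exists_galExp (G := G) hM.1 hdvd hsq (j := j + 1)
      fun h => by have := Nat.le_of_dvd (Nat.succ_pos j) h; omega
  have hsum : ((p - 1 : ℕ) : ℂ) * F g =
      ∑ j : Fin (p - 1), F (g ^ m j j.2) := by
    rw [Finset.sum_congr rfl fun (j : Fin (p - 1)) _ => hinv _ (hm j j.2) g, Finset.sum_const,
      Finset.card_univ, Fintype.card_fin, nsmul_eq_mul]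
  have hmem : ∀ ψ : IrrCharacter G, ∑ j : Fin (p - 1), (ψ : G → ℂ) (g ^ m j j.2) ∈ Wr hM := by
    intro ψ
    obtain ⟨t, ht, hpow⟩ := exists_roots_pow (isCharacter_of_irr ψ.2) g
    simp only [hpow]
    rw [← Multiset.sum_map_sum]
    refine Subring.multiset_sum_mem _ _ fun z hz => ?_
    obtain ⟨y, hy, rfl⟩ := Multiset.mem_map.1 hz
    obtain ⟨a, b, -, ha, hb, hyb⟩ := root_split hM.1 hdvd hsq (ht y hy)
    have hbj : ∀ j : Fin (p - 1), b ^ m j j.2 = b ^ ((j : ℕ) + 1) := fun j => by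
      rw [pow_eq_pow_mod _ hb, hmod j j.2, ← pow_eq_pow_mod _ hb]
    simp only [fun j : Fin (p - 1) => hyb _ (hm j j.2), hbj, ← Finset.mul_sum]
    refine Subring.mul_mem _ (regRing_le_Wr hM ha) ?_
    rw [Fin.sum_univ_eq_sum_range fun j => b ^ (j + 1)]
    have h1 := Finset.sum_range_succ' (fun i => b ^ i) (p - 1)
    rw [Nat.sub_add_cancel hM.1.one_le, pow_zero] at h1
    rw [show ∑ j ∈ Finset.range (p - 1), b ^ (j + 1) = ∑ i ∈ Finset.range p, b ^ i - 1 by rw [h1]; ring]
    refine Subring.sub_mem _ ?_ (Subring.one_mem _)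
    rcases eq_or_ne b 1 with rfl | hb1
    · simp
    · rw [geom_sum_eq hb1, hb, sub_self, zero_div]
      exact Subring.zero_mem _
  have h1 : ((p - 1 : ℕ) : ℂ) * F g ∈ Wr hM := by
    rw [hsum, hF, Finset.sum_comm]
    exact Subring.sum_mem _ fun ψ _ => hmem ψ
  have hp1 : ¬ p ∣ p - 1 := fun h => by
    have := hM.1.two_le
    have := Nat.le_of_dvd (by omega) h
    omega
  have h2 := Subring.mul_mem _ (natCast_inv_mem_Wr hM hp1) h1
  rwa [inv_mul_cancel_left₀ (Nat.cast_ne_zero.2 fun h => hp1 (by rw [h]; exact dvd_zero p))] at h2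

/-- The lattice: a representation over the unramified ring affording `χ 1` copies of every
`p`-conjugate, with endomorphisms of small degree modulo `p`. -/
theorem exists_lattice (hM : IsPModular p M) (hdvd : p ∣ Nat.card G) (hsq : ¬ p ^ 2 ∣ Nat.card G)
    (χ : IrrCharacter G) :
    ∃ (n : ℕ) (ρ : G →* Matrix (Fin n) (Fin n) (Wr hM)),
      (∀ g, ((Matrix.trace (ρ g) : Wr hM) : ℂ) =
        (χ : G → ℂ) 1 * ∑ ψ ∈ galOrbit p χ, (ψ : G → ℂ) g) ∧
      ∀ F : Matrix (Fin n) (Fin n) (Wr hM), (∀ g, Commute F (ρ g)) →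
        haveI := hM.2.1
        letI := Ideal.Quotient.field M
        ∃ (P : (AlgInt ⧸ M)[X]) (m : ℕ), P ≠ 0 ∧ P.natDegree ≤ charDegree (χ : G → ℂ) ∧
          aeval (F.map (redW hM)) (P ^ m) = 0 := by
  classical
  haveI := hM.2.1
  letI := Ideal.Quotient.field M
  haveI : Fact p.Prime := ⟨hM.1⟩
  haveI := Wr_dvr hM
  set W := Wr hM
  set Ω := galOrbit p χ with hΩdef
  have hΩne : Ω.Nonempty := ⟨χ, self_mem_galOrbit χ⟩
  have hχ1 : ∀ ψ ∈ Ω, (ψ : G → ℂ) 1 = (χ : G → ℂ) 1 := fun ψ h => galOrbit_one hM.1 hdvd h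
  have hχ0 := irr_one_ne_zero χ
  set c : ℂ := (Nat.card G : ℂ) / (χ : G → ℂ) 1 with hc
  have hG0 : (Nat.card G : ℂ) ≠ 0 := Nat.cast_ne_zero.2 Nat.card_pos.ne'
  have hc0 : c ≠ 0 := div_ne_zero hG0 hχ0
  -- the generating function
  set uC : G → ℂ := fun z => ∑ ψ ∈ Ω, conj ((ψ : G → ℂ) z) with huC
  have huW : ∀ z, uC z ∈ W := fun z => by
    rw [show uC z = ∑ ψ ∈ Ω, (ψ : G → ℂ) z⁻¹ from Finset.sum_congr rfl fun ψ _ => irr_conjInv ψ z]
    exact galSum_mem hM hdvd hsq χ _
  have hucls : IsClassFunction G uC := fun a b =>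
    Finset.sum_congr rfl fun ψ _ => by rw [isClassFunction_irr ψ.2 a b]
  have homega : ∀ ψ ∈ Ω, omega (ψ : G → ℂ) uC = c := fun ψ hψ => by
    rw [omega, hc, hχ1 ψ hψ]
    congr 1
    rw [show ∑ z, uC z * (ψ : G → ℂ) z = ∑ φ ∈ Ω, ∑ z, (ψ : G → ℂ) z * conj ((φ : G → ℂ) z) by
      rw [Finset.sum_comm]
      exact Finset.sum_congr rfl fun z _ => by
        rw [Finset.sum_mul]; exact Finset.sum_congr rfl fun φ _ => mul_comm _ _]
    rw [Finset.sum_eq_single ψ]
    · have := classInner_irr_self ψ.2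
      rw [classInner, inv_mul_eq_iff_eq_mul₀ hG0, mul_one] at this
      exact this
    · intro φ _ hne
      have := classInner_irr_ne ψ.2 φ.2 fun e => hne (Subtype.ext e.symm)
      rw [classInner] at this
      exact (mul_eq_zero.1 this).resolve_left (inv_ne_zero hG0)
    · exact fun h => absurd hψ h
  have hconv : ∀ w : G, ∑ a, uC a * uC (a⁻¹ * w) = c * uC w := fun w => by
    simp only [huC, Finset.mul_sum]
    rw [Finset.sum_comm]
    refine Finset.sum_congr rfl fun ψ hψ => ?_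
    rw [irr_conjInv ψ w, ← homega ψ hψ, ← sum_classFun_mul_shift hucls ψ w⁻¹]
    refine Finset.sum_congr rfl fun a _ => ?_
    rw [irr_conjInv ψ, mul_inv_rev, inv_inv,
      ← isClassFunction_irr ψ.2 (w⁻¹ * a) w, ← mul_assoc, mul_inv_cancel, one_mul]
  -- translates
  let v : G → G → W := fun g z => ⟨uC (g⁻¹ * z), huW _⟩
  let L : Submodule W (G → W) := Submodule.span W (Set.range v)
  haveI : Module.Finite W L := Module.Finite.span_of_finite W (Set.finite_range v)
  let b0 := Module.Free.chooseBasis W L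
  let bL : Module.Basis (Fin (Fintype.card (Module.Free.ChooseBasisIndex W L))) W L :=
    b0.reindex (Fintype.equivFin _)
  set n := Fintype.card (Module.Free.ChooseBasisIndex W L)
  let tr : G → ((G → W) →ₗ[W] (G → W)) := fun g => LinearMap.funLeft W W (fun z => g⁻¹ * z)
  have htr_v : ∀ g g', tr g (v g') = v (g * g') := fun g g' => funext fun z => Subtype.ext (by
    show uC (g'⁻¹ * (g⁻¹ * z)) = uC ((g * g')⁻¹ * z)
    rw [mul_inv_rev, mul_assoc])
  have hLinv : ∀ g, ∀ y ∈ L, tr g y ∈ L := fun g y hy => by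
    induction hy using Submodule.span_induction with
    | mem y hy => obtain ⟨g', rfl⟩ := hy; rw [htr_v]; exact Submodule.subset_span ⟨_, rfl⟩
    | zero => rw [map_zero]; exact L.zero_mem
    | add _ _ _ _ h1 h2 => rw [map_add]; exact L.add_mem h1 h2
    | smul r _ _ h1 => rw [map_smul]; exact L.smul_mem r h1
  let ρL : G → Module.End W L := fun g => (tr g).restrict (hLinv g)
  have hmul : ∀ g g', ρL (g * g') = ρL g * ρL g' := fun g g' => by
    refine LinearMap.ext fun y => Subtype.ext (funext fun z => ?_)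
    show (y : G → W) ((g * g')⁻¹ * z) = (y : G → W) (g'⁻¹ * (g⁻¹ * z))
    rw [mul_inv_rev, mul_assoc]
  have hone : ρL 1 = 1 := LinearMap.ext fun y => Subtype.ext (funext fun z => by
    show (y : G → W) (1⁻¹ * z) = (y : G → W) z
    rw [inv_one, one_mul])
  let ρ : G →* Matrix (Fin n) (Fin n) W :=
    { toFun := fun g => LinearMap.toMatrix bL bL (ρL g)
      map_one' := by rw [hone]; exact LinearMap.toMatrix_one bL
      map_mul' := fun g g' => by rw [hmul]; exact LinearMap.toMatrix_mul bL _ _ }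
  refine ⟨n, ρ, fun g => ?_, fun F hF => ?_⟩
  · -- the character
    let B : (G → W) →ₗ[W] L :=
      ∑ a : G, (LinearMap.proj a).smulRight (⟨v a, Submodule.subset_span ⟨a, rfl⟩⟩ : L)
    have hBA : ∀ y : L, ((B (y : G → W) : G → W) : G → W) = fun z =>
        ⟨c * ((y : G → W) z : ℂ), by
          have : c * ((y : G → W) z : ℂ) =
              ∑ a, (((y : G → W) a : W) : ℂ) * uC (a⁻¹ * z) := by
            obtain ⟨y, hy⟩ := y
            induction hy using Submodule.span_induction with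
            | mem y hy =>
              obtain ⟨g', rfl⟩ := hy
              show c * uC (g'⁻¹ * z) = ∑ a, uC (g'⁻¹ * a) * uC (a⁻¹ * z)
              rw [← hconv]
              exact Fintype.sum_equiv (Equiv.mulLeft g') _ _ fun a => by simp [mul_assoc]
            | zero => simp
            | add a b _ _ h1 h2 =>
              simp only [Pi.add_apply, Subring.coe_add, mul_add, add_mul, Finset.sum_add_distrib] at h1 h2 ⊢
              rw [h1, h2]
            | smul r a _ h1 =>
              simp only [Pi.smul_apply, smul_eq_mul, Subring.coe_mul] at h1 ⊢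
              rw [mul_left_comm, h1, Finset.mul_sum]
              exact Finset.sum_congr rfl fun _ _ => by ring
          rw [this]
          exact Subring.sum_mem _ fun a _ => Subring.mul_mem _ ((y : G → W) a).2 (huW _)⟩ := by
      intro y
      funext z
      refine Subtype.ext ?_
      show _ = c * ((y : G → W) z : ℂ)
      obtain ⟨y, hy⟩ := y
      simp only [B, LinearMap.sum_apply, LinearMap.smulRight_apply, LinearMap.proj_apply,
        Submodule.coe_sum, Submodule.coe_smul, Finset.sum_apply, Pi.smul_apply, smul_eq_mul,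
        AddSubmonoidClass.coe_finsetSum, Subring.coe_mul]
      induction hy using Submodule.span_induction with
      | mem y hy =>
        obtain ⟨g', rfl⟩ := hy
        show ∑ a, uC (g'⁻¹ * a) * uC (a⁻¹ * z) = c * uC (g'⁻¹ * z)
        rw [← hconv]
        exact Fintype.sum_equiv (Equiv.mulLeft g'⁻¹) _ _ fun a => by simp [mul_assoc]
      | zero => simp
      | add a b _ _ h1 h2 =>
        simp only [Pi.add_apply, Subring.coe_add, mul_add, add_mul, Finset.sum_add_distrib]
        rw [h1, h2]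
      | smul r a _ h1 =>
        simp only [Pi.smul_apply, smul_eq_mul, Subring.coe_mul]
        rw [mul_left_comm, ← h1, Finset.mul_sum]
        exact Finset.sum_congr rfl fun _ _ => by ring
    have hcW : c ∈ W := by
      obtain ⟨k, ρ', hρ', hρχ⟩ := χ.2
      haveI := hρ'
      obtain ⟨d, hd⟩ := finrank_dvd_card ρ'
      rw [Module.finrank_fintype_fun_eq_card, Fintype.card_fin] at hd
      have hk : (χ : G → ℂ) 1 = k := by
        rw [← hρχ, ρ'.char_one, Module.finrank_fintype_fun_eq_card, Fintype.card_fin]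
      rw [hc, hd, hk, Nat.cast_mul, mul_div_cancel_left₀ _ (hk ▸ hχ0)]
      exact natCast_mem _ d
    let cW : W := ⟨c, hcW⟩
    have hBAeq : B ∘ₗ L.subtype = cW • LinearMap.id := LinearMap.ext fun y => by
      refine Subtype.ext ?_
      show (B (y : G → W) : G → W) = cW • (y : G → W)
      rw [hBA y]
      exact funext fun z => Subtype.ext rfl
    have e1 : cW • LinearMap.trace W L (ρL g) =
        LinearMap.trace W (G → W) (L.subtype ∘ₗ ρL g ∘ₗ B) := by
      rw [← map_smul, LinearMap.trace_comp_comm', LinearMap.comp_assoc, hBAeq, LinearMap.comp_smul,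
        LinearMap.comp_id]
    have e2 : ((LinearMap.trace W (G → W) (L.subtype ∘ₗ ρL g ∘ₗ B) : W) : ℂ) =
        (Nat.card G : ℂ) * uC g⁻¹ := by
      rw [LinearMap.trace_eq_matrix_trace W (Pi.basisFun W G), Matrix.trace]
      rw [AddSubmonoidClass.coe_finsetSum]
      rw [Finset.sum_congr rfl fun a _ => show
        ((Matrix.diag (LinearMap.toMatrix (Pi.basisFun W G) (Pi.basisFun W G)
          (L.subtype ∘ₗ ρL g ∘ₗ B)) a : W) : ℂ) = uC g⁻¹ from ?_]
      · rw [Finset.sum_const, Finset.card_univ, nsmul_eq_mul, Nat.card_eq_fintype_card]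
      rw [Matrix.diag_apply, LinearMap.toMatrix_apply, Pi.basisFun_apply, Pi.basisFun_repr]
      have hB1 : B (Pi.single a 1) = ⟨v a, Submodule.subset_span ⟨a, rfl⟩⟩ := by
        simp only [B, LinearMap.sum_apply, LinearMap.smulRight_apply, LinearMap.proj_apply,
          Pi.single_apply, ite_smul, one_smul, zero_smul, Finset.sum_ite_eq', Finset.mem_univ, if_true]
      rw [LinearMap.comp_apply, LinearMap.comp_apply, hB1]
      show uC (a⁻¹ * (g⁻¹ * a)) = uC g⁻¹
      have := hucls g⁻¹ a⁻¹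
      rw [inv_inv] at this
      rw [← this, mul_assoc]
    have e3 := congrArg (fun w : W => (w : ℂ)) e1
    simp only [smul_eq_mul, Subring.coe_mul, e2] at e3
    show ((Matrix.trace (LinearMap.toMatrix bL bL (ρL g)) : W) : ℂ) = _
    rw [← LinearMap.trace_eq_matrix_trace]
    apply mul_left_cancel₀ hc0
    show c * _ = _
    rw [show c * ((LinearMap.trace W L (ρL g) : W) : ℂ) = (cW : ℂ) * _ from rfl, e3, hc, huC]
    rw [← mul_assoc, div_mul_cancel₀ _ hχ0]
    congr 1
    exact Finset.sum_congr rfl fun ψ _ => by rw [irr_conjInv, inv_inv]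
  -- endomorphisms
  let f : Module.End W L := Matrix.toLin bL bL F
  have hfρ : ∀ g, f * ρL g = ρL g * f := fun g => by
    apply (LinearMap.toMatrix bL bL).injective
    rw [LinearMap.toMatrix_mul, LinearMap.toMatrix_mul, LinearMap.toMatrix_toLin]
    exact (hF g).eq
  let v1 : L := ⟨v 1, Submodule.subset_span ⟨1, rfl⟩⟩
  obtain ⟨bf, hbf⟩ := (Submodule.mem_span_range_iff_exists_fun W).1 (f v1).2
  -- transforms
  choose d R hR hRχ using fun ψ : IrrCharacter G => ψ.2
  let Rm : ∀ ψ : IrrCharacter G, G →* Matrix (Fin (d ψ)) (Fin (d ψ)) ℂ := fun ψ =>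
    (LinearMap.toMatrixAlgEquiv' (R := ℂ) (n := Fin (d ψ))).toAlgHom.toMonoidHom.comp (R ψ)
  have hRtr : ∀ ψ g, Matrix.trace (Rm ψ g) = (ψ : G → ℂ) g := fun ψ g => by
    rw [← hRχ ψ]
    exact (LinearMap.trace_eq_matrix_trace ℂ (Pi.basisFun ℂ (Fin (d ψ))) (R ψ g)).symm.trans rfl |>.trans
      rfl
  let φmap : ∀ ψ : IrrCharacter G, MonoidAlgebra W G →ₐ[W] Matrix (Fin (d ψ)) (Fin (d ψ)) ℂ := fun ψ =>
    MonoidAlgebra.lift W (Matrix (Fin (d ψ)) (Fin (d ψ)) ℂ) G (Rm ψ)
  let bA : MonoidAlgebra W G := ∑ h, MonoidAlgebra.single h (bf h)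
  let Bm : ∀ ψ : IrrCharacter G, Matrix (Fin (d ψ)) (Fin (d ψ)) ℂ := fun ψ => φmap ψ bA
  let T : ∀ ψ : IrrCharacter G, (G → W) →ₗ[W] Matrix (Fin (d ψ)) (Fin (d ψ)) ℂ := fun ψ =>
    ∑ z : G, (LinearMap.proj z).smulRight (Rm ψ z)
  have hTv : ∀ ψ g, T ψ (v g) = Rm ψ g * T ψ (v 1) := fun ψ g => by
    simp only [T, LinearMap.sum_apply, LinearMap.smulRight_apply, LinearMap.proj_apply,
      Finset.mul_sum, mul_smul_comm]
    rw [← Equiv.sum_comp (Equiv.mulLeft g) (fun i => v g i • Rm ψ i)]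
    refine Finset.sum_congr rfl fun z _ => ?_
    rw [Equiv.coe_mulLeft, map_mul]
    congr 1
    exact Subtype.ext (show uC (g⁻¹ * (g * z)) = uC (1⁻¹ * z) by simp)
  have hT1 : ∀ ψ g, Commute (T ψ (v 1)) (Rm ψ g) := fun ψ g => by
    show _ * _ = _ * _
    simp only [T, LinearMap.sum_apply, LinearMap.smulRight_apply, LinearMap.proj_apply,
      Finset.mul_sum, Finset.sum_mul, mul_smul_comm, smul_mul_assoc, ← map_mul]
    refine Fintype.sum_equiv (MulAut.conj g⁻¹).toEquiv _ _ fun z => ?_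
    show _ = (v 1 (g⁻¹ * z * g⁻¹⁻¹)) • Rm ψ (g * (g⁻¹ * z * g⁻¹⁻¹))
    rw [inv_inv, show g * (g⁻¹ * z * g) = z * g by group]
    congr 1
    refine Subtype.ext ?_
    show uC (1⁻¹ * z) = uC (1⁻¹ * (g⁻¹ * z * g))
    have := hucls z g⁻¹
    rw [inv_inv] at this
    simp [this]
  have hbA : ∀ ψ, Bm ψ = ∑ h, bf h • Rm ψ h := fun ψ => by
    simp only [Bm, bA, map_sum, φmap, MonoidAlgebra.lift_single]
  have hTf : ∀ ψ (y : L), T ψ (f y : G → W) = T ψ (y : G → W) * Bm ψ := by
    intro ψ ⟨y, hy⟩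
    induction hy using Submodule.span_induction with
    | mem y hy =>
      obtain ⟨g, rfl⟩ := hy
      have h1 : (⟨v g, Submodule.subset_span ⟨g, rfl⟩⟩ : L) = ρL g v1 :=
        Subtype.ext (by show v g = tr g (v 1); rw [htr_v, mul_one])
      rw [show f ⟨v g, Submodule.subset_span ⟨g, rfl⟩⟩ = ρL g (f v1) by
        rw [h1, ← Module.End.mul_apply, hfρ, Module.End.mul_apply]]
      show T ψ (tr g (f v1 : G → W)) = T ψ (v g) * _
      rw [← hbf, map_sum, map_sum, hTv, hbA, Finset.mul_sum]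
      refine Finset.sum_congr rfl fun h _ => ?_
      rw [map_smul, map_smul, htr_v, hTv, map_mul, mul_smul_comm, mul_assoc, mul_assoc,
        (hT1 ψ h).eq]
    | zero =>
      show T ψ (f (0 : L) : G → W) = T ψ 0 * _
      rw [map_zero, Submodule.coe_zero, map_zero, zero_mul]
    | add a b ha hb h1 h2 =>
      show T ψ (f (⟨a, ha⟩ + ⟨b, hb⟩ : L) : G → W) = T ψ (a + b) * _
      rw [map_add, Submodule.coe_add, map_add, h1, h2, map_add, add_mul]
    | smul r a ha h1 =>
      show T ψ (f (r • ⟨a, ha⟩ : L) : G → W) = T ψ (r • a) * _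
      rw [map_smul, Submodule.coe_smul, map_smul, h1, map_smul, smul_mul_assoc]
  -- reconstruction
  have hrec : ∀ (y : L) (z : G), (((y : G → W) z : W) : ℂ) =
      c⁻¹ * ∑ ψ ∈ Ω, Matrix.trace (Rm ψ z⁻¹ * T ψ (y : G → W)) := by
    intro ⟨y, hy⟩ z
    induction hy using Submodule.span_induction with
    | mem y hy =>
      obtain ⟨g, rfl⟩ := hy
      rw [eq_inv_mul_iff_mul_eq₀ hc0]
      show c * uC (g⁻¹ * z) = _
      rw [huC, Finset.mul_sum]
      refine Finset.sum_congr rfl fun ψ hψ => ?_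
      rw [hTv, ← mul_assoc, ← map_mul]
      simp only [T, LinearMap.sum_apply, LinearMap.smulRight_apply, LinearMap.proj_apply,
        Finset.mul_sum, mul_smul_comm, ← map_mul, Matrix.trace_sum, Matrix.trace_smul, hRtr]
      rw [irr_conjInv, mul_inv_rev, inv_inv, ← homega ψ hψ, ← sum_classFun_mul_shift hucls ψ _]
      refine Finset.sum_congr rfl fun a _ => ?_
      rw [show (ψ : G → ℂ) (z⁻¹ * g * a) = (ψ : G → ℂ) (a * (z⁻¹ * g)) by
        rw [← isClassFunction_irr ψ.2 (z⁻¹ * g * a) a, ← mul_assoc, mul_inv_cancel_right]]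
      show _ = ((v 1 a : W) : ℂ) * _
      show _ = uC (1⁻¹ * a) * _
      rw [inv_one, one_mul]
    | zero => simp
    | add a b _ _ h1 h2 =>
      simp only [Pi.add_apply, Subring.coe_add, map_add, mul_add, Matrix.trace_add,
        Finset.sum_add_distrib]
      rw [h1, h2]
    | smul r a _ h1 =>
      simp only [Pi.smul_apply, smul_eq_mul, Subring.coe_mul, map_smul, mul_smul_comm,
        Matrix.trace_smul]
      rw [h1]
      show _ = c⁻¹ * ∑ ψ ∈ Ω, (r : ℂ) * _
      rw [← Finset.mul_sum]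
      ring
  -- the polynomial over `ℂ`
  set Fc : Matrix (Fin n) (Fin n) ℂ := F.map W.subtype with hFc
  have hTpow : ∀ ψ (l : ℕ) (y : L), T ψ ((f ^ l) y : G → W) = T ψ (y : G → W) * Bm ψ ^ l := by
    intro ψ l
    induction l with
    | zero => simp
    | succ l ih =>
      intro y
      rw [pow_succ', Module.End.mul_apply, hTf, ih, mul_assoc, ← pow_succ]
  have hbindep : LinearIndependent ℂ fun i => fun z : G => (((bL i : L) : G → W) z : ℂ) := by
    refine Wr_linearIndependent hM (fun i z => Subtype.coe_prop _) fun a ha => ?_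
    have : ∑ i, a i • bL i = 0 := by
      refine Subtype.ext (funext fun z => Subtype.ext ?_)
      simpa [Finset.sum_apply] using ha z
    exact funext fun i => (Fintype.linearIndependent_iff.1 bL.linearIndependent) a this i
  have hkill : ∀ Q : ℂ[X], (∀ ψ ∈ Ω, aeval (Bm ψ) Q = 0) → aeval Fc Q = 0 := by
    intro Q hQ
    ext i j
    have hcol : ∀ z : G, ∑ l, (aeval Fc Q) l j * (((bL l : L) : G → W) z : ℂ) = 0 := by
      intro z
      have hpowF : ∀ m : ℕ, ∑ l, (Fc ^ m) l j * (((bL l : L) : G → W) z : ℂ) =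
          ((((f ^ m) (bL j) : L) : G → W) z : ℂ) := by
        intro m
        have h1 : (f ^ m) = Matrix.toLin bL bL (F ^ m) := by
          rw [Matrix.toLin_pow]
        rw [h1, Matrix.toLin_self, hFc, ← Matrix.map_pow]
        simp only [Submodule.coe_sum, Submodule.coe_smul, Finset.sum_apply, Pi.smul_apply,
          smul_eq_mul, AddSubmonoidClass.coe_finsetSum, Subring.coe_mul]
        exact Finset.sum_congr rfl fun l _ => rfl
      rw [aeval_eq_sum_range]
      simp only [Matrix.sum_apply, Matrix.smul_apply, smul_eq_mul, Finset.sum_mul, mul_assoc]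
      rw [Finset.sum_comm, Finset.sum_congr rfl fun m _ => by rw [← Finset.mul_sum, hpowF m, hrec]]
      simp only [hTpow]
      rw [Finset.sum_congr rfl fun m _ => mul_left_comm (Q.coeff m) c⁻¹ _, ← Finset.mul_sum,
        mul_eq_zero]
      right
      simp only [Finset.mul_sum]
      rw [Finset.sum_comm]
      refine Finset.sum_eq_zero fun ψ hψ => ?_
      have h2 := congrArg (fun A => Matrix.trace (Rm ψ z⁻¹ * T ψ ((bL j : L) : G → W) * A))
        ((aeval_eq_sum_range (p := Q) (Bm ψ)).symm.trans (hQ ψ hψ))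
      simp only [Finset.mul_sum, mul_smul_comm, Matrix.trace_sum, Matrix.trace_smul, smul_eq_mul,
        mul_zero, Matrix.trace_zero, mul_assoc] at h2
      exact h2
    exact Fintype.linearIndependent_iff.1 hbindep (fun l => (aeval Fc Q) l j)
      (funext fun z => by simpa using hcol z) i
  -- integrality of the eigenvalues
  have hint : ∀ ψ ∈ Ω, ∀ μ ∈ (Bm ψ).charpoly.roots, MemLocalRing M μ := by
    intro ψ hψ μ hμ
    set C := F.charpoly with hC
    refine root_of_monic_Wr hM F.charpoly_monic ?_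
    have h1 : ∀ y : L, T ψ (y : G → W) * aeval (Bm ψ) (C.map W.subtype) = 0 := by
      intro y
      have hf0 : aeval f C = 0 := by
        have := (Matrix.toLinAlgEquiv bL).toAlgHom.comp (AlgHom.id W _)
        rw [show f = Matrix.toLinAlgEquiv bL F from rfl, aeval_algHom_apply, hC,
          Matrix.aeval_self_charpoly, map_zero]
      have h2 := congrArg (fun e : Module.End W L => T ψ ((e y : L) : G → W)) hf0
      simp only [LinearMap.zero_apply, Submodule.coe_zero, map_zero, aeval_eq_sum_range,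
        LinearMap.sum_apply, LinearMap.smul_apply, Submodule.coe_sum, Submodule.coe_smul, map_sum,
        map_smul, hTpow] at h2
      rw [aeval_eq_sum_range, natDegree_map_eq_of_injective W.subtype_injective, Finset.mul_sum]
      rw [← h2]
      refine Finset.sum_congr rfl fun l _ => ?_
      rw [coeff_map, mul_smul_comm]
      rfl
    have h3 : c • aeval (Bm ψ) (C.map W.subtype) = 0 := by
      have h4 := h1 v1
      have hs : T ψ (v 1) = c • (1 : Matrix _ _ ℂ) := by
        haveI := hR ψ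
        set A : Module.End ℂ (Fin (d ψ) → ℂ) := Matrix.toLinAlgEquiv' (T ψ (v 1)) with hA
        have hcomm : ∀ g, A ∘ₗ R ψ g = R ψ g ∘ₗ A := fun g => by
          have := congrArg Matrix.toLinAlgEquiv' (hT1 ψ g).eq
          simp only [map_mul, ← hA] at this
          rwa [show Matrix.toLinAlgEquiv' (Rm ψ g) = R ψ g from
            LinearMap.toMatrixAlgEquiv'.symm_apply_apply (R ψ g)] at this
        obtain ⟨s, hs⟩ := (Representation.IsIrreducible.algebraMap_intertwiningMap_bijective_of_isAlgClosed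
          (ρ := R ψ)).2 ⟨A, hcomm⟩
        have hA' : A = algebraMap ℂ _ s := by
          show (Representation.IntertwiningMap.toLinearMap ⟨A, hcomm⟩) = _
          rw [← hs]; rfl
        have hT : T ψ (v 1) = algebraMap ℂ _ s := by
          apply Matrix.toLinAlgEquiv'.injective
          rw [← hA, hA', AlgEquiv.commutes]
        rw [hT, Algebra.algebraMap_eq_smul_one]
        congr 1
        have h5 := congrArg Matrix.trace hT
        simp only [T, LinearMap.sum_apply, LinearMap.smulRight_apply, LinearMap.proj_apply,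
          Matrix.trace_sum, Matrix.trace_smul, hRtr, Algebra.algebraMap_eq_smul_one,
          Matrix.trace_one, smul_eq_mul] at h5
        have h6 : ∑ z, uC z * (ψ : G → ℂ) z = s * (ψ : G → ℂ) 1 := by
          rw [← hRtr ψ 1, map_one, Matrix.trace_one]
          rw [← h5]
          refine Finset.sum_congr rfl fun z _ => ?_
          show _ = uC (1⁻¹ * z) * _
          rw [inv_one, one_mul]
        rw [← homega ψ hψ, omega, h6, mul_div_cancel_right₀ _ (irr_one_ne_zero ψ)]
      rw [show ((v1 : L) : G → W) = v 1 from rfl, hs, smul_one_mul] at h4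
      exact h4
    have h7 : aeval (Bm ψ) (C.map W.subtype) = 0 := (smul_eq_zero.1 h3).resolve_left hc0
    have h8 : (Bm ψ).charpoly.IsRoot μ := isRoot_of_mem_roots hμ
    -- an eigenvector
    obtain ⟨x, hx0, hx⟩ := Matrix.exists_mulVec_eq_zero_iff.2
      (show (Matrix.scalar (Fin (d ψ)) μ - Bm ψ).det = 0 by rw [← Matrix.eval_charpoly]; exact h8)
    have hxe : Bm ψ *ᵥ x = μ • x := by
      rw [Matrix.sub_mulVec, sub_eq_zero, Matrix.scalar_apply, ← Matrix.smul_one_eq_diagonal,
        Matrix.smul_mulVec, Matrix.one_mulVec] at hx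
      exact hx.symm
    have hxp : ∀ l : ℕ, Bm ψ ^ l *ᵥ x = μ ^ l • x := fun l => by
      induction l with
      | zero => simp
      | succ l ih => rw [pow_succ, ← Matrix.mulVec_mulVec, hxe, Matrix.mulVec_smul, ih, smul_smul,
          mul_comm, ← pow_succ]
    have h9 := congrArg (fun A => A *ᵥ x) h7
    simp only [aeval_eq_sum_range, Matrix.sum_mulVec, Matrix.smul_mulVec, hxp, smul_smul,
      ← Finset.sum_smul, Matrix.zero_mulVec] at h9
    rw [← eval_map, eval_eq_sum_range]
    exact (smul_eq_zero.1 h9).resolve_right hx0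
  -- residues
  let cpL : ∀ ψ ∈ Ω, (loc hM)[X] := fun ψ hψ =>
    (((Bm ψ).charpoly.roots.attach).map fun μ => X - Polynomial.C ⟨μ.1, hint ψ hψ μ.1 μ.2⟩).prod
  have hcpL : ∀ ψ hψ, (cpL ψ hψ).map (loc hM).subtype = (Bm ψ).charpoly := fun ψ hψ => by
    rw [Polynomial.map_multiset_prod, Multiset.map_map]
    conv_rhs => rw [(IsAlgClosed.splits (Bm ψ).charpoly).eq_prod_roots_of_monic (Bm ψ).charpoly_monic,
      ← Multiset.attach_map_val (Bm ψ).charpoly.roots, Multiset.map_map]
    exact congrArg Multiset.prod (Multiset.map_congr rfl fun μ _ => by simp)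
  have hdeg : ∀ ψ hψ, (cpL ψ hψ).natDegree = charDegree (χ : G → ℂ) := fun ψ hψ => by
    rw [← natDegree_map_eq_of_injective (loc hM).subtype_injective, hcpL ψ hψ, Matrix.charpoly_natDegree_eq_dim,
      Fintype.card_fin]
    have h1 : ((d ψ : ℕ) : ℂ) = (χ : G → ℂ) 1 := by
      rw [← hχ1 ψ hψ, ← hRtr ψ 1, map_one, Matrix.trace_one, Fintype.card_fin]
    exact_mod_cast h1.trans (irr_charDegree_cast χ).symm
  set P := (cpL χ (self_mem_galOrbit χ)).map (resHom hM) with hP
  have hmonicL : ∀ ψ hψ, (cpL ψ hψ).Monic := fun ψ hψ =>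
    monic_multiset_prod_of_monic _ _ fun μ _ => monic_X_sub_C _
  have hsame : ∀ ψ hψ, (cpL ψ hψ).map (resHom hM) = P := by
    intro ψ hψ
    obtain ⟨m, hm, hψe⟩ := mem_galOrbit.1 hψ
    set s := charDegree (χ : G → ℂ)
    obtain ⟨ζ, hζ⟩ : ∃ ζ : ℂ, IsPrimitiveRoot ζ p :=
      ⟨_, Complex.isPrimitiveRoot_exp p hM.1.ne_zero⟩
    have hmp : m.Coprime p := hm.1.coprime_dvd_right hdvd
    have hζ' : IsPrimitiveRoot (ζ ^ m) p := hζ.pow_of_coprime m hmp
    have hcardr : ∀ φ hφ, Multiset.card (Bm φ).charpoly.roots = s := fun φ hφ => by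
      rw [← IsAlgClosed.splits (Bm φ).charpoly |>.natDegree_eq_card_roots, ← hcpL φ hφ,
        natDegree_map_eq_of_injective (loc hM).subtype_injective, hdeg φ hφ]
    set r1 := (Bm χ).charpoly.roots.toList
    set r2 := (Bm ψ).charpoly.roots.toList
    have hl1 : r1.length = s := by simp [r1, hcardr χ (self_mem_galOrbit χ)]
    have hl2 : r2.length = s := by simp [r2, hcardr ψ hψ]
    let vv : Fin s → ℂ × ℂ := fun i => (r1[(i : ℕ)]'(by omega), r2[(i : ℕ)]'(by omega))
    have hmap' : ∀ (s' : ℕ) (r : List ℂ) (hl : r.length = s'),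
        Finset.univ.val.map (fun i : Fin s' => r[(i : ℕ)]'(by omega)) = (r : Multiset ℂ) := by
      intro s' r hl
      subst hl
      simp [Fin.univ_val_map]
    have hfst : (Finset.univ.val.map vv).map Prod.fst = (Bm χ).charpoly.roots := by
      rw [Multiset.map_map, ← Multiset.coe_toList (Bm χ).charpoly.roots]
      exact hmap' s r1 hl1
    have hsnd : (Finset.univ.val.map vv).map Prod.snd = (Bm ψ).charpoly.roots := by
      rw [Multiset.map_map, ← Multiset.coe_toList (Bm ψ).charpoly.roots]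
      exact hmap' s r2 hl2
    have hps : ∀ l, 1 ≤ l → ∑ i, vv i ^ l ∈ pairs hM ζ (ζ ^ m) := by
      intro l hl
      have htr1 : ∀ φ, (Bm φ ^ l).trace =
          ∑ z ∈ (bA ^ l).coeff.support, ((bA ^ l).coeff z : ℂ) * (φ : G → ℂ) z := fun φ => by
        rw [show Bm φ ^ l = φmap φ (bA ^ l) from (map_pow _ bA l).symm]
        show Matrix.trace (MonoidAlgebra.lift W _ G (Rm φ) (bA ^ l)) = _
        rw [MonoidAlgebra.lift_apply]
        simp only [Finsupp.sum, Matrix.trace_sum, Matrix.trace_smul, hRtr]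
        rfl
      have e : ∑ i, vv i ^ l = ∑ z ∈ (bA ^ l).coeff.support,
          ((((bA ^ l).coeff z : W) : ℂ) * (χ : G → ℂ) z, (((bA ^ l).coeff z : W) : ℂ) * (χ : G → ℂ) (z ^ m)) := by
        refine Prod.ext ?_ ?_
        · rw [Prod.fst_sum, Prod.fst_sum, ← htr1 χ, trace_pow_roots _ hl, ← hfst, Multiset.map_map,
            Multiset.map_map]
          rfl
        · rw [Prod.snd_sum, Prod.snd_sum]
          dsimp only
          rw [show ∑ z ∈ (bA ^ l).coeff.support, (((bA ^ l).coeff z : W) : ℂ) * (χ : G → ℂ) (z ^ m) =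
              (Bm ψ ^ l).trace by rw [htr1 ψ, hψe],
            trace_pow_roots _ hl, ← hsnd, Multiset.map_map, Multiset.map_map]
          rfl
      rw [e]
      refine Subring.sum_mem _ fun z _ => ?_
      obtain ⟨t, ht, hpow⟩ := exists_roots_pow (isCharacter_of_irr χ.2) z
      rw [hpow m, show (χ : G → ℂ) z = (t.map (· ^ 1)).sum by rw [← hpow 1, pow_one]]
      rw [← Multiset.sum_map_mul_left, ← Multiset.sum_map_mul_left]
      have e2 : ∀ (t : Multiset ℂ) (F1 F2 : ℂ → ℂ),
          ((t.map F1).sum, (t.map F2).sum) = (t.map fun y => (F1 y, F2 y)).sum := by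
        intro t F1 F2
        induction t using Multiset.induction_on with
        | empty => simp [Prod.ext_iff]
        | cons a t ih => simp [← ih]
      rw [e2]
      refine Subring.multiset_sum_mem _ _ fun q hq => ?_
      obtain ⟨y, hy, rfl⟩ := Multiset.mem_map.1 hq
      obtain ⟨a, b', hab, ha, hb, hym⟩ := root_split hM.1 hdvd hsq (ht y hy)
      obtain ⟨i, -, rfl⟩ := hζ.eq_pow_of_pow_eq_one hb
      rw [pow_one, hym m hm, hab, ← mul_assoc, ← mul_assoc,
        show (ζ ^ i) ^ m = (ζ ^ m) ^ i by rw [← pow_mul, ← pow_mul, mul_comm]]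
      exact pair_mem_pairs hM (Subring.mul_mem _ ((bA ^ l).coeff z).2 (regRing_le_Wr hM ha)) i
    have hes : ∀ l, ∀ hz : MemLocalRing M ((Bm χ).charpoly.roots.esymm l),
        res hM ((Bm χ).charpoly.roots.esymm l) = res hM ((Bm ψ).charpoly.roots.esymm l) := by
      intro l hz
      refine pairs_res hM hζ hζ' (Nat.factorial_ne_zero l) ?_ hz
      have h1 := esymm_pairs hM vv hps l
      have hf : ∀ (g : ℂ × ℂ →+* ℂ) (t : Multiset (ℂ × ℂ)), g (t.esymm l) = (t.map g).esymm l := fun g t => by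
        simp only [Multiset.esymm, map_multiset_sum, Multiset.map_map, Multiset.powersetCard_map,
          Function.comp_def, map_multiset_prod]
      rw [← hfst, ← hsnd, ← show (RingHom.fst ℂ ℂ : ℂ × ℂ → ℂ) = Prod.fst from rfl,
        ← show (RingHom.snd ℂ ℂ : ℂ × ℂ → ℂ) = Prod.snd from rfl, ← hf, ← hf]
      convert h1 using 1
      exact Prod.ext (by simp) (by simp)
    ext k
    simp only [hP, coeff_map, resHom_apply]
    have hco : ∀ φ hφ, (((cpL φ hφ).coeff k : loc hM) : ℂ) = (Bm φ).charpoly.coeff k := fun φ hφ => by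
      rw [← hcpL φ hφ, coeff_map]; rfl
    by_cases hk : k ≤ s
    · have hv : ∀ φ hφ, (((cpL φ hφ).coeff k : loc hM) : ℂ) =
          (-1) ^ (s - k) * (Bm φ).charpoly.roots.esymm (s - k) := fun φ hφ => by
        rw [hco φ hφ, coeff_eq_esymm_roots_of_card
          (IsAlgClosed.splits (Bm φ).charpoly).natDegree_eq_card_roots.symm
          (by rw [← hcpL φ hφ, natDegree_map_eq_of_injective (loc hM).subtype_injective, hdeg φ hφ]; exact hk),
          (Bm φ).charpoly_monic.leadingCoeff, one_mul,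
          show (Bm φ).charpoly.natDegree = s by
            rw [← hcpL φ hφ, natDegree_map_eq_of_injective (loc hM).subtype_injective, hdeg φ hφ]]
      have hloc : ∀ φ hφ, MemLocalRing M ((Bm φ).charpoly.roots.esymm (s - k)) := fun φ hφ => by
        refine (Subring.multiset_sum_mem (loc hM) _ fun x hx => ?_ : _ ∈ loc hM)
        obtain ⟨t, ht, rfl⟩ := Multiset.mem_map.1 hx
        exact Subring.multiset_prod_mem _ _ fun a ha =>
          hint φ hφ a (Multiset.mem_of_le (Multiset.mem_powersetCard.1 ht).1 ha)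
      have hneg : MemLocalRing M ((-1 : ℂ) ^ (s - k)) :=
        (loc hM).pow_mem ((loc hM).neg_mem (loc hM).one_mem) _
      rw [hv ψ hψ, hv χ (self_mem_galOrbit χ), res_mul hM hneg (hloc ψ hψ),
        res_mul hM hneg (hloc χ (self_mem_galOrbit χ)), hes _ (hloc χ (self_mem_galOrbit χ))]
    · rw [coeff_eq_zero_of_natDegree_lt (by rw [hdeg ψ hψ]; omega),
        coeff_eq_zero_of_natDegree_lt (by rw [hdeg χ (self_mem_galOrbit χ)]; omega)]
  refine ⟨P, Ω.card, ((hmonicL χ (self_mem_galOrbit χ)).map (resHom hM)).ne_zero,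
    natDegree_map_le.trans (hdeg χ (self_mem_galOrbit χ)).le, ?_⟩
  -- the product annihilates
  set QL : (loc hM)[X] := ∏ ψ ∈ Ω.attach, cpL ψ.1 ψ.2 with hQL
  have hQ0 : aeval Fc (QL.map (loc hM).subtype) = 0 := by
    refine hkill _ fun ψ hψ => ?_
    rw [hQL, Polynomial.map_prod,
      ← Finset.mul_prod_erase _ _ (Finset.mem_attach _ (⟨ψ, hψ⟩ : {a // a ∈ Ω})), map_mul,
      hcpL ψ hψ, Matrix.aeval_self_charpoly, zero_mul]
  let Wl : W →+* loc hM := Subring.inclusion fun _ hz => memRing_Wr hM hz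
  have hinj : Function.Injective (fun A : Matrix (Fin n) (Fin n) (loc hM) => A.map (loc hM).subtype) :=
    fun A B e => Matrix.map_injective (loc hM).subtype_injective e
  have hQl : aeval (F.map Wl) QL = 0 := by
    apply hinj
    show ((loc hM).subtype.mapMatrix) (aeval (F.map Wl) QL) = ((loc hM).subtype.mapMatrix) 0
    rw [map_zero, ← hQ0]
    rw [aeval_def, hom_eval₂, aeval_def, eval₂_map]
    congr 1
    ext z i j
    by_cases hij : i = j <;> simp [Matrix.algebraMap_matrix_apply, hij]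
  have h1 := congrArg (resHom hM).mapMatrix hQl
  rw [map_zero, aeval_def, hom_eval₂] at h1
  rw [show P ^ Ω.card = QL.map (resHom hM) by
    rw [hQL, Polynomial.map_prod, Finset.prod_congr rfl fun ψ _ => hsame ψ.1 ψ.2, Finset.prod_const,
      Finset.card_attach], aeval_def, eval₂_map]
  rw [← h1]
  congr 1
  ext z i j
  by_cases hij : i = j <;> simp [Matrix.algebraMap_matrix_apply, hij, resHom_apply, res_zero hM]

end CfsgLib.Blocks.GaloisLattice
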