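import Cfsg.Agent.Lib.Blocks.TateLattice
import Cfsg.Agent.Lib.Blocks.SemisimplePieces

/-!
# The Tate modules of a lattice with small endomorphism ring are small
-/

namespace CfsgLib.Blocks.TateKey

open Matrix Polynomial CfsgLib.Blocks.TateLattice CfsgLib.Blocks.SemisimplePieces

set_option linter.unusedVariables false
set_option linter.style.haveILetI false
set_option linter.unusedSectionVars false

universe u

variable {R : Type*} [CommRing R] [IsDomain R] [IsPrincipalIdealRing R] {k : Type*} [Field k]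
  {red : R →+* k} {p : ℕ} {G : Type u} [Group G] [Fintype G] {ι : Type*} [Fintype ι] [DecidableEq ι]

theorem exists_pow_eq {x y : G} (hy : y ∈ Subgroup.zpowers x) : ∃ i : ℕ, x ^ i = y :=
  Submonoid.mem_powers_iff y x |>.1 (mem_powers_iff_mem_zpowers.2 hy)

theorem mem_normalizer_zpowers {x g : G} (h : g * x * g⁻¹ ∈ Subgroup.zpowers x) :
    g ∈ Subgroup.normalizer (Subgroup.zpowers x : Set G) := by
  have hin : ∀ a ∈ Subgroup.zpowers x, g * a * g⁻¹ ∈ Subgroup.zpowers x := by
    intro a ha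
    obtain ⟨i, rfl⟩ := exists_pow_eq ha
    rw [← conj_pow]
    exact Subgroup.pow_mem _ h i
  rw [Subgroup.mem_normalizer_iff]
  refine fun a => ⟨hin a, fun ha => ?_⟩
  have hbij : Function.Surjective (fun b : Subgroup.zpowers x =>
      (⟨g * b * g⁻¹, hin b b.2⟩ : Subgroup.zpowers x)) :=
    Finite.injective_iff_surjective.1 fun b b' e => Subtype.ext
      (mul_left_cancel (mul_right_cancel (congrArg Subtype.val e)))
  obtain ⟨b, hb⟩ := hbij ⟨_, ha⟩
  exact mul_left_cancel (mul_right_cancel (congrArg Subtype.val hb)) ▸ b.2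

/-- The bound on both Tate modules of the part of a lattice cut out by an idempotent. -/
theorem key [IsAlgClosed k] (h : Red red p) (ρ : G →* Matrix ι ι R) {x : G} (hx : orderOf x = p)
    (Q : Subgroup G) [Fintype Q] (hQN : ∀ t ∈ Q, t * x * t⁻¹ ∈ Subgroup.zpowers x)
    (hQp : (Nat.card Q : k) ≠ 0) (hQx : ∀ t ∈ Q, t ∈ Subgroup.zpowers x → t = 1)
    {J : Type*} [Fintype J] (ej : J → Q → R) (E : Matrix ι ι R)
    (hsum : ∑ j, ∑ t, ej j t • ρ (t : G) = E) (hE : E * E = E) (hEX : Commute E (ρ x))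
    (hEQ : ∀ t : Q, Commute E (ρ (t : G)))
    (hidem : ∀ j, (∑ t, ej j t • ρ (t : G)) * (∑ t, ej j t • ρ (t : G)) = ∑ t, ej j t • ρ (t : G))
    (hcomm : ∀ j (t : Q), Commute (∑ t, ej j t • ρ (t : G)) (ρ (t : G))) (d : ℕ)
    (hrank : ∀ j, Module.finrank k
      (Submodule.span k (Set.range fun g : Q => fun t : Q => red (ej j (g⁻¹ * t)))) ≤ d * d)
    (hN : ∀ n ∈ Subgroup.normalizer (Subgroup.zpowers x : Set G),
      (∃ t : Q, (t : G)⁻¹ * n ∈ Subgroup.zpowers x) ∨ E * ρ n * E = 0)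
    (s : ℕ)
    (hEnd : ∀ F : Matrix ι ι R, (∀ g, Commute F (ρ g)) →
      ∃ (P : k[X]) (m : ℕ), P ≠ 0 ∧ P.natDegree ≤ s ∧ aeval (F.map red) (P ^ m) = 0) :
    ∃ a b : ℕ, a ≤ s * d ∧ b ≤ s * d ∧
      ((p - 1 : ℕ) : R) * ((a : R) - b) =
        ∑ i ∈ Finset.range (p - 1), Matrix.trace (ρ (x ^ (i + 1)) * E) := by
  classical
  -- coordinates on the image of the idempotent
  set U : Submodule R (ι → R) := LinearMap.range E.mulVecLin with hU
  let bU := Module.Free.chooseBasis R U
  let ι' := Module.Free.ChooseBasisIndex R U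
  set jl : (ι' → R) →ₗ[R] (ι → R) := U.subtype ∘ₗ bU.equivFun.symm.toLinearMap
  set pl : (ι → R) →ₗ[R] (ι' → R) :=
    bU.equivFun.toLinearMap ∘ₗ (E.mulVecLin.rangeRestrict)
  set Jm : Matrix ι ι' R := LinearMap.toMatrix' jl with hJm
  set Pm : Matrix ι' ι R := LinearMap.toMatrix' pl with hPm
  have hJP : Jm * Pm = E := by
    rw [hJm, hPm, ← LinearMap.toMatrix'_comp]
    conv_rhs => rw [← LinearMap.toMatrix'_toLin' E]
    congr 1
    refine LinearMap.ext fun v => ?_
    simp [jl, pl]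
  have hPJ : Pm * Jm = 1 := by
    rw [hJm, hPm, ← LinearMap.toMatrix'_comp, ← LinearMap.toMatrix'_id]
    congr 1
    refine LinearMap.ext fun v => ?_
    simp only [jl, pl, LinearMap.comp_apply, LinearEquiv.coe_coe, LinearMap.id_apply]
    have h1 : E.mulVecLin.rangeRestrict ((bU.equivFun.symm v : U) : ι → R) = bU.equivFun.symm v := by
      obtain ⟨⟨_, w, rfl⟩, hw⟩ : ∃ z : U, z = bU.equivFun.symm v := ⟨_, rfl⟩
      rw [← hw]
      refine Subtype.ext ?_
      show E *ᵥ (E *ᵥ w) = E *ᵥ w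
      rw [Matrix.mulVec_mulVec, hE]
    show bU.equivFun (E.mulVecLin.rangeRestrict ((bU.equivFun.symm v : U) : ι → R)) = v
    rw [h1, LinearEquiv.apply_symm_apply]
  have hPE : Pm * E = Pm := by rw [← hJP, ← Matrix.mul_assoc, hPJ, Matrix.one_mul]
  have hEJ : E * Jm = Jm := by rw [← hJP, Matrix.mul_assoc, hPJ, Matrix.mul_one]
  let cm : Matrix ι ι R → Matrix ι' ι' R := fun A => Pm * A * Jm
  have cm_mul : ∀ A B, Commute E A → cm A * cm B = cm (A * B) := fun A B hA => by
    show Pm * A * Jm * (Pm * B * Jm) = Pm * (A * B) * Jm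
    calc Pm * A * Jm * (Pm * B * Jm) = Pm * (A * (Jm * Pm)) * B * Jm := by
          simp only [Matrix.mul_assoc]
      _ = Pm * (E * A) * B * Jm := by rw [hJP, hA.eq]
      _ = Pm * (A * B) * Jm := by rw [← Matrix.mul_assoc Pm E A, hPE]; simp only [Matrix.mul_assoc]
  have cm_one : cm 1 = 1 := by show Pm * 1 * Jm = 1; rw [Matrix.mul_one, hPJ]
  have cm_E : cm E = 1 := by show Pm * E * Jm = 1; rw [hPE, hPJ]
  have hEXi : ∀ i : ℕ, Commute E (ρ (x ^ i)) := fun i => by rw [map_pow]; exact hEX.pow_right i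
  set X' := cm (ρ x) with hX'
  have hXpow : ∀ i : ℕ, X' ^ i = cm (ρ (x ^ i)) := fun i => by
    induction i with
    | zero => rw [pow_zero, pow_zero, map_one, cm_one]
    | succ i ih => rw [pow_succ, ih, hX', cm_mul _ _ (hEXi i), ← map_mul, ← pow_succ]
  have hX1 : X' ^ p = 1 := by rw [hXpow, ← hx, pow_orderOf_eq_one, map_one, cm_one]
  let ρ' : Q → Matrix ι' ι' R := fun t => cm (ρ t)
  have hρmul : ∀ a b : Q, ρ' (a * b) = ρ' a * ρ' b := fun a b => by
    show cm (ρ ((a : G) * b)) = _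
    rw [map_mul, ← cm_mul _ _ (hEQ a)]
  have hρone : ρ' 1 = 1 := by show cm (ρ 1) = 1; rw [map_one, cm_one]
  -- how the subgroup moves the operators attached to `x`
  have hmove : ∀ t : Q, (∃ a : ℕ, ρ' t * X' = X' ^ a * ρ' t) := fun t => by
    obtain ⟨a, ha⟩ := exists_pow_eq (hQN t t.2)
    refine ⟨a, ?_⟩
    rw [hXpow, hX', cm_mul _ _ (hEQ t), cm_mul _ _ (hEXi a), ← map_mul, ← map_mul, ha]
    congr 2
    group
  have hmoveS : ∀ t : Q, ρ' t * Sm X' p = Sm X' p * ρ' t := fun t => by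
    rw [Sm, Finset.mul_sum, Finset.sum_mul]
    let D := Subgroup.zpowers x
    have h1 : ∀ F : D → Matrix ι' ι' R,
        ∑ i ∈ Finset.range p, F ⟨x ^ i, Subgroup.pow_mem _ (Subgroup.mem_zpowers x) i⟩ = ∑ y : D, F y := fun F => by
      refine Finset.sum_bij (fun i _ => ⟨x ^ i, Subgroup.pow_mem _ (Subgroup.mem_zpowers x) i⟩)
        (fun _ _ => Finset.mem_univ _) (fun a ha b hb e => ?_) (fun y _ => ?_) fun _ _ => rfl
      · rw [← hx] at ha hb
        exact pow_injOn_Iio_orderOf (Finset.mem_range.1 ha) (Finset.mem_range.1 hb)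
          (congrArg Subtype.val e)
      · obtain ⟨i, hi⟩ := exists_pow_eq y.2
        refine ⟨i % p, Finset.mem_range.2 (Nat.mod_lt _ h.prime.pos), Subtype.ext ?_⟩
        show x ^ (i % p) = (y : G)
        rw [← hi, ← hx, pow_mod_orderOf]
    have hn := mem_normalizer_zpowers (hQN t t.2)
    let σ : D ≃ D :=
      { toFun := fun y => ⟨(t : G) * y * (t : G)⁻¹, ((Subgroup.mem_normalizer_iff.1 hn) _).1 y.2⟩
        invFun := fun y => ⟨(t : G)⁻¹ * y * t, ((Subgroup.mem_normalizer_iff.1 hn) _).2 (by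
          simpa [mul_assoc] using y.2)⟩
        left_inv := fun y => Subtype.ext (by simp [mul_assoc])
        right_inv := fun y => Subtype.ext (by simp [mul_assoc]) }
    rw [Finset.sum_congr rfl fun i _ => show ρ' t * X' ^ i = cm (ρ ((t : G) * x ^ i)) by
        rw [hXpow, cm_mul _ _ (hEQ t), ← map_mul],
      Finset.sum_congr rfl fun i _ => show X' ^ i * ρ' t = cm (ρ (x ^ i * (t : G))) by
        rw [hXpow, cm_mul _ _ (hEXi i), ← map_mul],
      h1 (fun y => cm (ρ ((t : G) * y))), h1 (fun y => cm (ρ ((y : G) * t)))]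
    refine Fintype.sum_equiv σ _ _ fun y => ?_
    simp [σ, mul_assoc]
  -- the general bound for one of the two modules
  have bound : ∀ (A T : Submodule k (ι' → k)), T ≤ A →
      (∀ Φ : Matrix ι' ι' R, Commute Φ X' →
        (∀ a ∈ A, Φ.map red *ᵥ a ∈ A) ∧ ∀ a ∈ T, Φ.map red *ᵥ a ∈ T) →
      (∀ t : Q, (∀ a ∈ A, (ρ' t).map red *ᵥ a ∈ A) ∧ ∀ a ∈ T, (ρ' t).map red *ᵥ a ∈ T) →
      (∀ ψ : (ι' → k) →ₗ[k] (ι' → k), (∀ a ∈ A, ψ a ∈ A) → (∀ a ∈ T, ψ a ∈ T) →
        ∃ Φ : Matrix ι' ι' R, Commute Φ X' ∧ ∀ a ∈ A, Φ.map red *ᵥ a - ψ a ∈ T) →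
      (∀ Ψ : Matrix ι' ι' R, ∀ a ∈ A,
        (∑ i ∈ Finset.range p, X' ^ i * Ψ * X' ^ (p - i)).map red *ᵥ a ∈ T) →
      Module.finrank k A - Module.finrank k T ≤ s * d := by
    intro A T hTA hPres hQpres hlift hproj
    set T' := T.comap A.subtype with hT'
    have hVdim : Module.finrank k (A ⧸ T') = Module.finrank k A - Module.finrank k T := by
      have h1 := T'.finrank_quotient_add_finrank
      rw [LinearEquiv.finrank_eq (Submodule.comapSubtypeEquivOfLe hTA)] at h1
      omega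
    rw [← hVdim]
    let act : ∀ Φ : Matrix ι' ι' R, ((∀ a ∈ A, Φ.map red *ᵥ a ∈ A) ∧
        ∀ a ∈ T, Φ.map red *ᵥ a ∈ T) → Module.End k (A ⧸ T') := fun Φ hΦ =>
      T'.mapQ T' ((Φ.map red).mulVecLin.restrict hΦ.1) fun a ha => hΦ.2 _ ha
    have act_mk : ∀ Φ hΦ (a : A), act Φ hΦ (Submodule.Quotient.mk a) =
        Submodule.Quotient.mk ⟨Φ.map red *ᵥ (a : ι' → k), hΦ.1 _ a.2⟩ := fun Φ hΦ a => rfl
    have mk_eq : ∀ {u v : A}, (u : ι' → k) - v ∈ T →
        (Submodule.Quotient.mk u : A ⧸ T') = Submodule.Quotient.mk v := fun huv =>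
      (Submodule.Quotient.eq T').2 huv
    let σ : Q →* Module.End k (A ⧸ T') :=
      { toFun := fun t => act (ρ' t) (hQpres t)
        map_one' := by
          refine Submodule.linearMap_qext _ (LinearMap.ext fun a => ?_)
          simp only [LinearMap.comp_apply, Submodule.mkQ_apply, act_mk, Module.End.one_apply]
          exact congrArg Submodule.Quotient.mk (Subtype.ext (by
            show (ρ' 1).map red *ᵥ (a : ι' → k) = a
            rw [hρone, Matrix.map_one _ (map_zero red) (map_one red), Matrix.one_mulVec]))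
        map_mul' := fun t t' => by
          refine Submodule.linearMap_qext _ (LinearMap.ext fun a => ?_)
          simp only [LinearMap.comp_apply, Submodule.mkQ_apply, act_mk, Module.End.mul_apply]
          exact congrArg Submodule.Quotient.mk (Subtype.ext (by
            show (ρ' (t * t')).map red *ᵥ (a : ι' → k) =
              (ρ' t).map red *ᵥ ((ρ' t').map red *ᵥ (a : ι' → k))
            rw [hρmul, Matrix.map_mul, ← Matrix.mulVec_mulVec])) }
    have σ_mk : ∀ t (a : A), σ t (Submodule.Quotient.mk a) =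
        Submodule.Quotient.mk ⟨(ρ' t).map red *ᵥ (a : ι' → k), (hQpres t).1 _ a.2⟩ := fun t a => rfl
    -- the blocks
    let ejk : J → Q → k := fun j t => red (ej j t)
    have hblock : ∀ j, ∃ hΦ, ∑ t, ejk j t • σ t = act (∑ t, ej j t • ρ' t) hΦ := by
      intro j
      have hsumT : ∀ a : ι' → k, (∑ t, ej j t • ρ' t).map red *ᵥ a =
          ∑ t, ejk j t • ((ρ' t).map red *ᵥ a) := fun a => by
        rw [show (∑ t, ej j t • ρ' t).map red = ∑ t, ejk j t • (ρ' t).map red by
          ext u v; simp [Matrix.sum_apply, ejk], Matrix.sum_mulVec]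
        exact Finset.sum_congr rfl fun t _ => Matrix.smul_mulVec _ _ _
      refine ⟨⟨fun a ha => ?_, fun a ha => ?_⟩, ?_⟩
      · rw [hsumT]; exact Submodule.sum_mem _ fun t _ => A.smul_mem _ ((hQpres t).1 a ha)
      · rw [hsumT]; exact Submodule.sum_mem _ fun t _ => T.smul_mem _ ((hQpres t).2 a ha)
      · refine Submodule.linearMap_qext _ (LinearMap.ext fun a => ?_)
        simp only [LinearMap.comp_apply, Submodule.mkQ_apply, LinearMap.sum_apply,
          LinearMap.smul_apply, σ_mk, act_mk]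
        rw [← Finset.sum_congr rfl fun t _ => Submodule.Quotient.mk_smul T' (ejk j t) _]
        simp only [← Submodule.mkQ_apply, ← map_sum]
        refine congrArg T'.mkQ (Subtype.ext ?_)
        simp [hsumT]
    have hcmsum : ∀ j, ∑ t, ej j t • ρ' t = cm (∑ t, ej j t • ρ (t : G)) := fun j => by
      show _ = Pm * _ * Jm
      rw [Matrix.mul_sum, Matrix.sum_mul]
      exact Finset.sum_congr rfl fun t _ => by rw [Matrix.mul_smul, Matrix.smul_mul]
    have hEj : ∀ j, Commute E (∑ t, ej j t • ρ (t : G)) := fun j =>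
      Commute.sum_right _ _ _ fun t _ => (hEQ t).smul_right _
    have hsum1 : ∑ j, ∑ t, ejk j t • σ t = 1 := by
      refine Submodule.linearMap_qext _ (LinearMap.ext fun a => ?_)
      simp only [LinearMap.comp_apply, Submodule.mkQ_apply]
      rw [LinearMap.sum_apply]
      choose hΦ eΦ using hblock
      simp only [eΦ, act_mk, Module.End.one_apply]
      simp only [← Submodule.mkQ_apply, ← map_sum]
      refine congrArg T'.mkQ (Subtype.ext ?_)
      rw [Submodule.coe_sum]
      show ∑ j, (∑ t, ej j t • ρ' t).map red *ᵥ (a : ι' → k) = a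
      have h0 : ∑ j, ∑ t, ej j t • ρ' t = 1 := by
        rw [Finset.sum_congr rfl fun j _ => hcmsum j,
          show ∑ j, cm (∑ t, ej j t • ρ (t : G)) = cm (∑ j, ∑ t, ej j t • ρ (t : G)) by
            simp only [cm, Matrix.mul_sum, Matrix.sum_mul],
          hsum, cm_E]
      rw [← Matrix.sum_mulVec, show ∑ j, (∑ t, ej j t • ρ' t).map red =
        (∑ j, ∑ t, ej j t • ρ' t).map red from (map_sum red.mapMatrix _ _).symm, h0,
        Matrix.map_one _ (map_zero red) (map_one red), Matrix.one_mulVec]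
    have hidem1 : ∀ j, (∑ t, ejk j t • σ t) * (∑ t, ejk j t • σ t) = ∑ t, ejk j t • σ t := by
      intro j
      obtain ⟨hΦ, e⟩ := hblock j
      rw [e]
      refine Submodule.linearMap_qext _ (LinearMap.ext fun a => ?_)
      simp only [LinearMap.comp_apply, Submodule.mkQ_apply, Module.End.mul_apply, act_mk]
      refine congrArg Submodule.Quotient.mk (Subtype.ext ?_)
      show (∑ t, ej j t • ρ' t).map red *ᵥ ((∑ t, ej j t • ρ' t).map red *ᵥ (a : ι' → k)) =
        (∑ t, ej j t • ρ' t).map red *ᵥ (a : ι' → k)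
      rw [Matrix.mulVec_mulVec, ← Matrix.map_mul, hcmsum, cm_mul _ _ (hEj j), hidem]
    have hcomm1 : ∀ j g, Commute (∑ t, ejk j t • σ t) (σ g) := by
      intro j g
      obtain ⟨hΦ, e⟩ := hblock j
      rw [e]
      refine Submodule.linearMap_qext _ (LinearMap.ext fun a => ?_)
      simp only [LinearMap.comp_apply, Submodule.mkQ_apply, Module.End.mul_apply, act_mk, σ_mk]
      refine congrArg Submodule.Quotient.mk (Subtype.ext ?_)
      show _ *ᵥ (_ *ᵥ (a : ι' → k)) = _ *ᵥ (_ *ᵥ (a : ι' → k))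
      rw [Matrix.mulVec_mulVec, Matrix.mulVec_mulVec, ← Matrix.map_mul, ← Matrix.map_mul, hcmsum,
        cm_mul _ _ (hEj j), cm_mul _ _ (hEQ g), (hcomm j g).eq]
    obtain ⟨f, hfc, hfdeg⟩ := exists_separating σ hQp d
      (finrank_minimal_le σ ejk hsum1 hidem1 hcomm1 d hrank)
    -- lift the separating endomorphism
    obtain ⟨sec, hsec⟩ := T'.mkQ.exists_rightInverse_of_surjective
      (LinearMap.range_eq_top.2 (Submodule.mkQ_surjective T'))
    obtain ⟨ψ1, hψ1⟩ := LinearMap.exists_extend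
      ((Nat.card Q : k)⁻¹ • (sec ∘ₗ f ∘ₗ T'.mkQ))
    set ψ : (ι' → k) →ₗ[k] (ι' → k) := A.subtype ∘ₗ ψ1
    have hψA : ∀ (a : A), ψ (a : ι' → k) =
        ((Nat.card Q : k)⁻¹ • sec (f (Submodule.Quotient.mk a)) : A) := fun a =>
      congrArg Subtype.val (LinearMap.congr_fun hψ1 a)
    obtain ⟨Φ', hΦc, hΦ⟩ := hlift ψ (fun a _ => (ψ1 a).2) fun a ha => by
      rw [hψA ⟨a, hTA ha⟩, (Submodule.Quotient.mk_eq_zero T').2 (show (⟨a, hTA ha⟩ : A) ∈ T' from ha),
        map_zero, map_zero, smul_zero]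
      exact T.zero_mem
    set Φ := Jm * Φ' * Pm with hΦdef
    have hΦE : Commute E Φ := by
      show E * (Jm * Φ' * Pm) = Jm * Φ' * Pm * E
      rw [← Matrix.mul_assoc, ← Matrix.mul_assoc, hEJ, Matrix.mul_assoc (Jm * Φ') Pm E, hPE]
    have hcmΦ : cm Φ = Φ' := by
      show Pm * (Jm * Φ' * Pm) * Jm = Φ'
      simp only [Matrix.mul_assoc]
      rw [hPJ, Matrix.mul_one, ← Matrix.mul_assoc, hPJ, Matrix.one_mul]
    have hΦx : Commute Φ (ρ x) := by
      have e1 : ρ x * Jm = Jm * X' := by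
        show _ = Jm * (Pm * ρ x * Jm)
        rw [← Matrix.mul_assoc, ← Matrix.mul_assoc, hJP, hEX.eq, Matrix.mul_assoc, hEJ]
      have e2 : Pm * ρ x = X' * Pm := by
        show _ = Pm * ρ x * Jm * Pm
        rw [Matrix.mul_assoc (Pm * ρ x), hJP, Matrix.mul_assoc, ← hEX.eq, ← Matrix.mul_assoc, hPE]
      show Jm * Φ' * Pm * ρ x = ρ x * (Jm * Φ' * Pm)
      rw [Matrix.mul_assoc, e2, ← Matrix.mul_assoc, Matrix.mul_assoc Jm, hΦc.eq, ← Matrix.mul_assoc Jm,
        ← e1]
      simp only [Matrix.mul_assoc]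
    -- its trace to the whole group
    let c : G ⧸ Subgroup.zpowers x → Matrix ι ι R := Quotient.lift (fun g => ρ g * Φ * ρ g⁻¹)
      fun g g' hgg => by
        have hy : g⁻¹ * g' ∈ Subgroup.zpowers x := QuotientGroup.leftRel_apply.1 hgg
        obtain ⟨i, hi⟩ := exists_pow_eq hy
        obtain rfl : g' = g * x ^ i := by rw [hi, mul_inv_cancel_left]
        have hΦi : Commute Φ (ρ (x ^ i)) := by rw [map_pow]; exact hΦx.pow_right i
        show ρ g * Φ * ρ g⁻¹ = ρ (g * x ^ i) * Φ * ρ (g * x ^ i)⁻¹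
        rw [map_mul, Matrix.mul_assoc (ρ g) (ρ (x ^ i)) Φ, ← hΦi.eq, _root_.mul_inv_rev]
        simp only [Matrix.mul_assoc, ← map_mul, mul_inv_cancel_left]
    have c_mk : ∀ g : G, c (g : G ⧸ Subgroup.zpowers x) = ρ g * Φ * ρ g⁻¹ := fun g => rfl
    set F := ∑ q, c q with hF
    have hFG : ∀ g, Commute F (ρ g) := by
      intro g
      show F * ρ g = ρ g * F
      rw [hF, Finset.sum_mul, Finset.mul_sum]
      refine Fintype.sum_equiv (MulAction.toPerm g⁻¹) _ _ fun q => ?_
      induction q using QuotientGroup.induction_on with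
      | _ a =>
        show c a * ρ g = ρ g * c ((g⁻¹ * a : G) : G ⧸ Subgroup.zpowers x)
        rw [c_mk, c_mk, _root_.mul_inv_rev, inv_inv]
        simp only [map_mul, ← Matrix.mul_assoc, ← map_mul ρ g g⁻¹, mul_inv_cancel, map_one,
          Matrix.one_mul]
    have hFE : Commute E F := by
      rw [← hsum]
      exact Commute.sum_left _ _ _ fun j _ => Commute.sum_left _ _ _ fun t _ =>
        ((hFG (t : G)).symm).smul_left _
    -- its action on the module
    have hF'c : Commute (cm F) X' := by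
      show cm F * cm (ρ x) = cm (ρ x) * cm F
      rw [cm_mul _ _ hFE, cm_mul _ _ hEX, (hFG x).eq]
    have hfix_mem : ∀ g : G, (x • (g : G ⧸ Subgroup.zpowers x)) = g →
        g ∈ Subgroup.normalizer (Subgroup.zpowers x : Set G) := fun g hg => by
      have h1 : g⁻¹ * (x * g) ∈ Subgroup.zpowers x :=
        QuotientGroup.eq.1 (show (g : G ⧸ Subgroup.zpowers x) = ((x * g : G) : G ⧸ _) from hg.symm)
      have := mem_normalizer_zpowers (x := x) (g := g⁻¹) (by rw [inv_inv, mul_assoc]; exact h1)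
      simpa using Subgroup.inv_mem _ this
    set fixd := (Finset.univ : Finset (G ⧸ Subgroup.zpowers x)).filter fun q => x • q = q
    have hnon : ∀ a ∈ A, (cm (∑ q ∈ fixdᶜ, c q)).map red *ᵥ a ∈ T := by
      intro a ha
      let orb : (G ⧸ Subgroup.zpowers x) → Quotient (MulAction.orbitRel (Subgroup.zpowers x) (G ⧸ Subgroup.zpowers x)) := Quotient.mk _
      rw [← Finset.sum_fiberwise_of_maps_to (t := fixdᶜ.image orb) (g := orb)
        fun q hq => Finset.mem_image_of_mem _ hq]
      rw [show cm (∑ o ∈ fixdᶜ.image orb, ∑ q ∈ fixdᶜ.filter (fun q => orb q = o), c q) =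
          ∑ o ∈ fixdᶜ.image orb, cm (∑ q ∈ fixdᶜ.filter (fun q => orb q = o), c q) by
          simp only [cm, Matrix.mul_sum, Matrix.sum_mul],
        show (∑ o ∈ fixdᶜ.image orb, cm (∑ q ∈ fixdᶜ.filter (fun q => orb q = o), c q)).map red =
          ∑ o ∈ fixdᶜ.image orb, (cm (∑ q ∈ fixdᶜ.filter (fun q => orb q = o), c q)).map red
          from map_sum red.mapMatrix _ _, Matrix.sum_mulVec]
      refine Submodule.sum_mem _ fun o ho => ?_
      obtain ⟨q, hq, rfl⟩ := Finset.mem_image.1 ho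
      induction q using QuotientGroup.induction_on with
      | _ g =>
      have hq' : x • (g : G ⧸ Subgroup.zpowers x) ≠ g := by simpa [fixd] using hq
      have hstab : ∀ j : ℕ, x ^ j • (g : G ⧸ Subgroup.zpowers x) = g → p ∣ j := by
        intro j hj
        by_contra hpj
        obtain ⟨m, hm⟩ := Nat.exists_mul_mod_eq_one_of_coprime
          ((h.prime.coprime_iff_not_dvd.2 hpj).symm) h.prime.one_lt
        refine hq' ?_
        have h1 : ∀ l : ℕ, (x ^ j) ^ l • (g : G ⧸ Subgroup.zpowers x) = g := fun l => by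
          induction l with
          | zero => simp
          | succ l ih => rw [pow_succ, mul_smul, hj, ih]
        have h2 := h1 m
        rwa [← pow_mul, ← pow_mod_orderOf, hx, hm.2, pow_one] at h2
      have hinj : ∀ i < p, ∀ j < p, x ^ i • (g : G ⧸ Subgroup.zpowers x) = x ^ j • (g : G ⧸ _) →
          i = j := by
        intro i hi j hj e
        have h1 : x ^ ((p - i) + j) • (g : G ⧸ Subgroup.zpowers x) = g := by
          rw [pow_add, mul_smul, ← e, ← mul_smul, ← pow_add, Nat.sub_add_cancel hi.le, ← hx,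
            pow_orderOf_eq_one, one_smul]
        obtain ⟨c', hc'⟩ := hstab _ h1
        rcases Nat.lt_or_ge c' 1 with hc1 | hc1
        · interval_cases c'; omega
        · rcases Nat.lt_or_ge c' 2 with hc2 | hc2
          · interval_cases c'; omega
          · have := Nat.mul_le_mul_left p hc2; omega
      have hfib : fixdᶜ.filter (fun q => orb q = orb (g : G ⧸ Subgroup.zpowers x)) =
          (Finset.range p).image fun i => x ^ i • (g : G ⧸ Subgroup.zpowers x) := by
        ext q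
        simp only [Finset.mem_filter, Finset.mem_compl, Finset.mem_image, Finset.mem_range, fixd,
          Finset.mem_univ, true_and, orb, Quotient.eq]
        constructor
        · rintro ⟨-, hrel⟩
          obtain ⟨⟨y, hy⟩, e⟩ := MulAction.orbitRel_apply.1 hrel
          obtain ⟨i, hi⟩ := exists_pow_eq hy
          refine ⟨i % p, Nat.mod_lt _ h.prime.pos, ?_⟩
          rw [← hx, pow_mod_orderOf, hi]
          exact e
        · rintro ⟨i, hi, rfl⟩
          refine ⟨fun e => hq' ?_, MulAction.orbitRel_apply.2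
            ⟨⟨x ^ i, Subgroup.pow_mem _ (Subgroup.mem_zpowers x) i⟩, rfl⟩⟩
          rw [← mul_smul, ← pow_succ', pow_succ, mul_smul] at e
          exact MulAction.injective (x ^ i) e
      rw [hfib, Finset.sum_image fun i hi j hj e =>
        hinj i (Finset.mem_range.1 hi) j (Finset.mem_range.1 hj) e]
      have hterm : ∀ i ∈ Finset.range p, cm (c (x ^ i • (g : G ⧸ Subgroup.zpowers x))) =
          X' ^ i * cm (ρ g * Φ * ρ g⁻¹) * X' ^ (p - i) := by
        intro i hi
        rw [show c (x ^ i • (g : G ⧸ Subgroup.zpowers x)) =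
          c ((x ^ i * g : G) : G ⧸ Subgroup.zpowers x) from rfl, c_mk, hXpow, hXpow, _root_.mul_inv_rev,
          cm_mul _ _ (hEXi i)]
        have hinv : (x ^ i)⁻¹ = x ^ (p - i) := by
          refine inv_eq_of_mul_eq_one_right ?_
          rw [← pow_add, Nat.add_sub_cancel' (Finset.mem_range.1 hi).le, ← hx, pow_orderOf_eq_one]
        show cm _ = Pm * (ρ (x ^ i) * (ρ g * Φ * ρ g⁻¹)) * Jm * (Pm * ρ (x ^ (p - i)) * Jm)
        rw [hinv]
        show Pm * _ * Jm = _
        rw [show Pm * (ρ (x ^ i) * (ρ g * Φ * ρ g⁻¹)) * Jm * (Pm * ρ (x ^ (p - i)) * Jm) =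
          Pm * (ρ (x ^ i) * (ρ g * Φ * ρ g⁻¹) * ((Jm * Pm) * ρ (x ^ (p - i)))) * Jm by
            simp only [Matrix.mul_assoc],
          hJP, (hEXi _).eq]
        simp only [map_mul, Matrix.mul_assoc, hEJ]
      rw [show cm (∑ i ∈ Finset.range p, c (x ^ i • (g : G ⧸ Subgroup.zpowers x))) =
          ∑ i ∈ Finset.range p, cm (c (x ^ i • (g : G ⧸ Subgroup.zpowers x))) by
          simp only [cm, Matrix.mul_sum, Matrix.sum_mul], Finset.sum_congr rfl hterm]
      exact hproj _ a ha
    have hfixed : cm (∑ q ∈ fixd, c q) = ∑ t : Q, ρ' t * Φ' * ρ' t⁻¹ := by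
      have himg : ∀ q ∈ fixd, q ∉ Finset.univ.image (fun t : Q => ((t : G) : G ⧸ Subgroup.zpowers x)) →
          cm (c q) = 0 := by
        intro q hq hno
        induction q using QuotientGroup.induction_on with
        | _ g =>
        rcases hN g (hfix_mem g (Finset.mem_filter.1 hq).2) with ⟨t, ht⟩ | h0
        · refine absurd ?_ hno
          rw [show (g : G ⧸ Subgroup.zpowers x) = ((t : G) : G ⧸ Subgroup.zpowers x) from
            (QuotientGroup.eq.2 ht).symm]
          exact Finset.mem_image.2 ⟨t, Finset.mem_univ t, rfl⟩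
        · rw [c_mk]
          show Pm * (ρ g * (Jm * Φ' * Pm) * ρ g⁻¹) * Jm = 0
          rw [show Pm * (ρ g * (Jm * Φ' * Pm) * ρ g⁻¹) * Jm =
            (Pm * E) * (ρ g * (E * Jm) * (Φ' * (Pm * (ρ g⁻¹ * Jm)))) by
              rw [hPE, hEJ]; simp only [Matrix.mul_assoc],
            show (Pm * E) * (ρ g * (E * Jm) * (Φ' * (Pm * (ρ g⁻¹ * Jm)))) =
              Pm * ((E * ρ g * E) * (Jm * (Φ' * (Pm * (ρ g⁻¹ * Jm))))) by
              simp only [Matrix.mul_assoc], h0, Matrix.zero_mul, Matrix.mul_zero]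
      rw [show cm (∑ q ∈ fixd, c q) = ∑ q ∈ fixd, cm (c q) by
        simp only [cm, Matrix.mul_sum, Matrix.sum_mul]]
      rw [← Finset.sum_subset (s₁ := Finset.univ.image fun t : Q => ((t : G) : G ⧸ Subgroup.zpowers x))
        ?_ himg, Finset.sum_image]
      · refine Finset.sum_congr rfl fun t _ => ?_
        rw [c_mk]
        show _ = cm (ρ t) * Φ' * cm (ρ ((t⁻¹ : Q) : G))
        rw [← hcmΦ, cm_mul _ _ (hEQ t), cm_mul _ _ ((hEQ t).mul_right hΦE), InvMemClass.coe_inv]
      · intro a _ b _ e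
        have h1 : (a : G)⁻¹ * b ∈ Subgroup.zpowers x := QuotientGroup.eq.1 e
        have := hQx _ (Q.mul_mem (Q.inv_mem a.2) b.2) h1
        exact Subtype.ext (inv_mul_eq_one.1 this)
      · intro q hq
        obtain ⟨t, -, rfl⟩ := Finset.mem_image.1 hq
        refine Finset.mem_filter.2 ⟨Finset.mem_univ _, ?_⟩
        refine (QuotientGroup.eq.2 ?_ :
          ((x * t : G) : G ⧸ Subgroup.zpowers x) = ((t : G) : G ⧸ Subgroup.zpowers x))
        have h1 := hQN _ (Q.inv_mem t.2)
        rw [inv_inv] at h1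
        simpa [mul_assoc] using Subgroup.inv_mem _ h1
    have hact : act (cm F) (hPres _ hF'c) = f := by
      refine Submodule.linearMap_qext _ (LinearMap.ext fun a => ?_)
      simp only [LinearMap.comp_apply, Submodule.mkQ_apply, act_mk]
      -- the value
      have hval : ∀ t : Q, ∀ b : ι' → k, b ∈ A →
          (ρ' t * Φ' * ρ' t⁻¹).map red *ᵥ b -
            (ρ' t).map red *ᵥ ψ ((ρ' t⁻¹).map red *ᵥ b) ∈ T := by
        intro t b hb
        rw [Matrix.map_mul, Matrix.map_mul, ← Matrix.mulVec_mulVec, ← Matrix.mulVec_mulVec,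
          ← Matrix.mulVec_sub]
        exact (hQpres t).2 _ (hΦ _ ((hQpres _).1 b hb))
      have hsplit : (cm F).map red *ᵥ (a : ι' → k) =
          (cm (∑ q ∈ fixd, c q)).map red *ᵥ (a : ι' → k) +
            (cm (∑ q ∈ fixdᶜ, c q)).map red *ᵥ (a : ι' → k) := by
        rw [← Matrix.add_mulVec, ← Matrix.map_add _ (map_add red), hF,
          ← Finset.sum_add_sum_compl fixd c]
        congr 2
        simp only [cm, Matrix.mul_add, Matrix.add_mul]
      let v : Q → A := fun t => ⟨(ρ' t).map red *ᵥ ψ ((ρ' t⁻¹).map red *ᵥ (a : ι' → k)),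
        (hQpres t).1 _ (ψ1 _).2⟩
      have h1 : (Submodule.Quotient.mk ⟨(cm F).map red *ᵥ (a : ι' → k), (hPres _ hF'c).1 _ a.2⟩ :
          A ⧸ T') = Submodule.Quotient.mk (∑ t, v t) := by
        refine mk_eq ?_
        show (cm F).map red *ᵥ (a : ι' → k) - ((∑ t, v t : A) : ι' → k) ∈ T
        rw [hsplit, hfixed, show (∑ t : Q, ρ' t * Φ' * ρ' t⁻¹).map red =
            ∑ t : Q, (ρ' t * Φ' * ρ' t⁻¹).map red from map_sum red.mapMatrix _ _,
          Matrix.sum_mulVec, Submodule.coe_sum, add_sub_right_comm, ← Finset.sum_sub_distrib]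
        exact T.add_mem (Submodule.sum_mem _ fun t _ => hval t _ a.2) (hnon _ a.2)
      rw [h1, ← Submodule.mkQ_apply, map_sum]
      have h2 : ∀ t : Q, T'.mkQ (v t) = (Nat.card Q : k)⁻¹ • f (Submodule.Quotient.mk a) := by
        intro t
        let a1 : A := ⟨(ρ' t⁻¹).map red *ᵥ (a : ι' → k), (hQpres _).1 _ a.2⟩
        have e2 : v t = ⟨(ρ' t).map red *ᵥ
            (((Nat.card Q : k)⁻¹ • sec (f (Submodule.Quotient.mk a1)) : A) : ι' → k),
              (hQpres t).1 _ (Subtype.coe_prop _)⟩ := Subtype.ext (by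
          show (ρ' t).map red *ᵥ ψ (a1 : ι' → k) = _
          rw [hψA])
        rw [e2, Submodule.mkQ_apply, ← σ_mk, Submodule.Quotient.mk_smul,
          show Submodule.Quotient.mk (sec (f (Submodule.Quotient.mk a1))) =
            f (Submodule.Quotient.mk a1) from LinearMap.congr_fun hsec _,
          map_smul, show (Submodule.Quotient.mk a1 : A ⧸ T') = σ t⁻¹ (Submodule.Quotient.mk a) from rfl]
        rw [← Module.End.mul_apply f, (hfc t⁻¹).eq, Module.End.mul_apply, rho_inv_apply]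
      rw [Finset.sum_congr rfl fun t _ => h2 t, Finset.sum_const, Finset.card_univ,
        ← Nat.card_eq_fintype_card, ← Nat.cast_smul_eq_nsmul k, smul_inv_smul₀ hQp]
    obtain ⟨P, m, hP0, hPs, hPF⟩ := hEnd F hFG
    refine (hfdeg P m hP0 ?_).trans (Nat.mul_le_mul_right d hPs)
    -- polynomials commute with restriction
    have hpow : ∀ l : ℕ, ((cm F).map red) ^ l = Pm.map red * (F.map red) ^ l * Jm.map red := fun l => by
      induction l with
      | zero =>
        rw [pow_zero, pow_zero, Matrix.mul_one, ← Matrix.map_mul, hPJ,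
          Matrix.map_one _ (map_zero red) (map_one red)]
      | succ l ih =>
        have hc : ∀ l, Commute E (F ^ l) := fun l => hFE.pow_right l
        have e1 : (F.map red) ^ l = (F ^ l).map red := (map_pow red.mapMatrix F l).symm
        have e2 : (F.map red) ^ (l + 1) = (F ^ (l + 1)).map red := (map_pow red.mapMatrix F _).symm
        rw [pow_succ, ih, e1, e2, ← Matrix.map_mul, ← Matrix.map_mul, ← Matrix.map_mul,
          ← Matrix.map_mul, ← Matrix.map_mul]
        show (cm (F ^ l) * cm F).map red = _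
        rw [cm_mul _ _ (hc l), ← pow_succ]
    have hpoly : ∀ S : k[X], aeval ((cm F).map red) S = Pm.map red * aeval (F.map red) S * Jm.map red := by
      intro S
      induction S using Polynomial.induction_on' with
      | add u v hu hv => rw [map_add, map_add, hu, hv, Matrix.mul_add, Matrix.add_mul]
      | monomial l r =>
        rw [aeval_monomial, aeval_monomial, hpow, ← Algebra.smul_def, ← Algebra.smul_def,
          Matrix.mul_smul, Matrix.smul_mul]
    have hzero := hpoly (P ^ m)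
    rw [hPF, Matrix.mul_zero, Matrix.zero_mul] at hzero
    have hfS : ∀ (S : k[X]) (a : A), ∃ hm : aeval ((cm F).map red) S *ᵥ (a : ι' → k) ∈ A,
        aeval f S (Submodule.Quotient.mk a) =
          Submodule.Quotient.mk ⟨aeval ((cm F).map red) S *ᵥ (a : ι' → k), hm⟩ := by
      intro S
      induction S using Polynomial.induction_on' with
      | add u v hu hv =>
        intro a
        obtain ⟨m1, e1⟩ := hu a
        obtain ⟨m2, e2⟩ := hv a
        refine ⟨by rw [map_add, Matrix.add_mulVec]; exact A.add_mem m1 m2, ?_⟩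
        rw [map_add, LinearMap.add_apply, e1, e2, ← Submodule.Quotient.mk_add]
        exact congrArg Submodule.Quotient.mk (Subtype.ext (by simp [Matrix.add_mulVec]))
      | monomial l r =>
        intro a
        have hl : ∀ (l : ℕ) (a : A), ∃ hm : ((cm F).map red) ^ l *ᵥ (a : ι' → k) ∈ A,
            (f ^ l) (Submodule.Quotient.mk a) =
              Submodule.Quotient.mk ⟨((cm F).map red) ^ l *ᵥ (a : ι' → k), hm⟩ := by
          intro l
          induction l with
          | zero => exact fun a => ⟨by simp, congrArg Submodule.Quotient.mk (Subtype.ext (by simp))⟩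
          | succ l ih =>
            intro a
            obtain ⟨m1, e1⟩ := ih a
            refine ⟨by rw [pow_succ', ← Matrix.mulVec_mulVec]; exact (hPres _ hF'c).1 _ m1, ?_⟩
            rw [pow_succ', Module.End.mul_apply, e1, ← hact, act_mk _ (hPres _ hF'c)]
            exact congrArg Submodule.Quotient.mk (Subtype.ext (by
              simp only [pow_succ', ← Matrix.mulVec_mulVec]))
        obtain ⟨m1, e1⟩ := hl l a
        refine ⟨by rw [aeval_monomial, ← Algebra.smul_def, Matrix.smul_mulVec]; exact A.smul_mem _ m1, ?_⟩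
        rw [aeval_monomial, ← Algebra.smul_def, LinearMap.smul_apply, e1, ← Submodule.Quotient.mk_smul]
        exact congrArg Submodule.Quotient.mk (Subtype.ext (by
          simp [aeval_monomial, ← Algebra.smul_def, Matrix.smul_mulVec]))
    refine Submodule.linearMap_qext _ (LinearMap.ext fun a => ?_)
    obtain ⟨m1, e1⟩ := hfS (P ^ m) a
    simp only [LinearMap.comp_apply, Submodule.mkQ_apply, e1, LinearMap.zero_apply]
    exact (Submodule.Quotient.mk_eq_zero T').2 (by
      show aeval ((cm F).map red) (P ^ m) *ᵥ (a : ι' → k) ∈ T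
      rw [hzero, Matrix.zero_mulVec]; exact T.zero_mem)
  -- apply it to the two modules
  have hcomS : ∀ Φ : Matrix ι' ι' R, Commute Φ X' → Commute Φ (Sm X' p) := fun Φ hc =>
    Commute.sum_right _ _ _ fun i _ => hc.pow_right i
  have hcomN : ∀ Φ : Matrix ι' ι' R, Commute Φ X' → Commute Φ (Nm X') := fun Φ hc =>
    hc.sub_right (Commute.one_right Φ)
  have hrange : ∀ (Φ A : Matrix ι' ι' R), Commute Φ A → ∀ a ∈ rangeB red A,
      Φ.map red *ᵥ a ∈ rangeB red A := by
    intro Φ A hc a ha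
    obtain ⟨v, rfl⟩ := (mem_rangeB red h).1 ha
    refine (mem_rangeB red h).2 ⟨Φ *ᵥ v, ?_⟩
    rw [← rv_mulVec, Matrix.mulVec_mulVec, Matrix.mulVec_mulVec, hc.eq]
  have hNgeom : ∀ a : ℕ, ∃ Y : Matrix ι' ι' R, X' ^ a - 1 = Nm X' * Y := fun a =>
    ⟨_, (mul_geom_sum X' a).symm⟩
  have hQZ : ∀ t : Q, ∀ v ∈ Z X', ρ' t *ᵥ v ∈ Z X' := by
    intro t v hv
    obtain ⟨b, hb⟩ := hmove t⁻¹
    have e : X' * ρ' t = ρ' t * X' ^ b := by
      calc X' * ρ' t = ρ' t * (ρ' t⁻¹ * X') * ρ' t := by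
            rw [← mul_assoc, ← hρmul, mul_inv_cancel, hρone, one_mul]
        _ = ρ' t * X' ^ b := by rw [hb, mul_assoc, mul_assoc, ← hρmul, inv_mul_cancel, hρone, mul_one]
    rw [mem_Z, Nm, Matrix.sub_mulVec, Matrix.one_mulVec, Matrix.mulVec_mulVec, e,
      ← Matrix.mulVec_mulVec, X_pow_fix hv, sub_self]
  have hQNm : ∀ t : Q, ∀ v, ∃ w, ρ' t *ᵥ (Nm X' *ᵥ v) = Nm X' *ᵥ w := by
    intro t v
    obtain ⟨a, ha⟩ := hmove t
    obtain ⟨Y, hY⟩ := hNgeom a
    refine ⟨(Y * ρ' t) *ᵥ v, ?_⟩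
    rw [Matrix.mulVec_mulVec, Matrix.mulVec_mulVec, ← Matrix.mul_assoc, ← hY, Nm, mul_sub, ha,
      sub_mul, mul_one, one_mul]
  have h0 := bound (Zb red h X') (rangeB red (Sm X' p)) (Zb_sup_ge red hX1 h)
    (fun Φ hc => ⟨fun a ha => by
      obtain ⟨v, hv, rfl⟩ := ha
      refine ⟨Φ *ᵥ v, ?_, by rw [rv_mulVec]⟩
      rw [SetLike.mem_coe, mem_Z, Matrix.mulVec_mulVec, ← (hcomN Φ hc).eq, ← Matrix.mulVec_mulVec,
        (mem_Z X').1 hv, Matrix.mulVec_zero], hrange Φ _ (hcomS Φ hc)⟩)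
    (fun t => ⟨fun a ha => by
      obtain ⟨v, hv, rfl⟩ := ha
      exact ⟨ρ' t *ᵥ v, hQZ t v hv, by rw [rv_mulVec]⟩, hrange _ _ (hmoveS t)⟩)
    (lift_Z red hX1 h) (fun Ψ => (proj_zero red hX1 h Ψ).1)
  have h1 := bound (Kb red h X') (rangeB red (Nm X')) (Kb_ge red hX1 h)
    (fun Φ hc => ⟨fun a ha => by
      obtain ⟨v, hv, rfl⟩ := ha
      refine ⟨Φ *ᵥ v, ?_, by rw [rv_mulVec]⟩
      rw [SetLike.mem_coe, mem_K, Matrix.mulVec_mulVec, ← (hcomS Φ hc).eq, ← Matrix.mulVec_mulVec,
        (mem_K X').1 hv, Matrix.mulVec_zero], hrange Φ _ (hcomN Φ hc)⟩)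
    (fun t => ⟨fun a ha => by
      obtain ⟨v, hv, rfl⟩ := ha
      refine ⟨ρ' t *ᵥ v, ?_, by rw [rv_mulVec]⟩
      rw [SetLike.mem_coe, mem_K, Matrix.mulVec_mulVec, ← hmoveS t, ← Matrix.mulVec_mulVec,
        (mem_K X').1 hv, Matrix.mulVec_zero], fun a ha => by
      obtain ⟨v, rfl⟩ := (mem_rangeB red h).1 ha
      obtain ⟨w, hw⟩ := hQNm t v
      exact (mem_rangeB red h).2 ⟨w, by rw [← rv_mulVec, hw]⟩⟩)
    (lift_K red hX1 h) (fun Ψ => (proj_zero red hX1 h Ψ).2)
  refine ⟨_, _, h0, h1, ?_⟩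
  have hb := herbrand red hX1 h
  rw [Nat.cast_sub (Submodule.finrank_mono (Zb_sup_ge red hX1 h)),
    Nat.cast_sub (Submodule.finrank_mono (Kb_ge red hX1 h)), hb]
  refine Finset.sum_congr rfl fun i _ => ?_
  rw [hXpow]
  show Matrix.trace (Pm * ρ (x ^ (i + 1)) * Jm) = _
  rw [Matrix.trace_mul_cycle, hJP, Matrix.trace_mul_comm]

end CfsgLib.Blocks.TateKey
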