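import Cfsg.Agent.Lib.Blocks.DefectOneGalois
import Cfsg.Agent.Lib.Blocks.DefectOneIdem
import Cfsg.Agent.Lib.Blocks.TateKey
import Cfsg.Agent.Lib.Blocks.GaloisLattice
import Cfsg.Agent.Lib.Blocks.BlockAlgebra
import Cfsg.Agent.Lib.CharTheory.ExtCriteria

/-!
# Blocks with a Sylow subgroup of prime order: the bound on the orbit sums of the differences
-/

namespace CfsgLib.Blocks.DefectOne

open Cfsg CfsgLib.CharTheory CfsgLib.CharTheory.SmallDegree CfsgLib.Blocks.GaloisLattice
open scoped ComplexConjugate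

set_option linter.unusedVariables false
set_option linter.style.haveILetI false
set_option linter.unusedSectionVars false

universe u

variable {G : Type u} [Group G] [Fintype G] {p : ℕ} {M : Ideal AlgInt} {P H : Subgroup G}

theorem zpowers_eq (h : Setup p P) (hP : Nat.card P = p) {x : G} (hx : x ∈ P) (hx1 : x ≠ 1) :
    Subgroup.zpowers x = P ∧ orderOf x = p := by
  haveI : Fact p.Prime := ⟨h.prime⟩
  have ho : orderOf x = p := orderOf_eq_prime (pow_card_of_mem hP hx) hx1
  exact ⟨Subgroup.eq_of_le_of_card_ge (Subgroup.zpowers_le.2 hx)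
    (by rw [hP, Nat.card_zpowers, ho]), ho⟩

theorem isCyclic_mulAut (h : Setup p P) (hP : Nat.card P = p) : IsCyclic (MulAut P) := by
  subst hP
  haveI : Fact (Nat.card P).Prime := ⟨h.prime⟩
  haveI : IsCyclic P := isCyclic_of_prime_card rfl
  exact isCyclic_of_injective (IsCyclic.mulAutMulEquiv P).toMonoidHom
    (IsCyclic.mulAutMulEquiv P).injective

theorem commutator_mem_cen (h : Setup p P) (hP : Nat.card P = p) {a b : G}
    (ha : a ∈ Subgroup.normalizer (P : Set G)) (hb : b ∈ Subgroup.normalizer (P : Set G)) :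
    a * b * a⁻¹ * b⁻¹ ∈ cen P := by
  let φ := P.normalizerMonoidHom
  haveI := isCyclic_mulAut h hP
  have hk : (⟨a, ha⟩ * ⟨b, hb⟩ * ⟨a, ha⟩⁻¹ * ⟨b, hb⟩⁻¹ :
      Subgroup.normalizer (P : Set G)) ∈ φ.ker := by
    rw [MonoidHom.mem_ker, map_mul, map_mul, map_mul, map_inv, map_inv]
    obtain ⟨g, hg⟩ := IsCyclic.exists_generator (α := MulAut P)
    obtain ⟨i, hi⟩ := Subgroup.mem_zpowers_iff.1 (hg (φ ⟨a, ha⟩))
    obtain ⟨j, hj⟩ := Subgroup.mem_zpowers_iff.1 (hg (φ ⟨b, hb⟩))
    rw [← hi, ← hj, ((Commute.refl g).zpow_zpow i j).eq, mul_inv_cancel_right, mul_inv_cancel]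
  rw [Subgroup.normalizerMonoidHom_ker] at hk
  exact Subgroup.mem_subgroupOf.1 hk

section chars

variable [Fintype P] [Fintype (cen P)] [Fintype H] {B : Set (IrrCharacter G)}
  {θ : IrrCharacter (cen P)}

theorem mem_H_of_regular (h : Setup p P) (hH : Compl P H) (hP : Nat.card P = p) {c : G}
    (hc : c ∈ cen P) (hreg : ¬ p ∣ orderOf c) : c ∈ H := by
  obtain ⟨x, hx, y, hy, rfl⟩ := hH.prod c hc
  rw [(regular_iff h hH hP hx hy).1 hreg, one_mul]
  exact hy

theorem H_regular (h : Setup p P) (hH : Compl P H) (hP : Nat.card P = p) {y : G} (hy : y ∈ H) :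
    ¬ p ∣ orderOf y := by
  simpa using (regular_iff h hH hP P.one_mem hy).2 rfl

theorem H_conj (h : Setup p P) (hH : Compl P H) (hP : Nat.card P = p) {n y : G}
    (hn : n ∈ Subgroup.normalizer (P : Set G)) (hy : y ∈ H) : n * y * n⁻¹ ∈ H :=
  mem_H_of_regular h hH hP ((norm_cen_mem hn y).1 (hH.le hy)) (by
    rw [show n * y * n⁻¹ = MulAut.conj n y from rfl, MulEquiv.orderOf_eq]
    exact H_regular h hH hP hy)

/-- Conjugation on the complement. -/
noncomputable def eH (h : Setup p P) (hH : Compl P H) (hP : Nat.card P = p) {n : G}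
    (hn : n ∈ Subgroup.normalizer (P : Set G)) : H ≃ H :=
  Equiv.ofBijective (fun y => ⟨n * y * n⁻¹, H_conj h hH hP hn y.2⟩)
    ((Finite.injective_iff_bijective).1 fun a b e => Subtype.ext
      (mul_left_cancel (mul_right_cancel (congrArg Subtype.val e))))

theorem eH_coe (h : Setup p P) (hH : Compl P H) (hP : Nat.card P = p) {n : G}
    (hn : n ∈ Subgroup.normalizer (P : Set G)) (y : H) :
    ((eH h hH hP hn y : H) : G) = n * y * n⁻¹ := rfl

/-- The character of the complement. -/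
noncomputable def thetaH (h : Setup p P) (hH : Compl P H) (θ : IrrCharacter (cen P)) :
    IrrCharacter H := ⟨resH hH θ, resH_irr h hH θ⟩

theorem exists_Q (h : Setup p P) (hH : Compl P H) (hP : Nat.card P = p)
    (θ : IrrCharacter (cen P)) :
    ∃ Q : Subgroup G, Q ≤ stab θ ∧ H ≤ Q ∧ ¬ p ∣ Nat.card Q ∧ (∀ q ∈ Q, q ∈ P → q = 1) ∧
      (∀ q ∈ Q, q ∈ cen P → q ∈ H) ∧ ∀ t ∈ stab θ, ∃ q ∈ Q, q⁻¹ * t ∈ P := by
  classical
  haveI : Fact p.Prime := ⟨h.prime⟩
  set T := stab θ
  have hPT : P ≤ T := h.le_cent.trans (cen_le_stab θ)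
  haveI hnorm : (P.subgroupOf T).Normal := ⟨fun x hx t => by
    rw [Subgroup.mem_subgroupOf] at hx ⊢
    push_cast
    exact (Subgroup.mem_normalizer_iff.1 (stab_le θ t.2) _).1 hx⟩
  have hidx : ¬ p ∣ (P.subgroupOf T).index :=
    fun hd => h.sylow (hd.trans (Subgroup.relIndex_dvd_index_of_le hPT))
  have hcop : (Nat.card (P.subgroupOf T)).Coprime (P.subgroupOf T).index := by
    rw [Nat.card_congr (Subgroup.subgroupOfEquivOfLe hPT).toEquiv, hP]
    exact h.prime.coprime_iff_not_dvd.2 hidx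
  obtain ⟨K, hK⟩ := Subgroup.exists_right_complement'_of_coprime hcop
  have hcard : ¬ p ∣ Nat.card K := by
    rwa [← hK.symm.index_eq_card]
  refine ⟨K.map T.subtype, Subgroup.map_subtype_le K, ?_, ?_, ?_, ?_, ?_⟩
  · intro y hy
    obtain ⟨⟨a, b⟩, hab⟩ := hK.surjective ⟨y, cen_le_stab θ (hH.le hy)⟩
    have e : ((a : T) : G) * ((b : T) : G) = y := congrArg Subtype.val hab
    have hbC : ((b : T) : G) ∈ cen P := by
      rw [show ((b : T) : G) = ((a : T) : G)⁻¹ * y by rw [← e, inv_mul_cancel_left]]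
      exact (cen P).mul_mem ((cen P).inv_mem (h.le_cent (Subgroup.mem_subgroupOf.1 a.2))) (hH.le hy)
    have hbreg : ¬ p ∣ orderOf ((b : T) : G) := fun hd => hcard (hd.trans (by
      rw [Subgroup.orderOf_coe, Subgroup.orderOf_coe]
      exact orderOf_dvd_natCard b))
    have hbH := mem_H_of_regular h hH hP hbC hbreg
    have ha : ((a : T) : G) = 1 := by
      have h1 : ((a : T) : G) ∈ P ⊓ H := ⟨Subgroup.mem_subgroupOf.1 a.2, by
        rw [show ((a : T) : G) = y * ((b : T) : G)⁻¹ by rw [← e, mul_inv_cancel_right]]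
        exact H.mul_mem hy (H.inv_mem hbH)⟩
      rwa [hH.inf, Subgroup.mem_bot] at h1
    rw [ha, one_mul] at e
    exact ⟨b, b.2, e⟩
  · rwa [Subgroup.card_map_of_injective T.subtype_injective]
  · rintro _ ⟨k, hk, rfl⟩ hqP
    have := Subgroup.disjoint_def.1 hK.disjoint (Subgroup.mem_subgroupOf.2 hqP) hk
    simp [this]
  · rintro _ ⟨k, hk, rfl⟩ hqC
    refine mem_H_of_regular h hH hP hqC fun hd => hcard (hd.trans ?_)
    show orderOf (k : G) ∣ _
    rw [Subgroup.orderOf_coe, ← Subgroup.orderOf_mk k hk]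
    exact orderOf_dvd_natCard _
  · intro t ht
    obtain ⟨⟨a, b⟩, hab⟩ := hK.surjective ⟨t, ht⟩
    have e : ((a : T) : G) * ((b : T) : G) = t := congrArg Subtype.val hab
    refine ⟨((b : T) : G), ⟨b, b.2, rfl⟩, ?_⟩
    rw [← e, ← mul_assoc]
    have h1 := (Subgroup.mem_normalizer_iff.1
      ((Subgroup.normalizer (P : Set G)).inv_mem (stab_le θ (b : T).2)) ((a : T) : G)).1
      (Subgroup.mem_subgroupOf.1 a.2)
    rwa [inv_inv] at h1

theorem theta_conj (h : Setup p P) (hH : Compl P H) (hP : Nat.card P = p)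
    {g : G} (hg : g ∈ stab θ) (y : H) :
    resH hH θ (eH h hH hP (stab_le θ hg) y) = resH hH θ y :=
  stab_comm hg ⟨y, hH.le y.2⟩ ⟨_, hH.le (eH h hH hP (stab_le θ hg) y).2⟩ rfl

/-- The characters of a complement of `P` in the stabiliser over the character of `H`. -/
theorem exists_over (h : Setup p P) (hH : Compl P H) (hP : Nat.card P = p) (Q : Subgroup G)
    [Fintype Q] (hQT : Q ≤ stab θ) (hHQ : H ≤ Q) (hQC : ∀ q ∈ Q, q ∈ cen P → q ∈ H) :
    ∃ J : Finset (IrrCharacter Q), (∀ ψ ∈ J, (ψ : Q → ℂ) 1 = (θ : cen P → ℂ) 1) ∧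
      (∀ t : Q, ∀ ht : (t : G) ∈ H,
        ∑ ψ ∈ J, idemC ψ t = idemC (thetaH h hH θ) ⟨t, ht⟩) ∧
      ∀ t : Q, (t : G) ∉ H → ∑ ψ ∈ J, idemC ψ t = 0 := by
  classical
  set N := H.subgroupOf Q with hNdef
  haveI hN : N.Normal := ⟨fun y hy t => by
    rw [Subgroup.mem_subgroupOf] at hy ⊢
    push_cast
    exact H_conj h hH hP (stab_le θ (hQT t.2)) hy⟩
  haveI : Fintype N := Fintype.ofFinite N
  let e := Subgroup.subgroupOfEquivOfLe hHQ
  set ϑ : N → ℂ := fun y => resH hH θ (e y) with hϑdef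
  have hϑ : IsIrrCharacter N ϑ :=
    isIrrCharacter_comp_surjective (resH_irr h hH θ) e.toMonoidHom e.surjective
  have hϑ1 : ϑ 1 = (θ : cen P → ℂ) 1 := by
    show resH hH θ (e 1) = _
    rw [map_one]; rfl
  have hinv : ∀ (g : Q) (y : N), ϑ ⟨g * y * g⁻¹, hN.conj_mem (y : Q) y.2 g⟩ = ϑ y := fun g y => by
    show resH hH θ _ = resH hH θ _
    rw [← theta_conj h hH hP (hQT g.2) (e y)]
    rfl
  have hcyc : IsCyclic (Q ⧸ N) := by
    haveI := isCyclic_mulAut h hP
    let φ : Q →* MulAut P :=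
      P.normalizerMonoidHom.comp (Subgroup.inclusion (hQT.trans (stab_le θ)))
    have hker : φ.ker = N := by
      ext t
      rw [MonoidHom.mem_ker, show φ t = P.normalizerMonoidHom ⟨t, stab_le θ (hQT t.2)⟩ from rfl,
        ← MonoidHom.mem_ker, Subgroup.normalizerMonoidHom_ker, Subgroup.mem_subgroupOf,
        Subgroup.mem_subgroupOf]
      exact ⟨fun hc => hQC _ t.2 hc, fun hc => hH.le hc⟩
    haveI : IsCyclic (Q ⧸ φ.ker) :=
      isCyclic_of_injective (QuotientGroup.kerLift φ) (QuotientGroup.kerLift_injective φ)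
    exact isCyclic_of_surjective (QuotientGroup.quotientMulEquivOfEq hker).toMonoidHom
      (QuotientGroup.quotientMulEquivOfEq hker).surjective
  have hab : ∀ a b : Q, a * b * a⁻¹ * b⁻¹ ∈ N := fun a b => by
    rw [Subgroup.mem_subgroupOf]
    push_cast
    exact hQC _ (Q.mul_mem (Q.mul_mem (Q.mul_mem a.2 b.2) (Q.inv_mem a.2)) (Q.inv_mem b.2))
      (commutator_mem_cen h hP (stab_le θ (hQT a.2)) (stab_le θ (hQT b.2)))
  obtain ⟨ξ, hξ, hξN⟩ := exists_extension_of_cyclic hϑ hinv hcyc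
  have hres : IsIrrCharacter N (fun n : N => ξ n) := by rw [funext hξN]; exact hϑ
  have hover : ∀ ψ : IrrCharacter Q, classInner (fun n : N => (ψ : Q → ℂ) n) ϑ ≠ 0 →
      (fun n : N => (ψ : Q → ℂ) n) = ϑ := by
    intro ψ hne
    rw [← funext hξN] at hne
    obtain ⟨β, hβ, hβN, e1⟩ := (gallagher N (isCharacter_of_irr hξ) hres).2.2 ψ ψ.2 hne
    have hβ1 := irr_degree_one_of_kernel_commutator N hab hβ hβN
    funext n
    rw [e1, Pi.mul_apply, hβN n n.2, hβ1, one_mul, hξN]
  refine ⟨Finset.univ.filter fun ψ => classInner (fun n : N => (ψ : Q → ℂ) n) ϑ ≠ 0,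
    fun ψ hψ => ?_, ?_⟩
  · rw [← hϑ1, ← hover ψ (Finset.mem_filter.1 hψ).2]
    rfl
  have hind : ∀ t, ∑ ψ ∈ Finset.univ.filter (fun ψ : IrrCharacter Q =>
      classInner (fun n : N => (ψ : Q → ℂ) n) ϑ ≠ 0), (ψ : Q → ℂ) t = indFun N ϑ t := by
    intro t
    rw [congrFun (eq_sum_irr (indFun_isClassFunction N ϑ)) t, Finset.sum_apply, Finset.sum_filter]
    refine Finset.sum_congr rfl fun ψ _ => ?_
    rw [Pi.smul_apply, smul_eq_mul, frobenius_reciprocity N ϑ (isClassFunction_irr ψ.2)]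
    split_ifs with hne
    · rw [hover ψ hne, classInner_irr_self hϑ, one_mul]
    · rw [← classInner_comm, not_not.1 hne, map_zero, zero_mul]
  have hext : ∀ x t : Q, extendByZero N ϑ (x⁻¹ * t * x) = extendByZero N ϑ t := by
    intro x t
    by_cases ht : t ∈ N
    · have hx : x⁻¹ * t * x ∈ N := by simpa using hN.conj_mem t ht x⁻¹
      rw [extendByZero_of_mem _ _ hx, extendByZero_of_mem _ _ ht, ← hinv x⁻¹ ⟨t, ht⟩]
      exact congrArg ϑ (Subtype.ext (by simp))
    · rw [extendByZero_of_not_mem _ _ ht, extendByZero_of_not_mem]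
      intro hx
      exact ht (by simpa [mul_assoc] using hN.conj_mem _ hx x)
  have hsum : ∀ t, ∑ ψ ∈ Finset.univ.filter (fun ψ : IrrCharacter Q =>
      classInner (fun n : N => (ψ : Q → ℂ) n) ϑ ≠ 0), idemC ψ t =
      (θ : cen P → ℂ) 1 / (Nat.card H : ℂ) * conj (extendByZero N ϑ t) := by
    intro t
    rw [Finset.sum_congr rfl fun ψ hψ => show idemC ψ t =
        (θ : cen P → ℂ) 1 / (Nat.card Q : ℂ) * conj ((ψ : Q → ℂ) t) by
      rw [idemC, ← hϑ1, ← hover ψ (Finset.mem_filter.1 hψ).2]; rfl,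
      ← Finset.mul_sum, ← map_sum, hind, indFun,
      Finset.sum_congr rfl fun x _ => hext x t, Finset.sum_const, Finset.card_univ,
      ← Nat.card_eq_fintype_card, nsmul_eq_mul,
      show Nat.card N = Nat.card H from Nat.card_congr e.toEquiv]
    have hQ : (Nat.card Q : ℂ) ≠ 0 := Nat.cast_ne_zero.2 Nat.card_pos.ne'
    simp only [map_mul, map_inv₀, map_natCast]
    field_simp
  refine ⟨fun t ht => ?_, fun t ht => ?_⟩
  · have hm : t ∈ N := Subgroup.mem_subgroupOf.2 ht
    rw [hsum, extendByZero_of_mem _ _ hm]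
    rfl
  · rw [hsum, extendByZero_of_not_mem _ _ fun hm => ht (Subgroup.mem_subgroupOf.1 hm), map_zero,
      mul_zero]

theorem card_irr_P (h : Setup p P) (hP : Nat.card P = p) :
    Fintype.card (IrrCharacter P) = p := by
  classical
  have h1 := sum_irr_apply_mul_degree (G := P) (1 : P)
  rw [if_pos rfl, Finset.sum_congr rfl fun ν _ => by rw [irrP_one h, mul_one], Finset.sum_const,
    nsmul_eq_mul, mul_one, hP, Finset.card_univ] at h1
  exact_mod_cast h1

/-- The sum of all differences. -/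
theorem sum_dd (h : Setup p P) (hH : Compl P H) (hP : Nat.card P = p)
    (hθ : SmallDegree.lam h θ = fun _ => 1) (χ : IrrCharacter G) [DecidableEq P] :
    ∑ ν : IrrCharacter P, dd h hH θ χ ν =
      -(Nat.card H : ℂ)⁻¹ * ∑ x ∈ Finset.univ.erase (1 : P), ∑ y : H,
        (χ : G → ℂ) ((x : G) * y) * conj (resH hH θ y) := by
  classical
  have hp0 : (p : ℂ) ≠ 0 := Nat.cast_ne_zero.2 h.prime.ne_zero
  have hinner : ∀ x : P, ∑ ν : IrrCharacter P, ((ν : P → ℂ) x - 1) =
      if x = 1 then 0 else -(p : ℂ) := by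
    intro x
    rw [Finset.sum_sub_distrib, Finset.sum_const, Finset.card_univ, card_irr_P h hP, nsmul_eq_mul,
      mul_one]
    split_ifs with hx
    · rw [Finset.sum_congr rfl fun (ν : IrrCharacter P) _ => show (ν : P → ℂ) x = 1 by rw [hx, irrP_one h],
        Finset.sum_const, Finset.card_univ, card_irr_P h hP, nsmul_eq_mul, mul_one, sub_self]
    · rw [sum_nu h fun e => hx (Subtype.ext e), zero_sub]
  simp only [dd_eq_sum h hH hθ]
  rw [← Finset.mul_sum, Finset.sum_comm]
  have h2 : ∀ x : P, ∑ ν : IrrCharacter P, ∑ y : H,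
      (χ : G → ℂ) ((x : G) * y) * conj (((ν : P → ℂ) x - 1) * resH hH θ y) =
      conj (if x = 1 then (0 : ℂ) else -(p : ℂ)) *
        ∑ y : H, (χ : G → ℂ) ((x : G) * y) * conj (resH hH θ y) := by
    intro x
    rw [← hinner x, map_sum, Finset.sum_mul]
    refine Finset.sum_congr rfl fun ν _ => ?_
    rw [Finset.mul_sum]
    exact Finset.sum_congr rfl fun y _ => by rw [map_mul]; ring
  rw [Finset.sum_congr rfl fun x _ => h2 x, ← Finset.add_sum_erase _ _ (Finset.mem_univ (1 : P)),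
    if_pos rfl, map_zero, zero_mul, zero_add,
    Finset.sum_congr rfl fun x hx => by rw [if_neg (Finset.ne_of_mem_erase hx), map_neg, map_natCast],
    ← Finset.mul_sum, ← hH.card, hP]
  push_cast
  field_simp

theorem sum_powers (h : Setup p P) (hP : Nat.card P = p) {A : Type*} [AddCommMonoid A] {x : P}
    (hx : (x : G) ≠ 1) [DecidableEq P] (F : P → A) :
    ∑ i ∈ Finset.range (p - 1), F (x ^ (i + 1)) = ∑ y ∈ Finset.univ.erase (1 : P), F y := by
  obtain ⟨-, ho⟩ := zpowers_eq h hP x.2 hx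
  rw [Subgroup.orderOf_coe] at ho
  have hinj : ∀ i ∈ Finset.range (p - 1), ∀ j ∈ Finset.range (p - 1),
      x ^ (i + 1) = x ^ (j + 1) → i = j := by
    intro i hi j hj e
    have := Finset.mem_range.1 hi; have := Finset.mem_range.1 hj
    have e2 := pow_injOn_Iio_orderOf (x := x) (show i + 1 < orderOf x by omega)
      (show j + 1 < orderOf x by omega) e
    omega
  have himg : (Finset.range (p - 1)).image (fun i => x ^ (i + 1)) = Finset.univ.erase (1 : P) := by
    refine Finset.eq_of_subset_of_card_le (fun z hz => ?_) ?_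
    · obtain ⟨i, hi, rfl⟩ := Finset.mem_image.1 hz
      refine Finset.mem_erase.2 ⟨fun e => ?_, Finset.mem_univ _⟩
      have h1 := Nat.le_of_dvd (Nat.succ_pos i) (ho ▸ orderOf_dvd_of_pow_eq_one e)
      have := Finset.mem_range.1 hi
      omega
    · rw [Finset.card_image_of_injOn hinj, Finset.card_range, Finset.card_erase_of_mem
        (Finset.mem_univ _), Finset.card_univ, ← Nat.card_eq_fintype_card, hP]
  rw [← himg, Finset.sum_image hinj]

/-- The bound. -/
theorem abs_orbD_le (hM : IsPModular p M) (h : Setup p P) (hH : Compl P H) (hP : Nat.card P = p)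
    (hθ : SmallDegree.lam h θ = fun _ => 1) (χ : IrrCharacter G) {ν : IrrCharacter P}
    (hν : ν ≠ oneP P) : |orbD h hH θ χ ν| ≤ 1 := by
  classical
  haveI : Fact p.Prime := ⟨h.prime⟩
  haveI := hM.2.1
  letI := Ideal.Quotient.field M
  haveI := res_charP hM
  haveI := Wr_dvr hM
  haveI : IsAlgClosed (AlgInt ⧸ M) := res_isAlgClosed hM
  obtain ⟨x, hx⟩ : ∃ x : P, x ≠ 1 := by
    haveI : Nontrivial P := Finite.one_lt_card_iff_nontrivial.1 (hP ▸ h.prime.one_lt)
    exact exists_ne 1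
  have hx1 : (x : G) ≠ 1 := fun e => hx (Subtype.ext e)
  obtain ⟨hz, hord⟩ := zpowers_eq h hP x.2 hx1
  obtain ⟨Q, hQT, hHQ, hQp, hQP, hQC, hTQ⟩ := exists_Q h hH hP θ
  haveI : Fintype Q := Fintype.ofFinite Q
  obtain ⟨J, hJ1, hJH, hJn⟩ := exists_over h hH hP Q hQT hHQ hQC
  obtain ⟨n, ρ, htr, hEnd⟩ := exists_lattice hM (dvd_card hP) (sq_not_dvd h hP) χ
  have hHp := compl_not_dvd h hH
  set eW := idemW hM hHp (thetaH h hH θ) with heW
  let φH := ρ.comp H.subtype
  let φQ := ρ.comp Q.subtype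
  set E := wsum φH eW with hEdef
  have hmove : ∀ {g : G} (hg : g ∈ Subgroup.normalizer (P : Set G)),
      E * ρ g = ρ g * wsum φH fun y => eW (eH h hH hP hg y) := fun {g} hg =>
    wsum_shift φH eW _ (ρ g) (eH h hH hP hg) (fun a => by
      show ρ (g * (a : G) * g⁻¹) * ρ g = ρ g * ρ (a : G)
      rw [← map_mul, ← map_mul, inv_mul_cancel_right]) fun a => rfl
  have hEcomm : ∀ {g : G}, g ∈ stab θ → Commute E (ρ g) := fun {g} hg => by
    show E * ρ g = ρ g * E
    rw [hmove (stab_le θ hg), hEdef]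
    congr 2
    funext y
    refine Subtype.ext ?_
    show idemC (thetaH h hH θ) _ = idemC (thetaH h hH θ) _
    simp only [idemC]
    rw [show (thetaH h hH θ : H → ℂ) (eH h hH hP (stab_le θ hg) y) = (thetaH h hH θ : H → ℂ) y from
      theta_conj h hH hP hg y]
  have hE : E * E = E := by
    rw [hEdef, wsum_mul]
    congr 1
    funext c
    rw [idemW_conv, if_pos rfl]
  have hQk : (Nat.card Q : AlgInt ⧸ M) ≠ 0 := fun e => hQp ((CharP.cast_eq_zero_iff _ p _).1 e)
  have hred : TateLattice.Red (redW hM) p :=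
    ⟨h.prime, Wr_p_ne_zero hM, redW_surjective hM, fun r => redW_eq_zero_iff hM⟩
  set d := charDegree (θ : cen P → ℂ)
  have key := TateKey.key hred ρ hord Q
    (fun t ht => by rw [hz]; exact (Subgroup.mem_normalizer_iff.1 (stab_le θ (hQT ht)) _).1 x.2)
    hQk (fun t ht htz => hQP t ht (hz ▸ htz))
    (fun (j : {ψ // ψ ∈ J}) => idemW hM hQp j.1) E
    (by
      rw [Finset.sum_comm, hEdef, wsum]
      simp only [← Finset.sum_smul]
      refine (Fintype.sum_of_injective (Subgroup.inclusion hHQ)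
        (Subgroup.inclusion_injective hHQ) _ _ (fun t ht => ?_) fun y => ?_).symm
      · have : (t : G) ∉ H := fun hm => ht ⟨⟨t, hm⟩, Subtype.ext rfl⟩
        rw [show ∑ j : {ψ // ψ ∈ J}, idemW hM hQp j.1 t = 0 from Subtype.ext (by
          rw [AddSubmonoidClass.coe_finsetSum]
          exact (Finset.sum_coe_sort J fun ψ => idemC ψ t).trans (hJn t this)), zero_smul]
      · rw [show ∑ j : {ψ // ψ ∈ J}, idemW hM hQp j.1 (Subgroup.inclusion hHQ y) = eW y from
          Subtype.ext (by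
            rw [AddSubmonoidClass.coe_finsetSum]
            exact (Finset.sum_coe_sort J fun ψ => idemC ψ _).trans (hJH _ y.2))]
        rfl)
    hE (hEcomm (cen_le_stab θ (h.le_cent x.2))) (fun t => hEcomm (hQT t.2))
    (fun j => by
      show wsum φQ (idemW hM hQp j.1) * wsum φQ (idemW hM hQp j.1) = wsum φQ (idemW hM hQp j.1)
      rw [wsum_mul]
      congr 1
      funext c
      rw [idemW_conv, if_pos rfl])
    (fun j t => by
      show wsum φQ (idemW hM hQp j.1) * φQ t = φQ t * wsum φQ (idemW hM hQp j.1)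
      refine wsum_shift φQ _ _ (φQ t) (MulAut.conj t).toEquiv (fun a => ?_) fun a => ?_
      · show φQ (t * a * t⁻¹) * φQ t = φQ t * φQ a
        rw [← map_mul, ← map_mul, inv_mul_cancel_right]
      · exact Subtype.ext (idemC_class j.1 a t))
    d (fun j => by
      have e : charDegree ((j.1 : IrrCharacter Q) : Q → ℂ) = d := by
        have h1 : ((charDegree ((j.1 : IrrCharacter Q) : Q → ℂ) : ℕ) : ℂ) = (d : ℂ) := by
          rw [irr_charDegree_cast, hJ1 _ j.2, irr_charDegree_cast]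
        exact_mod_cast h1
      rw [← e]
      exact idem_rank hM hQp j.1)
    (fun g hg => by
      rw [hz] at hg
      by_cases hgT : g ∈ stab θ
      · obtain ⟨q, hq, hq'⟩ := hTQ g hgT
        exact Or.inl ⟨⟨q, hq⟩, hz.symm ▸ hq'⟩
      · right
        rw [hmove hg, Matrix.mul_assoc, hEdef, wsum_mul]
        have hne : thetaH h hH (cConj hg θ) ≠ thetaH h hH θ := fun e => by
          refine hgT ⟨hg, ext_char h hH ?_ (congrArg Subtype.val e)⟩
          rw [(cConj_mk h hH hP hθ hg (oneP P)).1, hθ]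
        have hd1 : (cConj hg θ : cen P → ℂ) 1 = (θ : cen P → ℂ) 1 := by
          show (θ : cen P → ℂ) (cEquiv hg 1) = _
          rw [map_one]
        rw [show (fun c : H => ∑ a, eW (eH h hH hP hg a) * eW (a⁻¹ * c)) = fun _ => 0 from
          funext fun c => by
            rw [Finset.sum_congr rfl fun a _ => show eW (eH h hH hP hg a) * eW (a⁻¹ * c) =
              idemW hM hHp (thetaH h hH (cConj hg θ)) a * idemW hM hHp (thetaH h hH θ) (a⁻¹ * c) by
                refine congrArg (· * _) (Subtype.ext ?_)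
                show idemC (thetaH h hH θ) _ = idemC (thetaH h hH (cConj hg θ)) a
                simp only [idemC]
                show (θ : cen P → ℂ) _ / _ * conj ((θ : cen P → ℂ) _) =
                  (cConj hg θ : cen P → ℂ) _ / _ * conj ((cConj hg θ : cen P → ℂ) _)
                rw [show (cConj hg θ : cen P → ℂ) ⟨((1 : H) : G), hH.le (1 : H).2⟩ =
                  (θ : cen P → ℂ) ⟨((1 : H) : G), hH.le (1 : H).2⟩ from hd1]
                rfl,
              idemW_conv, if_neg hne],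
          wsum_zero, Matrix.mul_zero])
    (charDegree (χ : G → ℂ)) hEnd
  obtain ⟨a, b, ha, hb, hab⟩ := key
  set D := orbD h hH θ χ ν with hD
  set s := charDegree (χ : G → ℂ)
  -- the trace sum
  have hnu : ∀ ν' : IrrCharacter P,
      ((orbD h hH θ χ ν' : ℤ) : ℂ) = ∑ ψ ∈ galOrbit p χ, dd h hH θ ψ ν' := fun ν' => by
    rw [orbD, Int.cast_sum]
    exact Finset.sum_congr rfl fun ψ _ => (dd_eq_cast h hH θ ψ ν').symm
  have hDsum : ((p - 1 : ℕ) : ℂ) * (D : ℂ) = ∑ ψ ∈ galOrbit p χ, ∑ ν', dd h hH θ ψ ν' := by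
    rw [Finset.sum_comm, ← Finset.add_sum_erase _ _ (Finset.mem_univ (oneP P))]
    rw [Finset.sum_eq_zero fun ψ _ => dd_one h hH hθ ψ, zero_add,
      Finset.sum_congr rfl fun ν' hν' => by
        rw [← hnu, orbD_indep h hH hP hθ χ hν (Finset.ne_of_mem_erase hν')],
      Finset.sum_const, Finset.card_erase_of_mem (Finset.mem_univ _), Finset.card_univ,
      card_irr_P h hP, nsmul_eq_mul]
  have hT : ((∑ i ∈ Finset.range (p - 1), Matrix.trace (ρ ((x : G) ^ (i + 1)) * E) : Wr hM) : ℂ) =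
      -((s : ℂ) * d) * (((p - 1 : ℕ) : ℂ) * (D : ℂ)) := by
    rw [hDsum, AddSubmonoidClass.coe_finsetSum]
    have e1 : ∀ g : G, ((Matrix.trace (ρ g * E) : Wr hM) : ℂ) =
        ∑ y : H, idemC (thetaH h hH θ) y * ((χ : G → ℂ) 1 * ∑ ψ ∈ galOrbit p χ, (ψ : G → ℂ) (g * y)) := by
      intro g
      rw [hEdef, wsum, Finset.mul_sum, Matrix.trace_sum, AddSubmonoidClass.coe_finsetSum]
      refine Finset.sum_congr rfl fun y _ => ?_
      rw [Matrix.mul_smul, Matrix.trace_smul, smul_eq_mul, Subring.coe_mul,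
        show ρ g * φH y = ρ (g * y) from (map_mul ρ _ _).symm, htr]
      rfl
    rw [Finset.sum_congr rfl fun i _ => e1 _]
    refine (sum_powers h hP hx1 fun z : P => ∑ y : H, idemC (thetaH h hH θ) y *
      ((χ : G → ℂ) 1 * ∑ ψ ∈ galOrbit p χ, (ψ : G → ℂ) ((z : G) * y))).trans ?_
    simp only [sum_dd h hH hP hθ, Finset.mul_sum]
    rw [Finset.sum_comm (s := galOrbit p χ)]
    refine Finset.sum_congr rfl fun z _ => ?_
    rw [Finset.sum_comm]
    refine Finset.sum_congr rfl fun ψ _ => Finset.sum_congr rfl fun y _ => ?_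
    simp only [idemC, thetaH, resH_one, s, d, irr_charDegree_cast]
    ring
  have hC := congrArg Subtype.val hab
  simp only [Subring.coe_mul, AddSubgroupClass.coe_sub, Subring.coe_natCast] at hC
  rw [hT] at hC
  have hp1 : ((p - 1 : ℕ) : ℂ) ≠ 0 := Nat.cast_ne_zero.2 (by have := h.prime.two_le; omega)
  have h1 : ((a : ℤ) : ℂ) - (b : ℤ) = ((-((s : ℤ) * d) * D : ℤ) : ℂ) := by
    refine mul_left_cancel₀ hp1 ?_
    push_cast
    rw [hC]; ring
  have h2 : (a : ℤ) - b = -((s : ℤ) * d) * D := by exact_mod_cast h1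
  have hsd : (0 : ℤ) < (s : ℤ) * d := by
    have h3 : s ≠ 0 := fun e => irr_one_ne_zero χ (by rw [← irr_charDegree_cast, show
      charDegree (χ : G → ℂ) = 0 from e, Nat.cast_zero])
    have h4 : d ≠ 0 := fun e => irr_one_ne_zero θ (by rw [← irr_charDegree_cast, show
      charDegree (θ : cen P → ℂ) = 0 from e, Nat.cast_zero])
    positivity
  have ha' : (a : ℤ) ≤ (s : ℤ) * d := by exact_mod_cast ha
  have hb' : (b : ℤ) ≤ (s : ℤ) * d := by exact_mod_cast hb
  rw [abs_le]
  constructor <;> nlinarith [Int.natCast_nonneg a, Int.natCast_nonneg b]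

end chars

end CfsgLib.Blocks.DefectOne
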