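import Cfsg.Agent.Lib.Blocks.DefectOneGram

/-!
# Blocks with a Sylow subgroup of prime order: the action of the `p`-Galois group
-/

namespace CfsgLib.Blocks.DefectOne

open Cfsg CfsgLib.CharTheory CfsgLib.CharTheory.SmallDegree CfsgLib.Blocks.GaloisLattice
open scoped ComplexConjugate

set_option linter.unusedVariables false
set_option linter.style.haveILetI false
set_option linter.unusedSectionVars false

universe u

variable {G : Type u} [Group G] [Fintype G] {p : ℕ} {M : Ideal AlgInt} {P H : Subgroup G}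

theorem coprime_sub (K : Subgroup G) {m : ℕ} (hm : GalExp G p m) : m.Coprime (Nat.card K) :=
  hm.1.coprime_dvd_right (Subgroup.card_subgroup_dvd_card K)

theorem pow_regular (hp : p.Prime) (hdvd : p ∣ Nat.card G) {m : ℕ} (hm : GalExp G p m) {g : G}
    (hg : ¬ p ∣ orderOf g) : g ^ m = g := by
  have hd : orderOf g ∣ Nat.card G / p := by
    obtain ⟨n, hn⟩ := hdvd
    rw [hn, Nat.mul_div_cancel_left _ hp.pos]
    exact ((hp.coprime_iff_not_dvd.2 hg).symm).dvd_of_dvd_mul_left (hn ▸ orderOf_dvd_natCard g)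
  rw [← pow_mod_orderOf, hm.2.of_dvd hd, pow_mod_orderOf, pow_one]

theorem galExp_pow {m : ℕ} (hm : GalExp G p m) : ∀ k, GalExp G p (m ^ k)
  | 0 => by simpa using galExp_one
  | k + 1 => by rw [pow_succ]; exact galExp_mul (galExp_pow hm k) hm

theorem exists_galExp_inv {m : ℕ} (hm : GalExp G p m) :
    ∃ m', GalExp G p m' ∧ ∀ g : G, (g ^ m') ^ m = g := by
  refine ⟨m ^ ((Nat.card G).totient - 1), galExp_pow hm _, fun g => ?_⟩
  rw [← pow_mul, ← pow_succ, Nat.sub_add_cancel (Nat.totient_pos.2 Nat.card_pos),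
    pow_eq_pow_mod _ (pow_card_eq_one' (x := g)), Nat.ModEq.pow_totient hm.1,
    ← pow_eq_pow_mod _ (pow_card_eq_one' (x := g)), pow_one]

theorem powIrr_apply {m : ℕ} (hm : m.Coprime (Nat.card G)) (χ : IrrCharacter G) (g : G) :
    (powIrr hm χ : G → ℂ) g = (χ : G → ℂ) (g ^ m) := rfl

theorem mem_galOrbit' {χ ψ : IrrCharacter G} :
    ψ ∈ galOrbit p χ ↔ ∃ (m : ℕ) (hm : GalExp G p m), powIrr hm.1 χ = ψ := by
  rw [mem_galOrbit]
  constructor
  · rintro ⟨m, hm, e⟩
    exact ⟨m, hm, Subtype.ext e.symm⟩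
  · rintro ⟨m, hm, rfl⟩
    exact ⟨m, hm, rfl⟩

theorem powIrr_powIrr {m m' : ℕ} (hm : GalExp G p m) (hm' : GalExp G p m') (χ : IrrCharacter G) :
    powIrr hm.1 (powIrr hm'.1 χ) = powIrr (galExp_mul hm hm').1 χ :=
  Subtype.ext (funext fun g => by simp only [powIrr_apply, pow_mul])

theorem galOrbit_subset {χ ψ : IrrCharacter G} (h : ψ ∈ galOrbit p χ) :
    galOrbit p ψ ⊆ galOrbit p χ := by
  intro φ hφ
  obtain ⟨m, hm, rfl⟩ := mem_galOrbit'.1 h
  obtain ⟨m', hm', rfl⟩ := mem_galOrbit'.1 hφ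
  exact mem_galOrbit'.2 ⟨_, galExp_mul hm' hm, (powIrr_powIrr hm' hm χ).symm⟩

theorem galOrbit_symm {χ ψ : IrrCharacter G} (h : ψ ∈ galOrbit p χ) : χ ∈ galOrbit p ψ := by
  obtain ⟨m, hm, rfl⟩ := mem_galOrbit'.1 h
  obtain ⟨m', hm', e⟩ := exists_galExp_inv hm
  exact mem_galOrbit'.2 ⟨m', hm', Subtype.ext (funext fun g => by
    show (χ : G → ℂ) ((g ^ m') ^ m) = _
    rw [e])⟩

theorem galOrbit_eq {χ ψ : IrrCharacter G} (h : ψ ∈ galOrbit p χ) :
    galOrbit p ψ = galOrbit p χ :=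
  Finset.Subset.antisymm (galOrbit_subset h) (galOrbit_subset (galOrbit_symm h))

theorem powIrr_mem_galOrbit {m : ℕ} (hm : GalExp G p m) (χ : IrrCharacter G) :
    powIrr hm.1 χ ∈ galOrbit p χ := mem_galOrbit'.2 ⟨m, hm, rfl⟩

theorem sum_galOrbit_pow {A : Type*} [AddCommMonoid A] {m : ℕ} (hm : GalExp G p m)
    (χ : IrrCharacter G) (F : IrrCharacter G → A) :
    ∑ ψ ∈ galOrbit p χ, F (powIrr hm.1 ψ) = ∑ ψ ∈ galOrbit p χ, F ψ := by
  classical
  have h1 : (galOrbit p χ).image (powIrr hm.1) = galOrbit p χ := by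
    refine Finset.eq_of_subset_of_card_le (fun φ hφ => ?_) ?_
    · obtain ⟨ψ, hψ, rfl⟩ := Finset.mem_image.1 hφ
      exact galOrbit_subset hψ (powIrr_mem_galOrbit hm ψ)
    · rw [Finset.card_image_of_injective _ (powIrr_bijective hm.1).1]
  conv_rhs => rw [← h1]
  rw [Finset.sum_image fun a _ b _ e => (powIrr_bijective hm.1).1 e]

theorem galOrbit_mem_block (hM : IsPModular p M) (hdvd : p ∣ Nat.card G)
    {B : Set (IrrCharacter G)} (hB : IsPBlock M B) {χ ψ : IrrCharacter G} (hχ : χ ∈ B)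
    (h : ψ ∈ galOrbit p χ) : ψ ∈ B := by
  rw [eq_blockOf hM hB hχ]
  refine sameBlock_of_regular hM fun g hg => congrArg (res hM) ?_
  have h1 : (ψ : G → ℂ) g = (χ : G → ℂ) g := galOrbit_regular hM.1 hdvd h hg
  show centralChar _ _ = centralChar _ _
  unfold centralChar
  rw [h1, galOrbit_one hM.1 hdvd h]

section chars

variable [Fintype P] [Fintype (cen P)] [Fintype H] {B : Set (IrrCharacter G)}
  {θ : IrrCharacter (cen P)}

theorem pr_pow (h : Setup p P) (hH : Compl P H) (hP : Nat.card P = p) {m : ℕ} (hm : GalExp G p m)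
    (x : P) (y : H) : pr h hH (x, y) ^ m = pr h hH (x ^ m, y) := Subtype.ext (by
  show ((x : G) * y) ^ m = ((x ^ m : P) : G) * y
  have hy : ¬ p ∣ orderOf (y : G) := by
    simpa using (regular_iff h hH hP P.one_mem y.2).2 rfl
  rw [(commute_of hH x.2 y.2).mul_pow, pow_regular h.prime (dvd_card hP) hm hy]
  rfl)

theorem mk_pow (h : Setup p P) (hH : Compl P H) (hP : Nat.card P = p)
    (hθ : SmallDegree.lam h θ = fun _ => 1) {m : ℕ} (hm : GalExp G p m) (ν : IrrCharacter P) :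
    powIrr (coprime_sub (cen P) hm) (mk h hH θ ν) =
      mk h hH θ (powIrr (coprime_sub P hm) ν) := by
  refine Subtype.ext (funext fun c => ?_)
  obtain ⟨⟨x, y⟩, rfl⟩ := (pr_bijective h hH).2 c
  rw [powIrr_apply, pr_pow h hH hP hm, mk_apply h hH hθ, mk_apply h hH hθ]
  rfl

theorem base_pow (h : Setup p P) (hH : Compl P H) (hP : Nat.card P = p)
    (hθ : SmallDegree.lam h θ = fun _ => 1) {m : ℕ} (hm : GalExp G p m) :
    powIrr (coprime_sub (cen P) hm) θ = θ := by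
  refine Subtype.ext (funext fun c => ?_)
  obtain ⟨⟨x, y⟩, rfl⟩ := (pr_bijective h hH).2 c
  rw [powIrr_apply, pr_pow h hH hP hm, apply_xy, apply_xy, hθ]

theorem co_pow {m : ℕ} (hm : GalExp G p m) (χ : IrrCharacter G) (μ : IrrCharacter (cen P)) :
    co (powIrr hm.1 χ : G → ℂ) (powIrr (coprime_sub (cen P) hm) μ) = co (χ : G → ℂ) μ :=
  classInner_pow (coprime_sub (cen P) hm) (fun c : cen P => (χ : G → ℂ) c) (μ : cen P → ℂ)

theorem dd_pow (h : Setup p P) (hH : Compl P H) (hP : Nat.card P = p)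
    (hθ : SmallDegree.lam h θ = fun _ => 1) {m : ℕ} (hm : GalExp G p m) (χ : IrrCharacter G)
    (ν : IrrCharacter P) :
    dd h hH θ (powIrr hm.1 χ) (powIrr (coprime_sub P hm) ν) = dd h hH θ χ ν := by
  rw [dd, dd, ← mk_pow h hH hP hθ hm ν, co_pow hm]
  congr 1
  conv_lhs => rw [← base_pow h hH hP hθ hm]
  rw [co_pow hm]

theorem ddz_pow (h : Setup p P) (hH : Compl P H) (hP : Nat.card P = p)
    (hθ : SmallDegree.lam h θ = fun _ => 1) {m : ℕ} (hm : GalExp G p m) (χ : IrrCharacter G)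
    (ν : IrrCharacter P) :
    ddz h hH θ (powIrr hm.1 χ) (powIrr (coprime_sub P hm) ν) = ddz h hH θ χ ν := by
  rw [ddz, ddz, dd_pow h hH hP hθ hm]

theorem pow_oneP {m : ℕ} (hm : GalExp G p m) :
    powIrr (coprime_sub P hm) (oneP P) = oneP P := rfl

theorem pow_ne_one {m : ℕ} (hm : GalExp G p m) {ν : IrrCharacter P} (hν : ν ≠ oneP P) :
    powIrr (coprime_sub P hm) ν ≠ oneP P :=
  fun e => hν ((powIrr_bijective (coprime_sub P hm)).1 (e.trans (pow_oneP hm).symm))

/-- The Galois group is transitive on the nontrivial characters of `P`. -/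
theorem exists_galExp_nu (h : Setup p P) (hP : Nat.card P = p) (hsq : ¬ p ^ 2 ∣ Nat.card G)
    {ν ν' : IrrCharacter P} (hν : ν ≠ oneP P) (hν' : ν' ≠ oneP P) :
    ∃ (m : ℕ) (hm : GalExp G p m), powIrr (coprime_sub P hm) ν = ν' := by
  haveI : Fact p.Prime := ⟨h.prime⟩
  haveI : IsCyclic P := isCyclic_of_prime_card hP
  obtain ⟨f, hf⟩ := exists_hom_of_degree_one (isCharacter_of_irr ν.2) (irrP_one h ν)
  obtain ⟨f', hf'⟩ := exists_hom_of_degree_one (isCharacter_of_irr ν'.2) (irrP_one h ν')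
  obtain ⟨x₀, hx₀⟩ := IsCyclic.exists_generator (α := P)
  have hroot : ∀ F : P →* ℂˣ, (F x₀ : ℂ) ^ p = 1 := fun F => by
    rw [← Units.val_pow_eq_pow_val, ← map_pow, show x₀ ^ p = 1 by rw [← hP]; exact pow_card_eq_one',
      map_one, Units.val_one]
  have hne : ∀ (F : P →* ℂˣ) (μ : IrrCharacter P), (μ : P → ℂ) = (fun g => (F g : ℂ)) →
      μ ≠ oneP P → (F x₀ : ℂ) ≠ 1 := by
    intro F μ hF hμ e
    refine hμ (Subtype.ext (funext fun g => ?_))
    obtain ⟨i, rfl⟩ := Subgroup.mem_zpowers_iff.1 (hx₀ g)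
    rw [hF]
    show ((F (x₀ ^ i) : ℂˣ) : ℂ) = 1
    rw [map_zpow, Units.val_zpow_eq_zpow_val, e, one_zpow]
  have hprim : IsPrimitiveRoot (f x₀ : ℂ) p :=
    IsPrimitiveRoot.iff_orderOf.2 (orderOf_eq_prime (hroot f) (hne f ν hf hν))
  haveI : NeZero p := ⟨h.prime.ne_zero⟩
  obtain ⟨j, hj, ej⟩ := hprim.eq_pow_of_pow_eq_one (hroot f')
  have hpj : ¬ p ∣ j := fun hd => hne f' ν' hf' hν' (by
    rw [← ej, Nat.eq_zero_of_dvd_of_lt hd hj, pow_zero])
  obtain ⟨m, hm, hmj⟩ := exists_galExp (G := G) h.prime (dvd_card hP) hsq hpj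
  refine ⟨m, hm, Subtype.ext (funext fun g => ?_)⟩
  obtain ⟨i, rfl⟩ := Subgroup.mem_zpowers_iff.1 (hx₀ g)
  rw [powIrr_apply, hf, hf']
  simp only [map_pow, map_zpow]
  rw [Units.val_pow_eq_pow_val, Units.val_zpow_eq_zpow_val, Units.val_zpow_eq_zpow_val, ← ej,
    ← zpow_natCast, ← zpow_mul, mul_comm, zpow_mul, zpow_natCast]
  congr 1
  rw [pow_eq_pow_mod m hprim.pow_eq_one, hmj, ← pow_eq_pow_mod j hprim.pow_eq_one]

theorem nConj_pow {m : ℕ} (hm : GalExp G p m) {g : G}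
    (hg : g ∈ Subgroup.normalizer (P : Set G)) (ν : IrrCharacter P) :
    nConj hg (powIrr (coprime_sub P hm) ν) = powIrr (coprime_sub P hm) (nConj hg ν) := by
  refine Subtype.ext (funext fun x => congrArg (ν : P → ℂ) (Subtype.ext ?_))
  show (g * (x : G) * g⁻¹) ^ m = g * ((x ^ m : P) : G) * g⁻¹
  rw [conj_pow]
  rfl

theorem sim_pow {m : ℕ} (hm : GalExp G p m) {ν ν' : IrrCharacter P} (hs : Sim θ ν ν') :
    Sim θ (powIrr (coprime_sub P hm) ν) (powIrr (coprime_sub P hm) ν') := by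
  obtain ⟨g, hg, e⟩ := hs
  exact ⟨g, hg, by rw [nConj_pow hm, e]⟩

/-- The orbit sum of the differences. -/
noncomputable def orbD (h : Setup p P) (hH : Compl P H) (θ : IrrCharacter (cen P))
    (χ : IrrCharacter G) (ν : IrrCharacter P) : ℤ :=
  ∑ ψ ∈ galOrbit p χ, ddz h hH θ ψ ν

theorem orbD_indep (h : Setup p P) (hH : Compl P H) (hP : Nat.card P = p)
    (hθ : SmallDegree.lam h θ = fun _ => 1) (χ : IrrCharacter G) {ν ν' : IrrCharacter P}
    (hν : ν ≠ oneP P) (hν' : ν' ≠ oneP P) :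
    orbD h hH θ χ ν' = orbD h hH θ χ ν := by
  obtain ⟨m, hm, rfl⟩ := exists_galExp_nu h hP (sq_not_dvd h hP) hν hν'
  rw [orbD, ← sum_galOrbit_pow hm χ]
  exact Finset.sum_congr rfl fun ψ _ => ddz_pow h hH hP hθ hm ψ ν

theorem exists_nontrivial (h : Setup p P) (hP : Nat.card P = p) :
    ∃ ν : IrrCharacter P, ν ≠ oneP P := by
  by_contra hno
  push Not at hno
  obtain ⟨⟨x, hx⟩, hx1⟩ : ∃ x : P, x ≠ 1 := by
    haveI : Fact p.Prime := ⟨h.prime⟩
    haveI : Nontrivial P := Finite.one_lt_card_iff_nontrivial.1 (hP ▸ h.prime.one_lt)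
    exact exists_ne 1
  have h1 := sum_nu h (x := ⟨x, hx⟩) fun e => hx1 (Subtype.ext e)
  have h2 : ∑ ν : IrrCharacter P, (ν : P → ℂ) ⟨x, hx⟩ = ∑ ν : IrrCharacter P, (1 : ℂ) :=
    Finset.sum_congr rfl fun ν _ => by rw [hno ν]; rfl
  rw [h2, Finset.sum_const, nsmul_eq_mul, mul_one, Nat.cast_eq_zero, Finset.card_eq_zero] at h1
  exact Finset.univ_nonempty_iff.2 ⟨oneP P⟩ |>.ne_empty h1

/-- Every character of the block has a difference. -/
theorem exists_ddz_ne (hM : IsPModular p M) (h : Setup p P) (hH : Compl P H)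
    (hr : Root hM h hH B θ) {χ : IrrCharacter G} (hχ : χ ∈ B) :
    ∃ ν, ν ≠ oneP P ∧ ddz h hH θ χ ν ≠ 0 := by
  classical
  haveI : Fact p.Prime := ⟨h.prime⟩
  by_contra hno
  push Not at hno
  have hz : ∀ ν, dd h hH θ χ ν = 0 := fun ν => by
    rw [dd_eq_cast]
    rcases eq_or_ne ν (oneP P) with rfl | hν
    · rw [ddz_one h hH hr.ker, Int.cast_zero]
    · rw [hno ν hν, Int.cast_zero]
  have hvan : ∀ x : P, (x : G) ≠ 1 → (χ : G → ℂ) x = 0 := by
    intro x hx
    have h1 := value_singular hM h hH hr hχ x hx 1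
    simp only [hz, zero_mul, Finset.sum_const_zero, Subgroup.coe_one, mul_one] at h1
    exact (mul_eq_zero.1 h1).resolve_left (Nat.cast_ne_zero.2 Nat.card_pos.ne')
  obtain ⟨n, hn⟩ := classInner_char_nat (isCharacter_restrict (isCharacter_of_irr χ.2) P)
    (isCharacter_of_irr (isIrrCharacter_one : IsIrrCharacter P fun _ => 1))
  have hdeg : (χ : G → ℂ) 1 = ((p * n : ℕ) : ℂ) := by
    rw [classInner, Finset.sum_eq_single (1 : P) (fun x _ hx => by
      rw [hvan x fun e => hx (Subtype.ext e), zero_mul]) (fun h0 => absurd (Finset.mem_univ _) h0),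
      map_one, mul_one, hr.card, Subgroup.coe_one,
      inv_mul_eq_iff_eq_mul₀ (Nat.cast_ne_zero.2 h.prime.ne_zero)] at hn
    rw [hn, Nat.cast_mul]
  have hcd : charDegree (χ : G → ℂ) = p * n := by
    exact_mod_cast (irr_charDegree_cast χ).trans hdeg
  have hfac : (Nat.card G).factorization p = 1 := by
    refine le_antisymm (Nat.lt_succ_iff.1 (Nat.lt_of_not_le fun h2 => sq_not_dvd h hr.card ?_)) ?_
    · exact (h.prime.pow_dvd_iff_le_factorization Nat.card_pos.ne').2 h2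
    · exact h.prime.factorization_pos_of_dvd Nat.card_pos.ne' (dvd_card hr.card)
  have hdv : dv p (χ : G → ℂ) = (Nat.card G).factorization p := by
    refine le_antisymm ?_ ?_
    · refine (Nat.factorization_le_iff_dvd (fun h0 => ?_) Nat.card_pos.ne').2 ?_ p
      · exact irr_one_ne_zero χ (by rw [← irr_charDegree_cast, h0, Nat.cast_zero])
      · obtain ⟨d, ρ, hirr, e⟩ := id χ.2
        have hd : charDegree (χ : G → ℂ) = d := by
          have h1 : ((charDegree (χ : G → ℂ) : ℕ) : ℂ) = (d : ℂ) := by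
            rw [irr_charDegree_cast, ← e, ρ.char_one, Module.finrank_fin_fun]
          exact_mod_cast h1
        rw [hd, ← Module.finrank_fin_fun ℂ (n := d)]
        exact (degree_dvd_index_center ρ).trans (Subgroup.index_dvd_card _)
    · rw [hfac]
      show 1 ≤ (charDegree (χ : G → ℂ)).factorization p
      refine h.prime.factorization_pos_of_dvd (fun h0 => ?_) ⟨n, hcd⟩
      exact irr_one_ne_zero χ (by rw [← irr_charDegree_cast, h0, Nat.cast_zero])
  have hset : bset B = {χ} := by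
    ext ψ
    rw [mem_bset, eq_blockOf hM hr.ind.2.1 hχ, (defect_zero_iff hM χ).1 hdv]
    simp
  obtain ⟨ν, hν⟩ := exists_nontrivial h hr.card
  have h1 := gram hM h hH hr hν hν
  rw [hset, Finset.sum_singleton, hno ν hν, if_pos (sim_refl θ ν), mul_zero] at h1
  omega

end chars

end CfsgLib.Blocks.DefectOne
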