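import Cfsg.Agent.Lib.Blocks.DefectOneLocal

/-!
# Blocks with a Sylow subgroup of prime order: the difference functions and their Gram matrix
-/

namespace CfsgLib.Blocks.DefectOne

open Cfsg CfsgLib.CharTheory CfsgLib.CharTheory.SmallDegree CfsgLib.Blocks.GaloisLattice
open scoped ComplexConjugate

set_option linter.unusedVariables false
set_option linter.style.haveILetI false
set_option linter.unusedSectionVars false

universe u

noncomputable local instance normalizerFintype {G : Type u} [Group G] [Fintype G] (P : Subgroup G) :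
    Fintype (Subgroup.normalizer (P : Set G)) :=
  Fintype.ofFinite _

variable {G : Type u} [Group G] [Fintype G] {p : ℕ} {M : Ideal AlgInt} {P H : Subgroup G}
  [Fintype P] [Fintype (cen P)] [Fintype H] {B : Set (IrrCharacter G)} {θ : IrrCharacter (cen P)}

/-- The hypotheses. -/
structure Root (hM : IsPModular p M) (h : Setup p P) (hH : Compl P H) (B : Set (IrrCharacter G))
    (θ : IrrCharacter (cen P)) : Prop where
  card : Nat.card P = p
  ker : SmallDegree.lam h θ = fun _ => 1
  ind : IsInducedBlock M (cen P) (blockOf M (θ : cen P → ℂ)) B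

/-- The trivial character of `P`. -/
noncomputable def oneP (P : Subgroup G) : IrrCharacter P := ⟨fun _ => 1, isIrrCharacter_one⟩

theorem cConj_one (μ : IrrCharacter (cen P)) (h1 : (1 : G) ∈ Subgroup.normalizer (P : Set G)) :
    cConj h1 μ = μ := by
  refine Subtype.ext (funext fun c => congrArg (μ : cen P → ℂ) (Subtype.ext ?_))
  show (1 : G) * c * (1 : G)⁻¹ = c
  simp

theorem cConj_cConj {a b : G} (ha : a ∈ Subgroup.normalizer (P : Set G))
    (hb : b ∈ Subgroup.normalizer (P : Set G)) (μ : IrrCharacter (cen P)) :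
    cConj ha (cConj hb μ) = cConj ((Subgroup.normalizer (P : Set G)).mul_mem hb ha) μ := by
  refine Subtype.ext (funext fun c => congrArg (μ : cen P → ℂ) (Subtype.ext ?_))
  show b * (a * (c : G) * a⁻¹) * b⁻¹ = b * a * c * (b * a)⁻¹
  group

theorem cConj_congr {a b : G} (ha : a ∈ Subgroup.normalizer (P : Set G))
    (hb : b ∈ Subgroup.normalizer (P : Set G)) (e : a = b) (μ : IrrCharacter (cen P)) :
    cConj ha μ = cConj hb μ := by subst e; rfl

/-- The stabiliser of the character. -/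
noncomputable def stab (θ : IrrCharacter (cen P)) : Subgroup G where
  carrier := {g | ∃ hg : g ∈ Subgroup.normalizer (P : Set G), cConj hg θ = θ}
  one_mem' := ⟨Subgroup.one_mem _, cConj_one θ _⟩
  mul_mem' := by
    rintro a b ⟨ha, ea⟩ ⟨hb, eb⟩
    exact ⟨Subgroup.mul_mem _ ha hb, by rw [← cConj_cConj hb ha, ea, eb]⟩
  inv_mem' := by
    rintro a ⟨ha, ea⟩
    refine ⟨Subgroup.inv_mem _ ha, ?_⟩
    conv_lhs => rw [← ea]
    rw [cConj_cConj, cConj_congr _ (Subgroup.one_mem _) (mul_inv_cancel a), cConj_one]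

theorem mem_stab {g : G} :
    g ∈ stab θ ↔ ∃ hg : g ∈ Subgroup.normalizer (P : Set G), cConj hg θ = θ := Iff.rfl

theorem stab_le (θ : IrrCharacter (cen P)) : stab θ ≤ Subgroup.normalizer (P : Set G) :=
  fun g hg => hg.1

theorem cen_le_stab (θ : IrrCharacter (cen P)) : cen P ≤ stab θ := fun g hg =>
  ⟨cen_le_norm P hg, Subtype.ext (funext fun c => isClassFunction_irr θ.2 c ⟨g, hg⟩)⟩

theorem stab_comm {g : G} (hg : g ∈ stab θ) (c c' : cen P) (e : (c' : G) = g * c * g⁻¹) :
    (θ : cen P → ℂ) c' = (θ : cen P → ℂ) c := by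
  obtain ⟨hN, h1⟩ := hg
  have h2 := congrFun (congrArg Subtype.val h1) c
  rw [← h2]
  exact congrArg (θ : cen P → ℂ) (Subtype.ext e)

/-- Conjugation on the characters of `P`. -/
noncomputable def nConj {g : G} (hg : g ∈ Subgroup.normalizer (P : Set G)) (ν : IrrCharacter P) :
    IrrCharacter P :=
  ⟨fun x => (ν : P → ℂ) ⟨g * x * g⁻¹, (Subgroup.mem_normalizer_iff.1 hg _).1 x.2⟩,
    isIrrCharacter_comp_surjective ν.2
      (MonoidHom.mk' (fun x : P => (⟨g * x * g⁻¹, (Subgroup.mem_normalizer_iff.1 hg _).1 x.2⟩ : P))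
        fun a b => Subtype.ext (by simp [mul_assoc]))
      fun y => ⟨⟨g⁻¹ * y * g, (Subgroup.mem_normalizer_iff.1 hg _).2 (by
        simpa [mul_assoc] using y.2)⟩, Subtype.ext (by simp [mul_assoc])⟩⟩

theorem cConj_mk (h : Setup p P) (hH : Compl P H) (hP : Nat.card P = p)
    (hθ : SmallDegree.lam h θ = fun _ => 1) {g : G} (hg : g ∈ Subgroup.normalizer (P : Set G))
    (ν : IrrCharacter P) :
    SmallDegree.lam h (cConj hg θ) = (fun _ => 1) ∧
      cConj hg (mk h hH θ ν) = mk h hH (cConj hg θ) (nConj hg ν) := by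
  have hl : ∀ μ : IrrCharacter (cen P), ∀ x : P, SmallDegree.lam h (cConj hg μ) x =
      SmallDegree.lam h μ ⟨g * x * g⁻¹, (Subgroup.mem_normalizer_iff.1 hg _).1 x.2⟩ := fun μ x => by
    show (μ : cen P → ℂ) _ / (μ : cen P → ℂ) (cEquiv hg 1) = _
    rw [map_one]
    rfl
  have h1 : SmallDegree.lam h (cConj hg θ) = fun _ => 1 := funext fun x => by rw [hl, hθ]
  refine ⟨h1, ext_char h hH ?_ ?_⟩
  · rw [lam_mk h hH h1]
    funext x
    rw [hl, lam_mk h hH hθ]
    rfl
  · rw [resH_mk h hH h1]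
    funext y
    have hmem : g * (y : G) * g⁻¹ ∈ cen P := (norm_cen_mem hg _).1 (hH.le y.2)
    obtain ⟨⟨x', y'⟩, e⟩ := (pr_bijective h hH).2 ⟨_, hmem⟩
    have hx' : (x' : G) = 1 := by
      refine (regular_iff h hH hP x'.2 y'.2).1 ?_
      rw [show (x' : G) * y' = g * y * g⁻¹ from congrArg Subtype.val e,
        show g * (y : G) * g⁻¹ = MulAut.conj g (y : G) from rfl,
        MulEquiv.orderOf_eq]
      simpa using (regular_iff h hH hP P.one_mem y.2).2 rfl
    show (mk h hH θ ν : cen P → ℂ) ⟨_, hmem⟩ = (θ : cen P → ℂ) ⟨_, hmem⟩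
    rw [← e, mk_apply h hH hθ, apply_xy, hθ, show x' = 1 from Subtype.ext hx', irrP_one h]

/-- The multiplicities relative to the base character. -/
noncomputable def dd (h : Setup p P) (hH : Compl P H) (θ : IrrCharacter (cen P))
    (χ : IrrCharacter G) (ν : IrrCharacter P) : ℂ :=
  co (χ : G → ℂ) (mk h hH θ ν) - co (χ : G → ℂ) θ

/-- The same as an integer. -/
noncomputable def ddz (h : Setup p P) (hH : Compl P H) (θ : IrrCharacter (cen P))
    (χ : IrrCharacter G) (ν : IrrCharacter P) : ℤ :=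
  ⌊(dd h hH θ χ ν).re⌋

theorem dd_eq_cast (h : Setup p P) (hH : Compl P H) (θ : IrrCharacter (cen P))
    (χ : IrrCharacter G) (ν : IrrCharacter P) : dd h hH θ χ ν = (ddz h hH θ χ ν : ℂ) := by
  obtain ⟨n, hn, -⟩ := exists_co (P := P) (isCharacter_of_irr χ.2)
  have e : dd h hH θ χ ν = (((n (mk h hH θ ν) : ℤ) - n θ : ℤ) : ℂ) := by
    rw [dd, hn, hn]; push_cast; rfl
  rw [ddz, e, Complex.intCast_re, Int.floor_intCast]

theorem dd_conj (h : Setup p P) (hH : Compl P H) (χ : IrrCharacter G) (ν : IrrCharacter P) :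
    conj (dd h hH θ χ ν) = dd h hH θ χ ν := by rw [dd_eq_cast, map_intCast]

theorem dd_one (h : Setup p P) (hH : Compl P H) (hθ : SmallDegree.lam h θ = fun _ => 1)
    (χ : IrrCharacter G) : dd h hH θ χ (oneP P) = 0 := by
  rw [dd, oneP, mk_one h hH hθ, sub_self]

theorem ddz_one (h : Setup p P) (hH : Compl P H) (hθ : SmallDegree.lam h θ = fun _ => 1)
    (χ : IrrCharacter G) : ddz h hH θ χ (oneP P) = 0 := by
  rw [ddz, dd_one h hH hθ, Complex.zero_re, Int.floor_zero]

theorem dd_conjugate (h : Setup p P) (hH : Compl P H) (hP : Nat.card P = p)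
    (hθ : SmallDegree.lam h θ = fun _ => 1) {g : G} (hg : g ∈ stab θ) (χ : IrrCharacter G)
    (ν : IrrCharacter P) : dd h hH θ χ (nConj hg.1 ν) = dd h hH θ χ ν := by
  obtain ⟨hN, e⟩ := id hg
  have h1 := (cConj_mk h hH hP hθ hN ν).2
  rw [e] at h1
  rw [dd, dd, show nConj hg.1 ν = nConj hN ν from rfl, ← h1,
    co_cConj hN (isClassFunction_irr χ.2)]

/-- The difference as a sum over the singular part. -/
theorem dd_eq_sum (h : Setup p P) (hH : Compl P H) (hθ : SmallDegree.lam h θ = fun _ => 1)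
    (χ : IrrCharacter G) (ν : IrrCharacter P) :
    dd h hH θ χ ν = (Nat.card (cen P) : ℂ)⁻¹ * ∑ x : P, ∑ y : H,
      (χ : G → ℂ) ((x : G) * y) * (conj (((ν : P → ℂ) x - 1) * resH hH θ y)) := by
  rw [dd, co, co, ← classInner_sub_right, classInner, sum_cen h hH]
  congr 1
  refine Finset.sum_congr rfl fun x _ => Finset.sum_congr rfl fun y _ => ?_
  congr 2
  show (mk h hH θ ν : cen P → ℂ) _ - (θ : cen P → ℂ) _ = _
  rw [mk_apply h hH hθ, apply_xy, hθ]
  ring

theorem over_iff (hM : IsPModular p M) (h : Setup p P) (hH : Compl P H)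
    (hr : Root hM h hH B θ) (μ : IrrCharacter (cen P)) :
    μ ∈ overBlocks M (cen P) B ↔ ∃ (g : G) (hg : g ∈ Subgroup.normalizer (P : Set G)),
      resH hH (cConj hg θ) = resH hH μ :=
  induced_iff_conj hM h hH hr.card hr.ind μ

/-- Characters outside the block have no differences. -/
theorem dd_outside (hM : IsPModular p M) (h : Setup p P) (hH : Compl P H)
    (hr : Root hM h hH B θ) {χ : IrrCharacter G} (hχ : χ ∉ B) (ν : IrrCharacter P) :
    dd h hH θ χ ν = 0 := by
  classical
  set B' := blockOf M (χ : G → ℂ) with hB'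
  have hB'b : IsPBlock M B' := blockOf_isPBlock χ
  have hne : ∀ μ ∈ overBlocks M (cen P) B', resH hH μ ≠ resH hH θ := by
    intro μ hμ e
    have h1 : blockOf M (μ : cen P → ℂ) = blockOf M (θ : cen P → ℂ) :=
      blockOf_eq_of_mem hM ((mem_blockOf_iff hM h hH hr.card).2 e)
    have h2 : IsInducedBlock M (cen P) (blockOf M (μ : cen P → ℂ)) B' := hμ
    rw [h1] at h2
    exact hχ (isInducedBlock_unique hM hr.ind h2 ▸ mem_blockOf_self hM χ)
  rw [dd_eq_sum h hH hr.ker, mul_eq_zero]
  right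
  refine Finset.sum_eq_zero fun x _ => ?_
  by_cases hx : (x : G) = 1
  · refine Finset.sum_eq_zero fun y _ => ?_
    rw [show x = 1 from Subtype.ext hx, irrP_one h, sub_self, zero_mul, map_zero, mul_zero]
  rw [Finset.sum_congr rfl fun y _ => by
    rw [value_eq_sum hM h hH hr.card hB'b (mem_blockOf_self hM χ) x hx y, Finset.sum_mul],
    Finset.sum_comm]
  refine Finset.sum_eq_zero fun μ hμ => ?_
  have h0 := orthH h hH μ θ
  rw [if_neg (hne μ (mem_bset.1 hμ))] at h0
  rw [show ∑ y : H, co (χ : G → ℂ) μ * (μ : cen P → ℂ) (pr h hH (x, y)) *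
      conj (((ν : P → ℂ) x - 1) * resH hH θ y) =
      (co (χ : G → ℂ) μ * SmallDegree.lam h μ x * conj ((ν : P → ℂ) x - 1)) *
        ∑ y : H, resH hH μ y * conj (resH hH θ y) by
    rw [Finset.mul_sum]
    exact Finset.sum_congr rfl fun y _ => by rw [apply_xy, map_mul]; ring,
    h0, mul_zero]

theorem sum_nu (h : Setup p P) {x : P} (hx : (x : G) ≠ 1) :
    ∑ ν : IrrCharacter P, (ν : P → ℂ) x = 0 := by
  classical
  have h1 := sum_irr_apply_mul_degree (G := P) x
  rw [if_neg fun e => hx (congrArg Subtype.val e)] at h1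
  rw [← h1]
  exact Finset.sum_congr rfl fun ν _ => by rw [irrP_one h, mul_one]

theorem card_stab_fibre (θ : IrrCharacter (cen P)) (hH : Compl P H) (h : Setup p P)
    (hθ : SmallDegree.lam h θ = fun _ => 1) (hP : Nat.card P = p)
    [DecidablePred fun n : Subgroup.normalizer (P : Set G) => resH hH (cConj n.2 θ) = resH hH θ] :
    (Finset.univ.filter fun n : Subgroup.normalizer (P : Set G) =>
      resH hH (cConj n.2 θ) = resH hH θ).card = Nat.card (stab θ) := by
  classical
  rw [Nat.card_eq_fintype_card, ← Finset.card_univ]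
  refine Finset.card_bij (fun n hn => ⟨(n : G), n.2, ext_char h hH ?_ (Finset.mem_filter.1 hn).2⟩)
    (fun _ _ => Finset.mem_univ _) (fun a _ b _ e => ?_) fun t _ => ?_
  · rw [(cConj_mk h hH hP hθ n.2 (oneP P)).1, hθ]
  · exact Subtype.ext (congrArg (fun z : stab θ => (z : G)) e)
  · exact ⟨⟨t, t.2.1⟩, Finset.mem_filter.2 ⟨Finset.mem_univ _, congrArg (resH hH) t.2.2⟩, rfl⟩

/-- The values at singular elements in terms of the differences. -/
theorem value_singular (hM : IsPModular p M) (h : Setup p P) (hH : Compl P H)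
    (hr : Root hM h hH B θ) {χ : IrrCharacter G} (hχ : χ ∈ B) (x : P) (hx : (x : G) ≠ 1) (y : H) :
    (Nat.card (stab θ) : ℂ) * (χ : G → ℂ) ((x : G) * y) =
      ∑ n : Subgroup.normalizer (P : Set G), ∑ ν : IrrCharacter P,
        dd h hH θ χ ν * (cConj n.2 (mk h hH θ ν) : cen P → ℂ) (pr h hH (x, y)) := by
  classical
  have hθ := hr.ker
  have hP := hr.card
  set c := pr h hH (x, y)
  have hres : ∀ (n : Subgroup.normalizer (P : Set G)) (ν : IrrCharacter P),
      resH hH (cConj n.2 (mk h hH θ ν)) = resH hH (cConj n.2 θ) := fun n ν => by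
    rw [(cConj_mk h hH hP hθ n.2 ν).2, resH_mk h hH (cConj_mk h hH hP hθ n.2 ν).1]
  have hmem : ∀ q : Subgroup.normalizer (P : Set G) × IrrCharacter P,
      cConj q.1.2 (mk h hH θ q.2) ∈ bset (overBlocks M (cen P) B) := fun q =>
    mem_bset.2 ((over_iff hM h hH hr _).2 ⟨_, q.1.2, (hres q.1 q.2).symm⟩)
  -- the fibres
  have hfib : ∀ μ ∈ bset (overBlocks M (cen P) B),
      (Finset.univ.filter fun q : Subgroup.normalizer (P : Set G) × IrrCharacter P =>
        cConj q.1.2 (mk h hH θ q.2) = μ).card = Nat.card (stab θ) := by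
    intro μ hμ
    obtain ⟨g, hg, e⟩ := (over_iff hM h hH hr μ).1 (mem_bset.1 hμ)
    have hlin : ∀ (n : Subgroup.normalizer (P : Set G)), resH hH (cConj n.2 θ) = resH hH μ →
        ∃ ν, cConj n.2 (mk h hH θ ν) = μ := by
      intro n hn
      have hinv := (Subgroup.normalizer (P : Set G)).inv_mem n.2
      set μ' := cConj hinv μ with hμ'
      have h1 : cConj n.2 μ' = μ := by
        rw [hμ', cConj_cConj, cConj_congr _ (Subgroup.one_mem _) (inv_mul_cancel (n : G)), cConj_one]
      have h2 : resH hH μ' = resH hH θ := by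
        have e1 : cConj hinv (cConj n.2 θ) = θ := by
          rw [cConj_cConj, cConj_congr _ (Subgroup.one_mem _) (mul_inv_cancel (n : G)), cConj_one]
        have hl : SmallDegree.lam h (cConj n.2 θ) = fun _ => 1 := (cConj_mk h hH hP hθ n.2 (oneP P)).1
        have e2 := eq_mk h hH hl (μ := μ) hn.symm
        rw [hμ', e2, (cConj_mk h hH hP hl hinv _).2, resH_mk h hH (cConj_mk h hH hP hl hinv (oneP P)).1,
          e1]
      exact ⟨_, by rw [← eq_mk h hH hθ h2]; exact h1⟩
    rw [← card_stab_fibre θ hH h hθ hP]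
    have hinj : ∀ (n : Subgroup.normalizer (P : Set G)) (ν ν' : IrrCharacter P),
        cConj n.2 (mk h hH θ ν) = cConj n.2 (mk h hH θ ν') → ν = ν' := by
      intro n ν ν' e
      have := congrArg (cConj ((Subgroup.normalizer (P : Set G)).inv_mem n.2)) e
      rw [cConj_cConj, cConj_congr _ (Subgroup.one_mem _) (mul_inv_cancel (n : G)), cConj_one,
        cConj_cConj, cConj_congr _ (Subgroup.one_mem _) (mul_inv_cancel (n : G)), cConj_one] at this
      exact mk_injective h hH hθ this
    let g' : Subgroup.normalizer (P : Set G) := ⟨g, hg⟩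
    refine Finset.card_bij (fun q _ => q.1 * g'⁻¹) (fun q hq => ?_) (fun a ha b hb e => ?_)
      fun n hn => ?_
    · refine Finset.mem_filter.2 ⟨Finset.mem_univ _, ?_⟩
      have h1 : resH hH (cConj q.1.2 θ) = resH hH (cConj hg θ) := by
        rw [← hres q.1 q.2, (Finset.mem_filter.1 hq).2, e]
      have h2 : cConj q.1.2 θ = cConj hg θ := ext_char h hH (by
        rw [(cConj_mk h hH hP hθ q.1.2 (oneP P)).1, (cConj_mk h hH hP hθ hg (oneP P)).1]) h1
      have h3 : cConj (q.1 * g'⁻¹).2 θ =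
          cConj ((Subgroup.normalizer (P : Set G)).inv_mem hg) (cConj q.1.2 θ) := by
        rw [cConj_cConj]
      rw [h3, h2, cConj_cConj, cConj_congr _ (Subgroup.one_mem _) (mul_inv_cancel g), cConj_one]
    · have h1 : a.1 = b.1 := mul_right_cancel e
      refine Prod.ext h1 ?_
      have ea := (Finset.mem_filter.1 ha).2
      have eb := (Finset.mem_filter.1 hb).2
      obtain ⟨a1, a2⟩ := a
      obtain ⟨b1, b2⟩ := b
      simp only at h1 ea eb ⊢
      subst h1
      exact hinj a1 a2 b2 (ea.trans eb.symm)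
    · have h1 : resH hH (cConj (n * g').2 θ) = resH hH μ := by
        have h2 : cConj n.2 θ = θ := ext_char h hH (by
          rw [(cConj_mk h hH hP hθ n.2 (oneP P)).1, hθ]) (Finset.mem_filter.1 hn).2
        rw [← e, show cConj (n * g').2 θ = cConj hg (cConj n.2 θ) from by
          rw [cConj_cConj], h2]
      obtain ⟨ν, hν⟩ := hlin _ h1
      exact ⟨(n * g', ν), Finset.mem_filter.2 ⟨Finset.mem_univ _, hν⟩, mul_inv_cancel_right _ _⟩
  rw [value_eq_sum hM h hH hP hr.ind.2.1 hχ x hx y, Finset.mul_sum]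
  have hR : ∀ n : Subgroup.normalizer (P : Set G),
      ∑ ν : IrrCharacter P, dd h hH θ χ ν * (cConj n.2 (mk h hH θ ν) : cen P → ℂ) c =
        ∑ ν : IrrCharacter P,
          co (χ : G → ℂ) (cConj n.2 (mk h hH θ ν)) * (cConj n.2 (mk h hH θ ν) : cen P → ℂ) c := by
    intro n
    simp only [co_cConj n.2 (isClassFunction_irr χ.2), dd, sub_mul, Finset.sum_sub_distrib]
    rw [sub_eq_self, ← Finset.mul_sum, mul_eq_zero]
    right
    have hx' : ((⟨(n : G) * x * (n : G)⁻¹, (Subgroup.mem_normalizer_iff.1 n.2 _).1 x.2⟩ : P) : G) ≠ 1 :=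
      fun e => hx (conj_eq_one_iff.1 e)
    rw [Finset.sum_congr rfl fun ν _ => show (cConj n.2 (mk h hH θ ν) : cen P → ℂ) c =
        (nConj n.2 ν : P → ℂ) x * resH hH (cConj n.2 θ) y by
      rw [(cConj_mk h hH hP hθ n.2 ν).2, mk_apply h hH (cConj_mk h hH hP hθ n.2 ν).1],
      ← Finset.sum_mul]
    exact mul_eq_zero_of_left (sum_nu h hx') _
  rw [Finset.sum_congr rfl fun n _ => hR n, ← Fintype.sum_prod_type'
    (f := fun (n : Subgroup.normalizer (P : Set G)) ν =>
      co (χ : G → ℂ) (cConj n.2 (mk h hH θ ν)) * (cConj n.2 (mk h hH θ ν) : cen P → ℂ) c),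
    ← Finset.sum_fiberwise_of_maps_to (t := bset (overBlocks M (cen P) B))
      (g := fun q : Subgroup.normalizer (P : Set G) × IrrCharacter P =>
        cConj q.1.2 (mk h hH θ q.2)) fun q _ => hmem q]
  refine Finset.sum_congr rfl fun μ hμ => ?_
  rw [Finset.sum_congr rfl fun q hq => by rw [(Finset.mem_filter.1 hq).2], Finset.sum_const,
    hfib μ hμ, nsmul_eq_mul]

theorem stab_of_fix (h : Setup p P) {g : G} (hg : g ∈ Subgroup.normalizer (P : Set G))
    {ν : IrrCharacter P} (hν : ν ≠ oneP P) (hfix : nConj hg ν = ν) : g ∈ cen P := by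
  by_contra hgc
  obtain ⟨f, hf⟩ := exists_hom_of_degree_one (isCharacter_of_irr ν.2) (irrP_one h ν)
  have hgx : ∀ x : P, g * (x : G) * g⁻¹ ∈ P := fun x => (Subgroup.mem_normalizer_iff.1 hg x).1 x.2
  let d : P → P := fun x => ⟨g * (x : G) * g⁻¹ * (x : G)⁻¹, P.mul_mem (hgx x) (P.inv_mem x.2)⟩
  have hd : Function.Surjective d := Finite.injective_iff_surjective.1 fun x y e => by
    have e' : g * (x : G) * g⁻¹ * (x : G)⁻¹ = g * (y : G) * g⁻¹ * (y : G)⁻¹ :=
      congrArg Subtype.val e
    by_contra hxy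
    have hz : ((y : G)⁻¹ * x) ≠ 1 := fun hz => hxy (Subtype.ext (inv_mul_eq_one.1 hz).symm)
    refine hgc (h.free (P.mul_mem (P.inv_mem y.2) x.2) hz ?_)
    have hw : g * (x : G) * g⁻¹ = g * (y : G) * g⁻¹ * (y : G)⁻¹ * x := by
      rw [← e', inv_mul_cancel_right]
    calc g * ((y : G)⁻¹ * x) * g⁻¹ = (g * (y : G) * g⁻¹)⁻¹ * (g * (x : G) * g⁻¹) := by group
      _ = (y : G)⁻¹ * x := by rw [hw]; group
  refine hν (Subtype.ext (funext fun z => ?_))
  obtain ⟨x, rfl⟩ := hd z
  show (ν : P → ℂ) (d x) = 1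
  have h1 : (ν : P → ℂ) ⟨_, hgx x⟩ = (ν : P → ℂ) x := congrFun (congrArg Subtype.val hfix) x
  rw [show d x = ⟨_, hgx x⟩ * x⁻¹ from Subtype.ext rfl, hf]
  simp only [hf] at h1
  simp only [map_mul, Units.val_mul]
  rw [h1, ← Units.val_mul, ← map_mul, mul_inv_cancel, map_one, Units.val_one]

/-- Same orbit under the stabiliser. -/
def Sim (θ : IrrCharacter (cen P)) (ν ν' : IrrCharacter P) : Prop :=
  ∃ g, ∃ hg : g ∈ stab θ, nConj hg.1 ν' = ν

theorem nConj_nConj {a b : G} (ha : a ∈ Subgroup.normalizer (P : Set G))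
    (hb : b ∈ Subgroup.normalizer (P : Set G)) (ν : IrrCharacter P) :
    nConj ha (nConj hb ν) = nConj ((Subgroup.normalizer (P : Set G)).mul_mem hb ha) ν := by
  refine Subtype.ext (funext fun c => congrArg (ν : P → ℂ) (Subtype.ext ?_))
  show b * (a * (c : G) * a⁻¹) * b⁻¹ = b * a * c * (b * a)⁻¹
  group

theorem nConj_congr {a b : G} (ha : a ∈ Subgroup.normalizer (P : Set G))
    (hb : b ∈ Subgroup.normalizer (P : Set G)) (e : a = b) (ν : IrrCharacter P) :
    nConj ha ν = nConj hb ν := by subst e; rfl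

theorem nConj_of_cen (h : Setup p P) {g : G} (hg : g ∈ cen P) (ν : IrrCharacter P) :
    nConj (cen_le_norm P hg) ν = ν := by
  refine Subtype.ext (funext fun c => congrArg (ν : P → ℂ) (Subtype.ext ?_))
  show g * (c : G) * g⁻¹ = c
  rw [← Subgroup.mem_centralizer_iff.1 hg c c.2, mul_inv_cancel_right]

theorem sim_refl (θ : IrrCharacter (cen P)) (ν : IrrCharacter P) : Sim θ ν ν := by
  refine ⟨1, Subgroup.one_mem _, Subtype.ext (funext fun c => congrArg (ν : P → ℂ) (Subtype.ext ?_))⟩
  simp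

theorem sim_symm {ν ν' : IrrCharacter P} (hs : Sim θ ν ν') : Sim θ ν' ν := by
  obtain ⟨g, hg, e⟩ := hs
  refine ⟨g⁻¹, Subgroup.inv_mem _ hg, ?_⟩
  rw [← e, nConj_nConj, nConj_congr _ (Subgroup.one_mem _) (mul_inv_cancel g)]
  refine Subtype.ext (funext fun c => congrArg (ν' : P → ℂ) (Subtype.ext ?_))
  simp

theorem sim_trans {a b c : IrrCharacter P} (h1 : Sim θ a b) (h2 : Sim θ b c) : Sim θ a c := by
  obtain ⟨g, hg, e⟩ := h1
  obtain ⟨k, hk, e'⟩ := h2
  exact ⟨k * g, Subgroup.mul_mem _ hk hg, by rw [← e, ← e', nConj_nConj]⟩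

theorem sim_ne_one (h : Setup p P) {ν ν' : IrrCharacter P} (hs : Sim θ ν ν') (hν : ν' ≠ oneP P) :
    ν ≠ oneP P := by
  rintro rfl
  obtain ⟨g, hg, e⟩ := hs
  refine hν (Subtype.ext (funext fun c => ?_))
  have h1 := congrFun (congrArg Subtype.val e)
    ⟨g⁻¹ * c * g, (Subgroup.mem_normalizer_iff.1 hg.1 _).2 (by simpa [mul_assoc] using c.2)⟩
  show (ν' : P → ℂ) c = 1
  rw [← show _ = (1 : ℂ) from h1]
  exact congrArg (ν' : P → ℂ) (Subtype.ext (by simp [mul_assoc]))

/-- The class of a nontrivial character has `[T : C]` elements. -/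
theorem card_sim (h : Setup p P) {ν : IrrCharacter P} (hν : ν ≠ oneP P)
    [DecidablePred fun ν' => Sim θ ν' ν] :
    (Finset.univ.filter fun ν' => Sim θ ν' ν).card = (cen P).relIndex (stab θ) := by
  classical
  let f : stab θ ⧸ (cen P).subgroupOf (stab θ) → IrrCharacter P :=
    fun q => nConj (q.out).2.1 ν
  have himg : (Finset.univ.filter fun ν' => Sim θ ν' ν) = Finset.univ.image f := by
    ext ν'
    simp only [Finset.mem_filter, Finset.mem_univ, true_and, Finset.mem_image]
    constructor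
    · rintro ⟨g, hg, rfl⟩
      refine ⟨QuotientGroup.mk ((⟨g⁻¹, Subgroup.inv_mem _ hg⟩ : stab θ)⁻¹), ?_⟩
      set q : stab θ ⧸ (cen P).subgroupOf (stab θ) :=
        QuotientGroup.mk ((⟨g⁻¹, Subgroup.inv_mem _ hg⟩ : stab θ)⁻¹)
      have hq : (q.out : G)⁻¹ * g ∈ cen P := by
        have h1 := QuotientGroup.eq.1 (QuotientGroup.out_eq' q)
        rw [Subgroup.mem_subgroupOf] at h1
        simpa using h1
      show nConj (q.out).2.1 ν = _
      set c := (q.out : G)⁻¹ * g with hc
      have h2 : nConj hg.1 ν = nConj (cen_le_norm P hq) (nConj (q.out).2.1 ν) := by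
        rw [nConj_nConj]
        exact nConj_congr _ _ (by rw [hc, mul_inv_cancel_left]) ν
      rw [h2, nConj_of_cen h hq]
    · rintro ⟨q, rfl⟩
      exact ⟨_, (q.out).2, rfl⟩
  rw [himg, Finset.card_image_of_injective _ ?_, Finset.card_univ, ← Nat.card_eq_fintype_card,
    ← Subgroup.index_eq_card]
  · rfl
  intro a b e
  have hb := (Subgroup.normalizer (P : Set G)).inv_mem (b.out).2.1
  have h1 : nConj ((Subgroup.normalizer (P : Set G)).mul_mem (a.out).2.1 hb) ν = ν := by
    rw [← nConj_nConj hb (a.out).2.1, show nConj (a.out).2.1 ν = nConj (b.out).2.1 ν from e,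
      nConj_nConj, nConj_congr _ (Subgroup.one_mem _) (mul_inv_cancel (b.out : G))]
    refine Subtype.ext (funext fun c => congrArg (ν : P → ℂ) (Subtype.ext ?_))
    simp
  have h2 := stab_of_fix h _ hν h1
  rw [← QuotientGroup.out_eq' a, ← QuotientGroup.out_eq' b]
  refine QuotientGroup.eq.2 (Subgroup.mem_subgroupOf.2 ?_)
  show (a.out : G)⁻¹ * (b.out : G) ∈ cen P
  have h3 := (norm_cen_mem ((Subgroup.normalizer (P : Set G)).inv_mem (b.out).2.1) _).1
    ((cen P).inv_mem h2)
  simpa [mul_assoc] using h3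

/-- The induced differences. -/
noncomputable def alpha (h : Setup p P) (hH : Compl P H) (θ : IrrCharacter (cen P))
    (ν : IrrCharacter P) : G → ℂ :=
  indFun (cen P) (fun c => (mk h hH θ ν : cen P → ℂ) c - (θ : cen P → ℂ) c)

theorem beta_regular (h : Setup p P) (hH : Compl P H) (hP : Nat.card P = p)
    (hθ : SmallDegree.lam h θ = fun _ => 1) (ν : IrrCharacter P) {c : cen P}
    (hc : ¬ p ∣ orderOf (c : G)) : (mk h hH θ ν : cen P → ℂ) c - (θ : cen P → ℂ) c = 0 := by
  obtain ⟨⟨x, y⟩, rfl⟩ := (pr_bijective h hH).2 c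
  have hx : (x : G) = 1 := (regular_iff h hH hP x.2 y.2).1 hc
  obtain rfl : x = 1 := Subtype.ext hx
  rw [mk_apply h hH hθ, apply_xy, hθ, irrP_one h, sub_self]

theorem alpha_regular (h : Setup p P) (hH : Compl P H) (hP : Nat.card P = p)
    (hθ : SmallDegree.lam h θ = fun _ => 1) (ν : IrrCharacter P) {g : G}
    (hg : ¬ p ∣ orderOf g) : alpha h hH θ ν g = 0 := by
  rw [alpha, indFun, mul_eq_zero]
  right
  refine Finset.sum_eq_zero fun a _ => ?_
  by_cases ha : a⁻¹ * g * a ∈ cen P
  · rw [extendByZero_of_mem _ _ ha]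
    refine beta_regular h hH hP hθ ν ?_
    show ¬ p ∣ orderOf (a⁻¹ * g * a)
    rwa [show a⁻¹ * g * a = MulAut.conj a⁻¹ g by simp [MulAut.conj_apply], MulEquiv.orderOf_eq]
  · rw [extendByZero_of_not_mem _ _ ha]

theorem alpha_eq_sum (hM : IsPModular p M) (h : Setup p P) (hH : Compl P H)
    (hr : Root hM h hH B θ) (ν : IrrCharacter P) :
    alpha h hH θ ν = ∑ χ ∈ bset B, dd h hH θ χ ν • (χ : G → ℂ) := by
  classical
  have hco : ∀ χ : IrrCharacter G, classInner (alpha h hH θ ν) (χ : G → ℂ) = dd h hH θ χ ν := by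
    intro χ
    rw [alpha, frobenius_reciprocity _ _ (isClassFunction_irr χ.2), ← dd_conj, dd, co, co,
      map_sub, classInner_comm, classInner_comm, ← classInner_sub_left]
    rfl
  conv_lhs => rw [eq_sum_irr (show IsClassFunction G (alpha h hH θ ν) from
    indFun_isClassFunction (cen P) _)]
  refine (Finset.sum_congr rfl fun χ _ => by rw [hco χ]).trans ?_
  refine (Finset.sum_subset (Finset.subset_univ (bset B)) fun χ _ hχ => ?_).symm
  rw [dd_outside hM h hH hr (fun hm => hχ (mem_bset.2 hm)), zero_smul]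

open Classical in
/-- The Gram matrix. -/
theorem gram (hM : IsPModular p M) (h : Setup p P) (hH : Compl P H) (hr : Root hM h hH B θ)
    {ν ν' : IrrCharacter P} (hν : ν ≠ oneP P) (hν' : ν' ≠ oneP P) :
    ∑ χ ∈ bset B, ddz h hH θ χ ν * ddz h hH θ χ ν' =
      ((cen P).relIndex (stab θ) : ℤ) + if Sim θ ν ν' then 1 else 0 := by
  have hθ := hr.ker
  have hP := hr.card
  set N := Subgroup.normalizer (P : Set G)
  -- left side
  have hL : classInner (alpha h hH θ ν) (alpha h hH θ ν') =
      ((∑ χ ∈ bset B, ddz h hH θ χ ν * ddz h hH θ χ ν' : ℤ) : ℂ) := by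
    rw [alpha_eq_sum hM h hH hr, alpha_eq_sum hM h hH hr, classInner_sum_left, Int.cast_sum]
    refine Finset.sum_congr rfl fun χ hχ => ?_
    rw [classInner_sum_right, Finset.sum_eq_single χ]
    · rw [classInner_smul_left, classInner_smul_right, classInner_irr_self χ.2, dd_conj, mul_one,
        dd_eq_cast, dd_eq_cast]
      push_cast; rfl
    · intro ψ _ hne
      rw [classInner_smul_left, classInner_smul_right,
        classInner_irr_ne χ.2 ψ.2 fun e => hne (Subtype.ext e.symm), mul_zero, mul_zero]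
    · exact fun hn => absurd hχ hn
  let β : IrrCharacter P → cen P → ℂ := fun ν c => (mk h hH θ ν : cen P → ℂ) c - (θ : cen P → ℂ) c
  -- right side
  have hC0 : (Nat.card (cen P) : ℂ) ≠ 0 := Nat.cast_ne_zero.2 Nat.card_pos.ne'
  have hsing : classInner (β ν) (fun c : cen P => alpha h hH θ ν' c) =
      (Nat.card (cen P) : ℂ)⁻¹ * ∑ n : N, classInner (β ν) (fun c => β ν' (cEquiv n.2 c)) := by
    simp only [classInner, Finset.mul_sum]
    rw [Finset.sum_comm]
    refine Finset.sum_congr rfl fun c _ => ?_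
    by_cases hc : p ∣ orderOf (c : G)
    swap
    · simp [β, beta_regular h hH hP hθ ν hc]
    have h1 : alpha h hH θ ν' c = (Nat.card (cen P) : ℂ)⁻¹ * ∑ n : N, β ν' (cEquiv n.2 c) := by
      rw [alpha, indFun]
      congr 1
      rw [← Equiv.sum_comp (Equiv.inv G)]
      rw [← Finset.sum_filter_add_sum_filter_not Finset.univ (fun g : G => g ∈ N),
        Finset.sum_eq_zero (s := Finset.univ.filter fun g : G => ¬ g ∈ N), add_zero,
        Finset.sum_subtype (p := fun g => g ∈ N) _ (fun g => by simp)]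
      · refine Finset.sum_congr rfl fun n _ => ?_
        rw [Equiv.inv_apply, inv_inv, extendByZero_of_mem _ _ ((norm_cen_mem n.2 _).1 c.2)]
        rfl
      · intro g hg
        rw [Equiv.inv_apply, inv_inv, extendByZero_of_not_mem]
        exact fun hm => (Finset.mem_filter.1 hg).2 (mem_norm_of_conj h hH hP c.2 hc hm)
    rw [h1, map_mul, map_inv₀, map_natCast, map_sum, Finset.mul_sum, Finset.mul_sum, Finset.mul_sum]
    exact Finset.sum_congr rfl fun n _ => by ring
  have hpair : ∀ n : N, classInner (β ν) (fun c => β ν' (cEquiv n.2 c)) =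
      if (n : G) ∈ stab θ then (1 : ℂ) + (if nConj n.2 ν' = ν then 1 else 0) else 0 := by
    intro n
    have hone : ∀ a b : IrrCharacter (cen P), classInner (a : cen P → ℂ) (b : cen P → ℂ) =
        if a = b then 1 else 0 := fun a b => by
      split_ifs with e
      · rw [e, classInner_irr_self b.2]
      · rw [classInner_irr_ne a.2 b.2 fun q => e (Subtype.ext q)]
    have hl := (cConj_mk h hH hP hθ n.2 ν').1
    have e1 : (fun c => β ν' (cEquiv n.2 c)) =
        (cConj n.2 (mk h hH θ ν') : cen P → ℂ) - (cConj n.2 θ : cen P → ℂ) := rfl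
    rw [e1, show β ν = (mk h hH θ ν : cen P → ℂ) - (θ : cen P → ℂ) from rfl, classInner_sub_left,
      classInner_sub_right, classInner_sub_right, hone, hone, hone, hone,
      (cConj_mk h hH hP hθ n.2 ν').2]
    by_cases hn : (n : G) ∈ stab θ
    · have hfix : cConj n.2 θ = θ := hn.2
      rw [if_pos hn, hfix]
      have a1 : mk h hH θ ν ≠ θ := fun e => hν (mk_injective h hH hθ
        (e.trans (mk_one h hH hθ).symm))
      have a2 : θ ≠ mk h hH θ (nConj n.2 ν') := fun e =>
        sim_ne_one h (⟨_, hn, rfl⟩ : Sim θ (nConj hn.1 ν') ν') hν'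
          (mk_injective h hH hθ (e.symm.trans (mk_one h hH hθ).symm))
      rw [if_neg a1, if_neg a2, if_pos rfl]
      simp only [(mk_injective h hH hθ).eq_iff]
      rw [show (if nConj n.2 ν' = ν then (1 : ℂ) else 0) = if ν = nConj n.2 ν' then 1 else 0 by
        simp only [eq_comm]]
      ring
    · rw [if_neg hn]
      have hne : resH hH (cConj n.2 θ) ≠ resH hH θ := fun e =>
        hn ⟨n.2, ext_char h hH (hl.trans hθ.symm) e⟩
      have a : ∀ μ μ' : IrrCharacter (cen P), resH hH μ = resH hH θ →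
          resH hH μ' = resH hH (cConj n.2 θ) → μ ≠ μ' := fun μ μ' q q' e => hne (by rw [← q', ← e, q])
      rw [if_neg (a _ _ (resH_mk h hH hθ _) (resH_mk h hH hl _)),
        if_neg (a _ _ (resH_mk h hH hθ _) rfl), if_neg (a _ _ rfl (resH_mk h hH hl _)),
        if_neg (a _ _ rfl rfl)]
      ring
  have hR : classInner (alpha h hH θ ν) (alpha h hH θ ν') =
      (((cen P).relIndex (stab θ) : ℤ) : ℂ) + if Sim θ ν ν' then 1 else 0 := by
    rw [show classInner (alpha h hH θ ν) (alpha h hH θ ν') =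
        classInner (β ν) (fun c : cen P => alpha h hH θ ν' c) from
      frobenius_reciprocity (cen P) (β ν) (χ := alpha h hH θ ν') (indFun_isClassFunction (cen P) _),
      hsing,
      Finset.sum_congr rfl fun n _ => hpair n, ← Finset.sum_filter, Finset.sum_add_distrib]
    have hcardT : ((Finset.univ.filter fun n : N => (n : G) ∈ stab θ).card : ℂ) =
        (Nat.card (cen P) : ℂ) * ((cen P).relIndex (stab θ) : ℂ) := by
      rw [← Nat.cast_mul]
      congr 1
      have h1 := Subgroup.card_mul_index ((cen P).subgroupOf (stab θ))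
      rw [Nat.card_congr (Subgroup.subgroupOfEquivOfLe (cen_le_stab θ)).toEquiv] at h1
      show _ = _ * ((cen P).subgroupOf (stab θ)).index
      rw [h1, Nat.card_eq_fintype_card, ← Finset.card_univ]
      exact Finset.card_bij (fun n hn => ⟨(n : G), (Finset.mem_filter.1 hn).2⟩)
        (fun _ _ => Finset.mem_univ _) (fun a _ b _ e => Subtype.ext (congrArg (fun z : stab θ => (z : G)) e))
        fun t _ => ⟨⟨t, t.2.1⟩, Finset.mem_filter.2 ⟨Finset.mem_univ _, t.2⟩, rfl⟩
    have hhit : ((Finset.univ.filter fun n : N => (n : G) ∈ stab θ).filter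
          fun n => nConj n.2 ν' = ν).card =
        if Sim θ ν ν' then Nat.card (cen P) else 0 := by
      split_ifs with hs
      · obtain ⟨g, hg, e⟩ := hs
        rw [Nat.card_eq_fintype_card, ← Finset.card_univ]
        refine (Finset.card_bij (fun (c : cen P) _ => (⟨(c : G) * g, N.mul_mem (cen_le_norm P c.2) hg.1⟩ : N))
          (fun c _ => Finset.mem_filter.2 ⟨Finset.mem_filter.2 ⟨Finset.mem_univ _,
            (stab θ).mul_mem (cen_le_stab θ c.2) hg⟩, ?_⟩) (fun a _ b _ e' => Subtype.ext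
              (mul_right_cancel (congrArg Subtype.val e'))) fun n hn => ?_).symm
        · rw [← nConj_nConj hg.1 (cen_le_norm P c.2), nConj_of_cen h c.2, e]
        · obtain ⟨hn1, hn2⟩ := Finset.mem_filter.1 hn
          have h1 : nConj (N.mul_mem n.2 (N.inv_mem hg.1)) ν' = ν' := by
            rw [← nConj_nConj (N.inv_mem hg.1) n.2, hn2, ← e, nConj_nConj,
              nConj_congr _ (Subgroup.one_mem _) (mul_inv_cancel g)]
            refine Subtype.ext (funext fun c => congrArg (ν' : P → ℂ) (Subtype.ext ?_))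
            simp
          exact ⟨⟨_, stab_of_fix h _ hν' h1⟩, Finset.mem_univ _,
            Subtype.ext (inv_mul_cancel_right _ _)⟩
      · exact Finset.card_eq_zero.2 (Finset.filter_eq_empty_iff.2 fun n hn e =>
          hs ⟨_, (Finset.mem_filter.1 hn).2, e⟩)
    rw [← Finset.sum_filter, Finset.sum_const, Finset.sum_const, nsmul_eq_mul, nsmul_eq_mul,
      mul_one, mul_one, hcardT, hhit, mul_add, inv_mul_cancel_left₀ hC0]
    split_ifs <;> simp [hC0]
  have := hL.symm.trans hR
  split_ifs at this ⊢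
  · exact_mod_cast this
  · exact_mod_cast this

end CfsgLib.Blocks.DefectOne
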