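import Cfsg.Agent.Lib.CharTheory.SmallDegreeMain
import Cfsg.Agent.Lib.CharTheory.AbelianInertia
import Cfsg.Agent.Lib.CharTheory.Gallagher
import Cfsg.Agent.Lib.CharTheory.PowerMap
import Cfsg.Agent.Lib.Blocks.FongLocal
import Cfsg.Agent.Lib.Blocks.MaxPairs
import Cfsg.Agent.Lib.Blocks.SecondMain
import Cfsg.Agent.Lib.Blocks.Covering
import Cfsg.Agent.Lib.Blocks.Proj
import Cfsg.Agent.Lib.Blocks.GaloisLattice

/-!
# Blocks with a Sylow subgroup of prime order: the local structure
-/

namespace CfsgLib.Blocks.DefectOne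

open Cfsg CfsgLib.CharTheory CfsgLib.CharTheory.SmallDegree CfsgLib.Blocks.GaloisLattice
open scoped ComplexConjugate

set_option linter.unusedVariables false
set_option linter.style.haveILetI false
set_option linter.unusedSectionVars false

universe u

variable {G : Type u} [Group G] [Fintype G] {p : ℕ} {M : Ideal AlgInt} {P H : Subgroup G}

theorem setup_of_card (hp : p.Prime) (hP : Nat.card P = p) (hsyl : ¬ p ∣ P.index) : Setup p P where
  prime := hp
  pgroup := IsPGroup.of_card (n := 1) (by rw [hP, pow_one])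
  sylow := hsyl
  ne := fun h => hp.one_lt.ne' (by rw [← hP, h, Subgroup.card_bot])
  star := by
    intro x hx hx1
    haveI : Fact p.Prime := ⟨hp⟩
    refine le_antisymm (fun g hg => ?_) (fun g hg => ?_)
    · rw [Subgroup.mem_centralizer_singleton_iff] at hg
      rw [Subgroup.mem_centralizer_iff]
      intro y hy
      have h1 : Subgroup.zpowers x = P := by
        refine Subgroup.eq_of_le_of_card_ge (Subgroup.zpowers_le.2 hx) ?_
        rw [hP, Nat.card_zpowers]
        refine (orderOf_eq_prime ?_ hx1).ge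
        have := congrArg Subtype.val (pow_card_eq_one' (G := P) (x := ⟨x, hx⟩))
        rwa [hP] at this
      rw [SetLike.mem_coe, ← h1] at hy
      obtain ⟨i, rfl⟩ := Subgroup.mem_zpowers_iff.1 hy
      exact ((show Commute g x from hg).zpow_right i).eq.symm
    · rw [Subgroup.mem_centralizer_singleton_iff]
      exact ((Subgroup.mem_centralizer_iff.1 hg) x hx).symm

theorem sq_not_dvd (h : Setup p P) (hP : Nat.card P = p) : ¬ p ^ 2 ∣ Nat.card G := by
  rw [← P.card_mul_index, hP, sq]
  exact fun hd => h.sylow (Nat.dvd_of_mul_dvd_mul_left h.prime.pos hd)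

theorem dvd_card (hP : Nat.card P = p) : p ∣ Nat.card G := hP ▸ Subgroup.card_subgroup_dvd_card P

theorem compl_not_dvd (h : Setup p P) (hH : Compl P H) : ¬ p ∣ Nat.card H := fun hd => by
  have h1 : p ∣ P.relIndex (cen P) := by
    have h2 := Subgroup.card_mul_index (P.subgroupOf (cen P))
    rw [Nat.card_congr (Subgroup.subgroupOfEquivOfLe h.le_cent).toEquiv, ← hH.card] at h2
    show p ∣ (P.subgroupOf (cen P)).index
    rw [Nat.eq_of_mul_eq_mul_left Nat.card_pos h2]; exact hd
  exact h.sylow (h1.trans (Subgroup.relIndex_dvd_index_of_le h.le_cent))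

theorem pow_card_of_mem (hP : Nat.card P = p) {x : G} (hx : x ∈ P) : x ^ p = 1 := by
  have := congrArg Subtype.val (pow_card_eq_one' (G := P) (x := ⟨x, hx⟩))
  rwa [hP] at this

theorem commute_of (hH : Compl P H) {x y : G} (hx : x ∈ P) (hy : y ∈ H) : Commute x y :=
  Subgroup.mem_centralizer_iff.1 (hH.le hy) x hx

/-- Projection exponents. -/
theorem exists_split_exp (h : Setup p P) (hH : Compl P H) (hP : Nat.card P = p) :
    ∃ a : ℕ, ∀ x ∈ P, ∀ y ∈ H, (x * y) ^ a = x := by
  obtain ⟨a, ha⟩ := Nat.chineseRemainder (show (Nat.card H).Coprime p from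
    (h.prime.coprime_iff_not_dvd.2 (compl_not_dvd h hH)).symm) 0 1
  refine ⟨a, fun x hx y hy => ?_⟩
  rw [(commute_of hH hx hy).mul_pow]
  have h1 : y ^ a = 1 := by
    obtain ⟨k, hk⟩ := Nat.modEq_zero_iff_dvd.1 ha.1
    have := congrArg Subtype.val (pow_card_eq_one' (G := H) (x := ⟨y, hy⟩))
    rw [hk, pow_mul, show y ^ Nat.card H = 1 from this, one_pow]
  have h2 : x ^ a = x := by
    rw [pow_eq_pow_mod a (pow_card_of_mem hP hx), ha.2, ← pow_eq_pow_mod 1 (pow_card_of_mem hP hx),
      pow_one]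
  rw [h1, h2, mul_one]

/-- The regular elements of the centralizer are those of the complement. -/
theorem regular_iff (h : Setup p P) (hH : Compl P H) (hP : Nat.card P = p) {x y : G} (hx : x ∈ P)
    (hy : y ∈ H) : ¬ p ∣ orderOf (x * y) ↔ x = 1 := by
  obtain ⟨a, ha⟩ := exists_split_exp h hH hP
  constructor
  · intro hreg
    by_contra hne
    refine hreg ?_
    have h1 : orderOf x = p := by
      haveI : Fact p.Prime := ⟨h.prime⟩
      exact orderOf_eq_prime (pow_card_of_mem hP hx) hne
    rw [← h1]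
    conv_lhs => rw [← ha x hx y hy]
    exact orderOf_pow_dvd a
  · rintro rfl
    rw [one_mul]
    intro hd
    exact compl_not_dvd h hH (hd.trans ((Subgroup.orderOf_mk y hy).symm ▸
      orderOf_dvd_natCard (⟨y, hy⟩ : H)))

/-- A singular element of the centralizer is only moved inside it by the normalizer. -/
theorem mem_norm_of_conj (h : Setup p P) (hH : Compl P H) (hP : Nat.card P = p) {g c : G}
    (hc : c ∈ cen P) (hreg : p ∣ orderOf c) (hg : g * c * g⁻¹ ∈ cen P) :
    g ∈ Subgroup.normalizer (P : Set G) := by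
  obtain ⟨x, hx, y, hy, rfl⟩ := hH.prod c hc
  obtain ⟨x', hx', y', hy', e⟩ := hH.prod _ hg
  obtain ⟨a, ha⟩ := exists_split_exp h hH hP
  have h1 : g * x * g⁻¹ = x' := by
    rw [← ha x hx y hy, ← conj_pow, e, ha x' hx' y' hy']
  refine h.norm_eq hx (fun hx1 => ?_) (h1 ▸ hx')
  exact ((regular_iff h hH hP hx hy).2 hx1) hreg

section chars

variable [Fintype P] [Fintype (cen P)] [Fintype H]

/-- Restriction to the complement. -/
def resH (hH : Compl P H) (μ : IrrCharacter (cen P)) : H → ℂ :=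
  fun y => (μ : cen P → ℂ) ⟨y, hH.le y.2⟩

theorem apply_xy (h : Setup p P) (hH : Compl P H) (μ : IrrCharacter (cen P)) (x : P) (y : H) :
    (μ : cen P → ℂ) (pr h hH (x, y)) = SmallDegree.lam h μ x * resH hH μ y := by
  rw [show pr h hH (x, y) = ⟨x, h.le_cent x.2⟩ * ⟨y, hH.le y.2⟩ from Subtype.ext rfl,
    (lam_spec h μ).2.2.2]
  rfl

theorem ext_char (h : Setup p P) (hH : Compl P H) {μ μ' : IrrCharacter (cen P)}
    (h1 : SmallDegree.lam h μ = SmallDegree.lam h μ') (h2 : resH hH μ = resH hH μ') : μ = μ' := by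
  refine Subtype.ext (funext fun c => ?_)
  obtain ⟨⟨x, y⟩, rfl⟩ := (pr_bijective h hH).2 c
  rw [apply_xy, apply_xy, h1, h2]

theorem resH_irr (h : Setup p P) (hH : Compl P H) (μ : IrrCharacter (cen P)) :
    IsIrrCharacter H (resH hH μ) := by
  classical
  let ι : H →* cen P := Subgroup.inclusion hH.le
  have hc : IsCharacter H (fun y => (μ : cen P → ℂ) (ι y)) :=
    isCharacter_comp (isCharacter_of_irr μ.2) ι
  refine irr_of_char_norm_one hc ?_
  rw [← classInner_irr_self μ.2]
  have e : ∑ c : cen P, (μ : cen P → ℂ) c * conj ((μ : cen P → ℂ) c) =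
      (Nat.card P : ℂ) * ∑ y : H, (μ : cen P → ℂ) (ι y) * conj ((μ : cen P → ℂ) (ι y)) := by
    rw [sum_cen h hH]
    have h1 := lam_orth h μ μ
    rw [if_pos rfl] at h1
    rw [← h1, Finset.sum_mul_sum]
    refine Finset.sum_congr rfl fun x _ => Finset.sum_congr rfl fun y _ => ?_
    rw [apply_xy, map_mul]
    show _ = _ * (resH hH μ y * conj (resH hH μ y))
    ring
  have hqc : (Nat.card P : ℂ) ≠ 0 := Nat.cast_ne_zero.2 Nat.card_pos.ne'
  have hHc : (Nat.card H : ℂ) ≠ 0 := Nat.cast_ne_zero.2 Nat.card_pos.ne'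
  simp only [classInner]
  rw [e, ← hH.card]
  push_cast
  field_simp
  rfl

theorem resH_one (hH : Compl P H) (μ : IrrCharacter (cen P)) : resH hH μ 1 = (μ : cen P → ℂ) 1 := rfl

theorem orthH (h : Setup p P) (hH : Compl P H) (μ μ' : IrrCharacter (cen P))
    [Decidable (resH hH μ = resH hH μ')] :
    ∑ y : H, resH hH μ y * conj (resH hH μ' y) =
      if resH hH μ = resH hH μ' then (Nat.card H : ℂ) else 0 := by
  have h0 : (Nat.card H : ℂ) ≠ 0 := Nat.cast_ne_zero.2 Nat.card_pos.ne'
  have e : ∑ y : H, resH hH μ y * conj (resH hH μ' y) =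
      (Nat.card H : ℂ) * classInner (resH hH μ) (resH hH μ') := by
    rw [classInner, mul_inv_cancel_left₀ h0]
  rw [e]
  split_ifs with hl
  · rw [hl, classInner_irr_self (resH_irr h hH μ'), mul_one]
  · rw [classInner_irr_ne (resH_irr h hH μ) (resH_irr h hH μ') hl, mul_zero]

/-- The projection onto the Sylow subgroup. -/
noncomputable def projP (h : Setup p P) (hH : Compl P H) : cen P →* P :=
  MonoidHom.mk' (fun c => ((Equiv.ofBijective _ (pr_bijective h hH)).symm c).1) fun a b => by
    obtain ⟨⟨x, y⟩, rfl⟩ := (pr_bijective h hH).2 a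
    obtain ⟨⟨x', y'⟩, rfl⟩ := (pr_bijective h hH).2 b
    have e : pr h hH (x, y) * pr h hH (x', y') = pr h hH (x * x', y * y') := Subtype.ext (by
      show (x : G) * y * ((x' : G) * y') = (x : G) * x' * ((y : G) * y')
      rw [mul_assoc, ← mul_assoc (y : G), ← (commute_of hH x'.2 y.2).eq]
      simp only [mul_assoc])
    rw [e]
    simp only [Equiv.ofBijective_symm_apply_apply]

theorem projP_pr (h : Setup p P) (hH : Compl P H) (x : P) (y : H) :
    projP h hH (pr h hH (x, y)) = x :=
  congrArg Prod.fst (Equiv.ofBijective_symm_apply_apply _ (pr_bijective h hH) (x, y))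

theorem irrP_one (h : Setup p P) (ν : IrrCharacter P) : (ν : P → ℂ) 1 = 1 :=
  degree_one_of_commutative (fun a b => Subtype.ext (h.comm a.2 b.2)) ν.2

/-- The character with given `P`-part over a character trivial on `P`. -/
noncomputable def mk (h : Setup p P) (hH : Compl P H) (θ : IrrCharacter (cen P))
    (ν : IrrCharacter P) : IrrCharacter (cen P) :=
  ⟨(θ : cen P → ℂ) * fun c => (ν : P → ℂ) (projP h hH c),
    isIrrCharacter_mul_linear θ.2 (isIrrCharacter_comp_surjective ν.2 (projP h hH)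
      (fun x => ⟨pr h hH (x, 1), projP_pr h hH x 1⟩)) (by
        show (ν : P → ℂ) (projP h hH 1) = 1
        rw [map_one, irrP_one h])⟩

variable {θ : IrrCharacter (cen P)}

theorem mk_apply (h : Setup p P) (hH : Compl P H) (hθ : SmallDegree.lam h θ = fun _ => 1) (ν : IrrCharacter P)
    (x : P) (y : H) :
    (mk h hH θ ν : cen P → ℂ) (pr h hH (x, y)) = (ν : P → ℂ) x * resH hH θ y := by
  show (θ : cen P → ℂ) _ * (ν : P → ℂ) (projP h hH _) = _
  rw [projP_pr, apply_xy, hθ, one_mul, mul_comm]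

theorem resH_mk (h : Setup p P) (hH : Compl P H) (hθ : SmallDegree.lam h θ = fun _ => 1) (ν : IrrCharacter P) :
    resH hH (mk h hH θ ν) = resH hH θ := funext fun y => by
  have := mk_apply h hH hθ ν 1 y
  rw [irrP_one h, one_mul] at this
  rw [← this]
  show (mk h hH θ ν : cen P → ℂ) _ = _
  exact congrArg (mk h hH θ ν : cen P → ℂ) (Subtype.ext (show (y : G) = (1 : G) * y from (one_mul _).symm))

theorem lam_mk (h : Setup p P) (hH : Compl P H) (hθ : SmallDegree.lam h θ = fun _ => 1) (ν : IrrCharacter P) :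
    SmallDegree.lam h (mk h hH θ ν) = (ν : P → ℂ) := funext fun x => by
  have h1 := apply_xy h hH (mk h hH θ ν) x 1
  rw [mk_apply h hH hθ, resH_mk h hH hθ] at h1
  exact (mul_right_cancel₀ (by rw [resH_one]; exact irr_ne_zero θ.2) h1).symm

theorem eq_mk (h : Setup p P) (hH : Compl P H) (hθ : SmallDegree.lam h θ = fun _ => 1)
    {μ : IrrCharacter (cen P)} (hμ : resH hH μ = resH hH θ) :
    μ = mk h hH θ ⟨SmallDegree.lam h μ, (lam_spec h μ).1⟩ :=
  ext_char h hH (lam_mk h hH hθ (⟨SmallDegree.lam h μ, (lam_spec h μ).1⟩ : IrrCharacter P)).symm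
    (hμ.trans (resH_mk h hH hθ _).symm)

theorem mk_one (h : Setup p P) (hH : Compl P H) (hθ : SmallDegree.lam h θ = fun _ => 1) :
    mk h hH θ ⟨fun _ => 1, isIrrCharacter_one⟩ = θ :=
  ext_char h hH ((lam_mk h hH hθ _).trans hθ.symm) (resH_mk h hH hθ _)

theorem mk_injective (h : Setup p P) (hH : Compl P H) (hθ : SmallDegree.lam h θ = fun _ => 1) :
    Function.Injective (mk h hH θ) := fun a b e => Subtype.ext (by
  rw [← lam_mk h hH hθ a, e, lam_mk h hH hθ b])

/-- Blocks of the centralizer. -/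
theorem sameBlock_iff (hM : IsPModular p M) (h : Setup p P) (hH : Compl P H) (hP : Nat.card P = p)
    (μ μ' : IrrCharacter (cen P)) :
    SameBlock M (μ : cen P → ℂ) (μ' : cen P → ℂ) ↔ resH hH μ = resH hH μ' := by
  classical
  haveI := res_isDomain hM
  constructor
  · intro hs
    by_contra hne
    obtain ⟨d, hd, hd1⟩ := irr_degree_pos μ.2
    set e : cen P → ℂ := fun c => if projP h hH c = 1 then
      (μ : cen P → ℂ) 1 / Nat.card H * conj ((μ : cen P → ℂ) c) else 0 with he
    have hecl : IsClassFunction (cen P) e := fun a b => by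
      simp only [he]
      have h1 : projP h hH (b * a * b⁻¹) = projP h hH a := by
        rw [map_mul, map_mul, map_inv]
        exact Subtype.ext (by
          show (projP h hH b : G) * (projP h hH a : G) * (projP h hH b : G)⁻¹ = (projP h hH a : G)
          rw [h.comm (projP h hH b).2 (projP h hH a).2, mul_inv_cancel_right])
      rw [h1, isClassFunction_irr μ.2 a b]
    have hemem : ∀ c, MemLocalRing M (e c) := fun c => by
      simp only [he]
      split_ifs with h1
      · refine (loc hM).mul_mem ?_ ?_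
        · rw [hd1, div_eq_mul_inv]
          exact (loc hM).mul_mem (memRing_natCast hM d)
            (memRing_Wr hM (natCast_inv_mem_Wr hM (compl_not_dvd h hH)))
        · rw [irr_conjInv]
          exact memRing_irr hM μ _
      · exact (loc hM).zero_mem
    have hom : ∀ φ : IrrCharacter (cen P),
        omega (φ : cen P → ℂ) e = if resH hH φ = resH hH μ then 1 else 0 := by
      intro φ
      have h1 : ∑ c, e c * (φ : cen P → ℂ) c =
          (μ : cen P → ℂ) 1 / Nat.card H * ∑ y : H, resH hH φ y * conj (resH hH μ y) := by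
        rw [sum_cen h hH, Finset.sum_eq_single (1 : P) _
          (fun hh => absurd (Finset.mem_univ _) hh), Finset.mul_sum]
        · refine Finset.sum_congr rfl fun y _ => ?_
          simp only [he, projP_pr, if_true, apply_xy, (lam_spec h φ).2.1, (lam_spec h μ).2.1, one_mul]
          ring
        · intro x _ hx
          exact Finset.sum_eq_zero fun y _ => by simp [he, projP_pr, hx]
      rw [omega, h1, orthH h hH]
      split_ifs with hl
      · rw [div_mul_cancel₀ _ (Nat.cast_ne_zero.2 Nat.card_pos.ne' : (Nat.card H : ℂ) ≠ 0),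
          ← resH_one hH φ, hl, resH_one, div_self (irr_ne_zero μ.2)]
      · rw [mul_zero, zero_div]
    have := Zloc_res_congr hM (omega_mem_Zloc hM hecl hemem) hs
    change res hM (omega (μ : cen P → ℂ) e) = res hM (omega (μ' : cen P → ℂ) e) at this
    rw [hom, hom, if_pos rfl, if_neg fun e => hne e.symm, res_one, res_zero] at this
    exact one_ne_zero this
  · intro he
    refine sameBlock_of_regular hM fun c hc => ?_
    obtain ⟨⟨x, y⟩, rfl⟩ := (pr_bijective h hH).2 c
    have hx : (x : G) = 1 := (regular_iff h hH hP x.2 y.2).1 (by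
      rwa [← Subgroup.orderOf_coe (pr h hH (x, y))] at hc)
    obtain rfl : x = 1 := Subtype.ext hx
    refine congrArg (res hM) ?_
    show centralChar _ _ = centralChar _ _
    simp only [centralChar, apply_xy, (lam_spec h μ).2.1, (lam_spec h μ').2.1, one_mul]
    rw [← resH_one hH μ, ← resH_one hH μ', he]

theorem mem_blockOf_iff (hM : IsPModular p M) (h : Setup p P) (hH : Compl P H)
    (hP : Nat.card P = p) {μ θ : IrrCharacter (cen P)} :
    μ ∈ blockOf M (θ : cen P → ℂ) ↔ resH hH μ = resH hH θ :=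
  (sameBlock_iff hM h hH hP θ μ).trans eq_comm

theorem isCentr_cen (h : Setup p P) {x : G} (hx : x ∈ P) (hx1 : x ≠ 1) : IsCentr x (cen P) := by
  intro g
  show g ∈ Subgroup.centralizer (P : Set G) ↔ _
  rw [← h.star x hx hx1, Subgroup.mem_centralizer_singleton_iff]
  rfl

theorem ppow_of_mem (h : Setup p P) {x : G} (hx : x ∈ P) : ∃ k : ℕ, orderOf x = p ^ k := by
  haveI : Fact p.Prime := ⟨h.prime⟩
  obtain ⟨k, hk⟩ := IsPGroup.iff_orderOf.1 h.pgroup ⟨x, hx⟩
  exact ⟨k, by rw [← hk, Subgroup.orderOf_mk]⟩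

/-- The blocks of the centralizer inducing a given block are conjugate. -/
theorem induced_iff_conj (hM : IsPModular p M) (h : Setup p P) (hH : Compl P H)
    (hP : Nat.card P = p) {B : Set (IrrCharacter G)} {θ : IrrCharacter (cen P)}
    (hind : IsInducedBlock M (cen P) (blockOf M (θ : cen P → ℂ)) B) (μ : IrrCharacter (cen P)) :
    IsInducedBlock M (cen P) (blockOf M (μ : cen P → ℂ)) B ↔
      ∃ (g : G) (hg : g ∈ Subgroup.normalizer (P : Set G)),
        resH hH (cConj hg θ) = resH hH μ := by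
  classical
  haveI : Fact p.Prime := ⟨h.prime⟩
  have hpair := (induced_centralizer_iff hM h.pgroup).1 hind
  have hmax : IsMaximalBrauerPair p M B P (blockOf M (θ : cen P → ℂ)) := by
    refine ⟨hpair, fun R g hR hle => ?_⟩
    have h1 : P ≤ R := subpairLE_le (a := ⟨P, _⟩) (b := ⟨R, g⟩) hle
    refine (Subgroup.eq_of_le_of_card_ge h1 ?_).symm
    obtain ⟨k, hk⟩ := IsPGroup.iff_card.1 hR.1.1
    rw [hk, hP]
    have hd : p ^ k ∣ Nat.card G := hk ▸ Subgroup.card_subgroup_dvd_card R
    rcases Nat.lt_or_ge k 2 with hk2 | hk2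
    · exact (Nat.pow_le_pow_right h.prime.pos (by omega : k ≤ 1)).trans (pow_one p).le
    · exact absurd ((pow_dvd_pow p hk2).trans hd) (sq_not_dvd h hP)
  have hrot : ∀ {n : G} (hn : n ∈ Subgroup.normalizer (P : Set G)),
      rot hn (blockOf M (θ : cen P → ℂ)) =
        irrPull (conjE (normalizer_le_normalizer_cent P hn)) '' blockOf M (θ : cen P → ℂ) :=
    fun hn => rfl
  have hpull : ∀ {n : G} (hn : n ∈ Subgroup.normalizer (P : Set G)) (ξ : IrrCharacter (cen P)),
      irrPull (conjE (normalizer_le_normalizer_cent P hn)) ξ =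
        cConj ((Subgroup.normalizer (P : Set G)).inv_mem hn) ξ := by
    intro n hn ξ
    refine Subtype.ext (funext fun c => congrArg (ξ : cen P → ℂ) (Subtype.ext ?_))
    show n⁻¹ * (c : G) * n = n⁻¹ * (c : G) * n⁻¹⁻¹
    rw [inv_inv]
  constructor
  · intro hμ
    obtain ⟨n, hn, e⟩ := pairs_orbit hM hmax ((induced_centralizer_iff hM h.pgroup).1 hμ)
    refine ⟨n⁻¹, (Subgroup.normalizer (P : Set G)).inv_mem hn, ?_⟩
    have h1 : irrPull (conjE (normalizer_le_normalizer_cent P hn)) θ ∈
        rot hn (blockOf M (θ : cen P → ℂ)) :=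
      (hrot hn).ge ⟨θ, mem_blockOf_self hM θ, rfl⟩
    rw [← e, hpull hn] at h1
    exact ((mem_blockOf_iff hM h hH hP).1 h1)
  · rintro ⟨g, hg, e⟩
    have hg' := (Subgroup.normalizer (P : Set G)).inv_mem hg
    have hθ' : cConj hg θ ∈ rot hg' (blockOf M (θ : cen P → ℂ)) := by
      refine (hrot hg').ge ⟨θ, mem_blockOf_self hM θ, ?_⟩
      rw [hpull hg']
      refine Subtype.ext (funext fun c => congrArg (θ : cen P → ℂ) (Subtype.ext ?_))
      show g⁻¹⁻¹ * (c : G) * g⁻¹⁻¹⁻¹ = g * (c : G) * g⁻¹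
      rw [inv_inv]
    have hblock : IsPBlock M (rot hg' (blockOf M (θ : cen P → ℂ))) :=
      isPBlock_orbit (blockOf_isPBlock θ) (mem_orbitBlocks.2 ⟨_, hg', rfl⟩)
    have h2 : rot hg' (blockOf M (θ : cen P → ℂ)) = blockOf M (μ : cen P → ℂ) := by
      rw [eq_blockOf hM hblock hθ']
      refine (blockOf_eq_of_mem hM ?_).symm
      exact (mem_blockOf_iff hM h hH hP).2 e.symm
    rw [← h2, induced_centralizer_iff hM h.pgroup]
    -- conjugate pairs
    obtain ⟨χ, hχ⟩ := exists_induced_brauer P (cen P) hM h.pgroup le_rfl h.le_cent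
      (cen_le_norm P) μ
    have hB₀ : IsPBlock M (blockOf M (χ : G → ℂ)) := blockOf_isPBlock χ
    have hind' : IsInducedBlock M (cen P) (blockOf M (μ : cen P → ℂ)) (blockOf M (χ : G → ℂ)) :=
      isInducedBlock_of_congr _ hM (blockOf_isPBlock μ) hB₀ (mem_blockOf_self hM μ)
        (mem_blockOf_self hM χ) hχ
    suffices hB : B = blockOf M (χ : G → ℂ) by
      rw [h2, hB]; exact (induced_centralizer_iff hM h.pgroup).1 hind'
    -- conjugation does not change the induced central character
    obtain ⟨φ, hφ⟩ := block_nonempty hM hind.2.1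
    have hsame : ∀ z, inducedCentralChar (cen P) (cConj hg θ : cen P → ℂ) z =
        inducedCentralChar (cen P) (θ : cen P → ℂ) z := by
      intro z
      simp only [inducedCentralChar]
      rw [show (cConj hg θ : cen P → ℂ) 1 = (θ : cen P → ℂ) 1 by
        show (θ : cen P → ℂ) (cEquiv hg 1) = _
        rw [map_one]]
      refine finsum_mem_eq_of_bijOn (cEquiv hg) ⟨fun a ha => ?_, (cEquiv hg).injective.injOn,
        fun a ha => ⟨(cEquiv hg).symm a, ?_, (cEquiv hg).apply_symm_apply a⟩⟩ fun a _ => rfl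
      · exact (ha : IsConj z (a : G)).trans (isConj_iff.2 ⟨g, rfl⟩)
      · refine (ha : IsConj z (a : G)).trans (isConj_iff.2 ⟨g⁻¹, ?_⟩)
        show g⁻¹ * (a : G) * g⁻¹⁻¹ = g⁻¹ * (a : G) * g
        rw [inv_inv]
    have hmem' : cConj hg θ ∈ blockOf M (μ : cen P → ℂ) := (mem_blockOf_iff hM h hH hP).2 e
    have hχφ : SameBlock M (φ : G → ℂ) (χ : G → ℂ) := by
      rw [sameBlock_iff_res hM]
      intro z
      have h3 := hind.2.2 θ (mem_blockOf_self hM θ) φ hφ z
      have h4 := hind'.2.2 _ hmem' χ (mem_blockOf_self hM χ) z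
      rw [hsame] at h4
      rw [memIdeal_sub_iff hM (memRing_inducedCentralChar (cen P) hM θ z)
        (show MemLocalRing M (centralChar (φ : G → ℂ) z) from memRing_clv hM z φ)] at h3
      rw [memIdeal_sub_iff hM (memRing_inducedCentralChar (cen P) hM θ z)
        (show MemLocalRing M (centralChar (χ : G → ℂ) z) from memRing_clv hM z χ)] at h4
      exact h3.symm.trans h4
    rw [eq_blockOf hM hind.2.1 hφ]
    exact (blockOf_eq_of_mem hM hχφ).symm

/-- The value at a singular element of the centralizer. -/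
theorem value_eq_sum (hM : IsPModular p M) (h : Setup p P) (hH : Compl P H)
    (hP : Nat.card P = p) {B : Set (IrrCharacter G)} (hB : IsPBlock M B) {χ : IrrCharacter G}
    (hχ : χ ∈ B) (x : P) (hx : (x : G) ≠ 1) (y : H) :
    (χ : G → ℂ) ((x : G) * y) =
      ∑ μ ∈ bset (overBlocks M (cen P) B), co (χ : G → ℂ) μ * (μ : cen P → ℂ) (pr h hH (x, y)) := by
  classical
  have hyreg : ¬ p ∣ orderOf (⟨y, hH.le y.2⟩ : cen P) := by
    rw [← Subgroup.orderOf_coe]
    have := (regular_iff h hH hP P.one_mem y.2).2 rfl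
    rwa [one_mul] at this
  have h1 := sec_eq_overBlocks hM (isCentr_cen h x.2 hx) (ppow_of_mem h x.2) hB χ hyreg
  rw [ind_of_mem hχ, one_mul] at h1
  rw [← h1, blockPart_apply]
  refine Finset.sum_congr rfl fun μ _ => ?_
  rw [show pr h hH (x, y) = ⟨x, h.le_cent x.2⟩ * ⟨y, hH.le y.2⟩ from Subtype.ext rfl,
    (lam_spec h μ).2.2.2, ← mul_assoc]
  congr 1
  have e : sec (x : G) (cen P) (χ : G → ℂ) =
      fun c : cen P => ∑ ν, (co (χ : G → ℂ) ν * SmallDegree.lam h ν x) * (ν : cen P → ℂ) c := by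
    funext c
    obtain ⟨n, hn, hf⟩ := exists_co (P := P) (isCharacter_of_irr χ.2)
    have := hf (⟨x, h.le_cent x.2⟩ * c)
    show (χ : G → ℂ) ((x : G) * (c : G)) = _
    rw [show (x : G) * (c : G) = ((⟨x, h.le_cent x.2⟩ * c : cen P) : G) from rfl, this]
    exact Finset.sum_congr rfl fun ν _ => by rw [hn, (lam_spec h ν).2.2.2]; ring
  rw [e, show (fun c : cen P => ∑ ν, (co (χ : G → ℂ) ν * SmallDegree.lam h ν x) * (ν : cen P → ℂ) c) =
    ∑ ν, (co (χ : G → ℂ) ν * SmallDegree.lam h ν x) • (ν : cen P → ℂ) from funext fun c => by simp,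
    classInner_sum_left]
  rw [Finset.sum_eq_single μ]
  · rw [classInner_smul_left, classInner_irr_self μ.2, mul_one]
  · intro ν _ hne
    rw [classInner_smul_left, classInner_irr_ne ν.2 μ.2 fun e => hne (Subtype.ext e), mul_zero]
  · exact fun hh => absurd (Finset.mem_univ _) hh

end chars

/-- Singular elements meet the centralizer. -/
theorem exists_conj_cen (h : Setup p P) (hP : Nat.card P = p) {g : G} (hg : p ∣ orderOf g) :
    ∃ a : G, a * g * a⁻¹ ∈ cen P := by
  haveI : Fact p.Prime := ⟨h.prime⟩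
  obtain ⟨m, hm⟩ := hg
  have hx : orderOf (g ^ m) = p := by
    rw [orderOf_pow' g (fun h0 => (orderOf_pos g).ne' (by rw [hm, h0, mul_zero])), hm,
      Nat.gcd_mul_left_left, Nat.mul_div_cancel]
    exact Nat.pos_of_ne_zero fun h0 => (orderOf_pos g).ne' (by rw [hm, h0, mul_zero])
  let Q : Sylow p G := IsPGroup.toSylow h.pgroup (by
    simpa using h.sylow)
  obtain ⟨S, hS⟩ := (IsPGroup.of_card (n := 1) (show Nat.card (Subgroup.zpowers (g ^ m)) = p ^ 1 by
    rw [Nat.card_zpowers, hx, pow_one])).exists_le_sylow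
  obtain ⟨a, ha⟩ := MulAction.exists_smul_eq G S Q
  have hmem : a * g ^ m * a⁻¹ ∈ P := by
    have h1 : a • (g ^ m) ∈ (P : Set G) ∨ True := Or.inr trivial
    have h2 : MulAut.conj a (g ^ m) ∈ ((a • S : Sylow p G) : Subgroup G) :=
      Subgroup.smul_mem_pointwise_smul (g ^ m) (MulAut.conj a) (S : Subgroup G)
        (hS (Subgroup.mem_zpowers _))
    rw [ha] at h2
    exact h2
  have hne : a * g ^ m * a⁻¹ ≠ 1 := fun e => by
    rw [conj_eq_one_iff] at e
    rw [e, orderOf_one] at hx
    exact h.prime.one_lt.ne hx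
  refine ⟨a, ?_⟩
  show a * g * a⁻¹ ∈ Subgroup.centralizer (P : Set G)
  rw [← h.star _ hmem hne, Subgroup.mem_centralizer_singleton_iff, ← conj_pow]
  exact (Commute.pow_self _ m).symm.eq

end CfsgLib.Blocks.DefectOne
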