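/-
Characters of degree prime to `p` when a Sylow subgroup has order `p`: a count by local data.
-/
import Cfsg.Agent.Lib.Blocks.DefectOneBlocks
import Cfsg.Agent.Lib.CharTheory.Irr

namespace CfsgLib.Blocks.DefectOne

open Cfsg CfsgLib.CharTheory CfsgLib.CharTheory.SmallDegree CfsgLib.Blocks
open scoped ComplexConjugate

set_option linter.unusedVariables false
set_option linter.style.haveILetI false
set_option linter.unusedSectionVars false

universe u

variable {G : Type u} [Group G] [Fintype G] {p : ℕ} {M : Ideal AlgInt} {P H : Subgroup G}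

/-- Trivial on `P`. -/
def TrivOn (P : Subgroup G) (θ : IrrCharacter (cen P)) : Prop :=
  ∀ c : cen P, (c : G) ∈ P → (θ : cen P → ℂ) c = (θ : cen P → ℂ) 1

theorem trivOn_iff_lam (h : Setup p P) [Fintype P] [Fintype (cen P)] (θ : IrrCharacter (cen P)) :
    TrivOn P θ ↔ SmallDegree.lam h θ = fun _ => 1 := by
  constructor
  · intro ht
    funext x
    show (θ : cen P → ℂ) ⟨x, h.le_cent x.2⟩ / (θ : cen P → ℂ) 1 = 1
    rw [ht _ x.2]
    exact div_self (irr_ne_zero θ.2)
  · intro hl c hc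
    have h1 := congrFun hl ⟨(c : G), hc⟩
    change (θ : cen P → ℂ) ⟨(c : G), _⟩ / (θ : cen P → ℂ) 1 = 1 at h1
    exact (div_eq_one_iff_eq (irr_ne_zero θ.2)).1 h1

variable [Fintype P] [Fintype (cen P)]

/-- The orbit of a character under the normalizer. -/
def nOrbit (θ : IrrCharacter (cen P)) : Set (IrrCharacter (cen P)) :=
  {μ | ∃ (g : G) (hg : g ∈ Subgroup.normalizer (P : Set G)), cConj hg θ = μ}

theorem trivOn_cConj {θ : IrrCharacter (cen P)} (hθ : TrivOn P θ) {g : G}
    (hg : g ∈ Subgroup.normalizer (P : Set G)) : TrivOn P (cConj hg θ) := fun c hc => by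
  show (θ : cen P → ℂ) (cEquiv hg c) = (θ : cen P → ℂ) (cEquiv hg 1)
  rw [map_one]
  exact hθ _ ((Subgroup.mem_normalizer_iff.1 hg _).1 hc)

/-- The local weight of a character. -/
noncomputable def weight (p : ℕ) (θ : IrrCharacter (cen P)) : ℚ :=
  (((cen P).relIndex (stab θ) + (p - 1) / (cen P).relIndex (stab θ) : ℕ) : ℚ) /
    (Nat.card (nOrbit θ) : ℚ)

variable [Fintype H]

theorem induced_block_unique (hM : IsPModular p M) {f : Set (IrrCharacter (cen P))}
    {B B' : Set (IrrCharacter G)} (h1 : IsInducedBlock M (cen P) f B)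
    (h2 : IsInducedBlock M (cen P) f B') : B = B' := by
  obtain ⟨ξ, hξ⟩ := block_nonempty hM h1.1
  obtain ⟨χ, hχ⟩ := block_nonempty hM h1.2.1
  obtain ⟨χ', hχ'⟩ := block_nonempty hM h2.2.1
  rw [eq_blockOf hM h1.2.1 hχ, eq_blockOf hM h2.2.1 hχ']
  refine (blockOf_eq_of_mem hM ((sameBlock_iff_res hM χ' χ).2 fun z => ?_)).symm ▸ rfl
  have h3 := h1.2.2 ξ hξ χ hχ z
  have h4 := h2.2.2 ξ hξ χ' hχ' z
  rw [memIdeal_sub_iff hM (memRing_inducedCentralChar (cen P) hM ξ z)
    (show MemLocalRing M (centralChar (χ : G → ℂ) z) from memRing_clv hM z χ)] at h3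
  rw [memIdeal_sub_iff hM (memRing_inducedCentralChar (cen P) hM ξ z)
    (show MemLocalRing M (centralChar (χ' : G → ℂ) z) from memRing_clv hM z χ')] at h4
  exact h4.symm.trans h3

/-- The characters of degree prime to `p` are counted by the local weights. -/
theorem count_pPrime (hM : IsPModular p M) (h : Setup p P) (hH : Compl P H) (hP : Nat.card P = p) :
    (Nat.card {χ : IrrCharacter G // ¬ p ∣ charDegree (χ : G → ℂ)} : ℚ) =
      ∑ᶠ θ : {θ : IrrCharacter (cen P) // TrivOn P θ}, weight p θ.1 := by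
  classical
  haveI : Fact p.Prime := ⟨h.prime⟩
  haveI : Fintype (Subgroup.normalizer (P : Set G)) := Fintype.ofFinite _
  let R := {θ : IrrCharacter (cen P) // TrivOn P θ}
  haveI : Fintype R := Fintype.ofFinite _
  have hroot : ∀ θ : R, ∃ B, Root hM h hH B θ.1 := fun θ => by
    obtain ⟨χ, hχ⟩ := exists_induced_brauer P (cen P) hM h.pgroup le_rfl h.le_cent
      (cen_le_norm P) θ.1
    exact ⟨_, hP, (trivOn_iff_lam h θ.1).1 θ.2, isInducedBlock_of_congr _ hM (blockOf_isPBlock θ.1)
      (blockOf_isPBlock χ) (mem_blockOf_self hM θ.1) (mem_blockOf_self hM χ) hχ⟩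
  choose F hF using hroot
  have he0 : ∀ θ : R, 0 < (cen P).relIndex (stab θ.1) := fun θ =>
    Nat.pos_of_ne_zero Subgroup.index_ne_zero_of_finite
  have hshape : ∀ θ : R, (bset (F θ)).card =
      (cen P).relIndex (stab θ.1) + (p - 1) / (cen P).relIndex (stab θ.1) ∧
      ∀ χ ∈ F θ, ¬ p ∣ charDegree (χ : G → ℂ) := by
    intro θ
    obtain ⟨X, Y, ε, a, τ, S⟩ := exists_shape hM h hH (hF θ)
    refine ⟨?_, fun χ hχ => ?_⟩
    · rw [S.bset_eq, Finset.card_union_of_disjoint S.disj, S.cardX, ← S.cardY,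
        Nat.mul_div_cancel _ (he0 θ)]
    · have hNC : ¬ p ∣ (cen P).relIndex (Subgroup.normalizer (P : Set G)) := fun hd =>
        h.sylow ((hd.trans (Subgroup.relIndex_dvd_index_of_le (cen_le_norm P))).trans
          (Subgroup.index_dvd_of_le h.le_cent))
      have hθd : ¬ p ∣ charDegree (θ.1 : cen P → ℂ) := by
        intro hd
        refine compl_not_dvd h hH (hd.trans ?_)
        obtain ⟨n, ρ, hρ, e⟩ := resH_irr h hH θ.1
        haveI := hρ
        have h2 := finrank_dvd_card ρ
        have h1 : (charDegree (θ.1 : cen P → ℂ) : ℂ) = (Module.finrank ℂ (Fin n → ℂ) : ℂ) := by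
          rw [irr_charDegree_cast, ← resH_one hH θ.1, ← e, Representation.char_one]
        rwa [← Nat.cast_inj.1 h1] at h2
      have hkey : ∀ {D : ℕ} {s : ℤ}, (s = 1 ∨ s = -1) → ¬ p ∣ D →
          (charDegree (χ : G → ℂ) : ℤ) ≡ s * (D : ℤ) [ZMOD p] → ¬ p ∣ charDegree (χ : G → ℂ) := by
        intro D s hs hD hc hd
        rw [Int.modEq_iff_dvd] at hc
        have h3 : (p : ℤ) ∣ s * (D : ℤ) := by
          have := hc.add (Int.natCast_dvd_natCast.2 hd)
          rwa [sub_add_cancel] at this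
        rcases hs with rfl | rfl
        · exact hD (Int.natCast_dvd_natCast.1 (by simpa using h3))
        · exact hD (Int.natCast_dvd_natCast.1 (by simpa using h3))
      have hq : ¬ p ∣ (cen P).relIndex (Subgroup.normalizer (P : Set G)) /
          (cen P).relIndex (stab θ.1) := fun hd => hNC (hd.trans
            (Nat.div_dvd_of_dvd ⟨_, (relIndex_mul θ.1).symm⟩))
      rw [← S.union] at hχ
      rcases hχ with hX | hY
      · refine hkey (s := -a χ) ?_ (h.prime.not_dvd_mul hq hθd) (S.degX hM (hF θ) hX)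
        rcases S.ha χ hX with e | e <;> simp [e]
      · exact hkey S.hε (h.prime.not_dvd_mul hNC hθd) (S.degY hM (hF θ) hY)
  have hfib : ∀ θ μ : R, F μ = F θ ↔ μ.1 ∈ nOrbit θ.1 := by
    intro θ μ
    rw [show F μ = F θ ↔ IsInducedBlock M (cen P) (blockOf M (μ.1 : cen P → ℂ)) (F θ) from
      ⟨fun e => e ▸ (hF μ).ind, fun hi => induced_block_unique hM (hF μ).ind hi⟩,
      induced_iff_conj hM h hH hP (hF θ).ind]
    constructor
    · rintro ⟨g, hg, e⟩
      refine ⟨g, hg, ext_char h hH ?_ e⟩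
      rw [(trivOn_iff_lam h _).1 (trivOn_cConj θ.2 hg), (trivOn_iff_lam h _).1 μ.2]
    · rintro ⟨g, hg, e⟩
      exact ⟨g, hg, by rw [e]⟩
  have hocard : ∀ θ : R, Nat.card (nOrbit θ.1) =
      (Finset.univ.filter fun μ : R => F μ = F θ).card := by
    intro θ
    rw [← Fintype.card_subtype, ← Nat.card_eq_fintype_card]
    refine Nat.card_congr
      { toFun := fun μ => ⟨⟨μ.1, by obtain ⟨g, hg, e⟩ := μ.2; exact e ▸ trivOn_cConj θ.2 hg⟩,
          (hfib θ _).2 μ.2⟩
        invFun := fun μ => ⟨μ.1.1, (hfib θ _).1 μ.2⟩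
        left_inv := fun _ => rfl
        right_inv := fun _ => rfl }
  have hset : (Finset.univ.filter fun χ : IrrCharacter G => ¬ p ∣ charDegree (χ : G → ℂ)) =
      (Finset.univ.image F).biUnion bset := by
    ext χ
    simp only [Finset.mem_filter, Finset.mem_univ, true_and, Finset.mem_biUnion, Finset.mem_image,
      exists_exists_eq_and, mem_bset]
    refine ⟨fun hχ => ?_, fun ⟨θ, hθ⟩ => (hshape θ).2 χ hθ⟩
    have hB : IsPBlock M (blockOf M (χ : G → ℂ)) := blockOf_isPBlock χ
    have hd : 0 < blockDefect p (blockOf M (χ : G → ℂ)) := by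
      have h1 : 0 < (Nat.card G).factorization p :=
        h.prime.factorization_pos_of_dvd Nat.card_pos.ne' (dvd_card hP)
      have h2 : minDv p (blockOf M (χ : G → ℂ)) ≤ dv p (χ : G → ℂ) :=
        Nat.sInf_le ⟨χ, mem_blockOf_self hM χ, rfl⟩
      have h3 : dv p (χ : G → ℂ) = 0 := Nat.factorization_eq_zero_of_not_dvd hχ
      have h4 := blockDefect_eq p (blockOf M (χ : G → ℂ))
      omega
    obtain ⟨θ, hr⟩ := exists_root hM h hH hP hB hd
    refine ⟨⟨θ, (trivOn_iff_lam h θ).2 hr.ker⟩, ?_⟩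
    rw [induced_block_unique hM (hF _).ind hr.ind]
    exact mem_blockOf_self hM χ
  have hdisj : ((Finset.univ.image F : Finset _) : Set (Set (IrrCharacter G))).PairwiseDisjoint bset := by
    intro B hB B' hB' hne
    rw [Finset.mem_coe, Finset.mem_image] at hB hB'
    obtain ⟨θ, -, rfl⟩ := hB
    obtain ⟨μ, -, rfl⟩ := hB'
    rw [Function.onFun, Finset.disjoint_left]
    intro χ hχ hχ'
    rw [mem_bset] at hχ hχ'
    exact hne ((eq_blockOf hM (hF θ).ind.2.1 hχ).trans (eq_blockOf hM (hF μ).ind.2.1 hχ').symm)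
  rw [finsum_eq_sum_of_fintype, Nat.card_eq_fintype_card, Fintype.card_subtype, hset,
    Finset.card_biUnion hdisj, Nat.cast_sum,
    ← Finset.sum_fiberwise_of_maps_to (g := F) (fun x _ => Finset.mem_image_of_mem F (Finset.mem_univ x))
      (fun θ : R => weight p θ.1)]
  refine Finset.sum_congr rfl fun B hB => ?_
  obtain ⟨θ, -, rfl⟩ := Finset.mem_image.1 hB
  have hpos : ((Finset.univ.filter fun μ : R => F μ = F θ).card : ℚ) ≠ 0 := by
    exact_mod_cast (Finset.card_pos.2 ⟨θ, by simp⟩).ne'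
  rw [Finset.sum_congr rfl (g := fun _ => ((bset (F θ)).card : ℚ) /
      ((Finset.univ.filter fun μ : R => F μ = F θ).card : ℚ)) (fun μ hμ => ?_),
    Finset.sum_const, nsmul_eq_mul, mul_div_cancel₀ _ hpos]
  have e : F μ = F θ := (Finset.mem_filter.1 hμ).2
  rw [weight, hocard μ, ← (hshape μ).1, e]

end CfsgLib.Blocks.DefectOne

namespace CfsgLib.Blocks.DefectOne

open Cfsg CfsgLib.CharTheory CfsgLib.CharTheory.SmallDegree CfsgLib.Blocks

universe u

variable {G : Type u} [Group G] [Fintype G] {p : ℕ} {P : Subgroup G}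

theorem mem_cen_norm (c : Subgroup.normalizer (P : Set G)) :
    c ∈ cen (P.subgroupOf (Subgroup.normalizer (P : Set G))) ↔ (c : G) ∈ cen P := by
  constructor
  · intro hc x hx
    exact congrArg Subtype.val (hc ⟨x, Subgroup.le_normalizer hx⟩ (Subgroup.mem_subgroupOf.2 hx))
  · intro hc x hx
    exact Subtype.ext (hc (x : G) (Subgroup.mem_subgroupOf.1 hx))

/-- The centralizer inside the normalizer. -/
noncomputable def cenEquiv (P : Subgroup G) :
    cen (P.subgroupOf (Subgroup.normalizer (P : Set G))) ≃* cen P where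
  toFun c := ⟨((c : Subgroup.normalizer (P : Set G)) : G), (mem_cen_norm _).1 c.2⟩
  invFun c := ⟨⟨(c : G), cen_le_norm P c.2⟩, (mem_cen_norm _).2 c.2⟩
  left_inv _ := rfl
  right_inv _ := rfl
  map_mul' _ _ := rfl

/-- Characters of the centralizer inside the normalizer. -/
noncomputable def cenIrr (P : Subgroup G) :
    IrrCharacter (cen (P.subgroupOf (Subgroup.normalizer (P : Set G)))) ≃ IrrCharacter (cen P) where
  toFun θ := ⟨fun c => (θ : _ → ℂ) ((cenEquiv P).symm c),
    isIrrCharacter_comp_surjective θ.2 (cenEquiv P).symm.toMonoidHom (cenEquiv P).symm.surjective⟩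
  invFun θ := ⟨fun c => (θ : _ → ℂ) (cenEquiv P c),
    isIrrCharacter_comp_surjective θ.2 (cenEquiv P).toMonoidHom (cenEquiv P).surjective⟩
  left_inv _ := rfl
  right_inv _ := rfl

theorem trivOn_cenIrr (θ : IrrCharacter (cen (P.subgroupOf (Subgroup.normalizer (P : Set G))))) :
    TrivOn (P.subgroupOf (Subgroup.normalizer (P : Set G))) θ ↔ TrivOn P (cenIrr P θ) :=
  ⟨fun h c hc => h ((cenEquiv P).symm c) (Subgroup.mem_subgroupOf.2 hc),
    fun h c hc => h (cenEquiv P c) (Subgroup.mem_subgroupOf.1 hc)⟩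

variable [Fintype P] [Fintype (cen P)] [Fintype (Subgroup.normalizer (P : Set G))]
  [Fintype (P.subgroupOf (Subgroup.normalizer (P : Set G)))]
  [Fintype (cen (P.subgroupOf (Subgroup.normalizer (P : Set G))))]

theorem mem_norm_norm (n : Subgroup.normalizer (P : Set G)) :
    n ∈ Subgroup.normalizer
      ((P.subgroupOf (Subgroup.normalizer (P : Set G))) : Set (Subgroup.normalizer (P : Set G))) :=
  Subgroup.mem_normalizer_iff.2 fun x => by
    rw [Subgroup.mem_subgroupOf, Subgroup.mem_subgroupOf, Subgroup.coe_mul, Subgroup.coe_mul,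
      Subgroup.coe_inv]
    exact Subgroup.mem_normalizer_iff.1 n.2 _

theorem cenIrr_cConj (n : Subgroup.normalizer (P : Set G))
    (θ : IrrCharacter (cen (P.subgroupOf (Subgroup.normalizer (P : Set G))))) :
    cenIrr P (cConj (mem_norm_norm n) θ) = cConj n.2 (cenIrr P θ) := Subtype.ext rfl

theorem weight_cenIrr (p : ℕ) (θ : IrrCharacter (cen (P.subgroupOf (Subgroup.normalizer (P : Set G))))) :
    weight p θ = weight p (cenIrr P θ) := by
  classical
  have horb : Nat.card (nOrbit θ) = Nat.card (nOrbit (cenIrr P θ)) := by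
    refine Nat.card_congr ((cenIrr P).subtypeEquiv fun μ => ?_)
    constructor
    · rintro ⟨n, hn, e⟩
      exact ⟨(n : G), n.2, by rw [← e]; exact (cenIrr_cConj n θ).symm⟩
    · rintro ⟨g, hg, e⟩
      refine ⟨⟨g, hg⟩, mem_norm_norm _, (cenIrr P).injective ?_⟩
      rw [← e]
      exact cenIrr_cConj ⟨g, hg⟩ θ
  have hs : stab (cenIrr P θ) = (stab θ).map (Subgroup.normalizer (P : Set G)).subtype := by
    ext g
    constructor
    · rintro ⟨hg, e⟩
      refine ⟨⟨g, hg⟩, ⟨mem_norm_norm _, (cenIrr P).injective ?_⟩, rfl⟩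
      exact (cenIrr_cConj ⟨g, hg⟩ θ).trans e
    · rintro ⟨n, ⟨hn, e⟩, rfl⟩
      exact ⟨n.2, ((cenIrr_cConj n θ).symm.trans (congrArg (cenIrr P) e))⟩
  have hc : cen P = (cen (P.subgroupOf (Subgroup.normalizer (P : Set G)))).map
      (Subgroup.normalizer (P : Set G)).subtype := by
    ext g
    constructor
    · intro hg
      exact ⟨⟨g, cen_le_norm P hg⟩, (mem_cen_norm _).2 hg, rfl⟩
    · rintro ⟨n, hn, rfl⟩
      exact (mem_cen_norm n).1 hn
  have hidx : (cen P).relIndex (stab (cenIrr P θ)) =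
      (cen (P.subgroupOf (Subgroup.normalizer (P : Set G)))).relIndex (stab θ) := by
    conv_lhs => rw [hs, hc]
    exact Subgroup.relIndex_map_map_of_injective _ _ (Subgroup.subtype_injective _)
  rw [weight, weight, horb, hidx]

theorem finsum_weight_cenIrr (p : ℕ) :
    ∑ᶠ θ : {θ : IrrCharacter (cen (P.subgroupOf (Subgroup.normalizer (P : Set G)))) //
        TrivOn (P.subgroupOf (Subgroup.normalizer (P : Set G))) θ}, weight p θ.1 =
      ∑ᶠ θ : {θ : IrrCharacter (cen P) // TrivOn P θ}, weight p θ.1 :=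
  finsum_eq_of_bijective ((cenIrr P).subtypeEquiv fun θ => trivOn_cenIrr θ)
    (Equiv.bijective _) fun θ => weight_cenIrr p θ.1

end CfsgLib.Blocks.DefectOne
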