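/-
A defect-zero character from a class of defect zero inside a normal subgroup of order prime to `p`.
-/
import Cfsg.Agent.Lib.Blocks.DefectZeroCount
import Cfsg.Prelude.Def_Local

universe u

namespace CfsgLib.Blocks

open Cfsg CfsgLib.CharTheory
open scoped ComplexConjugate

theorem exists_defZero_of_normal {G : Type u} [Group G] [Finite G] {p : ℕ} [Fact p.Prime] (U : Subgroup G)
    [U.Normal] (hU : ¬ p ∣ Nat.card U) {t : G} (ht : t ∈ U)
    (hC : ¬ p ∣ Nat.card (Subgroup.centralizer ({t} : Set G))) :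
    ∃ χ : IrrCharacter G, (charDegree (χ : G → ℂ)).factorization p = (Nat.card G).factorization p := by
  classical
  haveI : Fintype G := Fintype.ofFinite G
  have hp : p.Prime := Fact.out
  by_contra hno
  push Not at hno
  obtain ⟨M, hM⟩ := exists_pModular hp
  obtain ⟨P⟩ : Nonempty (Sylow p G) := inferInstance
  set c := Nat.card (Subgroup.centralizer ({t} : Set G)) with hc
  have hzero : ∀ u : (P : Subgroup G), u ≠ 1 → pairCount t t⁻¹ (u : G) = 0 := by
    intro u hu
    rw [pairCount, Nat.card_eq_zero]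
    left
    refine ⟨fun ⟨a, ha, hb⟩ => hu ?_⟩
    obtain ⟨g, rfl⟩ := isConj_iff.mp ha
    obtain ⟨f, hf⟩ := isConj_iff.mp hb
    have h1 : g * t * g⁻¹ ∈ U := Subgroup.Normal.conj_mem inferInstance t ht g
    have h2 : f * t⁻¹ * f⁻¹ ∈ U := Subgroup.Normal.conj_mem inferInstance _ (inv_mem ht) f
    have h3 : (u : G) ∈ U := by
      have := mul_mem h1 h2
      rwa [hf, mul_inv_cancel_left] at this
    obtain ⟨k, hk⟩ := IsPGroup.iff_orderOf.mp P.2 u
    refine orderOf_eq_one_iff.mp (Nat.eq_one_of_dvd_coprimes ((hp.coprime_iff_not_dvd.mpr hU).pow_left k) ?_ ?_)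
    · rw [hk]
    · rw [← Subgroup.orderOf_coe]
      exact Subgroup.orderOf_dvd_natCard U h3
  have hone : pairCount t t⁻¹ (1 : G) = (Subgroup.centralizer ({t} : Set G)).index := by
    have e : pairCount t t⁻¹ (1 : G) = Nat.card {x : G // IsConj t x} := by
      refine Nat.card_congr (Equiv.subtypeEquivRight fun x => ⟨fun h => h.1, fun h => ⟨h, ?_⟩⟩)
      rw [mul_one]
      exact isConj_inv h
    have h2 := card_isConj_mul_card_centralizer t
    rw [← (Subgroup.centralizer ({t} : Set G)).index_mul_card] at h2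
    rw [e]
    exact Nat.eq_of_mul_eq_mul_right Nat.card_pos h2
  have hcent : Nat.card (Subgroup.centralizer ({t⁻¹} : Set G)) = c := by
    rw [hc]
    congr 2
    ext x
    simp only [Subgroup.mem_centralizer_singleton_iff]
    exact ⟨fun h => by simpa using (Commute.inv_right (show Commute x t⁻¹ from h)).eq,
      fun h => (Commute.inv_right (show Commute x t from h)).eq⟩
  choose m hm using fun χ : IrrCharacter G => classInner_char_nat
    (isCharacter_restrict (isCharacter_of_irr χ.2) (P : Subgroup G))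
    (isCharacter_one (G := (P : Subgroup G)))
  have hP0 : (Nat.card (P : Subgroup G) : ℂ) ≠ 0 := Nat.cast_ne_zero.mpr Nat.card_pos.ne'
  have hkey : ((P : Subgroup G).index : ℂ) =
      ∑ χ : IrrCharacter G, clv t χ * ((χ : G → ℂ) t⁻¹ * (m χ : ℂ)) := by
    have h1 : ∑ u : (P : Subgroup G), ((pairCount t t⁻¹ (u : G) : ℂ) *
        (Nat.card (Subgroup.centralizer ({t⁻¹} : Set G)) : ℂ)) = (Nat.card G : ℂ) := by
      rw [Finset.sum_eq_single (1 : (P : Subgroup G))]
      · rw [Subgroup.coe_one, hone, hcent, hc, ← Nat.cast_mul, Subgroup.index_mul_card]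
      · intro u _ hu; rw [hzero u hu, Nat.cast_zero, zero_mul]
      · simp
    simp only [pairCount_mul] at h1
    rw [Finset.sum_comm] at h1
    refine mul_right_cancel₀ hP0 ?_
    rw [← Nat.cast_mul, Subgroup.index_mul_card, ← h1, Finset.sum_mul]
    refine Finset.sum_congr rfl fun χ _ => ?_
    have h2 : ∑ u : (P : Subgroup G), conj ((χ : G → ℂ) u) = (m χ : ℂ) * (Nat.card (P : Subgroup G) : ℂ) := by
      have h3 := congrArg (starRingEnd ℂ) (hm χ)
      rw [classInner, map_mul, map_sum, map_inv₀, map_natCast, map_natCast, inv_mul_eq_iff_eq_mul₀ hP0] at h3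
      rw [mul_comm (m χ : ℂ), ← h3]
      simp
    rw [← Finset.mul_sum, ← Finset.mul_sum, h2]
    ring
  have h0 := congrArg (res hM) hkey
  rw [res_natCast, res_sum hM (fun χ _ => (loc hM).mul_mem (memRing_clv hM t χ)
    ((loc hM).mul_mem (memRing_irr hM χ t⁻¹) (memRing_natCast hM _))), Finset.sum_eq_zero fun χ _ => ?_] at h0
  · haveI := res_charP hM
    rw [CharP.cast_eq_zero_iff (AlgInt ⧸ M) p] at h0
    exact P.not_dvd_index h0
  · rw [res_mul hM (memRing_clv hM t χ) ((loc hM).mul_mem (memRing_irr hM χ t⁻¹) (memRing_natCast hM _)),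
      res_clv_of_not_defZero hM hC (hno χ), zero_mul]

/-- The solvable dichotomy for two primes with coprime local centralisers. -/
theorem exists_defZero_pair {G : Type u} [Group G] [Finite G] {p q : ℕ} [Fact p.Prime] [Fact q.Prime]
    (hpq : p ≠ q) (hp : p ∣ Nat.card G)
    (hC : ∀ g : G, orderOf g = p → ¬ q ∣ Nat.card (Subgroup.centralizer ({g} : Set G)))
    (hs : IsPSolvable p G) :
    (∃ χ : IrrCharacter G, (charDegree (χ : G → ℂ)).factorization p = (Nat.card G).factorization p) ∨
      ∃ χ : IrrCharacter G, (charDegree (χ : G → ℂ)).factorization q = (Nat.card G).factorization q := by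
  classical
  have hP : p.Prime := Fact.out
  have hQ : q.Prime := Fact.out
  obtain ⟨n, H, h0, h1, hmono, hnorm, hstep⟩ := hs
  have hex : ∃ i : Fin (n + 1), p ∣ Nat.card (H i) := ⟨Fin.last n, by rw [h1, Subgroup.card_top]; exact hp⟩
  obtain ⟨i, hi, hmin⟩ : ∃ i : Fin (n + 1), p ∣ Nat.card (H i) ∧ ∀ j < i, ¬ p ∣ Nat.card (H j) := by
    obtain ⟨i, hi⟩ := Finset.exists_minimal (s := Finset.univ.filter fun i => p ∣ Nat.card (H i))
      (by obtain ⟨i, hi⟩ := hex; exact ⟨i, by simpa using hi⟩)
    refine ⟨i, by simpa using hi.1, fun j hj hd => ?_⟩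
    exact absurd (hi.2 (by simpa using hd) hj.le) (not_le.mpr hj)
  obtain ⟨j, rfl⟩ : ∃ j : Fin n, j.succ = i :=
    Fin.exists_succ_eq.mpr fun h => hP.not_dvd_one (by rwa [h, h0, Subgroup.card_bot] at hi)
  have hj : ¬ p ∣ Nat.card (H j.castSucc) := hmin _ (Fin.castSucc_lt_succ)
  haveI := hnorm j.castSucc
  haveI := hnorm j.succ
  by_cases hq : q ∣ Nat.card (H j.castSucc)
  · left
    obtain ⟨t, ht⟩ := exists_prime_orderOf_dvd_card' q hq
    have hto : orderOf (t : G) = q := by rw [Subgroup.orderOf_coe, ht]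
    refine exists_defZero_of_normal _ hj t.2 fun hd => ?_
    obtain ⟨w, hw⟩ := exists_prime_orderOf_dvd_card' p hd
    refine hC (w : G) (by rw [Subgroup.orderOf_coe, hw]) ?_
    rw [← hto]
    exact Subgroup.orderOf_dvd_natCard _ (Subgroup.mem_centralizer_singleton_iff.mpr
      (Subgroup.mem_centralizer_singleton_iff.mp w.2).symm)
  · right
    have hle : H j.castSucc ≤ H j.succ := hmono (Fin.castSucc_lt_succ).le
    have hmul : Nat.card (H j.castSucc) * (H j.castSucc).relIndex (H j.succ) = Nat.card (H j.succ) := by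
      rw [← Nat.card_congr (Subgroup.subgroupOfEquivOfLe hle).toEquiv]
      exact Subgroup.card_mul_index _
    rcases hstep j with ⟨a, ha⟩ | hcop
    · obtain ⟨u, hu⟩ := exists_prime_orderOf_dvd_card' p hi
      refine exists_defZero_of_normal _ ?_ u.2 (hC (u : G) (by rw [Subgroup.orderOf_coe, hu]))
      rw [← hmul, ha]
      intro hd
      rcases (Nat.Prime.dvd_mul hQ).mp hd with h | h
      · exact hq h
      · exact hpq ((Nat.prime_dvd_prime_iff_eq hQ hP).mp (hQ.dvd_of_dvd_pow h)).symm
    · exfalso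
      rw [← hmul] at hi
      rcases (Nat.Prime.dvd_mul hP).mp hi with h | h
      · exact hj h
      · exact (hP.coprime_iff_not_dvd.mp hcop.symm) h

end CfsgLib.Blocks
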