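import Cfsg.Agent.Lib.Blocks.DefectZeroCount

/-!
# Products of conjugates lying in a `p`-subgroup, and characters of defect zero
-/

namespace CfsgLib.Blocks

open Cfsg CfsgLib.CharTheory
open scoped ComplexConjugate

set_option linter.unusedVariables false
set_option linter.unusedSimpArgs false
set_option linter.style.haveILetI false
set_option linter.unusedSectionVars false

universe u

variable {p : ℕ} {M : Ideal AlgInt} {G : Type u} [Group G] [Fintype G]

/-- The class multiplication coefficient at the identity. -/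
theorem pairCount_one (x : G) :
    pairCount x x⁻¹ 1 = (Subgroup.centralizer ({x} : Set G)).index := by
  classical
  rw [index_centralizer_eq, pairCount]
  refine Nat.card_congr (Equiv.subtypeEquivRight fun a => ?_)
  rw [mul_one]
  exact ⟨And.left, fun h => ⟨h, isConj_inv h⟩⟩
where
  isConj_inv {a b : G} (h : IsConj a b) : IsConj a⁻¹ b⁻¹ := by
    obtain ⟨c, rfl⟩ := isConj_iff.1 h
    exact isConj_iff.2 ⟨c, by group⟩

theorem charDegree_dvd_card (χ : IrrCharacter G) : charDegree (χ : G → ℂ) ∣ Nat.card G := by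
  obtain ⟨m, ρ, hirr, hχ'⟩ := χ.2
  haveI := hirr
  have h := finrank_dvd_card ρ
  have e : (charDegree (χ : G → ℂ) : ℂ) = (Module.finrank ℂ (Fin m → ℂ) : ℂ) := by
    rw [irr_charDegree_cast, ← hχ', Representation.char_one]
  rwa [Nat.cast_inj.1 e]

/-- If no product of the two classes is a nontrivial element of the subgroup, the coefficient at
the identity is given by the characters restricted to the subgroup. -/
theorem card_eq_sum_restrict (x : G) (P : Subgroup G)
    (hP : ∀ z ∈ P, z ≠ 1 → pairCount x x⁻¹ z = 0) :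
    ∃ m : IrrCharacter G → ℕ, (Nat.card G : ℂ) =
      (Nat.card P : ℂ) * ∑ χ : IrrCharacter G, clv x χ * (χ : G → ℂ) x⁻¹ * (m χ : ℂ) := by
  classical
  haveI := Fintype.ofFinite P
  have h : ∀ χ : IrrCharacter G, ∃ n : ℕ,
      classInner (fun _ : P => (1 : ℂ)) (fun z : P => (χ : G → ℂ) z) = n := fun χ =>
    classInner_char_nat isCharacter_one (isCharacter_restrict (isCharacter_of_irr χ.2) P)
  choose m hm using h
  refine ⟨m, ?_⟩
  set C := Nat.card (Subgroup.centralizer ({x⁻¹} : Set G)) with hC
  have h1 : ∑ z : P, (pairCount x x⁻¹ (z : G) : ℂ) * (C : ℂ) = (Nat.card G : ℂ) := by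
    rw [Finset.sum_eq_single (1 : P) (fun z _ hz => by
        rw [hP z z.2 (fun h => hz (Subtype.ext h)), Nat.cast_zero, zero_mul])
      (fun h => absurd (Finset.mem_univ _) h)]
    rw [OneMemClass.coe_one, pairCount_one, hC, ← Nat.cast_mul]
    have e : Subgroup.centralizer ({x⁻¹} : Set G) = Subgroup.centralizer ({x} : Set G) := by
      ext g
      simp only [Subgroup.mem_centralizer_singleton_iff]
      exact ⟨fun h => by simpa using ((show Commute g x⁻¹ from h).inv_right).eq,
        fun h => ((show Commute g x from h).inv_right).eq⟩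
    rw [e, Subgroup.index_mul_card]
  rw [← h1, hC, Finset.sum_congr rfl fun (z : P) _ => pairCount_mul x x⁻¹ (z : G), Finset.sum_comm,
    Finset.mul_sum]
  refine Finset.sum_congr rfl fun χ _ => ?_
  rw [← hm χ, classInner, Nat.card_eq_fintype_card, ← mul_assoc, ← mul_assoc,
    mul_comm (Fintype.card P : ℂ), mul_assoc (clv x χ * _) (Fintype.card P : ℂ) _,
    mul_inv_cancel₀ (Nat.cast_ne_zero.2 Fintype.card_ne_zero), mul_one, Finset.mul_sum]
  exact Finset.sum_congr rfl fun z _ => by ring

/-- Without characters of defect zero, a class with centralizer of order prime to `p` has two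
members whose quotient is a nontrivial `p`-element. -/
theorem exists_quotient_pElement (hM : IsPModular p M) (hpG : p ∣ Nat.card G) {x : G}
    (hx : ¬ p ∣ Nat.card (Subgroup.centralizer ({x} : Set G)))
    (hno : ∀ χ : IrrCharacter G, ¬ IsDefZero p χ) :
    ∃ g h : G, IsConj x g ∧ IsConj x h ∧ g * h⁻¹ ≠ 1 ∧ ∃ k : ℕ, orderOf (g * h⁻¹) = p ^ k := by
  classical
  haveI : Fact p.Prime := ⟨hM.1⟩
  haveI := res_isDomain hM
  haveI := res_charP hM
  by_contra hc
  push Not at hc
  obtain ⟨P⟩ : Nonempty (Sylow p G) := inferInstance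
  obtain ⟨m, hm⟩ := card_eq_sum_restrict x (P : Subgroup G) fun z hz hz1 => by
    rw [pairCount, Nat.card_eq_zero]
    refine Or.inl ⟨fun ⟨a, ha, ha'⟩ => ?_⟩
    have h2 : IsConj x (a⁻¹ * z)⁻¹ := by
      have := pairCount_one.isConj_inv ha'
      rwa [inv_inv] at this
    obtain ⟨k, hk⟩ := IsPGroup.iff_orderOf.1 P.2 ⟨z, hz⟩
    have e : a * (a⁻¹ * z)⁻¹⁻¹ = z := by group
    exact hc a _ ha h2 (by rwa [e]) k (by rw [e, ← hk, Subgroup.orderOf_mk])
  have hcard : Nat.card G = Nat.card (P : Subgroup G) * (P : Subgroup G).index :=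
    (Subgroup.card_mul_index _).symm
  rw [hcard, Nat.cast_mul] at hm
  have hm' := mul_left_cancel₀ (Nat.cast_ne_zero.2 Nat.card_pos.ne') hm
  have h0 : res hM (((P : Subgroup G).index : ℕ) : ℂ) = 0 := by
    have hi : ∀ χ : IrrCharacter G, MemLocalRing M (clv x χ * (χ : G → ℂ) x⁻¹) := fun χ =>
      (loc hM).mul_mem (memRing_clv hM x χ) (memRing_irr hM χ _)
    rw [hm', res_sum hM fun χ _ => (loc hM).mul_mem (hi χ) (memRing_natCast hM _)]
    refine Finset.sum_eq_zero fun χ _ => ?_
    rw [res_mul hM (hi χ) (memRing_natCast hM _), res_mul hM (memRing_clv hM x χ)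
      (memRing_irr hM χ _), res_clv_of_not_defZero hM hx (hno χ), zero_mul, zero_mul]
  rw [res_natCast, CharP.cast_eq_zero_iff _ p] at h0
  exact P.not_dvd_index h0

end CfsgLib.Blocks
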