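import Cfsg.Agent.Lib.Blocks.SubsectionCount
import Cfsg.Agent.Lib.Blocks.MaxPairs
import Cfsg.Agent.Lib.Blocks.FirstMain
import Cfsg.Agent.Lib.Blocks.FongReduction
import Cfsg.Agent.Lib.Blocks.Principal
import Cfsg.Agent.Lib.Blocks.TwoChars
import Cfsg.Agent.Lib.Blocks.Star.Inst
import Cfsg.Agent.Lib.Blocks.HallHigman
import Cfsg.Agent.Lib.Fusion.PSolvable
import Cfsg.Agent.Lib.PSolvable
import Cfsg.Agent.S4646
import Cfsg.Agent.S4691

/-!
# Blocks with exactly one more ordinary than modular character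

In a principal block, or a block of a `p`-solvable group, the defect groups are then elementary
abelian.
-/

namespace CfsgLib.Blocks

open Cfsg CfsgLib.CharTheory

set_option linter.unusedVariables false
set_option linter.unusedSimpArgs false
set_option linter.style.haveILetI false
set_option linter.unusedSectionVars false

universe u

variable {p : ℕ} {M : Ideal AlgInt} {G : Type u} [Group G] [Fintype G]
  {B : Set (IrrCharacter G)} {P : Subgroup G}
  {c : Set (IrrCharacter (Subgroup.centralizer (P : Set G)))}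

open Classical in
/-- Sums of `rankSum` over nonconjugate `p`-elements are at most `k(B)`. -/
theorem sum_rankSum_le (hM : IsPModular p M) (hB : IsPBlock M B) (S : Finset G)
    (hS : ∀ s ∈ S, ∃ k : ℕ, orderOf s = p ^ k) (hne : ∀ s ∈ S, ∀ t ∈ S, IsConj s t → s = t) :
    ∑ s ∈ S, rankSum p M (Subgroup.centralizer ((Subgroup.zpowers s : Subgroup G) : Set G)) B ≤
      Nat.card B := by
  let r : ConjClasses G → G := fun C =>
    if h : ∃ s, s ∈ S ∧ ConjClasses.mk s = C then h.choose else Quotient.out C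
  have hr : ∀ C, ConjClasses.mk (r C) = C := by
    intro C
    by_cases h : ∃ s, s ∈ S ∧ ConjClasses.mk s = C
    · rw [show r C = h.choose from dif_pos h]
      exact h.choose_spec.2
    · rw [show r C = Quotient.out C from dif_neg h]
      exact Quotient.out_eq C
  have hconj : ∀ g : G, IsConj (r (ConjClasses.mk g)) g := fun g =>
    ConjClasses.mk_eq_mk_iff_isConj.1 (hr _)
  have hrS : ∀ s ∈ S, r (ConjClasses.mk s) = s := by
    intro s hs
    have h : ∃ t, t ∈ S ∧ ConjClasses.mk t = ConjClasses.mk s := ⟨s, hs, rfl⟩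
    rw [show r (ConjClasses.mk s) = h.choose from dif_pos h]
    exact hne _ h.choose_spec.1 _ hs (ConjClasses.mk_eq_mk_iff_isConj.1 h.choose_spec.2)
  set X : Finset G := (Finset.univ.filter fun g : G => ∃ k : ℕ, orderOf g = p ^ k).image
    (fun g => r (ConjClasses.mk g)) with hX
  rw [card_eq_sum_rankSum hM hB X ?_ ?_]
  · refine Finset.sum_le_sum_of_subset fun s hs => ?_
    exact Finset.mem_image.2 ⟨s, Finset.mem_filter.2 ⟨Finset.mem_univ _, hS s hs⟩, hrS s hs⟩
  · intro x hx
    obtain ⟨g, hg, rfl⟩ := Finset.mem_image.1 hx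
    obtain ⟨k, hk⟩ := (Finset.mem_filter.1 hg).2
    obtain ⟨h, hh⟩ := isConj_iff.1 (hconj g)
    have e := congrArg orderOf hh
    rw [conj_orderOf] at e
    exact ⟨k, e.trans hk⟩
  · intro g hg
    refine ⟨r (ConjClasses.mk g), ⟨Finset.mem_image.2
      ⟨g, Finset.mem_filter.2 ⟨Finset.mem_univ _, hg⟩, rfl⟩, (hconj g).symm⟩, ?_⟩
    rintro x ⟨hx, hgx⟩
    obtain ⟨g', -, rfl⟩ := Finset.mem_image.1 hx
    rw [ConjClasses.mk_eq_mk_iff_isConj.2 (hgx.trans (hconj g'))]

theorem rankSum_pos (hM : IsPModular p M) (hmax : IsMaximalBrauerPair p M B P c) {x : G}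
    (hx : x ∈ P) :
    0 < rankSum p M (Subgroup.centralizer ((Subgroup.zpowers x : Subgroup G) : Set G)) B := by
  classical
  haveI := Fintype.ofFinite (Subgroup.centralizer ((Subgroup.zpowers x : Subgroup G) : Set G))
  have hP : IsPGroup p P := hmax.1.1.1
  have hQ : Subgroup.zpowers x ≤ P := Subgroup.zpowers_le.2 hx
  obtain ⟨h1, h2⟩ := subIdx_spec hM (a := (⟨P, c⟩ : BrauerPairIdx G)) hP hmax.1.1.2 hQ
  have hb : IsInducedBlock M (Subgroup.centralizer ((Subgroup.zpowers x : Subgroup G) : Set G))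
      (subIdx p M ⟨P, c⟩ (Subgroup.zpowers x)).2 B :=
    (induced_centralizer_iff hM (hP.to_le hQ)).2 ((pairOf_subpair_iff hM h2 B).2 hmax.1)
  exact lt_of_lt_of_le (blockRank_pos hM hb.1) (blockRank_le_rankSum hb)

/-- When `k(B) = l(B) + 1`, the nontrivial elements of a defect group are conjugate and each has
rank sum one. -/
theorem one_more (hM : IsPModular p M) (hmax : IsMaximalBrauerPair p M B P c)
    (hk : Nat.card B = blockRank p B + 1) :
    (∀ x ∈ P, ∀ y ∈ P, x ≠ 1 → y ≠ 1 → IsConj x y) ∧ ∀ x ∈ P, x ≠ 1 →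
      rankSum p M (Subgroup.centralizer ((Subgroup.zpowers x : Subgroup G) : Set G)) B = 1 := by
  classical
  haveI := Fintype.ofFinite (Subgroup.centralizer ((Subgroup.zpowers (1 : G) : Subgroup G) : Set G))
  haveI : Fact p.Prime := ⟨hM.1⟩
  have h1 : rankSum p M (Subgroup.centralizer ((Subgroup.zpowers (1 : G) : Subgroup G) : Set G)) B =
      blockRank p B :=
    rankSum_central hM (isCentr_zpowers 1) ⟨0, by simp⟩ (Subgroup.one_mem _) hmax.1.2.1
  have hord : ∀ x ∈ P, ∃ k : ℕ, orderOf x = p ^ k := fun x hx => by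
    obtain ⟨k, hk⟩ := IsPGroup.iff_orderOf.1 hmax.1.1.1 ⟨x, hx⟩
    exact ⟨k, by rwa [← Subgroup.orderOf_coe] at hk⟩
  have hone : ∀ {x : G}, x ≠ 1 → ¬ IsConj 1 x := fun hx h => hx (isConj_one_right.1 h)
  constructor
  · intro x hx y hy hx1 hy1
    by_contra hxy
    have hne : x ≠ y := fun e => hxy (e ▸ IsConj.refl x)
    have h := sum_rankSum_le hM hmax.1.2.1 {1, x, y} ?_ ?_
    · rw [Finset.sum_insert (by simp [Ne.symm hx1, Ne.symm hy1]),
        Finset.sum_insert (by simpa using hne), Finset.sum_singleton, h1, hk] at h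
      have := rankSum_pos hM hmax hx
      have := rankSum_pos hM hmax hy
      omega
    · intro s hs
      simp only [Finset.mem_insert, Finset.mem_singleton] at hs
      rcases hs with rfl | rfl | rfl
      · exact ⟨0, by simp⟩
      · exact hord _ hx
      · exact hord _ hy
    · intro s hs t ht hst
      simp only [Finset.mem_insert, Finset.mem_singleton] at hs ht
      rcases hs with rfl | rfl | rfl <;> rcases ht with rfl | rfl | rfl
      · rfl
      · exact absurd hst (hone hx1)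
      · exact absurd hst (hone hy1)
      · exact absurd hst.symm (hone hx1)
      · rfl
      · exact absurd hst hxy
      · exact absurd hst.symm (hone hy1)
      · exact absurd hst.symm hxy
      · rfl
  · intro x hx hx1
    have h := sum_rankSum_le hM hmax.1.2.1 {1, x} ?_ ?_
    · rw [Finset.sum_insert (by simpa using Ne.symm hx1), Finset.sum_singleton, h1, hk] at h
      have := rankSum_pos hM hmax hx
      omega
    · intro s hs
      simp only [Finset.mem_insert, Finset.mem_singleton] at hs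
      rcases hs with rfl | rfl
      · exact ⟨0, by simp⟩
      · exact hord _ hx
    · intro s hs t ht hst
      simp only [Finset.mem_insert, Finset.mem_singleton] at hs ht
      rcases hs with rfl | rfl <;> rcases ht with rfl | rfl
      · rfl
      · exact absurd hst (hone hx1)
      · exact absurd hst.symm (hone hx1)
      · rfl

/-- A conjugacy-transitive finite `p`-group of exponent. -/
theorem pow_eq_one_of_conj {Γ : Type u} [Group Γ] [Finite Γ] (hp : p.Prime) {D : Subgroup Γ}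
    (hD : IsPGroup p D) (hconj : ∀ x ∈ D, ∀ y ∈ D, x ≠ 1 → y ≠ 1 → IsConj x y) :
    ∀ x ∈ D, x ^ p = 1 := by
  haveI : Fact p.Prime := ⟨hp⟩
  intro x hx
  by_cases hx1 : x = 1
  · simp [hx1]
  have hne : D ≠ ⊥ := fun e => hx1 (by simpa [e] using hx)
  obtain ⟨n, hn⟩ := hD.exists_card_eq
  have hpd : p ∣ Nat.card D := by
    rw [hn]
    refine dvd_pow_self p fun h0 => hne ?_
    rw [h0, pow_zero] at hn
    exact Subgroup.card_eq_one.1 hn
  obtain ⟨w, hw⟩ := exists_prime_orderOf_dvd_card' (G := D) p hpd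
  rw [← Subgroup.orderOf_coe] at hw
  have hw1 : (w : Γ) ≠ 1 := fun e => hp.ne_one (by rw [← hw, e, orderOf_one])
  obtain ⟨g, hg⟩ := isConj_iff.1 (hconj _ w.2 _ hx hw1 hx1)
  rw [← hg, conj_pow, ← hw, pow_orderOf_eq_one]
  group

/-- The group theory behind the principal case. -/
theorem elementary_of_conj_nilpotent {Γ : Type u} [Group Γ] [Finite Γ] (hp : p.Prime)
    [Fact p.Prime] (S : Sylow p Γ)
    (hconj : ∀ x ∈ (S : Subgroup Γ), ∀ y ∈ (S : Subgroup Γ), x ≠ 1 → y ≠ 1 → IsConj x y)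
    (hC : ∀ z ∈ (S : Subgroup Γ), z ≠ 1 → ∀ g : Γ, Commute g z → ¬ p ∣ orderOf g →
      ∀ R : Subgroup Γ, IsPGroup p R → (∀ r ∈ R, Commute r z) → (∀ r ∈ R, g * r * g⁻¹ ∈ R) →
        ∀ r ∈ R, g * r * g⁻¹ = r) :
    (∀ x ∈ (S : Subgroup Γ), ∀ y ∈ (S : Subgroup Γ), x * y = y * x) ∧
      ∀ x ∈ (S : Subgroup Γ), x ^ p = 1 := by
  have hexp := pow_eq_one_of_conj hp S.isPGroup' hconj
  refine ⟨?_, hexp⟩
  rcases hp.eq_two_or_odd' with rfl | hodd
  · intro x hx y hy
    have h2 : ∀ a ∈ (S : Subgroup Γ), a⁻¹ = a := fun a ha => by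
      rw [inv_eq_iff_mul_eq_one, ← sq]
      exact hexp a ha
    rw [← h2 _ ((S : Subgroup Γ).mul_mem hx hy), mul_inv_rev, h2 x hx, h2 y hy]
  by_cases hS : Subsingleton (S : Subgroup Γ)
  · intro x hx y hy
    have := congrArg Subtype.val (Subsingleton.elim
      ((⟨x, hx⟩ : (S : Subgroup Γ)) * ⟨y, hy⟩) (⟨y, hy⟩ * ⟨x, hx⟩))
    simpa using this
  haveI : Nontrivial (S : Subgroup Γ) := not_subsingleton_iff_nontrivial.1 hS
  haveI := S.isPGroup'.center_nontrivial
  obtain ⟨⟨⟨z, hzS⟩, hzc⟩, hz1'⟩ := exists_ne (1 : Subgroup.center (S : Subgroup Γ))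
  have hz1 : z ≠ 1 := fun e => hz1' (by subst e; rfl)
  have hzcomm : ∀ d ∈ (S : Subgroup Γ), Commute d z := fun d hd =>
    congrArg Subtype.val (Subgroup.mem_center_iff.1 hzc ⟨d, hd⟩)
  -- an element inverting `z`
  obtain ⟨g₀, hg₀⟩ := isConj_iff.1 (hconj z hzS z⁻¹ ((S : Subgroup Γ).inv_mem hzS) hz1
    (inv_ne_one.2 hz1))
  have hzcS : z ∈ Subgroup.centralizer ((S : Subgroup Γ) : Set Γ) := fun d hd => hzcomm d hd
  obtain ⟨n₀, hn₀, hn₀'⟩ := Sylow.conj_eq_normalizer_conj_of_mem_centralizer S z g₀⁻¹ hzcS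
    (by rw [inv_inv, hg₀]; exact (Subgroup.centralizer _).inv_mem hzcS)
  rw [inv_inv, hg₀] at hn₀'
  -- its `2`-part
  set n := n₀⁻¹ with hn
  have hnz : n * z * n⁻¹ = z⁻¹ := by rw [hn, inv_inv]; exact hn₀'.symm
  have hnN : n ∈ Subgroup.normalizer ((S : Subgroup Γ) : Set Γ) := Subgroup.inv_mem _ hn₀
  set m := orderOf n / 2 ^ (orderOf n).factorization 2 with hm
  have hmodd : ¬ 2 ∣ m := Nat.not_dvd_ordCompl Nat.prime_two (orderOf_pos n).ne'
  have hpow : ∀ j : ℕ, n ^ (2 * j + 1) * z * (n ^ (2 * j + 1))⁻¹ = z⁻¹ := by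
    intro j
    induction j with
    | zero => simpa using hnz
    | succ j ih =>
      rw [show 2 * (j + 1) + 1 = (2 * j + 1) + 1 + 1 from by ring, pow_succ', pow_succ']
      calc n * (n * n ^ (2 * j + 1)) * z * (n * (n * n ^ (2 * j + 1)))⁻¹
          = n * (n * (n ^ (2 * j + 1) * z * (n ^ (2 * j + 1))⁻¹) * n⁻¹) * n⁻¹ := by group
        _ = n * (n * z⁻¹ * n⁻¹) * n⁻¹ := by rw [ih]
        _ = n * (n * z * n⁻¹)⁻¹ * n⁻¹ := by group
        _ = n * z * n⁻¹ := by rw [show (n * z * n⁻¹)⁻¹ = z by rw [hnz, inv_inv]]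
        _ = z⁻¹ := hnz
  set g := n ^ m with hg
  have hgz : g * z * g⁻¹ = z⁻¹ := by
    obtain ⟨j, hj⟩ := Nat.odd_iff.2 (Nat.two_dvd_ne_zero.1 hmodd)
    rw [hg, hj]
    exact hpow j
  have hgN : g ∈ Subgroup.normalizer ((S : Subgroup Γ) : Set Γ) := Subgroup.pow_mem _ hnN m
  have hgp : ∀ i : ℕ, ¬ p ∣ orderOf (g ^ i) := by
    intro i h
    have h2 : (n ^ m) ^ (2 ^ (orderOf n).factorization 2) = 1 := by
      rw [← pow_mul, hm, mul_comm, Nat.ordProj_mul_ordCompl_eq_self, pow_orderOf_eq_one]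
    have h3 := (h.trans (orderOf_pow_dvd i)).trans (orderOf_dvd_of_pow_eq_one h2)
    have h4 := (Nat.prime_dvd_prime_iff_eq hp Nat.prime_two).1 (hp.dvd_of_dvd_pow h3)
    subst h4
    exact absurd hodd (by decide)
  have hgS : ∀ {k : Γ}, k ∈ Subgroup.normalizer ((S : Subgroup Γ) : Set Γ) →
      ∀ r ∈ (S : Subgroup Γ), k * r * k⁻¹ ∈ (S : Subgroup Γ) := fun hk r hr =>
    (Subgroup.mem_normalizer_iff.1 hk r).1 hr
  -- it acts without fixed points
  have hz2 : z⁻¹ ≠ z := fun e => by
    have h2 : z ^ 2 = 1 := by rw [sq]; nth_rw 1 [← e]; exact inv_mul_cancel z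
    have h3 := orderOf_dvd_of_pow_eq_one h2
    have h4 : orderOf z = p := orderOf_eq_prime (hexp z hzS) hz1
    rw [h4] at h3
    have h5 := (Nat.prime_dvd_prime_iff_eq hp Nat.prime_two).1 h3
    subst h5
    exact absurd hodd (by decide)
  have hfpf : ∀ x ∈ (S : Subgroup Γ), g * x * g⁻¹ = x → x = 1 := by
    intro x hx hgx
    by_contra hx1
    let R : Subgroup Γ := (S : Subgroup Γ) ⊓ Subgroup.centralizer ({x} : Set Γ)
    have hzR : z ∈ R := ⟨hzS, Subgroup.mem_centralizer_singleton_iff.2 (hzcomm x hx).eq.symm⟩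
    have hRn : ∀ r ∈ R, g * r * g⁻¹ ∈ R := fun r hr => by
      refine ⟨hgS hgN r hr.1, Subgroup.mem_centralizer_singleton_iff.2 ?_⟩
      have h5 := Subgroup.mem_centralizer_singleton_iff.1 hr.2
      calc g * r * g⁻¹ * x = g * r * g⁻¹ * (g * x * g⁻¹) := by rw [hgx]
        _ = g * (r * x) * g⁻¹ := by group
        _ = g * (x * r) * g⁻¹ := by rw [h5]
        _ = (g * x * g⁻¹) * (g * r * g⁻¹) := by group
        _ = x * (g * r * g⁻¹) := by rw [hgx]
    have h6 := hC x hx hx1 g (mul_inv_eq_iff_eq_mul.1 hgx) (by simpa using hgp 1) R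
      (S.isPGroup'.to_le inf_le_left)
      (fun r hr => Subgroup.mem_centralizer_singleton_iff.1 hr.2) hRn z hzR
    exact hz2 (hgz ▸ h6)
  -- its square is trivial on `S`
  have hsq : ∀ x ∈ (S : Subgroup Γ), g * (g * x * g⁻¹) * g⁻¹ = x := by
    intro x hx
    have hgg : Commute (g ^ 2) z := by
      refine mul_inv_eq_iff_eq_mul.1 ?_
      calc g ^ 2 * z * (g ^ 2)⁻¹ = g * (g * z * g⁻¹) * g⁻¹ := by rw [sq]; group
        _ = g * z⁻¹ * g⁻¹ := by rw [hgz]
        _ = (g * z * g⁻¹)⁻¹ := by group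
        _ = z := by rw [hgz, inv_inv]
    have h7 := hC z hzS hz1 (g ^ 2) hgg (hgp 2) S S.isPGroup' hzcomm
      (hgS (Subgroup.pow_mem _ hgN 2)) x hx
    rw [sq] at h7
    refine Eq.trans ?_ h7
    group
  let φ : (S : Subgroup Γ) →* (S : Subgroup Γ) :=
    MonoidHom.mk' (fun x => ⟨g * x * g⁻¹, hgS hgN _ x.2⟩) fun a b => Subtype.ext (by
      show g * ((a : Γ) * b) * g⁻¹ = g * a * g⁻¹ * (g * b * g⁻¹)
      group)
  have hφ : MonoidHom.FixedPointFree φ := fun x hx =>
    Subtype.ext (hfpf x x.2 (congrArg Subtype.val hx))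
  have h2 : Function.Involutive φ := fun x => Subtype.ext (hsq x x.2)
  exact fun x hx y hy =>
    congrArg Subtype.val (hφ.commute_all_of_involutive h2 ⟨x, hx⟩ ⟨y, hy⟩).eq

/-- Regular elements of a group with normal `p`-complement centralize the `p`-subgroups they
normalize. -/
theorem centralizes_of_complement {Γ : Type u} [Group Γ] [Finite Γ] [Fact p.Prime]
    (h : HasNormalPComplement p Γ) {g : Γ} (hg : ¬ p ∣ orderOf g) {R : Subgroup Γ}
    (hR : IsPGroup p R) (hgR : ∀ r ∈ R, g * r * g⁻¹ ∈ R) {r : Γ} (hr : r ∈ R) :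
    g * r * g⁻¹ = r := by
  classical
  obtain ⟨S, N, hN, hc⟩ := h
  haveI := hN
  obtain ⟨k, hk⟩ := S.2.exists_card_eq
  have hidx : N.index = p ^ k := by rw [hc.symm.index_eq_card]; exact hk
  have hgN : g ∈ N := by
    rw [← QuotientGroup.eq_one_iff, ← orderOf_eq_one_iff]
    refine Nat.eq_one_of_dvd_coprimes (((Fact.out : p.Prime).coprime_iff_not_dvd.2 hg).pow_left k) ?_
      (orderOf_map_dvd (QuotientGroup.mk' N) g)
    rw [← hidx]
    exact orderOf_dvd_natCard _
  have hNp : ¬ p ∣ Nat.card N := by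
    rw [← hc.index_eq_card]; exact S.not_dvd_index
  have h1 : g * r * g⁻¹ * r⁻¹ ∈ N := by
    rw [show g * r * g⁻¹ * r⁻¹ = g * (r * g⁻¹ * r⁻¹) by group]
    exact N.mul_mem hgN (hN.conj_mem _ (N.inv_mem hgN) r)
  have h2 : g * r * g⁻¹ * r⁻¹ ∈ R := R.mul_mem (hgR r hr) (R.inv_mem hr)
  obtain ⟨j, hj⟩ := IsPGroup.iff_orderOf.1 hR ⟨_, h2⟩
  rw [← Subgroup.orderOf_coe] at hj
  have h3 : orderOf (g * r * g⁻¹ * r⁻¹) ∣ Nat.card N := Subgroup.orderOf_dvd_natCard N h1
  rw [← mul_inv_eq_one, ← orderOf_eq_one_iff]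
  exact Nat.eq_one_of_dvd_coprimes
    (((Fact.out : p.Prime).coprime_iff_not_dvd.2 hNp).pow_left j) hj.dvd h3

theorem principal_case [Fact p.Prime] (hM : IsPModular p M) (S : Sylow p G)
    (hk : Nat.card (principalBlock M G) = blockRank p (principalBlock M G) + 1) :
    (∀ x ∈ (S : Subgroup G), ∀ y ∈ (S : Subgroup G), x * y = y * x) ∧
      ∀ x ∈ (S : Subgroup G), x ^ p = 1 := by
  classical
  obtain ⟨hconj, hrk⟩ := one_more hM (principal_maximal hM S) hk
  refine elementary_of_conj_nilpotent hM.1 S hconj fun z hz hz1 g hgz hg R hR hRz hgR r hr => ?_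
  set H := Subgroup.centralizer ((Subgroup.zpowers z : Subgroup G) : Set G) with hH
  haveI := Fintype.ofFinite H
  have hHc : IsCentr z H := isCentr_zpowers z
  have hord : ∃ k : ℕ, orderOf z = p ^ k := by
    obtain ⟨k, hk'⟩ := IsPGroup.iff_orderOf.1 S.isPGroup' ⟨z, hz⟩
    exact ⟨k, by rwa [← Subgroup.orderOf_coe] at hk'⟩
  have hind : IsInducedBlock M H (principalBlock M H) (principalBlock M G) := by
    have h1 : oneIrr H ∈ overBlocks M H (principalBlock M G) := by
      rw [overBlocks_principal hM hHc hord]; exact oneIrr_mem hM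
    exact h1
  have hl : blockRank p (principalBlock M H) = 1 := by
    have h2 := blockRank_le_rankSum (p := p) hind
    rw [hrk z hz hz1] at h2
    have := blockRank_pos hM (principalBlock_isPBlock (M := M) (G := H))
    omega
  have hnil : HasNormalPComplement p H :=
    (Cfsg.Agent.S4691.result p M hM).2 ((Cfsg.Agent.S4646.result p M hM).2 hl)
  have hRH : R ≤ H := fun r hr => (hHc r).2 (hRz r hr)
  have h3 := centralizes_of_complement hnil (g := ⟨g, (hHc g).2 hgz⟩)
    (by rwa [← Subgroup.orderOf_coe]) (R := R.subgroupOf H)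
    (hR.of_equiv (Subgroup.subgroupOfEquivOfLe hRH).symm)
    (fun r hr => hgR _ hr) (r := ⟨r, hRH hr⟩) hr
  exact congrArg Subtype.val h3

/-! ### `p`-solvable groups -/

theorem pRegularPart_indFun {T : Subgroup G} [Fintype T] (f : T → ℂ) :
    pRegularPart p (indFun T f) = indFun T (pRegularPart p f) := by
  classical
  funext g
  simp only [pRegularPart_apply, indFun]
  by_cases hg : p ∣ orderOf g
  · rw [if_pos hg, Finset.sum_eq_zero fun x _ => ?_, mul_zero]
    by_cases hx : x⁻¹ * g * x ∈ T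
    · rw [extendByZero_of_mem _ _ hx, pRegularPart_apply, if_pos]
      rw [← Subgroup.orderOf_coe]
      rwa [(show orderOf (x⁻¹ * g * x) = orderOf g by simpa using conj_orderOf x⁻¹ g)]
    · rw [extendByZero_of_not_mem _ _ hx]
  · rw [if_neg hg]
    congr 1
    refine Finset.sum_congr rfl fun x _ => ?_
    by_cases hx : x⁻¹ * g * x ∈ T
    · rw [extendByZero_of_mem _ _ hx, extendByZero_of_mem _ _ hx, pRegularPart_apply, if_neg]
      rw [← Subgroup.orderOf_coe]
      rwa [(show orderOf (x⁻¹ * g * x) = orderOf g by simpa using conj_orderOf x⁻¹ g)]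
    · rw [extendByZero_of_not_mem _ _ hx, extendByZero_of_not_mem _ _ hx]

theorem blockRank_le_of_induced {T : Subgroup G} [Fintype T] {B' : Set (IrrCharacter T)}
    (h : ∀ χ ∈ B, ∃ ψ ∈ B', (χ : G → ℂ) = indFun T (ψ : T → ℂ)) :
    blockRank p B ≤ blockRank p B' := by
  classical
  let L : (T → ℂ) →ₗ[ℂ] (G → ℂ) :=
    { toFun := indFun T, map_add' := indFun_add T, map_smul' := indFun_smul T }
  unfold blockRank
  refine le_trans (Submodule.finrank_mono ?_) (Submodule.finrank_map_le L _)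
  rw [Submodule.map_span]
  refine Submodule.span_mono ?_
  rintro _ ⟨χ, hχ, rfl⟩
  obtain ⟨ψ, hψ, e⟩ := h χ hχ
  exact ⟨_, ⟨ψ, hψ, rfl⟩, by
    show indFun T (pRegularPart p (ψ : T → ℂ)) = pRegularPart p (χ : G → ℂ)
    rw [e, pRegularPart_indFun]⟩

theorem psolvable_case : ∀ (n : ℕ) {G : Type u} [Group G] [Fintype G], Nat.card G ≤ n →
    IsPModular p M → IsPSolvable p G → ∀ (B : Set (IrrCharacter G)) (D : Subgroup G),
      IsPBlock M B → IsDefectGroup p M B D → Nat.card B = blockRank p B + 1 →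
        (∀ x ∈ D, ∀ y ∈ D, x * y = y * x) ∧ ∀ x ∈ D, x ^ p = 1 := by
  intro n
  induction n using Nat.strong_induction_on with
  | _ n ih =>
    intro G _ _ hn hM hsolv B D hB hD hk
    classical
    haveI : Fact p.Prime := ⟨hM.1⟩
    obtain ⟨c, hmax⟩ := exists_maximal_at hM hB hD
    rcases fong_reduction hM hsolv hB hD with ⟨θ, _, hθ, hinv, hmem, S, rfl⟩ |
        ⟨T, _, B', D', x, hT, hB', hD', hx, f, hf⟩
    · obtain ⟨hconj, -⟩ := one_more hM hmax hk
      have hexp := pow_eq_one_of_conj hM.1 S.isPGroup' hconj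
      refine ⟨?_, hexp⟩
      set N := pPrimeCore p G with hN
      set π := QuotientGroup.mk' N with hπ
      have hinj : ∀ d ∈ (S : Subgroup G), π d = 1 → d = 1 := by
        intro d hd h1
        have h2 : d ∈ N := (QuotientGroup.eq_one_iff d).1 h1
        obtain ⟨j, hj⟩ := IsPGroup.iff_orderOf.1 S.isPGroup' ⟨d, hd⟩
        rw [← Subgroup.orderOf_coe] at hj
        rw [← orderOf_eq_one_iff]
        exact Nat.eq_one_of_dvd_coprimes
          (((Fact.out : p.Prime).coprime_iff_not_dvd.2 not_dvd_card_pPrimeCore').pow_left j) hj.dvd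
          (Subgroup.orderOf_dvd_natCard N h2)
      set Q := Cfsg.pCore p (G ⧸ N) with hQ
      haveI : Q.Normal := pCore_normal'
      let Sb : Sylow p (G ⧸ N) := S.mapSurjective (QuotientGroup.mk'_surjective N)
      have hSb : (Sb : Subgroup (G ⧸ N)) = (S : Subgroup G).map π := Sylow.coe_mapSurjective _ _
      have hQS : Q ≤ (S : Subgroup G).map π := hSb ▸ pCore_le_sylow Sb
      intro a ha b hb
      by_cases hS : ∀ d ∈ (S : Subgroup G), d = 1
      · rw [hS a ha, hS b hb]
      push Not at hS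
      obtain ⟨d₀, hd₀, hd₀1⟩ := hS
      have hQne : Q ≠ ⊥ := by
        intro h0
        have h1 := hall_higman (G := G ⧸ N)
          (PSolvableClosure.of_surjective π (QuotientGroup.mk'_surjective N) hsolv)
          (pPrimeCore_quotient_eq_bot p)
        rw [← hQ, h0] at h1
        exact hd₀1 (hinj d₀ hd₀ (Subgroup.mem_bot.1 (h1 fun q hq => by
          rw [Subgroup.mem_bot.1 hq, one_mul, mul_one])))
      have htrans : ∀ x ∈ (S : Subgroup G), ∀ K : Subgroup (G ⧸ N), K.Normal → K ≠ ⊥ →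
          K ≤ (S : Subgroup G).map π → π x ∈ K := by
        intro x hx K hKn hK hKS
        by_cases hx1 : x = 1
        · rw [hx1, map_one]; exact K.one_mem
        obtain ⟨k, hkK, hk1⟩ := (Subgroup.ne_bot_iff_exists_ne_one.1 hK) |>.imp
          (fun k hk => (⟨k.2, fun e => hk (Subtype.ext e)⟩ : _ ∧ _)) |> fun ⟨k, h⟩ =>
            (⟨(k : G ⧸ N), h.1, h.2⟩ : ∃ k : G ⧸ N, k ∈ K ∧ k ≠ 1)
        obtain ⟨y, hy, rfl⟩ := hKS hkK
        obtain ⟨w, hw⟩ := isConj_iff.1 (hconj y hy x hx (fun e => hk1 (by rw [e, map_one])) hx1)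
        rw [← hw, map_mul, map_mul, map_inv]
        exact hKn.conj_mem _ hkK _
      haveI : Nontrivial Q := (Subgroup.nontrivial_iff_ne_bot Q).2 hQne
      have hQp : IsPGroup p Q := (S.isPGroup'.map π).to_le hQS
      haveI := hQp.center_nontrivial
      set Z := (Subgroup.center Q).map Q.subtype with hZ
      haveI : Z.Normal := ConjAct.normal_of_characteristic_of_normal
      have hZne : Z ≠ ⊥ := by
        intro h0
        rw [hZ, Subgroup.map_eq_bot_iff_of_injective _ Q.subtype_injective] at h0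
        exact (Subgroup.nontrivial_iff_ne_bot _).1 inferInstance h0
      have hZQ : Z ≤ Q := Subgroup.map_subtype_le _
      obtain ⟨q, hq, hqa⟩ := htrans a ha Z inferInstance hZne (hZQ.trans hQS)
      have hbQ : π b ∈ Q := htrans b hb Q inferInstance hQne hQS
      have hcomm : π a * π b = π b * π a := by
        rw [← hqa]
        exact (congrArg Subtype.val (Subgroup.mem_center_iff.1 hq ⟨π b, hbQ⟩)).symm
      have h1 : a * b * a⁻¹ * b⁻¹ = 1 := by
        refine hinj _ ((S : Subgroup G).mul_mem ((S : Subgroup G).mul_mem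
          ((S : Subgroup G).mul_mem ha hb) ((S : Subgroup G).inv_mem ha))
          ((S : Subgroup G).inv_mem hb)) ?_
        simp only [map_mul, map_inv, hcomm]
        group
      rwa [mul_inv_eq_one, mul_inv_eq_iff_eq_mul] at h1
    · by_cases hD1 : D = ⊥
      · subst hD1
        refine ⟨fun a ha b hb => ?_, fun a ha => ?_⟩
        · simp only [Subgroup.mem_bot] at ha hb
          rw [ha, hb]
        · simp only [Subgroup.mem_bot] at ha
          rw [ha, one_pow]
      have hcardD : Nat.card D' = Nat.card D := by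
        rw [← hx]
        exact ((Nat.card_congr (Subgroup.equivMapOfInjective D' _ Subtype.coe_injective).toEquiv).trans
          (Nat.card_congr (Subgroup.equivMapOfInjective _ (MulAut.conj x).toMonoidHom
            (MulAut.conj x).injective).toEquiv))
      obtain ⟨c', hmax'⟩ := exists_maximal_at hM hB' hD'
      have hk' : Nat.card B' = Nat.card B := Nat.card_congr f
      have hl : blockRank p B ≤ blockRank p B' := blockRank_le_of_induced fun χ hχ => by
        refine ⟨(f.symm ⟨χ, hχ⟩).1, (f.symm ⟨χ, hχ⟩).2, ?_⟩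
        have h1 := (hf (f.symm ⟨χ, hχ⟩)).1
        rw [Equiv.apply_symm_apply] at h1
        exact h1
      have hne' : ∃ y ∈ D', y ≠ 1 := by
        by_contra h0
        push Not at h0
        refine hD1 (Subgroup.card_eq_one.1 ?_)
        rw [← hcardD]
        exact Subgroup.card_eq_one.2 ((Subgroup.eq_bot_iff_forall _).2 h0)
      obtain ⟨y, hy, hy1⟩ := hne'
      have h2 : blockRank p B' + 1 ≤ Nat.card B' := by
        haveI := Fintype.ofFinite
          (Subgroup.centralizer ((Subgroup.zpowers (1 : T) : Subgroup T) : Set T))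
        obtain ⟨k, hky⟩ := IsPGroup.iff_orderOf.1 hmax'.1.1.1 ⟨y, hy⟩
        rw [← Subgroup.orderOf_coe] at hky
        have h := sum_rankSum_le hM hB' {1, y} (fun s hs => by
          simp only [Finset.mem_insert, Finset.mem_singleton] at hs
          rcases hs with rfl | rfl
          · exact ⟨0, by simp⟩
          · exact ⟨k, hky⟩) (fun s hs t ht hst => by
          simp only [Finset.mem_insert, Finset.mem_singleton] at hs ht
          rcases hs with rfl | rfl <;> rcases ht with rfl | rfl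
          · rfl
          · exact absurd (isConj_one_right.1 hst) hy1
          · exact absurd (isConj_one_right.1 hst.symm) hy1
          · rfl)
        rw [Finset.sum_insert (by simpa using Ne.symm hy1), Finset.sum_singleton,
          rankSum_central hM (isCentr_zpowers 1) ⟨0, by simp⟩ (Subgroup.one_mem _) hB'] at h
        have := rankSum_pos hM hmax' hy
        omega
      have hlt : Nat.card T < Nat.card G :=
        lt_of_le_of_ne (Subgroup.card_le_card_group _) fun h => hT (Subgroup.eq_top_of_card_eq _ h)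
      obtain ⟨h3, h4⟩ := ih _ (lt_of_lt_of_le hlt hn) le_rfl hM
        (isPSolvable_subgroup hM.1 hsolv T) B' D' hB' hD' (by omega)
      rw [← hx]
      refine ⟨?_, ?_⟩
      · rintro _ ⟨_, ⟨a, ha, rfl⟩, rfl⟩ _ ⟨_, ⟨b, hb, rfl⟩, rfl⟩
        rw [← map_mul, ← map_mul, ← map_mul, ← map_mul, h3 a ha b hb]
      · rintro _ ⟨_, ⟨a, ha, rfl⟩, rfl⟩
        rw [← map_pow, ← map_pow, h4 a ha, map_one, map_one]

/-- If `k(B) = l(B) + 1` then the defect groups are elementary abelian, for principal blocks and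
for `p`-solvable groups. -/
theorem elementary_of_one_more [Fact p.Prime] (hM : IsPModular p M) (hB : IsPBlock M B)
    {D : Subgroup G} (hD : IsDefectGroup p M B D) (hk : Nat.card B = blockRank p B + 1)
    (h0 : B = principalBlock M G ∨ IsPSolvable p G) : IsElementaryAbelian p D := by
  classical
  suffices h : (∀ x ∈ D, ∀ y ∈ D, x * y = y * x) ∧ ∀ x ∈ D, x ^ p = 1 from
    ⟨⟨⟨fun a b => Subtype.ext (h.1 _ a.2 _ b.2)⟩⟩, h.2⟩
  rcases h0 with rfl | hs
  · obtain ⟨S⟩ := (inferInstance : Nonempty (Sylow p G))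
    obtain ⟨h3, h4⟩ := principal_case hM S hk
    obtain ⟨x, hx⟩ := defectGroup_conjugate hM hB (maximal_isDefectGroup hM (principal_maximal hM S)) hD
    rw [← hx]
    refine ⟨?_, ?_⟩
    · rintro _ ⟨a, ha, rfl⟩ _ ⟨b, hb, rfl⟩
      rw [← map_mul, ← map_mul, h3 a ha b hb]
    · rintro _ ⟨a, ha, rfl⟩
      rw [← map_pow, h4 a ha, map_one]
  · exact psolvable_case (p := p) (M := M) _ le_rfl hM hs B D hB hD hk

end CfsgLib.Blocks
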