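import Mathlib

/-!
# Integral eigen lattices of scaled projections with small rank
-/

namespace CfsgLib.Blocks.EigenLattice

variable {ι : Type*} [Fintype ι] (Q : ι → ι → ℤ) (P : ℤ)

/-- The integral vectors fixed by `Q / P`. -/
def lat : Submodule ℤ (ι → ℤ) where
  carrier := {u | ∀ φ, ∑ ψ, Q φ ψ * u ψ = P * u φ}
  add_mem' := fun {u v} hu hv φ => by
    simp only [Pi.add_apply, mul_add, Finset.sum_add_distrib, hu φ, hv φ]
  zero_mem' := fun φ => by simp
  smul_mem' := fun r u hu φ => by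
    simp only [Pi.smul_apply, smul_eq_mul, mul_left_comm _ r, ← Finset.mul_sum, hu φ]

variable {Q P}

theorem mem_lat {u : ι → ℤ} : u ∈ lat Q P ↔ ∀ φ, ∑ ψ, Q φ ψ * u ψ = P * u φ := Iff.rfl

/-- Euclidean pairing. -/
def ip (u v : ι → ℤ) : ℤ := ∑ φ, u φ * v φ

theorem ip_comm (u v : ι → ℤ) : ip u v = ip v u :=
  Finset.sum_congr rfl fun _ _ => mul_comm _ _

theorem ip_add_left (u v w : ι → ℤ) : ip (u + v) w = ip u w + ip v w := by
  simp only [ip, Pi.add_apply, add_mul, Finset.sum_add_distrib]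

theorem ip_neg_left (u w : ι → ℤ) : ip (-u) w = -ip u w := by
  simp only [ip, Pi.neg_apply, neg_mul, Finset.sum_neg_distrib]

theorem ip_smul_left (r : ℤ) (u w : ι → ℤ) : ip (r • u) w = r * ip u w := by
  simp only [ip, Pi.smul_apply, smul_eq_mul, mul_assoc, Finset.mul_sum]

theorem ip_self_nonneg (u : ι → ℤ) : 0 ≤ ip u u :=
  Finset.sum_nonneg fun _ _ => mul_self_nonneg _

theorem ip_self_pos {u : ι → ℤ} (h : u ≠ 0) : 0 < ip u u := by
  obtain ⟨φ, hφ⟩ := Function.ne_iff.1 h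
  exact Finset.sum_pos' (fun _ _ => mul_self_nonneg _)
    ⟨φ, Finset.mem_univ _, mul_self_pos.2 hφ⟩

/-- A pair of vectors forming a basis of the lattice. -/
def IsGen (u v : lat Q P) : Prop :=
  (∀ x : lat Q P, ∃ i j : ℤ, x = i • u + j • v) ∧
    ∀ i j : ℤ, i • u + j • v = 0 → i = 0 ∧ j = 0

theorem IsGen.shear {u v : lat Q P} (h : IsGen u v) (r : ℤ) : IsGen u (v + r • u) := by
  refine ⟨fun x => ?_, fun i j hij => ?_⟩
  · obtain ⟨i, j, rfl⟩ := h.1 x
    exact ⟨i - j * r, j, by module⟩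
  · have := h.2 (i + j * r) j (by rw [← hij]; module)
    exact ⟨by simpa [this.2] using this.1, this.2⟩

theorem IsGen.swap {u v : lat Q P} (h : IsGen u v) : IsGen v u := by
  refine ⟨fun x => ?_, fun i j hij => (h.2 j i (by rw [← hij]; module)).symm⟩
  obtain ⟨i, j, rfl⟩ := h.1 x
  exact ⟨j, i, by module⟩

theorem IsGen.neg {u v : lat Q P} (h : IsGen u v) : IsGen u (-v) := by
  refine ⟨fun x => ?_, fun i j hij => ?_⟩
  · obtain ⟨i, j, rfl⟩ := h.1 x
    exact ⟨i, -j, by module⟩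
  · have := h.2 i (-j) (by rw [← hij]; module)
    exact ⟨this.1, neg_eq_zero.1 this.2⟩

theorem coe_comb (u v : lat Q P) (i j : ℤ) :
    ((i • u + j • v : lat Q P) : ι → ℤ) = i • (u : ι → ℤ) + j • (v : ι → ℤ) := rfl

/-- A reduced basis. -/
theorem exists_reduced {u₀ v₀ : lat Q P} (h₀ : IsGen u₀ v₀) :
    ∃ u v : lat Q P, IsGen u v ∧ 0 ≤ ip (u : ι → ℤ) v ∧
      2 * ip (u : ι → ℤ) v ≤ ip (u : ι → ℤ) u ∧ 2 * ip (u : ι → ℤ) v ≤ ip (v : ι → ℤ) v := by
  classical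
  have hex : ∃ m : ℕ, ∃ u v : lat Q P, IsGen u v ∧
      (ip (u : ι → ℤ) u + ip (v : ι → ℤ) v).toNat = m := ⟨_, u₀, v₀, h₀, rfl⟩
  obtain ⟨u, v, h, hm⟩ := Nat.find_spec hex
  have hmin : ∀ u' v' : lat Q P, IsGen u' v' →
      ip (u : ι → ℤ) u + ip (v : ι → ℤ) v ≤ ip (u' : ι → ℤ) u' + ip (v' : ι → ℤ) v' := by
    intro u' v' h'
    have h1 : Nat.find hex ≤ (ip (u' : ι → ℤ) u' + ip (v' : ι → ℤ) v').toNat :=
      Nat.find_min' hex ⟨u', v', h', rfl⟩
    have h2 := add_nonneg (ip_self_nonneg (u : ι → ℤ)) (ip_self_nonneg (v : ι → ℤ))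
    have h3 := add_nonneg (ip_self_nonneg (u' : ι → ℤ)) (ip_self_nonneg (v' : ι → ℤ))
    omega
  have key : ∀ u v : lat Q P, ∀ r : ℤ, ip ((v + r • u : lat Q P) : ι → ℤ) (v + r • u : lat Q P) =
      ip (v : ι → ℤ) v + 2 * r * ip (u : ι → ℤ) v + r ^ 2 * ip (u : ι → ℤ) u := by
    intro u v r
    simp only [ip, Submodule.coe_add, Submodule.coe_smul, Pi.add_apply, Pi.smul_apply, smul_eq_mul,
      Finset.mul_sum, ← Finset.sum_add_distrib]
    exact Finset.sum_congr rfl fun _ _ => by ring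
  have h1 := hmin _ _ (h.shear 1)
  have h2 := hmin _ _ (h.shear (-1))
  have h3 := hmin _ _ (h.swap.shear 1)
  have h4 := hmin _ _ (h.swap.shear (-1))
  rw [key] at h1 h2 h3 h4
  rw [ip_comm (v : ι → ℤ) u] at h3 h4
  rcases le_or_gt 0 (ip (u : ι → ℤ) v) with hb | hb
  · exact ⟨u, v, h, hb, by linarith, by linarith⟩
  · have e1 : ip (u : ι → ℤ) ((-v : lat Q P) : ι → ℤ) = -ip (u : ι → ℤ) v := by
      rw [ip_comm, Submodule.coe_neg, ip_neg_left, ip_comm]
    have e2 : ip ((-v : lat Q P) : ι → ℤ) ((-v : lat Q P) : ι → ℤ) = ip (v : ι → ℤ) v := by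
      rw [Submodule.coe_neg, ip_neg_left, ip_comm, ip_neg_left, neg_neg]
    exact ⟨u, -v, h.neg, by rw [e1]; linarith, by rw [e1]; linarith, by rw [e1, e2]; linarith⟩

/-- The arithmetic of a reduced form with nonzero middle term. -/
theorem reduced_bound {a b c P : ℤ} (hP : 0 < P) (hb : 1 ≤ b) (h1 : 2 * b ≤ a) (h2 : 2 * b ≤ c)
    (da : (a * c - b ^ 2) ∣ P * a) (db : (a * c - b ^ 2) ∣ P * b) (dc : (a * c - b ^ 2) ∣ P * c) :
    a + c - b ≤ P := by
  obtain ⟨g, hg⟩ : ∃ g : ℤ, g = gcd (gcd a b) c := ⟨_, rfl⟩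
  have hgd : (a * c - b ^ 2) ∣ P * g := by
    have hP' : normalize P = P := Int.normalize_of_nonneg hP.le
    have e : ∀ y z : ℤ, P * gcd y z = gcd (P * y) (P * z) := fun y z => by
      rw [gcd_mul_left, hP']
    rw [hg, e, e]
    exact dvd_gcd (dvd_gcd da db) dc
  obtain ⟨a', ha⟩ : g ∣ a := hg ▸ (gcd_dvd_left _ _).trans (gcd_dvd_left _ _)
  obtain ⟨b', hb'⟩ : g ∣ b := hg ▸ (gcd_dvd_left _ _).trans (gcd_dvd_right _ _)
  obtain ⟨c', hc⟩ : g ∣ c := hg ▸ gcd_dvd_right _ _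
  have hg0 : 0 < g := by
    have h0 : 0 ≤ g := by
      rw [hg]; exact Int.nonneg_of_normalize_eq_self (normalize_gcd _ _)
    rcases h0.lt_or_eq with h | h
    · exact h
    · rw [← h, zero_mul] at hb'; omega
  subst ha hb' hc
  have hb1 : 1 ≤ b' := by nlinarith
  have ha1 : 2 * b' ≤ a' := by nlinarith
  have hc1 : 2 * b' ≤ c' := by nlinarith
  have hn : 0 < a' * c' - b' ^ 2 := by nlinarith
  have hd : g * (a' * c' - b' ^ 2) ∣ P := by
    rw [show g * a' * (g * c') - (g * b') ^ 2 = g * (a' * c' - b' ^ 2) * g by ring] at hgd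
    exact Int.dvd_of_mul_dvd_mul_right hg0.ne' hgd
  have hle := Int.le_of_dvd hP hd
  have key : a' + c' - b' ≤ a' * c' - b' ^ 2 := by
    nlinarith [mul_le_mul (show 2 * b' - 1 ≤ a' - 1 by linarith) (show 2 * b' - 1 ≤ c' - 1 by linarith)
      (by linarith) (by linarith)]
  nlinarith

variable (hsymm : ∀ φ ψ, Q φ ψ = Q ψ φ)
  (hidem : ∀ φ χ, ∑ ψ, Q φ ψ * Q ψ χ = P * Q φ χ)

include hidem in
theorem col_mem (χ : ι) : (fun φ => Q φ χ) ∈ lat Q P := fun φ => hidem φ χ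

include hsymm hidem in
/-- Coordinates of the columns, and the trace. -/
theorem exists_coords {n : ℕ} (B : Module.Basis (Fin n) ℤ (lat Q P)) :
    ∃ C : Fin n → lat Q P, (∀ φ χ, Q φ χ = ∑ i, (C i : ι → ℤ) χ * (B i : ι → ℤ) φ) ∧
      (∀ i j, ip (C j : ι → ℤ) (B i : ι → ℤ) = if i = j then P else 0) ∧
      ∑ φ, Q φ φ = (n : ℤ) * P := by
  classical
  set cf : Fin n → ι → ℤ := fun i χ => B.repr ⟨fun φ => Q φ χ, col_mem hidem χ⟩ i with hcf
  have hcol : ∀ φ χ, Q φ χ = ∑ i, cf i χ * (B i : ι → ℤ) φ := by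
    intro φ χ
    have h := congrArg (fun x : lat Q P => (x : ι → ℤ) φ)
      (B.sum_repr ⟨fun φ => Q φ χ, col_mem hidem χ⟩)
    simp only [Submodule.coe_sum, Finset.sum_apply, Submodule.coe_smul, Pi.smul_apply, smul_eq_mul] at h
    exact h.symm
  have hind : ∀ f : Fin n → ℤ, (∀ φ, ∑ i, f i * (B i : ι → ℤ) φ = 0) → ∀ i, f i = 0 := by
    intro f hf
    refine Fintype.linearIndependent_iff.1 B.linearIndependent f ?_
    apply Subtype.ext
    funext φ
    simpa [Finset.sum_apply] using hf φ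
  have hmem : ∀ i, cf i ∈ lat Q P := by
    intro i χ
    refine sub_eq_zero.1 (hind (fun i => ∑ ψ, Q χ ψ * cf i ψ - P * cf i χ) (fun φ => ?_) i)
    simp only [sub_mul, Finset.sum_sub_distrib, Finset.sum_mul, mul_assoc]
    rw [Finset.sum_comm, ← Finset.mul_sum, ← hcol φ χ, ← hidem φ χ]
    rw [sub_eq_zero]
    refine Finset.sum_congr rfl fun ψ _ => ?_
    rw [← Finset.mul_sum, ← hcol φ ψ, hsymm χ ψ, mul_comm]
  refine ⟨fun i => ⟨cf i, hmem i⟩, hcol, fun i j => ?_, ?_⟩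
  · have h : ∀ φ, ∑ k, ip (cf k) (B i : ι → ℤ) * (B k : ι → ℤ) φ = P * (B i : ι → ℤ) φ := by
      intro φ
      rw [← (B i).2 φ]
      simp only [hcol, ip, Finset.sum_mul]
      rw [Finset.sum_comm]
      exact Finset.sum_congr rfl fun ψ _ => Finset.sum_congr rfl fun k _ => by ring
    refine sub_eq_zero.1 (hind (fun k => ip (cf k) (B i : ι → ℤ) - if i = k then P else 0)
      (fun φ => ?_) j)
    simp only [sub_mul, Finset.sum_sub_distrib, ite_mul, zero_mul, Finset.sum_ite_eq,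
      Finset.mem_univ, if_true, h, sub_self]
  · have h : ∀ i, ip (cf i) (B i : ι → ℤ) = P := by
      intro i
      have h : ∀ φ, ∑ k, ip (cf k) (B i : ι → ℤ) * (B k : ι → ℤ) φ = P * (B i : ι → ℤ) φ := by
        intro φ
        rw [← (B i).2 φ]
        simp only [hcol, ip, Finset.sum_mul]
        rw [Finset.sum_comm]
        exact Finset.sum_congr rfl fun ψ _ => Finset.sum_congr rfl fun k _ => by ring
      have h2 := sub_eq_zero.1 (hind (fun k => ip (cf k) (B i : ι → ℤ) - if i = k then P else 0)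
        (fun φ => by
          simp only [sub_mul, Finset.sum_sub_distrib, ite_mul, zero_mul, Finset.sum_ite_eq,
            Finset.mem_univ, if_true, h, sub_self]) i)
      simpa using h2
    simp only [hcol]
    rw [Finset.sum_comm]
    calc ∑ i, ∑ φ, cf i φ * (B i : ι → ℤ) φ = ∑ i : Fin n, P := Finset.sum_congr rfl fun i _ => h i
      _ = (n : ℤ) * P := by simp

end CfsgLib.Blocks.EigenLattice
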