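import Cfsg.Agent.Lib.Blocks.AlperinDade
import Cfsg.Agent.Lib.CharTheory.CanonicalGalois
import Cfsg.Agent.Lib.CharTheory.DetOrbit
import Cfsg.Agent.Lib.CharTheory.AbelianInertia
import Cfsg.Agent.Lib.CharTheory.RootFieldFixed

/-!
# `p`-rational extensions in the principal block

`N` is a normal subgroup, `Q` a Sylow `p`-subgroup of `N`, and every element of `G ⧸ N` of order
prime to `p` has a representative centralizing `Q`.  A `G`-invariant `p`-rational character of
degree prime to `p` in the principal block of `N` then has a `p`-rational extension in the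
principal block of `G` (`p` odd).
-/

namespace CfsgLib.Blocks.PRatExt

open Cfsg CfsgLib.CharTheory CfsgLib.Blocks
open scoped ComplexConjugate

set_option linter.unusedVariables false
set_option linter.unusedSimpArgs false
set_option linter.style.haveILetI false
set_option linter.unusedSectionVars false

universe u

variable {p : ℕ} {M : Ideal AlgInt} {G : Type u} [Group G] [Fintype G]

/-- Galois conjugation fixes the principal block. -/
theorem powIrr_principal (hM : IsPModular p M) {k : ℕ} (hk : k.Coprime (Nat.card G))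
    {χ : IrrCharacter G} (hχ : χ ∈ principalBlock M G) :
    powIrr hk χ ∈ principalBlock M G := by
  intro g
  have hcentr : Subgroup.centralizer ({g ^ k} : Set G) = Subgroup.centralizer ({g} : Set G) := by
    obtain ⟨m, hm⟩ := exists_pow_eq_self_of_coprime
      (hk.coprime_dvd_right (orderOf_dvd_natCard g))
    ext c
    simp only [Subgroup.mem_centralizer_singleton_iff]
    constructor
    · intro h
      have h' : Commute c (g ^ k) := h
      have h2 := h'.pow_right m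
      rw [hm] at h2
      exact h2
    · intro h
      have h' : Commute c g := h
      exact h'.pow_right k
  have h := hχ (g ^ k)
  simp only [Cfsg.centralChar, hcentr] at h ⊢
  show Cfsg.MemLocalIdeal M (_ - _ * (χ : G → ℂ) (g ^ k) / (χ : G → ℂ) (1 ^ k))
  rw [one_pow]
  exact h

/-- For odd `p` the determinant of a `p`-rational character has order prime to `p`. -/
theorem not_dvd_orderOf_det [hp : Fact p.Prime] (hodd : p ≠ 2) {a n : ℕ} (hn : ¬ p ∣ n)
    (hG : Nat.card G ∣ p ^ a * n) {χ : G → ℂ} (hχ : IsIrrCharacter G χ)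
    (hfix : ∀ k : ℕ, k.Coprime (p ^ a * n) → k ≡ 1 [MOD n] → ∀ g, χ (g ^ k) = χ g)
    (μ : G →* ℂˣ) (hμ : detChar χ = fun g => (μ g : ℂ)) : ¬ p ∣ orderOf μ := by
  intro hpo
  have ho : orderOf μ ∣ Nat.card G := orderOf_dvd_of_pow_eq_one (MonoidHom.ext fun g => by
    rw [MonoidHom.pow_apply, ← map_pow, pow_card_eq_one', map_one, MonoidHom.one_apply])
  have hcop : (p ^ a).Coprime n := (hp.out.coprime_iff_not_dvd.2 hn).pow_left a
  obtain ⟨k, hk1, hk2⟩ := Nat.chineseRemainder hcop 2 1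
  have ha : 0 < a := by
    rcases Nat.eq_zero_or_pos a with rfl | ha
    · exact absurd (by simpa using (hpo.trans ho).trans hG) hn
    · exact ha
  have hk1' : k ≡ 2 [MOD p] := hk1.of_dvd (dvd_pow_self p ha.ne')
  have hkc : k.Coprime (p ^ a * n) := by
    refine Nat.Coprime.mul_right (Nat.Coprime.pow_right a ?_)
      (Nat.coprime_of_mul_modEq_one 1 (by rw [mul_one]; exact hk2))
    refine (hp.out.coprime_iff_not_dvd.2 fun hd => ?_).symm
    have h2 : p ∣ 2 := (hk1'.dvd_iff dvd_rfl).1 hd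
    exact hodd ((Nat.prime_dvd_prime_iff_eq hp.out Nat.prime_two).1 h2)
  have hkG : k.Coprime (Nat.card G) := hkc.coprime_dvd_right hG
  have hμk : μ ^ k = μ := MonoidHom.ext fun g => Units.ext (by
    have h := detChar_pow hχ hkG g
    rw [show (fun g => χ (g ^ k)) = χ from funext (hfix k hkc hk2), hμ] at h
    simp only at h
    rw [map_pow] at h
    rw [MonoidHom.pow_apply]
    exact h.symm)
  have h1 : k ≡ 1 [MOD orderOf μ] := by
    have hfin : IsOfFinOrder μ :=
      orderOf_pos_iff.1 (Nat.pos_of_ne_zero fun h => Nat.card_pos.ne' (Nat.eq_zero_of_zero_dvd (h ▸ ho)))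
    exact hfin.pow_eq_pow_iff_modEq.1 (hμk.trans (pow_one μ).symm)
  have h2 : (2 : ℕ) ≡ 1 [MOD p] := hk1'.symm.trans (h1.of_dvd hpo)
  have h3 := (Nat.modEq_iff_dvd' (by norm_num : 1 ≤ 2)).1 h2.symm
  exact hp.out.one_lt.ne' (Nat.dvd_one.1 h3)

variable {N Q : Subgroup G} [hN : N.Normal]

/-- The hypotheses on `N` and `Q`. -/
structure Supp (p : ℕ) (N Q : Subgroup G) [N.Normal] : Prop where
  le : Q ≤ N
  idx : ¬ p ∣ Q.relIndex N
  cov : ∀ g : G, ¬ p ∣ orderOf (g : G ⧸ N) →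
    ∃ c ∈ Subgroup.centralizer (Q : Set G), (c : G ⧸ N) = (g : G ⧸ N)

/-- The preimage of a subgroup of the factor group. -/
abbrev pre (N : Subgroup G) [N.Normal] (E : Subgroup (G ⧸ N)) : Subgroup G :=
  E.comap (QuotientGroup.mk' N)

theorem N_le_pre (E : Subgroup (G ⧸ N)) : N ≤ pre N E := fun x hx => by
  show (x : G ⧸ N) ∈ E
  rw [(QuotientGroup.eq_one_iff x).2 hx]
  exact E.one_mem

theorem mem_pre {E : Subgroup (G ⧸ N)} {x : G} : x ∈ pre N E ↔ (x : G ⧸ N) ∈ E := Iff.rfl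

/-- The canonical inclusion of `N`. -/
def nInc (E : Subgroup (G ⧸ N)) (x : N) : pre N E := ⟨x, N_le_pre E x.2⟩

theorem relIndex_pre (E : Subgroup (G ⧸ N)) : N.relIndex (pre N E) = Nat.card E := by
  set f : ↥(pre N E) →* G ⧸ N := (QuotientGroup.mk' N).comp (pre N E).subtype with hf
  have hker : f.ker = N.subgroupOf (pre N E) := by
    ext x
    rw [MonoidHom.mem_ker, Subgroup.mem_subgroupOf]
    exact QuotientGroup.eq_one_iff (x : G)
  have hrange : f.range = E := by
    rw [hf, MonoidHom.range_comp, Subgroup.range_subtype]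
    exact Subgroup.map_comap_eq_self_of_surjective (QuotientGroup.mk'_surjective N) E
  rw [Subgroup.relIndex, ← hker, Subgroup.index_ker, hrange]

theorem Supp.centSupp (hp : p.Prime) (h : Supp p N Q) {E : Subgroup (G ⧸ N)}
    (hE : ¬ p ∣ Nat.card E) :
    CentSupp p (N.subgroupOf (pre N E)) (Q.subgroupOf (pre N E)) := by
  refine ⟨fun x hx => h.le hx, ?_, (Subgroup.eq_top_iff' _).2 fun x => ?_⟩
  · show ¬ p ∣ Q.relIndex (pre N E)
    rw [← Subgroup.relIndex_mul_relIndex Q N (pre N E) h.le (N_le_pre E), relIndex_pre]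
    exact fun hd => (hp.dvd_mul.1 hd).elim h.idx hE
  · obtain ⟨c, hc, hcx⟩ := h.cov x fun hd => hE (hd.trans (Subgroup.orderOf_dvd_natCard E x.2))
    have hn : (x : G) * c⁻¹ ∈ N := by
      rw [← QuotientGroup.eq_one_iff, QuotientGroup.mk_mul, QuotientGroup.mk_inv, hcx,
        mul_inv_cancel]
    have hcH : c ∈ pre N E := mem_pre.2 (hcx ▸ x.2)
    rw [show x = (⟨(x : G) * c⁻¹, N_le_pre E hn⟩ : pre N E) * ⟨c, hcH⟩ from
      Subtype.ext (by simp)]
    exact Subgroup.mul_mem_sup hn fun y hy => Subtype.ext (hc (y : G) hy)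

theorem res_irr (θ : IrrCharacter N) {H : Subgroup G} (hNH : N ≤ H) {f : H → ℂ}
    (hf : ∀ x : N, f ⟨x, hNH x.2⟩ = (θ : N → ℂ) x) :
    IsIrrCharacter (N.subgroupOf H) (fun x : N.subgroupOf H => f x) := by
  rw [show (fun x : N.subgroupOf H => f x) =
    fun x => (θ : N → ℂ) (Subgroup.subgroupOfEquivOfLe hNH x) from
      funext fun x => hf (Subgroup.subgroupOfEquivOfLe hNH x)]
  exact isIrrCharacter_comp_surjective θ.2 (Subgroup.subgroupOfEquivOfLe hNH).toMonoidHom
    (Subgroup.subgroupOfEquivOfLe hNH).surjective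

/-- A homomorphism trivial on `N` is determined by its product with an extension. -/
theorem hom_unique {θ : IrrCharacter N} {H : Subgroup G} (hNH : N ≤ H) {χ : H → ℂ}
    (hχ : IsCharacter H χ) (hχN : ∀ x : N, χ ⟨x, hNH x.2⟩ = (θ : N → ℂ) x) {f f' : H →* ℂˣ}
    (hf : ∀ x : N, f ⟨x, hNH x.2⟩ = 1) (hf' : ∀ x : N, f' ⟨x, hNH x.2⟩ = 1)
    (he : ∀ y, (f y : ℂ) * χ y = (f' y : ℂ) * χ y) : f = f' := by
  classical
  haveI := Fintype.ofFinite H
  haveI := Fintype.ofFinite (N.subgroupOf H)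
  haveI : (N.subgroupOf H).Normal := Subgroup.normal_subgroupOf
  have hk : ∀ φ : H →* ℂˣ, (∀ x : N, φ ⟨x, hNH x.2⟩ = 1) →
      ∀ x ∈ N.subgroupOf H, (φ x : ℂ) = (φ 1 : ℂ) := fun φ hφ x hx => by
    rw [map_one, show φ x = 1 from hφ ⟨x, hx⟩]
  have h := (gallagher (N.subgroupOf H) hχ (res_irr θ hNH hχN)).2.1 _ _
    (isIrrCharacter_linear f) (hk f hf) (isIrrCharacter_linear f') (hk f' hf') (funext he)
  exact MonoidHom.ext fun y => Units.ext (congrFun h y)

/-- A principal extension on a subgroup. -/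
def IsPExt (M : Ideal AlgInt) (θ : IrrCharacter N) (E : Subgroup (G ⧸ N))
    (η : IrrCharacter (pre N E)) : Prop :=
  η ∈ principalBlock M (pre N E) ∧
    ∀ x : N, (η : pre N E → ℂ) (nInc E x) = (θ : N → ℂ) x

theorem Supp.exists_pExt (hM : IsPModular p M) (h : Supp p N Q) {θ : IrrCharacter N}
    [Fintype N] (hθ : θ ∈ principalBlock M N) {E : Subgroup (G ⧸ N)}
    (hE : ¬ p ∣ Nat.card E) : ∃ η, IsPExt M θ E η := by
  classical
  haveI : ∀ K : Subgroup G, Fintype K := fun K => Fintype.ofFinite _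
  haveI : (N.subgroupOf (pre N E)).Normal := Subgroup.normal_subgroupOf
  haveI := Fintype.ofFinite (N.subgroupOf (pre N E))
  obtain ⟨η, hη, hηx⟩ := exists_ext_principal hM (h.centSupp hM.1 hE)
    (irrPull_mem_principal hM (Subgroup.subgroupOfEquivOfLe (N_le_pre E)) hθ)
  exact ⟨η, hη, fun x => hηx ⟨nInc E x, x.2⟩⟩

theorem Supp.pExt_unique (hM : IsPModular p M) (h : Supp p N Q) {θ : IrrCharacter N}
    {E : Subgroup (G ⧸ N)} (hE : ¬ p ∣ Nat.card E) {η η' : IrrCharacter (pre N E)}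
    (hη : IsPExt M θ E η) (hη' : IsPExt M θ E η') : η' = η := by
  classical
  haveI : ∀ K : Subgroup G, Fintype K := fun K => Fintype.ofFinite _
  haveI : (N.subgroupOf (pre N E)).Normal := Subgroup.normal_subgroupOf
  haveI := Fintype.ofFinite (N.subgroupOf (pre N E))
  refine eq_of_ext_principal hM (h.centSupp hM.1 hE) hη.1 hη'.1
    (res_irr θ (N_le_pre E) hη.2) ?_
  have e : (fun n : N.subgroupOf (pre N E) => (η' : pre N E → ℂ) n) =
      fun n : N.subgroupOf (pre N E) => (η : pre N E → ℂ) n :=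
    funext fun n => (hη'.2 ⟨n, n.2⟩).trans (hη.2 ⟨n, n.2⟩).symm
  rw [e, classInner_irr_self (res_irr θ (N_le_pre E) hη.2)]
  exact one_ne_zero

theorem Supp.pExt_restrict (hM : IsPModular p M) (h : Supp p N Q) {θ : IrrCharacter N}
    [Fintype N] (hθ : θ ∈ principalBlock M N) {E : Subgroup (G ⧸ N)}
    (hE : ¬ p ∣ Nat.card E) (hnil : Group.IsNilpotent E) {η : IrrCharacter (pre N E)}
    (hη : IsPExt M θ E η) :
    ∀ (d : ℕ) (K : Subgroup (G ⧸ N)) (hKE : K ≤ E) (ηK : IrrCharacter (pre N K)),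
      Nat.card E - Nat.card K = d → IsPExt M θ K ηK →
      ∀ y : pre N K, (ηK : pre N K → ℂ) y =
        (η : pre N E → ℂ) ⟨y, Subgroup.comap_mono hKE y.2⟩ := by
  classical
  haveI : ∀ K : Subgroup G, Fintype K := fun K => Fintype.ofFinite _
  intro d
  induction d using Nat.strong_induction_on with
  | _ d ih =>
  intro K hKE ηK hd hηK y
  rcases eq_or_lt_of_le hKE with rfl | hlt
  · rw [h.pExt_unique hM hE hη hηK]
  have hne : K.subgroupOf E < ⊤ := lt_top_iff_ne_top.2 fun e => hlt.not_ge fun x hx =>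
    Subgroup.mem_subgroupOf.1 (e ▸ Subgroup.mem_top (⟨x, hx⟩ : E))
  have hgrow := normalizerCondition_of_isNilpotent (K.subgroupOf E) hne
  set K1 : Subgroup (G ⧸ N) :=
    (Subgroup.normalizer ((K.subgroupOf E : Subgroup E) : Set E)).map E.subtype with hK1
  have hK1E : K1 ≤ E := Subgroup.map_subtype_le _
  have hKK1 : K < K1 := by
    refine lt_of_le_of_ne (fun x hx => ⟨⟨x, hKE hx⟩, Subgroup.le_normalizer hx, rfl⟩) fun e => ?_
    obtain ⟨z, hz, hz2⟩ := SetLike.exists_of_lt hgrow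
    exact hz2 (show (z : G ⧸ N) ∈ K from e ▸ ⟨z, hz, rfl⟩)
  have hK1p : ¬ p ∣ Nat.card K1 := fun hd' => hE (hd'.trans (Subgroup.card_dvd_of_le hK1E))
  have hKp : ¬ p ∣ Nat.card K := fun hd' => hE (hd'.trans (Subgroup.card_dvd_of_le hKE))
  obtain ⟨η1, hη1⟩ := h.exists_pExt hM hθ hK1p
  have hlt' : Nat.card E - Nat.card K1 < d := by
    have h1 : Nat.card K < Nat.card K1 :=
      Set.Finite.card_lt_card (Set.toFinite (K1 : Set (G ⧸ N))) (SetLike.coe_ssubset_coe.2 hKK1)
    have h2 : Nat.card K1 ≤ Nat.card E := Subgroup.card_le_of_le hK1E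
    omega
  have hle : pre N K ≤ pre N K1 := Subgroup.comap_mono hKK1.le
  haveI hAn : ((pre N K).subgroupOf (pre N K1)).Normal := ⟨fun x hx z => by
    obtain ⟨z', hz', hzz⟩ := z.2
    have hxK : ((x : G) : G ⧸ N) ∈ K := hx
    have hmem : (⟨((x : G) : G ⧸ N), hKE hxK⟩ : E) ∈ K.subgroupOf E := hxK
    have h1 := (Subgroup.mem_normalizer_iff.1 hz' _).1 hmem
    show (((z : G) * x * (z : G)⁻¹ : G) : G ⧸ N) ∈ K
    have hzz' : ((z' : E) : G ⧸ N) = ((z : G) : G ⧸ N) := hzz
    rw [QuotientGroup.mk_mul, QuotientGroup.mk_mul, QuotientGroup.mk_inv, ← hzz']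
    exact h1⟩
  haveI : (N.subgroupOf (pre N K1)).Normal := Subgroup.normal_subgroupOf
  haveI := Fintype.ofFinite (N.subgroupOf (pre N K1))
  haveI := Fintype.ofFinite ((pre N K).subgroupOf (pre N K1))
  obtain ⟨η', hη', hη'eq⟩ := restrict_mem hM
    (show N.subgroupOf (pre N K1) ≤ (pre N K).subgroupOf (pre N K1) from
      fun x hx => N_le_pre K hx) hη1.1 (res_irr θ (N_le_pre K1) hη1.2)
  set e := Subgroup.subgroupOfEquivOfLe hle with he
  have hval : ∀ z : pre N K, (irrPull e.symm η' : pre N K → ℂ) z =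
      (η1 : pre N K1 → ℂ) ⟨z, hle z.2⟩ := fun z => by
    rw [irrPull_apply, hη'eq]; exact congrArg _ (Subtype.ext rfl)
  have heq : irrPull e.symm η' = ηK := h.pExt_unique hM hKp hηK
    ⟨irrPull_mem_principal hM _ hη', fun x => by
      rw [hval, ← hη1.2 x]; rfl⟩
  rw [← heq, hval]
  exact ih _ hlt' K1 hK1E η1 rfl hη1 ⟨y, hle y.2⟩

theorem Supp.exists_nu (hM : IsPModular p M) (h : Supp p N Q) {θ : IrrCharacter N}
    [Fintype N] (hθ : θ ∈ principalBlock M N) {χ0 : G → ℂ} (hχ0 : IsCharacter G χ0)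
    (hχ0N : ∀ x : N, χ0 x = (θ : N → ℂ) x) {E : Subgroup (G ⧸ N)} (hE : ¬ p ∣ Nat.card E) :
    ∃ ν : pre N E →* ℂˣ, (∀ x : N, ν (nInc E x) = 1) ∧ ∀ η : IrrCharacter (pre N E),
      IsPExt M θ E η → ∀ y, (η : pre N E → ℂ) y = (ν y : ℂ) * χ0 y := by
  classical
  haveI : ∀ K : Subgroup G, Fintype K := fun K => Fintype.ofFinite _
  haveI : (N.subgroupOf (pre N E)).Normal := Subgroup.normal_subgroupOf
  haveI := Fintype.ofFinite (N.subgroupOf (pre N E))
  obtain ⟨η, hη⟩ := h.exists_pExt hM hθ hE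
  have hres := res_irr θ (N_le_pre E) (f := fun y => χ0 y) hχ0N
  obtain ⟨β, hβ, hβk, hβe⟩ := (gallagher (N.subgroupOf (pre N E))
    (isCharacter_restrict hχ0 (pre N E)) hres).2.2 _ η.2 (by
      have e : (fun n : N.subgroupOf (pre N E) => (η : pre N E → ℂ) n) =
          fun n : N.subgroupOf (pre N E) => χ0 ((n : pre N E) : G) :=
        funext fun n => (hη.2 ⟨n, n.2⟩).trans (hχ0N ⟨n, n.2⟩).symm
      rw [e, classInner_irr_self hres]
      exact one_ne_zero)
  have hβ1 : β 1 = 1 := by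
    have h1 := congrFun hβe 1
    have h2 := hη.2 1
    have h3 := hχ0N 1
    rw [show nInc E (1 : N) = 1 from Subtype.ext rfl] at h2
    rw [Pi.mul_apply, h2] at h1
    refine (mul_eq_right₀ (irr_one_ne_zero θ)).1 ?_
    have h4 : χ0 ((1 : pre N E) : G) = (θ : N → ℂ) 1 := h3
    rw [h4] at h1
    exact h1.symm
  obtain ⟨ν, hν⟩ := exists_hom_of_degree_one (isCharacter_of_irr hβ) hβ1
  refine ⟨ν, fun x => Units.ext ?_, fun η' hη' y => ?_⟩
  · have := hβk (nInc E x) x.2
    rw [hν] at this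
    simpa using this
  · rw [h.pExt_unique hM hE hη hη', hβe, Pi.mul_apply, hν]

theorem Supp.nu_restrict (hM : IsPModular p M) (h : Supp p N Q) {θ : IrrCharacter N}
    [Fintype N] (hθ : θ ∈ principalBlock M N) {χ0 : G → ℂ} (hχ0 : IsCharacter G χ0)
    (hχ0N : ∀ x : N, χ0 x = (θ : N → ℂ) x) {K E : Subgroup (G ⧸ N)} (hKE : K ≤ E)
    (hE : ¬ p ∣ Nat.card E) (hnil : Group.IsNilpotent E) {νK : pre N K →* ℂˣ}
    {νE : pre N E →* ℂˣ}
    (hνK : (∀ x : N, νK (nInc K x) = 1) ∧ ∀ η : IrrCharacter (pre N K),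
      IsPExt M θ K η → ∀ y, (η : pre N K → ℂ) y = (νK y : ℂ) * χ0 y)
    (hνE : (∀ x : N, νE (nInc E x) = 1) ∧ ∀ η : IrrCharacter (pre N E),
      IsPExt M θ E η → ∀ y, (η : pre N E → ℂ) y = (νE y : ℂ) * χ0 y) :
    ∀ y : pre N K, νK y = νE ⟨y, Subgroup.comap_mono hKE y.2⟩ := by
  have hKp : ¬ p ∣ Nat.card K := fun hd' => hE (hd'.trans (Subgroup.card_dvd_of_le hKE))
  obtain ⟨ηE, hηE⟩ := h.exists_pExt hM hθ hE
  obtain ⟨ηK, hηK⟩ := h.exists_pExt hM hθ hKp
  have he : νK = νE.comp (Subgroup.inclusion (Subgroup.comap_mono hKE)) := by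
    refine hom_unique (N_le_pre K) (isCharacter_restrict hχ0 (pre N K)) hχ0N hνK.1
      (fun x => hνE.1 x) fun y => ?_
    rw [← hνK.2 ηK hηK y, h.pExt_restrict hM hθ hE hnil hηE _ K hKE ηK rfl hηK y,
      hνE.2 ηE hηE]
    rfl
  intro y
  rw [he]
  rfl

theorem isNilpotent_zpowers {H : Type*} [Group H] (g : H) :
    Group.IsNilpotent (Subgroup.zpowers g) := by
  letI : CommGroup (Subgroup.zpowers g) := IsCyclic.commGroup
  exact CommGroup.isNilpotent

theorem Supp.exists_extension (hM : IsPModular p M) (hodd : p ≠ 2) (h : Supp p N Q) [Fintype N]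
    {θ : IrrCharacter N} (hinv : ∀ g : G, conjNormFun N g (θ : N → ℂ) = θ)
    (hdeg : ¬ p ∣ charDegree (θ : N → ℂ)) {a n : ℕ} (hn : ¬ p ∣ n)
    (hG : Nat.card G = p ^ a * n)
    (hfix : ∀ k : ℕ, k.Coprime (p ^ a * n) → k ≡ 1 [MOD n] → ∀ x : N,
      (θ : N → ℂ) (x ^ k) = (θ : N → ℂ) x) (hθ : θ ∈ principalBlock M N) :
    ∃ χ0 : G → ℂ, IsIrrCharacter G χ0 ∧ ∀ x : N, χ0 x = (θ : N → ℂ) x := by
  classical
  haveI : Fact p.Prime := ⟨hM.1⟩
  haveI : ∀ K : Subgroup G, Fintype K := fun K => Fintype.ofFinite _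
  refine exists_extension_of_local θ.2 (fun g x => congrFun (hinv g) x) fun q hq => ?_
  haveI : Fact q.Prime := ⟨hq⟩
  obtain ⟨S⟩ : Nonempty (Sylow q (G ⧸ N)) := inferInstance
  have hidx : ¬ q ∣ (pre N (S : Subgroup (G ⧸ N))).index := by
    rw [Subgroup.index_comap_of_surjective _ (QuotientGroup.mk'_surjective N)]
    exact S.not_dvd_index
  by_cases hqp : q = p
  · subst hqp
    set L := pre N (S : Subgroup (G ⧸ N)) with hL
    haveI : (N.subgroupOf L).Normal := Subgroup.normal_subgroupOf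
    haveI := Fintype.ofFinite (N.subgroupOf L)
    set e := Subgroup.subgroupOfEquivOfLe (N_le_pre (S : Subgroup (G ⧸ N)))
    set θ' : N.subgroupOf L → ℂ := fun x => (θ : N → ℂ) (e x) with hθ'
    have hθ'irr : IsIrrCharacter (N.subgroupOf L) θ' :=
      isIrrCharacter_comp_surjective θ.2 e.toMonoidHom e.surjective
    have hθ'inv : ∀ g : L, conjNormFun (N.subgroupOf L) g θ' = θ' := fun g => funext fun x => by
      exact congrFun (hinv (g : G)) (e x)
    obtain ⟨j, hj⟩ := S.isPGroup'.exists_card_eq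
    have hidx' : (N.subgroupOf L).index = q ^ j :=
      (relIndex_pre (S : Subgroup (G ⧸ N))).trans hj
    have hd : θ' 1 = (charDegree (θ : N → ℂ) : ℕ) := by
      rw [irr_charDegree_cast θ, hθ']
      exact congrArg _ (map_one e)
    obtain ⟨μ, hμ⟩ := exists_detHom (isCharacter_of_irr hθ'irr)
    have hdet : (N.subgroupOf L).index.Coprime (detOrder θ') := by
      rw [hidx', detOrder, hμ, orderOf_homFun]
      refine (hM.1.coprime_iff_not_dvd.2 (not_dvd_orderOf_det (a := a) hodd hn ?_ hθ'irr ?_ μ hμ)).pow_left j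
      · rw [Nat.card_congr e.toEquiv, ← hG]
        exact Subgroup.card_subgroup_dvd_card N
      · intro k hk hk1 x
        simp only [hθ', map_pow]
        exact hfix k hk hk1 (e x)
    obtain ⟨η, hη, hηN, -⟩ := exists_fixed_extension hθ'irr hθ'inv hd
      (by rw [hidx']; exact (hM.1.coprime_iff_not_dvd.2 hdeg).pow_left j) hdet (k := 1)
      (Nat.coprime_one_left _) fun x => by rw [pow_one]
    exact ⟨L, N_le_pre _, η, hidx, isCharacter_of_irr hη, fun x => hηN ⟨⟨x, N_le_pre _ x.2⟩, x.2⟩⟩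
  · have hSp : ¬ p ∣ Nat.card (S : Subgroup (G ⧸ N)) := by
      obtain ⟨j, hj⟩ := S.isPGroup'.exists_card_eq
      rw [hj]
      exact fun hd => hqp ((Nat.prime_dvd_prime_iff_eq hM.1 hq).1 (hM.1.dvd_of_dvd_pow hd)).symm
    obtain ⟨η, hη⟩ := h.exists_pExt hM hθ hSp
    exact ⟨_, N_le_pre _, _, hidx, isCharacter_of_irr η.2, fun x => hη.2 x⟩

/-- The `p`-rational extension in the principal block. -/
theorem Supp.exists_prational (hM : IsPModular p M) (hodd : p ≠ 2) (h : Supp p N Q) [Fintype N]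
    {θ : IrrCharacter N} (hinv : ∀ g : G, conjNormFun N g (θ : N → ℂ) = θ)
    (hdeg : ¬ p ∣ charDegree (θ : N → ℂ)) {a n : ℕ} (hn : ¬ p ∣ n)
    (hG : Nat.card G = p ^ a * n)
    (hfix : ∀ k : ℕ, k.Coprime (p ^ a * n) → k ≡ 1 [MOD n] → ∀ x : N,
      (θ : N → ℂ) (x ^ k) = (θ : N → ℂ) x) (hθ : θ ∈ principalBlock M N) :
    ∃ χ : IrrCharacter G, χ ∈ principalBlock M G ∧
      (∀ k : ℕ, k.Coprime (Nat.card G) → k ≡ 1 [MOD n] → ∀ g, (χ : G → ℂ) (g ^ k) = (χ : G → ℂ) g) ∧
      ∀ x : N, (χ : G → ℂ) x = (θ : N → ℂ) x := by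
  classical
  haveI : Fact p.Prime := ⟨hM.1⟩
  haveI : ∀ K : Subgroup G, Fintype K := fun K => Fintype.ofFinite _
  obtain ⟨χ0, hχ0, hχ0N⟩ := h.exists_extension hM hodd hinv hdeg hn hG hfix hθ
  have hcop : (p ^ a).Coprime n := (hM.1.coprime_iff_not_dvd.2 hn).pow_left a
  have hn0 : n ≠ 0 := fun e => hn (e ▸ dvd_zero p)
  have hdvdn : ∀ m : ℕ, m ∣ Nat.card G → ¬ p ∣ m → m ∣ n := fun m hm hpm =>
    (Nat.Coprime.pow_right a (hM.1.coprime_iff_not_dvd.2 hpm).symm).dvd_of_dvd_mul_left (hG ▸ hm)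
  have hcardE : ∀ E : Subgroup (G ⧸ N), ¬ p ∣ Nat.card E → Nat.card E ∣ n := fun E hE =>
    hdvdn _ ((Subgroup.card_subgroup_dvd_card E).trans (Subgroup.card_quotient_dvd_card N)) hE
  choose ν hν using fun (E : Subgroup (G ⧸ N)) (hE : ¬ p ∣ Nat.card E) =>
    h.exists_nu hM hθ (isCharacter_of_irr hχ0) hχ0N hE
  obtain ⟨u, hu1, hu2⟩ := Nat.chineseRemainder hcop 0 1
  have hun : Nat.card G ∣ u * n := hG ▸ Nat.mul_dvd_mul_right (Nat.modEq_zero_iff_dvd.1 hu1) n
  have hpown : ∀ {E : Subgroup (G ⧸ N)}, ¬ p ∣ Nat.card E → ∀ q ∈ E, q ^ u = q := by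
    intro E hE q hq
    conv_rhs => rw [← pow_one q]
    exact pow_eq_pow_iff_modEq.2
      (hu2.of_dvd ((Subgroup.orderOf_dvd_natCard E hq).trans (hcardE E hE)))
  have hreg : ∀ g : G, ¬ p ∣ Nat.card (Subgroup.zpowers ((g ^ u : G) : G ⧸ N)) := fun g hd => by
    rw [Nat.card_zpowers] at hd
    refine hn (hd.trans (orderOf_dvd_of_pow_eq_one ?_))
    rw [← QuotientGroup.mk_pow, ← pow_mul,
      orderOf_dvd_iff_pow_eq_one.1 ((orderOf_dvd_natCard g).trans hun), QuotientGroup.mk_one]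
  have hmem : ∀ g : G, g ^ u ∈ pre N (Subgroup.zpowers ((g ^ u : G) : G ⧸ N)) := fun g =>
    Subgroup.mem_zpowers _
  set μ : G → ℂ := fun g => (ν _ (hreg g) ⟨g ^ u, hmem g⟩ : ℂ) with hμ
  have hμval : ∀ (E : Subgroup (G ⧸ N)) (hE : ¬ p ∣ Nat.card E), Group.IsNilpotent E →
      ∀ (g : G) (hy : g ^ u ∈ pre N E), μ g = (ν E hE ⟨g ^ u, hy⟩ : ℂ) := by
    intro E hE hnil g hy
    simp only [hμ]
    have h1 := h.nu_restrict hM hθ (isCharacter_of_irr hχ0) hχ0N (Subgroup.zpowers_le.2 hy) hE hnil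
      (hν _ (hreg g)) (hν E hE) ⟨g ^ u, hmem g⟩
    exact congrArg Units.val h1
  have hcls : IsClassFunction G μ := by
    intro g x
    set A := Subgroup.zpowers ((g ^ u : G) : G ⧸ N) with hA
    set B := Subgroup.zpowers (((x * g * x⁻¹) ^ u : G) : G ⧸ N) with hB
    have hgen : (((x * g * x⁻¹) ^ u : G) : G ⧸ N) =
        (x : G ⧸ N) * ((g ^ u : G) : G ⧸ N) * (x : G ⧸ N)⁻¹ := by
      rw [conj_pow, QuotientGroup.mk_mul, QuotientGroup.mk_mul, QuotientGroup.mk_inv]
    have hmap : ∀ y : G, y ∈ pre N A → x * y * x⁻¹ ∈ pre N B := by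
      intro y hy
      obtain ⟨i, hi⟩ := Subgroup.mem_zpowers_iff.1 (mem_pre.1 hy)
      refine mem_pre.2 (Subgroup.mem_zpowers_iff.2 ⟨i, ?_⟩)
      rw [hgen, conj_zpow, hi, QuotientGroup.mk_mul, QuotientGroup.mk_mul, QuotientGroup.mk_inv]
    have hmap' : ∀ y : G, y ∈ pre N B → x⁻¹ * y * x ∈ pre N A := by
      intro y hy
      obtain ⟨i, hi⟩ := Subgroup.mem_zpowers_iff.1 (mem_pre.1 hy)
      refine mem_pre.2 (Subgroup.mem_zpowers_iff.2 ⟨i, ?_⟩)
      rw [hgen, conj_zpow] at hi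
      rw [QuotientGroup.mk_mul, QuotientGroup.mk_mul, QuotientGroup.mk_inv, ← hi]
      group
    let e : pre N A ≃* pre N B :=
      { toFun := fun y => ⟨x * y * x⁻¹, hmap y y.2⟩
        invFun := fun y => ⟨x⁻¹ * y * x, hmap' y y.2⟩
        left_inv := fun y => Subtype.ext (by simp [mul_assoc])
        right_inv := fun y => Subtype.ext (by simp [mul_assoc])
        map_mul' := fun y z => Subtype.ext (by simp [mul_assoc]) }
    have hecoe : ∀ y : pre N A, (e y : G) = x * (y : G) * x⁻¹ := fun y => rfl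
    have heN : ∀ m : N, e (nInc A m) = nInc B ⟨x * m * x⁻¹, hN.conj_mem m m.2 x⟩ := fun m => rfl
    obtain ⟨ηA, hηA⟩ := h.exists_pExt hM hθ (hreg g)
    obtain ⟨ηB, hηB⟩ := h.exists_pExt hM hθ (hreg (x * g * x⁻¹))
    have hpull : IsPExt M θ A (irrPull e ηB) := ⟨irrPull_mem_principal hM e hηB.1, fun m => by
      rw [irrPull_apply, heN, hηB.2]
      exact congrFun (hinv x) m⟩
    have hEq : ν A (hreg g) = (ν B (hreg (x * g * x⁻¹))).comp e.toMonoidHom := by
      refine hom_unique (N_le_pre A) (isCharacter_restrict (isCharacter_of_irr hχ0) (pre N A))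
        hχ0N (hν A (hreg g)).1 (fun m => ?_) fun y => ?_
      · show ν B _ (e (nInc A m)) = 1
        rw [heN]
        exact (hν B _).1 _
      · show (ν A (hreg g) y : ℂ) * χ0 y = (ν B (hreg (x * g * x⁻¹)) (e y) : ℂ) * χ0 y
        rw [← (hν A (hreg g)).2 _ hpull y, irrPull_apply, (hν B _).2 ηB hηB (e y), hecoe,
          isClassFunction_irr hχ0 (y : G) x]
    show μ (x * g * x⁻¹) = μ g
    simp only [hμ]
    rw [hEq]
    show _ = (ν B (hreg (x * g * x⁻¹)) (e ⟨g ^ u, hmem g⟩) : ℂ)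
    refine congrArg (fun t => ((ν B (hreg (x * g * x⁻¹)) t : ℂˣ) : ℂ)) (Subtype.ext ?_)
    exact conj_pow
  have hgc : IsGeneralizedCharacter G μ := by
    refine isGenChar_of_elementary hcls fun E q hq hEl => ?_
    haveI := isNilpotent_of_elementary hq hEl
    obtain ⟨Qr, ⟨j, hjQ, P, hjP, hPc⟩, hQcop, hQmem⟩ := exists_regular_part hM.1 hq hEl
    have hcomp : Subgroup.IsComplement' P Qr := by
      refine Subgroup.isComplement'_of_coprime ?_ ?_
      · rw [hjP, ← hjQ, mul_comm, Subgroup.card_mul_index]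
      · rw [hjP]; exact hQcop.symm.pow_left j
    have hPu : ∀ x ∈ P, x ^ u = 1 := fun x hx => by
      have h1 : orderOf x ∣ p ^ j := hjP ▸ Subgroup.orderOf_dvd_natCard P hx
      have h2 : orderOf x ∣ p ^ a * n := by
        rw [← hG, ← Subgroup.orderOf_coe]
        exact orderOf_dvd_natCard _
      exact orderOf_dvd_iff_pow_eq_one.1
        (((((hM.1.coprime_iff_not_dvd.2 hn).pow_left j).coprime_dvd_left h1).dvd_of_dvd_mul_right
          h2).trans (Nat.modEq_zero_iff_dvd.1 hu1))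
    have hQu : ∀ y ∈ Qr, y ^ u = y := fun y hy => by
      conv_rhs => rw [← pow_one y]
      refine pow_eq_pow_iff_modEq.2 (hu2.of_dvd (hdvdn _ ?_ fun hd => ?_))
      · rw [← Subgroup.orderOf_coe]; exact orderOf_dvd_natCard _
      · exact hM.1.coprime_iff_not_dvd.1 hQcop.symm
          (hd.trans (Subgroup.orderOf_dvd_natCard Qr hy))
    have hdec : ∀ e : E, ∃ x ∈ P, ∃ y ∈ Qr, e = x * y ∧ e ^ u = y := fun e => by
      obtain ⟨⟨x, y⟩, hxy⟩ := hcomp.2 e
      simp only at hxy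
      refine ⟨x, x.2, y, y.2, hxy.symm, ?_⟩
      have hc : Commute (x : E) (y : E) := (hPc x.2 y y.2).symm
      rw [← hxy, hc.mul_pow, hPu _ x.2, hQu _ y.2, one_mul]
    have hmul : ∀ e e' : E, (e * e') ^ u = e ^ u * e' ^ u := fun e e' => by
      obtain ⟨x, hx, y, hy, rfl, h1⟩ := hdec e
      obtain ⟨x', hx', y', hy', rfl, h2⟩ := hdec e'
      rw [h1, h2]
      have hc : Commute y x' := hPc hx' y hy
      have hc2 : Commute (x * x') (y * y') := (hPc (P.mul_mem hx hx') _ (Qr.mul_mem hy hy')).symm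
      rw [show x * y * (x' * y') = x * x' * (y * y') by
        rw [mul_assoc, ← mul_assoc y, hc.eq]; group,
        hc2.mul_pow, hPu _ (P.mul_mem hx hx'), hQu _ (Qr.mul_mem hy hy'), one_mul]
    set f : E →* G ⧸ N := (QuotientGroup.mk' N).comp E.subtype with hf
    set F := Qr.map f with hFdef
    have hF : ¬ p ∣ Nat.card F := fun hd =>
      hM.1.coprime_iff_not_dvd.1 hQcop.symm (hd.trans (Subgroup.card_map_dvd Qr f))
    haveI hFn : Group.IsNilpotent F :=
      Group.nilpotent_of_surjective (f.subgroupMap Qr) (f.subgroupMap_surjective Qr)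
    have hEmem : ∀ e : E, (e : G) ^ u ∈ pre N F := fun e => by
      obtain ⟨x, hx, y, hy, rfl, h1⟩ := hdec e
      rw [← Subgroup.coe_pow, h1]
      exact ⟨y, hy, rfl⟩
    let φ : E →* ℂˣ :=
      { toFun := fun e => ν F hF ⟨(e : G) ^ u, hEmem e⟩
        map_one' := by
          rw [show (⟨((1 : E) : G) ^ u, hEmem 1⟩ : pre N F) = 1 from Subtype.ext (by simp), map_one]
        map_mul' := fun e e' => by
          rw [← map_mul]
          refine congrArg _ (Subtype.ext ?_)
          show ((e * e' : E) : G) ^ u = (e : G) ^ u * (e' : G) ^ u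
          rw [← Subgroup.coe_pow, hmul]
          rfl }
    refine isGenChar_of_char ?_
    rw [show (fun e : E => μ e) = fun e : E => (φ e : ℂ) from
      funext fun e => hμval F hF hFn (e : G) (hEmem e)]
    exact isCharacter_of_irr (isIrrCharacter_linear φ)
  have hμ1 : μ 1 = 1 := by
    simp only [hμ]
    have e1 : (⟨(1 : G) ^ u, hmem 1⟩ : pre N (Subgroup.zpowers (((1 : G) ^ u : G) : G ⧸ N))) = 1 :=
      Subtype.ext (one_pow u)
    rw [e1, map_one, Units.val_one]
  have hμnorm : classInner μ μ = 1 := by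
    have e1 : ∀ g : G, μ g * conj (μ g) = 1 := fun g => by
      simp only [hμ]
      set z := ν _ (hreg g) ⟨g ^ u, hmem g⟩ with hz
      have hz1 : (z : ℂ) ^ Nat.card G = 1 := by
        rw [← Units.val_pow_eq_pow_val, hz, ← map_pow,
          show (⟨g ^ u, hmem g⟩ : pre N (Subgroup.zpowers ((g ^ u : G) : G ⧸ N))) ^ Nat.card G = 1
            from Subtype.ext (by rw [Subgroup.coe_pow]; exact pow_card_eq_one'), map_one, Units.val_one]
      rw [Complex.mul_conj', Complex.norm_eq_one_of_pow_eq_one hz1 Nat.card_pos.ne']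
      simp
    simp only [classInner, e1]
    rw [Finset.sum_const, Finset.card_univ, nsmul_eq_mul, mul_one, Nat.card_eq_fintype_card,
      inv_mul_cancel₀ (Nat.cast_ne_zero.2 Fintype.card_ne_zero)]
  obtain ⟨lam, hlam⟩ := exists_hom_of_degree_one
    (isCharacter_of_irr (irr_of_norm_one hgc hμnorm (by rw [hμ1]; simp))) hμ1
  have hlamE : ∀ (E : Subgroup (G ⧸ N)) (hE : ¬ p ∣ Nat.card E), Group.IsNilpotent E →
      ∀ y : pre N E, lam y = ν E hE y := by
    intro E hE hnil y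
    have hyu : (y : G) ^ u ∈ pre N E := Subgroup.pow_mem _ y.2 u
    have h1 : μ y = (ν E hE ⟨(y : G) ^ u, hyu⟩ : ℂ) := hμval E hE hnil y hyu
    rw [hlam] at h1
    refine (Units.ext h1).trans ?_
    rw [show (⟨(y : G) ^ u, hyu⟩ : pre N E) = y ^ u from Subtype.ext rfl, map_pow]
    conv_rhs => rw [← pow_one (ν E hE y)]
    refine pow_eq_pow_iff_modEq.2 (hu2.of_dvd ?_)
    refine (orderOf_dvd_of_pow_eq_one ?_).trans (hcardE E hE)
    rw [← map_pow]
    have hyN : ((y ^ Nat.card E : pre N E) : G) ∈ N := by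
      rw [Subgroup.coe_pow, ← QuotientGroup.eq_one_iff, QuotientGroup.mk_pow]
      exact congrArg Subtype.val (pow_card_eq_one' (x := (⟨((y : G) : G ⧸ N), y.2⟩ : E)))
    exact (hν E hE).1 ⟨_, hyN⟩
  have hlamN : ∀ x : N, lam x = 1 := fun x => by
    have hb : ¬ p ∣ Nat.card (⊥ : Subgroup (G ⧸ N)) := by
      rw [Subgroup.card_bot]; exact hM.1.not_dvd_one
    have h1 := hlamE ⊥ hb inferInstance (nInc ⊥ x)
    rw [(hν ⊥ hb).1] at h1
    exact h1
  -- the twist by the determinant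
  set χ1 : G → ℂ := χ0 * fun g => (lam g : ℂ) with hχ1
  have hχ1irr : IsIrrCharacter G χ1 :=
    isIrrCharacter_mul_linear hχ0 (isIrrCharacter_linear lam) (by simp)
  have hχ1N : ∀ x : N, χ1 x = (θ : N → ℂ) x := fun x => by simp [hχ1, hlamN x, hχ0N x]
  obtain ⟨μ1, hμ1d, hμ1N⟩ := exists_det_of_extension (isCharacter_of_irr θ.2)
    (isCharacter_of_irr hχ1irr) hχ1N
  obtain ⟨δ, hδ⟩ := exists_detHom (isCharacter_of_irr θ.2)
  have hδo : orderOf δ ∣ n := by
    refine hdvdn _ ((orderOf_dvd_of_pow_eq_one (MonoidHom.ext fun x => ?_)).trans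
      (Subgroup.card_subgroup_dvd_card N))
      (not_dvd_orderOf_det hodd hn (hG ▸ Subgroup.card_subgroup_dvd_card N) θ.2 hfix δ hδ)
    rw [MonoidHom.pow_apply, ← map_pow, pow_card_eq_one', map_one, MonoidHom.one_apply]
  have hμ1δ : ∀ x : N, μ1 x = δ x := fun x => Units.ext (by rw [hμ1N x, hδ])
  set d := charDegree (θ : N → ℂ) with hd
  obtain ⟨t, ht⟩ : ∃ t : ℕ, p ^ a ∣ 1 + d * n * t := by
    haveI : NeZero (p ^ a) := ⟨pow_ne_zero _ hM.1.ne_zero⟩
    have hc : (d * n).Coprime (p ^ a) :=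
      (Nat.Coprime.mul_left (hM.1.coprime_iff_not_dvd.2 hdeg).symm
        (hM.1.coprime_iff_not_dvd.2 hn).symm).pow_right a
    refine ⟨(-(((ZMod.unitOfCoprime _ hc)⁻¹ : (ZMod (p ^ a))ˣ) : ZMod (p ^ a))).val, ?_⟩
    rw [← ZMod.natCast_eq_zero_iff, Nat.cast_add, Nat.cast_mul, Nat.cast_one,
      ZMod.natCast_zmod_val, ← ZMod.coe_unitOfCoprime _ hc, mul_neg, ← Units.val_mul,
      mul_inv_cancel, Units.val_one, add_neg_cancel]
  have hμ1G : μ1 ^ (p ^ a * n) = 1 := MonoidHom.ext fun g => by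
    rw [MonoidHom.pow_apply, ← map_pow, ← hG, pow_card_eq_one', map_one, MonoidHom.one_apply]
  set α : G →* ℂˣ := μ1 ^ (n * t) with hα
  have hαN : ∀ x : N, α x = 1 := fun x => by
    rw [hα, MonoidHom.pow_apply, hμ1δ, ← MonoidHom.pow_apply,
      orderOf_dvd_iff_pow_eq_one.1 (hδo.trans (dvd_mul_right n t)), MonoidHom.one_apply]
  have hαpa : α ^ p ^ a = 1 := by
    refine MonoidHom.ext fun g => ?_
    simp only [hα, MonoidHom.pow_apply, MonoidHom.one_apply]
    rw [← pow_mul, show n * t * p ^ a = p ^ a * n * t by ring, pow_mul,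
      ← MonoidHom.pow_apply, hμ1G, MonoidHom.one_apply, one_pow]
  have hhom : ∀ (f : G →* ℂˣ), (∀ x : N, f x = 1) → f ^ p ^ a = 1 →
      ∀ (E : Subgroup (G ⧸ N)), ¬ p ∣ Nat.card E → ∀ y : pre N E, f y = 1 := by
    intro f hfN hfp E hE y
    have hyN : (y : G) ^ Nat.card E ∈ N := by
      rw [← QuotientGroup.eq_one_iff, QuotientGroup.mk_pow]
      exact congrArg Subtype.val (pow_card_eq_one' (x := (⟨((y : G) : G ⧸ N), y.2⟩ : E)))
    have h1 : f (y : G) ^ Nat.card E = 1 := by rw [← map_pow]; exact hfN ⟨_, hyN⟩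
    have h2 : f (y : G) ^ p ^ a = 1 := by rw [← MonoidHom.pow_apply, hfp, MonoidHom.one_apply]
    exact orderOf_eq_one_iff.1 (Nat.eq_one_of_dvd_coprimes
      ((hM.1.coprime_iff_not_dvd.2 hE).pow_left a) (orderOf_dvd_of_pow_eq_one h2)
      (orderOf_dvd_of_pow_eq_one h1))
  set χ2 : G → ℂ := χ1 * fun g => (α g : ℂ) with hχ2
  have hχ2irr : IsIrrCharacter G χ2 :=
    isIrrCharacter_mul_linear hχ1irr (isIrrCharacter_linear α) (by simp)
  have hχ2N : ∀ x : N, χ2 x = (θ : N → ℂ) x := fun x => by simp [hχ2, hαN x, hχ1N x]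
  have hdeg1 : ∀ f : G → ℂ, (∀ x : N, f x = (θ : N → ℂ) x) → charDegree f = d := fun f hf => by
    rw [hd]
    show ⌊(f 1).re⌋₊ = ⌊((θ : N → ℂ) 1).re⌋₊
    rw [← hf 1]; rfl
  set μ2 : G →* ℂˣ := μ1 * α ^ d with hμ2
  have hμ2d : detChar χ2 = fun g => (μ2 g : ℂ) := by
    rw [hχ2, detChar_twist (isCharacter_of_irr hχ1irr) α, hdeg1 χ1 hχ1N, hμ1d]
    funext g
    simp [hμ2]
  have hμ2n : μ2 ^ n = 1 := by
    obtain ⟨s, hs⟩ := ht
    refine MonoidHom.ext fun g => ?_
    simp only [hμ2, hα, MonoidHom.pow_apply, MonoidHom.mul_apply, MonoidHom.one_apply]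
    rw [← pow_mul (μ1 g), show μ1 g * μ1 g ^ (n * t * d) = μ1 g ^ (1 + d * n * t) by
      rw [← pow_succ']; congr 1; ring, ← pow_mul, hs,
      show p ^ a * s * n = p ^ a * n * s by ring, pow_mul,
      ← MonoidHom.pow_apply, hμ1G, MonoidHom.one_apply, one_pow]
  have hχ2E : ∀ (E : Subgroup (G ⧸ N)) (hE : ¬ p ∣ Nat.card E), Group.IsNilpotent E →
      ∀ η : IrrCharacter (pre N E), IsPExt M θ E η →
        ∀ y : pre N E, (η : pre N E → ℂ) y = χ2 y := by
    intro E hE hnil η hη y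
    rw [(hν E hE).2 η hη y, hχ2, hχ1, ← hlamE E hE hnil y]
    simp [hhom α hαN hαpa E hE y, mul_comm]
  refine ⟨⟨χ2, hχ2irr⟩, ?_, fun k hk hk1 g => ?_, hχ2N⟩
  · -- the block
    refine sameBlock_of_regular hM (χ := oneIrr G) fun g hg => ?_
    set f : G → ℂ := fun x => if IsConj g x then 1 else 0 with hf
    have hfc : IsClassFunction G f := isClassFunction_classInd g
    have hfm : ∀ x, MemLocalRing M (f x) := memRing_classInd hM g
    rw [show clv g (⟨χ2, hχ2irr⟩ : IrrCharacter G) = omega χ2 f from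
        (omega_classInd g ⟨χ2, hχ2irr⟩).symm,
      show clv g (oneIrr G) = omega ((oneIrr G : IrrCharacter G) : G → ℂ) f from
        (omega_classInd g (oneIrr G)).symm]
    haveI := Fintype.ofFinite (G ⧸ N)
    have hsplit : ∀ φ : G → ℂ, ∑ x, φ x = ∑ q : G ⧸ N, ∑ m : N, φ ((m : G) * q.out) := by
      intro φ
      rw [← Fintype.sum_prod_type']
      refine (Fintype.sum_bijective (fun y : (G ⧸ N) × N => (y.2 : G) * y.1.out) ?_ _ _
        fun y => rfl).symm
      have hmk : ∀ (q : G ⧸ N) (m : N), (((m : G) * q.out : G) : G ⧸ N) = q := fun q m => by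
        rw [QuotientGroup.mk_mul, (QuotientGroup.eq_one_iff (m : G)).2 m.2, one_mul,
          QuotientGroup.out_eq']
      refine ⟨?_, fun x => ?_⟩
      · rintro ⟨q, m⟩ ⟨q', m'⟩ he
        have hq : q = q' := by rw [← hmk q m, ← hmk q' m']; exact congrArg _ he
        subst hq
        exact Prod.ext rfl (Subtype.ext (mul_right_cancel he))
      · refine ⟨⟨(x : G ⧸ N), ⟨x * (x : G ⧸ N).out⁻¹, ?_⟩⟩, by simp⟩
        rw [← QuotientGroup.eq_one_iff, QuotientGroup.mk_mul, QuotientGroup.mk_inv,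
          QuotientGroup.out_eq', mul_inv_cancel]
    have hpiece : ∀ b : G,
        MemLocalRing M ((∑ m : N, f ((m : G) * b) * χ2 ((m : G) * b)) / χ2 1) ∧
        MemLocalRing M (∑ m : N, f ((m : G) * b)) ∧
        res hM ((∑ m : N, f ((m : G) * b) * χ2 ((m : G) * b)) / χ2 1) =
          res hM (∑ m : N, f ((m : G) * b)) := by
      intro b
      by_cases hz : ∀ m : N, f ((m : G) * b) = 0
      · simp only [hz, zero_mul, Finset.sum_const_zero, zero_div]
        exact ⟨(loc hM).zero_mem, (loc hM).zero_mem, trivial⟩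
      push Not at hz
      obtain ⟨m₀, hm₀⟩ := hz
      have hconj : IsConj g ((m₀ : G) * b) := by
        by_contra hc; exact hm₀ (if_neg hc)
      have hbE : ¬ p ∣ Nat.card (Subgroup.zpowers (b : G ⧸ N)) := by
        rw [Nat.card_zpowers]
        intro hd'
        apply hg
        refine hd'.trans ?_
        rw [show (b : G ⧸ N) = (((m₀ : G) * b : G) : G ⧸ N) by
          rw [QuotientGroup.mk_mul, (QuotientGroup.eq_one_iff (m₀ : G)).2 m₀.2, one_mul]]
        refine (orderOf_map_dvd (QuotientGroup.mk' N) _).trans ?_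
        obtain ⟨c, hc⟩ := isConj_iff.1 hconj
        rw [← hc]
        exact dvd_of_eq (orderOf_injective (MulAut.conj c).toMonoidHom (MulAut.conj c).injective g)
      set E := Subgroup.zpowers (b : G ⧸ N) with hE
      obtain ⟨η, hη⟩ := h.exists_pExt hM hθ hbE
      have hbm : b ∈ pre N E := Subgroup.mem_zpowers _
      set fq : pre N E → ℂ := fun y => if ((y : G) : G ⧸ N) = b then f y else 0 with hfq
      have hfqc : IsClassFunction (pre N E) fq := by
        intro y z
        have e : (((z * y * z⁻¹ : pre N E) : G) : G ⧸ N) = ((y : G) : G ⧸ N) := by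
          obtain ⟨i, hi⟩ := Subgroup.mem_zpowers_iff.1 (mem_pre.1 y.2)
          obtain ⟨j, hj⟩ := Subgroup.mem_zpowers_iff.1 (mem_pre.1 z.2)
          show (((z : G) * y * (z : G)⁻¹ : G) : G ⧸ N) = _
          rw [QuotientGroup.mk_mul, QuotientGroup.mk_mul, QuotientGroup.mk_inv, ← hi, ← hj]
          group
        simp only [hfq, e]
        split_ifs
        · exact hfc (y : G) (z : G)
        · rfl
      have hfqm : ∀ y, MemLocalRing M (fq y) := fun y => by
        simp only [hfq]; split_ifs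
        · exact hfm _
        · exact (loc hM).zero_mem
      have hL1 : ∀ φ : pre N E → ℂ, ∑ y : pre N E, fq y * φ y =
          ∑ m : N, f ((m : G) * b) *
            φ ⟨(m : G) * b, (pre N E).mul_mem (N_le_pre E m.2) hbm⟩ := by
        intro φ
        simp only [hfq, ite_mul, zero_mul]
        rw [← Finset.sum_filter]
        symm
        refine Finset.sum_bij
          (fun m _ => (⟨(m : G) * b, (pre N E).mul_mem (N_le_pre E m.2) hbm⟩ : pre N E))
          (fun m _ => ?_) (fun m _ m' _ e => Subtype.ext (mul_right_cancel (congrArg Subtype.val e)))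
          (fun y hy => ?_) (fun m _ => rfl)
        · simp only [Finset.mem_filter, Finset.mem_univ, true_and]
          rw [QuotientGroup.mk_mul, (QuotientGroup.eq_one_iff (m : G)).2 m.2, one_mul]
        · refine ⟨⟨(y : G) * b⁻¹, ?_⟩, Finset.mem_univ _, Subtype.ext (by simp)⟩
          rw [← QuotientGroup.eq_one_iff, QuotientGroup.mk_mul, QuotientGroup.mk_inv,
            (Finset.mem_filter.1 hy).2, mul_inv_cancel]
      have hηv : ∀ y : pre N E, (η : pre N E → ℂ) y = χ2 y :=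
        hχ2E E hbE (isNilpotent_zpowers _) η hη
      have e1 : omega (η : pre N E → ℂ) fq =
          (∑ m : N, f ((m : G) * b) * χ2 ((m : G) * b)) / χ2 1 := by
        rw [omega, hL1, hηv 1]
        refine congrArg₂ _ (Finset.sum_congr rfl fun m _ => ?_) rfl
        rw [hηv]
      have e2 : omega ((oneIrr (pre N E) : IrrCharacter (pre N E)) : pre N E → ℂ) fq =
          ∑ m : N, f ((m : G) * b) := by
        rw [omega, hL1]
        simp [oneIrr]
      refine ⟨e1 ▸ memRing_omega hM hfqc hfqm η, e2 ▸ memRing_omega hM hfqc hfqm (oneIrr _), ?_⟩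
      rw [← e1, ← e2]
      exact (Zloc_res_congr hM (v := fun φ : IrrCharacter (pre N E) => omega (φ : pre N E → ℂ) fq)
        (omega_mem_Zloc hM hfqc hfqm) (χ := oneIrr (pre N E)) (ψ := η) hη.1).symm
    symm
    rw [omega, omega, hsplit, hsplit,
      show (∑ q : G ⧸ N, ∑ m : N, f ((m : G) * q.out) * χ2 ((m : G) * q.out)) / χ2 1 =
        ∑ q : G ⧸ N, (∑ m : N, f ((m : G) * q.out) * χ2 ((m : G) * q.out)) / χ2 1 from
        Finset.sum_div _ _ _]
    rw [res_sum hM fun q _ => (hpiece q.out).1,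
      Finset.sum_congr rfl fun q _ => (hpiece q.out).2.2,
      ← res_sum hM fun q _ => (hpiece q.out).2.1]
    simp [oneIrr]
  · -- fixed under Galois
    have hkN : ∀ E : Subgroup (G ⧸ N), k.Coprime (Nat.card (pre N E)) := fun E =>
      hk.coprime_dvd_right (Subgroup.card_subgroup_dvd_card _)
    have hk' : k.Coprime (p ^ a * n) := hG ▸ hk
    set χk : G → ℂ := fun g => χ2 (g ^ k) with hχk
    have hχkirr : IsIrrCharacter G χk := CfsgLib.CharTheory.isIrrCharacter_pow hχ2irr hk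
    have hχkN : ∀ x : N, χk x = (θ : N → ℂ) x := fun x => by
      simp only [hχk]
      rw [← Subgroup.coe_pow, hχ2N, hfix k hk' hk1]
    have hres2 : IsIrrCharacter N (fun x : N => χ2 x) := by rw [funext hχ2N]; exact θ.2
    obtain ⟨β, hβ, hβk, hβe⟩ := (gallagher N (isCharacter_of_irr hχ2irr) hres2).2.2 χk hχkirr (by
      rw [funext hχkN, funext hχ2N, classInner_irr_self θ.2]; exact one_ne_zero)
    have hβ1 : β 1 = 1 := by
      have h1 := congrFun hβe 1
      rw [Pi.mul_apply, show χk 1 = χ2 1 by simp [hχk]] at h1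
      exact (mul_eq_right₀ (irr_ne_zero hχ2irr)).1 h1.symm
    obtain ⟨L', hL'⟩ := exists_hom_of_degree_one (isCharacter_of_irr hβ) hβ1
    have hL'N : ∀ x : N, L' x = 1 := fun x => Units.ext (by
      have := hβk x x.2
      rw [hL'] at this
      simpa using this)
    have hL'E : ∀ E : Subgroup (G ⧸ N), ¬ p ∣ Nat.card E → Group.IsNilpotent E →
        ∀ y : pre N E, L' y = 1 := by
      intro E hE hnil
      obtain ⟨η, hη⟩ := h.exists_pExt hM hθ hE
      have hpw : IsPExt M θ E (powIrr (hkN E) η) := ⟨powIrr_principal hM (hkN E) hη.1, fun x => by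
        show (η : pre N E → ℂ) (nInc E x ^ k) = _
        rw [show nInc E x ^ k = nInc E (x ^ k) from Subtype.ext rfl, hη.2, hfix k hk' hk1]⟩
      have he := h.pExt_unique hM hE hη hpw
      have hL'η : ∀ y : pre N E, χ2 y = (L' y : ℂ) * χ2 y := fun y => by
        have h1 : (η : pre N E → ℂ) (y ^ k) = (η : pre N E → ℂ) y :=
          congrFun (congrArg Subtype.val he) y
        rw [hχ2E E hE hnil η hη, hχ2E E hE hnil η hη, Subgroup.coe_pow] at h1
        have h2 := congrFun hβe (y : G)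
        rw [Pi.mul_apply, hL'] at h2
        simp only [hχk] at h2
        rw [← h2, h1]
      have heq : L'.comp (pre N E).subtype = (1 : pre N E →* ℂˣ) := by
        refine hom_unique (N_le_pre E) (isCharacter_restrict (isCharacter_of_irr hχ2irr) (pre N E))
          hχ2N (fun x => hL'N x) (fun x => rfl) fun y => ?_
        show (L' (y : G) : ℂ) * χ2 y = ((1 : ℂˣ) : ℂ) * χ2 y
        rw [← hL'η y, Units.val_one, one_mul]
      exact fun y => DFunLike.congr_fun heq y
    have hL'pa : L' ^ p ^ a = 1 := MonoidHom.ext fun g => by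
      have hE : ¬ p ∣ Nat.card (Subgroup.zpowers ((g ^ p ^ a : G) : G ⧸ N)) := fun hd' => by
        rw [Nat.card_zpowers] at hd'
        refine hn (hd'.trans (orderOf_dvd_of_pow_eq_one ?_))
        rw [← QuotientGroup.mk_pow, ← pow_mul, ← hG, pow_card_eq_one', QuotientGroup.mk_one]
      rw [MonoidHom.pow_apply, ← map_pow, MonoidHom.one_apply]
      exact hL'E _ hE (isNilpotent_zpowers _) ⟨g ^ p ^ a, Subgroup.mem_zpowers _⟩
    have hL'd : L' ^ d = 1 := MonoidHom.ext fun g => by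
      have h1 := detChar_pow hχ2irr hk g
      rw [hμ2d] at h1
      simp only at h1
      have h2 : detChar χk = detChar χ2 * fun g => (L' g : ℂ) ^ d := by
        rw [hβe, hL', mul_comm, detChar_twist (isCharacter_of_irr hχ2irr) L', hdeg1 χ2 hχ2N]
      rw [show detChar (fun g => χ2 (g ^ k)) = detChar χk from rfl, h2, hμ2d, Pi.mul_apply,
        map_pow] at h1
      have h3 : μ2 g ^ k = μ2 g := by
        conv_rhs => rw [← pow_one (μ2 g)]
        refine pow_eq_pow_iff_modEq.2 (hk1.of_dvd (orderOf_dvd_of_pow_eq_one ?_))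
        rw [← MonoidHom.pow_apply, hμ2n, MonoidHom.one_apply]
      rw [h3] at h1
      rw [MonoidHom.pow_apply, MonoidHom.one_apply]
      refine Units.ext ?_
      rw [Units.val_pow_eq_pow_val, Units.val_one]
      exact (mul_eq_left₀ (Units.ne_zero (μ2 g))).1 h1
    have hL'1 : L' = 1 := MonoidHom.ext fun g => orderOf_eq_one_iff.1 (Nat.eq_one_of_dvd_coprimes
      ((hM.1.coprime_iff_not_dvd.2 hdeg).pow_left a)
      (orderOf_dvd_of_pow_eq_one (by rw [← MonoidHom.pow_apply, hL'pa, MonoidHom.one_apply]))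
      (orderOf_dvd_of_pow_eq_one (by rw [← MonoidHom.pow_apply, hL'd, MonoidHom.one_apply])))
    have h4 := congrFun hβe g
    rw [Pi.mul_apply, hL', hL'1] at h4
    simp only [hχk, MonoidHom.one_apply, Units.val_one, one_mul] at h4
    exact h4

end CfsgLib.Blocks.PRatExt
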