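import Cfsg.Agent.S4672
import Cfsg.Agent.S0970
import Cfsg.Agent.Lib.Blocks.Knorr
import Cfsg.Agent.Lib.Blocks.FirstMain
import Cfsg.Agent.Lib.Blocks.CentralDefect
import Cfsg.Agent.Lib.Blocks.BlockFusion

/-!
# Fong: the block over a stable character of a normal `p'`-subgroup
-/

namespace CfsgLib.Blocks

open Cfsg CfsgLib.CharTheory

set_option linter.unusedVariables false
set_option linter.unusedSimpArgs false
set_option linter.style.haveILetI false
set_option linter.unusedSectionVars false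

universe u

variable {p : ℕ} {M : Ideal AlgInt} {G : Type u} [Group G] [Fintype G]

theorem isPBlock_singleton_of_coprime (hM : IsPModular p M) {K : Type u} [Group K] [Fintype K]
    (hK : ¬ p ∣ Nat.card K) (θ : IrrCharacter K) :
    IsPBlock M ({θ} : Set (IrrCharacter K)) := by
  haveI : Fact p.Prime := ⟨hM.1⟩
  have hB := blockOf_isPBlock (M := M) θ
  have hf : (Nat.card K).factorization p = 0 := Nat.factorization_eq_zero_of_not_dvd hK
  have h0 : blockDefect p (blockOf M (θ : K → ℂ)) = 0 := by rw [blockDefect_eq]; omega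
  obtain ⟨-, -, hdv⟩ := central_props hM bot_le IsPGroup.of_bot hB
    (by rw [Subgroup.card_bot, h0, pow_zero]) (mem_blockOf_self hM θ)
  have h1 := minDv_le_card hM hB
  exact ⟨θ, ((defect_zero_iff hM θ).1 (by omega)).symm⟩

theorem blockCoeff_singleton_conj {K : Subgroup G} [Fintype K] (θ : IrrCharacter K) {k k' : K}
    (h : (θ : K → ℂ) k' = (θ : K → ℂ) k) :
    blockCoeff ({θ} : Set (IrrCharacter K)) k' = blockCoeff ({θ} : Set (IrrCharacter K)) k := by
  simp only [blockCoeff, finsum_mem_singleton, h]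

/-- A maximal pair is the only pair at its group when the normalizer acts trivially. -/
theorem pair_unique_of_fixed (hM : IsPModular p M) {B : Set (IrrCharacter G)} {P : Subgroup G}
    {e g : Set (IrrCharacter (Subgroup.centralizer (P : Set G)))}
    (hmax : IsMaximalBrauerPair p M B P e) (hg : IsBrauerPairOf p M B P g)
    (hfix : ∀ n ∈ Subgroup.normalizer (P : Set G), ∃ c ∈ Subgroup.centralizer (P : Set G),
      ∃ r ∈ P, n = c * r) : g = e := by
  obtain ⟨n, hn, rfl⟩ := pairs_orbit hM hmax hg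
  obtain ⟨c, hc, r, hr, rfl⟩ := hfix n hn
  have h1 : conjIdx (c * r) (⟨P, e⟩ : BrauerPairIdx G) = ⟨P, e⟩ := by
    rw [← conjIdx_mul, conjIdx_self hM P e hr]
    exact (stab_iff_idx c).1 ⟨Subgroup.centralizer_le_normalizer _ hc,
      stabilizes_of_mem e hc⟩
  rw [conjIdx_normalizer hn] at h1
  exact eq_of_heq (Sigma.mk.inj_iff.1 h1).2

/-- A `p'`-normal subgroup and a `p`-subgroup covering the quotient. -/
theorem normalizer_decomp {K Q : Subgroup G} [K.Normal] (hd : Disjoint K Q) (hsup : K ⊔ Q = ⊤)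
    {n : G} (hn : n ∈ Subgroup.normalizer (Q : Set G)) :
    ∃ c ∈ Subgroup.centralizer (Q : Set G), ∃ r ∈ Q, n = c * r := by
  have h : n ∈ ((K ⊔ Q : Subgroup G) : Set G) := by rw [hsup]; trivial
  rw [Subgroup.normal_mul] at h
  obtain ⟨k, hk, r, hr, rfl⟩ := Set.mem_mul.1 h
  refine ⟨k, fun s hs => ?_, r, hr, rfl⟩
  have hkN : k ∈ Subgroup.normalizer (Q : Set G) := by
    have := (Subgroup.normalizer (Q : Set G)).mul_mem hn
      ((Subgroup.normalizer (Q : Set G)).inv_mem (Subgroup.le_normalizer hr))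
    simpa using this
  have h1 : k * s * k⁻¹ * s⁻¹ ∈ Q := Q.mul_mem ((Subgroup.mem_normalizer_iff.1 hkN s).1 hs)
    (Q.inv_mem hs)
  have h2 : k * s * k⁻¹ * s⁻¹ ∈ K := by
    rw [show k * s * k⁻¹ * s⁻¹ = k * (s * k⁻¹ * s⁻¹) by group]
    exact K.mul_mem hk ((‹K.Normal›).conj_mem _ (K.inv_mem hk) s)
  have h3 : k * s * k⁻¹ * s⁻¹ = 1 := Subgroup.disjoint_def.1 hd h2 h1
  rw [mul_inv_eq_one, mul_inv_eq_iff_eq_mul] at h3
  exact h3.symm

/-- The extension of the idempotent of a stable character to `L`. -/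
theorem exists_block_over (hM : IsPModular p M) {K L : Subgroup G} [K.Normal] [L.Normal]
    [Fintype K] [Fintype L] (hK : ¬ p ∣ Nat.card K) (hKL : K ≤ L)
    (hidx : ∃ k : ℕ, K.relIndex L = p ^ k) (θ : IrrCharacter K)
    (hθ : ∀ g : G, IsConjCharOf K g (θ : K → ℂ) (θ : K → ℂ)) :
    ∃ b : Set (IrrCharacter L), IsPBlock M b ∧
      (∀ t : L, blockCoeff b t = subgroupBlockCoeff K {θ} (t : G)) ∧
      ∀ D : Subgroup L, IsDefectGroup p M b D → ¬ p ∣ D.index ∧ K.subgroupOf L ⊔ D = ⊤ := by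
  classical
  haveI : Fact p.Prime := ⟨hM.1⟩
  haveI := Fintype.ofFinite (K.subgroupOf L)
  set e := Subgroup.subgroupOfEquivOfLe hKL with he
  set c : Set (IrrCharacter (K.subgroupOf L)) := irrPull e '' {θ} with hc
  have hcb : IsPBlock M c := isPBlock_image e (isPBlock_singleton_of_coprime hM hK θ)
  have hst : ∀ x : L, StabilizesBlock (K.subgroupOf L) c x := by
    intro x
    refine ⟨mem_normalizer_normal x, ?_⟩
    rintro _ ⟨θ', rfl : θ' = θ, rfl⟩
    refine ⟨irrPull e θ', ⟨θ', rfl, rfl⟩, fun k k' hk => ?_⟩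
    rw [irrPull_apply, irrPull_apply]
    refine hθ (x : G) (e k) (e k') ?_
    exact congrArg Subtype.val hk
  obtain ⟨k, hk⟩ := hidx
  have hidx' : ∃ k : ℕ, (K.subgroupOf L).index = p ^ k := ⟨k, hk⟩
  obtain ⟨b, hb, hcoef⟩ := exists_block_eq hM hidx' hcb hst
  refine ⟨b, hb, fun t => ?_, fun D hD => ?_⟩
  · rw [hcoef t]
    by_cases ht : (t : G) ∈ K
    · have e1 := sgbc_coe c (⟨t, ht⟩ : K.subgroupOf L)
      have e2 := sgbc_coe ({θ} : Set (IrrCharacter K)) ⟨t, ht⟩
      simp only at e1 e2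
      rw [e1, e2, hc, blockCoeff_image]
      rfl
    · rw [subgroupBlockCoeff_eq, subgroupBlockCoeff_eq, sext_off _ _ ht,
        sext_off _ _ (fun h => ht (Subgroup.mem_subgroupOf.1 h))]
  · obtain ⟨hsup, -⟩ := (Cfsg.Agent.S4672.result p M hM (K.subgroupOf L) hidx' c hcb hst).2
      b hb hcoef D hD
    refine ⟨fun hdvd => hK ?_, hsup⟩
    have h1 : (K.subgroupOf L).index ∣ Nat.card D := by
      rw [← Subgroup.relIndex_top_right, ← hsup, sup_comm, Subgroup.relIndex_sup_right]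
      exact Subgroup.relIndex_dvd_card _ _
    have h2 : Nat.card L ∣ Nat.card (K.subgroupOf L) * Nat.card D := by
      rw [← Subgroup.card_mul_index (K.subgroupOf L)]
      exact mul_dvd_mul_left _ h1
    rw [← Subgroup.card_mul_index D, mul_comm (Nat.card (K.subgroupOf L))] at h2
    have h3 := Nat.dvd_of_mul_dvd_mul_left Nat.card_pos h2
    rw [Nat.card_congr e.toEquiv] at h3
    exact hdvd.trans h3

/-- Fong's theorem on the block over a stable character of a normal `p'`-subgroup. -/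
theorem fong_core (hM : IsPModular p M) {K L : Subgroup G} [K.Normal] [L.Normal] [Fintype K]
    [Fintype L] (hK : ¬ p ∣ Nat.card K) (hKL : K ≤ L) (hidx : ∃ k : ℕ, K.relIndex L = p ^ k)
    {Q : Subgroup G} (hQL : Q ≤ L) (hQp : IsPGroup p Q) (hQS : ¬ p ∣ Q.relIndex L)
    (hCQ : Subgroup.centralizer (Q : Set G) ≤ L) (θ : IrrCharacter K)
    (hθ : ∀ g : G, IsConjCharOf K g (θ : K → ℂ) (θ : K → ℂ)) :
    ∃ B : Set (IrrCharacter G), IsPBlock M B ∧
      (∀ χ : IrrCharacter G, χ ∈ B ↔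
        classInner (fun k : K => (χ : G → ℂ) k) (θ : K → ℂ) ≠ 0) ∧
      (∀ S : Sylow p G, IsDefectGroup p M B S) ∧
      ∀ D : Subgroup G, IsDefectGroup p M B D → ∃ S : Sylow p G, D = (S : Subgroup G) := by
  classical
  haveI : Fact p.Prime := ⟨hM.1⟩
  haveI := res_isDomain hM
  obtain ⟨Q', rfl⟩ : ∃ Q' : Subgroup L, Q'.map L.subtype = Q :=
    ⟨Q.subgroupOf L, Subgroup.map_subgroupOf_eq_of_le hQL⟩
  have hQ'p : IsPGroup p Q' :=
    hQp.of_equiv (Subgroup.equivMapOfInjective Q' L.subtype L.subtype_injective).symm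
  have hQ'i : ¬ p ∣ Q'.index := by
    rwa [Subgroup.relIndex, Subgroup.subgroupOf,
      Subgroup.comap_map_eq_self_of_injective L.subtype_injective] at hQS
  obtain ⟨b, hb, hcoef, hdef⟩ := exists_block_over hM hK hKL hidx θ hθ
  have hone := isPBlock_singleton_of_coprime hM hK θ
  have hstK : ∀ x : G, StabilizesBlock K {θ} x := fun x =>
    ⟨mem_normalizer_normal x, fun χ hχ => ⟨θ, rfl, by rw [Set.mem_singleton_iff] at hχ
                                                      subst hχ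
                                                      exact hθ x⟩⟩
  have hstL : ∀ x : G, StabilizesBlock L b x := by
    intro x
    refine (stabilizesBlock_iff_blockConj x b).2
      (block_eq_of_coeff fun t => ?_)
    rw [blockConj, blockCoeff_image, hcoef, hcoef]
    show subgroupBlockCoeff K {θ} (x⁻¹ * (t : G) * x) = _
    have hcl := covFn_cls (N := K) (G := G) ({θ} : Set (IrrCharacter K))
    rw [covFn_of_stable hstK] at hcl
    have := hcl (t : G) x⁻¹
    rwa [inv_inv] at this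
  have hF : covFn (G := G) b = covFn (G := G) ({θ} : Set (IrrCharacter K)) := by
    rw [covFn_of_stable hstL, covFn_of_stable hstK]
    funext g
    by_cases hg : g ∈ L
    · exact (sext_coe L (blockCoeff b) ⟨g, hg⟩).trans (hcoef ⟨g, hg⟩)
    · rw [sext_off L _ hg, sext_off K _ fun h => hg (hKL h)]
  -- `Q` is a defect group of `b`
  obtain ⟨D, hD⟩ := exists_defectGroup hM hb
  obtain ⟨hDi, hsupD⟩ := hdef D hD
  have hQd : IsDefectGroup p M b Q' := by
    obtain ⟨x, hx⟩ := MulAction.exists_smul_eq L ((defectGroup_isPGroup hD).toSylow hDi)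
      (hQ'p.toSylow hQ'i)
    have h1 := congrArg (fun S : Sylow p L => (S : Subgroup L)) hx
    simp only [Sylow.coe_subgroup_smul, IsPGroup.toSylow_coe] at h1
    have h2 := isDefectGroup_conj hD x
    rw [← h1]
    exact h2
  obtain ⟨-, hsup⟩ := hdef Q' hQd
  have hdisj : Disjoint (K.subgroupOf L) Q' := by
    refine Subgroup.disjoint_of_coprime_natCard ?_
    obtain ⟨j, hj⟩ := IsPGroup.iff_card.1 hQ'p
    rw [hj, Nat.card_congr (Subgroup.subgroupOfEquivOfLe hKL).toEquiv]
    exact ((hM.1.coprime_iff_not_dvd.2 hK).pow_left j).symm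
  obtain ⟨e', hmax⟩ := exists_maximal_at hM hb hQd
  set e₀ := irrPull (upE Q' hCQ) '' e' with he₀
  have hup : upIdx (⟨Q', e'⟩ : BrauerPairIdx L) hCQ = ⟨Q'.map L.subtype, e₀⟩ := rfl
  have huniq : ∀ f : Set (IrrCharacter (Subgroup.centralizer
      ((Q'.map L.subtype : Subgroup G) : Set G))), IsPBlock M f → ∀ ξ ∈ f,
      lam hM (Q'.map L.subtype) (subgroupBlockCoeff L b) ξ = 1 → f = e₀ := by
    intro f hf ξ hξ h1
    obtain ⟨⟨R', g'⟩, ha, hae, hab⟩ := exists_upIdx (H := L) hQL hCQ hf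
    have h2 := (pairOf_iff_lam_up hM hab hae hQp hb hξ).2 h1
    have hR : R' = Q' := by
      have := upIdx_subgroupOf hae
      rwa [Subgroup.subgroupOf, Subgroup.comap_map_eq_self_of_injective L.subtype_injective]
        at this
    subst hR
    have h3 : g' = e' := pair_unique_of_fixed hM hmax h2
      fun n hn => normalizer_decomp hdisj hsup hn
    subst h3
    exact (eq_of_heq (Sigma.mk.inj_iff.1 (hae.symm.trans hup)).2)
  have hpair : ∀ B : Set (IrrCharacter G), IsPBlock M B →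
      (∃ χ ∈ B, ∃ ψ ∈ b, classInner (fun n : L => (χ : G → ℂ) n) (ψ : L → ℂ) ≠ 0) →
      IsBrauerPairOf p M B (Q'.map L.subtype) e₀ := by
    intro B hB hcov
    obtain ⟨P, hP, hle⟩ := exists_defectGroup_above hM hB hb hcov hQd
    obtain ⟨e, hPmax⟩ := exists_maximal_at hM hB hP
    obtain ⟨f, ⟨hf, hsub⟩, -⟩ := existsUnique_subpair hM hPmax.1.1.1 hPmax.1.1.2 _ hle
    have hp := (pairOf_subpair_iff hM (a := ⟨_, f⟩) (b := ⟨P, e⟩) hsub B).2 hPmax.1
    obtain ⟨ξ, hξ⟩ := bne hM hf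
    have hn : Nice M (Q'.map L.subtype) (covFn (G := G) b) :=
      Nice.of_classFun (covFn_cls b) (covFn_mem hM hb)
    have h1 := lam_conv hM hQp (nice_blockCoeff hM hB) hn ξ
    rw [conv_blockCoeff_covFn hM hB hb hcov, pairOf_lam hM hp hξ, one_mul,
      covFn_of_stable hstL, ← subgroupBlockCoeff_eq] at h1
    rwa [huniq f hf ξ hξ h1.symm] at hp
  obtain ⟨B, hB, hcov⟩ := exists_covering (G := G) hM hb
  have hcovK : ∀ B' : Set (IrrCharacter G), IsPBlock M B' → ∀ χ ∈ B',
      classInner (fun k : K => (χ : G → ℂ) k) (θ : K → ℂ) ≠ 0 →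
        ∃ ψ ∈ b, classInner (fun n : L => (χ : G → ℂ) n) (ψ : L → ℂ) ≠ 0 := by
    intro B' hB' χ hχ h
    refine covers_of_res hM ?_
    rw [hF]
    exact res_covFn_covers hM hB' hone ⟨χ, hχ, θ, rfl, h⟩ hχ
  have hmem : ∀ χ : IrrCharacter G, χ ∈ B ↔
      classInner (fun k : K => (χ : G → ℂ) k) (θ : K → ℂ) ≠ 0 := by
    intro χ
    constructor
    · intro hχ
      have h1 := res_covFn_covers hM hB hb hcov hχ
      rw [hF] at h1
      obtain ⟨θ', hθ', h2⟩ := covers_of_res hM h1
      rwa [Set.mem_singleton_iff.1 hθ'] at h2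
    · intro h
      have hB' := blockOf_isPBlock (M := M) χ
      have hχ' := mem_blockOf_self hM χ
      obtain ⟨ψ, hψ, hne⟩ := hcovK _ hB' χ hχ' h
      rw [pairOf_block_unique hM (hpair B hB hcov) (hpair _ hB' ⟨χ, hχ', ψ, hψ, hne⟩)]
      exact hχ'
  have hdefB : blockDefect p B = (Nat.card G).factorization p := by
    obtain ⟨P, hP⟩ := exists_defectGroup hM hB
    have hinv : ∀ g : G, ∀ ψ ∈ b, ∀ ψ' : IrrCharacter L, (∀ n : L, (ψ' : L → ℂ) n =
        (ψ : L → ℂ) ⟨g * n * g⁻¹, (‹L.Normal›).conj_mem n n.2 g⟩) → ψ' ∈ b := by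
      intro g ψ hψ ψ' h
      rw [← (stabilizesBlock_iff_blockConj g⁻¹ b).1 (hstL g⁻¹)]
      refine ⟨ψ, hψ, Subtype.ext (funext fun n => ?_)⟩
      rw [irrPull_conjE_eq, h n, inv_inv]
      rfl
    obtain ⟨-, -, h1⟩ := Cfsg.Agent.S0970.result p M hM L b hb hinv B hB hcov
      (fun B' hB' hc' => le_of_eq (by
        rw [pairOf_block_unique hM (hpair B hB hcov) (hpair B' hB' hc')])) P hP
    rw [h1]
    have h2 := Subgroup.card_mul_index Q'
    rw [card_defectGroup hM hb hQd] at h2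
    rw [← Subgroup.card_mul_index L, ← h2, Nat.factorization_mul
      (Nat.mul_ne_zero (pow_ne_zero _ hM.1.ne_zero) Subgroup.index_ne_zero_of_finite)
      Subgroup.index_ne_zero_of_finite, Nat.factorization_mul (pow_ne_zero _ hM.1.ne_zero)
      Subgroup.index_ne_zero_of_finite, Finsupp.add_apply, Finsupp.add_apply,
      Nat.Prime.factorization_pow hM.1, Finsupp.single_eq_same,
      Nat.factorization_eq_zero_of_not_dvd hQ'i, add_zero]
  have hsyl : ∀ D : Subgroup G, IsDefectGroup p M B D → ∃ S : Sylow p G, D = (S : Subgroup G) := by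
    intro D hD
    obtain ⟨S, hS⟩ := (defectGroup_isPGroup hD).exists_le_sylow
    refine ⟨S, Subgroup.eq_of_le_of_card_ge hS (le_of_eq ?_)⟩
    rw [card_defectGroup hM hB hD, hdefB, S.card_eq_multiplicity]
  refine ⟨B, hB, hmem, fun S => ?_, hsyl⟩
  obtain ⟨D, hD⟩ := exists_defectGroup hM hB
  obtain ⟨S₀, rfl⟩ := hsyl D hD
  obtain ⟨x, hx⟩ := MulAction.exists_smul_eq G S₀ S
  rw [← hx, Sylow.coe_subgroup_smul]
  exact isDefectGroup_conj hD x

end CfsgLib.Blocks
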