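import Cfsg.Agent.Lib.Blocks.FongSwanAux
import Cfsg.Agent.Lib.Blocks.FongReduction
import Cfsg.Agent.Lib.CharTheory.ExtCriteria

/-!
# Lifting `p`-modular characters of `p`-solvable groups

For a `p`-solvable group there are irreducible characters spanning all characters on `p`-regular
elements, dual to irreducible characters of `p'`-subgroups.
-/

namespace CfsgLib.FongSwan

open Cfsg CfsgLib.CharTheory CfsgLib.Glauberman CfsgLib.Glauberman.Invariant
open scoped ComplexConjugate

set_option linter.unusedVariables false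
set_option linter.style.haveILetI false
set_option linter.unusedSectionVars false
set_option linter.style.setOption false
set_option maxHeartbeats 1000000

universe u

variable {p : ℕ}

/-- Characters over `θ` spanning on regular elements, dual to characters of `p'`-subgroups. -/
def HasDualBasis (p : ℕ) {G : Type u} [Group G] [Fintype G] (K : Subgroup G) [Fintype K]
    (θ : IrrCharacter K) : Prop :=
  ∃ (ι : Type u) (_ : Fintype ι) (χ : ι → IrrCharacter G),
    (∀ i, mult K.subtype (χ i) θ ≠ 0) ∧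
    (∀ i, ∃ (H : Subgroup G) (_ : Fintype H) (hKH : K ≤ H) (α : IrrCharacter H),
      ¬ p ∣ Nat.card H ∧ mult (Subgroup.inclusion hKH) α θ ≠ 0 ∧ mult H.subtype (χ i) α = 1 ∧
        ∀ j, j ≠ i → mult H.subtype (χ j) α = 0) ∧
    ∀ ψ : IrrCharacter G, mult K.subtype ψ θ ≠ 0 → ∃ c : ι → ℂ, ∀ x : G, ¬ p ∣ orderOf x →
      (ψ : G → ℂ) x = ∑ i, c i * (χ i : G → ℂ) x

/-- The statement at smaller index. -/
def DualBelow (p : ℕ) (n : ℕ) : Prop :=
  ∀ (G : Type u) [Group G] [Fintype G] (K : Subgroup G) [K.Normal] [Fintype K], K.index < n →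
    IsPSolvable p G → ¬ p ∣ Nat.card K → ∀ θ : IrrCharacter K, HasDualBasis p K θ

variable {G : Type u} [Group G] [Fintype G]

/-- Clifford reduction. -/
theorem dual_of_inertia [Fact p.Prime] {n : ℕ} (ih : DualBelow.{u} p n) (K : Subgroup G)
    [K.Normal] [Fintype K] (hn : K.index = n) (hsolv : IsPSolvable p G) (hK : ¬ p ∣ Nat.card K)
    (θ : IrrCharacter K) (hT : inertia K (θ : K → ℂ) ≠ ⊤) : HasDualBasis p K θ := by
  classical
  set T := inertia K (θ : K → ℂ) with hTdef
  haveI := Fintype.ofFinite T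
  have hKT : K ≤ T := le_inertia K (isClassFunction_irr θ.2)
  set K' := K.subgroupOf T with hK'
  haveI := Fintype.ofFinite K'
  let e : K' ≃* K := Subgroup.subgroupOfEquivOfLe hKT
  let θ' : IrrCharacter K' := ⟨fun x => (θ : K → ℂ) (e x),
    isIrrCharacter_comp_surjective θ.2 e.toMonoidHom e.surjective⟩
  have hidx : K'.index < n := by
    rw [← hn, ← Subgroup.relIndex_mul_index hKT]
    exact lt_mul_of_one_lt_right (Nat.pos_of_ne_zero Subgroup.index_ne_zero_of_finite)
      (Subgroup.one_lt_index_of_ne_top hT)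
  obtain ⟨ι, _, ψ, hψθ, hψd, hψs⟩ := ih T K' hidx
    (CfsgLib.Blocks.isPSolvable_subgroup Fact.out hsolv T) (by rwa [Nat.card_congr e.toEquiv]) θ'
  have hover : ∀ β : IrrCharacter T, mult K'.subtype β θ' = mult (Subgroup.inclusion hKT) β θ :=
    fun β => mult_congr (Subgroup.inclusion hKT) K'.subtype e (fun _ => rfl) β θ θ' fun _ => rfl
  have hne : ∀ β : IrrCharacter T, mult (Subgroup.inclusion hKT) β θ ≠ 0 →
      classInner (fun k : K => (β : T → ℂ) ⟨(k : G), hKT k.2⟩) (θ : K → ℂ) ≠ 0 :=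
    fun β h => (mult_ne_zero_iff _ β θ).1 h
  have hψθ' : ∀ i, mult (Subgroup.inclusion hKT) (ψ i) θ ≠ 0 := fun i => hover (ψ i) ▸ hψθ i
  let χ : ι → IrrCharacter G := fun i => ⟨indFun T (ψ i : T → ℂ),
    (clifford_correspondence K θ.2 hKT hTdef.symm.symm (ψ i).2 (hne _ (hψθ' i))).1⟩
  have hmK : ∀ i, mult K.subtype (χ i) θ = mult (Subgroup.inclusion hKT) (ψ i) θ := fun i => by
    refine mult_eq _ _ _ ?_
    rw [← mult_spec]
    exact (clifford_correspondence K θ.2 hKT hTdef.symm.symm (ψ i).2 (hne _ (hψθ' i))).2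
  have hmT : ∀ i, mult T.subtype (χ i) (ψ i) = 1 := fun i => by
    refine mult_eq _ _ _ ?_
    rw [Nat.cast_one]
    exact (frobenius_reciprocity' T (ψ i : T → ℂ) (indFun_isClassFunction T _)).symm.trans
      (classInner_irr_self (χ i).2)
  have hmT0 : ∀ i β, mult (Subgroup.inclusion hKT) β θ ≠ 0 → β ≠ ψ i →
      mult T.subtype (χ i) β = 0 := by
    intro i β hβ hne'
    have h := mult_comp T.subtype (Subgroup.inclusion hKT) (χ i) θ
    rw [show T.subtype.comp (Subgroup.inclusion hKT) = K.subtype from rfl, hmK,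
      ← Finset.add_sum_erase _ _ (Finset.mem_univ (ψ i)), hmT, one_mul] at h
    have h0 := Finset.sum_eq_zero_iff.1 (by omega :
      ∑ β ∈ Finset.univ.erase (ψ i), mult T.subtype (χ i) β * mult (Subgroup.inclusion hKT) β θ = 0)
      β (Finset.mem_erase.2 ⟨hne', Finset.mem_univ _⟩)
    exact (mul_eq_zero.1 h0).resolve_right hβ
  refine ⟨ι, inferInstance, χ, fun i => by rw [hmK]; exact hψθ' i, fun i => ?_, fun φ hφ => ?_⟩
  · obtain ⟨H', _, hKH', α', hH', hα', h1, h0⟩ := hψd i
    set H := H'.map T.subtype with hHdef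
    haveI := Fintype.ofFinite H
    let eH : H' ≃* H := H'.equivMapOfInjective T.subtype T.subtype_injective
    have hKH : K ≤ H := fun k hk => ⟨⟨k, hKT hk⟩, hKH' (show (⟨k, hKT hk⟩ : T) ∈ K' from hk), rfl⟩
    let α : IrrCharacter H := ⟨fun x => (α' : H' → ℂ) (eH.symm x),
      isIrrCharacter_comp_surjective α'.2 eH.symm.toMonoidHom eH.symm.surjective⟩
    have hχα : ∀ j, mult H.subtype (χ j) α =
        ∑ β : IrrCharacter T, mult T.subtype (χ j) β * mult H'.subtype β α' := by
      intro j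
      rw [← mult_comp]
      exact (mult_congr H.subtype (T.subtype.comp H'.subtype) eH (fun _ => rfl) (χ j) α α'
        fun x => by show _ = (α' : H' → ℂ) (eH.symm (eH x)); rw [MulEquiv.symm_apply_apply]).symm
    have hval : ∀ j, mult H.subtype (χ j) α = mult H'.subtype (ψ j) α' := by
      intro j
      rw [hχα, Finset.sum_eq_single (ψ j), hmT, one_mul]
      · intro β _ hβ
        by_cases hb : mult H'.subtype β α' = 0
        · rw [hb, mul_zero]
        · rw [hmT0 j β (hover β ▸ (show mult K'.subtype β θ' ≠ 0 from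
            mult_comp_ne_zero (ι := H'.subtype) (κ := Subgroup.inclusion hKH') hb hα')) hβ, zero_mul]
      · exact fun h => absurd (Finset.mem_univ _) h
    refine ⟨H, inferInstance, hKH, α, ?_, ?_, (hval i).trans h1, fun j hj => (hval j).trans (h0 j hj)⟩
    · rwa [← Nat.card_congr eH.toEquiv]
    · rw [← mult_congr (Subgroup.inclusion hKH) (eH.toMonoidHom.comp (Subgroup.inclusion hKH')) e
        (fun x => Subtype.ext rfl) α θ θ' fun _ => rfl]
      rw [show mult (eH.toMonoidHom.comp (Subgroup.inclusion hKH')) α θ' =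
          mult (Subgroup.inclusion hKH') α' θ' from mult_eq _ _ _ (by
        rw [← mult_spec]
        congr 1
        funext x
        show (α' : H' → ℂ) (eH.symm (eH _)) = _
        rw [MulEquiv.symm_apply_apply])]
      exact hα'
  · obtain ⟨β, hβ1, hβ2⟩ := exists_mult_of_comp (ι := T.subtype) (κ := Subgroup.inclusion hKT)
      (show mult (T.subtype.comp (Subgroup.inclusion hKT)) φ θ ≠ 0 from hφ)
    obtain ⟨c, hc⟩ := hψs β (by rw [hover]; exact hβ2)
    refine ⟨c, fun x hx => ?_⟩
    have heq : (φ : G → ℂ) = indFun T (β : T → ℂ) := by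
      by_contra hne'
      refine (mult_ne_zero_iff _ _ _).1 hβ1 ?_
      show classInner (fun t : T => (φ : G → ℂ) t) (β : T → ℂ) = 0
      rw [← frobenius_reciprocity' T (β : T → ℂ) (isClassFunction_irr φ.2)]
      exact classInner_irr_ne φ.2
        (clifford_correspondence K θ.2 hKT hTdef.symm.symm β.2 (hne β hβ2)).1 hne'
    rw [heq]
    exact indFun_congr_regular T _ c _ hc hx

/-- A nontrivial `p`-solvable factor group has a normal `p`- or `p'`-subgroup. -/
theorem exists_normal_above [Fact p.Prime] (K : Subgroup G) [K.Normal] (hK : K ≠ ⊤)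
    (hsolv : IsPSolvable p G) :
    ∃ L : Subgroup G, L.Normal ∧ K < L ∧
      ((∃ m, K.relIndex L = p ^ m) ∨ (K.relIndex L).Coprime p) := by
  obtain ⟨n, H, h0, h1, hm, hn, hf⟩ := hsolv
  obtain ⟨i, hi, hi'⟩ : ∃ i : Fin n, H i.castSucc ≤ K ∧ ¬ H i.succ ≤ K := by
    by_contra hno
    push Not at hno
    have hall : ∀ i : Fin (n + 1), H i ≤ K := fun i => by
      induction i using Fin.induction with
      | zero => rw [h0]; exact bot_le
      | succ i ih => exact hno i ih
    exact hK (top_le_iff.1 (h1 ▸ hall (Fin.last n)))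
  haveI := hn i.succ
  refine ⟨H i.succ ⊔ K, Subgroup.sup_normal _ _, lt_of_le_of_ne le_sup_right fun e =>
    hi' (e ▸ le_sup_left), ?_⟩
  have hd : K.relIndex (H i.succ ⊔ K) ∣ (H i.castSucc).relIndex (H i.succ) := by
    rw [Subgroup.relIndex_sup_right]
    exact Subgroup.relIndex_dvd_of_le_left _ hi
  rcases hf i with ⟨m, hm'⟩ | hc
  · obtain ⟨j, -, hj⟩ := (Nat.dvd_prime_pow (Fact.out : p.Prime)).1 (hm' ▸ hd)
    exact Or.inl ⟨j, hj⟩
  · exact Or.inr (hc.coprime_dvd_left hd)

/-- Union over the orbits on a larger normal `p'`-subgroup. -/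
theorem dual_of_larger [Fact p.Prime] {n : ℕ} (ih : DualBelow.{u} p n) (K L : Subgroup G)
    [K.Normal] [L.Normal] [Fintype K] (hn : K.index = n) (hsolv : IsPSolvable p G) (hKL : K < L)
    (hL : ¬ p ∣ Nat.card L) (hZ : K ≤ Subgroup.center G) (θ : IrrCharacter K) :
    HasDualBasis p K θ := by
  classical
  haveI := Fintype.ofFinite L
  let S := {η : IrrCharacter L // mult (Subgroup.inclusion hKL.le) η θ ≠ 0}
  let sd : Setoid S :=
    { r := fun a b => ∃ g : G, conjNormFun L g (a.1 : L → ℂ) = (b.1 : L → ℂ)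
      iseqv := ⟨fun a => ⟨1, conjNormFun_one L _⟩,
        fun {a b} ⟨g, h⟩ => ⟨g⁻¹, by rw [← h, conjNormFun_inv]⟩,
        fun {a b c} ⟨g, h⟩ ⟨g', h'⟩ => ⟨g * g', by rw [conjNormFun_mul, h, h']⟩⟩ }
  have hlt : L.index < n := hn ▸ Subgroup.index_strictAnti hKL
  choose ι hι χ hχθ hχd hχs using fun q : Quotient sd => ih G L hlt hsolv hL q.out.1
  haveI := fun q => hι q
  haveI : Fintype (Quotient sd) := Fintype.ofFinite _
  refine ⟨Σ q, ι q, inferInstance, fun i => χ i.1 i.2, fun i => ?_, fun i => ?_, fun φ hφ => ?_⟩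
  · exact mult_comp_ne_zero (ι := L.subtype) (κ := Subgroup.inclusion hKL.le) (hχθ i.1 i.2)
      i.1.out.2
  · obtain ⟨H, _, hLH, α, hH, hα, h1, h0⟩ := hχd i.1 i.2
    refine ⟨H, inferInstance, hKL.le.trans hLH, α, hH,
      mult_comp_ne_zero (ι := Subgroup.inclusion hLH) (κ := Subgroup.inclusion hKL.le) hα i.1.out.2,
      h1, fun j hj => ?_⟩
    by_cases hq : j.1 = i.1
    · obtain ⟨q, a⟩ := j
      obtain ⟨q', b⟩ := i
      simp only at hq
      subst hq
      exact h0 a fun e => hj (by rw [e])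
    · by_contra hne
      refine hq ?_
      have h2 : mult L.subtype (χ j.1 j.2) i.1.out.1 ≠ 0 :=
        mult_comp_ne_zero (ι := H.subtype) (κ := Subgroup.inclusion hLH) hne hα
      have h1' := hχθ j.1 j.2
      generalize hχe : χ j.1 j.2 = χj at h1' h2
      rw [mult_ne_zero_iff] at h1' h2
      have hc := exists_conj_of_constituents L (θ := (j.1.out.1 : L → ℂ))
        (φ := (i.1.out.1 : L → ℂ)) χj.2 (Subtype.property _) (Subtype.property _) h1' h2
      rw [← Quotient.out_eq j.1, ← Quotient.out_eq i.1]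
      exact Quotient.sound hc
  · obtain ⟨η, hη1, hη2⟩ := exists_mult_of_comp (ι := L.subtype)
      (κ := Subgroup.inclusion hKL.le)
      (show mult (L.subtype.comp (Subgroup.inclusion hKL.le)) φ θ ≠ 0 from hφ)
    obtain ⟨g, hg⟩ : ∃ g : G, conjNormFun L g (η : L → ℂ) =
        ((Quotient.mk sd ⟨η, hη2⟩).out.1 : L → ℂ) := by
      obtain ⟨g, hg⟩ := Quotient.mk_out (s := sd) (⟨η, hη2⟩ : S)
      exact ⟨g⁻¹, by rw [← hg, conjNormFun_inv]⟩
    set q := Quotient.mk sd (⟨η, hη2⟩ : S) with hq
    obtain ⟨c, hc⟩ := hχs q φ (by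
      rw [mult_ne_zero_iff, ← hg]
      show classInner (fun n : L => (φ : G → ℂ) n) _ ≠ 0
      rw [classInner_res_conjNormFun L g (isClassFunction_irr φ.2)]
      exact (mult_ne_zero_iff _ _ _).1 hη1)
    refine ⟨fun i => if h : i.1 = q then c (h ▸ i.2) else 0, fun x hx => ?_⟩
    rw [hc x hx, Fintype.sum_sigma, Finset.sum_eq_single q]
    · refine Finset.sum_congr ?_ fun a _ => ?_
      · convert rfl using 2
      · simp
    · intro q' _ hq'
      exact Finset.sum_eq_zero fun a _ => by simp [hq']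
    · exact fun h => absurd (Finset.mem_univ _) h

/-- Passing to the factor group by a normal `p`-subgroup. -/
theorem dual_of_pSubgroup [Fact p.Prime] {n : ℕ} (ih : DualBelow.{u} p n) (K Q : Subgroup G)
    [K.Normal] [Q.Normal] [Fintype K] (hn : K.index = n) (hsolv : IsPSolvable p G)
    (hK : ¬ p ∣ Nat.card K) (hQ : IsPGroup p Q) (hQ1 : Q ≠ ⊥) (hZ : K ≤ Subgroup.center G)
    (θ : IrrCharacter K) : HasDualBasis p K θ := by
  classical
  have hp : p.Prime := Fact.out
  let f := QuotientGroup.mk' Q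
  have hf : Function.Surjective f := QuotientGroup.mk'_surjective Q
  have hker : IsPGroup p f.ker := by rw [QuotientGroup.ker_mk']; exact hQ
  haveI := Fintype.ofFinite (G ⧸ Q)
  set Kb := K.map f with hKb
  haveI : Kb.Normal := Subgroup.Normal.map inferInstance _ hf
  haveI := Fintype.ofFinite Kb
  have hKQ : ∀ k ∈ K, k ∈ Q → k = 1 := by
    intro k hk hkQ
    obtain ⟨j, hj⟩ := hQ ⟨k, hkQ⟩
    exact orderOf_eq_one_iff.1 (Nat.eq_one_of_dvd_coprimes
      ((hp.coprime_iff_not_dvd.2 (regular_of_mem hK hk)).pow_left j)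
      (orderOf_dvd_of_pow_eq_one (congrArg Subtype.val hj)) dvd_rfl)
  let e : K ≃* Kb := MulEquiv.ofBijective (f.subgroupMap K) ⟨by
    rw [injective_iff_map_eq_one]
    exact fun k hk => Subtype.ext
      (hKQ k k.2 ((QuotientGroup.eq_one_iff _).1 (congrArg Subtype.val hk))),
    f.subgroupMap_surjective K⟩
  have he : ∀ k : K, ((e k : Kb) : G ⧸ Q) = f k := fun _ => rfl
  let θb : IrrCharacter Kb := ⟨fun x => (θ : K → ℂ) (e.symm x),
    isIrrCharacter_comp_surjective θ.2 e.symm.toMonoidHom e.symm.surjective⟩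
  have hθb : ∀ x, (θ : K → ℂ) x = (θb : Kb → ℂ) (e x) := fun x => by
    show _ = (θ : K → ℂ) (e.symm (e x))
    rw [MulEquiv.symm_apply_apply]
  have hidx : Kb.index < n := by
    rw [hKb, Subgroup.index_map, MonoidHom.range_eq_top.2 hf, Subgroup.index_top, mul_one,
      QuotientGroup.ker_mk', ← hn]
    refine Subgroup.index_strictAnti (lt_of_le_of_ne le_sup_left fun hKQ' => hQ1 ?_)
    refine eq_bot_iff.2 fun x hx => ?_
    exact Subgroup.mem_bot.2 (hKQ x (hKQ' ▸ Subgroup.mem_sup_right hx) hx)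
  have hKbc : ¬ p ∣ Nat.card Kb := by rwa [← Nat.card_congr e.toEquiv]
  obtain ⟨ι, _, χb, hχθ, hχd, hχs⟩ := ih (G ⧸ Q) Kb hidx
    (PSolvableClosure.of_surjective f hf hsolv) hKbc θb
  let χ : ι → IrrCharacter G := fun i =>
    ⟨fun g => (χb i : G ⧸ Q → ℂ) (f g), isIrrCharacter_comp_surjective (χb i).2 f hf⟩
  have hover : ∀ (β : IrrCharacter (G ⧸ Q)) (β' : IrrCharacter G),
      (∀ g, (β' : G → ℂ) g = (β : G ⧸ Q → ℂ) (f g)) →
      mult K.subtype β' θ = mult Kb.subtype β θb := by
    intro β β' hβ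
    refine mult_eq _ _ _ ?_
    rw [← mult_congr Kb.subtype (f.comp K.subtype) e (fun k => (he k).symm) β θb θ hθb, ← mult_spec]
    congr 1
    funext k
    exact hβ k
  refine ⟨ι, inferInstance, χ, fun i => (hover (χb i) (χ i) fun _ => rfl) ▸ hχθ i, fun i => ?_,
    fun ψ hψ => ?_⟩
  · obtain ⟨Hb, _, hKHb, αb, hHb, hαb, h1, h0⟩ := hχd i
    set Li := Hb.comap f with hLi
    set Q' := Q.subgroupOf Li with hQ'
    have hQL : Q ≤ Li := fun x hx => by
      show f x ∈ Hb
      rw [show f x = 1 from (QuotientGroup.eq_one_iff x).2 hx]; exact Hb.one_mem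
    have hQ'i : Q'.index = Nat.card Hb := by
      rw [show Q'.index = Q.relIndex Li from rfl,
        show Q.relIndex Li = f.ker.relIndex Li by rw [QuotientGroup.ker_mk'],
        Subgroup.relIndex_ker, hLi, Subgroup.map_comap_eq_self_of_surjective hf]
    obtain ⟨C, hC⟩ := Subgroup.exists_right_complement'_of_coprime (N := Q') (by
      obtain ⟨k, hk⟩ := hQ.exists_card_eq
      rw [hQ'i, Nat.card_congr (Subgroup.subgroupOfEquivOfLe hQL).toEquiv, hk]
      exact (hp.coprime_iff_not_dvd.2 hHb).pow_left k)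
    set H := C.map Li.subtype with hH
    haveI := Fintype.ofFinite H
    have hHL : ∀ x : H, f (x : G) ∈ Hb := fun x => Subgroup.map_subtype_le C x.2
    let r : H →* Hb := (f.comp H.subtype).codRestrict Hb hHL
    have hr : Function.Bijective r := by
      refine ⟨?_, fun y => ?_⟩
      · rw [injective_iff_map_eq_one]
        rintro ⟨_, c, hc, rfl⟩ hx
        have hcQ : c ∈ Q' :=
          Subgroup.mem_subgroupOf.2 ((QuotientGroup.eq_one_iff (c : G)).1 (congrArg Subtype.val hx :))
        exact Subtype.ext (congrArg Subtype.val (Subgroup.disjoint_def.1 hC.disjoint hcQ hc) :)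
      · obtain ⟨g, hg⟩ := hf (y : G ⧸ Q)
        have hgL : g ∈ Li := by show f g ∈ Hb; rw [hg]; exact y.2
        have : (⟨g, hgL⟩ : Li) ∈ Q' ⊔ C := hC.sup_eq_top ▸ Subgroup.mem_top _
        rw [Subgroup.mem_sup_of_normal_left] at this
        obtain ⟨a, ha, c, hc, hac⟩ := this
        refine ⟨⟨(c : G), c, hc, rfl⟩, Subtype.ext ?_⟩
        show f (c : G) = y
        rw [← hg, show g = (a : G) * c from (congrArg Subtype.val hac).symm, map_mul,
          show f (a : G) = 1 from (QuotientGroup.eq_one_iff _).2 ha, one_mul]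
    let eH : H ≃* Hb := MulEquiv.ofBijective r hr
    have hHc : ¬ p ∣ Nat.card H := by rwa [Nat.card_congr eH.toEquiv]
    have hKH : K ≤ H := by
      intro k hk
      obtain ⟨h, hh⟩ := hr.2 ⟨f k, hKHb ⟨k, hk, rfl⟩⟩
      have hh' : f (h : G) = f k := congrArg Subtype.val hh
      have hq : (h : G)⁻¹ * k ∈ Q := (QuotientGroup.eq_one_iff _).1 (show f ((h : G)⁻¹ * k) = 1 by
        rw [map_mul, map_inv, hh', inv_mul_cancel])
      obtain ⟨j, hj⟩ := hQ ⟨_, hq⟩
      have hcomm : Commute (h : G)⁻¹ k := Subgroup.mem_center_iff.1 (hZ hk) _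
      have hreg : ¬ p ∣ orderOf ((h : G)⁻¹ * k) := fun hd => by
        rcases (Nat.Prime.dvd_mul hp).1 (hd.trans hcomm.orderOf_mul_dvd_mul_orderOf) with h' | h'
        · exact regular_of_mem hHc (H.inv_mem h.2) h'
        · exact regular_of_mem hK hk h'
      have h1 : (h : G)⁻¹ * k = 1 := orderOf_eq_one_iff.1 (Nat.eq_one_of_dvd_coprimes
        ((hp.coprime_iff_not_dvd.2 hreg).pow_left j)
        (orderOf_dvd_of_pow_eq_one (congrArg Subtype.val hj)) dvd_rfl)
      rw [inv_mul_eq_one] at h1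
      exact h1 ▸ h.2
    let α : IrrCharacter H := ⟨fun x => (αb : Hb → ℂ) (eH x),
      isIrrCharacter_comp_surjective αb.2 eH.toMonoidHom eH.surjective⟩
    have hval : ∀ j, mult H.subtype (χ j) α = mult Hb.subtype (χb j) αb := by
      intro j
      refine mult_eq _ _ _ ?_
      rw [← mult_congr Hb.subtype (f.comp H.subtype) eH (fun _ => rfl) (χb j) αb α (fun _ => rfl),
        ← mult_spec]
      rfl
    refine ⟨H, inferInstance, hKH, α, hHc, ?_, (hval i).trans h1, fun j hj => (hval j).trans (h0 j hj)⟩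
    rw [show mult (Subgroup.inclusion hKH) α θ =
        mult (eH.toMonoidHom.comp (Subgroup.inclusion hKH)) αb θ from mult_eq _ _ _ (by
      rw [← mult_spec]; rfl),
      mult_congr (Subgroup.inclusion hKHb) (eH.toMonoidHom.comp (Subgroup.inclusion hKH)) e
        (fun k => Subtype.ext rfl) αb θb θ hθb]
    exact hαb
  · choose lift hlift1 hlift2 using fun (y : G ⧸ Q) (hy : ¬ p ∣ orderOf y) =>
      exists_regular_preimage hp f hf hy
    let φ : G ⧸ Q → ℂ := fun y => if hy : ¬ p ∣ orderOf y then (ψ : G → ℂ) (lift y hy) else 0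
    have hφx : ∀ x : G, ¬ p ∣ orderOf x → φ (f x) = (ψ : G → ℂ) x := by
      intro x hx
      have hfx : ¬ p ∣ orderOf (f x) := fun h => hx (h.trans (orderOf_map_dvd f x))
      show dite _ _ _ = _
      rw [dif_pos hfx]
      exact CfsgLib.Blocks.classFun_eq_of_isConj (isClassFunction_irr ψ.2)
        (isConj_of_regular_preimage hp f hker (hlift1 _ hfx) hx (hlift2 _ hfx))
    have hφ0 : ∀ y, p ∣ orderOf y → φ y = 0 := fun y hy => dif_neg (not_not.2 hy)
    have hφc : IsClassFunction (G ⧸ Q) φ := by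
      intro y g
      by_cases hy : ¬ p ∣ orderOf y
      · obtain ⟨x, hx, rfl⟩ := exists_regular_preimage hp f hf hy
        obtain ⟨g, rfl⟩ := hf g
        rw [← map_inv, ← map_mul, ← map_mul, hφx x hx, hφx]
        · exact isClassFunction_irr ψ.2 x g
        · rwa [← MulAut.conj_apply, MulEquiv.orderOf_eq]
      · rw [hφ0 y (not_not.1 hy), hφ0]
        rw [← MulAut.conj_apply, MulEquiv.orderOf_eq]
        exact not_not.1 hy
    let ω : K → ℂ := fun k => (θ : K → ℂ) k / (θ : K → ℂ) 1
    have hφk : ∀ (k : K) (y : G ⧸ Q), φ (f (k : G) * y) = ω k * φ y := by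
      intro k y
      have hkc : Commute (f (k : G)) y := by
        obtain ⟨x, rfl⟩ := hf y
        exact (show Commute (k : G) x from (Subgroup.mem_center_iff.1 (hZ k.2) x).symm).map f
      by_cases hy : ¬ p ∣ orderOf y
      · obtain ⟨x, hx, rfl⟩ := exists_regular_preimage hp f hf hy
        have hkx : ¬ p ∣ orderOf ((k : G) * x) := fun hd => by
          rcases (Nat.Prime.dvd_mul hp).1 (hd.trans (show Commute (k : G) x from
            (Subgroup.mem_center_iff.1 (hZ k.2) x).symm).orderOf_mul_dvd_mul_orderOf) with h' | h'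
          · exact regular_of_mem hK k.2 h'
          · exact hx h'
        rw [← map_mul, hφx _ hkx, hφx _ hx, CfsgLib.Blocks.central_value_mul (hZ k.2) ψ x,
          central_apply hZ hψ, mul_div_cancel_left₀ _ (irr_ne_zero ψ.2)]
      · rw [hφ0 y (not_not.1 hy), mul_zero, hφ0]
        by_contra hky
        refine hy ?_
        intro hd
        have h2 : orderOf y ∣ orderOf (f (k : G))⁻¹ * orderOf (f (k : G) * y) := by
          conv_lhs => rw [show y = (f (k : G))⁻¹ * (f (k : G) * y) by group]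
          exact ((Commute.refl _).mul_right hkc).inv_left.orderOf_mul_dvd_mul_orderOf
        rcases (Nat.Prime.dvd_mul hp).1 (hd.trans h2) with h' | h'
        · rw [orderOf_inv] at h'
          exact regular_of_mem hK k.2 (h'.trans (orderOf_map_dvd f _))
        · exact hky h'
    have hover2 : ∀ β : IrrCharacter (G ⧸ Q), classInner φ (β : G ⧸ Q → ℂ) ≠ 0 →
        mult Kb.subtype β θb ≠ 0 := by
      intro β hβ
      have hbc : Kb ≤ Subgroup.center (G ⧸ Q) := by
        rintro _ ⟨k, hk, rfl⟩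
        rw [Subgroup.mem_center_iff]
        intro y
        obtain ⟨x, rfl⟩ := hf y
        rw [← map_mul, ← map_mul, Subgroup.mem_center_iff.1 (hZ hk) x]
      have hres : (fun k : Kb => (β : G ⧸ Q → ℂ) k) =
          ((β : G ⧸ Q → ℂ) 1 / (θ : K → ℂ) 1) • (θb : Kb → ℂ) := by
        funext kb
        obtain ⟨k, rfl⟩ := e.surjective kb
        show (β : G ⧸ Q → ℂ) (f k) = _ * (θb : Kb → ℂ) (e k)
        rw [← hθb]
        have hkc : f (k : G) ∈ Subgroup.center (G ⧸ Q) := hbc ⟨k, k.2, rfl⟩
        set b := (β : G ⧸ Q → ℂ) (f (k : G)) / (β : G ⧸ Q → ℂ) 1 with hb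
        have h := classInner_irr_self β.2
        have hshift : ∀ a c : G ⧸ Q → ℂ,
            classInner (fun y => a (f (k : G) * y)) (fun y => c (f (k : G) * y)) = classInner a c :=
          fun a c => by
          unfold classInner
          congr 1
          exact Fintype.sum_equiv (Equiv.mulLeft (f (k : G))) _ _ fun y => rfl
        have e1 : (fun y => φ (f (k : G) * y)) = ω k • φ := funext (hφk k)
        have e2 : (fun y => (β : G ⧸ Q → ℂ) (f (k : G) * y)) = b • (β : G ⧸ Q → ℂ) :=
          funext fun y => CfsgLib.Blocks.central_value_mul hkc β y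
        have h3 := hshift φ (β : G ⧸ Q → ℂ)
        have h4 := hshift (β : G ⧸ Q → ℂ) (β : G ⧸ Q → ℂ)
        rw [e1, e2, classInner_smul_left, classInner_smul_right, ← mul_assoc] at h3
        rw [e2, classInner_smul_left, classInner_smul_right, h, mul_one] at h4
        have h5 : ω k * conj b = 1 := mul_right_cancel₀ hβ (h3.trans (one_mul _).symm)
        have h6 : ω k = b := by
          calc ω k = ω k * (b * conj b) := by rw [h4, mul_one]
            _ = ω k * conj b * b := by ring
            _ = b := by rw [h5, one_mul]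
        rw [div_mul_eq_mul_div, mul_div_assoc, show (θ : K → ℂ) k / (θ : K → ℂ) 1 = b from h6, hb,
          mul_div_cancel₀ _ (irr_ne_zero β.2)]
      rw [mult_ne_zero_iff]
      show classInner (fun k : Kb => (β : G ⧸ Q → ℂ) k) (θb : Kb → ℂ) ≠ 0
      rw [hres, classInner_smul_left, classInner_irr_self θb.2, mul_one]
      exact div_ne_zero (irr_ne_zero β.2) (irr_ne_zero θ.2)
    have hc : ∀ β : IrrCharacter (G ⧸ Q), ∃ c : ι → ℂ, ∀ y, ¬ p ∣ orderOf y →
        classInner φ (β : G ⧸ Q → ℂ) * (β : G ⧸ Q → ℂ) y = ∑ i, c i * (χb i : G ⧸ Q → ℂ) y := by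
      intro β
      by_cases hβ : classInner φ (β : G ⧸ Q → ℂ) = 0
      · exact ⟨0, fun y _ => by rw [hβ, zero_mul]; simp⟩
      obtain ⟨c, hc⟩ := hχs β (hover2 β hβ)
      exact ⟨fun i => classInner φ (β : G ⧸ Q → ℂ) * c i, fun y hy => by
        rw [hc y hy, Finset.mul_sum]; exact Finset.sum_congr rfl fun i _ => (mul_assoc _ _ _).symm⟩
    choose c hc using hc
    refine ⟨fun i => ∑ β, c β i, fun x hx => ?_⟩
    have hfx : ¬ p ∣ orderOf (f x) := fun h => hx (h.trans (orderOf_map_dvd f x))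
    rw [← hφx x hx, eq_sum_irr hφc, Finset.sum_apply]
    simp only [Pi.smul_apply, smul_eq_mul, hc _ _ hfx, Finset.sum_mul]
    exact Finset.sum_comm

/-- The case of a central subgroup. -/
theorem dual_central [Fact p.Prime] {n : ℕ} (ih : DualBelow.{u} p n) (K : Subgroup G)
    [K.Normal] [Fintype K] (hn : K.index = n) (hsolv : IsPSolvable p G) (hK : ¬ p ∣ Nat.card K)
    (hZ : K ≤ Subgroup.center G) (θ : IrrCharacter K) : HasDualBasis p K θ := by
  classical
  have hp : p.Prime := Fact.out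
  by_cases hKt : K = ⊤
  · let e : K ≃* G := (MulEquiv.subgroupCongr hKt).trans Subgroup.topEquiv
    have he : ∀ k : K, e k = k := fun _ => rfl
    let χ : IrrCharacter G := ⟨fun g => (θ : K → ℂ) (e.symm g),
      isIrrCharacter_comp_surjective θ.2 e.symm.toMonoidHom e.symm.surjective⟩
    have h1 : mult K.subtype χ θ = 1 := by
      refine mult_eq _ _ _ ?_
      rw [show (fun k : K => (χ : G → ℂ) (K.subtype k)) = (θ : K → ℂ) from funext fun k => by
        show (θ : K → ℂ) (e.symm (e k)) = _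
        rw [MulEquiv.symm_apply_apply], classInner_irr_self θ.2, Nat.cast_one]
    refine ⟨PUnit, inferInstance, fun _ => χ, fun _ => by rw [h1]; exact one_ne_zero, fun i =>
      ⟨K, inferInstance, le_refl _, θ, hK, ?_, h1, fun j hj => absurd (Subsingleton.elim j i) hj⟩,
      fun ψ hψ => ⟨fun _ => (ψ : G → ℂ) 1 / (χ : G → ℂ) 1, fun x _ => ?_⟩⟩
    · rw [show mult (Subgroup.inclusion (le_refl K)) θ θ = 1 from mult_eq _ _ _ (by
        rw [Nat.cast_one]; exact classInner_irr_self θ.2)]
      exact one_ne_zero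
    · obtain ⟨k, rfl⟩ := e.surjective x
      rw [Fintype.sum_unique, he, central_apply hZ hψ k]
      show _ = _ / (θ : K → ℂ) (e.symm 1) * (θ : K → ℂ) (e.symm (e k))
      rw [map_one, MulEquiv.symm_apply_apply]
      ring
  obtain ⟨L, hLn, hKL, hL⟩ := exists_normal_above K hKt hsolv
  rcases hL with ⟨m, hm⟩ | hc
  · -- a normal `p`-subgroup
    set K' := K.subgroupOf L with hK'
    haveI : K'.Normal := Subgroup.Normal.comap inferInstance _
    have hcop : (Nat.card K').Coprime K'.index := by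
      rw [Nat.card_congr (Subgroup.subgroupOfEquivOfLe hKL.le).toEquiv,
        show K'.index = K.relIndex L from rfl, hm]
      exact ((hp.coprime_iff_not_dvd.2 hK).symm).pow_right m
    obtain ⟨C, hC⟩ := Subgroup.exists_right_complement'_of_coprime hcop
    have hCn : C.Normal := ⟨fun c hc x => by
      have : x ∈ K' ⊔ C := hC.sup_eq_top ▸ Subgroup.mem_top _
      rw [Subgroup.mem_sup_of_normal_left] at this
      obtain ⟨a, ha, b, hb, rfl⟩ := this
      have h2 : b * c * b⁻¹ ∈ C := C.mul_mem (C.mul_mem hb hc) (C.inv_mem hb)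
      have h3 : a * (b * c * b⁻¹) = (b * c * b⁻¹) * a :=
        Subtype.ext (Subgroup.mem_center_iff.1 (hZ ha) _).symm
      rw [show a * b * c * (a * b)⁻¹ = a * (b * c * b⁻¹) * a⁻¹ by group, h3, mul_inv_cancel_right]
      exact h2⟩
    have hCc : Nat.card C = p ^ m := by rw [← hC.symm.index_eq_card]; exact hm
    haveI : Fintype L := Fintype.ofFinite L
    let S : Sylow p L := IsPGroup.toSylow (P := C) (IsPGroup.of_card hCc) (by
      rw [hC.index_eq_card, Nat.card_congr (Subgroup.subgroupOfEquivOfLe hKL.le).toEquiv]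
      exact hK)
    haveI : (S : Subgroup L).Characteristic := S.characteristic_of_normal hCn
    haveI : ((S : Subgroup L).map L.subtype).Normal := ConjAct.normal_of_characteristic_of_normal
    refine dual_of_pSubgroup ih K ((S : Subgroup L).map L.subtype) hn hsolv hK ?_ ?_ hZ θ
    · exact (IsPGroup.of_card hCc).map L.subtype
    · intro h0
      have : Nat.card ((S : Subgroup L).map L.subtype) = 1 := by rw [h0, Subgroup.card_bot]
      rw [Subgroup.card_map_of_injective L.subtype_injective, show Nat.card (S : Subgroup L) = p ^ m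
        from hCc] at this
      exact hKL.not_ge (Subgroup.relIndex_eq_one.1 (hm.trans this))
  · refine dual_of_larger ih K L hn hsolv hKL ?_ hZ θ
    rw [← Subgroup.relIndex_bot_left, ← Subgroup.relIndex_mul_relIndex ⊥ K L bot_le hKL.le,
      Subgroup.relIndex_bot_left]
    exact fun h => ((Nat.Prime.dvd_mul hp).1 h).elim hK (hp.coprime_iff_not_dvd.1 hc.symm)

/-- The case of an invariant character: passing to a central subgroup. -/
theorem dual_of_invariant [Fact p.Prime] {n : ℕ} (ih : DualBelow.{u} p n) (K : Subgroup G)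
    [K.Normal] [Fintype K] (hn : K.index = n) (hsolv : IsPSolvable p G) (hK : ¬ p ∣ Nat.card K)
    (θ : IrrCharacter K) (hT : inertia K (θ : K → ℂ) = ⊤) : HasDualBasis p K θ := by
  classical
  have hp : p.Prime := Fact.out
  have hinv : ∀ (x : G) (n : K), (θ : K → ℂ) ⟨x * n * x⁻¹, Subgroup.Normal.conj_mem inferInstance
      (n : G) n.2 x⟩ = (θ : K → ℂ) n := fun x n =>
    congrFun ((mem_inertia K).1 (show x ∈ inertia K (θ : K → ℂ) by rw [hT]; trivial)) n
  obtain ⟨θf, hθ⟩ := θ
  obtain ⟨d, ρ, hρ, rfl⟩ := hθ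
  clear hT
  haveI : Nontrivial (Fin d → ℂ) := nontrivial_of_irr ρ
  have hinv' : ∀ (g : G) (x : K), ρ.character (MulAut.conjNormal g x) = ρ.character x :=
    invariant_of_rep rfl hinv
  have hμ : ∀ n : K, detHom ρ n ^ Nat.card K = (1 : G →* ℂˣ) n := fun n => by
    rw [MonoidHom.one_apply, ← map_pow, pow_card_eq_one', map_one]
  have hk : Nat.card K ≠ 0 := Nat.card_pos.ne'
  let E := extGroup ρ (1 : G →* ℂˣ) (Nat.card K)
  haveI := finite_extGroup (ρ := ρ) (μ := (1 : G →* ℂˣ)) hk
  haveI := Fintype.ofFinite E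
  let π : E →* G := extProj ρ 1 (Nat.card K)
  let inc : K →* E := extIncl ρ 1 (Nat.card K) hμ
  have hsurj : Function.Surjective π := extProj_surjective hinv' hk
  haveI := range_extIncl_normal hμ
  let M : Subgroup E := inc.range
  haveI := Fintype.ofFinite M
  let q := QuotientGroup.mk' M
  have hq := QuotientGroup.mk'_surjective M
  haveI := Fintype.ofFinite (E ⧸ M)
  let P := (extRep ρ (1 : G →* ℂˣ) (Nat.card K)).character
  have hπι : ∀ n : K, π (inc n) = n := fun n => rfl
  have hqι : ∀ n : K, q (inc n) = 1 := fun n => (QuotientGroup.eq_one_iff _).2 ⟨n, rfl⟩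
  have hP : IsCharacter E P := isCharacter_character _
  have hPn : ∀ n : K, P (inc n) = ρ.character n := fun n => rfl
  have hinj : Function.Injective inc := fun a b h =>
    Subtype.ext (congrArg (fun z : E => z.1.1) h)
  let eK : K ≃* M := MonoidHom.ofInjective hinj
  have hPM : IsIrrCharacter M (fun x : M => P x) := by
    rw [show (fun x : M => P x) = ρ.character ∘ eK.symm.toMonoidHom from funext fun x => by
      obtain ⟨n, rfl⟩ := eK.surjective x
      show P (inc n) = ρ.character (eK.symm (eK n))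
      rw [MulEquiv.symm_apply_apply, hPn]]
    exact isIrrCharacter_comp_surjective ⟨d, ρ, hρ, rfl⟩ eK.symm.toMonoidHom eK.symm.surjective
  -- the kernel of the projection
  choose c hc1 hc using fun γ : π.ker => exists_scalar_of_proj_one (MonoidHom.mem_ker.1 γ.2)
  have hdK : d ∣ Nat.card K := by simpa using finrank_dvd_card ρ
  have hkreg : ∀ γ : π.ker, ¬ p ∣ orderOf γ := by
    intro γ h
    have h1 : γ ^ (d * Nat.card K) = 1 := by
      refine Subtype.ext (Subtype.ext (Prod.ext ?_ ?_))
      · show (π γ) ^ (d * Nat.card K) = 1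
        rw [MonoidHom.mem_ker.1 γ.2, one_pow]
      · show ((γ : E).1.2) ^ (d * Nat.card K) = 1
        rw [hc γ, ← map_pow]
        have h2 := hc1 γ
        simp only [Module.finrank_fintype_fun_eq_card, Fintype.card_fin] at h2
        rw [h2, map_one]
    rcases (Nat.Prime.dvd_mul hp).1 (h.trans (orderOf_dvd_of_pow_eq_one h1)) with h' | h'
    · exact hK (h'.trans hdK)
    · exact hK h'
  let Z := π.ker.map q
  haveI := Fintype.ofFinite Z
  have hZc : Z ≤ Subgroup.center (E ⧸ M) := by
    rintro _ ⟨γ, hγ, rfl⟩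
    rw [Subgroup.mem_center_iff]
    intro y
    obtain ⟨y, rfl⟩ := hq y
    rw [← map_mul, ← map_mul]
    congr 1
    refine Subtype.ext (Prod.ext ?_ ?_)
    · show y.1.1 * π γ = π γ * y.1.1
      rw [MonoidHom.mem_ker.1 hγ, one_mul, mul_one]
    · show y.1.2 * γ.1.2 = γ.1.2 * y.1.2
      rw [hc ⟨γ, hγ⟩, scalarUnit_comm]
  haveI : Z.Normal := ⟨fun a ha g => by
    rwa [Subgroup.mem_center_iff.1 (hZc ha) g, mul_inv_cancel_right]⟩
  have hZp : ¬ p ∣ Nat.card Z := fun h => by
    obtain ⟨x, hx⟩ := exists_prime_orderOf_dvd_card' p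
      (h.trans (Subgroup.card_map_dvd (H := π.ker) q))
    exact hkreg x (hx ▸ dvd_rfl)
  have hsup : π.ker ⊔ M = K.comap π := by
    refine le_antisymm (sup_le ?_ ?_) fun γ hγ => ?_
    · intro γ hγ
      show π γ ∈ K
      rw [MonoidHom.mem_ker.1 hγ]; exact K.one_mem
    · rintro _ ⟨n, rfl⟩; exact n.2
    · have h1 : γ * (inc ⟨π γ, hγ⟩)⁻¹ ∈ π.ker := by
        rw [MonoidHom.mem_ker, map_mul, map_inv, hπι, mul_inv_cancel]
      have h2 : inc ⟨π γ, hγ⟩ ∈ M := ⟨⟨π γ, hγ⟩, rfl⟩
      simpa using Subgroup.mul_mem_sup h1 h2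
  have hZcomap : Z.comap q = K.comap π := by
    rw [Subgroup.comap_map_eq, QuotientGroup.ker_mk', hsup]
  have hidx : Z.index = n := by
    rw [← Subgroup.index_comap_of_surjective Z hq, hZcomap,
      Subgroup.index_comap_of_surjective K hsurj, hn]
  have hsolv1 : IsPSolvable p (E ⧸ M) := by
    let f : E ⧸ M →* G ⧸ K := QuotientGroup.lift M ((QuotientGroup.mk' K).comp π) (by
      rintro _ ⟨n, rfl⟩
      exact (QuotientGroup.eq_one_iff (π (inc n))).2 n.2)
    refine of_pPrime_ker f (fun y => ?_) ?_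
      (PSolvableClosure.of_surjective _ (QuotientGroup.mk'_surjective K) hsolv)
    · obtain ⟨x, rfl⟩ := QuotientGroup.mk'_surjective K y
      obtain ⟨γ, rfl⟩ := hsurj x
      exact ⟨q γ, rfl⟩
    · have hf : f.ker = Z := by
        refine Subgroup.comap_injective hq ?_
        rw [MonoidHom.comap_ker, hZcomap]
        show ((QuotientGroup.mk' K).comp π).ker = _
        rw [← MonoidHom.comap_ker, QuotientGroup.ker_mk']
      rw [hf]
      exact (hp.coprime_iff_not_dvd.2 hZp).symm
  -- the linear character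
  let qK : π.ker →* E ⧸ M := q.comp π.ker.subtype
  have hM1 : ∀ γ ∈ M, π γ = 1 → γ = 1 := by
    rintro _ ⟨n, rfl⟩ h
    rw [hπι, OneMemClass.coe_eq_one] at h
    rw [h, map_one]
  have hqK : Function.Injective qK := by
    rw [injective_iff_map_eq_one]
    intro γ h
    exact Subtype.ext (hM1 _ ((QuotientGroup.eq_one_iff _).1 h) γ.2)
  have hrange : qK.range = Z := by
    rw [MonoidHom.range_comp, Subgroup.range_subtype]
  let eZ : π.ker ≃* Z := (MonoidHom.ofInjective hqK).trans (MulEquiv.subgroupCongr hrange)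
  let ch : π.ker →* ℂˣ :=
    { toFun := c
      map_one' := scalarUnit_injective (V := Fin d → ℂ) (by
        rw [← hc, map_one]; rfl)
      map_mul' := fun a b => scalarUnit_injective (V := Fin d → ℂ) (by
        rw [← hc, map_mul, ← hc, ← hc]; rfl) }
  let lam : IrrCharacter Z := ⟨_, isIrrCharacter_linear ((ch.comp eZ.symm.toMonoidHom)⁻¹)⟩
  have hlam : ∀ γ : π.ker, (lam : Z → ℂ) (eZ γ) = (c γ : ℂ)⁻¹ := fun γ => by
    show (((ch (eZ.symm (eZ γ)))⁻¹ : ℂˣ) : ℂ) = _
    rw [MulEquiv.symm_apply_apply, Units.val_inv_eq_inv_val]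
    rfl
  have hlam1 : (lam : Z → ℂ) 1 = 1 := by
    show (((ch.comp eZ.symm.toMonoidHom)⁻¹ 1 : ℂˣ) : ℂ) = 1
    rw [map_one, Units.val_one]
  have hP1 : ∀ γ : π.ker, P (γ : E) = (c γ : ℂ) * P 1 := by
    intro γ
    show LinearMap.trace ℂ _ (((γ : E)).1.2 : Module.End ℂ (Fin d → ℂ)) = _ * _
    rw [hc γ, coe_scalarUnit, map_smul, smul_eq_mul]
    congr 1
  have hP0 : P 1 ≠ 0 := by
    rw [← map_one inc, hPn]; exact irr_ne_zero ⟨d, ρ, hρ, rfl⟩
  obtain ⟨ι, _, β, hβθ, hβd, hβs⟩ := dual_central ih Z hidx hsolv1 hZp hZc lam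
  -- descent of products to subgroups of `G`
  have desc : ∀ (Hs : Subgroup (E ⧸ M)) [Fintype Hs] (hZH : Z ≤ Hs) (φ : IrrCharacter Hs),
      mult (Subgroup.inclusion hZH) φ lam ≠ 0 →
      ∃ (α : IrrCharacter ((Hs.comap q).map π)),
        ∀ x : Hs.comap q, (α : ((Hs.comap q).map π) → ℂ) ⟨π x, Subgroup.mem_map_of_mem π x.2⟩ = (φ : Hs → ℂ) ⟨q x, x.2⟩ * P x := by
    intro Hs _ hZH φ hφ
    set HE := Hs.comap q with hHE
    haveI := Fintype.ofFinite HE
    let M' := M.subgroupOf HE
    haveI : M'.Normal := Subgroup.Normal.comap inferInstance _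
    haveI := Fintype.ofFinite M'
    have hMH : M ≤ HE := fun x hx => by
      show q x ∈ Hs
      rw [show q x = 1 from (QuotientGroup.eq_one_iff x).2 hx]; exact Hs.one_mem
    let qH : HE →* Hs := q.subgroupComap Hs
    have hqH : Function.Surjective qH := q.subgroupComap_surjective_of_surjective Hs hq
    have hirr := (gallagher M' (χ := fun g : HE => P (g : E)) (isCharacter_restrict hP HE) (by
      exact isIrrCharacter_comp_surjective hPM (Subgroup.subgroupOfEquivOfLe hMH).toMonoidHom
        (Subgroup.subgroupOfEquivOfLe hMH).surjective)).1 _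
      (isIrrCharacter_comp_surjective φ.2 qH hqH) (fun m hm => by
        rw [map_one, show qH m = 1 from Subtype.ext ((QuotientGroup.eq_one_iff _).2 hm)])
    let πH : HE →* HE.map π := π.subgroupMap HE
    haveI := Fintype.ofFinite (HE.map π)
    obtain ⟨ψ', hψ', eψ⟩ := exists_quotient_irr πH.ker hirr (by
      intro z hz
      have hzk : (z : E) ∈ π.ker := congrArg Subtype.val (MonoidHom.mem_ker.1 hz)
      haveI : Fintype (Hs : Subgroup (E ⧸ M)) := inferInstance
      have hn' : (Z.subgroupOf Hs).Normal := Subgroup.Normal.comap inferInstance _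
      haveI := Fintype.ofFinite (Z.subgroupOf Hs)
      have hcZ : Z.subgroupOf Hs ≤ Subgroup.center Hs := fun a ha =>
        Subgroup.mem_center_iff.2 fun b => Subtype.ext (Subgroup.mem_center_iff.1 (hZc ha) b)
      let eS : Z.subgroupOf Hs ≃* Z := Subgroup.subgroupOfEquivOfLe hZH
      let lam' : IrrCharacter (Z.subgroupOf Hs) := ⟨fun x => (lam : Z → ℂ) (eS x),
        isIrrCharacter_comp_surjective lam.2 eS.toMonoidHom eS.surjective⟩
      have h1 := central_apply hcZ (χ := φ) (μ := lam') (by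
        rw [mult_congr (Subgroup.inclusion hZH) (Z.subgroupOf Hs).subtype eS (fun _ => rfl) φ lam
          lam' fun _ => rfl]
        exact hφ) (eS.symm (eZ ⟨z, hzk⟩))
      rw [show (lam' : Z.subgroupOf Hs → ℂ) (eS.symm (eZ ⟨z, hzk⟩)) = (c ⟨z, hzk⟩ : ℂ)⁻¹ by
          show (lam : Z → ℂ) (eS (eS.symm _)) = _
          rw [MulEquiv.apply_symm_apply, hlam],
        show (lam' : Z.subgroupOf Hs → ℂ) 1 = 1 by show (lam : Z → ℂ) (eS 1) = 1; rw [map_one, hlam1], div_one,
        show ((eS.symm (eZ ⟨z, hzk⟩) : Z.subgroupOf Hs) : Hs) = qH z from Subtype.ext rfl] at h1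
      show (φ : Hs → ℂ) (qH z) * P (z : E) = (φ : Hs → ℂ) (qH 1) * P ((1 : HE) : E)
      rw [h1, hP1 ⟨z, hzk⟩, map_one, OneMemClass.coe_one, mul_assoc,
        inv_mul_cancel_left₀ (Units.ne_zero _)])
    let eq : HE ⧸ πH.ker ≃* HE.map π :=
      QuotientGroup.quotientKerEquivOfSurjective πH (π.subgroupMap_surjective HE)
    refine ⟨⟨fun g => ψ' (eq.symm g),
      isIrrCharacter_comp_surjective hψ' eq.symm.toMonoidHom eq.symm.surjective⟩, fun x => ?_⟩
    show ψ' (eq.symm (πH x)) = _
    rw [show eq.symm (πH x) = (x : HE ⧸ πH.ker) from (MulEquiv.symm_apply_eq eq).2 rfl]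
    exact (congrFun eψ x).symm
  haveI := Fintype.ofFinite (⊤ : Subgroup (E ⧸ M))
  have hGtop : ((⊤ : Subgroup (E ⧸ M)).comap q).map π = ⊤ := by
    rw [Subgroup.comap_top, Subgroup.map_top_of_surjective _ hsurj]
  have hχex : ∀ i, ∃ χ : IrrCharacter G, ∀ x : E, (χ : G → ℂ) (π x) = (β i : E ⧸ M → ℂ) (q x) * P x := by
    intro i
    let φ : IrrCharacter (⊤ : Subgroup (E ⧸ M)) := ⟨fun y => (β i : E ⧸ M → ℂ) y,
      isIrrCharacter_comp_surjective (β i).2
        (Subgroup.topEquiv : (⊤ : Subgroup (E ⧸ M)) ≃* E ⧸ M).toMonoidHom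
        (Subgroup.topEquiv : (⊤ : Subgroup (E ⧸ M)) ≃* E ⧸ M).surjective⟩
    obtain ⟨α, hα⟩ := desc ⊤ le_top φ (by
      rw [show mult (Subgroup.inclusion (le_top : Z ≤ ⊤)) φ lam = mult Z.subtype (β i) lam from
        mult_eq _ _ _ (by rw [← mult_spec]; rfl)]
      exact hβθ i)
    let eT : ((⊤ : Subgroup (E ⧸ M)).comap q).map π ≃* G :=
      (MulEquiv.subgroupCongr hGtop).trans Subgroup.topEquiv
    refine ⟨⟨fun g => (α : _ → ℂ) (eT.symm g),
      isIrrCharacter_comp_surjective α.2 eT.symm.toMonoidHom eT.symm.surjective⟩, fun x => ?_⟩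
    show (α : _ → ℂ) (eT.symm (π x)) = _
    rw [show eT.symm (π x) = ⟨π x, Subgroup.mem_map_of_mem π (show x ∈ (⊤ : Subgroup (E ⧸ M)).comap q from trivial)⟩ from (MulEquiv.symm_apply_eq eT).2 rfl]
    exact hα ⟨x, trivial⟩
  choose χ hχ using hχex
  have hover : ∀ (b : IrrCharacter (E ⧸ M)) (χ' : IrrCharacter G),
      (∀ x, (χ' : G → ℂ) (π x) = (b : E ⧸ M → ℂ) (q x) * P x) →
      mult K.subtype χ' ⟨ρ.character, ⟨d, ρ, hρ, rfl⟩⟩ ≠ 0 := by
    intro b χ' h
    rw [mult_ne_zero_iff]
    show classInner (fun k : K => (χ' : G → ℂ) k) ρ.character ≠ 0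
    rw [show (fun k : K => (χ' : G → ℂ) k) = (b : E ⧸ M → ℂ) 1 • ρ.character from funext fun k => by
      have := h (inc k)
      rw [hπι, hqι, hPn] at this
      exact this, classInner_smul_left, classInner_irr_self ⟨d, ρ, hρ, rfl⟩, mul_one]
    exact irr_ne_zero b.2
  refine ⟨ι, inferInstance, χ, fun i => hover (β i) (χ i) (hχ i), fun i => ?_, fun ψ hψ => ?_⟩
  · obtain ⟨Hs, _, hZH, φ, hHs, hφ, h1, h0⟩ := hβd i
    obtain ⟨α, hα⟩ := desc Hs hZH φ hφ
    let HE := Hs.comap q
    haveI := Fintype.ofFinite HE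
    let H := HE.map π
    haveI := Fintype.ofFinite H
    have hMH : M ≤ HE := fun x hx => by
      show q x ∈ Hs
      rw [show q x = 1 from (QuotientGroup.eq_one_iff x).2 hx]; exact Hs.one_mem
    have hKH : K ≤ H := fun k hk => ⟨inc ⟨k, hk⟩, hMH ⟨⟨k, hk⟩, rfl⟩, rfl⟩
    have hHc : ¬ p ∣ Nat.card H := by
      intro h
      have h2 := h.trans (Subgroup.card_map_dvd (H := HE) π)
      obtain ⟨x, hx⟩ := exists_prime_orderOf_dvd_card' p h2
      have h3 : q (x : E) ^ Nat.card Hs = 1 := congrArg Subtype.val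
        (pow_card_eq_one' (x := (⟨q (x : E), x.2⟩ : Hs)))
      rw [← map_pow, show q ((x : E) ^ Nat.card Hs) = 1 ↔ (x : E) ^ Nat.card Hs ∈ M from
        QuotientGroup.eq_one_iff _] at h3
      obtain ⟨k, hk⟩ := h3
      have h4 : (x : E) ^ (Nat.card Hs * Nat.card K) = 1 := by
        rw [pow_mul, ← hk, ← map_pow, pow_card_eq_one', map_one]
      rw [← Subgroup.orderOf_coe] at hx
      rcases (Nat.Prime.dvd_mul hp).1 (hx ▸ orderOf_dvd_of_pow_eq_one h4) with h' | h'
      · exact hHs h'
      · exact hK h'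
    have hval : ∀ j, mult H.subtype (χ j) α = mult Hs.subtype (β j) φ := by
      intro j
      refine mult_eq _ _ _ ?_
      rw [← mult_spec]
      let qH : HE →* Hs := q.subgroupComap Hs
      have hqH : Function.Surjective qH := q.subgroupComap_surjective_of_surjective Hs hq
      let πH : HE →* H := π.subgroupMap HE
      rw [← classInner_comp_surj πH (π.subgroupMap_surjective HE),
        ← classInner_comp_surj qH hqH]
      let M' := M.subgroupOf HE
      haveI : M'.Normal := Subgroup.Normal.comap inferInstance _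
      haveI := Fintype.ofFinite M'
      have hPres : IsIrrCharacter M' (fun x : M' => P ((x : HE) : E)) :=
        isIrrCharacter_comp_surjective hPM (Subgroup.subgroupOfEquivOfLe hMH).toMonoidHom
          (Subgroup.subgroupOfEquivOfLe hMH).surjective
      have hPirr : IsIrrCharacter HE (fun x : HE => P (x : E)) := by
        have := (gallagher M' (χ := fun g : HE => P (g : E)) (isCharacter_restrict hP HE) hPres).1 _
          isIrrCharacter_one fun _ _ => rfl
        rwa [show (fun _ : HE => (1 : ℂ)) * (fun g : HE => P (g : E)) = fun g : HE => P (g : E) from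
          funext fun g => one_mul _] at this
      set B : HE → ℂ := fun x => conj ((β j : E ⧸ M → ℂ) (qH x)) * (φ : Hs → ℂ) (qH x) with hB
      have hBM : ∀ (m : M') (g : HE), B ((m : HE) * g) = B g := fun m g => by
        rw [hB]
        beta_reduce
        rw [map_mul, show qH m = 1 from Subtype.ext ((QuotientGroup.eq_one_iff _).2 m.2), one_mul]
      have e1 := classInner_cosetAvg_left M' ((fun x : HE => P (x : E)) *
        fun x : HE => conj (P (x : E))) hBM
      rw [cosetAvg_mul_conj M' hPirr hPres] at e1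
      refine Eq.trans ?_ (e1.symm.trans ?_)
      · unfold classInner
        congr 1
        refine Finset.sum_congr rfl fun x _ => ?_
        show (χ j : G → ℂ) (π x) * conj ((α : H → ℂ) ⟨π x, Subgroup.mem_map_of_mem π x.2⟩) = _
        rw [hχ, hα, Pi.mul_apply, hB]
        simp only [map_mul, Complex.conj_conj]
        show _ = P (x : E) * _ * ((β j : E ⧸ M → ℂ) (q x) * conj ((φ : Hs → ℂ) ⟨q x, x.2⟩))
        ring
      · unfold classInner
        congr 1
        refine Finset.sum_congr rfl fun x _ => ?_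
        simp [hB]
    refine ⟨H, inferInstance, hKH, α, hHc, ?_, (hval i).trans h1, fun j hj => (hval j).trans (h0 j hj)⟩
    rw [mult_ne_zero_iff]
    show classInner (fun k : K => (α : H → ℂ) ⟨(k : G), hKH k.2⟩) ρ.character ≠ 0
    rw [show (fun k : K => (α : H → ℂ) ⟨(k : G), hKH k.2⟩) = (φ : Hs → ℂ) 1 • ρ.character from
      funext fun k => by
        have := hα ⟨inc k, hMH ⟨k, rfl⟩⟩
        rw [show (⟨q (inc k), (⟨inc k, hMH ⟨k, rfl⟩⟩ : HE).2⟩ : Hs) = 1 from Subtype.ext (hqι k),
          hPn] at this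
        exact this, classInner_smul_left, classInner_irr_self ⟨d, ρ, hρ, rfl⟩, mul_one]
    exact irr_ne_zero φ.2
  · -- spanning
    rw [mult_ne_zero_iff] at hψ
    obtain ⟨b', hb', hbk, he⟩ := (gallagher M hP hPM).2.2 _
      (isIrrCharacter_comp_surjective ψ.2 π hsurj) (by
        show classInner (fun m : M => (ψ : G → ℂ) (π m)) (fun m : M => P m) ≠ 0
        rw [← classInner_comp_surj eK.toMonoidHom eK.surjective]
        exact hψ)
    obtain ⟨b, hb, rfl⟩ := exists_quotient_irr M hb' hbk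
    have hbl : mult Z.subtype (⟨b, hb⟩ : IrrCharacter (E ⧸ M)) lam ≠ 0 := by
      rw [mult_ne_zero_iff]
      show classInner (fun z : Z => b z) (lam : Z → ℂ) ≠ 0
      rw [show (fun z : Z => b z) = b 1 • (lam : Z → ℂ) from funext fun z => by
        obtain ⟨γ, rfl⟩ := eZ.surjective z
        have h1 := congrFun he (γ : E)
        have h2 := congrFun he 1
        simp only [Pi.mul_apply, MonoidHom.mem_ker.1 γ.2, map_one] at h1 h2
        rw [h2, hP1 γ, ← mul_assoc] at h1
        have h3 := mul_right_cancel₀ hP0 h1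
        show b (q (γ : E)) = b 1 * (lam : Z → ℂ) (eZ γ)
        rw [hlam, eq_mul_inv_iff_mul_eq₀ (Units.ne_zero _)]
        show b ((γ : E) : E ⧸ M) * (c γ : ℂ) = b 1
        simpa using h3.symm, classInner_smul_left, classInner_irr_self lam.2, mul_one]
      exact irr_ne_zero hb
    obtain ⟨a, ha⟩ := hβs ⟨b, hb⟩ hbl
    refine ⟨a, fun x hx => ?_⟩
    obtain ⟨w, hw, rfl⟩ := exists_regular_preimage hp π hsurj hx
    have hqw : ¬ p ∣ orderOf (q w) := fun h => hw (h.trans (orderOf_map_dvd q w))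
    have h1 := congrFun he w
    simp only [Pi.mul_apply] at h1
    rw [h1, show b (w : E ⧸ M) = _ from ha (q w) hqw, Finset.sum_mul]
    exact Finset.sum_congr rfl fun i _ => by rw [hχ, mul_assoc]

/-- Characters of a `p`-solvable group over a character of a normal `p'`-subgroup. -/
theorem hasDualBasis [Fact p.Prime] : ∀ n : ℕ, DualBelow.{u} p n := by
  intro n
  induction n with
  | zero => exact fun G _ _ K _ _ h => absurd h (Nat.not_lt_zero _)
  | succ n ih =>
    intro G _ _ K _ _ hlt hsolv hK θ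
    rcases Nat.lt_succ_iff_lt_or_eq.1 hlt with h | h
    · exact ih G K h hsolv hK θ
    · by_cases hT : inertia K (θ : K → ℂ) = ⊤
      · exact dual_of_invariant ih K h hsolv hK θ hT
      · exact dual_of_inertia ih K h hsolv hK θ hT

/-- Irreducible characters spanning all characters on `p`-regular elements, with decomposition
numbers given by characters of `p'`-subgroups. -/
theorem exists_basis [Fact p.Prime] (hsolv : IsPSolvable p G) :
    ∃ (ι : Type u) (_ : Fintype ι) (_ : DecidableEq ι) (χ : ι → IrrCharacter G)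
      (H : ι → Subgroup G) (_ : ∀ i, Fintype (H i)) (α : ∀ i, IrrCharacter (H i))
      (D : IrrCharacter G → ι → ℕ),
      (∀ i, ¬ p ∣ Nat.card (H i)) ∧
      (∀ (ψ : IrrCharacter G) i, classInner (fun h : H i => (ψ : G → ℂ) h) (α i : H i → ℂ) = D ψ i) ∧
      (∀ j i, D (χ j) i = if j = i then 1 else 0) ∧
      ∀ (ψ : IrrCharacter G) (x : G), ¬ p ∣ orderOf x →
        (ψ : G → ℂ) x = ∑ i, (D ψ i : ℂ) * (χ i : G → ℂ) x := by
  classical
  haveI := Fintype.ofFinite (⊥ : Subgroup G)
  let one : IrrCharacter (⊥ : Subgroup G) := ⟨fun _ => 1, isIrrCharacter_one⟩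
  have hone : ∀ ψ : IrrCharacter G, mult (⊥ : Subgroup G).subtype ψ one ≠ 0 := fun ψ => by
    rw [mult_ne_zero_iff]
    show classInner (fun k : (⊥ : Subgroup G) => (ψ : G → ℂ) k) (fun _ => 1) ≠ 0
    rw [show (fun k : (⊥ : Subgroup G) => (ψ : G → ℂ) k) =
        (ψ : G → ℂ) 1 • fun _ : (⊥ : Subgroup G) => (1 : ℂ) from funext fun k => by
      rw [Subgroup.mem_bot.1 k.2, Pi.smul_apply, smul_eq_mul, mul_one],
      classInner_smul_left, classInner_irr_self isIrrCharacter_one, mul_one]
    exact irr_ne_zero ψ.2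
  obtain ⟨ι, hι, χ, -, hd, hs⟩ := hasDualBasis ((⊥ : Subgroup G).index + 1) G ⊥ (Nat.lt_succ_self _)
    hsolv (by rw [Subgroup.card_bot]; exact (Fact.out : p.Prime).not_dvd_one) one
  choose H hHf hle α hH _ h1 h0 using hd
  refine ⟨ι, hι, Classical.decEq ι, χ, H, hHf, α,
    fun ψ i => @mult _ _ _ _ (hHf i) (H i).subtype ψ (α i), hH,
    fun ψ i => @mult_spec _ _ _ _ (hHf i) (H i).subtype ψ (α i), fun j i => ?_, fun ψ x hx => ?_⟩
  · by_cases h : j = i
    · subst h; rw [if_pos rfl]; exact h1 j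
    · rw [if_neg h]; exact h0 i j h
  · obtain ⟨a, ha⟩ := hs ψ (hone ψ)
    letI := hHf
    rw [ha x hx]
    refine Finset.sum_congr rfl fun i _ => ?_
    congr 1
    rw [← mult_spec, show (fun h : H i => (ψ : G → ℂ) ((H i).subtype h)) =
        ∑ j, a j • (fun h : H i => (χ j : G → ℂ) h) from funext fun h => by
      rw [Finset.sum_apply]
      exact ha h (regular_of_mem (hH i) h.2), classInner_sum_left, Finset.sum_eq_single i]
    · rw [classInner_smul_left, show classInner (fun h : H i => (χ i : G → ℂ) h) (α i : H i → ℂ) = _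
        from mult_spec (H i).subtype (χ i) (α i), h1 i, Nat.cast_one, mul_one]
    · intro j _ hj
      rw [classInner_smul_left, show classInner (fun h : H i => (χ j : G → ℂ) h) (α i : H i → ℂ) = _
        from mult_spec (H i).subtype (χ j) (α i), h0 i j hj, Nat.cast_zero, mul_zero]
    · exact fun h => absurd (Finset.mem_univ _) h

end CfsgLib.FongSwan

namespace CfsgLib.FongSwan

open Cfsg CfsgLib.CharTheory CfsgLib.Blocks
open scoped ComplexConjugate

universe u'

variable {p : ℕ} {M : Ideal AlgInt} {G : Type u'} [Group G] [Fintype G]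

/-- The inverse of a natural number prime to `p` is a local integer. -/
theorem memRing_inv_natCast_of_not_dvd (hM : IsPModular p M) {n : ℕ} (hn : ¬ p ∣ n) :
    MemLocalRing M ((n : ℂ)⁻¹) := by
  haveI := res_charP hM
  refine memRing_inv hM (memRing_natCast hM n) fun h => hn ?_
  have h1 := (res_eq_zero_iff hM (memRing_natCast hM n)).2 h
  rw [res_natCast] at h1
  exact (CharP.cast_eq_zero_iff (AlgInt ⧸ M) p n).1 h1

/-- A degree-weighted set vanishing on singular elements is a union of blocks. -/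
theorem union_of_blocks [Fact p.Prime] (hM : IsPModular p M) (hsolv : IsPSolvable p G)
    (U : Set (IrrCharacter G))
    (hU : ∀ x : G, p ∣ orderOf x → ∑ χ ∈ bset U, (χ : G → ℂ) 1 * (χ : G → ℂ) x = 0) :
    ind U ∈ Zloc G hM := by
  classical
  obtain ⟨ι, _, _, χ, H, hHf, α, D, hH, hD, hδ, hs⟩ := exists_basis (p := p) hsolv
  set f : G → ℂ := fun x => ∑ ψ ∈ bset U, (ψ : G → ℂ) 1 * (ψ : G → ℂ) x with hf
  have hfc : ∀ ψ : IrrCharacter G, classInner f (ψ : G → ℂ) =
      if ψ ∈ U then (ψ : G → ℂ) 1 else 0 := by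
    intro ψ
    rw [show f = ∑ η ∈ bset U, (η : G → ℂ) 1 • (η : G → ℂ) from funext fun x => by
      rw [Finset.sum_apply]; rfl, classInner_sum_left,
      Finset.sum_congr rfl fun η _ => classInner_smul_left _ _ _]
    split
    · rename_i h
      rw [Finset.sum_eq_single ψ (fun η _ hne => by
        rw [classInner_irr_ne η.2 ψ.2 (fun e => hne (Subtype.ext e)), mul_zero])
        (fun hn => absurd (mem_bset.2 h) hn), classInner_irr_self ψ.2, mul_one]
    · rename_i h
      exact Finset.sum_eq_zero fun η hη => by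
        rw [classInner_irr_ne η.2 ψ.2 (fun e => h (Subtype.ext e ▸ mem_bset.1 hη)), mul_zero]
  have hfD : ∀ ψ : IrrCharacter G,
      classInner f (ψ : G → ℂ) = ∑ i, (D ψ i : ℂ) * classInner f (χ i : G → ℂ) := by
    intro ψ
    simp only [classInner, Finset.mul_sum]
    rw [Finset.sum_comm]
    refine Finset.sum_congr rfl fun x _ => ?_
    by_cases hx : p ∣ orderOf x
    · simp [hf, hU x hx]
    · rw [hs ψ x hx, map_sum, Finset.mul_sum, Finset.mul_sum]
      exact Finset.sum_congr rfl fun i _ => by rw [map_mul, Complex.conj_natCast]; ring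
  have hsep : ∀ ψ i, D ψ i ≠ 0 → (ψ ∈ U ↔ χ i ∈ U) := by
    intro ψ i hne
    have hd : ∀ η : IrrCharacter G, (η : G → ℂ) 1 = (charDegree (η : G → ℂ) : ℂ) :=
      fun η => (irr_charDegree_cast η).symm
    have h1 := hfD ψ
    simp only [hfc] at h1
    have h2 := hs ψ 1 (by rw [orderOf_one]; exact (Fact.out : p.Prime).not_dvd_one)
    have h3 : (if ψ ∈ U then charDegree (ψ : G → ℂ) else 0) =
        ∑ j, D ψ j * if χ j ∈ U then charDegree (χ j : G → ℂ) else 0 := by
      have : ((if ψ ∈ U then charDegree (ψ : G → ℂ) else 0 : ℕ) : ℂ) =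
          ((∑ j, D ψ j * if χ j ∈ U then charDegree (χ j : G → ℂ) else 0 : ℕ) : ℂ) := by
        push_cast
        simp only [← hd]
        exact h1
      exact_mod_cast this
    have h4 : charDegree (ψ : G → ℂ) = ∑ j, D ψ j * charDegree (χ j : G → ℂ) := by
      have : ((charDegree (ψ : G → ℂ) : ℕ) : ℂ) =
          ((∑ j, D ψ j * charDegree (χ j : G → ℂ) : ℕ) : ℂ) := by
        push_cast
        simp only [← hd]
        exact h2
      exact_mod_cast this
    by_cases hψ : ψ ∈ U
    · rw [if_pos hψ, h4] at h3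
      simp only [hψ, true_iff]
      by_contra hi
      have := (Finset.sum_eq_sum_iff_of_le fun j _ => by
        show D ψ j * (if χ j ∈ U then charDegree (χ j : G → ℂ) else 0) ≤
          D ψ j * charDegree (χ j : G → ℂ)
        split_ifs <;> simp).1 h3.symm i (Finset.mem_univ _)
      rw [if_neg hi, mul_zero] at this
      exact Nat.mul_ne_zero hne (irr_charDegree_pos (χ i)).ne' this.symm
    · rw [if_neg hψ] at h3
      simp only [hψ, false_iff]
      intro hi
      have := Finset.sum_eq_zero_iff.1 h3.symm i (Finset.mem_univ _)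
      rw [if_pos hi] at this
      exact Nat.mul_ne_zero hne (irr_charDegree_pos (χ i)).ne' this
  have hphi : ∀ i, ∑ ψ : IrrCharacter G, (ψ : G → ℂ) 1 * (D ψ i : ℂ) =
      ((H i).index : ℂ) * (α i : H i → ℂ) 1 := by
    intro i
    letI := hHf i
    rw [← indFun_apply_one, eq_sum_irr (indFun_isClassFunction (H i) (α i : H i → ℂ)),
      Finset.sum_apply]
    refine Finset.sum_congr rfl fun ψ _ => ?_
    rw [Pi.smul_apply, smul_eq_mul, frobenius_reciprocity (H i) _ (isClassFunction_irr ψ.2),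
      ← classInner_comm, hD, Complex.conj_natCast, mul_comm]
  intro x
  rw [cf_ind, blockCoeff, finsum_mem_bset]
  by_cases hx : p ∣ orderOf x
  · have h := congrArg conj (hU x hx)
    rw [map_zero, map_sum] at h
    rw [show ∑ ψ ∈ bset U, (ψ : G → ℂ) 1 * conj ((ψ : G → ℂ) x) = 0 from by
      rw [← h]
      exact Finset.sum_congr rfl fun ψ _ => by rw [map_mul, irr_one_conj], mul_zero]
    exact (loc hM).zero_mem
  · have e : (Nat.card G : ℂ)⁻¹ * ∑ ψ ∈ bset U, (ψ : G → ℂ) 1 * conj ((ψ : G → ℂ) x) =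
        ∑ i, if χ i ∈ U then
          conj ((χ i : G → ℂ) x) * (α i : H i → ℂ) 1 * (Nat.card (H i) : ℂ)⁻¹ else 0 := by
      rw [Finset.sum_congr rfl fun ψ _ => by
        rw [hs ψ x hx, map_sum, Finset.mul_sum], Finset.sum_comm, Finset.mul_sum]
      refine Finset.sum_congr rfl fun i _ => ?_
      split_ifs with hi
      · rw [show ∑ ψ ∈ bset U, (ψ : G → ℂ) 1 * conj ((D ψ i : ℂ) * (χ i : G → ℂ) x) =
            conj ((χ i : G → ℂ) x) * ∑ ψ : IrrCharacter G, (ψ : G → ℂ) 1 * (D ψ i : ℂ) by
          rw [Finset.mul_sum]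
          rw [Finset.sum_subset (Finset.subset_univ (bset U)) (fun ψ _ hψ => by
            have : D ψ i = 0 := by
              by_contra hne
              exact hψ (mem_bset.2 ((hsep ψ i hne).2 hi))
            simp [this])]
          exact Finset.sum_congr rfl fun ψ _ => by rw [map_mul, Complex.conj_natCast]; ring,
          hphi, ← Subgroup.card_mul_index (H i), Nat.cast_mul, mul_inv]
        have : ((H i).index : ℂ) ≠ 0 := Nat.cast_ne_zero.2 Subgroup.index_ne_zero_of_finite
        field_simp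
      · rw [Finset.sum_eq_zero (fun ψ hψ => by
          have : D ψ i = 0 := by
            by_contra hne
            exact hi ((hsep ψ i hne).1 (mem_bset.1 hψ))
          simp [this]), mul_zero]
    rw [e]
    refine memRing_sum hM fun i _ => ?_
    split_ifs
    · refine (loc hM).mul_mem ((loc hM).mul_mem ?_ ?_) (memRing_inv_natCast_of_not_dvd hM (hH i))
      · rw [← irr_inv]; exact memRing_irr hM _ _
      · letI := hHf i
        exact memRing_irr hM (α i) 1
    · exact (loc hM).zero_mem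

end CfsgLib.FongSwan
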