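import Cfsg.Agent.Lib.Blocks.GroupAlgebra
import Cfsg.Agent.Lib.Blocks.FirstMain
import Mathlib.GroupTheory.Coset.Card

/-!
# Green's theorem on defect groups as intersections of Sylow subgroups
-/

namespace CfsgLib.Blocks

open Cfsg CfsgLib.CharTheory

set_option linter.unusedVariables false
set_option linter.unusedSimpArgs false
set_option linter.style.haveILetI false
set_option linter.unusedSectionVars false

universe u

variable {p : ℕ} {M : Ideal AlgInt} {G : Type u} [Group G] [Fintype G]

/-- A nonzero central idempotent is not killed by the sum of a `p`-subgroup. -/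
theorem exists_sum_ne_zero {C : Type*} [Group C] [Fintype C] {k : Type*} [Field k] [Fact p.Prime]
    [CharP k p] {Z : Subgroup C} [Fintype Z] (hZ : IsPGroup p Z) (e : C → k)
    (hcl : ∀ x y : C, e (y * x * y⁻¹) = e x)
    (hid : ∀ c, ∑ x, e x * e (x⁻¹ * c) = e c) (hne : e ≠ 0) :
    ∃ x : C, ∑ z : Z, e (x * z) ≠ 0 := by
  classical
  by_contra hall
  push Not at hall
  let T : (C → k) →ₗ[k] (C → k) :=
    { toFun := fun v c => ∑ x, e x * v (x⁻¹ * c)
      map_add' := fun v w => funext fun c => by
        simp only [Pi.add_apply, mul_add, Finset.sum_add_distrib]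
      map_smul' := fun a v => funext fun c => by
        simp only [Pi.smul_apply, smul_eq_mul, RingHom.id_apply, Finset.mul_sum]
        exact Finset.sum_congr rfl fun x _ => by ring }
  let ρ : Z →* ((C → k) →ₗ[k] (C → k)) :=
    { toFun := fun z =>
        { toFun := fun v c => v ((z : C)⁻¹ * c)
          map_add' := fun v w => rfl
          map_smul' := fun a v => rfl }
      map_one' := LinearMap.ext fun v => funext fun c => by simp
      map_mul' := fun z z' => LinearMap.ext fun v => funext fun c => by simp [mul_assoc] }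
  obtain ⟨w, hw, hw0, hfix⟩ := exists_fixed_vector hZ ρ hne (LinearMap.ker (T - LinearMap.id))
    (by
      rw [LinearMap.mem_ker, LinearMap.sub_apply, LinearMap.id_apply, sub_eq_zero]
      exact funext hid)
    (fun z v hv => by
      rw [LinearMap.mem_ker, LinearMap.sub_apply, LinearMap.id_apply, sub_eq_zero] at hv ⊢
      funext c
      show ∑ x, e x * v ((z : C)⁻¹ * (x⁻¹ * c)) = v ((z : C)⁻¹ * c)
      refine Eq.trans ?_ (congrFun hv ((z : C)⁻¹ * c))
      refine Fintype.sum_equiv (MulAut.conj (z : C)⁻¹).toEquiv _ _ fun x => ?_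
      show e x * _ = e ((z : C)⁻¹ * x * (z : C)⁻¹⁻¹) * v (((z : C)⁻¹ * x * (z : C)⁻¹⁻¹)⁻¹ * _)
      rw [hcl]
      congr 2
      group)
  apply hw0
  rw [LinearMap.mem_ker, LinearMap.sub_apply, LinearMap.id_apply, sub_eq_zero] at hw
  funext c
  rw [← hw]
  show ∑ x, e x * w (x⁻¹ * c) = 0
  have hinv : ∀ (x : C) (z : Z), w ((x * z)⁻¹ * c) = w (x⁻¹ * c) := fun x z => by
    have h := congrFun (hfix z) (x⁻¹ * c)
    change w ((z : C)⁻¹ * (x⁻¹ * c)) = _ at h
    rw [mul_inv_rev, mul_assoc, h]
  let ψ : (C ⧸ Z) × Z ≃ C :=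
    { toFun := fun qz => qz.1.out * qz.2
      invFun := fun c => (QuotientGroup.mk c, ⟨(QuotientGroup.mk c : C ⧸ Z).out⁻¹ * c,
        QuotientGroup.eq.1 (QuotientGroup.out_eq' (QuotientGroup.mk c : C ⧸ Z))⟩)
      left_inv := fun qz => by
        have h : (QuotientGroup.mk (qz.1.out * (qz.2 : C)) : C ⧸ Z) = qz.1 := by
          rw [QuotientGroup.mk_mul_of_mem _ qz.2.2, QuotientGroup.out_eq']
        refine Prod.ext h (Subtype.ext ?_)
        simp only [h, inv_mul_cancel_left]
      right_inv := fun c => by simp }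
  rw [← ψ.sum_comp (fun x => e x * w (x⁻¹ * c)), Fintype.sum_prod_type]
  refine Finset.sum_eq_zero fun q _ => ?_
  show ∑ z : Z, e (q.out * z) * w ((q.out * z)⁻¹ * c) = 0
  simp only [hinv]
  rw [← Finset.sum_mul, hall, zero_mul]

/-- Green: a defect group inside a Sylow subgroup `P` is `P ∩ ˣP` for a regular `x`. -/
theorem green_defect (hM : IsPModular p M) [Fact p.Prime] {B : Set (IrrCharacter G)}
    (hB : IsPBlock M B) {D : Subgroup G} (hD : IsDefectGroup p M B D) {P : Subgroup G}
    (hP : IsPGroup p P) (hDP : D ≤ P) :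
    ∃ x : G, ¬ p ∣ orderOf x ∧
      (∃ S : Sylow p (Subgroup.centralizer ({x} : Set G)),
        (S : Subgroup (Subgroup.centralizer ({x} : Set G))).map
          (Subgroup.centralizer ({x} : Set G)).subtype = D) ∧
      P ⊓ P.map (MulAut.conj x).toMonoidHom = D := by
  classical
  haveI := res_charP hM
  haveI := hM.2.1
  letI := Ideal.Quotient.field M
  have hDp := defectGroup_isPGroup hD
  haveI : Fintype (Subgroup.centralizer (D : Set G)) := Fintype.ofFinite _
  set e : G → AlgInt ⧸ M := fun g => res hM (blockCoeff B g) with he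
  have hmem : ∀ g, MemLocalRing M (blockCoeff B g) := memRing_blockCoeff hM hB
  have hcl : ∀ g s : G, e (s * g * s⁻¹) = e g := fun g s => by
    simp only [he]; rw [blockCoeff_isClassFunction B g s]
  -- no larger `p`-group centralizes an element of the support
  have hmax : ∀ y : G, e y ≠ 0 → ∀ S : Subgroup G, IsPGroup p S →
      S ≤ Subgroup.centralizer ({y} : Set G) → Nat.card S ≤ Nat.card D := by
    intro y hy S hS hSy
    obtain ⟨E, hE, hSE⟩ := exists_defectGroup_ge hM hB
      (fun h0 => hy ((res_eq_zero_iff hM (hmem y)).2 h0)) hS hSy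
    rw [card_defectGroup hM hB hD, ← card_defectGroup hM hB hE]
    exact Subgroup.card_le_of_le hSE
  set Z := P.subgroupOf (Subgroup.centralizer (D : Set G)) with hZ
  haveI : Fintype Z := Fintype.ofFinite _
  obtain ⟨x, hx⟩ := exists_sum_ne_zero (p := p) (Z := Z) hP.comap_subtype
    (fun c : Subgroup.centralizer (D : Set G) => e c) (fun c s => hcl c s) (by
      intro c
      have hfun : ∀ t : Subgroup.centralizer (D : Set G),
          brFun D (Subgroup.centralizer (D : Set G)) (blockCoeff B) t = blockCoeff B t :=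
        fun t => if_pos t.2
      have h := res_brFun_conv D (Subgroup.centralizer (D : Set G)) hM hDp le_rfl
        (blockCoeff_isClassFunction B) (blockCoeff_isClassFunction B) hmem hmem c
      rw [conv_blockCoeff, hfun] at h
      simp only [conv, hfun] at h
      rw [res_sum hM fun t _ => (loc hM).mul_mem (hmem _) (hmem _)] at h
      refine Eq.trans ?_ h.symm
      exact Finset.sum_congr rfl fun t _ => (res_mul hM (hmem _) (hmem _)).symm) (by
      obtain ⟨g, hg, S, hS⟩ := id hD
      intro h0
      have hgC : g ∈ Subgroup.centralizer (D : Set G) := by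
        intro r hr
        obtain ⟨r', -, rfl⟩ := (hS ▸ hr : r ∈ _)
        exact Subgroup.mem_centralizer_singleton_iff.1 r'.2
      exact hg.2.1 ((res_eq_zero_iff hM (hmem g)).1 (congrFun h0 ⟨g, hgC⟩)))
  have hxD : ∀ d ∈ D, d * (x : G) = x * d := x.2
  set R := P ⊓ P.map (MulAut.conj (x : G)).toMonoidHom with hR
  have hDR : D ≤ R := fun d hd => ⟨hDP hd, d, hDP hd, by
    show (x : G) * d * (x : G)⁻¹ = d
    rw [← hxD d hd, mul_inv_cancel_right]⟩
  have hRD : R = D := by
    by_contra hne
    have hRp : IsPGroup p R := hP.to_le inf_le_left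
    set S := R ⊓ Subgroup.normalizer (D : Set G) with hS
    have hDS : D < S := exists_lt_normalizing hRp (lt_of_le_of_ne hDR (Ne.symm hne))
    have hSp : IsPGroup p S := hRp.to_le inf_le_left
    -- the coset `x C_P(D)`
    let X := {y : G // (x : G)⁻¹ * y ∈ P ∧ y ∈ Subgroup.centralizer (D : Set G)}
    haveI : Fintype X := Fintype.ofFinite _
    letI : MulAction S X :=
      { smul := fun s y => ⟨(s : G) * y.1 * (s : G)⁻¹, by
          obtain ⟨⟨-, q, hq, hqs⟩, hsN⟩ := s.2
          change (x : G) * q * (x : G)⁻¹ = s at hqs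
          refine ⟨?_, ?_⟩
          · have e1 : (x : G)⁻¹ * ((s : G) * y.1 * (s : G)⁻¹) =
                q * ((x : G)⁻¹ * y.1) * (s : G)⁻¹ := by
              rw [← hqs]; group
            rw [e1]
            exact P.mul_mem (P.mul_mem hq y.2.1) (P.inv_mem s.2.1.1)
          · intro r hr
            have hr' : (s : G)⁻¹ * r * s ∈ D := (Subgroup.mem_normalizer_iff''.1 hsN r).1 hr
            have h := y.2.2 _ hr'
            calc r * ((s : G) * y.1 * (s : G)⁻¹)
                = (s : G) * (((s : G)⁻¹ * r * s) * y.1) * (s : G)⁻¹ := by group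
              _ = (s : G) * (y.1 * ((s : G)⁻¹ * r * s)) * (s : G)⁻¹ := by rw [h]
              _ = (s : G) * y.1 * (s : G)⁻¹ * r := by group⟩
        one_smul := fun y => Subtype.ext (by
          show ((1 : S) : G) * y.1 * ((1 : S) : G)⁻¹ = y.1; simp)
        mul_smul := fun s t y => Subtype.ext (by
          show ((s * t : S) : G) * y.1 * ((s * t : S) : G)⁻¹ =
            (s : G) * ((t : G) * y.1 * (t : G)⁻¹) * (s : G)⁻¹
          simp [mul_assoc]) }
    let φ : Z ≃ X :=
      { toFun := fun z => ⟨(x : G) * ((z : Subgroup.centralizer (D : Set G)) : G),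
          by rw [inv_mul_cancel_left]; exact z.2, (x * (z : Subgroup.centralizer (D : Set G))).2⟩
        invFun := fun y => ⟨⟨(x : G)⁻¹ * y.1,
          (Subgroup.centralizer (D : Set G)).mul_mem (inv_mem x.2) y.2.2⟩, y.2.1⟩
        left_inv := fun z => by ext; simp
        right_inv := fun y => by ext; simp }
    apply hx
    refine (Fintype.sum_equiv φ _ (fun y : X => e y.1) fun z => rfl).trans ?_
    rw [sum_fixedPoints hM hSp (fun y : X => e y.1) (fun s y => hcl y.1 s)]
    refine Finset.sum_eq_zero fun y hy => ?_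
    by_contra hy0
    have hfix : ∀ s : S, s • y = y := (Finset.mem_filter.1 hy).2
    have hle : S ≤ Subgroup.centralizer ({y.1} : Set G) := fun s hs => by
      rw [Subgroup.mem_centralizer_singleton_iff]
      exact mul_inv_eq_iff_eq_mul.1 (congrArg Subtype.val (hfix ⟨s, hs⟩))
    exact absurd (Subgroup.eq_of_le_of_card_ge hDS.le (hmax _ hy0 S hSp hle)) hDS.ne
  obtain ⟨z, hz⟩ : ∃ z : Z, e ((x * (z : Subgroup.centralizer (D : Set G)) :
      Subgroup.centralizer (D : Set G)) : G) ≠ 0 := by
    by_contra h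
    push Not at h
    exact hx (Finset.sum_eq_zero fun z _ => h z)
  set y := ((x * (z : Subgroup.centralizer (D : Set G)) :
      Subgroup.centralizer (D : Set G)) : G) with hy
  have hzP : ((z : Subgroup.centralizer (D : Set G)) : G) ∈ P := z.2
  refine ⟨y, fun hdvd => hz ?_, ?_, ?_⟩
  · have h1 : blockCoeff B y = 0 := by
      simp only [blockCoeff, finsum_mem_bset]
      rw [weak_orth_conj hM hB (x := 1) (by simpa using hM.1.not_dvd_one) hdvd, mul_zero]
    simp only [he, h1, res_zero]
  · have hDy : D ≤ Subgroup.centralizer ({y} : Set G) := fun d hd => by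
      rw [Subgroup.mem_centralizer_singleton_iff]
      exact (x * (z : Subgroup.centralizer (D : Set G))).2 d hd
    obtain ⟨S, hS⟩ := (hDp.comap_subtype (K := Subgroup.centralizer ({y} : Set G))).exists_le_sylow
    refine ⟨S, (Subgroup.eq_of_le_of_card_ge (fun d hd =>
      Subgroup.mem_map.2 ⟨⟨d, hDy hd⟩, hS hd, rfl⟩) ?_).symm⟩
    exact hmax y hz _ (S.isPGroup'.map _) (Subgroup.map_subtype_le _)
  · rw [← hRD, hR]
    congr 1
    ext g
    constructor
    · rintro ⟨q, hq, rfl⟩
      refine ⟨((z : Subgroup.centralizer (D : Set G)) : G) * q *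
        ((z : Subgroup.centralizer (D : Set G)) : G)⁻¹,
        P.mul_mem (P.mul_mem hzP hq) (P.inv_mem hzP), ?_⟩
      show (x : G) * _ * (x : G)⁻¹ = y * q * y⁻¹
      rw [hy, Subgroup.coe_mul]; group
    · rintro ⟨q, hq, rfl⟩
      refine ⟨((z : Subgroup.centralizer (D : Set G)) : G)⁻¹ * q *
        ((z : Subgroup.centralizer (D : Set G)) : G),
        P.mul_mem (P.mul_mem (P.inv_mem hzP) hq) hzP, ?_⟩
      show y * _ * y⁻¹ = (x : G) * q * (x : G)⁻¹
      rw [hy, Subgroup.coe_mul]; group

end CfsgLib.Blocks
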