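import Cfsg.Agent.Lib.Blocks.Star.Focal
import Cfsg.Agent.Lib.Blocks.Proj
import Cfsg.Agent.Lib.Blocks.RegInt
import Cfsg.Agent.Lib.Blocks.BlockSat
import Cfsg.Agent.Lib.Fusion.FocalProper
import Mathlib.NumberTheory.LegendreSymbol.Basic

/-!
# The number of characters of height zero when the defect group has a `p`-group of automorphisms
-/

namespace CfsgLib.Blocks

open Cfsg CfsgLib.CharTheory
open scoped ComplexConjugate

set_option linter.unusedVariables false
set_option linter.unusedSimpArgs false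
set_option linter.style.haveILetI false
set_option linter.unusedSectionVars false

universe u

variable {p : ℕ} {M : Ideal AlgInt} {G : Type u} [Group G] [Fintype G] {B : Set (IrrCharacter G)}
  {P : Subgroup G} {e : Set (IrrCharacter (Subgroup.centralizer (P : Set G)))}
  {F : FusionSystem P}

/-- Moving by a linear character over the focal subgroup fixes the values at regular elements. -/
theorem focalMove_regS (hM : IsPModular p M) (hF : IsBlockFusionSystemOn p M B P e F) {h : ℕ}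
    (l : linKer (F.focalSubgroup.subgroupOf P))
    (ψ : {χ : IrrCharacter G // χ ∈ B ∧ blockHeight p B (χ : G → ℂ) = h}) (χ : IrrCharacter G) :
    regS p (χ : G → ℂ) ((focalMove hM hF h l ψ).1 : G → ℂ) =
      regS p (χ : G → ℂ) (ψ.1 : G → ℂ) := by
  rw [regS_eq_sum, regS_eq_sum]
  refine Finset.sum_congr rfl fun g hg => congrArg ((χ : G → ℂ) g * ·) ?_
  have hc : g⁻¹ ∈ regC p (1 : G) :=
    mem_regC.2 ⟨Commute.one_left _, by rw [orderOf_inv]; exact (Finset.mem_filter.1 hg).2⟩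
  have h1 := starFun_section (W := pairW p M P e (sext P fun u => ((l.1 u : ℂˣ) : ℂ))) (r := 1)
    hM hF.1.1.2.1 ψ.2.1 ⟨0, orderOf_one⟩ hc fun a ha hp => by
      obtain ⟨t, ht⟩ := (carries_iff_pairOf hM hF.1).2 hp
      rw [pairW_eq (stable_of_linKer hF l.2) (mem_pairsAt.1 ha).1 ht, mul_one, mul_inv_cancel,
        show (1 : G) = ((1 : P) : G) from rfl, sext_coe, map_one, Units.val_one]
  rw [one_mul, one_mul] at h1
  rw [focalMove_val]
  exact h1

open Classical in
/-- The characters of height zero. -/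
noncomputable def heightZeroSet (p : ℕ) (B : Set (IrrCharacter G)) : Finset (IrrCharacter G) :=
  (bset B).filter fun χ => blockHeight p B (χ : G → ℂ) = 0

theorem mem_heightZeroSet {χ : IrrCharacter G} :
    χ ∈ heightZeroSet p B ↔ χ ∈ B ∧ blockHeight p B (χ : G → ℂ) = 0 := by
  classical
  simp [heightZeroSet, mem_bset]

theorem card_heightZeroSet :
    Nat.card {χ : IrrCharacter G // χ ∈ B ∧ blockHeight p B (χ : G → ℂ) = 0} =
      (heightZeroSet p B).card := by
  classical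
  rw [Nat.subtype_card (heightZeroSet p B) fun χ => mem_heightZeroSet]

/-- The integral projection numbers of a height zero character against the block. -/
theorem exists_heightZero_proj_row (hM : IsPModular p M) (hB : IsPBlock M B) {χ : IrrCharacter G}
    (hχ : χ ∈ heightZeroSet p B) :
    ∃ q : IrrCharacter G → ℤ, (∀ ψ ∈ heightZeroSet p B, ¬ (p : ℤ) ∣ q ψ) ∧
      (∀ ψ ψ' : IrrCharacter G, regS p (χ : G → ℂ) (ψ : G → ℂ) = regS p (χ : G → ℂ) (ψ' : G → ℂ) →
        ψ ∈ B → ψ' ∈ B → q ψ = q ψ') ∧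
      ∀ n : ℕ, n ≤ blockDefect p B → n ≤ 2 →
        ((p : ℤ) ^ n) ∣ ∑ ψ ∈ heightZeroSet p B, q ψ ^ 2 := by
  classical
  obtain ⟨hχB, hχ0⟩ := mem_heightZeroSet.1 hχ
  have h0 := (height_zero_iff hχB).1 hχ0
  choose! q hq hq1 hq2 hq3 hq4 using fun ψ (hψ : ψ ∈ B) => exists_int_proj hM hB hχB hψ
  refine ⟨q, fun ψ hψ => ?_, fun ψ ψ' he hψ hψ' => ?_, fun n hn hn2 => ?_⟩
  · obtain ⟨hψB, hψ0⟩ := mem_heightZeroSet.1 hψ
    exact hq2 ψ hψB h0 ((height_zero_iff hψB).1 hψ0)
  · have h1 := hq ψ hψ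
    rw [he, hq ψ' hψ'] at h1
    exact_mod_cast (mul_left_cancel₀ (Nat.cast_ne_zero.2 Nat.card_pos.ne') h1).symm
  have hsum : ∑ ψ ∈ bset B, q ψ ^ 2 = (p : ℤ) ^ blockDefect p B * q χ := by
    have h1 := sum_regS_sq hM hB hχB
    have h2 : ((∑ ψ ∈ bset B, q ψ ^ 2 : ℤ) : ℂ) * ((Nat.card G : ℂ) ^ 2) =
        (((p : ℤ) ^ blockDefect p B * q χ : ℤ) : ℂ) * ((Nat.card G : ℂ) ^ 2) := by
      push_cast
      rw [Finset.sum_mul, Finset.sum_congr rfl fun (ψ : IrrCharacter G) hψ => show (q ψ : ℂ) ^ 2 * (Nat.card G : ℂ) ^ 2 =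
        ((p : ℂ) ^ blockDefect p B) ^ 2 * regS p (χ : G → ℂ) (ψ : G → ℂ) ^ 2 by
        rw [← mul_pow _ (regS p (χ : G → ℂ) (ψ : G → ℂ)), hq ψ (mem_bset.1 hψ)]; ring,
        ← Finset.mul_sum, h1]
      linear_combination ((p : ℂ) ^ blockDefect p B * (Nat.card G : ℂ)) * hq χ hχB
    exact_mod_cast mul_right_cancel₀ (pow_ne_zero 2 (Nat.cast_ne_zero.2 Nat.card_pos.ne')) h2
  have hsplit := Finset.sum_filter_add_sum_filter_not (bset B)
    (fun ψ : IrrCharacter G => blockHeight p B (ψ : G → ℂ) = 0) (fun ψ => q ψ ^ 2)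
  have hrest : ((p : ℤ) ^ n) ∣
      ∑ ψ ∈ (bset B).filter (fun ψ : IrrCharacter G => ¬ blockHeight p B (ψ : G → ℂ) = 0), q ψ ^ 2 := by
    refine Finset.dvd_sum fun ψ hψ => (pow_dvd_pow _ hn2).trans ?_
    obtain ⟨h1, h2⟩ := Finset.mem_filter.1 hψ
    have hlt : minDv p B < dv p (ψ : G → ℂ) := lt_of_le_of_ne (minDv_le (mem_bset.1 h1))
      fun h => h2 ((height_zero_iff (mem_bset.1 h1)).2 h.symm)
    have h3 := hq4 ψ (mem_bset.1 h1) hlt
    rw [h0, Nat.sub_self, pow_one] at h3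
    exact pow_dvd_pow_of_dvd h3 2
  have htot : ((p : ℤ) ^ n) ∣ ∑ ψ ∈ bset B, q ψ ^ 2 :=
    hsum ▸ Dvd.dvd.mul_right (pow_dvd_pow _ hn) _
  rw [← hsplit] at htot
  exact (dvd_add_left hrest).1 htot

/-- Only trivial automorphisms of order two in a `p`-group of automorphisms, `p` odd. -/
theorem not_comm_of_isPGroup_mulAut (hp : p.Prime) (hp2 : p ≠ 2) {D : Type*} [Group D] [Finite D]
    (hD : IsPGroup p D) (hne : Nontrivial D) (hAut : IsPGroup p (MulAut D)) :
    ¬ ∀ a b : D, a * b = b * a := by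
  intro hc
  haveI : Fact p.Prime := ⟨hp⟩
  letI : CommGroup D := { (inferInstance : Group D) with mul_comm := hc }
  obtain ⟨k, hk⟩ := hAut (MulEquiv.inv D)
  obtain ⟨j, hj⟩ := (hp.odd_of_ne_two hp2).pow (n := k)
  have h2 : (MulEquiv.inv D : MulAut D) ^ 2 = 1 := MulEquiv.ext fun x => by
    rw [sq, MulAut.mul_apply, MulAut.one_apply]
    exact inv_inv x
  rw [hj, pow_succ, pow_mul, h2, one_pow, one_mul] at hk
  obtain ⟨x, hx⟩ := exists_ne (1 : D)
  obtain ⟨m, hm⟩ := IsPGroup.iff_orderOf.1 hD x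
  have hx2 : x ^ 2 = 1 := by
    have h3 : x⁻¹ = x := congrArg (fun f : MulAut D => f x) hk
    rw [sq]
    nth_rw 1 [← h3]
    exact inv_mul_cancel x
  exact hx (orderOf_eq_one_iff.1 (Nat.Coprime.eq_one_of_dvd
    (((Nat.coprime_primes hp Nat.prime_two).2 hp2).pow_left m |>.coprime_dvd_left (hm ▸ dvd_rfl))
    (orderOf_dvd_of_pow_eq_one hx2)))

/-- **The height zero count.** -/
theorem heightZero_of_isPGroup_mulAut [Fact p.Prime] (hM : IsPModular p M) (hB : IsPBlock M B)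
    {D : Subgroup G} (hD : IsDefectGroup p M B D) (hD1 : D ≠ ⊥) (hAut : IsPGroup p (MulAut D)) :
    p ∣ (heightZeroSet p B).card ∧ (3 < p → 2 * p ≤ (heightZeroSet p B).card) ∧
      (3 < p → p % 4 = 3 → 3 * p ≤ (heightZeroSet p B).card) := by
  classical
  have hp : p.Prime := Fact.out
  haveI : Nontrivial D := (Subgroup.nontrivial_iff_ne_bot D).2 hD1
  have hcard : Nat.card D = p ^ blockDefect p B := card_defectGroup hM hB hD
  have hd : 1 ≤ blockDefect p B := by
    by_contra h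
    rw [not_le, Nat.lt_one_iff] at h
    rw [h, pow_zero] at hcard
    exact (Finite.one_lt_card (α := D)).ne' hcard
  obtain ⟨χ₀, hχ₀B, hχ₀0⟩ := exists_height_zero hM hB
  have hχ₀ : χ₀ ∈ heightZeroSet p B :=
    mem_heightZeroSet.2 ⟨hχ₀B, (height_zero_iff hχ₀B).2 hχ₀0⟩
  obtain ⟨q, hqu, hqeq, hqs⟩ := exists_heightZero_proj_row hM hB hχ₀
  by_cases hp3 : p ≤ 3
  · refine ⟨?_, fun h => absurd h (by omega), fun h => absurd h (by omega)⟩
    have h1 := hqs 1 hd (by norm_num)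
    rw [pow_one, ← ZMod.intCast_zmod_eq_zero_iff_dvd, Int.cast_sum,
      Finset.sum_congr rfl fun ψ hψ => show ((q ψ ^ 2 : ℤ) : ZMod p) = 1 by
        have h2 : ((q ψ : ℤ) : ZMod p) ≠ 0 := fun h =>
          hqu ψ hψ ((ZMod.intCast_zmod_eq_zero_iff_dvd _ _).1 h)
        rw [Int.cast_pow]
        have := hp.two_le
        interval_cases p
        · revert h2; generalize ((q ψ : ℤ) : ZMod 2) = x; revert x; clear hAut hd; decide +revert
        · revert h2; generalize ((q ψ : ℤ) : ZMod 3) = x; revert x; clear hAut hd; decide +revert,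
      Finset.sum_const, nsmul_one, ZMod.natCast_eq_zero_iff] at h1
    exact h1
  have hp5 : 5 ≤ p := by
    rcases (show p = 4 ∨ 5 ≤ p by omega) with h | h
    · exact absurd (h ▸ hp) (by norm_num)
    · exact h
  have hd2 : 2 ≤ blockDefect p B := by
    by_contra h
    have h1 : blockDefect p B = 1 := by omega
    rw [h1, pow_one] at hcard
    haveI : IsCyclic D := isCyclic_of_prime_card hcard
    exact not_comm_of_isPGroup_mulAut hp (by omega) (defectGroup_isPGroup hD) inferInstance hAut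
      fun a b => (IsCyclic.isMulCommutative (α := D)).is_comm.comm a b
  obtain ⟨e, hmax⟩ := exists_maximal_at hM hB hD
  have hF := blockFusion_isBlockFusion hM hmax
  set F := blockFusion hM hmax
  haveI := Fintype.ofFinite D
  have hfoc : F.focalSubgroup < D :=
    FusionSystem.focal_lt_of_autGroup_isPGroup (defectGroup_isPGroup hD)
      (blockFusion_isSaturated hM hF) hp5 hD1 (hAut.to_subgroup _)
  set N := F.focalSubgroup.subgroupOf D with hN
  have hN1 : N.index ≠ 1 := fun h => hfoc.not_ge (Subgroup.subgroupOf_eq_top.1 (Subgroup.index_eq_one.1 h))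
  obtain ⟨j, hj, hji⟩ : ∃ j ≤ blockDefect p B, N.index = p ^ j :=
    (Nat.dvd_prime_pow hp).1 (hcard ▸ Subgroup.index_dvd_card N)
  have hj0 : j ≠ 0 := fun h => hN1 (by rw [hji, h, pow_zero])
  have hdvd : N.index ∣ (heightZeroSet p B).card := by
    rw [← card_heightZeroSet]
    exact focal_dvd_heightZero hM hF
  have hpos : 0 < (heightZeroSet p B).card := Finset.card_pos.2 ⟨χ₀, hχ₀⟩
  have hpk : p ∣ (heightZeroSet p B).card :=
    (hji ▸ dvd_pow_self p hj0 : p ∣ N.index).trans hdvd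
  refine ⟨hpk, ?_⟩
  by_cases hj2 : 2 ≤ j
  · have h1 : p ^ 2 ≤ (heightZeroSet p B).card :=
      Nat.le_of_dvd hpos ((hji ▸ pow_dvd_pow p hj2 : p ^ 2 ∣ N.index).trans hdvd)
    rw [sq] at h1
    exact ⟨fun _ => by nlinarith, fun _ _ => by nlinarith⟩
  have hj1 : j = 1 := by omega
  subst hj1
  rw [pow_one] at hji
  letI := focalAction hM hF 0
  have hL : Nat.card (linKer N) = p := by
    rw [card_linKer (fun x y => commutator_mem_focal (F := F) x y), hji]
  haveI : Fintype (linKer N) := Fintype.ofFinite _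
  let orb : {χ : IrrCharacter G // χ ∈ B ∧ blockHeight p B (χ : G → ℂ) = 0} → Finset (IrrCharacter G) :=
    fun x => Finset.univ.image fun l : linKer N => (l • x).1
  have horbc : ∀ x, (orb x).card = p := fun x => by
    rw [Finset.card_image_of_injective _ fun l l' h => ?_, Finset.card_univ,
      ← Nat.card_eq_fintype_card, hL]
    have h1 : l • x = l' • x := Subtype.ext h
    have h2 : (l'⁻¹ * l) • x = x := by rw [mul_smul, h1, inv_smul_smul]
    have h3 : l'⁻¹ * l = 1 := Subtype.ext (MonoidHom.ext fun u =>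
      fixed_weight hM hF h2 (u := u) (Or.inl rfl))
    exact (inv_mul_eq_one.1 h3).symm
  have horbsub : ∀ x, orb x ⊆ heightZeroSet p B := fun x ψ hψ => by
    obtain ⟨l, -, rfl⟩ := Finset.mem_image.1 hψ
    exact mem_heightZeroSet.2 (l • x).2
  have horbq : ∀ x, ∀ ψ ∈ orb x, q ψ = q x.1 := fun x ψ hψ => by
    obtain ⟨l, -, rfl⟩ := Finset.mem_image.1 hψ
    exact hqeq _ _ (focalMove_regS hM hF l x χ₀) (l • x).2.1 x.2.1
  have horbsum : ∀ x, ∑ ψ ∈ orb x, q ψ ^ 2 = (p : ℤ) * q x.1 ^ 2 := fun x => by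
    rw [Finset.sum_congr rfl fun ψ hψ => by rw [horbq x ψ hψ], Finset.sum_const, horbc, nsmul_eq_mul]
  have hsq := hqs 2 hd2 le_rfl
  let x₀ : {χ : IrrCharacter G // χ ∈ B ∧ blockHeight p B (χ : G → ℂ) = 0} :=
    ⟨χ₀, mem_heightZeroSet.1 hχ₀⟩
  have hne1 : (heightZeroSet p B).card ≠ p := by
    intro h
    rw [← Finset.eq_of_subset_of_card_le (horbsub x₀) (by rw [horbc, h]), horbsum, sq,
      mul_dvd_mul_iff_left (Nat.cast_ne_zero.2 hp.ne_zero)] at hsq
    exact hqu _ hχ₀ (Int.Prime.dvd_pow' hp hsq)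
  obtain ⟨m, hm⟩ := hpk
  have hm1 : m ≠ 1 := fun h => hne1 (by rw [hm, h, mul_one])
  have hm0 : m ≠ 0 := fun h => by rw [h, mul_zero] at hm; omega
  refine ⟨fun _ => by rw [hm, mul_comm p m]; exact Nat.mul_le_mul_right _ (by omega), fun _ h4 => ?_⟩
  suffices m ≠ 2 by rw [hm, mul_comm p m]; exact Nat.mul_le_mul_right _ (by omega)
  rintro rfl
  obtain ⟨ψ₁, hψ₁, hψ₁n⟩ := Finset.exists_mem_notMem_of_card_lt_card
    (s := orb x₀) (t := heightZeroSet p B) (by rw [horbc, hm]; omega)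
  let x₁ : {χ : IrrCharacter G // χ ∈ B ∧ blockHeight p B (χ : G → ℂ) = 0} :=
    ⟨ψ₁, mem_heightZeroSet.1 hψ₁⟩
  have hdisj : Disjoint (orb x₀) (orb x₁) := by
    rw [Finset.disjoint_left]
    intro ψ h0 h1
    obtain ⟨l, -, rfl⟩ := Finset.mem_image.1 h0
    obtain ⟨l', -, hl'⟩ := Finset.mem_image.1 h1
    refine hψ₁n (Finset.mem_image.2 ⟨l'⁻¹ * l, Finset.mem_univ _, ?_⟩)
    rw [mul_smul, ← (Subtype.ext hl' : l' • x₁ = l • x₀), inv_smul_smul]
  rw [← Finset.eq_of_subset_of_card_le (Finset.union_subset (horbsub x₀) (horbsub x₁))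
      (by rw [Finset.card_union_of_disjoint hdisj, horbc, horbc, hm]; omega),
    Finset.sum_union hdisj, horbsum, horbsum, ← mul_add, sq,
    mul_dvd_mul_iff_left (Nat.cast_ne_zero.2 hp.ne_zero), ← ZMod.intCast_zmod_eq_zero_iff_dvd] at hsq
  push_cast at hsq
  have hx : ((q χ₀ : ℤ) : ZMod p) ≠ 0 := fun h =>
    hqu _ hχ₀ ((ZMod.intCast_zmod_eq_zero_iff_dvd _ _).1 h)
  exact ZMod.mod_four_ne_three_of_sq_eq_neg_sq (x := ((q χ₀ : ℤ) : ZMod p))
    (y := ((q ψ₁ : ℤ) : ZMod p)) hx (eq_neg_of_add_eq_zero_left hsq) h4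

end CfsgLib.Blocks
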