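import Mathlib.GroupTheory.Transfer
import Mathlib.GroupTheory.Sylow
import Mathlib.Data.ZMod.Basic
import Mathlib.GroupTheory.Perm.Fin

/-!
# Homocyclic Sylow 2-subgroups of rank two
-/

namespace CfsgLib.Blocks.Homocyclic

set_option linter.unusedVariables false
set_option linter.style.haveILetI false

variable {G : Type*} [Group G]

/-- An element acting with odd order on an abelian `2`-group and fixing its involutions acts
trivially. -/
theorem centralizes_of_fix_involutions {A : Subgroup G} (hA : IsPGroup 2 A)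
    (hab : ∀ a ∈ A, ∀ b ∈ A, a * b = b * a) {x : G} (hx : ∀ a ∈ A, x * a * x⁻¹ ∈ A) {e : ℕ}
    (he : Odd e) (hxe : x ^ e ∈ Subgroup.centralizer (A : Set G))
    (hfix : ∀ d ∈ A, d * d = 1 → x * d * x⁻¹ = d) : x ∈ Subgroup.centralizer (A : Set G) := by
  have key : ∀ k : ℕ, ∀ z ∈ A, z ^ (2 ^ k) = 1 → x * z * x⁻¹ = z := by
    intro k
    induction k with
    | zero =>
      intro z hz h
      rw [pow_zero, pow_one] at h
      simp [h]
    | succ k ih =>
      intro z hz h
      set d := x * z * x⁻¹ * z⁻¹ with hd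
      have hdA : d ∈ A := mul_mem (hx z hz) (inv_mem hz)
      have h2 : x * z ^ 2 * x⁻¹ = z ^ 2 := ih _ (pow_mem hz 2) (by rw [← pow_mul, ← pow_succ']; exact h)
      have hd2 : d * d = 1 := by
        have hc : Commute (x * z * x⁻¹) z⁻¹ := hab _ (hx z hz) _ (inv_mem hz)
        rw [← pow_two, hd, hc.mul_pow, conj_pow, h2, inv_pow, mul_inv_cancel]
      have hdfix := hfix d hdA hd2
      have hpow : ∀ i : ℕ, x ^ i * z * (x ^ i)⁻¹ = d ^ i * z := by
        intro i
        induction i with
        | zero => simp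
        | succ i ih2 =>
          have e1 : x ^ (i + 1) * z * (x ^ (i + 1))⁻¹ = x * (d ^ i * z) * x⁻¹ := by
            rw [← ih2, pow_succ']; group
          have e2 : x * d ^ i * x⁻¹ = d ^ i := by rw [← conj_pow, hdfix]
          rw [e1, show x * (d ^ i * z) * x⁻¹ = (x * d ^ i * x⁻¹) * (x * z * x⁻¹) by group, e2,
            pow_succ, mul_assoc (d ^ i) d z]
          congr 1
          rw [hd, inv_mul_cancel_right]
      have h3 := hpow e
      rw [← Subgroup.mem_centralizer_iff.1 hxe z hz, mul_inv_cancel_right] at h3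
      have h4 : d ^ e = 1 := mul_eq_right.1 h3.symm
      obtain ⟨j, rfl⟩ := he
      rw [pow_succ, pow_mul, pow_two, hd2, one_pow, one_mul, hd, mul_inv_eq_one] at h4
      exact h4
  rw [Subgroup.mem_centralizer_iff]
  intro a ha
  obtain ⟨k, hk⟩ := hA ⟨a, ha⟩
  have h := key k a ha (congrArg Subtype.val hk)
  exact (mul_inv_eq_iff_eq_mul.1 h).symm

theorem two_mul_eq_zero_iff {m : ℕ} (hm : 1 ≤ m) (x : ZMod (2 ^ m)) :
    x + x = 0 ↔ x = 0 ∨ x = ((2 ^ (m - 1) : ℕ) : ZMod (2 ^ m)) := by
  haveI : NeZero (2 ^ m) := ⟨by positivity⟩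
  have hpow : 2 ^ m = 2 * 2 ^ (m - 1) := by rw [← pow_succ']; congr 1; omega
  constructor
  · intro h
    have h1 : ((x.val + x.val : ℕ) : ZMod (2 ^ m)) = 0 := by
      rw [Nat.cast_add, ZMod.natCast_zmod_val]; exact h
    rw [ZMod.natCast_eq_zero_iff] at h1
    obtain ⟨c, hc⟩ := h1
    have hv : x.val < 2 ^ m := ZMod.val_lt x
    have hc2 : c < 2 := by
      by_contra hn
      have : 2 ^ m * 2 ≤ 2 ^ m * c := Nat.mul_le_mul_left _ (by omega)
      omega
    interval_cases c
    · left; rw [← ZMod.natCast_zmod_val x, show x.val = 0 by omega, Nat.cast_zero]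
    · right; rw [← ZMod.natCast_zmod_val x, show x.val = 2 ^ (m - 1) by omega]
  · rintro (rfl | rfl)
    · simp
    · rw [← Nat.cast_add, ← two_mul, ← hpow, ZMod.natCast_self]

variable [Finite G] (P : Sylow 2 G) {m : ℕ} (hm : 1 ≤ m)
  (e : (P : Subgroup G) ≃* Multiplicative (ZMod (2 ^ m) × ZMod (2 ^ m)))

/-- The involutions of `P`. -/
def Inv : Type _ := {z : G // z ∈ (P : Subgroup G) ∧ z * z = 1 ∧ z ≠ 1}

include hm e in
theorem card_inv : Nat.card (Inv P) = 3 := by
  classical
  haveI : NeZero (2 ^ m) := ⟨by positivity⟩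
  set a : ZMod (2 ^ m) := ((2 ^ (m - 1) : ℕ) : ZMod (2 ^ m)) with ha
  have ha0 : a ≠ 0 := by
    rw [ha, Ne, ZMod.natCast_eq_zero_iff]
    intro h
    have h1 := Nat.le_of_dvd (by positivity) h
    exact absurd h1 (not_le.2 (Nat.pow_lt_pow_right (by norm_num) (by omega)))
  let β := {w : ZMod (2 ^ m) × ZMod (2 ^ m) // w + w = 0 ∧ w ≠ 0}
  have e1 : Inv P ≃ β :=
    { toFun := fun z => ⟨Multiplicative.toAdd (e ⟨z.1, z.2.1⟩), by
        constructor
        · rw [← toAdd_mul, ← map_mul]
          have : (⟨z.1, z.2.1⟩ * ⟨z.1, z.2.1⟩ : (P : Subgroup G)) = 1 := Subtype.ext z.2.2.1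
          rw [this, map_one]; rfl
        · intro h
          have h1 : e ⟨z.1, z.2.1⟩ = 1 := h
          exact z.2.2.2 (congrArg Subtype.val (e.map_eq_one_iff.1 h1))⟩
      invFun := fun w => ⟨(e.symm (Multiplicative.ofAdd w.1) : (P : Subgroup G)),
        (e.symm (Multiplicative.ofAdd w.1)).2, by
          rw [← Subgroup.coe_mul, ← map_mul, ← ofAdd_add, w.2.1, ofAdd_zero, map_one]; rfl, fun h => by
          have h1 : e.symm (Multiplicative.ofAdd w.1) = 1 := Subtype.ext h
          exact w.2.2 (e.symm.map_eq_one_iff.1 h1)⟩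
      left_inv := fun z => Subtype.ext (show ((e.symm (e ⟨z.1, z.2.1⟩) : (P : Subgroup G)) : G) = z.1 by
        rw [e.symm_apply_apply])
      right_inv := fun w => Subtype.ext (congrArg Multiplicative.toAdd
        (e.apply_symm_apply (Multiplicative.ofAdd w.1))) }
  rw [Nat.card_congr e1, Nat.card_eq_fintype_card, Fintype.card_subtype]
  have hset : (Finset.univ.filter fun w : ZMod (2 ^ m) × ZMod (2 ^ m) => w + w = 0 ∧ w ≠ 0) =
      {((0 : ZMod (2 ^ m)), a), (a, (0 : ZMod (2 ^ m))), (a, a)} := by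
    ext ⟨u, v⟩
    simp only [Finset.mem_filter, Finset.mem_univ, true_and, Finset.mem_insert,
      Finset.mem_singleton, Prod.mk_add_mk, Prod.mk_eq_zero, two_mul_eq_zero_iff hm, ← ha, ne_eq,
      Prod.mk.injEq]
    constructor
    · rintro ⟨⟨rfl | rfl, rfl | rfl⟩, h⟩ <;> simp_all
    · rintro (⟨rfl, rfl⟩ | ⟨rfl, rfl⟩ | ⟨rfl, rfl⟩) <;> simp [ha0]
  rw [hset]
  simp [ha0, Ne.symm ha0]

instance : SMul (Subgroup.normalizer ((P : Subgroup G) : Set G)) (Inv P) :=
  ⟨fun n z => ⟨(n : G) * z.1 * (n : G)⁻¹, (Subgroup.mem_normalizer_iff.1 n.2 z.1).1 z.2.1, by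
    rw [show (n : G) * z.1 * (n : G)⁻¹ * ((n : G) * z.1 * (n : G)⁻¹) =
      (n : G) * (z.1 * z.1) * (n : G)⁻¹ by group, z.2.2.1, mul_one, mul_inv_cancel],
    fun h => z.2.2.2 (conj_eq_one_iff.1 h)⟩⟩

instance : MulAction (Subgroup.normalizer ((P : Subgroup G) : Set G)) (Inv P) where
  one_smul z := Subtype.ext (show (1 : G) * z.1 * (1 : G)⁻¹ = z.1 by group)
  mul_smul a b z := Subtype.ext (show (a : G) * (b : G) * z.1 * ((a : G) * (b : G))⁻¹ =
    (a : G) * ((b : G) * z.1 * (b : G)⁻¹) * (a : G)⁻¹ by group)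

theorem fin3_fix : ∀ π : Equiv.Perm (Fin 3), π * π * π = 1 → ∀ i, π i = i → π = 1 := by decide

theorem fin3_move : ∀ π : Equiv.Perm (Fin 3), π * π * π = 1 → π ≠ 1 →
    ∀ i j, i = j ∨ π i = j ∨ π (π i) = j := by decide

include e in
theorem comm_P : ∀ a ∈ (P : Subgroup G), ∀ b ∈ (P : Subgroup G), a * b = b * a := fun a ha b hb =>
  congrArg Subtype.val (e.injective (by rw [map_mul, map_mul, mul_comm]) :
    (⟨a, ha⟩ * ⟨b, hb⟩ : (P : Subgroup G)) = ⟨b, hb⟩ * ⟨a, ha⟩)

include e in
theorem odd_relIndex :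
    Odd ((Subgroup.centralizer ((P : Subgroup G) : Set G)).relIndex
      (Subgroup.normalizer ((P : Subgroup G) : Set G))) := by
  haveI : Fact (Nat.Prime 2) := ⟨Nat.prime_two⟩
  have hPC : (P : Subgroup G) ≤ Subgroup.centralizer ((P : Subgroup G) : Set G) := fun a ha =>
    Subgroup.mem_centralizer_iff.2 fun b hb => comm_P P e b hb a ha
  rw [← Nat.not_even_iff_odd, even_iff_two_dvd]
  intro h
  exact P.not_dvd_index ((h.trans (dvd_trans (Subgroup.relIndex_dvd_index_of_le
    (Subgroup.centralizer_le_normalizer _)) dvd_rfl)).trans (Subgroup.index_dvd_of_le hPC))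

include hm e in
/-- The normalizer acts on the three involutions with kernel the centralizer and image of odd
order. -/
theorem action_facts :
    ((MulAction.toPermHom (Subgroup.normalizer ((P : Subgroup G) : Set G)) (Inv P)).ker =
      (Subgroup.centralizer ((P : Subgroup G) : Set G)).subgroupOf
        (Subgroup.normalizer ((P : Subgroup G) : Set G))) ∧
    ((Subgroup.centralizer ((P : Subgroup G) : Set G)).relIndex
        (Subgroup.normalizer ((P : Subgroup G) : Set G)) = 1 ∨
      (Subgroup.centralizer ((P : Subgroup G) : Set G)).relIndex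
        (Subgroup.normalizer ((P : Subgroup G) : Set G)) = 3) := by
  classical
  set N := Subgroup.normalizer ((P : Subgroup G) : Set G)
  set C := Subgroup.centralizer ((P : Subgroup G) : Set G)
  haveI hCn : (C.subgroupOf N).Normal :=
    ⟨fun x hx g => Subgroup.mem_subgroupOf.2 (Subgroup.mem_centralizer_iff.2 fun a ha => by
      have hg := (Subgroup.mem_normalizer_iff.1 (inv_mem g.2) a).1 ha
      have h := Subgroup.mem_centralizer_iff.1 (Subgroup.mem_subgroupOf.1 hx) _ hg
      show a * ((g : G) * (x : G) * (g : G)⁻¹) = (g : G) * (x : G) * (g : G)⁻¹ * a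
      rw [show a * ((g : G) * (x : G) * (g : G)⁻¹) =
        (g : G) * (((g : G)⁻¹ * a * (g : G)⁻¹⁻¹) * (x : G)) * (g : G)⁻¹ by group, h]
      group)⟩
  have hk : (MulAction.toPermHom N (Inv P)).ker = C.subgroupOf N := by
    ext n
    rw [MonoidHom.mem_ker, Subgroup.mem_subgroupOf]
    constructor
    · intro h
      have hodd := odd_relIndex P e
      refine centralizes_of_fix_involutions P.2 (comm_P P e)
        (fun a ha => (Subgroup.mem_normalizer_iff.1 n.2 a).1 ha) hodd ?_ fun d hd hd2 => ?_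
      · have h1 : n ^ (C.relIndex N) ∈ C.subgroupOf N := Subgroup.pow_index_mem _ n
        exact h1
      · by_cases hd1 : d = 1
        · simp [hd1]
        · exact congrArg Subtype.val (Equiv.Perm.ext_iff.1 h (⟨d, hd, hd2, hd1⟩ : Inv P))
    · intro h
      refine Equiv.ext fun z => Subtype.ext ?_
      show (n : G) * z.1 * (n : G)⁻¹ = z.1
      rw [← Subgroup.mem_centralizer_iff.1 h z.1 z.2.1, mul_inv_cancel_right]
  refine ⟨hk, ?_⟩
  haveI : Finite (Inv P) := Subtype.finite
  have h1 : (MulAction.toPermHom N (Inv P)).ker.index = C.relIndex N := by rw [hk]; rfl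
  rw [Subgroup.index_ker] at h1
  have h2 : C.relIndex N ∣ 6 := by
    rw [← h1]
    refine (Subgroup.card_subgroup_dvd_card _).trans ?_
    haveI := Fintype.ofFinite (Inv P)
    rw [Nat.card_eq_fintype_card, Fintype.card_perm, ← Nat.card_eq_fintype_card, card_inv P hm e]
    rfl
  have h3 := odd_relIndex P e
  have h4 := Nat.le_of_dvd (by norm_num) h2
  obtain ⟨j, hj⟩ := h3
  change C.relIndex N = _ at hj
  rw [hj] at h2 h4 ⊢
  have : j ≤ 2 := by omega
  interval_cases j <;> simp_all

include hm e in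
theorem exists_transfer (h : (Subgroup.centralizer ((P : Subgroup G) : Set G)).relIndex
        (Subgroup.normalizer ((P : Subgroup G) : Set G)) ≠ 1) :
    (∀ n : Subgroup.normalizer ((P : Subgroup G) : Set G),
      (n : G) ∉ Subgroup.centralizer ((P : Subgroup G) : Set G) → ∀ z : Inv P, n • z ≠ z) ∧
    ∀ z w : Inv P, ∃ n : Subgroup.normalizer ((P : Subgroup G) : Set G), n • z = w := by
  classical
  obtain ⟨hk, hn⟩ := action_facts P hm e
  have h3 := hn.resolve_left h
  haveI : Finite (Inv P) := Subtype.finite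
  haveI := Fintype.ofFinite (Inv P)
  set N := Subgroup.normalizer ((P : Subgroup G) : Set G)
  set C := Subgroup.centralizer ((P : Subgroup G) : Set G)
  set f := MulAction.toPermHom N (Inv P) with hf
  let ε := (Fintype.equivFinOfCardEq (α := Inv P) (n := 3) (by
    rw [← Nat.card_eq_fintype_card, card_inv P hm e]))
  have hcube : ∀ n : N, ε.permCongr (f n) * ε.permCongr (f n) * ε.permCongr (f n) = 1 := by
    intro n
    haveI : (C.subgroupOf N).Normal := hk ▸ MonoidHom.normal_ker f
    have h1 : f (n ^ C.relIndex N) = 1 := by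
      rw [← MonoidHom.mem_ker, hk]
      exact Subgroup.pow_index_mem (H := C.subgroupOf N) n
    rw [map_pow, h3] at h1
    show ε.permCongrHom (f n) * ε.permCongrHom (f n) * ε.permCongrHom (f n) = 1
    rw [← map_mul, ← map_mul, show f n * f n * f n = f n ^ 3 by rw [pow_three, mul_assoc], h1,
      map_one]
  have hne : ∀ n : N, (n : G) ∉ C → ε.permCongr (f n) ≠ 1 := by
    intro n hn hc
    change ε.permCongrHom (f n) = 1 at hc
    rw [map_eq_one_iff _ (MulEquiv.injective _)] at hc
    have : n ∈ f.ker := hc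
    rw [hk] at this
    exact hn this
  refine ⟨fun n hn z hz => hne n hn (fin3_fix _ (hcube n) (ε z) ?_), fun z w => ?_⟩
  · rw [Equiv.permCongr_apply, ε.symm_apply_apply]
    exact congrArg ε hz
  · obtain ⟨n, hn⟩ : ∃ n : N, (n : G) ∉ C := by
      by_contra hno
      push Not at hno
      exact h (Subgroup.relIndex_eq_one.2 fun x hx => hno ⟨x, hx⟩)
    rcases fin3_move _ (hcube n) (hne n hn) (ε z) (ε w) with h' | h' | h'
    · exact ⟨1, by rw [one_smul]; exact ε.injective h'⟩
    · rw [Equiv.permCongr_apply, ε.symm_apply_apply] at h'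
      exact ⟨n, ε.injective h'⟩
    · rw [Equiv.permCongr_apply, Equiv.permCongr_apply, ε.symm_apply_apply,
        ε.symm_apply_apply] at h'
      exact ⟨n * n, by rw [mul_smul]; exact ε.injective h'⟩

end CfsgLib.Blocks.Homocyclic
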