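import Cfsg.Agent.Lib.Blocks.RegularParts
import Cfsg.Agent.Lib.Blocks.DefectZeroProducts
import Cfsg.Agent.Lib.Blocks.Covering
import Cfsg.Agent.Lib.Blocks.BlockBasics

/-!
# Height zero characters fixed by a `p`-group stabilizing a block
-/

namespace CfsgLib.Blocks.InvariantHeightZero

open Cfsg CfsgLib.CharTheory CfsgLib.Blocks CfsgLib.Blocks.InducedChar CfsgLib.Blocks.RegularParts
open scoped ComplexConjugate

set_option linter.unusedVariables false
set_option linter.style.haveILetI false
set_option linter.unusedSectionVars false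

universe u

variable {p : ℕ} {M : Ideal AlgInt}

section one

variable {K : Type u} [Group K] [Fintype K]

/-- An induced character from the product of a defect group and the cyclic group of a defect
class, whose part in the block has degree of least possible valuation, fixed by every
automorphism fixing these data. -/
theorem exists_defect_induced (hM : IsPModular p M) {c : Set (IrrCharacter K)} (hc : IsPBlock M c)
    {g : K} (hg : IsDefectClass M c g) (S : Sylow p (Subgroup.centralizer ({g} : Set K))) :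
    ∃ Ψ : K → ℂ, IsCharacter K Ψ ∧
      (∀ α : K ≃* K, α g = g →
        (∀ d ∈ (S : Subgroup (Subgroup.centralizer ({g} : Set K))).map
            (Subgroup.centralizer ({g} : Set K)).subtype,
          α d ∈ (S : Subgroup (Subgroup.centralizer ({g} : Set K))).map
            (Subgroup.centralizer ({g} : Set K)).subtype) → ∀ k, Ψ (α k) = Ψ k) ∧
      ∃ n : ℕ, n ≠ 0 ∧ n.factorization p = minDv p c ∧ ∃ u : ℂ, MemLocalRing M u ∧
        ¬ MemLocalIdeal M u ∧
        ∑ φ ∈ bset c, classInner Ψ (φ : K → ℂ) * (φ : K → ℂ) 1 = (n : ℂ) * u := by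
  classical
  haveI : Fact p.Prime := ⟨hM.1⟩
  haveI := res_isDomain hM
  haveI := res_charP hM
  set D := (S : Subgroup (Subgroup.centralizer ({g} : Set K))).map
    (Subgroup.centralizer ({g} : Set K)).subtype with hD
  set Z := Subgroup.zpowers g with hZ
  haveI := Fintype.ofFinite D
  haveI := Fintype.ofFinite Z
  have hgreg := isDefectClass_regular hM hc hg
  have hDp : IsPGroup p D := S.2.map _
  have hcm : ∀ (d : D) (z : Z), Commute (d : K) (z : K) := by
    intro d z
    obtain ⟨w, -, hw⟩ := d.2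
    obtain ⟨i, hi⟩ := Subgroup.mem_zpowers_iff.1 z.2
    rw [← hi, ← hw]
    exact (show Commute (w : K) g from Subgroup.mem_centralizer_singleton_iff.1 w.2).zpow_right i
  have hZreg : ∀ z : Z, ¬ p ∣ orderOf (z : K) := by
    intro z h
    obtain ⟨i, hi⟩ := Subgroup.mem_zpowers_iff.1 z.2
    exact hgreg (h.trans (by rw [← Nat.card_zpowers g]; exact Subgroup.orderOf_dvd_natCard _ z.2))
  have hDord : ∀ d : D, ∃ k : ℕ, orderOf (d : K) = p ^ k := fun d => by
    obtain ⟨k, hk⟩ := IsPGroup.iff_orderOf.1 hDp d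
    exact ⟨k, (Subgroup.orderOf_coe d).trans hk⟩
  set ι : D × Z →* K := MonoidHom.noncommCoprod D.subtype Z.subtype hcm with hι
  have hιapp : ∀ x : D × Z, ι x = (x.1 : K) * (x.2 : K) := fun x => rfl
  have hsplit : ∀ (d : D) (z : Z), ¬ p ∣ orderOf ((d : K) * z) → d = 1 := by
    intro d z h
    obtain ⟨e1, -⟩ := pPart_unique hM.1 (hcm d z) (Commute.one_left ((d : K) * z)) (hDord d)
      ⟨0, by simp⟩ (hZreg z) h (by rw [one_mul])
    exact Subtype.ext e1
  have hinj : Function.Injective ι := by
    rw [injective_iff_map_eq_one]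
    rintro ⟨d, z⟩ h
    have h' : (d : K) * z = 1 := h
    have hd := hsplit d z (by rw [h', orderOf_one]; exact hM.1.not_dvd_one)
    subst hd
    rw [OneMemClass.coe_one, one_mul] at h'
    exact Prod.ext rfl (Subtype.ext h')
  set H := ι.range with hH
  haveI := Fintype.ofFinite H
  set e : D × Z ≃* H := MonoidHom.ofInjective hinj with he
  have heapp : ∀ x : D × Z, ((e x : H) : K) = (x.1 : K) * (x.2 : K) := fun x => rfl
  let ξ : IrrCharacter Z → IrrCharacter H := fun φ =>
    ⟨_, isIrrCharacter_comp_surjective φ.2 ((MonoidHom.snd D Z).comp e.symm.toMonoidHom)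
      (fun z => ⟨e (1, z), by simp⟩)⟩
  have hξ : ∀ (φ : IrrCharacter Z) (x : D × Z), (ξ φ : H → ℂ) (e x) = (φ : Z → ℂ) x.2 :=
    fun φ x => by
      show (φ : Z → ℂ) _ = _
      simp
  have hξ1 : ∀ φ : IrrCharacter Z, (ξ φ : H → ℂ) 1 = (φ : Z → ℂ) 1 := fun φ => by
    have := hξ φ 1
    rwa [map_one] at this
  have hom : ∀ φ : IrrCharacter Z, omega (ξ φ : H → ℂ) (fun h : H => blockCoeff c h) *
      (φ : Z → ℂ) 1 = ∑ z : Z, blockCoeff c (z : K) * (φ : Z → ℂ) z := by
    intro φ
    rw [omega, hξ1, div_mul_cancel₀ _ (irr_one_ne_zero φ),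
      ← Fintype.sum_equiv e.toEquiv (fun x : D × Z => blockCoeff c ((x.1 : K) * (x.2 : K)) *
        (φ : Z → ℂ) x.2) _ fun x => by
          show _ = blockCoeff c ((e x : H) : K) * (ξ φ : H → ℂ) (e x)
          rw [hξ, heapp],
      Fintype.sum_prod_type,
      Finset.sum_eq_single (1 : D) (fun d _ hd => Finset.sum_eq_zero fun z _ => by
        rw [blockCoeff_of_dvd_orderOf hM hc (by_contra fun h => hd (hsplit d z h)), zero_mul])
        (fun h => absurd (Finset.mem_univ _) h)]
    simp
  set gZ : Z := ⟨g, Subgroup.mem_zpowers g⟩ with hgZ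
  obtain ⟨φ, hφ⟩ : ∃ φ : IrrCharacter Z,
      ¬ MemLocalIdeal M (omega (ξ φ : H → ℂ) (fun h : H => blockCoeff c h)) := by
    by_contra hall
    push Not at hall
    have h1 : ∑ φ : IrrCharacter Z, omega (ξ φ : H → ℂ) (fun h : H => blockCoeff c h) *
        (φ : Z → ℂ) 1 * conj ((φ : Z → ℂ) gZ) = (Nat.card Z : ℂ) * blockCoeff c g := by
      simp only [hom, Finset.sum_mul]
      rw [Finset.sum_comm]
      have hcomm : ∀ a b : Z, a * b = b * a := fun a b => by
        obtain ⟨i, hi⟩ := Subgroup.mem_zpowers_iff.1 a.2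
        obtain ⟨j, hj⟩ := Subgroup.mem_zpowers_iff.1 b.2
        apply Subtype.ext
        rw [Subgroup.coe_mul, Subgroup.coe_mul, ← hi, ← hj, zpow_mul_comm]
      rw [Finset.sum_eq_single gZ (fun z _ hz => ?_) (fun h => absurd (Finset.mem_univ _) h)]
      · simp only [mul_assoc, ← Finset.mul_sum]
        rw [sum_irr_mul_conj gZ gZ, if_pos (IsConj.refl gZ), mul_comm]
        congr 2
        have : Subgroup.centralizer ({gZ} : Set Z) = ⊤ :=
          eq_top_iff.2 fun a _ => Subgroup.mem_centralizer_singleton_iff.2 (hcomm a gZ)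
        rw [this, Subgroup.card_top]
      · simp only [mul_assoc, ← Finset.mul_sum]
        rw [sum_irr_mul_conj z gZ, if_neg, mul_zero]
        intro hcj
        obtain ⟨a, ha⟩ := isConj_iff.1 hcj
        exact hz (by rw [← ha, hcomm a z, mul_inv_cancel_right])
    have h2 : MemLocalIdeal M ((Nat.card Z : ℂ) * blockCoeff c g) := by
      rw [← h1]
      refine memIdeal_sum hM fun φ _ => ?_
      rw [mul_assoc, mul_comm]
      exact memIdeal_mul_left hM ((loc hM).mul_mem (memRing_irr hM φ 1)
        (by rw [irr_conjInv]; exact memRing_irr hM φ _)) (hall φ)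
    rw [← res_eq_zero_iff hM ((loc hM).mul_mem (memRing_natCast hM _) hg.1),
      res_mul hM (memRing_natCast hM _) hg.1, res_natCast, mul_eq_zero,
      res_eq_zero_iff hM hg.1, hZ, Nat.card_zpowers, CharP.cast_eq_zero_iff _ p] at h2
    exact h2.elim hgreg hg.2.1
  refine ⟨indFun H (ξ φ : H → ℂ), isCharacter_indFun H (isCharacter_of_irr (ξ φ).2),
    fun α hαg hαD k => ?_, H.index * charDegree (φ : Z → ℂ),
    Nat.mul_ne_zero Subgroup.index_ne_zero_of_finite (irr_charDegree_pos φ).ne', ?_,
    omega (ξ φ : H → ℂ) (fun h : H => blockCoeff c h), ?_, hφ, ?_⟩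
  · have hαz : ∀ z : Z, α (z : K) = z := fun z => by
      obtain ⟨i, hi⟩ := Subgroup.mem_zpowers_iff.1 z.2
      rw [← hi, map_zpow, hαg]
    have hαe : ∀ x : D × Z, α ((e x : H) : K) = ((e (⟨α x.1, hαD _ x.1.2⟩, x.2) : H) : K) :=
      fun x => by rw [heapp, heapp, map_mul, hαz]
    have hαH : ∀ h : K, h ∈ H → α h ∈ H := by
      intro h hh
      obtain ⟨x, hx⟩ := e.surjective ⟨h, hh⟩
      rw [show h = ((e x : H) : K) from (congrArg Subtype.val hx).symm, hαe]
      exact SetLike.coe_mem _
    have hαH' : ∀ h : K, α h ∈ H → h ∈ H := by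
      intro h hh
      have hmap : H.map α.toMonoidHom = H := by
        refine Subgroup.eq_of_le_of_card_ge ?_
          (le_of_eq (Subgroup.card_map_of_injective α.injective).symm)
        rintro _ ⟨y, hy, rfl⟩
        exact hαH y hy
      obtain ⟨y, hy, hy'⟩ := hmap.ge hh
      rwa [← α.injective hy']
    have hext : ∀ y : K, extendByZero H (ξ φ : H → ℂ) (α y) = extendByZero H (ξ φ : H → ℂ) y := by
      intro y
      by_cases hy : y ∈ H
      · obtain ⟨x, hx⟩ := e.surjective ⟨y, hy⟩
        rw [show y = ((e x : H) : K) from (congrArg Subtype.val hx).symm, hαe, extendByZero_coe,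
          extendByZero_coe, hξ, hξ]
      · rw [extendByZero_of_not_mem _ _ hy, extendByZero_of_not_mem _ _ fun h => hy (hαH' y h)]
    simp only [indFun]
    congr 1
    refine (Fintype.sum_equiv α.toEquiv _ _ fun x => ?_).symm
    show _ = extendByZero H _ ((α x)⁻¹ * α k * α x)
    rw [← map_inv, ← map_mul, ← map_mul, hext]
  · have hφdeg : (charDegree (φ : Z → ℂ)).factorization p = 0 := by
      refine Nat.factorization_eq_zero_of_not_dvd fun h => hgreg ?_
      rw [← Nat.card_zpowers]
      exact h.trans (charDegree_dvd_card φ)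
    rw [Nat.factorization_mul Subgroup.index_ne_zero_of_finite (irr_charDegree_pos φ).ne',
      Finsupp.add_apply, hφdeg, add_zero, minDv_eq hM hc hg]
    have hcard : (Nat.card H).factorization p =
        (Nat.card (Subgroup.centralizer ({g} : Set K))).factorization p := by
      rw [← Nat.card_congr e.toEquiv, Nat.card_prod,
        Nat.factorization_mul Nat.card_pos.ne' Nat.card_pos.ne', Finsupp.add_apply,
        Nat.card_zpowers, Nat.factorization_eq_zero_of_not_dvd hgreg, add_zero, hD,
        Subgroup.card_map_of_injective (Subgroup.subtype_injective _), S.card_eq_multiplicity,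
        Nat.Prime.factorization_pow hM.1]
      simp
    have h1 := factorization_index_add p H
    have h2 := factorization_index_add p (Subgroup.centralizer ({g} : Set K))
    omega
  · exact memRing_omega (G := H) hM (fun a b => blockCoeff_isClassFunction c (a : K) (b : K))
      (fun h => memRing_blockCoeff hM hc _) (ξ φ)
  · skip
    have e1 := blockPart_indFun_one H (ξ φ) c
    rw [blockPart, finsum_mem_bset] at e1
    rw [Finset.sum_congr rfl fun (ψ : IrrCharacter K) _ => congrArg (· * (ψ : K → ℂ) 1) (classInner_congr_inst _ (Fintype.ofFinite K) _ _), e1, indFun_apply_one, Nat.cast_mul,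
      irr_charDegree_cast, hξ1]

end one

section main

variable {G : Type u} [Group G] [Fintype G] {N : Subgroup G} [hN : N.Normal] [Fintype N]

/-- A `p`-group stabilizing a block of a normal subgroup fixes one of its characters of height
zero. -/
theorem exists_invariant_height_zero (hM : IsPModular p M) {c : Set (IrrCharacter N)}
    (hc : IsPBlock M c) {R : Subgroup G} (hR : IsPGroup p R)
    (hst : ∀ r ∈ R, StabilizesBlock N c r) :
    ∃ θ ∈ c, dv p (θ : N → ℂ) = minDv p c ∧
      ∀ r ∈ R, irrPull (conjE (mem_normalizer_normal (N := N) r)) θ = θ := by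
  classical
  haveI : Fact p.Prime := ⟨hM.1⟩
  haveI := res_isDomain hM
  haveI := res_charP hM
  set E : G → (N ≃* N) := fun r => conjE (mem_normalizer_normal (N := N) r) with hE
  have hEapp : ∀ (r : G) (n : N), ((E r n : N) : G) = r⁻¹ * n * r := fun r n => rfl
  have hEmul : ∀ (r s : G) (n : N), E (r * s) n = E s (E r n) := fun r s n =>
    Subtype.ext (by simp only [hEapp, mul_inv_rev, mul_assoc])
  have hE1 : ∀ n : N, E 1 n = n := fun n => Subtype.ext (by simp [hEapp])
  have hEimg : ∀ r ∈ R, irrPull (E r) '' c = c := fun r hr =>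
    (stabilizesBlock_iff _).1 (hst r hr)
  -- the action on classes
  letI : MulAction R (ConjClasses N) :=
    { smul := fun r C => ConjClasses.map (E ((r : G))⁻¹).toMonoidHom C
      one_smul := fun C => by
        induction C using Quotient.inductionOn with
        | h n =>
          refine congrArg ConjClasses.mk ?_
          show E (((1 : R) : G))⁻¹ n = n
          rw [OneMemClass.coe_one, inv_one, hE1]
      mul_smul := fun r s C => by
        induction C using Quotient.inductionOn with
        | h n =>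
          refine congrArg ConjClasses.mk ?_
          show E (((r * s : R) : G))⁻¹ n = E ((r : G))⁻¹ (E ((s : G))⁻¹ n)
          rw [Subgroup.coe_mul, mul_inv_rev, hEmul] }
  haveI : Fintype (ConjClasses N) := Fintype.ofFinite _
  obtain ⟨θ₀, hθ₀⟩ := block_nonempty hM hc
  set f : ConjClasses N → AlgInt ⧸ M := fun C =>
    res hM (blockCoeff c (crep C)) * res hM (clv (crep C) θ₀) with hf
  have hfinv : ∀ (r : R) C, f (r • C) = f C := by
    intro r C
    have hconj : IsConj (crep (r • C)) (E ((r : G))⁻¹ (crep C)) := by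
      refine ConjClasses.mk_eq_mk_iff_isConj.1 ((mk_crep _).trans ?_)
      show ConjClasses.map (E ((r : G))⁻¹).toMonoidHom C = _
      conv_lhs => rw [← mk_crep C]
      rfl
    simp only [hf]
    have e1 : blockCoeff c (E ((r : G))⁻¹ (crep C)) = blockCoeff c (crep C) := by
      have := blockCoeff_image (E ((r : G))⁻¹) c (crep C)
      rw [hEimg _ (R.inv_mem r.2)] at this
      exact this.symm
    have e2 : res hM (clv (E ((r : G))⁻¹ (crep C)) θ₀) = res hM (clv (crep C) θ₀) := by
      rw [show clv (E ((r : G))⁻¹ (crep C)) θ₀ = clv (crep C) (irrPull (E ((r : G))⁻¹) θ₀) from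
        (centralChar_comp (E ((r : G))⁻¹) _ _).symm]
      refine (sameBlock_iff_res hM _ _).1 (sameBlock_of_mem hM hc ?_ hθ₀) _
      rw [← hEimg _ (R.inv_mem r.2)]
      exact Set.mem_image_of_mem _ hθ₀
    rw [classFun_eq_of_isConj (blockCoeff_isClassFunction c) hconj, e1,
      show clv (crep (r • C)) θ₀ = clv (E ((r : G))⁻¹ (crep C)) θ₀ from
        BlockBasics.centralChar_congr θ₀ hconj, e2]
  obtain ⟨C, hC, hCf⟩ : ∃ C ∈ MulAction.fixedPoints R (ConjClasses N), f C ≠ 0 := by
    have h1 : ∑ C, f C = 1 := by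
      have : omega (θ₀ : N → ℂ) (blockCoeff c) = 1 := by
        rw [← cf_ind, omega_cf, ind_of_mem hθ₀]
      rw [omega_eq_sum_classes (blockCoeff_isClassFunction c)] at this
      change ∑ C, blockCoeff c (crep C) * clv (crep C) θ₀ = 1 at this
      rw [← res_one hM, ← this, res_sum hM fun C _ =>
        (loc hM).mul_mem (memRing_blockCoeff hM hc _) (memRing_clv hM (crep C) θ₀)]
      exact Finset.sum_congr rfl fun C _ =>
        (res_mul hM (memRing_blockCoeff hM hc _) (memRing_clv hM (crep C) θ₀)).symm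
    rw [sum_fixedPoints hM hR f hfinv] at h1
    obtain ⟨C, hC, hne⟩ := Finset.exists_ne_zero_of_sum_ne_zero (h1 ▸ (one_ne_zero (α := AlgInt ⧸ M)))
    exact ⟨C, (Finset.mem_filter.1 hC).2, hne⟩
  set g := crep C with hgdef
  have hg : IsDefectClass M c g := by
    refine ⟨memRing_blockCoeff hM hc g, fun h => hCf ?_, fun φ hφ h => hCf ?_⟩
    · simp only [hf]
      rw [(res_eq_zero_iff hM (memRing_blockCoeff hM hc g)).2 h, zero_mul]
    · simp only [hf]
      rw [(sameBlock_iff_res hM θ₀ φ).1 (sameBlock_of_mem hM hc hθ₀ hφ) g,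
        (res_eq_zero_iff hM (memRing_clv hM g φ)).2 h, mul_zero]
  obtain ⟨S⟩ : Nonempty (Sylow p (Subgroup.centralizer ({g} : Set N))) := inferInstance
  obtain ⟨Ψ, hΨc, hΨinv, n, hn0, hnv, u, hum, hu, hsum⟩ := exists_defect_induced hM hc hg S
  -- invariance
  have hΨR : ∀ r ∈ R, ∀ k : N, Ψ (E r k) = Ψ k := by
    intro r hr k
    have h1 := hC ⟨r⁻¹, R.inv_mem hr⟩
    change ConjClasses.map (E ((r⁻¹ : G))⁻¹).toMonoidHom C = C at h1
    rw [inv_inv] at h1
    rw [← mk_crep C, ← hgdef] at h1
    change ConjClasses.mk (E r g) = ConjClasses.mk g at h1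
    obtain ⟨a, ha⟩ := isConj_iff.1 (ConjClasses.mk_eq_mk_iff_isConj.1 h1)
    set α₀ : N ≃* N := (E r).trans (MulAut.conj a) with hα₀
    have hα₀g : α₀ g = g := ha
    set S0 := (S : Subgroup (Subgroup.centralizer ({g} : Set N))).map (Subgroup.centralizer ({g} : Set N)).subtype with hS0
    have hle : S0.map α₀.toMonoidHom ≤ Subgroup.centralizer ({g} : Set N) := by
      rintro _ ⟨d, hd, rfl⟩
      rw [Subgroup.mem_centralizer_singleton_iff]
      obtain ⟨w, -, hw⟩ := hd
      have h2 : Commute (d : N) g := by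
        rw [← hw]; exact Subgroup.mem_centralizer_singleton_iff.1 w.2
      have h3 := h2.map α₀.toMonoidHom
      simp only [MulEquiv.coe_toMonoidHom, hα₀g] at h3
      exact h3.eq
    obtain ⟨m, hm, hm'⟩ := exists_conj_le_sylow _ S ((S.2.map (Subgroup.centralizer ({g} : Set N)).subtype).map α₀.toMonoidHom) hle
    set α : N ≃* N := α₀.trans (MulAut.conj m) with hα
    have h4 := hΨinv α (by
        show m * α₀ g * m⁻¹ = g
        rw [hα₀g, Subgroup.mem_centralizer_singleton_iff.1 hm, mul_inv_cancel_right])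
      (fun d hd => hm' ⟨α₀ d, ⟨d, hd, rfl⟩, rfl⟩) k
    rw [← h4]
    show _ = Ψ (m * (a * E r k * a⁻¹) * m⁻¹)
    rw [isClassFunction_char hΨc _ m, isClassFunction_char hΨc _ a]
  -- counting
  choose a ha using fun φ : IrrCharacter N => classInner_char_nat hΨc (isCharacter_of_irr φ.2)
  have hainv : ∀ r ∈ R, ∀ φ : IrrCharacter N, a (irrPull (E r) φ) = a φ := by
    intro r hr φ
    apply Nat.cast_injective (R := ℂ)
    rw [← ha, ← ha, classInner, classInner]
    congr 1
    refine Fintype.sum_equiv (E r).toEquiv _ _ fun k => ?_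
    simp only [irrPull_apply, MulEquiv.toEquiv_eq_coe, EquivLike.coe_coe, hΨR r hr k]
  letI : MulAction R {φ : IrrCharacter N // φ ∈ c} :=
    { smul := fun r φ => ⟨irrPull (E (r : G)) φ.1, by
        have h := Set.mem_image_of_mem (irrPull (E (r : G))) φ.2
        rwa [hEimg _ r.2] at h⟩
      one_smul := fun φ => Subtype.ext (Subtype.ext (funext fun k => by
        show (φ.1 : N → ℂ) (E ((1 : R) : G) k) = _
        rw [OneMemClass.coe_one, hE1]))
      mul_smul := fun r s φ => Subtype.ext (Subtype.ext (funext fun k => by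
        show (φ.1 : N → ℂ) (E ((r * s : R) : G) k) = (φ.1 : N → ℂ) (E (s : G) (E (r : G) k))
        rw [Subgroup.coe_mul, hEmul])) }
  set v := minDv p c with hv
  set F : {φ : IrrCharacter N // φ ∈ c} → AlgInt ⧸ M := fun φ =>
    ((a φ.1 * (charDegree (φ.1 : N → ℂ) / p ^ v) : ℕ) : AlgInt ⧸ M) with hF
  have hdvd : ∀ φ ∈ c, p ^ v ∣ charDegree ((φ : IrrCharacter N) : N → ℂ) := fun φ hφ =>
    (pow_dvd_pow p (minDv_le hφ)).trans (Nat.ordProj_dvd _ p)
  have hFinv : ∀ (r : R) φ, F (r • φ) = F φ := by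
    intro r φ
    show ((a (irrPull (E (r : G)) φ.1) * (charDegree (irrPull (E (r : G)) φ.1 : N → ℂ) / p ^ v) : ℕ) :
      AlgInt ⧸ M) = _
    rw [hainv _ r.2, charDegree_irrPull]
  have hFsum : ∑ φ, F φ ≠ 0 := by
    simp only [hF]
    rw [← Nat.cast_sum, ← res_natCast hM]
    set s := ∑ φ : {φ : IrrCharacter N // φ ∈ c}, a φ.1 * (charDegree (φ.1 : N → ℂ) / p ^ v) with hs
    have hsv : (p : ℂ) ^ v * (s : ℂ) = (n : ℂ) * u := by
      rw [← hsum, hs, Nat.cast_sum, Finset.mul_sum,
        ← Finset.sum_subtype (bset c) (fun x => mem_bset)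
          (fun φ : IrrCharacter N => (p : ℂ) ^ v *
            ((a φ * (charDegree (φ : N → ℂ) / p ^ v) : ℕ) : ℂ))]
      refine Finset.sum_congr rfl fun φ hφ => ?_
      rw [ha, ← irr_charDegree_cast, ← Nat.cast_pow, ← Nat.cast_mul, ← Nat.cast_mul,
        mul_left_comm, Nat.mul_div_cancel' (hdvd φ (mem_bset.1 hφ))]
    have hpv : (p : ℂ) ^ v ≠ 0 := pow_ne_zero _ (Nat.cast_ne_zero.2 hM.1.ne_zero)
    have hn' : ((n : ℂ) / ((p ^ v : ℕ) : ℂ)) * u = (s : ℂ) := by
      rw [Nat.cast_pow, div_mul_eq_mul_div, ← hsv, mul_div_cancel_left₀ _ hpv]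
    have h1 := natDiv_mem_loc hM (p := p) hn0 (pow_ne_zero v hM.1.ne_zero)
      (by rw [hM.1.factorization_pow, Finsupp.single_eq_same, hnv])
    rw [← hn', res_mul hM h1.1 hum]
    refine mul_ne_zero (fun h => h1.2.2 ?_ ((res_eq_zero_iff hM h1.1).1 h))
      (fun h => hu ((res_eq_zero_iff hM hum).1 h))
    rw [hM.1.factorization_pow, Finsupp.single_eq_same, hnv]
  rw [sum_fixedPoints hM hR F hFinv] at hFsum
  obtain ⟨φ, hφ, hne⟩ := Finset.exists_ne_zero_of_sum_ne_zero hFsum
  refine ⟨φ.1, φ.2, le_antisymm ?_ (minDv_le φ.2), fun r hr => ?_⟩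
  · by_contra hlt
    apply hne
    simp only [hF]
    rw [CharP.cast_eq_zero_iff (AlgInt ⧸ M) p]
    refine Dvd.dvd.mul_left ((Nat.dvd_div_iff_mul_dvd (hdvd _ φ.2)).2 ?_) _
    rw [← pow_succ]
    exact (pow_dvd_pow p (not_le.1 hlt)).trans (Nat.ordProj_dvd _ p)
  · exact congrArg Subtype.val ((Finset.mem_filter.1 hφ).2 ⟨r, hr⟩)

end main

end CfsgLib.Blocks.InvariantHeightZero
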