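import Cfsg.Agent.Lib.Blocks.FongReduction
import Cfsg.Agent.Lib.Fusion.PSolvable
import Cfsg.Agent.Lib.Glauberman.Solvable
import Cfsg.Agent.Lib.CharTheory.More
import Cfsg.Agent.Lib.CharTheory.DegreeComplement
import Cfsg.Agent.Lib.JordanCover
import Cfsg.Agent.S4493

/-!
# Degrees prime to `p` in `p`-solvable groups
-/

namespace CfsgLib.Blocks

open Cfsg CfsgLib CfsgLib.CharTheory

set_option linter.unusedVariables false
set_option linter.style.haveILetI false
set_option linter.unusedSectionVars false

universe u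

variable {p : ℕ}

/-- A normal abelian Sylow `p`-subgroup of a normal subgroup of index prime to `p` is one of the
whole group. -/
theorem normal_abelian_sylow_up {G : Type u} [Group G] [Finite G] (hp : p.Prime) (K : Subgroup G)
    [K.Normal] (hKi : ¬ p ∣ K.index)
    (h : ∃ P : Subgroup K, P.Normal ∧ (∀ x ∈ P, ∀ y ∈ P, x * y = y * x) ∧ IsPGroup p P ∧
      ¬ p ∣ P.index) :
    ∃ P : Subgroup G, P.Normal ∧ (∀ x ∈ P, ∀ y ∈ P, x * y = y * x) ∧ IsPGroup p P ∧
      ¬ p ∣ P.index := by
  haveI := Fact.mk hp
  obtain ⟨P, hPn, hPab, hPp, hPi⟩ := h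
  refine ⟨P.map K.subtype, ⟨?_⟩, ?_, hPp.map _, ?_⟩
  · rintro _ ⟨x, hx, rfl⟩ g
    let y : K := ⟨g * x * g⁻¹, Subgroup.Normal.conj_mem inferInstance _ x.2 g⟩
    refine ⟨y, ?_, rfl⟩
    obtain ⟨k, hk⟩ := IsPGroup.iff_orderOf.mp hPp ⟨x, hx⟩
    rw [← Subgroup.orderOf_coe, Subgroup.coe_mk] at hk
    have hyk : y ^ p ^ k = 1 := by
      refine Subtype.ext ?_
      show (g * (x : G) * g⁻¹) ^ p ^ k = 1
      rw [conj_pow, ← hk, show (x : G) ^ orderOf x = 1 by
        rw [← Subgroup.orderOf_coe]; exact pow_orderOf_eq_one _]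
      group
    haveI := hPn
    rw [SetLike.mem_coe, ← QuotientGroup.eq_one_iff, ← orderOf_eq_one_iff]
    refine Nat.eq_one_of_dvd_coprimes ((hp.coprime_iff_not_dvd.mpr hPi).pow_left k)
      ((orderOf_map_dvd (QuotientGroup.mk' P) y).trans (orderOf_dvd_of_pow_eq_one hyk)) ?_
    exact orderOf_dvd_natCard _
  · rintro _ ⟨x, hx, rfl⟩ _ ⟨y, hy, rfl⟩
    exact congrArg Subtype.val (hPab x hx y hy)
  · rw [Subgroup.index_map_subtype]
    exact hp.not_dvd_mul hPi hKi

/-- Automorphisms of `p`-power order of a `p'`-group fixing all characters are trivial. -/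
theorem fixed_of_fixed_chars {K : Type u} [Group K] [Finite K] [Fact p.Prime] (hK : ¬ p ∣ Nat.card K)
    {P : Type u} [Group P] [Finite P] (hP : IsPGroup p P) (φ : P →* MulAut K)
    (hfix : ∀ (θ : IrrCharacter K) (s : P) (k : K), (θ : K → ℂ) (φ s k) = (θ : K → ℂ) k) :
    ∀ (s : P) (k : K), φ s k = k := by
  classical
  haveI := Fintype.ofFinite K
  set A := φ.range
  have hAp : IsPGroup p A :=
    hP.of_surjective φ.rangeRestrict φ.rangeRestrict_surjective
  letI := CfsgLib.Glauberman.grpAction φ
  let C : Subgroup K :=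
    { carrier := {k | ∀ s, φ s k = k}
      one_mem' := fun s => map_one _
      mul_mem' := fun {a b} ha hb s => by rw [map_mul, ha s, hb s]
      inv_mem' := fun {a} ha s => by rw [map_inv, ha s] }
  have hcover : ∀ k : K, ∃ x : K, x * k * x⁻¹ ∈ C := by
    intro k
    have hclass : ∀ s : P, IsConj k (φ s k) := by
      intro s
      let f : K → ℂ := fun y => if IsConj k y then 1 else 0
      have hf : IsClassFunction K f := fun y z => by
        have hy : IsConj y (z * y * z⁻¹) := isConj_iff.mpr ⟨z, rfl⟩
        simp only [f]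
        by_cases h : IsConj k y
        · rw [if_pos h, if_pos (h.trans hy)]
        · rw [if_neg h, if_neg fun h' => h (h'.trans hy.symm)]
      have e : f (φ s k) = f k := by
        rw [eq_sum_irr hf]
        simp only [Finset.sum_apply, Pi.smul_apply, hfix]
      by_contra hne
      simp only [f, if_neg hne, if_pos (IsConj.refl k)] at e
      exact zero_ne_one e
    let T : SubMulAction P K :=
      { carrier := {x | IsConj k x}
        smul_mem' := fun s x hx => by
          show IsConj k (φ s x)
          exact (hclass s).trans ((φ s).toMonoidHom.map_isConj hx) }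
    have hT : ¬ p ∣ Nat.card T := fun hd => hK (hd.trans ⟨_, (card_isConj_mul_card_centralizer k).symm⟩)
    obtain ⟨x, hx⟩ := hP.nonempty_fixed_point_of_prime_not_dvd_card T hT
    obtain ⟨c, hc⟩ := isConj_iff.1 x.2
    exact ⟨c, fun s => by rw [hc]; exact congrArg Subtype.val (hx s)⟩
  have hC := CfsgLib.eq_top_of_conj_cover C hcover
  intro s k
  exact (show k ∈ C by rw [hC]; trivial) s

/-- A `p`-solvable group all whose degrees are prime to `p`. -/
theorem ito_pSolvable (hp : p.Prime) : ∀ (n : ℕ) {G : Type u} [Group G] [Finite G],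
    Nat.card G ≤ n → IsPSolvable p G →
    (∀ χ : IrrCharacter G, ¬ p ∣ charDegree (χ : G → ℂ)) →
    ∃ P : Subgroup G, P.Normal ∧ (∀ x ∈ P, ∀ y ∈ P, x * y = y * x) ∧ IsPGroup p P ∧
      ¬ p ∣ P.index := by
  intro n
  induction n with
  | zero => intro G _ _ h; exact absurd h (by have := Nat.card_pos (α := G); omega)
  | succ n ih =>
    intro G _ _ hle hsolv hdeg
    classical
    haveI := Fact.mk hp
    haveI := Fintype.ofFinite G
    by_cases hpG : ¬ p ∣ Nat.card G
    · exact ⟨⊥, inferInstance,
        fun x hx y hy => by simp [Subgroup.mem_bot.mp hx, Subgroup.mem_bot.mp hy],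
        IsPGroup.of_bot, by rwa [Subgroup.index_bot]⟩
    rw [not_not] at hpG
    -- descending to a normal subgroup of index prime to `p`
    have hdown : ∀ K : Subgroup G, K.Normal → ¬ p ∣ K.index → K ≠ ⊤ →
        ∃ P : Subgroup G, P.Normal ∧ (∀ x ∈ P, ∀ y ∈ P, x * y = y * x) ∧ IsPGroup p P ∧
          ¬ p ∣ P.index := by
      intro K hKn hKi hKtop
      haveI := hKn
      haveI := Fintype.ofFinite K
      have hKlt : Nat.card K < Nat.card G :=
        lt_of_le_of_ne (Subgroup.card_le_card_group K) fun he => hKtop (Subgroup.eq_top_of_card_eq K he)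
      refine normal_abelian_sylow_up hp K hKi (ih (G := K) (by omega) (isPSolvable_subgroup hp hsolv K)
        fun θ hθ => ?_)
      obtain ⟨χ, hχ, hne⟩ := exists_irr_above θ.2
      obtain ⟨e, he, -⟩ := degree_ratio_dvd hχ θ.2 hne
      rw [(charDegree_spec' hχ).1, (charDegree_spec' θ.2).1] at he
      have he' : charDegree χ = e * charDegree θ.1 := by exact_mod_cast he
      exact hdeg ⟨χ, hχ⟩ (he' ▸ hθ.mul_left e)
    by_cases hO : pCore p G = ⊥
    · -- the case `O_p(G) = 1`
      have hK : pPrimeCore p G ≠ ⊥ := fun h => by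
        have h1 := hall_higman hsolv h
        rw [hO] at h1
        have h2 : (⊤ : Subgroup G) ≤ ⊥ := fun x _ => h1
          (Subgroup.mem_centralizer_iff.2 fun y hy => by
            rw [Subgroup.mem_bot.1 hy, one_mul, mul_one])
        have h3 : Nat.card G = 1 := by
          rw [← Subgroup.card_top, le_bot_iff.1 h2, Subgroup.card_bot]
        exact hp.not_dvd_one (h3 ▸ hpG)
      set K := pPrimeCore p G with hKdef
      haveI := Fintype.ofFinite K
      have hlt : Nat.card (G ⧸ K) < Nat.card G := by
        have h1 : 1 < Nat.card K := (Subgroup.one_lt_card_iff_ne_bot K).mpr hK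
        have h2 := K.card_eq_card_quotient_mul_card_subgroup
        have h3 : 0 < Nat.card (G ⧸ K) := Nat.card_pos
        nlinarith
      obtain ⟨P', hP'n, hP'ab, hP'p, hP'i⟩ := ih (G := G ⧸ K) (by omega)
        (PSolvableClosure.of_surjective _ (QuotientGroup.mk'_surjective K) hsolv)
        (Cfsg.Agent.S4493.degree_dvd_of_pullback (QuotientGroup.mk' K) (QuotientGroup.mk'_surjective K) hdeg)
      set L := P'.comap (QuotientGroup.mk' K) with hL
      haveI : L.Normal := hP'n.comap _
      have hLi : ¬ p ∣ L.index := by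
        rwa [hL, Subgroup.index_comap_of_surjective _ (QuotientGroup.mk'_surjective K)]
      by_cases hLtop : L = ⊤
      swap
      · exact hdown L inferInstance hLi hLtop
      have hPtop : P' = ⊤ := by
        rw [← Subgroup.map_comap_eq_self_of_surjective (QuotientGroup.mk'_surjective K) P', ← hL,
          hLtop, Subgroup.map_top_of_surjective _ (QuotientGroup.mk'_surjective K)]
      obtain ⟨a, ha⟩ := IsPGroup.iff_card.mp hP'p
      rw [hPtop, Subgroup.card_top] at ha
      have hKp : ¬ p ∣ Nat.card K := not_dvd_card_pPrimeCore'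
      -- every character of `K` is invariant
      have hinv : ∀ (θ : IrrCharacter K) (g : G), conjNormFun K g (θ : K → ℂ) = (θ : K → ℂ) := by
        intro θ g
        obtain ⟨χ, hχ, hne⟩ := exists_irr_above θ.2
        have hd := clifford_degree K hχ θ.2 hne
        obtain ⟨m, hm⟩ := classInner_char_nat (isCharacter_restrict (isCharacter_of_irr hχ) K)
          (isCharacter_of_irr θ.2)
        rw [hm, (charDegree_spec' hχ).1, (charDegree_spec' θ.2).1] at hd
        have hd' : charDegree χ = m * (inertia K (θ : K → ℂ)).index * charDegree θ.1 := by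
          exact_mod_cast hd
        have hdvd : (inertia K (θ : K → ℂ)).index ∣ p ^ a := by
          rw [← ha]
          exact Subgroup.index_dvd_of_le (le_inertia K (isClassFunction_irr θ.2))
        obtain ⟨j, -, hj⟩ := (Nat.dvd_prime_pow hp).1 hdvd
        rcases j with _ | j
        · rw [pow_zero, Subgroup.index_eq_one] at hj
          exact (mem_inertia K).1 (show g ∈ inertia K (θ : K → ℂ) by rw [hj]; trivial)
        · refine absurd ?_ (hdeg ⟨χ, hχ⟩)
          rw [show charDegree ((⟨χ, hχ⟩ : IrrCharacter G) : G → ℂ) = charDegree χ from rfl, hd', hj]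
          exact ((dvd_pow_self p (Nat.succ_ne_zero j)).mul_left m).mul_right _
      let S : Sylow p G := default
      let φ : (S : Subgroup G) →* MulAut K :=
        (MulAut.conjNormal : G →* MulAut K).comp (S : Subgroup G).subtype
      have hfix := fixed_of_fixed_chars hKp S.isPGroup' φ fun θ s k => by
        refine Eq.trans (congrArg _ (Subtype.ext ?_)) (congrFun (hinv θ (s : G)) k)
        exact MulAut.conjNormal_apply _ _
      have hcomm : ∀ k ∈ K, ∀ s ∈ (S : Subgroup G), s * k = k * s := fun k hk s hs =>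
        mul_inv_eq_iff_eq_mul.1 (congrArg Subtype.val (hfix ⟨s, hs⟩ ⟨k, hk⟩))
      have hsup : (⊤ : Subgroup G) ≤ K ⊔ (S : Subgroup G) := by
        refine fun x _ => ?_
        have h1 : (K ⊔ (S : Subgroup G)).index ∣ p ^ a := by
          rw [← ha]; exact Subgroup.index_dvd_of_le le_sup_left
        have h2 : (K ⊔ (S : Subgroup G)).index ∣ (S : Subgroup G).index :=
          Subgroup.index_dvd_of_le le_sup_right
        have h3 := Subgroup.index_eq_one.1 (Nat.eq_one_of_dvd_coprimes
          ((hp.coprime_iff_not_dvd.mpr S.not_dvd_index).pow_left a) h1 h2)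
        rw [h3]; trivial
      haveI hSn : (S : Subgroup G).Normal := by
        rw [← Subgroup.normalizer_eq_top_iff, eq_top_iff]
        refine hsup.trans (sup_le (fun k hk => ?_) Subgroup.le_normalizer)
        refine Subgroup.mem_normalizer_iff.2 fun s => ⟨fun hs => ?_, fun hs => ?_⟩
        · rw [← hcomm k hk s hs, mul_inv_cancel_right]; exact hs
        · have := hcomm k hk _ hs
          rw [show k * s * k⁻¹ * k = k * s by group] at this
          have e : k * s * k⁻¹ = s := mul_left_cancel (a := k) this.symm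
          rwa [e] at hs
      refine ⟨S, hSn, fun x hx y hy => ?_, S.isPGroup', S.not_dvd_index⟩
      have h1 : x⁻¹ * y⁻¹ * x * y ∈ K := by
        rw [← QuotientGroup.eq_one_iff]
        have h2 := hP'ab (x : G ⧸ K) (by rw [hPtop]; trivial) (y : G ⧸ K) (by rw [hPtop]; trivial)
        simp only [QuotientGroup.mk_mul, QuotientGroup.mk_inv]
        rw [mul_assoc, h2]
        group
      have h3 : x⁻¹ * y⁻¹ * x * y = 1 := by
        have h4 : x⁻¹ * y⁻¹ * x * y ∈ (S : Subgroup G) :=
          mul_mem (mul_mem (mul_mem (inv_mem hx) (inv_mem hy)) hx) hy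
        have h5 := Subgroup.disjoint_of_coprime_natCard (H := K) (K := (S : Subgroup G)) (by
          rw [S.card_eq_multiplicity]
          exact ((hp.coprime_iff_not_dvd.mpr hKp).pow_left _).symm)
        exact Subgroup.disjoint_def.1 h5 h1 h4
      calc x * y = y * x * (x⁻¹ * y⁻¹ * x * y) := by group
        _ = y * x := by rw [h3, mul_one]
    -- a normal abelian `p`-subgroup
    haveI := pCore_normal' (G := G) (p := p)
    obtain ⟨N, hNn, hNne, hNab⟩ : ∃ N : Subgroup G, N.Normal ∧ N ≠ ⊥ ∧
        ∀ x ∈ N, ∀ y ∈ N, x * y = y * x := by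
      haveI : Nontrivial (pCore p G) := (Subgroup.nontrivial_iff_ne_bot _).mpr hO
      haveI := (isPGroup_pCore (G := G) p).center_nontrivial
      refine ⟨(Subgroup.center (pCore p G)).map (pCore p G).subtype, inferInstance, ?_, ?_⟩
      · rw [Ne, Subgroup.map_eq_bot_iff_of_injective _ (pCore p G).subtype_injective]
        exact (Subgroup.nontrivial_iff_ne_bot _).1 inferInstance
      · rintro _ ⟨x, hx, rfl⟩ _ ⟨y, hy, rfl⟩
        exact congrArg Subtype.val ((Subgroup.mem_center_iff.1 hx y).symm)
    have hlt : Nat.card (G ⧸ N) < Nat.card G := by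
      have h1 : 1 < Nat.card N := (Subgroup.one_lt_card_iff_ne_bot N).mpr hNne
      have h2 := N.card_eq_card_quotient_mul_card_subgroup
      have h3 : 0 < Nat.card (G ⧸ N) := Nat.card_pos
      nlinarith
    obtain ⟨P', hP'n, -, hP'p, hP'i⟩ := ih (G := G ⧸ N) (by omega)
      (PSolvableClosure.of_surjective _ (QuotientGroup.mk'_surjective N) hsolv)
      (Cfsg.Agent.S4493.degree_dvd_of_pullback (QuotientGroup.mk' N) (QuotientGroup.mk'_surjective N) hdeg)
    set K := P'.comap (QuotientGroup.mk' N) with hK
    haveI : K.Normal := hP'n.comap _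
    have hKi : ¬ p ∣ K.index := by
      rwa [hK, Subgroup.index_comap_of_surjective _ (QuotientGroup.mk'_surjective N)]
    by_cases hKtop : K = ⊤
    swap
    · exact hdown K inferInstance hKi hKtop
    have hPtop : P' = ⊤ := by
      rw [← Subgroup.map_comap_eq_self_of_surjective (QuotientGroup.mk'_surjective N) P', ← hK, hKtop,
        Subgroup.map_top_of_surjective _ (QuotientGroup.mk'_surjective N)]
    obtain ⟨a, ha⟩ := IsPGroup.iff_card.mp hP'p
    rw [hPtop, Subgroup.card_top] at ha
    have hab : ∀ x y : G, x * y = y * x := by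
      refine commutative_iff_degree_one.mpr fun χ => ?_
      obtain ⟨m, ρ, hρ, hρc⟩ := χ.2
      have hd := degree_dvd_index_of_abelian_normal ρ N hNab
      rw [show N.index = p ^ a from ha, show Module.finrank ℂ (Fin m → ℂ) = charDegree (χ : G → ℂ) by
        rw [charDegree, ← hρc, ρ.char_one]; simp] at hd
      obtain ⟨j, -, hj⟩ := (Nat.dvd_prime_pow hp).mp hd
      rcases j with _ | j
      · rw [(charDegree_spec' χ.2).1, hj, pow_zero, Nat.cast_one]
      · exact absurd (hj ▸ dvd_pow_self p (Nat.succ_ne_zero j)) (hdeg χ)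
    let P : Sylow p G := default
    refine ⟨P, ⟨fun x hx g => ?_⟩, fun x _ y _ => hab x y, P.isPGroup', P.not_dvd_index⟩
    rw [hab g x, mul_inv_cancel_right]
    exact hx

end CfsgLib.Blocks
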