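import Cfsg.Agent.Lib.Blocks.SmallNilpotent
import Cfsg.Agent.Lib.Blocks.BlockSat
import Cfsg.Agent.Lib.Blocks.SectionBound

/-!
# Blocks with a Klein four defect group
-/

namespace CfsgLib.Blocks

open Cfsg CfsgLib.CharTheory

set_option linter.unusedVariables false
set_option linter.unusedSimpArgs false
set_option linter.style.haveILetI false
set_option linter.unusedSectionVars false

universe u

variable {M : Ideal AlgInt} {G : Type u} [Group G] [Fintype G]

theorem idx_eq_of_heq {z z' : G} (h : z = z')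
    {b : Set (IrrCharacter (Subgroup.centralizer ((Subgroup.zpowers z : Subgroup G) : Set G)))}
    {b' : Set (IrrCharacter (Subgroup.centralizer ((Subgroup.zpowers z' : Subgroup G) : Set G)))}
    (hb : HEq b b') :
    (⟨Subgroup.zpowers z, b⟩ : BrauerPairIdx G) = ⟨Subgroup.zpowers z', b'⟩ := by
  subst h
  rw [eq_of_heq hb]

theorem height_zero_of_defect_two {p : ℕ} (hM : IsPModular p M) {B : Set (IrrCharacter G)}
    (hB : IsPBlock M B) (hd : blockDefect p B = 2) {χ : IrrCharacter G} (hχ : χ ∈ B) :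
    dv p (χ : G → ℂ) = minDv p B := by
  have h1 : minDv p B ≤ dv p (χ : G → ℂ) := minDv_le hχ
  by_contra hne
  have := height_add_two_le hM hB hχ (by omega)
  omega

/-- A `2`-block of defect two with a central involution has one Brauer character. -/
theorem blockRank_klein_center (hM : IsPModular 2 M) {H : Subgroup G} [Fintype H] {z : H}
    (hz : z ∈ Subgroup.center H) (hord : orderOf z = 2) {b : Set (IrrCharacter H)}
    (hb : IsPBlock M b) (hd : blockDefect 2 b = 2) : blockRank 2 b = 1 := by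
  classical
  set K := kerSet z b with hK
  have hKb : ∀ φ ∈ K, φ ∈ b := fun φ hφ => mem_bset.1 (Finset.mem_filter.1 hφ).1
  have hodd : ∀ φ ∈ K, ∀ ψ ∈ K, Odd (secQ 2 b φ ψ) := fun φ hφ ψ hψ => by
    have h := secQ_not_dvd hM hb (hKb φ hφ) (hKb ψ hψ) (height_zero_of_defect_two hM hb hd (hKb φ hφ))
      (height_zero_of_defect_two hM hb hd (hKb ψ hψ))
    exact Int.not_even_iff_odd.1 (fun he => h he.two_dvd)
  have hrow : ∀ φ ∈ K, (K.card : ℤ) ≤ 2 * secQ 2 b φ φ ∧
      secQ 2 b φ φ = 1 := by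
    intro φ hφ
    have h := secQ_proj hM hz hord hb φ φ
    rw [hd] at h
    push_cast at h
    have h2 : ∑ ψ ∈ K, secQ 2 b φ ψ ^ 2 = 2 * secQ 2 b φ φ := by
      have e : ∑ ψ ∈ K, secQ 2 b φ ψ * secQ 2 b ψ φ = ∑ ψ ∈ K, secQ 2 b φ ψ ^ 2 :=
        Finset.sum_congr rfl fun ψ _ => by rw [secQ_symm hM hb ψ φ, sq]
      rw [← e]
      linarith
    have hle : secQ 2 b φ φ ^ 2 ≤ 2 * secQ 2 b φ φ := by
      rw [← h2]
      exact Finset.single_le_sum (f := fun ψ => secQ 2 b φ ψ ^ 2) (fun ψ _ => sq_nonneg _) hφ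
    obtain ⟨j, hj⟩ := hodd φ hφ φ hφ
    have hq0 : 0 ≤ secQ 2 b φ φ := by nlinarith [sq_nonneg (secQ 2 b φ φ)]
    have hq2 : secQ 2 b φ φ ≤ 2 := by
      by_contra hc
      nlinarith
    refine ⟨?_, by omega⟩
    rw [← h2]
    refine le_trans (by simp) (Finset.sum_le_sum (f := fun _ => (1 : ℤ)) fun ψ hψ => ?_)
    obtain ⟨i, hi⟩ := hodd φ hφ ψ hψ
    rw [hi]
    rcases le_or_gt 0 i with hi0 | hi0 <;> nlinarith
  have htr := secQ_trace_ker hM hz hord hb
  rw [hd] at htr
  rw [← hK, Finset.sum_congr rfl fun φ hφ => (hrow φ hφ).2, Finset.sum_const, nsmul_eq_mul,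
    mul_one] at htr
  push_cast at htr
  have hl := blockRank_pos hM hb
  obtain ⟨φ, hφ⟩ : K.Nonempty := Finset.card_pos.1 (by omega)
  have := (hrow φ hφ).1
  rw [(hrow φ hφ).2] at this
  omega

/-- The odd subgroups of the automorphisms of a Klein four group. -/
theorem klein_aut {P : Subgroup G} (hV : IsKleinFour P) (A : Subgroup (MulAut P))
    (hodd : ¬ 2 ∣ Nat.card A) :
    A = ⊥ ∨ (Nat.card A = 3 ∧ ∀ u : P, u ≠ 1 → ∀ v : P, v ≠ 1 → ∃ α ∈ A, α u = v) := by
  classical
  by_cases hA : A = ⊥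
  · exact Or.inl hA
  right
  haveI : Finite (MulAut P) := Finite.of_injective (fun α : MulAut P => (α : P → P))
    fun α β h => MulEquiv.ext (congrFun h)
  haveI := Fintype.ofFinite P
  set S : Finset P := Finset.univ.filter (fun u => u ≠ 1)
  have hS : S.card = 3 := by
    rw [show S = Finset.univ.erase 1 from Finset.filter_ne' _ _, Finset.card_erase_of_mem (Finset.mem_univ _), Finset.card_univ,
      ← Nat.card_eq_fintype_card, hV.card_four]
  -- the action on the three involutions
  let ρ : A →* Equiv.Perm {u : P // u ≠ 1} :=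
    { toFun := fun α => (α.1.toEquiv).subtypeEquiv fun u => by
        simp
      map_one' := by ext u; rfl
      map_mul' := fun α β => by ext u; rfl }
  have hρ : Function.Injective ρ := by
    intro α β h
    apply Subtype.ext
    ext u
    by_cases hu : u = 1
    · subst hu; simp
    · exact congrArg (fun x : {u : P // u ≠ 1} => ((x : P) : G)) (Equiv.congr_fun h ⟨u, hu⟩)
  have hc3 : Nat.card {u : P // u ≠ 1} = 3 := by
    rw [Nat.card_eq_fintype_card, Fintype.card_subtype]; exact hS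
  have hdvd : Nat.card A ∣ 6 := by
    have h := Subgroup.card_dvd_of_injective ρ hρ
    rw [Nat.card_perm, hc3] at h
    exact h
  have hne1 : Nat.card A ≠ 1 := fun h => hA (Subgroup.eq_bot_of_card_eq A h)
  have hA3 : Nat.card A = 3 := by
    have := Nat.le_of_dvd (by norm_num) hdvd
    interval_cases Nat.card A <;> omega
  refine ⟨hA3, fun u hu v hv => ?_⟩
  haveI : Fintype A := Fintype.ofFinite A
  -- the orbit map is injective, as an automorphism fixing an involution has order at most two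
  have hinj : Function.Injective fun α : A => (α : MulAut P) u := by
    intro α β h
    set γ := β⁻¹ * α with hγ
    have hfix : (γ : MulAut P) u = u := by
      show (β : MulAut P)⁻¹ ((α : MulAut P) u) = u
      rw [show (α : MulAut P) u = (β : MulAut P) u from h]
      exact (β : MulAut P).symm_apply_apply u
    have h3 : γ ^ 3 = 1 := by rw [← hA3]; exact pow_card_eq_one'
    suffices hγ1 : γ = 1 by
      exact (inv_mul_eq_one.1 hγ1).symm
    have hfix' : (ρ γ) ⟨u, hu⟩ = ⟨u, hu⟩ := Subtype.ext hfix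
    have hsupp : (ρ γ).support.card ≤ 2 := by
      have hsub : (ρ γ).support ⊆ Finset.univ.erase ⟨u, hu⟩ := fun x hx =>
        Finset.mem_erase.2 ⟨fun e => Equiv.Perm.mem_support.1 hx (e ▸ hfix'), Finset.mem_univ _⟩
      refine (Finset.card_le_card hsub).trans ?_
      rw [Finset.card_erase_of_mem (Finset.mem_univ _), Finset.card_univ, ← Nat.card_eq_fintype_card,
        hc3]
    have hsq : ρ γ * ρ γ = 1 := by
      interval_cases hcs : (ρ γ).support.card
      · simp [Equiv.Perm.card_support_eq_zero.1 hcs]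
      · exact absurd hcs (Equiv.Perm.card_support_ne_one _)
      · obtain ⟨x, y, hxy, he⟩ := Equiv.Perm.card_support_eq_two.1 hcs
        rw [he, Equiv.swap_mul_self]
    apply hρ
    have h3' : ρ γ * ρ γ * ρ γ = 1 := by rw [← map_mul, ← map_mul, ← pow_three', h3, map_one]
    rw [hsq, one_mul] at h3'
    rw [h3', map_one]
  have him : Finset.univ.image (fun α : A => (α : MulAut P) u) = S := by
    refine Finset.eq_of_subset_of_card_le (fun x hx => ?_) ?_
    · obtain ⟨α, -, rfl⟩ := Finset.mem_image.1 hx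
      exact Finset.mem_filter.2 ⟨Finset.mem_univ _, fun h => hu ((α : MulAut P).injective
        (h.trans (map_one _).symm))⟩
    · rw [Finset.card_image_of_injective _ hinj, hS, Finset.card_univ, ← Nat.card_eq_fintype_card,
        hA3]
  have hv' : v ∈ Finset.univ.image (fun α : A => (α : MulAut P) u) := by
    rw [him]; exact Finset.mem_filter.2 ⟨Finset.mem_univ _, hv⟩
  obtain ⟨α, -, hα⟩ := Finset.mem_image.1 hv'
  exact ⟨α, α.2, hα⟩

/-- With trivial inertial index and abelian defect group every element of the defect group gives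
its own subsection. -/
theorem card_le_sum_rankSum (hM : IsPModular 2 M) {B : Set (IrrCharacter G)} {P : Subgroup G}
    {e : Set (IrrCharacter (Subgroup.centralizer (P : Set G)))}
    (hmax : IsMaximalBrauerPair 2 M B P e) (hab : ∀ x ∈ P, ∀ y ∈ P, x * y = y * x)
    (htriv : pairStab P e ≤ Subgroup.centralizer (P : Set G)) :
    blockRank 2 B + (Nat.card P - 1) ≤ Nat.card B := by
  classical
  haveI := Fintype.ofFinite P
  have hB := hmax.1.2.1
  have hPp : IsPGroup 2 P := hmax.1.1.1
  set F := blockFusion hM hmax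
  have hF := blockFusion_isBlockFusion hM hmax
  set X : Finset G := (Finset.univ.filter fun C : ConjClasses G =>
    ∃ k : ℕ, orderOf (crep C) = 2 ^ k).image crep with hX
  have hXrep : ∀ g : G, (∃ k : ℕ, orderOf g = 2 ^ k) → ∃! x, x ∈ X ∧ IsConj g x := by
    intro g hg
    refine ⟨crep (ConjClasses.mk g), ⟨?_, (isConj_crep g).symm⟩, ?_⟩
    · refine Finset.mem_image.2 ⟨_, Finset.mem_filter.2 ⟨Finset.mem_univ _, ?_⟩, rfl⟩
      obtain ⟨c, hc⟩ := isConj_iff.1 (isConj_crep g)
      obtain ⟨k, hk⟩ := hg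
      refine ⟨k, ?_⟩
      have := conj_orderOf c (crep (ConjClasses.mk g))
      rw [hc] at this
      rw [← this, hk]
    · rintro x ⟨hx, hgx⟩
      obtain ⟨C, -, rfl⟩ := Finset.mem_image.1 hx
      rw [ConjClasses.mk_eq_mk_iff_isConj.2 hgx, mk_crep]
  have hXp : ∀ x ∈ X, ∃ k : ℕ, orderOf x = 2 ^ k := fun x hx => by
    obtain ⟨C, hC, rfl⟩ := Finset.mem_image.1 hx
    exact (Finset.mem_filter.1 hC).2
  obtain ⟨x1, ⟨hx1, hc1⟩, -⟩ := hXrep 1 ⟨0, orderOf_one⟩
  obtain rfl : x1 = 1 := isConj_one_right.1 hc1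
  set U : Finset P := Finset.univ.filter (fun u => u ≠ 1) with hU
  have hUcard : U.card = Nat.card P - 1 := by
    rw [hU, Finset.filter_ne', Finset.card_erase_of_mem (Finset.mem_univ _), Finset.card_univ,
      Nat.card_eq_fintype_card]
  have hord : ∀ u : P, ∃ k : ℕ, orderOf (u : G) = 2 ^ k := fun u => by
    obtain ⟨k, hk⟩ := hPp u
    obtain ⟨i, -, hi⟩ := (Nat.dvd_prime_pow Nat.prime_two).1
      (orderOf_dvd_of_pow_eq_one (congrArg Subtype.val hk))
    exact ⟨i, hi⟩
  set rp : P → G := fun u => crep (ConjClasses.mk (u : G)) with hrp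
  have hrpX : ∀ u, rp u ∈ X := fun u => by
    obtain ⟨x, ⟨hx, hux⟩, -⟩ := hXrep _ (hord u)
    obtain ⟨C, -, rfl⟩ := Finset.mem_image.1 hx
    rw [hrp]
    simp only []
    rwa [ConjClasses.mk_eq_mk_iff_isConj.2 hux, mk_crep]
  -- the blocks below the maximal pair, transported to the representatives
  have hex : ∀ u : P, ∃ b : Set (IrrCharacter (Subgroup.centralizer
      ((Subgroup.zpowers (rp u) : Subgroup G) : Set G))),
      IsInducedBlock M _ b B ∧ ∃ y : G, y * rp u * y⁻¹ = u ∧
        Relation.ReflTransGen (NormalSubpairRel 2 M)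
          (conjIdx y ⟨Subgroup.zpowers (rp u), b⟩) ⟨P, e⟩ := by
    intro u
    have hQP : Subgroup.zpowers (u : G) ≤ P := Subgroup.zpowers_le.2 u.2
    obtain ⟨f, ⟨hf, hle⟩, -⟩ := existsUnique_subpair hM hPp hmax.1.1.2 _ hQP
    obtain ⟨c, hc⟩ := isConj_iff.1 (isConj_crep (u : G)).symm
    have hpair : IsBrauerPairOf 2 M B (Subgroup.zpowers (u : G)) f :=
      (pairOf_subpair_iff hM (a := ⟨_, f⟩) (b := ⟨P, e⟩) hle B).2 hmax.1
    have hpc := pairOf_conj hM (a := ⟨_, f⟩) hpair c
    have hback : conjIdx c⁻¹ (conjIdx c (⟨_, f⟩ : BrauerPairIdx G)) = ⟨_, f⟩ := by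
      rw [conjIdx_mul, inv_mul_cancel, conjIdx_one]
    generalize ha : conjIdx c (⟨Subgroup.zpowers (u : G), f⟩ : BrauerPairIdx G) = a at hpc hback
    have ha1 : a.1 = Subgroup.zpowers (rp u) := by
      rw [← ha]
      show (Subgroup.zpowers (u : G)).map _ = _
      rw [zpowers_conj, hc]
    obtain ⟨Q, b⟩ := a
    change Q = _ at ha1
    subst ha1
    haveI := Fintype.ofFinite
      (Subgroup.centralizer ((Subgroup.zpowers (rp u) : Subgroup G) : Set G))
    refine ⟨b, (induced_centralizer_iff hM (isPGroup_zpowers Nat.prime_two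
      (hXp _ (hrpX u)))).2 hpc, c⁻¹, ?_, ?_⟩
    · show c⁻¹ * crep (ConjClasses.mk (u : G)) * c⁻¹⁻¹ = u
      rw [← hc]; group
    · rw [hback]; exact hle
  choose β hβ yy hyy hβle using hex
  -- different elements give different subsections
  have hinj : ∀ u v : P, ∀ (h : rp u = rp v), HEq (β u) (β v) → u = v := by
    intro u v h hb
    have hidx : (⟨Subgroup.zpowers (rp u), β u⟩ : BrauerPairIdx G) =
        ⟨Subgroup.zpowers (rp v), β v⟩ := by
      exact idx_eq_of_heq h hb
    have h1 := hβle u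
    have h2 := hβle v
    rw [← hidx] at h2
    set a : BrauerPairIdx G := ⟨Subgroup.zpowers (rp u), β u⟩
    set g := yy v * (yy u)⁻¹ with hg
    have h2' : Relation.ReflTransGen (NormalSubpairRel 2 M) (conjIdx g (conjIdx (yy u) a)) ⟨P, e⟩ := by
      rw [conjIdx_mul, hg, inv_mul_cancel_right]; exact h2
    generalize hc : conjIdx (yy u) a = c at h1 h2'
    have hcblock : IsPBlock M c.2 := hc ▸ isPBlock_conjBlock (hβ u).1 _
    have hc1 : (u : G) ∈ c.1 := by
      rw [← hc, ← hyy u]
      exact ⟨rp u, Subgroup.mem_zpowers _, rfl⟩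
    obtain ⟨Q, f⟩ := c
    have hmem : conjHom Q g ∈ F.Hom Q := (hF.2 Q _).2 ⟨subpairLE_le h1, g, fun _ => rfl,
      subpairLE_le h2', f, h1, h2'⟩
    obtain ⟨t, ht, hte⟩ := exists_extend_abelian hM hF hab hmem
    have h3 : g * (u : G) * g⁻¹ = t * u * t⁻¹ := hte ⟨u, hc1⟩
    rw [← htriv ht (u : G) u.2, mul_inv_cancel_right, hg, mul_inv_rev, inv_inv] at h3
    apply Subtype.ext
    rw [← h3, ← hyy u, ← hyy v, h]
    group
  have hsum : U.card ≤ ∑ x ∈ X.erase 1,
      rankSum 2 M (Subgroup.centralizer ((Subgroup.zpowers x : Subgroup G) : Set G)) B := by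
    rw [Finset.card_eq_sum_card_fiberwise (f := rp) (t := X.erase 1) fun u hu => Finset.mem_erase.2
      ⟨fun h => (show u ≠ 1 from (Finset.mem_filter.1 hu).2) (Subtype.ext (by
        rw [← hyy u, h]; simp)), hrpX u⟩]
    refine Finset.sum_le_sum fun x hx => ?_
    haveI := Fintype.ofFinite (Subgroup.centralizer ((Subgroup.zpowers x : Subgroup G) : Set G))
    rw [rankSum, finsum_mem_eq_finite_toFinset_sum _ (Set.toFinite _)]
    set Sx := (Set.toFinite {b : Set (IrrCharacter (Subgroup.centralizer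
      ((Subgroup.zpowers x : Subgroup G) : Set G))) | IsInducedBlock M _ b B}).toFinset with hSx
    refine le_trans ?_ (le_trans (le_of_eq (Finset.card_eq_sum_ones _))
      (Finset.sum_le_sum fun b hb => blockRank_pos hM ((Set.Finite.mem_toFinset _).1 hb).1))
    have hmem : ∀ w ∈ U.filter (fun w => rp w = x), rp w = x := fun w hw => (Finset.mem_filter.1 hw).2
    refine Finset.card_le_card_of_injOn
      (fun w => if h : rp w = x then cast (congrArg (fun z : G => Set (IrrCharacter
        (Subgroup.centralizer ((Subgroup.zpowers z : Subgroup G) : Set G)))) h) (β w) else ∅)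
      (fun w hw => ?_) ?_
    · have h := hmem w (Finset.mem_coe.1 hw)
      simp only [dif_pos h, Finset.mem_coe, hSx, Set.Finite.mem_toFinset, Set.mem_setOf_eq]
      subst h
      exact hβ w
    · intro w hw w' hw' he
      have h := hmem w (Finset.mem_coe.1 hw)
      have h' := hmem w' (Finset.mem_coe.1 hw')
      simp only [dif_pos h, dif_pos h'] at he
      exact hinj w w' (h.trans h'.symm)
        ((cast_heq _ _).symm.trans ((heq_of_eq he).trans (cast_heq _ _)))
  haveI := Fintype.ofFinite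
    (Subgroup.centralizer ((Subgroup.zpowers (1 : G) : Subgroup G) : Set G))
  rw [card_eq_sum_rankSum hM hB X hXp hXrep, ← Finset.add_sum_erase _ _ hx1,
    rankSum_central hM (isCentr_zpowers (1 : G)) ⟨0, orderOf_one⟩ (Subgroup.one_mem _) hB, ← hUcard]
  exact Nat.add_le_add_left hsum _

/-- An algebraic integer of `ℚ(-1)` is an integer. -/
theorem exists_int_of_mem_rootField_two {z : ℂ} (hz : z ∈ rootField 2) (hi : IsIntegral ℤ z) :
    ∃ n : ℤ, z = n := by
  have hle : rootField 2 ≤ ⊥ := IntermediateField.adjoin_le_iff.2 (by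
    rintro y rfl
    rw [(isPrimitiveRoot_exp' (n := 2) two_ne_zero).eq_neg_one_of_two_right]
    exact neg_mem (one_mem _))
  obtain ⟨q, rfl⟩ := IntermediateField.mem_bot.1 (hle hz)
  rw [eq_ratCast] at hi ⊢
  obtain ⟨n, rfl⟩ := exists_int_of_isIntegral_ratCast hi
  exact ⟨n, by push_cast; rfl⟩

/-- A block of defect two with a major involution subsection of rank one has four characters. -/
theorem card_eq_four_of_major {x : G} {H : Subgroup G} [Fintype H]
    {b : Set (IrrCharacter H)} {B : Set (IrrCharacter G)} (hM : IsPModular 2 M) (hH : IsCentr x H)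
    (hx : orderOf x = 2) (hind : IsInducedBlock M H b B) (hd : blockDefect 2 B = 2)
    (hdb : blockDefect 2 b = 2) (hl : blockRank 2 b = 1) : Nat.card B = 4 := by
  classical
  haveI := res_charP hM
  have hB := hind.2.1
  have hk : orderOf x = 2 ^ 1 := by rw [hx, pow_one]
  have hx' : ∃ k : ℕ, orderOf x = 2 ^ k := ⟨1, hk⟩
  have key : ∀ χ ψ : IrrCharacter G, χ ∈ B → ψ ∈ B →
      ∃ n : ℤ, secPair 2 x b (χ : G → ℂ) (ψ : G → ℂ) = n ∧ Odd n := by
    intro χ ψ hχ hψ
    obtain ⟨hroot, hint⟩ := secPair_props hM hH hk hind.1 χ ψ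
    rw [pow_one] at hroot
    obtain ⟨n, hn⟩ := exists_int_of_mem_rootField_two hroot hint
    refine ⟨n, hn, Int.not_even_iff_odd.1 fun ⟨j, hj⟩ => ?_⟩
    have h := (secPair_res_ne hM hH hx' hind hχ hψ (height_zero_of_defect_two hM hB hd hχ)
      (height_zero_of_defect_two hM hB hd hψ)).2
    rw [hn, res_intCast' hM] at h
    exact h ((CharP.intCast_eq_zero_iff (AlgInt ⧸ M) 2 n).2 ⟨j, by omega⟩)
  choose! n hn hodd using key
  have hrow : ∀ χ ∈ bset B, ∑ ψ ∈ bset B, n χ ψ ^ 2 = 4 * n χ χ := by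
    intro χ hχ
    have h := sum_secPair_row hM hH hx' hind χ
    rw [hdb, hn χ χ (mem_bset.1 hχ) (mem_bset.1 hχ), Finset.sum_congr rfl fun ψ hψ => by
      rw [hn χ ψ (mem_bset.1 hχ) (mem_bset.1 hψ), map_intCast, ← sq]] at h
    exact_mod_cast (show ((∑ ψ ∈ bset B, n χ ψ ^ 2 : ℤ) : ℂ) = ((4 * n χ χ : ℤ) : ℂ) by
      push_cast; rw [h]; norm_num)
  have hdiag : ∀ χ ∈ bset B, 1 ≤ n χ χ := by
    intro χ hχ
    have hle : n χ χ ^ 2 ≤ 4 * n χ χ := (hrow χ hχ) ▸
      Finset.single_le_sum (f := fun ψ => n χ ψ ^ 2) (fun ψ _ => sq_nonneg _) hχ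
    have h0 : 0 ≤ n χ χ := by nlinarith [sq_nonneg (n χ χ)]
    obtain ⟨j, hj⟩ := hodd χ χ (mem_bset.1 hχ) (mem_bset.1 hχ)
    omega
  have htot : ∑ χ ∈ bset B, n χ χ = 4 := by
    have h := sum_secPair_diag hM hH hx' hind
    rw [hdb, hl, Finset.sum_congr rfl fun χ hχ =>
      hn χ χ (mem_bset.1 hχ) (mem_bset.1 hχ)] at h
    exact_mod_cast (show ((∑ χ ∈ bset B, n χ χ : ℤ) : ℂ) = ((4 : ℤ) : ℂ) by
      push_cast; rw [h]; norm_num)
  have hle : ((bset B).card : ℤ) ≤ 4 := by
    rw [← htot]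
    refine le_trans (by simp) (Finset.sum_le_sum (f := fun _ => (1 : ℤ)) hdiag)
  obtain ⟨χ, hχ, -⟩ := exists_height_zero hM hB
  have hmod : ((bset B).card : ℤ) % 8 = 4 := by
    have h1 : ∀ m : ℤ, Odd m → (8 : ℤ) ∣ m ^ 2 - 1 := by
      rintro m ⟨i, rfl⟩
      obtain ⟨j, hj⟩ := Int.even_mul_succ_self i
      exact ⟨j, by linear_combination 4 * hj⟩
    obtain ⟨c, hc⟩ : (8 : ℤ) ∣ ∑ ψ ∈ bset B, (n χ ψ ^ 2 - 1) :=
      Finset.dvd_sum fun ψ hψ => h1 _ (hodd χ ψ hχ (mem_bset.1 hψ))
    rw [Finset.sum_sub_distrib, hrow χ (mem_bset.2 hχ), Finset.sum_const, nsmul_eq_mul,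
      mul_one] at hc
    obtain ⟨j, hj⟩ := hodd χ χ hχ hχ
    omega
  rw [Nat.card_eq_fintype_card, Fintype.card_of_finset' (bset B) fun χ => mem_bset]
  omega

/-- Klein four defect groups: `e ∈ {1, 3}`, `k(B) = 4` and `l(B) = e`. -/
theorem klein_blocks (hM : IsPModular 2 M) {B : Set (IrrCharacter G)} {P : Subgroup G}
    {c : Set (IrrCharacter (Subgroup.centralizer (P : Set G)))}
    (hmax : IsMaximalBrauerPair 2 M B P c) (hV : IsKleinFour P) :
    (Nat.card (autInducedBy (pairStab P c) P) = 1 ∨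
      Nat.card (autInducedBy (pairStab P c) P) = 3) ∧
      Nat.card B = 4 ∧ blockRank 2 B = Nat.card (autInducedBy (pairStab P c) P) := by
  classical
  haveI : Fact (Nat.Prime 2) := ⟨Nat.prime_two⟩
  have hB := hmax.1.2.1
  have hPp : IsPGroup 2 P := hmax.1.1.1
  have hPD := maximal_isDefectGroup hM hmax
  have hd : blockDefect 2 B = 2 := Nat.pow_right_injective le_rfl
    (by show 2 ^ _ = 2 ^ 2; rw [← card_defectGroup hM hB hPD, hV.card_four])
  haveI : IsMulCommutative P := IsPGroup.isMulCommutative_of_card_eq_prime_sq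
    (hV.card_four.trans (by norm_num) : Nat.card P = 2 ^ 2)
  have hab : ∀ x ∈ P, ∀ y ∈ P, x * y = y * x := fun x hx y hy =>
    congrArg Subtype.val ((IsMulCommutative.is_comm (M := P)).comm ⟨x, hx⟩ ⟨y, hy⟩)
  have hsq : ∀ x ∈ P, x ≠ 1 → orderOf x = 2 := fun x hx h1 =>
    orderOf_eq_prime (congrArg Subtype.val
      ((sq (⟨x, hx⟩ : P)).trans (hV.mul_self ⟨x, hx⟩))) h1
  -- the blocks of the involutions
  have hsub : ∀ u ∈ P, u ≠ 1 →
      ∀ f : Set (IrrCharacter (Subgroup.centralizer ((Subgroup.zpowers u : Subgroup G) : Set G))),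
        SubpairLE 2 M (Subgroup.zpowers u) f P c →
        IsPBlock M f ∧ blockDefect 2 f = 2 ∧ blockRank 2 f = 1 := by
    intro u hu h1 f hf
    have hfb := subpairLE_left_block hmax.1.1.2 hf
    have hle : Subgroup.zpowers u ≤ P := Subgroup.zpowers_le.2 hu
    have hPC : P ≤ Subgroup.centralizer ((Subgroup.zpowers u : Subgroup G) : Set G) :=
      fun a ha => (isCentr_zpowers u a).2 (hab a ha u hu)
    have e1 := card_centP_le hM hPp hle hfb hmax.1.1.2 hf
    rw [inf_eq_left.2 hPC, hV.card_four] at e1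
    obtain ⟨w, -, e2⟩ := exists_conj_centP hM hmax hfb hf
    have e3 : 2 ^ blockDefect 2 f = 2 ^ 2 := le_antisymm
      (e2.le.trans ((Subgroup.card_le_of_le inf_le_left).trans hV.card_four.le)) e1
    have hd2 : blockDefect 2 f = 2 := Nat.pow_right_injective le_rfl e3
    haveI := Fintype.ofFinite (Subgroup.centralizer ((Subgroup.zpowers u : Subgroup G) : Set G))
    refine ⟨hfb, hd2, blockRank_klein_center hM
      (z := ⟨u, (isCentr_zpowers u).self_mem⟩)
      (Subgroup.mem_center_iff.2 fun a => Subtype.ext ((isCentr_zpowers u a).1 a.2))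
      (by rw [Subgroup.orderOf_mk, hsq u hu h1]) hfb hd2⟩
  -- four characters
  have hk : Nat.card B = 4 := by
    obtain ⟨⟨u, hu⟩, hu1⟩ : ∃ u : P, u ≠ 1 := by
      haveI : Nontrivial P := Finite.one_lt_card_iff_nontrivial.1 (by rw [hV.card_four]; norm_num)
      exact exists_ne 1
    have hu1' : u ≠ 1 := fun h => hu1 (Subtype.ext h)
    have hle : Subgroup.zpowers u ≤ P := Subgroup.zpowers_le.2 hu
    obtain ⟨f, ⟨hf, hfle⟩, -⟩ := existsUnique_subpair hM hPp hmax.1.1.2 _ hle
    obtain ⟨-, hd2, hl⟩ := hsub u hu hu1' f hfle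
    haveI := Fintype.ofFinite (Subgroup.centralizer ((Subgroup.zpowers u : Subgroup G) : Set G))
    exact card_eq_four_of_major hM (isCentr_zpowers u) (hsq u hu hu1')
      ((induced_centralizer_iff hM (hPp.to_le hle)).2
        ((pairOf_subpair_iff hM (a := ⟨_, f⟩) (b := ⟨P, c⟩) hfle B).2 hmax.1)) hd hd2 hl
  -- the inertial index is odd
  have hT : pairStab P c ≤ Subgroup.normalizer (P : Set G) := fun t ht => ((mem_pairStab t).1 ht).1
  have hodd : ¬ 2 ∣ Nat.card (autInducedBy (pairStab P c) P) := by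
    have hF := blockFusion_isBlockFusion hM hmax
    obtain ⟨Q, hconj, haut, -⟩ := blockFusion_isSaturated hM hF P le_rfl
    obtain rfl : Q = P := Subgroup.eq_of_le_of_card_ge hconj.le_right hconj.card_eq.le
    rw [FusionSystem.isFullyAutomized_iff le_rfl,
      autGroup_block hM hF hmax.1.1.2 (Relation.ReflTransGen.refl)] at haut
    have htriv : autInducedBy Q Q = ⊥ := by
      rw [eq_bot_iff]
      intro α hα
      obtain ⟨g, hg, -, hga⟩ := mem_autInducedBy_iff.1 hα
      refine Subgroup.mem_bot.2 (MulEquiv.ext fun x => Subtype.ext ?_)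
      rw [hga x, hab g hg x x.2, mul_inv_cancel_right]
      rfl
    rw [htriv, Subgroup.card_bot] at haut
    intro h2
    have := (Nat.Prime.dvd_iff_one_le_factorization Nat.prime_two Nat.card_pos.ne').1 h2
    rcases Nat.pow_eq_one.1 haut.symm with h | h <;> omega
  rcases klein_aut hV (autInducedBy (pairStab P c) P) hodd with h1 | ⟨h3, htr⟩
  · have htriv : pairStab P c ≤ Subgroup.centralizer (P : Set G) := by
      intro t ht x hx
      let α : MulAut P :=
        { toFun := fun y => ⟨t * y * t⁻¹, (Subgroup.mem_normalizer_iff.1 (hT ht) y).1 y.2⟩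
          invFun := fun y => ⟨t⁻¹ * y * t, (Subgroup.mem_normalizer_iff''.1 (hT ht) y).1 y.2⟩
          left_inv := fun y => Subtype.ext (by simp [mul_assoc])
          right_inv := fun y => Subtype.ext (by simp [mul_assoc])
          map_mul' := fun y y' => Subtype.ext (by simp [mul_assoc]) }
      have hα : α ∈ autInducedBy (pairStab P c) P :=
        Subgroup.subset_closure ⟨t, ht, fun y => rfl⟩
      rw [h1, Subgroup.mem_bot] at hα
      have h := congrArg Subtype.val (congrFun (congrArg (fun β : MulAut P => (β : P → P)) hα)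
        ⟨x, hx⟩)
      exact (mul_inv_eq_iff_eq_mul.1 h).symm
    have hle := card_le_sum_rankSum hM hmax hab htriv
    rw [hV.card_four, hk] at hle
    have := blockRank_pos hM hB
    rw [h1, Subgroup.card_bot]
    exact ⟨Or.inl rfl, hk, by omega⟩
  · have hle := card_le_of_transitive hM hmax (fun u hu hu1 v hv hv1 => by
      obtain ⟨α, hα, hαv⟩ := htr ⟨u, hu⟩ (fun h => hu1 (congrArg Subtype.val h)) ⟨v, hv⟩
        (fun h => hv1 (congrArg Subtype.val h))
      obtain ⟨g, hg, -, hga⟩ := mem_autInducedBy_iff.1 hα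
      exact ⟨g, hg, by rw [← hga ⟨u, hu⟩, hαv]⟩) 1 fun u hu hu1 f hf =>
        (hsub u hu hu1 f hf).2.2.le
    have hlt : blockRank 2 B < Nat.card B := lt_of_le_of_ne (blockRank_le B) fun h => by
      obtain ⟨χ, rfl⟩ := subsingleton_of_blockRank_eq hM hB h.symm
      simp at hk
    rw [h3]
    exact ⟨Or.inr rfl, hk, by omega⟩

end CfsgLib.Blocks
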