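import Cfsg.Agent.Lib.Blocks.CyclicPerfect
import Cfsg.Agent.Lib.Blocks.CyclicRoots
import Cfsg.Agent.Lib.Blocks.KleinBlocks
import Cfsg.Agent.Lib.Blocks.SectionBound

/-!
# Perfect isometries between blocks with Klein four defect groups
-/

namespace CfsgLib.Blocks

open Cfsg CfsgLib.CharTheory
open scoped ComplexConjugate

set_option linter.unusedVariables false
set_option linter.unusedSimpArgs false
set_option linter.style.haveILetI false
set_option linter.unusedSectionVars false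

universe u v

variable {M : Ideal AlgInt} {G : Type u} [Group G] [Fintype G]

theorem klein_data_iso (hM : IsPModular 2 M) {B : Set (IrrCharacter G)} {P : Subgroup G}
    {c : Set (IrrCharacter (Subgroup.centralizer (P : Set G)))}
    (hmax : IsMaximalBrauerPair 2 M B P c) (hV : IsKleinFour P) : AbData 2 M B P c 2 := by
  classical
  haveI : Fact (Nat.Prime 2) := ⟨Nat.prime_two⟩
  haveI : IsMulCommutative P := IsPGroup.isMulCommutative_of_card_eq_prime_sq
    (hV.card_four.trans (by norm_num) : Nat.card P = 2 ^ 2)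
  have hab : ∀ x ∈ P, ∀ y ∈ P, x * y = y * x := fun x hx y hy =>
    congrArg Subtype.val ((IsMulCommutative.is_comm (M := P)).comm ⟨x, hx⟩ ⟨y, hy⟩)
  have hPp : IsPGroup 2 P := hmax.1.1.1
  refine ⟨hM, hmax, hab, hV.card_four.trans (by norm_num), fun u hu hu1 => ?_⟩
  have hle : Subgroup.zpowers u ≤ P := Subgroup.zpowers_le.2 hu
  obtain ⟨f, hf, -⟩ := existsUnique_subpair hM hPp hmax.1.1.2 _ hle
  obtain ⟨hfb, hfle⟩ : IsPBlock M (belowIdx 2 M P c (Subgroup.zpowers u)).2 ∧
      SubpairLE 2 M (Subgroup.zpowers u) (belowIdx 2 M P c (Subgroup.zpowers u)).2 P c :=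
    Classical.epsilon_spec (p := fun f => IsPBlock M f ∧ SubpairLE 2 M _ f P c) ⟨f, hf⟩
  have hPC : P ≤ Subgroup.centralizer ((Subgroup.zpowers u : Subgroup G) : Set G) :=
    fun a ha => (isCentr_zpowers u a).2 (hab a ha u hu)
  have e1 := card_centP_le hM hPp hle hfb hmax.1.1.2 hfle
  rw [inf_eq_left.2 hPC, hV.card_four] at e1
  obtain ⟨w, -, e2⟩ := exists_conj_centP hM hmax hfb hfle
  have e3 : 2 ^ blockDefect 2 (belowIdx 2 M P c (Subgroup.zpowers u)).2 = 2 ^ 2 :=
    le_antisymm (e2.le.trans ((Subgroup.card_le_of_le inf_le_left).trans hV.card_four.le)) e1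
  haveI := Fintype.ofFinite (Subgroup.centralizer ((Subgroup.zpowers u : Subgroup G) : Set G))
  refine blockRank_klein_center hM (z := ⟨u, (isCentr_zpowers u).self_mem⟩)
    (Subgroup.mem_center_iff.2 fun a => Subtype.ext ((isCentr_zpowers u a).1 a.2)) ?_ hfb
    (Nat.pow_right_injective le_rfl e3)
  rw [Subgroup.orderOf_mk]
  exact orderOf_eq_prime (congrArg Subtype.val ((sq (⟨u, hu⟩ : P)).trans (hV.mul_self ⟨u, hu⟩))) hu1

/-- The values on the subsections are signs. -/
theorem klein_signs {B : Set (IrrCharacter G)} {P : Subgroup G}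
    {c : Set (IrrCharacter (Subgroup.centralizer (P : Set G)))} (h : AbData 2 M B P c 2)
    (hV : IsKleinFour P) (hk : Nat.card B = 4) :
    ∃ N : G → IrrCharacter G → ℤ, (∀ u χ, N u χ = 1 ∨ N u χ = -1) ∧
      ∀ u ∈ P, u ≠ 1 → ∀ χ ∈ B, dsec 2 M P c u (χ : G → ℂ) = (N u χ : ℂ) := by
  classical
  have key : ∀ u ∈ P, u ≠ 1 → ∀ χ ∈ B, ∃ n : ℤ, (n = 1 ∨ n = -1) ∧
      dsec 2 M P c u (χ : G → ℂ) = (n : ℂ) := by
    intro u hu hu1
    set Q := Subgroup.zpowers u with hQ
    set H := Subgroup.centralizer (Q : Set G) with hH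
    haveI : Fintype H := Fintype.ofFinite _
    obtain ⟨φ, d, n, hf, -, -, -, hdeg, -⟩ :=
      single_block h.mod (h.below_spec (h.zpowers_le hu)).1 (h.rankOne u hu hu1)
    have huH : u ∈ H := (isCentr_zpowers u).self_mem
    set z : H := ⟨u, huH⟩ with hz
    have hzc : z ∈ Subgroup.center H :=
      Subgroup.mem_center_iff.2 fun g => Subtype.ext ((isCentr_zpowers u g).1 g.2)
    have hz2 : orderOf z = 2 := by
      rw [hz, Subgroup.orderOf_mk]
      exact orderOf_eq_prime
        (congrArg Subtype.val ((sq (⟨u, hu⟩ : P)).trans (hV.mul_self ⟨u, hu⟩))) hu1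
    have hω : ∀ θ : IrrCharacter H, ∃ j : ℤ, (θ : H → ℂ) z / (θ : H → ℂ) 1 = (j : ℂ) := by
      intro θ
      have h1 := central_value_pow hzc θ
      rw [hz2] at h1
      rcases sq_eq_one_iff.1 h1 with e | e
      exacts [⟨1, by rw [e]; norm_num⟩, ⟨-1, by rw [e]; norm_num⟩]
    choose j hj using hω
    have hint : ∀ χ : IrrCharacter G, ∃ n : ℤ, dsec 2 M P c u (χ : G → ℂ) = (n : ℂ) := by
      intro χ
      choose k hk using fun θ : IrrCharacter H =>
        classInner_char_nat (isCharacter_restrict_irr H χ) (isCharacter_of_irr θ.2)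
      have hexp : ∀ y : H, (χ : G → ℂ) y = ∑ θ, (k θ : ℂ) * (θ : H → ℂ) y := fun y => by
        have := congrFun (eq_sum_irr (isClassFunction_char (isCharacter_restrict_irr H χ))) y
        simpa [hk] using this
      refine ⟨∑ θ, if θ ∈ (belowIdx 2 M P c Q).2 then (k θ : ℤ) * j θ * d θ else 0, ?_⟩
      show cval u (belowIdx 2 M P c Q) (χ : G → ℂ) = _
      rw [cval_sext_expand (H := H) (a := belowIdx 2 M P c Q) huH le_rfl (fun θ => (k θ : ℂ)) hexp,
        Int.cast_sum]
      refine Finset.sum_congr rfl fun θ _ => ?_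
      rw [show u = ((z : H) : G) from rfl, cval_central hzc le_rfl θ, cval_self h.mod hf hdeg θ, hj]
      by_cases hθ : θ ∈ (belowIdx 2 M P c Q).2
      · rw [ind_of_mem hθ, if_pos hθ]; push_cast; ring
      · rw [ind_of_notMem hθ, if_neg hθ]; simp
    choose n' hn' using hint
    have hne : ∀ χ ∈ B, n' χ ≠ 0 := by
      intro χ hχ h0
      obtain ⟨χ₀, hχ₀, h0'⟩ := exists_height_zero h.mod h.isBlock
      obtain ⟨w, hw, -, hw0⟩ := secPair_div h.mod (isCentr_zpowers u) (h.ord hu)
        (h.induced_below (h.zpowers_le hu))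
        ((h.defect_below (h.zpowers_le hu)).trans h.defect.symm) hχ₀ hχ h0'
      rw [h.secPair_eq hu hu1, hn' χ, h0, Int.cast_zero, map_zero, mul_zero] at hw
      exact mul_ne_zero (pow_ne_zero _ (by norm_num)) hw0 hw.symm
    have hsum : ∑ χ ∈ bset B, n' χ * n' χ = 4 := by
      have h1 := h.dsec_orth hu hu1 hu hu1
      rw [if_pos ⟨1, one_mem _, by simp⟩] at h1
      have h2 : (((∑ χ ∈ bset B, n' χ * n' χ : ℤ)) : ℂ) = ((4 : ℤ) : ℂ) := by
        push_cast
        rw [show (4 : ℂ) = ((2 : ℕ) : ℂ) ^ 2 by norm_num, ← h1]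
        exact Finset.sum_congr rfl fun χ _ => by rw [hn', map_intCast]
      exact_mod_cast h2
    have hcard : (bset B).card = 4 := by
      rw [← hk, Nat.card_eq_fintype_card, Fintype.card_of_finset' (bset B) fun χ => mem_bset]
    intro χ hχ
    refine ⟨n' χ, ?_, hn' χ⟩
    have hge : ∀ ψ ∈ bset B, 1 ≤ n' ψ * n' ψ := fun ψ hψ => by
      rcases lt_or_gt_of_ne (hne ψ (mem_bset.1 hψ)) with e | e <;> nlinarith
    refine (Int.mul_eq_one_iff_eq_one_or_neg_one.1 (?_ : n' χ * n' χ = 1)).imp And.left And.left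
    by_contra hne1
    have h3 : ∑ ψ ∈ bset B, (1 : ℤ) < ∑ ψ ∈ bset B, n' ψ * n' ψ :=
      Finset.sum_lt_sum hge ⟨χ, mem_bset.2 hχ,
        lt_of_le_of_ne (hge χ (mem_bset.2 hχ)) (Ne.symm hne1)⟩
    rw [hsum, Finset.sum_const, hcard] at h3
    norm_num at h3
  choose N hN1 hN2 using key
  refine ⟨fun u χ => if h' : u ∈ P ∧ u ≠ 1 ∧ χ ∈ B then N u h'.1 h'.2.1 χ h'.2.2 else 1,
    fun u χ => ?_, fun u hu hu1 χ hχ => ?_⟩
  · simp only []
    split_ifs with h'
    exacts [hN1 _ _ _ _ _, Or.inl rfl]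
  · simp only [dif_pos (show u ∈ P ∧ u ≠ 1 ∧ χ ∈ B from ⟨hu, hu1, hχ⟩)]
    exact hN2 u hu hu1 χ hχ

/-- The relation of conjugacy under the stabilizer is total or trivial. -/
theorem klein_dichotomy (hM : IsPModular 2 M) {B : Set (IrrCharacter G)} {P : Subgroup G}
    {c : Set (IrrCharacter (Subgroup.centralizer (P : Set G)))}
    (hmax : IsMaximalBrauerPair 2 M B P c) (hV : IsKleinFour P) :
    (∀ u ∈ P, ∀ v ∈ P, (∃ t ∈ pairStab P c, t * u * t⁻¹ = v) → u = v) ∨
      ∀ u ∈ P, u ≠ 1 → ∀ v ∈ P, v ≠ 1 → ∃ t ∈ pairStab P c, t * u * t⁻¹ = v := by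
  classical
  obtain ⟨hA, -, -⟩ := klein_blocks hM hmax hV
  have hT : ∀ t ∈ pairStab P c, t ∈ Subgroup.normalizer (P : Set G) :=
    fun t ht => ((mem_pairStab t).1 ht).1
  rcases hA with h1 | h3
  · left
    rintro u hu v hv ⟨t, ht, htv⟩
    let α : MulAut P :=
      { toFun := fun y => ⟨t * y * t⁻¹, (Subgroup.mem_normalizer_iff.1 (hT t ht) y).1 y.2⟩
        invFun := fun y => ⟨t⁻¹ * y * t, (Subgroup.mem_normalizer_iff''.1 (hT t ht) y).1 y.2⟩
        left_inv := fun y => Subtype.ext (by simp [mul_assoc])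
        right_inv := fun y => Subtype.ext (by simp [mul_assoc])
        map_mul' := fun y y' => Subtype.ext (by simp [mul_assoc]) }
    have hα : α ∈ autInducedBy (pairStab P c) P :=
      Subgroup.subset_closure ⟨t, ht, fun y => rfl⟩
    rw [Subgroup.eq_bot_of_card_eq _ h1, Subgroup.mem_bot] at hα
    have h := congrArg Subtype.val (congrFun (congrArg (fun β : MulAut P => (β : P → P)) hα)
      ⟨u, hu⟩)
    change t * u * t⁻¹ = u at h
    rw [← htv, h]
  · right
    intro u hu hu1 v hv hv1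
    rcases klein_aut hV (autInducedBy (pairStab P c) P) (by rw [h3]; norm_num) with h1 | ⟨-, htr⟩
    · rw [h1, Subgroup.card_bot] at h3; omega
    · obtain ⟨α, hα, hαv⟩ := htr ⟨u, hu⟩ (fun e => hu1 (congrArg Subtype.val e)) ⟨v, hv⟩
        (fun e => hv1 (congrArg Subtype.val e))
      obtain ⟨g, hg, -, hga⟩ := mem_autInducedBy_iff.1 hα
      exact ⟨g, hg, by rw [← hga ⟨u, hu⟩, hαv]⟩

/-- Four sign vectors, orthogonal and balanced, show every pattern once. -/
theorem pattern_card {I : Type*} (S : Finset I) (hS : S.card = 4) (x y : I → ℤ)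
    (hx : ∀ i, x i = 1 ∨ x i = -1) (hy : ∀ i, y i = 1 ∨ y i = -1)
    (h1 : ∑ i ∈ S, x i = 0) (h2 : ∑ i ∈ S, y i = 0) (h3 : ∑ i ∈ S, x i * y i = 0)
    (b c : Bool) :
    (S.filter fun i => x i = (if b then 1 else -1) ∧ y i = (if c then 1 else -1)).card = 1 := by
  classical
  set a : ℤ := if b then 1 else -1 with ha
  set a' : ℤ := if c then 1 else -1 with ha'
  have haa : a = 1 ∨ a = -1 := by rw [ha]; cases b <;> simp
  have haa' : a' = 1 ∨ a' = -1 := by rw [ha']; cases c <;> simp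
  have e : ∑ i ∈ S, (1 + a * x i) * (1 + a' * y i) =
      4 * ((S.filter fun i => x i = a ∧ y i = a').card : ℤ) := by
    rw [Finset.card_filter, Nat.cast_sum, Finset.mul_sum]
    refine Finset.sum_congr rfl fun i _ => ?_
    rcases hx i with e1 | e1 <;> rcases hy i with e2 | e2 <;> rcases haa with e3 | e3 <;>
      rcases haa' with e4 | e4 <;> rw [e1, e2, e3, e4] <;> norm_num
  have e' : ∑ i ∈ S, (1 + a * x i) * (1 + a' * y i) = 4 := by
    have : ∀ i, (1 + a * x i) * (1 + a' * y i) = 1 + a * x i + a' * y i + a * a' * (x i * y i) :=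
      fun i => by ring
    simp only [this, Finset.sum_add_distrib, ← Finset.mul_sum, h1, h2, h3, mul_zero, add_zero,
      Finset.sum_const, hS]
    norm_num
  rw [e] at e'
  omega

variable {G' : Type v} [Group G'] [Fintype G']

/-- Klein four defect groups with the same fusion: perfectly isometric. -/
theorem klein_isometry {B : Set (IrrCharacter G)} {P : Subgroup G}
    {c : Set (IrrCharacter (Subgroup.centralizer (P : Set G)))} {B' : Set (IrrCharacter G')}
    {P' : Subgroup G'} {c' : Set (IrrCharacter (Subgroup.centralizer (P' : Set G')))}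
    (h : AbData 2 M B P c 2) (h' : AbData 2 M B' P' c' 2) (φ : P' ≃* P) (hV : IsKleinFour P)
    (hV' : IsKleinFour P') (hk : Nat.card B = 4) (hk' : Nat.card B' = 4)
    (hrel : ∀ u v : P', (∃ t ∈ pairStab P' c', t * (u : G') * t⁻¹ = v) ↔
      ∃ t ∈ pairStab P c, t * (φ u : G) * t⁻¹ = φ v) :
    ∃ (I : IrrCharacter G' → IrrCharacter G) (ε : IrrCharacter G' → ℤ),
      IsPerfectIsometry 2 M B' B I ε := by
  classical
  obtain ⟨N, hN, hNd⟩ := klein_signs h hV hk
  obtain ⟨N', hN', hNd'⟩ := klein_signs h' hV' hk'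
  have hcard : (bset B).card = 4 := by
    rw [← hk, Nat.card_eq_fintype_card, Fintype.card_of_finset' (bset B) fun χ => mem_bset]
  have hcard' : (bset B').card = 4 := by
    rw [← hk', Nat.card_eq_fintype_card, Fintype.card_of_finset' (bset B') fun χ => mem_bset]
  have hsq : ∀ u χ, N u χ * N u χ = 1 := fun u χ => by rcases hN u χ with e | e <;> rw [e] <;> rfl
  have hsq' : ∀ u χ, N' u χ * N' u χ = 1 := fun u χ => by
    rcases hN' u χ with e | e <;> rw [e] <;> rfl
  have hφ1 : ∀ {v : P'}, v ≠ 1 → (φ v : G) ≠ 1 := fun {v} hv e =>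
    hv (φ.injective ((Subtype.ext e : φ v = 1).trans (map_one φ).symm))
  have hv' : ∀ {v : P'}, v ≠ 1 → (v : G') ≠ 1 := fun {v} hv e => hv (Subtype.ext e)
  haveI : Nontrivial P' := Finite.one_lt_card_iff_nontrivial.1 (by rw [hV'.card_four]; norm_num)
  obtain ⟨w1, hw1⟩ := exists_ne (1 : P')
  rcases klein_dichotomy h.mod h.max hV with htr | htot
  · -- no fusion
    haveI := Fintype.ofFinite P'
    obtain ⟨w2, hw2⟩ : ∃ w2 : P', w2 ∉ ({1, w1} : Finset P') := by
      by_contra hno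
      push Not at hno
      have := Finset.card_le_card (fun x _ => hno x : (Finset.univ : Finset P') ⊆ {1, w1})
      rw [Finset.card_univ, ← Nat.card_eq_fintype_card, hV'.card_four] at this
      exact absurd (this.trans Finset.card_le_two) (by norm_num)
    simp only [Finset.mem_insert, Finset.mem_singleton, not_or] at hw2
    obtain ⟨hw21, hw2w⟩ := hw2
    set w3 := w1 * w2 with hw3
    have hw31 : w3 ≠ 1 := fun e => hw2w (by
      calc w2 = w1 * (w1 * w2) := by rw [← mul_assoc, hV'.mul_self, one_mul]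
        _ = w1 := by rw [← hw3, e, mul_one])
    have hw3w1 : w3 ≠ w1 := fun e => hw21 (mul_eq_left.1 e)
    have hw3w2 : w3 ≠ w2 := fun e => hw1 (mul_eq_right.1 e)
    have hall : ∀ v : P', v ≠ 1 → v = w1 ∨ v = w2 ∨ v = w3 := by
      intro v hv
      have hF : ({1, w1, w2, w3} : Finset P') = Finset.univ := by
        refine Finset.eq_univ_of_card _ ?_
        rw [← Nat.card_eq_fintype_card, hV'.card_four]
        rw [Finset.card_insert_of_notMem (by simp [Ne.symm hw1, Ne.symm hw21, Ne.symm hw31]),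
          Finset.card_insert_of_notMem (by simp [Ne.symm hw2w, Ne.symm hw3w1]),
          Finset.card_pair (Ne.symm hw3w2)]
      have := hF.ge (Finset.mem_univ v)
      simp only [Finset.mem_insert, Finset.mem_singleton] at this
      rcases this with e | e | e | e
      exacts [absurd e hv, Or.inl e, Or.inr (Or.inl e), Or.inr (Or.inr e)]
    have htr' : ∀ u v : P', (∃ t ∈ pairStab P' c', t * (u : G') * t⁻¹ = v) → u = v :=
      fun u v e => φ.injective (Subtype.ext (htr _ (φ u).2 _ (φ v).2 ((hrel u v).1 e)))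
    -- the orthogonality of the columns
    have hG : ∀ u v : P', u ≠ 1 → v ≠ 1 → u ≠ v →
        ∑ χ ∈ bset B, N (φ u : G) χ * N (φ v : G) χ = 0 := by
      intro u v hu hv huv
      have h1 := h.dsec_orth (φ u).2 (hφ1 hu) (φ v).2 (hφ1 hv)
      rw [if_neg fun e => huv (φ.injective (Subtype.ext (htr _ (φ u).2 _ (φ v).2 e)))] at h1
      have h2 : ((∑ χ ∈ bset B, N (φ u : G) χ * N (φ v : G) χ : ℤ) : ℂ) = 0 := by
        rw [← h1, Int.cast_sum]
        refine Finset.sum_congr rfl fun χ hχ => ?_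
        rw [hNd _ (φ u).2 (hφ1 hu) χ (mem_bset.1 hχ), hNd _ (φ v).2 (hφ1 hv) χ (mem_bset.1 hχ),
          map_intCast, Int.cast_mul]
      exact_mod_cast h2
    have hG' : ∀ u v : P', u ≠ 1 → v ≠ 1 → u ≠ v →
        ∑ χ ∈ bset B', N' (u : G') χ * N' (v : G') χ = 0 := by
      intro u v hu hv huv
      have h1 := h'.dsec_orth u.2 (hv' hu) v.2 (hv' hv)
      rw [if_neg fun e => huv (htr' u v e)] at h1
      have h2 : ((∑ χ ∈ bset B', N' (u : G') χ * N' (v : G') χ : ℤ) : ℂ) = 0 := by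
        rw [← h1, Int.cast_sum]
        refine Finset.sum_congr rfl fun χ hχ => ?_
        rw [hNd' _ u.2 (hv' hu) χ (mem_bset.1 hχ), hNd' _ v.2 (hv' hv) χ (mem_bset.1 hχ),
          map_intCast, Int.cast_mul]
      exact_mod_cast h2
    let X : IrrCharacter G → ℤ := fun χ => N (φ w1 : G) χ * N (φ w2 : G) χ
    let Y : IrrCharacter G → ℤ := fun χ => N (φ w1 : G) χ * N (φ w3 : G) χ
    let X' : IrrCharacter G' → ℤ := fun χ => N' (w1 : G') χ * N' (w2 : G') χ
    let Y' : IrrCharacter G' → ℤ := fun χ => N' (w1 : G') χ * N' (w3 : G') χ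
    have hpm : ∀ {a b : ℤ}, (a = 1 ∨ a = -1) → (b = 1 ∨ b = -1) → (a * b = 1 ∨ a * b = -1) := by
      rintro a b (rfl | rfl) (rfl | rfl) <;> simp
    have hp : ∀ b c : Bool, ∃! χ, χ ∈ bset B ∧
        (X χ = (if b then 1 else -1) ∧ Y χ = (if c then 1 else -1)) := by
      intro b c
      obtain ⟨χ, hχ⟩ := Finset.card_eq_one.1 (pattern_card (bset B) hcard X Y
        (fun χ => hpm (hN _ _) (hN _ _)) (fun χ => hpm (hN _ _) (hN _ _))
        (hG w1 w2 hw1 hw21 (Ne.symm hw2w)) (hG w1 w3 hw1 hw31 (Ne.symm hw3w1))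
        (by
          rw [← hG w2 w3 hw21 hw31 (Ne.symm hw3w2)]
          exact Finset.sum_congr rfl fun χ _ => by
            linear_combination (N (φ w2 : G) χ * N (φ w3 : G) χ) * hsq (φ w1 : G) χ) b c)
      refine ⟨χ, Finset.mem_filter.1 (hχ.ge (Finset.mem_singleton_self χ)), fun ψ hψ => ?_⟩
      exact Finset.mem_singleton.1 (hχ.le (Finset.mem_filter.2 hψ))
    have hp' : ∀ b c : Bool, ∃! χ, χ ∈ bset B' ∧
        (X' χ = (if b then 1 else -1) ∧ Y' χ = (if c then 1 else -1)) := by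
      intro b c
      obtain ⟨χ, hχ⟩ := Finset.card_eq_one.1 (pattern_card (bset B') hcard' X' Y'
        (fun χ => hpm (hN' _ _) (hN' _ _)) (fun χ => hpm (hN' _ _) (hN' _ _))
        (hG' w1 w2 hw1 hw21 (Ne.symm hw2w)) (hG' w1 w3 hw1 hw31 (Ne.symm hw3w1))
        (by
          rw [← hG' w2 w3 hw21 hw31 (Ne.symm hw3w2)]
          exact Finset.sum_congr rfl fun χ _ => by
            linear_combination (N' (w2 : G') χ * N' (w3 : G') χ) * hsq' (w1 : G') χ) b c)
      refine ⟨χ, Finset.mem_filter.1 (hχ.ge (Finset.mem_singleton_self χ)), fun ψ hψ => ?_⟩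
      exact Finset.mem_singleton.1 (hχ.le (Finset.mem_filter.2 hψ))
    choose J hJ hJu using fun i : Bool × Bool => hp i.1 i.2
    choose J' hJ' hJu' using fun i : Bool × Bool => hp' i.1 i.2
    have hbool : ∀ {n : ℤ}, (n = 1 ∨ n = -1) → ∃ b : Bool, n = if b then 1 else -1 := by
      rintro n (rfl | rfl)
      exacts [⟨true, rfl⟩, ⟨false, rfl⟩]
    have hinjb : ∀ b b' : Bool, (if b then (1 : ℤ) else -1) = (if b' then 1 else -1) → b = b' := by
      intro b b'; cases b <;> cases b' <;> simp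
    let ε : Bool × Bool → ℤ := fun i => N (φ w1 : G) (J i) * N' (w1 : G') (J' i)
    have d : DsecMatch 2 M B P c B' P' c' J J' ε φ (fun _ => 1) :=
      { inj := fun i j e => Prod.ext
          (hinjb _ _ ((hJ i).2.1.symm.trans (by rw [e]; exact (hJ j).2.1)))
          (hinjb _ _ ((hJ i).2.2.symm.trans (by rw [e]; exact (hJ j).2.2)))
        mem := fun i => mem_bset.1 (hJ i).1
        surj := fun χ hχ => by
          obtain ⟨b, hb⟩ := hbool (hpm (hN (φ w1 : G) χ) (hN (φ w2 : G) χ))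
          obtain ⟨c, hc⟩ := hbool (hpm (hN (φ w1 : G) χ) (hN (φ w3 : G) χ))
          exact ⟨(b, c), (hJu (b, c) χ ⟨mem_bset.2 hχ, hb, hc⟩).symm⟩
        inj' := fun i j e => Prod.ext
          (hinjb _ _ ((hJ' i).2.1.symm.trans (by rw [e]; exact (hJ' j).2.1)))
          (hinjb _ _ ((hJ' i).2.2.symm.trans (by rw [e]; exact (hJ' j).2.2)))
        mem' := fun i => mem_bset.1 (hJ' i).1
        surj' := fun χ hχ => by
          obtain ⟨b, hb⟩ := hbool (hpm (hN' (w1 : G') χ) (hN' (w2 : G') χ))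
          obtain ⟨c, hc⟩ := hbool (hpm (hN' (w1 : G') χ) (hN' (w3 : G') χ))
          exact ⟨(b, c), (hJu' (b, c) χ ⟨mem_bset.2 hχ, hb, hc⟩).symm⟩
        sign := fun i => hpm (hN _ _) (hN' _ _)
        tsign := fun _ => Or.inl rfl
        eq := fun v hv i => by
          rw [hNd _ (φ v).2 (hφ1 hv) _ (mem_bset.1 (hJ i).1),
            hNd' _ v.2 (hv' hv) _ (mem_bset.1 (hJ' i).1), Int.cast_one, one_mul, ← Int.cast_mul,
            Int.cast_inj]
          have eX : X (J i) = X' (J' i) := (hJ i).2.1.trans (hJ' i).2.1.symm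
          have eY : Y (J i) = Y' (J' i) := (hJ i).2.2.trans (hJ' i).2.2.symm
          simp only [X, X', Y, Y'] at eX eY
          simp only [ε]
          rcases hall v hv with rfl | rfl | rfl
          · linear_combination N' (v : G') (J' i) * hsq (φ v : G) (J i)
          · linear_combination N' (w1 : G') (J' i) * eX +
              N' (v : G') (J' i) * hsq' (w1 : G') (J' i)
          · linear_combination N' (w1 : G') (J' i) * eY +
              N' (w3 : G') (J' i) * hsq' (w1 : G') (J' i) }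
    exact d.isometry h h'
  · -- all involutions fused
    let eq4 : ↥(bset B') ≃ ↥(bset B) := Finset.equivOfCardEq (hcard'.trans hcard.symm)
    haveI : Nonempty ↥(bset B') :=
      (Finset.card_pos.1 (by omega : 0 < (bset B').card)).to_subtype
    have hc : ∀ v : P', v ≠ 1 → ∀ χ ∈ B, N (φ v : G) χ = N (φ w1 : G) χ := by
      intro v hv χ hχ
      obtain ⟨t, ht, htv⟩ := htot _ (φ w1).2 (hφ1 hw1) _ (φ v).2 (hφ1 hv)
      have h1 := h.dsec_conj ht (φ w1).2 χ
      rw [htv, hNd _ (φ v).2 (hφ1 hv) χ hχ, hNd _ (φ w1).2 (hφ1 hw1) χ hχ] at h1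
      exact_mod_cast h1
    have hc' : ∀ v : P', v ≠ 1 → ∀ χ ∈ B', N' (v : G') χ = N' (w1 : G') χ := by
      intro v hv χ hχ
      obtain ⟨t, ht, htv⟩ := (hrel w1 v).2 (htot _ (φ w1).2 (hφ1 hw1) _ (φ v).2 (hφ1 hv))
      have h1 := h'.dsec_conj ht w1.2 χ
      rw [htv, hNd' _ v.2 (hv' hv) χ hχ, hNd' _ w1.2 (hv' hw1) χ hχ] at h1
      exact_mod_cast h1
    have d : DsecMatch 2 M B P c B' P' c' (fun i : ↥(bset B') => ((eq4 i : ↥(bset B)) : IrrCharacter G))
        (fun i : ↥(bset B') => (i : IrrCharacter G'))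
        (fun i => N (φ w1 : G) (eq4 i : IrrCharacter G) * N' (w1 : G') (i : IrrCharacter G'))
        φ (fun _ => 1) :=
      { inj := fun i j e => eq4.injective (Subtype.ext e)
        mem := fun i => mem_bset.1 (eq4 i).2
        surj := fun χ hχ => ⟨eq4.symm ⟨χ, mem_bset.2 hχ⟩, by rw [Equiv.apply_symm_apply]⟩
        inj' := Subtype.coe_injective
        mem' := fun i => mem_bset.1 i.2
        surj' := fun χ hχ => ⟨⟨χ, mem_bset.2 hχ⟩, rfl⟩
        sign := fun i => by
          rcases hN (φ w1 : G) (eq4 i : IrrCharacter G) with e1 | e1 <;>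
            rcases hN' (w1 : G') (i : IrrCharacter G') with e2 | e2 <;> rw [e1, e2] <;> simp
        tsign := fun _ => Or.inl rfl
        eq := fun v hv i => by
          rw [hNd _ (φ v).2 (hφ1 hv) _ (mem_bset.1 (eq4 i).2),
            hNd' _ v.2 (hv' hv) _ (mem_bset.1 i.2), Int.cast_one, one_mul, ← Int.cast_mul,
            Int.cast_inj, hc v hv _ (mem_bset.1 (eq4 i).2), hc' v hv _ (mem_bset.1 i.2)]
          linear_combination N' (w1 : G') (i : IrrCharacter G') *
            hsq (φ w1 : G) (eq4 i : IrrCharacter G) }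
    exact d.isometry h h'

end CfsgLib.Blocks
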