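import Cfsg.Agent.Lib.Blocks.CentralDefect
import Cfsg.Agent.Lib.Blocks.BlockSat

/-!
# The criterion for a maximal Brauer pair
-/

namespace CfsgLib.Blocks

open Cfsg CfsgLib.CharTheory

set_option linter.unusedVariables false
set_option linter.unusedSimpArgs false
set_option linter.style.haveILetI false
set_option linter.unusedSectionVars false

universe u

variable {p : ℕ} {M : Ideal AlgInt} {G : Type u} [Group G] [Fintype G]

/-- A character of defect exactly `|Z|`, for a central `p`-subgroup `Z`, gives the defect of its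
block. -/
theorem card_eq_of_central_theta (hM : IsPModular p M) {Z : Subgroup G} (hZ : Z ≤ Subgroup.center G)
    (hZp : IsPGroup p Z) {B : Set (IrrCharacter G)} (hB : IsPBlock M B) {θ : IrrCharacter G}
    (hθ : θ ∈ B)
    (hdv : dv p (θ : G → ℂ) + (Nat.card Z).factorization p = (Nat.card G).factorization p) :
    Nat.card Z = p ^ blockDefect p B := by
  classical
  haveI : Fact p.Prime := ⟨hM.1⟩
  obtain ⟨z, hz⟩ := IsPGroup.exists_card_eq hZp
  rw [hz, Nat.factorization_pow_self hM.1] at hdv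
  set R := Finset.univ.filter (fun y : G => ¬ p ∣ orderOf y) with hR
  set T := ∑ y ∈ R, Complex.normSq ((θ : G → ℂ) y) with hT
  have hle : (Nat.card Z : ℝ) * T ≤ (Nat.card G : ℝ) := by
    rw [← sum_normSq_irr θ]
    refine le_trans (le_of_eq ?_) (Finset.sum_le_univ_sum_of_nonneg
      (s := (Finset.univ ×ˢ R).image (fun x : Z × G => (x.1 : G) * x.2))
      (fun g => Complex.normSq_nonneg _))
    rw [Finset.sum_image, Finset.sum_product, Finset.sum_congr rfl fun (u : Z) _ =>
      Finset.sum_congr rfl fun y hy => normSq_central_mul (hZ u.2) θ y, Finset.sum_const,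
      Finset.card_univ, ← Nat.card_eq_fintype_card, nsmul_eq_mul]
    rintro ⟨u, y⟩ hy ⟨u', y'⟩ hy' h
    simp only [Finset.mem_coe, Finset.mem_product, Finset.mem_univ, true_and, hR,
      Finset.mem_filter] at hy hy'
    obtain ⟨h1, h2⟩ := pReg_unique hM hZp u.2 u'.2
      (fun w hw => (Subgroup.mem_center_iff.1 (hZ hw) y).symm)
      (fun w hw => (Subgroup.mem_center_iff.1 (hZ hw) y').symm) hy hy' h
    exact Prod.ext (Subtype.ext h1) h2
  have hT0 : 0 < T := by
    refine Finset.sum_pos' (fun g _ => Complex.normSq_nonneg _) ⟨1, ?_, ?_⟩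
    · simpa [hR] using hM.1.ne_one
    · exact Complex.normSq_pos.2 (irr_one_ne_zero θ)
  obtain ⟨q, hq, -, -, -, hqh⟩ := exists_int_proj hM hB hθ hθ
  rw [regS_self_eq p θ] at hq
  have hqR : (p : ℝ) ^ blockDefect p B * T = (Nat.card G : ℝ) * (q : ℝ) := by exact_mod_cast hq
  have hG : (0 : ℝ) < Nat.card G := Nat.cast_pos.2 Nat.card_pos
  have hpd : (0 : ℝ) < (p : ℝ) ^ blockDefect p B := pow_pos (by exact_mod_cast hM.1.pos) _
  have hq0 : (0 : ℝ) < (q : ℝ) := by
    have : (0 : ℝ) < (Nat.card G : ℝ) * q := hqR ▸ mul_pos hpd hT0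
    exact (pos_iff_pos_of_mul_pos this).1 hG
  have hqz : ((p : ℤ) ^ z * q : ℤ) ≤ (p : ℤ) ^ blockDefect p B := by
    have h : (p : ℝ) ^ z * (q : ℝ) ≤ (p : ℝ) ^ blockDefect p B := by
      refine le_of_mul_le_mul_right ?_ hT0
      calc (p : ℝ) ^ z * q * T = ((Nat.card Z : ℝ) * T) * q := by rw [hz]; push_cast; ring
        _ ≤ (Nat.card G : ℝ) * q := mul_le_mul_of_nonneg_right hle hq0.le
        _ = (p : ℝ) ^ blockDefect p B * T := hqR.symm
    exact_mod_cast h
  have hv : minDv p B ≤ dv p (θ : G → ℂ) := minDv_le hθ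
  have hd : blockDefect p B = (Nat.card G).factorization p - minDv p B := blockDefect_eq p B
  rw [hz]
  congr 1
  by_contra hne
  obtain ⟨c, hc⟩ := hqh (by omega)
  have hq0' : 0 < q := by exact_mod_cast hq0
  have hp : (0 : ℤ) < p := by exact_mod_cast hM.1.pos
  have hc0 : 0 < c := by
    by_contra hcn
    have := mul_nonpos_of_nonneg_of_nonpos
      (pow_nonneg hp.le (dv p (θ : G → ℂ) - minDv p B + 1)) (not_lt.1 hcn)
    omega
  have h1 : (p : ℤ) ^ (z + (dv p (θ : G → ℂ) - minDv p B + 1)) ≤ (p : ℤ) ^ blockDefect p B := by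
    refine le_trans ?_ hqz
    rw [hc, pow_add, ← mul_assoc]
    exact le_mul_of_one_le_right (mul_nonneg (pow_nonneg hp.le _) (pow_nonneg hp.le _)) hc0
  have h2 := (Nat.pow_le_pow_iff_right hM.1.one_lt).1 (by exact_mod_cast h1 :
    p ^ (z + (dv p (θ : G → ℂ) - minDv p B + 1)) ≤ p ^ blockDefect p B)
  omega

/-- Elements of `p`-power order in the stabilizer of a maximal pair lie in `Q C(Q)`. -/
theorem pElt_mem_of_maximal (hM : IsPModular p M) {B : Set (IrrCharacter G)} {Q : Subgroup G}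
    {e : Set (IrrCharacter (Subgroup.centralizer (Q : Set G)))}
    (hmax : IsMaximalBrauerPair p M B Q e) {g : G} (hg : g ∈ pairStab Q e)
    (hgp : ∃ k : ℕ, orderOf g = p ^ k) : g ∈ Q ⊔ Subgroup.centralizer (Q : Set G) := by
  classical
  haveI : Fact p.Prime := ⟨hM.1⟩
  haveI : Finite (MulAut Q) := Finite.of_injective (fun α : MulAut Q => (α : Q → Q))
    fun α β h => MulEquiv.ext (congrFun h)
  have hF := blockFusion_isBlockFusion hM hmax
  obtain ⟨R, hconj, haut, -⟩ := blockFusion_isSaturated hM hF Q le_rfl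
  obtain rfl : R = Q := Subgroup.eq_of_le_of_card_ge hconj.le_right hconj.card_eq.le
  rw [FusionSystem.isFullyAutomized_iff le_rfl,
    autGroup_block hM hF hmax.1.1.2 (Relation.ReflTransGen.refl)] at haut
  have hgN := ((mem_pairStab g).1 hg).1
  set ρ := autHom R (le_refl (Subgroup.normalizer (R : Set G))) with hρ
  set α : MulAut R := ρ ⟨g, hgN⟩ with hα
  have hRp : IsPGroup p R := hmax.1.1.1
  set I := autInducedBy R R with hI
  set A := autInducedBy (pairStab R e) R with hA
  have hαA : α ∈ A := Subgroup.subset_closure ⟨g, hg, fun x => rfl⟩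
  have hαI : α ∈ Subgroup.normalizer (I : Set (MulAut R)) := by
    refine mem_normalizer_of_forall_mem fun β hβ => ?_
    obtain ⟨r, hr, -, hβr⟩ := mem_autInducedBy_iff.1 hβ
    refine Subgroup.subset_closure ⟨g * r * g⁻¹, (Subgroup.mem_normalizer_iff.1 hgN r).1 hr,
      fun x => ?_⟩
    show g * ((β (α⁻¹ x) : R) : G) * g⁻¹ = _
    rw [hβr]
    have : ((α⁻¹ x : R) : G) = g⁻¹ * (x : G) * g := by
      have h := congrArg Subtype.val (α.apply_symm_apply x)
      change g * ((α⁻¹ x : R) : G) * g⁻¹ = x at h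
      rw [← h]; group
    rw [this]
    group
  have hαp : IsPGroup p (Subgroup.zpowers α) := by
    obtain ⟨k, hk⟩ := hgp
    refine isPGroup_zpowers hM.1 ?_
    obtain ⟨i, -, hi⟩ := (Nat.dvd_prime_pow hM.1).1 ((orderOf_map_dvd ρ ⟨g, hgN⟩).trans
      (by rw [Subgroup.orderOf_mk, hk]))
    exact ⟨i, hi⟩
  have hIp : IsPGroup p I := by
    intro β
    obtain ⟨r, hr, -, hβr⟩ := mem_autInducedBy_iff.1 β.2
    obtain ⟨k, hk⟩ := hRp ⟨r, hr⟩
    refine ⟨k, Subtype.ext ?_⟩
    have e1 : (β : MulAut R) = ρ ⟨r, Subgroup.le_normalizer hr⟩ :=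
      MulEquiv.ext fun x => Subtype.ext (hβr x)
    rw [Subgroup.coe_pow, Subgroup.coe_one, e1, ← map_pow, ← map_one ρ]
    exact congrArg ρ (Subtype.ext (by simpa using congrArg Subtype.val hk))
  have hJp : IsPGroup p (Subgroup.zpowers α ⊔ I : Subgroup (MulAut R)) :=
    IsPGroup.to_sup_of_normal_right' hαp hIp (Subgroup.zpowers_le.2 hαI)
  have hIA : I ≤ A := by
    intro β hβ
    obtain ⟨r, hr, -, hβr⟩ := mem_autInducedBy_iff.1 hβ
    exact Subgroup.subset_closure ⟨r, self_le_pairStab hM R e hr, hβr⟩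
  have hJA : Subgroup.zpowers α ⊔ I ≤ A := sup_le (Subgroup.zpowers_le.2 hαA) hIA
  obtain ⟨j, hj⟩ := IsPGroup.exists_card_eq hJp
  have hjle : p ^ j ≤ p ^ (Nat.card A).factorization p := Nat.pow_le_pow_right hM.1.pos
    ((hM.1.pow_dvd_iff_le_factorization Nat.card_pos.ne').1
      (hj ▸ Subgroup.card_dvd_of_le hJA))
  have heq : I = Subgroup.zpowers α ⊔ I :=
    Subgroup.eq_of_le_of_card_ge le_sup_right (by rw [hj, haut]; exact hjle)
  have hαmem : α ∈ I := heq.symm ▸ Subgroup.mem_sup_left (Subgroup.mem_zpowers α)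
  obtain ⟨r, hr, -, hαr⟩ := mem_autInducedBy_iff.1 hαmem
  have hmem : r⁻¹ * g ∈ Subgroup.centralizer (R : Set G) := fun x hx => by
    have h : g * x * g⁻¹ = r * x * r⁻¹ := hαr ⟨x, hx⟩
    calc x * (r⁻¹ * g) = r⁻¹ * (r * x * r⁻¹) * g := by group
      _ = r⁻¹ * (g * x * g⁻¹) * g := by rw [h]
      _ = r⁻¹ * g * x := by group
  rw [show g = r * (r⁻¹ * g) by group]
  exact Subgroup.mul_mem_sup hr hmem

/-- S4828. -/
theorem maximal_pair_criterion (hM : IsPModular p M) {Q : Subgroup G}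
    [Fintype (Subgroup.centralizer (Q : Set G))]
    {e : Set (IrrCharacter (Subgroup.centralizer (Q : Set G)))} (he : IsBrauerPair p M Q e) :
    (∃ B : Set (IrrCharacter G), IsMaximalBrauerPair p M B Q e) ↔
      ∃ θ ∈ e, (∀ z : Subgroup.centralizer (Q : Set G), (z : G) ∈ Q →
          (θ : Subgroup.centralizer (Q : Set G) → ℂ) z =
            (θ : Subgroup.centralizer (Q : Set G) → ℂ) 1) ∧
        dv p (θ : Subgroup.centralizer (Q : Set G) → ℂ) +
            (Nat.card ↥(Q ⊓ Subgroup.centralizer (Q : Set G))).factorization p =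
          (Nat.card (Subgroup.centralizer (Q : Set G))).factorization p ∧
        (∀ g : G, g ∈ Subgroup.normalizer (Q : Set G) →
          StabilizesBlock (Subgroup.centralizer (Q : Set G)) e g →
          (∃ k : ℕ, orderOf g = p ^ k) → g ∈ Q ⊔ Subgroup.centralizer (Q : Set G)) := by
  classical
  haveI : Fact p.Prime := ⟨hM.1⟩
  set Z := (Q ⊓ Subgroup.centralizer (Q : Set G)).subgroupOf (Subgroup.centralizer (Q : Set G))
    with hZdef
  have hcardZ : Nat.card Z = Nat.card ↥(Q ⊓ Subgroup.centralizer (Q : Set G)) :=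
    Nat.card_congr (Subgroup.subgroupOfEquivOfLe inf_le_right).toEquiv
  have hZc : Z ≤ Subgroup.center _ := fun z hz =>
    Subgroup.mem_center_iff.2 fun a => Subtype.ext (a.2 (z : G) hz.1).symm
  have hZp : IsPGroup p Z := (he.1.to_le inf_le_left).comap_subtype
  haveI := normal_of_central hZc
  constructor
  · rintro ⟨B, hmax⟩
    have hcard : Nat.card Z = p ^ blockDefect p e := by
      have hrefl : SubpairLE p M Q e Q e := Relation.ReflTransGen.refl
      obtain ⟨x, hle, hx⟩ := exists_conj_centP hM hmax he.2 hrefl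
      have heq : Q.map (MulAut.conj x).toMonoidHom = Q :=
        Subgroup.eq_of_le_of_card_ge (subpairLE_le (a := ⟨_, _⟩) (b := ⟨Q, e⟩) hle)
          (le_of_eq (card_map_conj Q x).symm)
      rw [heq] at hx
      rw [hx, hcardZ]
    obtain ⟨θ, hθe, hθ⟩ := exists_triv (P := Z) hM hZp he.2
    obtain ⟨-, -, hdv⟩ := triv_props hM hZp (sup_cent_of_central hZc) he.2 hcard hθe hθ
    refine ⟨θ, hθe, fun z hz => hθ z ⟨hz, z.2⟩, ?_, fun g hgN hst hgp =>
      pElt_mem_of_maximal hM hmax ((mem_pairStab g).2 ⟨hgN, hst⟩) hgp⟩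
    rw [← hcardZ, hcard, Nat.factorization_pow_self hM.1, hdv, blockDefect_eq]
    have := minDv_le_card hM he.2
    omega
  · rintro ⟨θ, hθe, -, hdv, hp⟩
    rw [← hcardZ] at hdv
    have hcard := card_eq_of_central_theta hM hZc hZp he.2 hθe hdv
    obtain ⟨B, hB⟩ := exists_block_of_pair hM he.1 he.2
    refine ⟨B, (maximal_iff_no_step hM hB).2 fun R g hlt hs => ?_⟩
    obtain ⟨-, ⟨hRp, hg⟩, hQR, hN, hst, -⟩ := id hs
    have hRQC : R ≤ Q ⊔ Subgroup.centralizer (Q : Set G) := by
      intro r hr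
      obtain ⟨k, hk⟩ := IsPGroup.iff_orderOf.1 hRp ⟨r, hr⟩
      exact hp r (hN hr) (hst r hr) ⟨k, by rw [← hk, Subgroup.orderOf_mk]⟩
    obtain ⟨r, hr, hrC, hrQ⟩ : ∃ r, r ∈ R ∧ r ∈ Subgroup.centralizer (Q : Set G) ∧ r ∉ Q := by
      obtain ⟨r, hr, hrQ⟩ := SetLike.exists_of_lt hlt
      have hrm : r ∈ ((Subgroup.centralizer (Q : Set G) ⊔ Q : Subgroup G) : Set G) := by
        rw [sup_comm]; exact hRQC hr
      rw [Subgroup.coe_mul_of_left_le_normalizer_right _ _
        (Subgroup.centralizer_le_normalizer (Q : Set G))] at hrm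
      obtain ⟨c, hc, q, hq, hqc⟩ := hrm
      refine ⟨c, ?_, hc, fun hcQ => hrQ (hqc ▸ Q.mul_mem hcQ hq)⟩
      rw [show c = r * q⁻¹ by rw [← hqc]; simp]
      exact R.mul_mem hr (R.inv_mem (hQR hq))
    obtain ⟨ξ, hξ⟩ := bne hM hg
    have hlam := normalSubpair_lam hM hs hξ
    obtain ⟨c, hcR, hc0⟩ : ∃ c ∈ Subgroup.centralizer (R : Set G),
        res hM (subgroupBlockCoeff (Subgroup.centralizer (Q : Set G)) e c) ≠ 0 := by
      by_contra hno
      push Not at hno
      haveI := res_isDomain hM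
      rw [lam_congr hM (nice_subgroupBlockCoeff hM (centralizer_anti hQR) he.2 hst) (Nice.zero hM)
        (fun c hc => by rw [hno c hc, res_zero]) ξ, lam_zero] at hlam
      exact zero_ne_one hlam
    have hcQ : c ∈ Subgroup.centralizer (Q : Set G) := centralizer_anti hQR hcR
    set R' := R.subgroupOf (Subgroup.centralizer (Q : Set G)) with hR'
    obtain ⟨D, hD, hRD⟩ := exists_defectGroup_ge hM he.2 (l := ⟨c, hcQ⟩)
      (fun h0 => hc0 (by
        rw [show subgroupBlockCoeff (Subgroup.centralizer (Q : Set G)) e c = blockCoeff e ⟨c, hcQ⟩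
          from sext_coe _ _ ⟨c, hcQ⟩]
        exact (res_eq_zero_iff hM (memRing_blockCoeff hM he.2 _)).2 h0))
      (P := R') hRp.comap_subtype (fun x hx => by
        rw [Subgroup.mem_centralizer_singleton_iff]
        exact Subtype.ext (hcR (x : G) hx))
    have hZD : Z ≤ R' := fun z hz => hQR hz.1
    have h1 : Nat.card D ≤ Nat.card Z := by rw [card_defectGroup hM he.2 hD, hcard]
    have h2 : Z = R' := Subgroup.eq_of_le_of_card_ge hZD
      ((Subgroup.card_le_of_le hRD).trans h1)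
    exact hrQ ((h2.symm ▸ (hr : (⟨r, hrC⟩ : Subgroup.centralizer (Q : Set G)) ∈ R') :
      (⟨r, hrC⟩ : Subgroup.centralizer (Q : Set G)) ∈ Z).1)

end CfsgLib.Blocks
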