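import Mathlib.GroupTheory.Sylow
import Mathlib.GroupTheory.GroupAction.Quotient
import Mathlib.LinearAlgebra.Matrix.ToLin
import Cfsg.Agent.Lib.Blocks.GroupAlgebra

/-!
# Central idempotents of least dimension in a modular group algebra

If the ideal generated by a central idempotent `ε` has dimension `p ^ (2 a - d)`, where `p ^ a` is
the order of a `p`-subgroup `P` and every element in the support of `ε` centralizes at most `p ^ d`
elements of a `p`-subgroup, then the ideal is the linearization of a transitive `P × P`-set, and so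
an element normalizing a subgroup `Q` of `P` with nonzero Brauer image acts on `Q` as an element
of `P`.
-/

namespace CfsgLib.Blocks

open Module

set_option linter.unusedVariables false
set_option linter.unusedSimpArgs false
set_option linter.unusedSectionVars false

/-- An invariant sum over a `p`-group action without fixed points vanishes in characteristic `p`. -/
theorem sum_eq_zero_of_no_fixed {k : Type*} [CommRing k] {p : ℕ} [Fact p.Prime] [CharP k p]
    {P : Type*} [Group P] (hP : IsPGroup p P) {ι : Type*} [Fintype ι] [MulAction P ι] (f : ι → k)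
    (hf : ∀ (g : P) i, f (g • i) = f i) (hno : ∀ i : ι, ∃ g : P, g • i ≠ i) : ∑ i, f i = 0 := by
  classical
  rw [← Finset.sum_fiberwise_of_maps_to (s := Finset.univ) (t := Finset.univ.image f)
      (g := f) (fun i hi => Finset.mem_image_of_mem f hi) f]
  refine Finset.sum_eq_zero fun a _ => ?_
  let Q : SubMulAction P ι :=
    { carrier := {i | f i = a}, smul_mem' := fun g i hi => by simpa [hf] using hi }
  rw [Finset.sum_congr rfl fun i hi => (Finset.mem_filter.1 hi).2, Finset.sum_const, nsmul_eq_mul]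
  have h := hP.card_modEq_card_fixedPoints Q
  have e1 : Nat.card Q = (Finset.univ.filter fun i => f i = a).card := by
    rw [show Nat.card Q = Nat.card {i // f i = a} from rfl, Nat.card_eq_fintype_card,
      Fintype.card_subtype]
  haveI : IsEmpty (MulAction.fixedPoints P Q) := ⟨fun x => by
    obtain ⟨g, hg⟩ := hno x.1.1
    exact hg (congrArg Subtype.val (x.2 g))⟩
  rw [Nat.card_of_isEmpty (α := MulAction.fixedPoints P Q), e1] at h
  rw [(CharP.cast_eq_zero_iff k p _).2 (Nat.modEq_zero_iff_dvd.1 h), zero_mul]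

/-- Central idempotents whose ideal has least possible dimension. -/
theorem exists_inner_of_minimal {k : Type*} [Field k] {p : ℕ} [Fact p.Prime] [CharP k p]
    {G : Type*} [Group G] [Fintype G] [DecidableEq G] (ε : G → k)
    (hcl : ∀ g x, ε (x * g * x⁻¹) = ε g) (hidem : ∀ g, ∑ x, ε x * ε (x⁻¹ * g) = ε g)
    (hne : ∃ g, ε g ≠ 0) (P : Subgroup G) (hP : IsPGroup p P) {a d : ℕ}
    (hPa : Nat.card P = p ^ a) (hda : d ≤ a)
    (hrank : finrank k
      (LinearMap.range (Matrix.toLin' (Matrix.of fun x y : G => ε (x * y⁻¹)))) = p ^ (2 * a - d))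
    (hd : ∀ h, ε h ≠ 0 → ∀ R : Subgroup G, IsPGroup p R →
      R ≤ Subgroup.centralizer ({h} : Set G) → Nat.card R ≤ p ^ d)
    {Q : Subgroup G} (hQP : Q ≤ P) {c : G} (hc : c ∈ Subgroup.centralizer (Q : Set G))
    (hεc : ε c ≠ 0) {g : G} (hg : g ∈ Subgroup.normalizer (Q : Set G)) :
    ∃ y ∈ P, ∀ q ∈ Q, g * q * g⁻¹ = y * q * y⁻¹ := by
  classical
  have hcomm : ∀ x y, ε (x * y) = ε (y * x) := fun x y => by
    rw [← hcl (y * x) x]; congr 1; group
  set f := Matrix.toLin' (Matrix.of fun x y : G => ε (x * y⁻¹)) with hf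
  set W := LinearMap.range f with hWdef
  have hfa : ∀ (v : G → k) z, f v z = ∑ b, ε (z * b⁻¹) * v b := fun v z => by
    rw [hf, Matrix.toLin'_apply]; rfl
  have hproj : ∀ z w, ∑ b, ε (z * b⁻¹) * ε (b * w⁻¹) = ε (z * w⁻¹) := by
    intro z w
    rw [← hidem (z * w⁻¹)]
    refine Fintype.sum_equiv ((Equiv.inv G).trans (Equiv.mulLeft z)) _ _ fun b => ?_
    simp [mul_assoc]
  set E : G → (G → k) := fun w z => ε (z * w⁻¹) with hE
  have hEW : ∀ w, E w ∈ W := fun w => ⟨E w, funext fun z => by rw [hfa]; exact hproj z w⟩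
  have hfix : ∀ v ∈ W, f v = v := by
    rintro _ ⟨u, rfl⟩
    funext z
    simp only [hfa, Finset.mul_sum]
    rw [Finset.sum_comm]
    refine Finset.sum_congr rfl fun b _ => ?_
    simp only [← mul_assoc, ← Finset.sum_mul, hproj]
  -- a vector fixed by `P`
  let ρ : P →* ((G → k) →ₗ[k] (G → k)) :=
    { toFun := fun y => LinearMap.funLeft k k (fun z => z * (y : G))
      map_one' := by ext v z; simp [LinearMap.funLeft_apply]
      map_mul' := fun y y' => by
        apply LinearMap.ext; intro v; funext z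
        simp [LinearMap.funLeft_apply, mul_assoc] }
  have hρW : ∀ y, ∀ v ∈ W, ρ y v ∈ W := by
    intro y v hv
    refine ⟨ρ y v, funext fun z => ?_⟩
    show f (ρ y v) z = v (z * (y : G))
    rw [← congrFun (hfix v hv) (z * (y : G)), hfa, hfa]
    refine Fintype.sum_equiv (Equiv.mulRight (y : G)) _ _ fun b => ?_
    simp [ρ, LinearMap.funLeft_apply, mul_assoc]
  obtain ⟨g₀, hg₀⟩ := hne
  have hv0 : E 1 ≠ 0 := fun h => hg₀ (by simpa [hE] using congrFun h g₀)
  obtain ⟨v, hvW, hv, hvfix⟩ := exists_fixed_vector hP ρ hv0 W (hEW 1) hρW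
  have hΦ : ∃ z, ∑ y : P, ε (z * (y : G)⁻¹) ≠ 0 := by
    by_contra hno
    push Not at hno
    apply hv
    funext z
    rw [← congrFun (hfix v hvW) z, hfa, Pi.zero_apply,
      ← Finset.sum_fiberwise Finset.univ (QuotientGroup.mk : G → G ⧸ P)]
    refine Finset.sum_eq_zero fun q _ => ?_
    have h1 : ∑ b ∈ Finset.univ.filter (fun b : G => (b : G ⧸ P) = q), ε (z * b⁻¹) * v b =
        ∑ y : P, ε (z * (q.out * (y : G))⁻¹) * v (q.out * (y : G)) := by
      symm
      refine Finset.sum_bij (fun y _ => q.out * (y : G)) ?_ ?_ ?_ (fun _ _ => rfl)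
      · intro y _
        refine Finset.mem_filter.2 ⟨Finset.mem_univ _, ?_⟩
        conv_rhs => rw [← QuotientGroup.out_eq' q]
        rw [QuotientGroup.eq]
        simp
      · intro y _ y' _ h
        exact Subtype.ext (mul_left_cancel h)
      · intro b hb
        refine ⟨⟨q.out⁻¹ * b, QuotientGroup.eq.1 ?_⟩, Finset.mem_univ _, by simp⟩
        rw [QuotientGroup.out_eq', (Finset.mem_filter.1 hb).2]
    rw [h1]
    have h2 : ∀ y : P, v (q.out * (y : G)) = v q.out := fun y => by
      have := congrFun (hvfix y) q.out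
      simpa [ρ, LinearMap.funLeft_apply] using this
    simp only [h2, ← Finset.sum_mul]
    refine mul_eq_zero_of_left (Eq.trans ?_ (hno (q.out⁻¹ * z))) _
    refine Finset.sum_congr rfl fun y _ => ?_
    rw [mul_inv_rev, ← mul_assoc, hcomm (z * _), mul_assoc]
  -- an element of the support with nonvanishing orbit sum
  set T : G → (G → k) := fun x => ∑ y : P, E ((y : G) * x) with hT
  have hsum : ∑ x, ε x • T x ≠ 0 := by
    intro h
    obtain ⟨z, hz⟩ := hΦ
    apply hz
    refine Eq.trans ?_ (congrFun h z)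
    simp only [hT, Finset.sum_apply, Pi.smul_apply, smul_eq_mul, Finset.mul_sum, hE]
    rw [Finset.sum_comm]
    refine Finset.sum_congr rfl fun y _ => ?_
    rw [hcomm z, ← hidem ((y : G)⁻¹ * z)]
    refine Finset.sum_congr rfl fun x _ => ?_
    rw [hcomm z, mul_inv_rev, mul_assoc]
  set orb : G → Finset G := fun x => Finset.univ.image fun y : P => (y : G) * x * (y : G)⁻¹
    with horb
  have horbeq : ∀ h x, x ∈ orb h → orb x = orb h := by
    intro h x hx
    obtain ⟨y, -, rfl⟩ := Finset.mem_image.1 hx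
    ext t
    simp only [horb, Finset.mem_image, Finset.mem_univ, true_and]
    constructor
    · rintro ⟨u, rfl⟩; exact ⟨u * y, by simp [mul_assoc]⟩
    · rintro ⟨u, rfl⟩; exact ⟨u * y⁻¹, by simp [mul_assoc]⟩
  rw [← Finset.sum_fiberwise_of_maps_to (s := Finset.univ) (t := Finset.univ.image orb) (g := orb)
    (fun i hi => Finset.mem_image_of_mem orb hi) (fun x => ε x • T x)] at hsum
  obtain ⟨K, hK, hK0⟩ := Finset.exists_ne_zero_of_sum_ne_zero hsum
  obtain ⟨h, -, rfl⟩ := Finset.mem_image.1 hK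
  set C : Subgroup P := (Subgroup.centralizer ({h} : Set G)).comap P.subtype with hC
  have hCmem : ∀ y : P, y ∈ C ↔ (y : G) * h = h * (y : G) := fun y => by
    rw [hC, Subgroup.mem_comap, Subgroup.mem_centralizer_singleton_iff]; rfl
  have hwd : ∀ y y' : P, (y : P ⧸ C) = (y' : P ⧸ C) →
      (y : G) * h * (y : G)⁻¹ = (y' : G) * h * (y' : G)⁻¹ := by
    intro y y' e
    obtain ⟨u, hu, rfl⟩ : ∃ u ∈ C, y' = y * u := ⟨y⁻¹ * y', QuotientGroup.eq.1 e, by simp⟩
    have := (hCmem u).1 hu
    rw [Subgroup.coe_mul, mul_inv_rev]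
    calc (y : G) * h * (y : G)⁻¹ = y * ((u : G) * h * (u : G)⁻¹) * (y : G)⁻¹ := by
          rw [this]; group
      _ = _ := by group
  set cj : P ⧸ C → G := fun q => ((q.out : P) : G) * h * ((q.out : P) : G)⁻¹ with hcj
  have hcjmk : ∀ y : P, cj (y : P ⧸ C) = (y : G) * h * (y : G)⁻¹ := fun y =>
    hwd _ _ (QuotientGroup.out_eq' _)
  set S : G → k := ∑ q : P ⧸ C, T (cj q) with hS
  have hfib : ∑ x ∈ Finset.univ.filter (fun x => orb x = orb h), ε x • T x = ε h • S := by
    rw [hS, Finset.smul_sum]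
    symm
    refine Finset.sum_bij (fun q _ => cj q) ?_ ?_ ?_ ?_
    · intro q _
      exact Finset.mem_filter.2 ⟨Finset.mem_univ _, horbeq h _
        (Finset.mem_image.2 ⟨q.out, Finset.mem_univ _, rfl⟩)⟩
    · intro q _ q' _ e
      rw [← QuotientGroup.out_eq' q, ← QuotientGroup.out_eq' q', QuotientGroup.eq, hCmem]
      simp only [hcj] at e
      rw [Subgroup.coe_mul, Subgroup.coe_inv]
      calc ((q.out : P) : G)⁻¹ * ((q'.out : P) : G) * h
          = ((q.out : P) : G)⁻¹ * (((q'.out : P) : G) * h * ((q'.out : P) : G)⁻¹) *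
            ((q'.out : P) : G) := by group
        _ = _ := by rw [← e]; group
    · intro x hx
      have h1 : x ∈ orb h := by
        rw [← (Finset.mem_filter.1 hx).2]
        exact Finset.mem_image.2 ⟨1, Finset.mem_univ _, by simp⟩
      obtain ⟨y, -, rfl⟩ := Finset.mem_image.1 h1
      exact ⟨(y : P ⧸ C), Finset.mem_univ _, hcjmk y⟩
    · intro q _
      simp only [hcj, hcl]
  rw [hfib, smul_ne_zero_iff] at hK0
  obtain ⟨hεh, hS0⟩ := hK0
  -- the equivariant map
  set wt : P × (P ⧸ C) → G := fun x => (x.1 : G) * cj x.2 with hwt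
  set L : (P × (P ⧸ C) → k) →ₗ[k] (G → k) := Fintype.linearCombination k (fun x => E (wt x))
    with hL
  have hLa : ∀ l, L l = ∑ x, l x • E (wt x) := fun l => by
    rw [hL, Fintype.linearCombination_apply]
  let act : P × P → P × (P ⧸ C) → P × (P ⧸ C) := fun uz x => (uz.1 * x.1 * uz.2⁻¹, uz.2 • x.2)
  have hact1 : ∀ x, act 1 x = x := fun x => by simp [act]
  have hact2 : ∀ s t x, act (s * t) x = act s (act t x) := fun s t x => by
    simp [act, mul_assoc, mul_smul]
  have hwact : ∀ uz x, wt (act uz x) = (uz.1 : G) * wt x * (uz.2 : G)⁻¹ := by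
    intro uz x
    obtain ⟨y, hy⟩ := QuotientGroup.mk_surjective x.2
    simp only [hwt, act]
    rw [← hy, MulAction.Quotient.smul_mk, hcjmk, hcjmk]
    simp [mul_assoc]
  have hLact : ∀ uz l z, L (fun x => l (act uz x)) z =
      L l ((uz.1 : G) * z * (uz.2 : G)⁻¹) := by
    intro uz l z
    simp only [hLa, Finset.sum_apply, Pi.smul_apply, smul_eq_mul]
    refine Fintype.sum_equiv
      ⟨act uz, act uz⁻¹, fun x => by rw [← hact2, inv_mul_cancel, hact1],
        fun x => by rw [← hact2, mul_inv_cancel, hact1]⟩ _ _ fun x => ?_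
    show _ = l (act uz x) * E (wt (act uz x)) _
    congr 1
    simp only [hE]
    rw [hwact]
    rw [← hcl (z * (wt x)⁻¹) (uz.1 : G)]
    congr 1
    group
  have hPP : IsPGroup p (P × P) := IsPGroup.of_card (n := a + a) (by
    rw [Nat.card_prod, hPa, pow_add])
  let σ : P × P →* ((P × (P ⧸ C) → k) →ₗ[k] (P × (P ⧸ C) → k)) :=
    { toFun := fun uz => LinearMap.funLeft k k (act uz⁻¹)
      map_one' := by ext l x; simp [LinearMap.funLeft_apply, hact1]
      map_mul' := fun s t => by
        apply LinearMap.ext; intro l; funext x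
        simp only [LinearMap.funLeft_apply, Module.End.mul_apply, mul_inv_rev, hact2] }
  have hker : LinearMap.ker L = ⊥ := by
    rw [Submodule.eq_bot_iff]
    by_contra hne'
    push Not at hne'
    obtain ⟨l, hl, hl0⟩ := hne'
    obtain ⟨w, hw, hw0, hwfix⟩ := exists_fixed_vector hPP σ hl0 (LinearMap.ker L) hl
      (fun uz w hw => by
        rw [LinearMap.mem_ker] at hw ⊢
        funext z
        refine (hLact uz⁻¹ w z).trans ?_
        rw [hw]; rfl)
    apply hw0
    have hconst : ∀ x, w x = w (1, ((1 : P) : P ⧸ C)) := by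
      intro x
      obtain ⟨y, hy⟩ := QuotientGroup.mk_surjective x.2
      have h1 := congrFun (hwfix (x.1 * y, y)⁻¹) (1, ((1 : P) : P ⧸ C))
      simp only [σ, MonoidHom.coe_mk, OneHom.coe_mk, LinearMap.funLeft_apply, inv_inv] at h1
      rw [← h1]
      congr 1
      simp only [act]
      rw [MulAction.Quotient.smul_mk]
      refine Prod.ext (by simp) ?_
      simp only [smul_eq_mul, mul_one, hy]
    set c0 := w (1, ((1 : P) : P ⧸ C)) with hc0
    have h2 : c0 • S = 0 := by
      rw [← LinearMap.mem_ker.1 hw, hLa, Finset.sum_congr rfl fun x _ => by rw [hconst x],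
        ← Finset.smul_sum, Fintype.sum_prod_type, Finset.sum_comm]
    rcases smul_eq_zero.1 h2 with h3 | h3
    · funext x; rw [hconst x, h3]; rfl
    · exact absurd h3 hS0
  have hLW : LinearMap.range L ≤ W := by
    rintro _ ⟨l, rfl⟩
    rw [hLa]
    exact W.sum_mem fun x _ => W.smul_mem _ (hEW _)
  have hrange : LinearMap.range L = W := by
    refine Submodule.eq_of_le_of_finrank_le hLW ?_
    rw [LinearMap.finrank_range_of_inj (LinearMap.ker_eq_bot.1 hker),
      Module.finrank_fintype_fun_eq_card, hrank, Fintype.card_prod, ← Nat.card_eq_fintype_card,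
      ← Nat.card_eq_fintype_card]
    have hCd : Nat.card C ≤ p ^ d := by
      rw [← Subgroup.card_map_of_injective P.subtype_injective]
      exact hd h hεh _ ((hP.to_subgroup C).map _) (Subgroup.map_comap_le _ _)
    have hmul : Nat.card (P ⧸ C) * Nat.card C = Nat.card P :=
      (Subgroup.card_eq_card_quotient_mul_card_subgroup C).symm
    refine Nat.le_of_mul_le_mul_right ?_ (Nat.card_pos (α := C))
    calc p ^ (2 * a - d) * Nat.card C ≤ p ^ (2 * a - d) * p ^ d := Nat.mul_le_mul_left _ hCd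
      _ = p ^ a * p ^ a := by rw [← pow_add, ← pow_add]; congr 1; omega
      _ = _ := by rw [mul_assoc, hmul, hPa]
  obtain ⟨l, hl⟩ : E g ∈ LinearMap.range L := hrange ▸ hEW g
  -- the twisted action of `Q`
  have hgQ : ∀ q ∈ Q, g * q * g⁻¹ ∈ Q := fun q hq => (Subgroup.mem_normalizer_iff.1 hg q).1 hq
  let φ : Q →* P × P :=
    { toFun := fun q => (⟨g * q * g⁻¹, hQP (hgQ q q.2)⟩, ⟨q, hQP q.2⟩)
      map_one' := Prod.ext (Subtype.ext (by simp)) (Subtype.ext rfl)
      map_mul' := fun q q' => Prod.ext (Subtype.ext (by simp [mul_assoc])) (Subtype.ext rfl) }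
  letI : MulAction Q (P × (P ⧸ C)) :=
    { smul := fun q x => act (φ q) x
      one_smul := fun x => by show act (φ 1) x = x; rw [map_one, hact1]
      mul_smul := fun q q' x => by
        show act (φ (q * q')) x = act (φ q) (act (φ q') x); rw [map_mul, hact2] }
  have hlinv : ∀ (q : Q) x, l (act (φ q) x) = l x := by
    intro q x
    have h1 : L (fun x => l (act (φ q) x)) = L l := by
      funext z
      rw [hLact, hl]
      simp only [hE, φ, MonoidHom.coe_mk, OneHom.coe_mk]
      rw [← hcl (z * g⁻¹) (g * q * g⁻¹)]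
      congr 1
      group
    exact congrFun (LinearMap.ker_eq_bot.1 hker h1) x
  obtain ⟨x, hx⟩ : ∃ x : P × (P ⧸ C), ∀ q : Q, q • x = x := by
    by_contra hno
    push Not at hno
    apply hεc
    have h1 : L l (g * c) = ε c := by
      rw [hl, hE]; exact hcl c g
    rw [← h1, hLa]
    simp only [Finset.sum_apply, Pi.smul_apply, smul_eq_mul]
    refine sum_eq_zero_of_no_fixed (hP.to_le hQP) _ (fun q x => ?_) hno
    show l (act (φ q) x) * _ = _
    rw [hlinv]
    congr 1
    simp only [hE]
    show ε (g * c * (wt (act (φ q) x))⁻¹) = _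
    rw [hwact]
    simp only [φ, MonoidHom.coe_mk, OneHom.coe_mk]
    have hcq := hc (q : G) q.2
    rw [← hcl (g * c * (wt x)⁻¹) (g * q * g⁻¹)]
    congr 1
    calc g * c * ((g * q * g⁻¹) * wt x * (q : G)⁻¹)⁻¹
        = g * (c * q) * (wt x)⁻¹ * (g * q * g⁻¹)⁻¹ := by group
      _ = g * (q * c) * (wt x)⁻¹ * (g * q * g⁻¹)⁻¹ := by rw [hcq]
      _ = _ := by group
  refine ⟨(x.1 : G), x.1.2, fun q hq => ?_⟩
  have h1 := congrArg (fun t : P × (P ⧸ C) => (t.1 : G)) (hx ⟨q, hq⟩)
  change g * q * g⁻¹ * (x.1 : G) * q⁻¹ = (x.1 : G) at h1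
  calc g * q * g⁻¹ = (g * q * g⁻¹ * (x.1 : G) * q⁻¹) * q * (x.1 : G)⁻¹ := by group
    _ = _ := by rw [h1]

/-- If an element acts on a subgroup as an element of `p`-power order then, being itself of order
prime to `p`, it centralizes the subgroup. -/
theorem mem_centralizer_of_inner {G : Type*} [Group G] {p : ℕ} [Fact p.Prime] {Q : Subgroup G}
    {g y : G} (hg : g ∈ Subgroup.normalizer (Q : Set G)) (hreg : ¬ p ∣ orderOf g) {k : ℕ}
    (hy : y ^ p ^ k = 1) (h : ∀ q ∈ Q, g * q * g⁻¹ = y * q * y⁻¹) :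
    g ∈ Subgroup.centralizer (Q : Set G) := by
  have hpow : ∀ n : ℕ, ∀ q ∈ Q, g ^ n * q * (g ^ n)⁻¹ = y ^ n * q * (y ^ n)⁻¹ := by
    intro n
    induction n with
    | zero => simp
    | succ n ih =>
      intro q hq
      calc g ^ (n + 1) * q * (g ^ (n + 1))⁻¹ = g ^ n * (g * q * g⁻¹) * (g ^ n)⁻¹ := by
            rw [pow_succ]; group
        _ = y ^ n * (g * q * g⁻¹) * (y ^ n)⁻¹ :=
            ih _ ((Subgroup.mem_normalizer_iff.1 hg q).1 hq)
        _ = y ^ (n + 1) * q * (y ^ (n + 1))⁻¹ := by rw [h q hq, pow_succ]; group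
  have h1 : g ^ p ^ k ∈ Subgroup.centralizer (Q : Set G) := fun q hq => by
    have := hpow (p ^ k) q hq
    rw [hy, one_mul, inv_one, mul_one] at this
    exact (mul_inv_eq_iff_eq_mul.1 this).symm
  obtain ⟨m, hm⟩ := exists_pow_eq_self_of_coprime
    (Nat.Coprime.pow_left k (((Fact.out : p.Prime).coprime_iff_not_dvd).2 hreg))
  rw [← hm]
  exact Subgroup.pow_mem _ h1 m

end CfsgLib.Blocks
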