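import Cfsg.Agent.Lib.Blocks.BlockFusion
import Cfsg.Agent.Lib.Blocks.MaxPairs
import Cfsg.Agent.Lib.Blocks.BlockSat
import Cfsg.Agent.Lib.Blocks.Covering
import Cfsg.Agent.Lib.Blocks.Knorr

/-!
# Nilpotent blocks over a normal subgroup of `p`-power index
-/

namespace CfsgLib.Blocks

open Cfsg CfsgLib.CharTheory
open scoped ComplexConjugate

set_option linter.unusedVariables false
set_option linter.style.haveILetI false
set_option linter.unusedSectionVars false

universe u

variable {p : ℕ} {M : Ideal AlgInt} {G : Type u} [Group G] [Fintype G]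

/-- Conjugates of a block of a subgroup compose. -/
theorem image_conjE_mul {J : Subgroup G} [Fintype J] {a b : G}
    (ha : a ∈ Subgroup.normalizer (J : Set G)) (hb : b ∈ Subgroup.normalizer (J : Set G))
    (d : Set (IrrCharacter J)) :
    irrPull (conjE ha) '' (irrPull (conjE hb) '' d) =
      irrPull (conjE ((Subgroup.normalizer (J : Set G)).mul_mem ha hb)) '' d := by
  rw [Set.image_image]
  refine Set.image_congr fun χ _ => Subtype.ext (funext fun k => ?_)
  simp only [irrPull_apply]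
  exact congrArg _ (Subtype.ext (by simp [mul_assoc]))

variable (N : Subgroup G) [hN : N.Normal]

/-- A block of `C_N(R)` below a block of `C_G(R)`. -/
def CovAt (R : Subgroup G) [Fintype ↥(Subgroup.centralizer (R : Set G) ⊓ N)]
    (f : Set (IrrCharacter (Subgroup.centralizer (R : Set G))))
    (d : Set (IrrCharacter ↥(Subgroup.centralizer (R : Set G) ⊓ N))) : Prop :=
  ∃ ψ ∈ f, ∃ θ ∈ d, classInner
    (fun j : ↥(Subgroup.centralizer (R : Set G) ⊓ N) =>
      (ψ : Subgroup.centralizer (R : Set G) → ℂ) (Subgroup.inclusion inf_le_left j))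
    (θ : ↥(Subgroup.centralizer (R : Set G) ⊓ N) → ℂ) ≠ 0

section

variable {N} (R : Subgroup G) [Fintype (Subgroup.centralizer (R : Set G))]
  [Fintype ↥(Subgroup.centralizer (R : Set G) ⊓ N)]
  [Fintype ((Subgroup.centralizer (R : Set G) ⊓ N).subgroupOf (Subgroup.centralizer (R : Set G)))]

/-- The subgroup `C_N(R)` inside `C_G(R)`. -/
abbrev kSub : Subgroup (Subgroup.centralizer (R : Set G)) :=
  (Subgroup.centralizer (R : Set G) ⊓ N).subgroupOf (Subgroup.centralizer (R : Set G))

instance kSub_normal : (kSub (N := N) R).Normal :=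
  ⟨fun k hk h => Subgroup.mem_subgroupOf.2 (Subgroup.mem_inf.2
    ⟨(h * k * h⁻¹).2, hN.conj_mem (k : G) (Subgroup.mem_inf.1 (Subgroup.mem_subgroupOf.1 hk)).2 h⟩)⟩

/-- The identification of the two copies of `C_N(R)`. -/
noncomputable abbrev kEquiv : kSub (N := N) R ≃* ↥(Subgroup.centralizer (R : Set G) ⊓ N) :=
  Subgroup.subgroupOfEquivOfLe inf_le_left

theorem kSub_index (hidx : ∃ k : ℕ, N.index = p ^ k) (hp : p.Prime) :
    ∃ k : ℕ, (kSub (N := N) R).index = p ^ k := by
  obtain ⟨k, hk⟩ := hidx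
  obtain ⟨j, -, hj⟩ := (Nat.dvd_prime_pow hp).1 (hk ▸ (show (kSub (N := N) R).index ∣ N.index by
    show (Subgroup.centralizer (R : Set G) ⊓ N).relIndex (Subgroup.centralizer (R : Set G)) ∣ _
    rw [Subgroup.inf_relIndex_left]
    exact Subgroup.relIndex_dvd_index_of_normal N _))
  exact ⟨j, hj⟩

theorem covAt_iff (f : Set (IrrCharacter (Subgroup.centralizer (R : Set G))))
    (d : Set (IrrCharacter ↥(Subgroup.centralizer (R : Set G) ⊓ N))) :
    CovAt N R f d ↔ ∃ ψ ∈ f, ∃ θ ∈ irrPull (kEquiv (N := N) R) '' d,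
      classInner (fun k : kSub (N := N) R => (ψ : Subgroup.centralizer (R : Set G) → ℂ) k) (θ : kSub (N := N) R → ℂ) ≠ 0 := by
  have key : ∀ (ψ : IrrCharacter (Subgroup.centralizer (R : Set G)))
      (θ : IrrCharacter ↥(Subgroup.centralizer (R : Set G) ⊓ N)),
      classInner (fun k : kSub (N := N) R => (ψ : Subgroup.centralizer (R : Set G) → ℂ) k)
          (irrPull (kEquiv (N := N) R) θ : kSub (N := N) R → ℂ) =
        classInner (fun j : ↥(Subgroup.centralizer (R : Set G) ⊓ N) =>
          (ψ : Subgroup.centralizer (R : Set G) → ℂ) (Subgroup.inclusion inf_le_left j))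
          (θ : ↥(Subgroup.centralizer (R : Set G) ⊓ N) → ℂ) := by
    intro ψ θ
    unfold classInner
    rw [Nat.card_congr (kEquiv (N := N) R).toEquiv]
    congr 1
    exact Fintype.sum_equiv (kEquiv (N := N) R).toEquiv _ _ fun x => rfl
  constructor
  · rintro ⟨ψ, hψ, θ, hθ, h⟩
    exact ⟨ψ, hψ, _, ⟨θ, hθ, rfl⟩, by rwa [key]⟩
  · rintro ⟨ψ, hψ, _, ⟨θ, hθ, rfl⟩, h⟩
    exact ⟨ψ, hψ, θ, hθ, by rwa [key] at h⟩

theorem covAt_unique (hM : IsPModular p M) (hidx : ∃ k : ℕ, N.index = p ^ k)
    {f f' : Set (IrrCharacter (Subgroup.centralizer (R : Set G)))}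
    {d : Set (IrrCharacter ↥(Subgroup.centralizer (R : Set G) ⊓ N))}
    (hf : IsPBlock M f) (hf' : IsPBlock M f') (hd : IsPBlock M d) (h : CovAt N R f d)
    (h' : CovAt N R f' d) : f = f' :=
  covering_unique hM (kSub_index R hidx hM.1) (isPBlock_image _ hd) hf hf'
    ((covAt_iff R f d).1 h) ((covAt_iff R f' d).1 h')

theorem exists_covAt_above (hM : IsPModular p M)
    {d : Set (IrrCharacter ↥(Subgroup.centralizer (R : Set G) ⊓ N))} (hd : IsPBlock M d) :
    ∃ f : Set (IrrCharacter (Subgroup.centralizer (R : Set G))), IsPBlock M f ∧ CovAt N R f d := by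
  obtain ⟨f, hf, h⟩ := exists_covering (G := Subgroup.centralizer (R : Set G)) hM
    (isPBlock_image (kEquiv (N := N) R) hd)
  exact ⟨f, hf, (covAt_iff R f d).2 h⟩

theorem exists_covAt_below (hM : IsPModular p M)
    {f : Set (IrrCharacter (Subgroup.centralizer (R : Set G)))} (hf : IsPBlock M f) :
    ∃ d : Set (IrrCharacter ↥(Subgroup.centralizer (R : Set G) ⊓ N)),
      IsPBlock M d ∧ CovAt N R f d := by
  obtain ⟨ψ, hψ⟩ := block_nonempty hM hf
  obtain ⟨θ, hθ⟩ := exists_res_constituent (N := kSub (N := N) R) ψ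
  refine ⟨irrPull (kEquiv (N := N) R).symm '' blockOf M (θ : kSub (N := N) R → ℂ),
    isPBlock_image _ (blockOf_isPBlock θ), (covAt_iff R f _).2 ⟨ψ, hψ, θ, ?_, hθ⟩⟩
  refine ⟨_, ⟨θ, mem_blockOf_self hM θ, rfl⟩, irrPull_symm _ θ⟩

/-- Two blocks below the same block are conjugate. -/
theorem exists_conj_covAt (hM : IsPModular p M)
    {f : Set (IrrCharacter (Subgroup.centralizer (R : Set G)))}
    {d d' : Set (IrrCharacter ↥(Subgroup.centralizer (R : Set G) ⊓ N))}
    (hf : IsPBlock M f) (hd : IsPBlock M d) (hd' : IsPBlock M d') (h : CovAt N R f d)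
    (h' : CovAt N R f d') :
    ∃ g ∈ Subgroup.centralizer (R : Set G),
      ∃ hg : g ∈ Subgroup.normalizer ((Subgroup.centralizer (R : Set G) ⊓ N : Subgroup G) : Set G),
        irrPull (conjE hg) '' d = d' := by
  obtain ⟨ψ, hψ, θ, hθ, hne⟩ := (covAt_iff R f d').1 h'
  have hc := res_covFn_covers hM hf (isPBlock_image (kEquiv (N := N) R) hd)
    ((covAt_iff R f d).1 h) hψ
  obtain ⟨c, hc, hθc⟩ := constituent_mem_orbit hM hc hne
  obtain ⟨x, rfl⟩ := mem_covOrb.1 hc
  have e := (eq_blockOf hM (isPBlock_covOrb (isPBlock_image _ hd) hc) hθc).trans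
    (eq_blockOf hM (isPBlock_image _ hd') hθ).symm
  have hx : (x : G) ∈
      Subgroup.normalizer ((Subgroup.centralizer (R : Set G) ⊓ N : Subgroup G) : Set G) := by
    rw [Subgroup.mem_normalizer_iff]
    intro k
    simp only [Subgroup.mem_inf]
    refine and_congr ?_ ?_
    · exact ((Subgroup.centralizer (R : Set G)).mul_mem_cancel_right
        ((Subgroup.centralizer (R : Set G)).inv_mem x.2)).trans
        ((Subgroup.centralizer (R : Set G)).mul_mem_cancel_left x.2) |>.symm
    · exact ⟨fun h => hN.conj_mem k h x, fun h => by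
        have := hN.conj_mem' _ h (x : G)
        simpa [mul_assoc] using this⟩
  refine ⟨x, x.2, hx, Set.image_injective.2 (irrPull_injective (kEquiv (N := N) R)) ?_⟩
  refine Eq.trans ?_ e
  rw [blockConj, Set.image_image, Set.image_image]
  refine Set.image_congr fun χ _ => Subtype.ext (funext fun k => ?_)
  simp only [irrPull_apply]
  exact congrArg _ (Subtype.ext rfl)

/-- The Brauer map at `R` sees the covered block. -/
theorem pair_iff_covAt (hM : IsPModular p M) {B : Set (IrrCharacter G)} {c : Set (IrrCharacter N)}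
    (hBc : ∀ g : G, blockCoeff B g = subgroupBlockCoeff N c g) [Fintype N]
    {f : Set (IrrCharacter (Subgroup.centralizer (R : Set G)))}
    {d : Set (IrrCharacter ↥(Subgroup.centralizer (R : Set G) ⊓ N))}
    (hB : IsPBlock M B) (hf : IsPBlock M f) (hd : IsPBlock M d) (h : CovAt N R f d) :
    (∀ ξ ∈ f, MemLocalIdeal M (brauerOmega R (blockCoeff B) (ξ : _ → ℂ) - 1)) ↔
      ∀ θ ∈ d, MemLocalIdeal M
        (omega (θ : _ → ℂ) (fun j : ↥(Subgroup.centralizer (R : Set G) ⊓ N) => blockCoeff B j) - 1) := by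
  set F : Subgroup.centralizer (R : Set G) → ℂ := fun x => blockCoeff B x with hF
  have hcl : IsClassFunction _ F := fun a b => blockCoeff_isClassFunction B (a : G) (b : G)
  have hm : ∀ x, MemLocalRing M (F x) := fun x => memRing_blockCoeff hM hB _
  have hsupp : ∀ x, x ∉ kSub (N := N) R → F x = 0 := by
    intro x hx
    rw [hF]
    beta_reduce
    rw [hBc, subgroupBlockCoeff, dif_neg fun hxN => hx
      (Subgroup.mem_subgroupOf.2 (Subgroup.mem_inf.2 ⟨x.2, hxN⟩))]
  have hmf : ∀ ψ : IrrCharacter (Subgroup.centralizer (R : Set G)),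
      MemLocalRing M (omega (ψ : _ → ℂ) F) := fun ψ =>
    Zloc_apply_mem hM (omega_mem_Zloc hM hcl hm) ψ
  have hcl' : IsClassFunction _ (fun j : ↥(Subgroup.centralizer (R : Set G) ⊓ N) => blockCoeff B j) :=
    fun a b => blockCoeff_isClassFunction B (a : G) (b : G)
  have hmd : ∀ θ : IrrCharacter ↥(Subgroup.centralizer (R : Set G) ⊓ N), MemLocalRing M
      (omega (θ : _ → ℂ) (fun j : ↥(Subgroup.centralizer (R : Set G) ⊓ N) => blockCoeff B j)) :=
    fun θ => Zloc_apply_mem hM (omega_mem_Zloc hM hcl' fun j => memRing_blockCoeff hM hB _) θ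
  have key : ∀ ψ ∈ f, ∀ θ ∈ d, res hM (brauerOmega R (blockCoeff B) (ψ : _ → ℂ)) =
      res hM (omega (θ : _ → ℂ)
        (fun j : ↥(Subgroup.centralizer (R : Set G) ⊓ N) => blockCoeff B j)) := by
    intro ψ hψ θ hθ
    rw [brauerOmega_eq_omega, res_omega_covers hM hf (isPBlock_image (kEquiv (N := N) R) hd)
      ((covAt_iff R f d).1 h) hψ ⟨θ, hθ, rfl⟩ hcl hm hsupp]
    congr 1
    simp only [omega, irrPull_apply, map_one]
    congr 1
    exact Fintype.sum_equiv (kEquiv (N := N) R).toEquiv _ _ fun x => rfl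
  obtain ⟨ψ₀, hψ₀⟩ := block_nonempty hM hf
  obtain ⟨θ₀, hθ₀⟩ := block_nonempty hM hd
  constructor
  · intro hp θ hθ
    rw [memIdeal_sub_iff hM (hmd θ) (loc hM).one_mem, ← key ψ₀ hψ₀ θ hθ]
    exact (memIdeal_sub_iff hM (by rw [brauerOmega_eq_omega]; exact hmf ψ₀) (loc hM).one_mem).1
      (hp ψ₀ hψ₀)
  · intro hp ψ hψ
    rw [memIdeal_sub_iff hM (by rw [brauerOmega_eq_omega]; exact hmf ψ) (loc hM).one_mem,
      key ψ hψ θ₀ hθ₀]
    exact (memIdeal_sub_iff hM (hmd θ₀) (loc hM).one_mem).1 (hp θ₀ hθ₀)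

/-- Conjugation by an element normalising `R` preserves covering. -/
theorem covAt_conj {x : G} (hxH : x ∈ Subgroup.normalizer ((Subgroup.centralizer (R : Set G)) : Set G))
    (hxJ : x ∈ Subgroup.normalizer ((Subgroup.centralizer (R : Set G) ⊓ N : Subgroup G) : Set G))
    {f : Set (IrrCharacter (Subgroup.centralizer (R : Set G)))}
    {d : Set (IrrCharacter ↥(Subgroup.centralizer (R : Set G) ⊓ N))} (h : CovAt N R f d) :
    CovAt N R (irrPull (conjE hxH) '' f) (irrPull (conjE hxJ) '' d) := by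
  obtain ⟨ψ, hψ, θ, hθ, hne⟩ := h
  refine ⟨_, ⟨ψ, hψ, rfl⟩, _, ⟨θ, hθ, rfl⟩, fun h0 => hne ?_⟩
  rw [← h0]
  unfold classInner
  congr 1
  refine (Fintype.sum_equiv (conjE hxJ).toEquiv _ _ fun j => ?_).symm
  simp only [irrPull_apply]
  congr 2

end

/-- Nilpotency over a normal subgroup of `p`-power index. -/
theorem nilpotent_index_iff (hM : IsPModular p M) [Fintype N] (hidx : ∃ k : ℕ, N.index = p ^ k)
    {c : Set (IrrCharacter N)} (hc : IsPBlock M c) {B : Set (IrrCharacter G)} (hB : IsPBlock M B)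
    (hBc : ∀ g : G, blockCoeff B g = subgroupBlockCoeff N c g) :
    IsNilpotentBlock p M c ↔ IsNilpotentBlock p M B := by
  classical
  have hp := hM.1
  -- the two copies of the centralizer in `N`
  have hE : ∀ (R' : Subgroup N) (R : Subgroup G), R = R'.map N.subtype →
      ∀ y : N, y ∈ Subgroup.centralizer (R' : Set N) ↔
        (y : G) ∈ Subgroup.centralizer (R : Set G) ⊓ N := by
    rintro R' R rfl y
    simp only [Subgroup.mem_inf, y.2, and_true, Subgroup.mem_centralizer_iff, SetLike.mem_coe,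
      Subgroup.mem_map]
    constructor
    · rintro h _ ⟨r, hr, rfl⟩
      exact congrArg Subtype.val (h r hr)
    · intro h r hr
      exact Subtype.ext (h _ ⟨r, hr, rfl⟩)
  have hnJ : ∀ (R : Subgroup G) (x : G), x ∈ Subgroup.normalizer (R : Set G) →
      x ∈ Subgroup.normalizer ((Subgroup.centralizer (R : Set G) ⊓ N : Subgroup G) : Set G) := by
    intro R x hx
    rw [Subgroup.mem_normalizer_iff]
    intro k
    simp only [Subgroup.mem_inf]
    refine and_congr (Subgroup.mem_normalizer_iff.1 (normalizer_le_normalizer_cent R hx) k) ?_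
    exact ⟨fun h => hN.conj_mem k h x, fun h => by
      have := hN.conj_mem' _ h x
      simpa [mul_assoc] using this⟩
  constructor
  · rintro ⟨-, hnil⟩
    refine ⟨hB, fun Q f hQf x hx hxst hxr => ?_⟩
    have hxN : x ∈ N := reg_mem_of_index hM hidx hxr
    have hQp : IsPGroup p Q := hQf.1.1
    set R := Q ⊓ N with hR
    obtain ⟨fR, ⟨hfR, hleR⟩, -⟩ := existsUnique_subpair hM hQp hQf.1.2 R inf_le_left
    have hxR : x ∈ Subgroup.normalizer (R : Set G) := by
      rw [Subgroup.mem_normalizer_iff]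
      intro k
      simp only [hR, Subgroup.mem_inf]
      refine and_congr (Subgroup.mem_normalizer_iff.1 hx k) ?_
      exact ⟨fun h => hN.conj_mem k h x, fun h => by
        have := hN.conj_mem' _ h x
        simpa [mul_assoc] using this⟩
    have hstR : conjIdx x (⟨R, fR⟩ : BrauerPairIdx G) = ⟨R, fR⟩ := by
      have h2 := subpair_conj hM hleR x
      rw [(stab_iff_idx x).1 ⟨hx, hxst⟩, conjIdx_normalizer hxR] at h2
      rw [conjIdx_normalizer hxR]
      rw [subpair_unique hM hQp hQf.1.2 (f := rot hxR fR) (isPBlock_image _ hfR) hfR h2 hleR]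
    have hxfR := ((stab_iff_idx x).2 hstR).2
    -- the pair below
    let H := Subgroup.centralizer (R : Set G)
    haveI := Fintype.ofFinite H
    haveI := Fintype.ofFinite ↥(H ⊓ N)
    haveI := Fintype.ofFinite ((H ⊓ N).subgroupOf H)
    obtain ⟨d, hd, hfd⟩ := exists_covAt_below (N := N) R hM hfR
    have hRpair : IsBrauerPairOf p M B R fR := (pairOf_subpair_iff hM hleR B).2 hQf
    have hxH : x ∈ Subgroup.normalizer (H : Set G) := normalizer_le_normalizer_cent R hxR
    have hxJ := hnJ R x hxR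
    have hd' : IsPBlock M (irrPull (conjE hxJ) '' d) := isPBlock_image _ hd
    have hfd' : CovAt N R fR (irrPull (conjE hxJ) '' d) := by
      have := covAt_conj R hxH hxJ hfd
      rwa [(stabilizesBlock_iff hxH).1 hxfR] at this
    obtain ⟨g, hgH, hg, hgd⟩ := exists_conj_covAt R hM hfR hd hd' hfd hfd'
    -- the stabilizer of `d`
    let S : Subgroup G := {
      carrier := {y | StabilizesBlock (H ⊓ N) d y}
      mul_mem' := fun ha hb => stabilizesBlock_mul ha hb
      one_mem' := ⟨one_mem _, fun χ hχ => ⟨χ, hχ, fun k k' h => by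
        rw [show k' = k from Subtype.ext (by simpa using h)]⟩⟩
      inv_mem' := fun {a} ha => by
        have : a⁻¹ = a ^ (orderOf a - 1) := by
          rw [inv_eq_iff_mul_eq_one, ← pow_succ', Nat.sub_add_cancel (orderOf_pos a), pow_orderOf_eq_one]
        rw [this]
        induction orderOf a - 1 with
        | zero => exact ⟨by simpa using one_mem _, fun χ hχ => ⟨χ, hχ, fun k k' h => by
            rw [show k' = k from Subtype.ext (by simpa using h)]⟩⟩
        | succ n ih => rw [pow_succ]; exact stabilizesBlock_mul ih ha }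
    have hJS : H ⊓ N ≤ S := fun j hj => by
      refine ⟨Subgroup.le_normalizer hj, fun χ hχ => ⟨χ, hχ, fun k k' h => ?_⟩⟩
      rw [show k' = (⟨j, hj⟩ : ↥(H ⊓ N)) * k * (⟨j, hj⟩ : ↥(H ⊓ N))⁻¹ from Subtype.ext h]
      exact isClassFunction_irr χ.2 k _
    have hy : g⁻¹ * x ∈ S := by
      refine (stabilizesBlock_iff
        ((Subgroup.normalizer _).mul_mem ((Subgroup.normalizer _).inv_mem hg) hxJ)).2 ?_
      rw [← image_conjE_mul ((Subgroup.normalizer _).inv_mem hg) hxJ d, ← hgd,
        image_conjE_mul ((Subgroup.normalizer _).inv_mem hg) hg d]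
      refine (Set.image_congr fun χ _ => Subtype.ext (funext fun k => ?_)).trans (Set.image_id d)
      simp only [irrPull_apply, id]
      exact congrArg _ (Subtype.ext (by simp))
    -- commutators lie in `H ⊓ N`
    set n := orderOf x with hn
    have hgn : g ^ n ∈ S := by
      let Γ := Subgroup.normalizer ((H ⊓ N : Subgroup G) : Set G)
      let K : Subgroup Γ := (H ⊓ N).subgroupOf Γ
      let q := QuotientGroup.mk' K
      have hcomm : Commute (q (⟨g, hg⟩ : Γ)⁻¹) (q ⟨x, hxJ⟩) := by
        show q _ * q _ = q _ * q _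
        rw [← map_mul, ← map_mul]
        refine (QuotientGroup.eq (s := K)).2 (Subgroup.mem_subgroupOf.2 (Subgroup.mem_inf.2 ⟨?_, ?_⟩))
        · show (g⁻¹ * x)⁻¹ * (x * g⁻¹) ∈ H
          rw [show (g⁻¹ * x)⁻¹ * (x * g⁻¹) = (x⁻¹ * g * x) * g⁻¹ by group]
          exact H.mul_mem ((mem_normalizer_conj_iff ((Subgroup.normalizer _).inv_mem hxH) g).2 hgH |>
            (fun h => by simpa using h)) (H.inv_mem hgH)
        · show (g⁻¹ * x)⁻¹ * (x * g⁻¹) ∈ N
          rw [show (g⁻¹ * x)⁻¹ * (x * g⁻¹) = x⁻¹ * (g * x * g⁻¹) by group]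
          exact N.mul_mem (N.inv_mem hxN) (hN.conj_mem x hxN g)
      have h1 := hcomm.mul_pow n
      have hxn : (⟨x, hxJ⟩ : Γ) ^ n = 1 := Subtype.ext (pow_orderOf_eq_one x)
      rw [← map_mul, ← map_pow, ← map_pow, ← map_pow, hxn, map_one, mul_one] at h1
      have h2 := Subgroup.mem_subgroupOf.1 ((QuotientGroup.eq (s := K)).1 h1)
      simp only [Subgroup.coe_mul, Subgroup.coe_inv, Subgroup.coe_pow, inv_pow, inv_inv] at h2
      have h3 := S.mul_mem (S.pow_mem hy n) (hJS h2)
      rw [mul_inv_cancel_left] at h3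
      simpa using S.inv_mem h3
    obtain ⟨a, ha⟩ := hidx
    have hga : g ^ (p ^ a) ∈ S :=
      hJS (Subgroup.mem_inf.2 ⟨H.pow_mem hgH _, ha ▸ N.pow_index_mem g⟩)
    have hcop : IsCoprime (n : ℤ) ((p ^ a : ℕ) : ℤ) := Nat.isCoprime_iff_coprime.2
      (((hp.coprime_iff_not_dvd.2 hxr).pow_left a).symm)
    obtain ⟨u, v, huv⟩ := hcop
    have hgS : g ∈ S := by
      rw [← zpow_one g, ← huv, zpow_add, mul_comm u, mul_comm v, zpow_mul, zpow_mul, zpow_natCast,
        zpow_natCast]
      exact S.mul_mem (S.zpow_mem hgn u) (S.zpow_mem hga v)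
    have hxS : StabilizesBlock (H ⊓ N) d x := by
      have := S.mul_mem hgS hy
      rwa [mul_inv_cancel_left] at this
    -- back in `N`
    set R' := R.subgroupOf N with hR'
    have hRmap : R = R'.map N.subtype := by
      rw [hR', Subgroup.map_subgroupOf_eq_of_le inf_le_right]
    let C' := Subgroup.centralizer (R' : Set N)
    haveI := Fintype.ofFinite C'
    let e : C' ≃* ↥(H ⊓ N) :=
      { toFun := fun y => ⟨((y : N) : G), (hE R' R hRmap y).1 y.2⟩
        invFun := fun j => ⟨⟨j, (Subgroup.mem_inf.1 j.2).2⟩, (hE R' R hRmap _).2 j.2⟩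
        left_inv := fun _ => rfl
        right_inv := fun _ => rfl
        map_mul' := fun _ _ => rfl }
    have hpair : IsBrauerPairOf p M c R' (irrPull e '' d) := by
      refine ⟨⟨(hQp.to_le inf_le_left).comap_of_injective N.subtype N.subtype_injective,
        isPBlock_image _ hd⟩, hc, ?_⟩
      rintro _ ⟨θ, hθ, rfl⟩
      have h1 := (pair_iff_covAt R hM hBc hB hfR hd hfd).1 hRpair.2.2 θ hθ
      refine Eq.mp (congrArg (fun z => MemLocalIdeal M (z - 1)) ?_) h1
      rw [brauerOmega_eq_omega]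
      simp only [omega, irrPull_apply, map_one]
      congr 1
      refine (Fintype.sum_equiv e.toEquiv _ _ fun y => ?_).symm
      show blockCoeff c (y : N) * _ = blockCoeff B ((y : N) : G) * _
      rw [hBc, subgroupBlockCoeff, dif_pos (y : N).2]
      rfl
    have hst' : StabilizesBlock C' (irrPull e '' d) ⟨x, hxN⟩ := by
      refine ⟨normalizer_le_normalizer_cent R' (Subgroup.mem_normalizer_iff.2 fun k => ?_), ?_⟩
      · simp only [hR', SetLike.mem_coe, Subgroup.mem_subgroupOf]
        exact Subgroup.mem_normalizer_iff.1 hxR k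
      · rintro _ ⟨θ, hθ, rfl⟩
        obtain ⟨θ', hθ', hcj⟩ := hxS.2 θ hθ
        refine ⟨_, ⟨θ', hθ', rfl⟩, fun k k' hk => ?_⟩
        exact hcj (e k) (e k') (congrArg Subtype.val hk)
    have hxC : x ∈ H := by
      have h := hnil R' _ hpair ⟨x, hxN⟩ (Subgroup.mem_normalizer_iff.2 fun k => by
        simp only [hR', SetLike.mem_coe, Subgroup.mem_subgroupOf]
        exact Subgroup.mem_normalizer_iff.1 hxR k) hst'
        (by rwa [IsPRegular, Subgroup.orderOf_mk])
      exact (Subgroup.mem_inf.1 ((hE R' R hRmap _).1 h)).1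
    -- the stability group
    rw [Subgroup.mem_centralizer_iff]
    intro q hq
    have hs : x * q * x⁻¹ * q⁻¹ ∈ R := Subgroup.mem_inf.2
      ⟨Q.mul_mem ((Subgroup.mem_normalizer_iff.1 hx q).1 hq) (Q.inv_mem hq), by
        rw [show x * q * x⁻¹ * q⁻¹ = x * (q * x⁻¹ * q⁻¹) by group]
        exact N.mul_mem hxN (hN.conj_mem _ (N.inv_mem hxN) q)⟩
    set r := x * q * x⁻¹ * q⁻¹ with hr
    have hrx : x * r = r * x := ((Subgroup.mem_centralizer_iff.1 hxC) r hs).symm
    have hpow : ∀ k : ℕ, x ^ k * q * (x ^ k)⁻¹ = r ^ k * q := by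
      intro k
      induction k with
      | zero => simp
      | succ k ih =>
        calc x ^ (k + 1) * q * (x ^ (k + 1))⁻¹ = x * (x ^ k * q * (x ^ k)⁻¹) * x⁻¹ := by
              rw [pow_succ']; group
          _ = x * (r ^ k * q) * x⁻¹ := by rw [ih]
          _ = (x * r ^ k) * q * x⁻¹ := by group
          _ = (r ^ k * x) * q * x⁻¹ := by rw [((show Commute x r from hrx).pow_right k).eq]
          _ = r ^ k * (r * q) := by rw [hr]; group
          _ = r ^ (k + 1) * q := by rw [pow_succ]; group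
    have h1 := hpow n
    rw [pow_orderOf_eq_one, one_mul, inv_one, mul_one] at h1
    have hrn : r ^ n = 1 := right_eq_mul.1 h1
    obtain ⟨j, hj⟩ := hQp ⟨r, (Subgroup.mem_inf.1 hs).1⟩
    have hr1 : r = 1 := orderOf_eq_one_iff.1 (Nat.eq_one_of_dvd_coprimes
      ((hp.coprime_iff_not_dvd.2 hxr).pow_left j)
      (orderOf_dvd_of_pow_eq_one (congrArg Subtype.val hj)) (orderOf_dvd_of_pow_eq_one hrn))
    rw [hr] at hr1
    calc q * x = (x * q * x⁻¹ * q⁻¹) * q * x := by rw [hr1, one_mul]
      _ = x * q := by group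
  · rintro ⟨-, hnil⟩
    refine ⟨hc, fun R' d' hpair x hx hxst hxr => ?_⟩
    set R := R'.map N.subtype with hRmap
    let H := Subgroup.centralizer (R : Set G)
    haveI := Fintype.ofFinite H
    haveI := Fintype.ofFinite ↥(H ⊓ N)
    haveI := Fintype.ofFinite ((H ⊓ N).subgroupOf H)
    let C' := Subgroup.centralizer (R' : Set N)
    haveI := Fintype.ofFinite C'
    let e : ↥(H ⊓ N) ≃* C' :=
      { toFun := fun j => ⟨⟨j, (Subgroup.mem_inf.1 j.2).2⟩, (hE R' R hRmap _).2 j.2⟩
        invFun := fun y => ⟨((y : N) : G), (hE R' R hRmap y).1 y.2⟩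
        left_inv := fun _ => rfl
        right_inv := fun _ => rfl
        map_mul' := fun _ _ => rfl }
    set d := irrPull e '' d' with hd_def
    have hd : IsPBlock M d := isPBlock_image _ hpair.1.2
    obtain ⟨f, hf, hfd⟩ := exists_covAt_above R hM hd
    have hpf : IsBrauerPairOf p M B R f := by
      refine ⟨⟨hpair.1.1.map N.subtype, hf⟩, hB, (pair_iff_covAt R hM hBc hB hf hd hfd).2 ?_⟩
      rintro _ ⟨θ, hθ, rfl⟩
      refine Eq.mp (congrArg (fun z => MemLocalIdeal M (z - 1)) ?_) (hpair.2.2 θ hθ)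
      rw [brauerOmega_eq_omega]
      simp only [omega, irrPull_apply, map_one]
      congr 1
      refine (Fintype.sum_equiv e.toEquiv _ _ fun y => ?_).symm
      show blockCoeff B ((y : G)) * _ = blockCoeff c ⟨(y : G), (Subgroup.mem_inf.1 y.2).2⟩ * _
      rw [hBc, subgroupBlockCoeff, dif_pos (Subgroup.mem_inf.1 y.2).2]
      rfl
    have hxR : (x : G) ∈ Subgroup.normalizer (R : Set G) := by
      refine mem_normalizer_of_forall_mem fun r hr => ?_
      obtain ⟨r, hr, rfl⟩ := hr
      exact ⟨x * r * x⁻¹, (Subgroup.mem_normalizer_iff.1 hx r).1 hr, rfl⟩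
    have hxH := normalizer_le_normalizer_cent R hxR
    have hxJ := hnJ R x hxR
    have hdx : irrPull (conjE hxJ) '' d = d := by
      conv_rhs => rw [hd_def, ← (stabilizesBlock_iff hxst.1).1 hxst]
      rw [hd_def, Set.image_image, Set.image_image]
      exact Set.image_congr fun θ _ => Subtype.ext (funext fun k => by
        simp only [irrPull_apply]; exact congrArg _ (Subtype.ext (Subtype.ext rfl)))
    have hfx : irrPull (conjE hxH) '' f = f := by
      refine covAt_unique R hM hidx (isPBlock_image _ hf) hf hd ?_ hfd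
      have := covAt_conj R hxH hxJ hfd
      rwa [hdx] at this
    have h := hnil R f hpf x hxR ((stabilizesBlock_iff hxH).2 hfx)
      (by rwa [IsPRegular, Subgroup.orderOf_coe])
    exact (hE R' R hRmap x).2 (Subgroup.mem_inf.2 ⟨h, x.2⟩)

end CfsgLib.Blocks
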