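import Cfsg.Agent.Lib.Blocks.AlperinDade
import Cfsg.Agent.Lib.Blocks.Two
import Cfsg.Agent.Lib.CharTheory.Linear

/-!
# Principal 2-blocks and normal subgroups of odd index
-/

namespace CfsgLib.Blocks

open Cfsg CfsgLib.CharTheory
open scoped ComplexConjugate

set_option linter.unusedVariables false
set_option linter.style.haveILetI false
set_option linter.unusedSectionVars false

universe u

variable {p : ℕ} {M : Ideal AlgInt} {G : Type u} [Group G] [Fintype G] {N : Subgroup G} [hN : N.Normal]
  [Fintype N]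

/-- Every block covering the principal block contains a character with `N` in its kernel. -/
theorem exists_over_one (hM : IsPModular p M) {θ : IrrCharacter N}
    (hθ : θ ∈ principalBlock M N) {χ : IrrCharacter G}
    (hc : classInner (fun n : N => (χ : G → ℂ) n) (θ : N → ℂ) ≠ 0) :
    ∃ ψ : IrrCharacter G, SameBlock M (χ : G → ℂ) (ψ : G → ℂ) ∧
      ∀ n ∈ N, (ψ : G → ℂ) n = (ψ : G → ℂ) 1 := by
  classical
  -- the indicator of the regular elements of `N`
  set f : G → ℂ := fun g => if g ∈ N then regFn p ((oneIrr G : IrrCharacter G) : G → ℂ) g else 0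
    with hf
  have hfc : IsClassFunction G f := fun g x => by
    have hmem : x * g * x⁻¹ ∈ N ↔ g ∈ N :=
      ⟨fun h => by simpa [mul_assoc] using hN.conj_mem' _ h x, fun h => hN.conj_mem g h x⟩
    simp only [hf, hmem, regFn_isClassFunction (p := p) (oneIrr G) g x]
  have hres : (fun k : N => f k) = regFn p ((oneIrr N : IrrCharacter N) : N → ℂ) := by
    funext k
    simp only [hf, if_pos k.2, regFn, Subgroup.orderOf_coe]
    rfl
  have hsum : regS p (χ : G → ℂ) (indFun N (fun _ => 1)) ≠ 0 := by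
    intro h0
    have hd : dv p ((oneIrr N : IrrCharacter N) : N → ℂ) = minDv p (principalBlock M N) := by
      refine le_antisymm ?_ (minDv_le (oneIrr_mem hM))
      simp [dv, charDegree, oneIrr]
    refine not_memIdeal_omega_regFn hM principalBlock_isPBlock (oneIrr_mem hM) hθ hd ?_
    rw [← hres, ← omega_eq_of_constituent hc hfc (fun g hg => if_neg hg)]
    have hind : ∀ g : G, indFun N (fun _ => (1 : ℂ)) g = if g ∈ N then (N.index : ℂ) else 0 := by
      intro g
      have hcard : (Nat.card N : ℂ) ≠ 0 := Nat.cast_ne_zero.2 Nat.card_pos.ne'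
      split_ifs with hg
      · rw [indFun, Finset.sum_congr rfl fun x _ => show
          extendByZero N (fun _ => (1 : ℂ)) (x⁻¹ * g * x) = 1 from
            extendByZero_of_mem _ _ (by simpa using hN.conj_mem g hg x⁻¹),
          Finset.sum_const, Finset.card_univ, nsmul_eq_mul, mul_one, ← Nat.card_eq_fintype_card,
          ← N.card_mul_index, Nat.cast_mul, inv_mul_cancel_left₀ hcard]
      · exact indFun_normal_apply_not_mem N _ hg
    have : (N.index : ℂ) * ∑ g, f g * (χ : G → ℂ) g = 0 := by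
      rw [← h0, regS, Finset.mul_sum]
      refine Finset.sum_congr rfl fun g _ => ?_
      simp only [hf, regFn, hind, inv_mem_iff, oneIrr]
      split_ifs <;> ring
    rw [omega, (mul_eq_zero.1 this).resolve_left
      (Nat.cast_ne_zero.2 Subgroup.index_ne_zero_of_finite), zero_div]
    exact (res_eq_zero_iff hM (loc hM).zero_mem).1 (res_zero hM)
  have hI : IsCharacter G (indFun N (fun _ => (1 : ℂ))) :=
    isCharacter_indFun N (isCharacter_of_irr isIrrCharacter_one)
  have he := eq_sum_irr (isClassFunction_char hI)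
  obtain ⟨ψ, hψ1, hψ2⟩ : ∃ ψ : IrrCharacter G,
      classInner (indFun N (fun _ => (1 : ℂ))) (ψ : G → ℂ) ≠ 0 ∧
        regS p (χ : G → ℂ) (ψ : G → ℂ) ≠ 0 := by
    by_contra hno
    push Not at hno
    apply hsum
    have hlin : regS p (χ : G → ℂ) (indFun N (fun _ => (1 : ℂ))) =
        ∑ ψ : IrrCharacter G,
          classInner (indFun N (fun _ => (1 : ℂ))) (ψ : G → ℂ) * regS p (χ : G → ℂ) (ψ : G → ℂ) := by
      simp only [regS, Finset.mul_sum]
      rw [Finset.sum_comm]
      refine Finset.sum_congr rfl fun g _ => ?_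
      conv_lhs => rw [he]
      simp only [regFn, Finset.sum_apply, Pi.smul_apply, smul_eq_mul]
      split_ifs
      · simp
      · rw [Finset.sum_mul]
        exact Finset.sum_congr rfl fun ψ _ => by ring
    rw [hlin]
    refine Finset.sum_eq_zero fun ψ _ => ?_
    by_cases h : classInner (indFun N (fun _ => (1 : ℂ))) (ψ : G → ℂ) = 0
    · rw [h, zero_mul]
    · rw [hno ψ h, mul_zero]
  refine ⟨ψ, by_contra fun h => hψ2 (regS_eq_zero hM h), fun n hn => ?_⟩
  have h1 : classInner (fun k : N => (ψ : G → ℂ) k) (fun _ => (1 : ℂ)) ≠ 0 := by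
    intro h0
    apply hψ1
    rw [frobenius_reciprocity N (fun _ : N => (1 : ℂ)) (isClassFunction_irr ψ.2), ← classInner_comm,
      h0, map_zero]
  have hcl := clifford N ψ.2 isIrrCharacter_one h1
  have horb : ∀ φ ∈ conjOrbit N (fun _ : N => (1 : ℂ)), φ = fun _ => 1 := fun φ hφ => by
    obtain ⟨y, rfl⟩ := (mem_conjOrbit N).1 hφ
    rfl
  have hv : ∀ k : N, (ψ : G → ℂ) k = classInner (fun k : N => (ψ : G → ℂ) k) (fun _ => (1 : ℂ)) *
      ∑ φ ∈ conjOrbit N (fun _ : N => (1 : ℂ)), (1 : ℂ) := fun k => by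
    have := congrFun hcl k
    simp only [Pi.smul_apply, Finset.sum_apply, smul_eq_mul] at this
    rw [this, Finset.sum_congr rfl fun φ hφ => congrFun (horb φ hφ) k]
  exact (hv ⟨n, hn⟩).trans (hv 1).symm

/-- A real block covering the principal block over an odd index is principal. -/
theorem mem_principal_odd_index (hM : IsPModular 2 M) (hidx : Odd N.index) {θ : IrrCharacter N}
    (hθ : θ ∈ principalBlock M N) {χ : IrrCharacter G}
    (hc : classInner (fun n : N => (χ : G → ℂ) n) (θ : N → ℂ) ≠ 0)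
    (hreal : ∀ g : G, ¬ 2 ∣ orderOf g → (χ : G → ℂ) g⁻¹ = (χ : G → ℂ) g) :
    χ ∈ principalBlock M G := by
  classical
  obtain ⟨ψ, hψ, hk⟩ := exists_over_one hM hθ hc
  set B := blockOf M (χ : G → ℂ) with hB
  have hBb : IsPBlock M B := blockOf_isPBlock χ
  have hdvψ : dv 2 (ψ : G → ℂ) = 0 := by
    obtain ⟨β, hβ, hβψ⟩ := exists_quotient_irr N ψ.2 hk
    haveI := Fintype.ofFinite (G ⧸ N)
    obtain ⟨m, ρ, hρ, hρc⟩ := hβ
    have hdeg : charDegree (ψ : G → ℂ) ∣ N.index := by
      rw [show charDegree (ψ : G → ℂ) = Module.finrank ℂ (Fin m → ℂ) by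
        simp [charDegree, hβψ, ← hρc, ρ.char_one], Subgroup.index_eq_card]
      exact finrank_dvd_card ρ
    exact Nat.factorization_eq_zero_of_not_dvd fun h2 =>
      (Nat.not_even_iff_odd.2 hidx) (even_iff_two_dvd.2 (h2.trans hdeg))
  have hdef : blockDefect 2 B = (Nat.card G).factorization 2 := by
    have := minDv_le (p := 2) (show ψ ∈ B from hψ)
    rw [blockDefect_eq]
    omega
  have hconj : ∀ φ : IrrCharacter G, ∀ g : G,
      clv g ⟨fun x => conj ((φ : G → ℂ) x), isIrrCharacter_conjChar φ.2⟩ = clv g⁻¹ φ := by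
    intro φ g
    simp only [clv, centralChar, irr_conjInv, inv_one]
    rw [show Subgroup.centralizer ({g⁻¹} : Set G) = Subgroup.centralizer ({g} : Set G) from
      Subgroup.ext fun x => by
        simp only [Subgroup.mem_centralizer_singleton_iff]
        exact Commute.inv_right_iff]
  have hstab : ∀ φ ∈ B, ∃ φ' ∈ B, ∀ g : G, ¬ 2 ∣ orderOf g →
      (φ' : G → ℂ) g = (φ : G → ℂ) g⁻¹ := by
    intro φ hφ
    refine ⟨⟨fun x => conj ((φ : G → ℂ) x), isIrrCharacter_conjChar φ.2⟩, ?_,
      fun g _ => irr_conjInv φ g⟩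
    refine sameBlock_of_regular hM fun g hg => ?_
    rw [hconj, ← (sameBlock_iff_res hM χ φ).1 hφ g⁻¹, ← hconj χ g]
    simp only [clv, centralChar, irr_conjInv, hreal g hg, inv_one]
  exact (eq_principal_of_inverted hM hBb hdef hstab) ▸ mem_blockOf_self hM χ

end CfsgLib.Blocks
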