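import Cfsg.Agent.Lib.Blocks.SectionBound
import Cfsg.Agent.Lib.CharTheory.TwoPowerTrace

/-!
# Subsections of 2-blocks: average contributions are integers
-/

namespace CfsgLib.Blocks

open Cfsg CfsgLib.CharTheory
open scoped ComplexConjugate

set_option linter.unusedVariables false
set_option linter.unusedSimpArgs false
set_option linter.style.haveILetI false
set_option linter.unusedSectionVars false

universe u

variable {M : Ideal AlgInt} {G : Type u} [Group G] [Fintype G] {x : G} {H : Subgroup G}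
  [Fintype H] {b : Set (IrrCharacter H)} {B : Set (IrrCharacter G)}

theorem rootField_two_le (k : ℕ) : rootField (2 ^ k) ≤ rootField (2 ^ (k + 1)) := by
  refine IntermediateField.adjoin_le_iff.2 ?_
  rintro y rfl
  refine mem_rootField (pow_ne_zero _ two_ne_zero) ?_
  rw [pow_succ, pow_mul, (isPrimitiveRoot_exp' (pow_ne_zero _ two_ne_zero)).pow_eq_one, one_pow]

/-- The average conjugate of a real algebraic integer and its residue. -/
theorem exists_avg (hM : IsPModular 2 M) (k : ℕ) (w : rootField (2 ^ (k + 1)))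
    (hint : IsIntegral ℤ (w : ℂ)) (hreal : conj (w : ℂ) = (w : ℂ)) :
    ∃ A : ℤ, ∑ σ : rootField (2 ^ (k + 1)) →ₐ[ℚ] ℂ, σ w =
        (Fintype.card (rootField (2 ^ (k + 1)) →ₐ[ℚ] ℂ) : ℂ) * (A : ℂ) ∧
      res hM (w : ℂ) = (A : AlgInt ⧸ M) := by
  obtain ⟨c, hc, hsum, hc0⟩ := exists_real_coeff k w hint hreal
  refine ⟨c 0, hsum, ?_⟩
  set ζ : ℂ := ((twoGen k : rootField (2 ^ (k + 1))) : ℂ) with hζ
  have hroot : MemLocalRing M ζ ∧ res hM ζ = 1 :=
    res_eq_one_of_pow hM (k := k + 1) (twoGen_primitive k).pow_eq_one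
  have e : (w : ℂ) = ∑ r ∈ Finset.range (2 ^ k), (c r : ℂ) * ζ ^ r := by
    show (rootField (2 ^ (k + 1))).val w = _
    conv_lhs => rw [hc]
    simp only [map_sum, map_mul, map_intCast, map_pow]
    rfl
  rw [e, res_sum hM fun r _ => (loc hM).mul_mem (memRing_intCast hM _)
    ((loc hM).pow_mem hroot.1 _), ← hc0, Int.cast_sum]
  refine Finset.sum_congr rfl fun r _ => ?_
  rw [res_mul hM (memRing_intCast hM _) ((loc hM).pow_mem hroot.1 _), res_pow hM hroot.1, hroot.2,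
    one_pow, mul_one, res_intCast']

/-- A contribution as a field element. -/
theorem exists_zElt (hM : IsPModular 2 M) (hH : IsCentr x H) {k : ℕ} (hk : orderOf x = 2 ^ k)
    (hb : IsPBlock M b) :
    ∃ Z : IrrCharacter G → IrrCharacter G → rootField (2 ^ (k + 1)),
      ∀ χ ψ, (Z χ ψ : ℂ) = secPair 2 x b (χ : G → ℂ) (ψ : G → ℂ) ∧ IsIntegral ℤ (Z χ ψ : ℂ) ∧
        ∀ σ : rootField (2 ^ (k + 1)) →ₐ[ℚ] ℂ, conj (σ (Z χ ψ)) = σ (Z ψ χ) := by
  refine ⟨fun χ ψ => ⟨_, rootField_two_le k (secPair_props hM hH hk hb χ ψ).1⟩,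
    fun χ ψ => ⟨rfl, (secPair_props hM hH hk hb χ ψ).2, fun σ => ?_⟩⟩
  obtain ⟨hc, he⟩ := conj_galois (pow_ne_zero _ two_ne_zero) σ
    (rootField_two_le k (secPair_props hM hH hk hb χ ψ).1)
  rw [← he]
  exact congrArg σ (Subtype.ext (secPair_conj 2 x b _ _))

/-- The row identity under every embedding. -/
theorem row_hom (hM : IsPModular 2 M) (hH : IsCentr x H) {k : ℕ} (hk : orderOf x = 2 ^ k)
    (hind : IsInducedBlock M H b B) {Z : IrrCharacter G → IrrCharacter G → rootField (2 ^ (k + 1))}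
    (hZ : ∀ χ ψ, (Z χ ψ : ℂ) = secPair 2 x b (χ : G → ℂ) (ψ : G → ℂ) ∧ IsIntegral ℤ (Z χ ψ : ℂ) ∧
        ∀ σ : rootField (2 ^ (k + 1)) →ₐ[ℚ] ℂ, conj (σ (Z χ ψ)) = σ (Z ψ χ))
    (σ : rootField (2 ^ (k + 1)) →ₐ[ℚ] ℂ) (χ : IrrCharacter G) :
    ∑ ψ ∈ bset B, Complex.normSq (σ (Z χ ψ)) =
      2 ^ blockDefect 2 b * (σ (Z χ χ)).re ∧ (σ (Z χ χ)).im = 0 := by
  have e : ∑ ψ ∈ bset B, Z χ ψ * Z ψ χ =
      ((2 ^ blockDefect 2 b : ℕ) : rootField (2 ^ (k + 1))) * Z χ χ := by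
    apply (rootField (2 ^ (k + 1))).val.injective
    rw [map_sum, map_mul, map_natCast]
    show ∑ ψ ∈ bset B, ((Z χ ψ * Z ψ χ : rootField (2 ^ (k + 1))) : ℂ) = _ * (Z χ χ : ℂ)
    rw [(hZ χ χ).1]
    push_cast
    rw [← Nat.cast_ofNat (R := ℂ), ← sum_secPair_row hM hH ⟨k, hk⟩ hind χ]
    refine Finset.sum_congr rfl fun ψ _ => ?_
    rw [(hZ χ ψ).1, (hZ ψ χ).1, secPair_conj]
  have him : (σ (Z χ χ)).im = 0 := Complex.conj_eq_iff_im.1 ((hZ χ χ).2.2 σ)
  have h := congrArg σ e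
  rw [map_sum, map_mul, map_natCast] at h
  rw [Finset.sum_congr rfl fun ψ _ => show σ (Z χ ψ * Z ψ χ) =
    (Complex.normSq (σ (Z χ ψ)) : ℂ) by rw [map_mul, ← (hZ χ ψ).2.2 σ, Complex.mul_conj]] at h
  rw [← Complex.ofReal_sum, show ((2 ^ blockDefect 2 b : ℕ) : ℂ) =
    (((2 : ℝ) ^ blockDefect 2 b : ℝ) : ℂ) by push_cast; rfl] at h
  have h2 := congrArg Complex.re h
  simp only [Complex.ofReal_re, Complex.mul_re, Complex.ofReal_im, zero_mul, sub_zero] at h2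
  exact ⟨h2, him⟩

/-- The integral average of a diagonal contribution. -/
theorem exists_diag_avg (hM : IsPModular 2 M) (hH : IsCentr x H) {k : ℕ} (hk : orderOf x = 2 ^ k)
    (hind : IsInducedBlock M H b B) {Z : IrrCharacter G → IrrCharacter G → rootField (2 ^ (k + 1))}
    (hZ : ∀ χ ψ, (Z χ ψ : ℂ) = secPair 2 x b (χ : G → ℂ) (ψ : G → ℂ) ∧ IsIntegral ℤ (Z χ ψ : ℂ) ∧
        ∀ σ : rootField (2 ^ (k + 1)) →ₐ[ℚ] ℂ, conj (σ (Z χ ψ)) = σ (Z ψ χ))
    (χ : IrrCharacter G) :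
    ∃ A : ℤ, ∑ σ : rootField (2 ^ (k + 1)) →ₐ[ℚ] ℂ, σ (Z χ χ) =
        (Fintype.card (rootField (2 ^ (k + 1)) →ₐ[ℚ] ℂ) : ℂ) * (A : ℂ) ∧
      res hM (secPair 2 x b (χ : G → ℂ) (χ : G → ℂ)) = (A : AlgInt ⧸ M) ∧
      ∑ σ : rootField (2 ^ (k + 1)) →ₐ[ℚ] ℂ, (σ (Z χ χ)).re =
        (Fintype.card (rootField (2 ^ (k + 1)) →ₐ[ℚ] ℂ) : ℝ) * A ∧
      0 ≤ A ∧ ((∃ ψ ∈ bset B, Z χ ψ ≠ 0) → 0 < A) := by
  obtain ⟨A, hA, hres⟩ := exists_avg hM k (Z χ χ) (hZ χ χ).2.1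
    (by rw [(hZ χ χ).1, secPair_conj])
  have hre : ∑ σ : rootField (2 ^ (k + 1)) →ₐ[ℚ] ℂ, (σ (Z χ χ)).re =
      (Fintype.card (rootField (2 ^ (k + 1)) →ₐ[ℚ] ℂ) : ℝ) * A := by
    rw [← Complex.re_sum, hA]
    simp
  have hN : (0 : ℝ) < Fintype.card (rootField (2 ^ (k + 1)) →ₐ[ℚ] ℂ) := by
    exact_mod_cast Fintype.card_pos_iff.2 ⟨(rootField (2 ^ (k + 1))).val⟩
  have hpow : (0 : ℝ) < 2 ^ blockDefect 2 b := by positivity
  have hnn : ∀ σ : rootField (2 ^ (k + 1)) →ₐ[ℚ] ℂ, 0 ≤ (σ (Z χ χ)).re := fun σ => by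
    refine (mul_nonneg_iff_of_pos_left hpow).1 ?_
    rw [← (row_hom hM hH hk hind hZ σ χ).1]
    exact Finset.sum_nonneg fun ψ _ => Complex.normSq_nonneg _
  refine ⟨A, hA, by rw [← (hZ χ χ).1]; exact hres, hre, ?_, fun ⟨ψ, hψ, hne⟩ => ?_⟩
  · have h0 := hre ▸ Finset.sum_nonneg fun σ _ => hnn σ
    exact_mod_cast (mul_nonneg_iff_of_pos_left hN).1 h0
  · have h0 : (0 : ℝ) < ∑ σ : rootField (2 ^ (k + 1)) →ₐ[ℚ] ℂ, (σ (Z χ χ)).re := by
      refine Finset.sum_pos (fun σ _ => (mul_pos_iff_of_pos_left hpow).1 ?_)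
        ⟨(rootField (2 ^ (k + 1))).val, Finset.mem_univ _⟩
      rw [← (row_hom hM hH hk hind hZ σ χ).1]
      exact Finset.sum_pos' (fun ψ _ => Complex.normSq_nonneg _) ⟨ψ, hψ,
        Complex.normSq_pos.2 (by rw [Ne, map_eq_zero_iff σ σ.injective]; exact hne)⟩
    rw [hre] at h0
    exact_mod_cast (mul_pos_iff_of_pos_left hN).1 h0

theorem odd_of_cast_ne (hM : IsPModular 2 M) {A : ℤ} (h : (A : AlgInt ⧸ M) ≠ 0) : Odd A := by
  haveI := res_charP hM
  rw [Ne, CharP.intCast_eq_zero_iff (AlgInt ⧸ M) 2] at h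
  exact Int.odd_iff.2 (by omega)

/-- `k₀(B)` is at most `2^q` times any average diagonal contribution of height zero. -/
theorem exists_k0_data (hM : IsPModular 2 M) (hH : IsCentr x H)
    (hx : ∃ k : ℕ, orderOf x = 2 ^ k) (hind : IsInducedBlock M H b B)
    [DecidablePred fun χ : IrrCharacter G => dv 2 (χ : G → ℂ) = minDv 2 B] :
    ∃ A : IrrCharacter G → ℤ,
      (∀ χ ∈ (bset B).filter fun χ : IrrCharacter G => dv 2 (χ : G → ℂ) = minDv 2 B,
        0 < A χ ∧ Odd (A χ) ∧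
        ((((bset B).filter fun χ : IrrCharacter G => dv 2 (χ : G → ℂ) = minDv 2 B).card : ℕ) : ℤ)
          ≤ 2 ^ blockDefect 2 b * A χ) ∧
      ∑ χ ∈ (bset B).filter (fun χ : IrrCharacter G => dv 2 (χ : G → ℂ) = minDv 2 B), A χ ≤
        2 ^ blockDefect 2 b * (blockRank 2 b : ℤ) := by
  classical
  obtain ⟨k, hk⟩ := hx
  have hx : ∃ k : ℕ, orderOf x = 2 ^ k := ⟨k, hk⟩
  haveI : NeZero (2 ^ (k + 1)) := ⟨pow_ne_zero _ two_ne_zero⟩
  obtain ⟨Z, hZ⟩ := exists_zElt hM hH hk hind.1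
  choose A hA hres hre hnn hpos using fun χ => exists_diag_avg hM hH hk hind hZ χ
  set S0 := (bset B).filter fun χ : IrrCharacter G => dv 2 (χ : G → ℂ) = minDv 2 B with hS0
  have hne : ∀ χ ∈ S0, ∀ ψ ∈ S0, Z χ ψ ≠ 0 := by
    intro χ hχ ψ hψ h
    obtain ⟨hχB, hχ0⟩ := Finset.mem_filter.1 hχ
    obtain ⟨hψB, hψ0⟩ := Finset.mem_filter.1 hψ
    refine (secPair_res_ne hM hH hx hind (mem_bset.1 hχB) (mem_bset.1 hψB) hχ0 hψ0).2 ?_
    rw [← (hZ χ ψ).1, h, ← res_zero hM]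
    rfl
  refine ⟨A, fun χ hχ => ?_, ?_⟩
  · obtain ⟨hχB, hχ0⟩ := Finset.mem_filter.1 hχ
    refine ⟨hpos χ ⟨χ, hχB, hne χ hχ χ hχ⟩, odd_of_cast_ne hM ?_, ?_⟩
    · rw [← hres]
      exact (secPair_res_ne hM hH hx hind (mem_bset.1 hχB) (mem_bset.1 hχB) hχ0 hχ0).2
    · have h := weighted_card_le_avg S0 (fun ψ => Z χ ψ) (fun _ => 1) (fun ψ _ => (hZ χ ψ).2.1)
        (fun ψ hψ => hne χ hχ ψ hψ) (2 ^ blockDefect 2 b * A χ) ?_
      · simpa using h
      · push_cast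
        rw [mul_left_comm, ← hre χ, Finset.mul_sum]
        refine Finset.sum_le_sum fun σ _ => ?_
        rw [← (row_hom hM hH hk hind hZ σ χ).1]
        simp only [one_mul]
        exact Finset.sum_le_sum_of_subset_of_nonneg (Finset.filter_subset _ _)
          fun ψ _ _ => Complex.normSq_nonneg _
  · refine (Finset.sum_le_sum_of_subset_of_nonneg (Finset.filter_subset _ _)
      fun χ _ _ => hnn χ).trans (le_of_eq ?_)
    have e : ∑ χ ∈ bset B, Z χ χ =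
        ((2 ^ blockDefect 2 b * blockRank 2 b : ℕ) : rootField (2 ^ (k + 1))) := by
      apply (rootField (2 ^ (k + 1))).val.injective
      rw [map_sum, map_natCast]
      show ∑ χ ∈ bset B, (Z χ χ : ℂ) = _
      rw [Finset.sum_congr rfl fun χ _ => (hZ χ χ).1, sum_secPair_diag hM hH hx hind]
      push_cast
      rfl
    have h1 : ∑ σ : rootField (2 ^ (k + 1)) →ₐ[ℚ] ℂ, σ (∑ χ ∈ bset B, Z χ χ) =
        (Fintype.card (rootField (2 ^ (k + 1)) →ₐ[ℚ] ℂ) : ℂ) *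
          ((∑ χ ∈ bset B, A χ : ℤ) : ℂ) := by
      simp only [map_sum]
      rw [Finset.sum_comm, Int.cast_sum, Finset.mul_sum]
      exact Finset.sum_congr rfl fun χ _ => hA χ
    rw [e] at h1
    simp only [map_natCast, Finset.sum_const, Finset.card_univ, nsmul_eq_mul] at h1
    have h2 := mul_left_cancel₀
      (Nat.cast_ne_zero.2 (Fintype.card_pos_iff.2 ⟨(rootField (2 ^ (k + 1))).val⟩).ne') h1
    exact_mod_cast h2.symm

/-- The counting lemma for major subsections. -/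
theorem two_count {ι : Type*} (S S0 : Finset ι) (hsub : S0 ⊆ S) (h : ι → ℕ) (d L : ℕ) (hL : L ≤ 3)
    (A : ι → ℤ) (hpos : ∀ i ∈ S, 0 < A i) (hodd : ∀ i ∈ S0, Odd (A i))
    (hdiv : ∀ i ∈ S, i ∉ S0 → (2 : ℤ) ^ (h i + 1) ∣ A i) (hh : ∀ i ∈ S, i ∉ S0 → 1 ≤ h i)
    (hrow : ∀ i ∈ S0, ∑ j ∈ S, (4 : ℤ) ^ h j ≤ 2 ^ d * A i)
    (htot : ∑ i ∈ S, A i = 2 ^ d * (L : ℤ)) [DecidableEq ι] :
    3 * S.card ≤ 3 * S0.card + 2 * ∑ i ∈ S \ S0, 2 ^ h i ∧
      3 * S0.card + 2 * ∑ i ∈ S \ S0, 2 ^ h i ≤ 3 * 2 ^ d := by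
  constructor
  · rw [← Finset.card_sdiff_add_card_eq_card hsub, mul_add, add_comm]
    refine Nat.add_le_add_left ?_ _
    rw [Finset.card_eq_sum_ones, Finset.mul_sum, Finset.mul_sum]
    refine Finset.sum_le_sum fun i hi => ?_
    obtain ⟨hiS, hi0⟩ := Finset.mem_sdiff.1 hi
    have : 2 ^ 1 ≤ 2 ^ h i := Nat.pow_le_pow_right two_pos (hh i hiS hi0)
    omega
  have key : ((3 * S0.card + 2 * ∑ i ∈ S \ S0, 2 ^ h i : ℕ) : ℤ) ≤ ((3 * 2 ^ d : ℕ) : ℤ) := by
    push_cast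
    by_cases hm : ∃ i ∈ S0, A i = 1
    · obtain ⟨i, hi, hAi⟩ := hm
      have h1 := hrow i hi
      rw [hAi, mul_one, ← Finset.sum_sdiff hsub] at h1
      have h2 : (S0.card : ℤ) ≤ ∑ j ∈ S0, (4 : ℤ) ^ h j := by
        rw [Finset.card_eq_sum_ones]; push_cast
        exact Finset.sum_le_sum fun j _ => one_le_pow₀ (by norm_num)
      have h3 : 2 * ∑ j ∈ S \ S0, (2 : ℤ) ^ h j ≤ 3 * ∑ j ∈ S \ S0, (4 : ℤ) ^ h j := by
        rw [Finset.mul_sum, Finset.mul_sum]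
        refine Finset.sum_le_sum fun j _ => ?_
        have : (2 : ℤ) ^ h j ≤ 4 ^ h j := pow_le_pow_left₀ (by norm_num) (by norm_num) _
        have : (0 : ℤ) ≤ 4 ^ h j := by positivity
        linarith
      linarith
    · push Not at hm
      have h1 : ∀ i ∈ S0, 3 ≤ A i := fun i hi => by
        have := hpos i (hsub hi)
        obtain ⟨t, ht⟩ := hodd i hi
        have := hm i hi
        omega
      rw [← Finset.sum_sdiff hsub] at htot
      have h2 : 2 * ∑ i ∈ S \ S0, (2 : ℤ) ^ h i ≤ ∑ i ∈ S \ S0, A i := by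
        rw [Finset.mul_sum]
        refine Finset.sum_le_sum fun i hi => ?_
        obtain ⟨hiS, hi0⟩ := Finset.mem_sdiff.1 hi
        rw [← pow_succ']
        exact Int.le_of_dvd (hpos i hiS) (hdiv i hiS hi0)
      have h3 : 3 * (S0.card : ℤ) ≤ ∑ i ∈ S0, A i := by
        rw [Finset.card_eq_sum_ones, Nat.cast_sum, Finset.mul_sum]
        exact Finset.sum_le_sum fun i hi => by simpa using h1 i hi
      have h4 : (2 : ℤ) ^ d * L ≤ 2 ^ d * 3 :=
        mul_le_mul_of_nonneg_left (by exact_mod_cast hL) (by positivity)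
      linarith
  exact_mod_cast key

/-- The bounds for a major subsection of a 2-block. -/
theorem major_two (hM : IsPModular 2 M) (hH : IsCentr x H)
    (hx : ∃ k : ℕ, orderOf x = 2 ^ k) (hind : IsInducedBlock M H b B)
    (hdef : blockDefect 2 b = blockDefect 2 B)
    (hL : blockRank 2 b ≤ 3 ∨ (Nat.card B ≤ blockRank 2 b + 3 ∧ 1 < Nat.card B)) :
    3 * Nat.card B ≤ 3 * ((bset B).filter fun χ : IrrCharacter G =>
        dv 2 (χ : G → ℂ) = minDv 2 B).card +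
      2 * ∑ χ ∈ bset B \ (bset B).filter (fun χ : IrrCharacter G =>
        dv 2 (χ : G → ℂ) = minDv 2 B), 2 ^ (dv 2 (χ : G → ℂ) - minDv 2 B) ∧
    3 * ((bset B).filter fun χ : IrrCharacter G =>
        dv 2 (χ : G → ℂ) = minDv 2 B).card +
      2 * ∑ χ ∈ bset B \ (bset B).filter (fun χ : IrrCharacter G =>
        dv 2 (χ : G → ℂ) = minDv 2 B), 2 ^ (dv 2 (χ : G → ℂ) - minDv 2 B) ≤
      3 * 2 ^ blockDefect 2 B := by
  classical
  haveI := res_isDomain hM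
  haveI := res_charP hM
  obtain ⟨k, hk⟩ := hx
  have hx : ∃ k : ℕ, orderOf x = 2 ^ k := ⟨k, hk⟩
  haveI : NeZero (2 ^ (k + 1)) := ⟨pow_ne_zero _ two_ne_zero⟩
  obtain ⟨Z, hZ⟩ := exists_zElt hM hH hk hind.1
  choose A hA hres hre hnn hpos using fun χ => exists_diag_avg hM hH hk hind hZ χ
  set d := blockDefect 2 B with hd
  set h : IrrCharacter G → ℕ := fun χ => dv 2 (χ : G → ℂ) - minDv 2 B with hh
  set S0 := (bset B).filter fun χ : IrrCharacter G => dv 2 (χ : G → ℂ) = minDv 2 B with hS0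
  set N := Fintype.card (rootField (2 ^ (k + 1)) →ₐ[ℚ] ℂ) with hN
  have hN0 : (N : ℂ) ≠ 0 :=
    Nat.cast_ne_zero.2 (Fintype.card_pos_iff.2 ⟨(rootField (2 ^ (k + 1))).val⟩).ne'
  have hcardB : (bset B).card = Nat.card B := by
    rw [Nat.card_eq_fintype_card, Fintype.card_of_finset' (bset B) fun χ => mem_bset]
  obtain ⟨χ0, hχ0, hχ00⟩ := exists_height_zero hM hind.2.1
  have hχ0S : χ0 ∈ S0 := Finset.mem_filter.2 ⟨mem_bset.2 hχ0, hχ00⟩
  have hdiv' : ∀ χ ∈ S0, ∀ ψ ∈ bset B, ∃ u : rootField (2 ^ (k + 1)),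
      Z χ ψ = (2 : rootField (2 ^ (k + 1))) ^ h ψ * u ∧ IsIntegral ℤ (u : ℂ) ∧ u ≠ 0 := by
    intro χ hχ ψ hψ
    obtain ⟨hχB, hχ0'⟩ := Finset.mem_filter.1 hχ
    obtain ⟨u, hu, hui, hu0⟩ := secPair_div hM hH hx hind hdef (mem_bset.1 hχB) (mem_bset.1 hψ) hχ0'
    have h2 : ((2 : rootField (2 ^ (k + 1))) ^ h ψ) ≠ 0 := pow_ne_zero _ two_ne_zero
    have hv : ((Z χ ψ / 2 ^ h ψ : rootField (2 ^ (k + 1))) : ℂ) = u := by
      push_cast
      rw [(hZ χ ψ).1, hu]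
      simp only [hh, Nat.cast_ofNat]
      exact mul_div_cancel_left₀ _ (pow_ne_zero _ two_ne_zero)
    refine ⟨Z χ ψ / 2 ^ h ψ, (mul_div_cancel₀ _ h2).symm, by rw [hv]; exact hui, fun e => ?_⟩
    rw [e] at hv
    exact hu0 (by rw [← hv]; rfl)
  have hZne : ∀ χ ∈ S0, ∀ ψ ∈ bset B, Z χ ψ ≠ 0 := fun χ hχ ψ hψ => by
    obtain ⟨u, hu, -, hu0⟩ := hdiv' χ hχ ψ hψ
    rw [hu]; exact mul_ne_zero (pow_ne_zero _ two_ne_zero) hu0
  have hZne' : ∀ χ ∈ bset B, Z χ χ0 ≠ 0 := fun χ hχ e => by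
    apply hZne χ0 hχ0S χ hχ
    apply Subtype.ext
    rw [(hZ χ0 χ).1, ← secPair_conj, ← (hZ χ χ0).1, e]
    simp
  have hodd : ∀ χ ∈ S0, Odd (A χ) := fun χ hχ => by
    obtain ⟨hχB, hχ0'⟩ := Finset.mem_filter.1 hχ
    refine odd_of_cast_ne hM ?_
    rw [← hres]
    exact (secPair_res_ne hM hH hx hind (mem_bset.1 hχB) (mem_bset.1 hχB) hχ0' hχ0').2
  have hh1 : ∀ χ ∈ bset B, χ ∉ S0 → minDv 2 B < dv 2 (χ : G → ℂ) := fun χ hχ hn =>
    lt_of_le_of_ne (minDv_le (mem_bset.1 hχ)) fun e => hn (Finset.mem_filter.2 ⟨hχ, e.symm⟩)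
  have hAdiv : ∀ χ ∈ bset B, χ ∉ S0 → (2 : ℤ) ^ (h χ + 1) ∣ A χ := by
    intro χ hχ hn
    obtain ⟨u, hu, hui, hu0⟩ := secPair_diag_div hM hH hx hind hdef (mem_bset.1 hχ) (hh1 χ hχ hn)
    set w : rootField (2 ^ (k + 1)) := Z χ χ / 2 ^ h χ with hw
    have hwv : (w : ℂ) = u := by
      rw [hw]
      push_cast
      rw [(hZ χ χ).1, hu]
      simp only [hh, Nat.cast_ofNat]
      exact mul_div_cancel_left₀ _ (pow_ne_zero _ two_ne_zero)
    obtain ⟨a, ha, hares⟩ := exists_avg hM k w (by rw [hwv]; exact hui) (by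
      have hc : conj (secPair 2 x b (χ : G → ℂ) (χ : G → ℂ)) = secPair 2 x b (χ : G → ℂ) (χ : G → ℂ) :=
        secPair_conj 2 x b _ _
      rw [hu, map_mul, map_pow] at hc
      have h2 : conj ((2 : ℕ) : ℂ) = ((2 : ℕ) : ℂ) := map_natCast _ 2
      rw [h2] at hc
      rw [hwv]
      exact mul_left_cancel₀ (pow_ne_zero _ (Nat.cast_ne_zero.2 two_ne_zero)) hc)
    rw [hwv, hu0, eq_comm, CharP.intCast_eq_zero_iff (AlgInt ⧸ M) 2] at hares
    have e : A χ = 2 ^ h χ * a := by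
      have h1 : ((A χ : ℤ) : ℂ) = ((2 ^ h χ * a : ℤ) : ℂ) := by
        refine mul_left_cancel₀ hN0 ?_
        rw [← hA χ]
        have : Z χ χ = (2 : rootField (2 ^ (k + 1))) ^ h χ * w :=
          (mul_div_cancel₀ _ (pow_ne_zero _ two_ne_zero)).symm
        simp only [this, map_mul, map_pow, map_ofNat, ← Finset.mul_sum, ha]
        push_cast
        ring
      exact_mod_cast h1
    rw [e, pow_succ]
    exact mul_dvd_mul_left _ (by simpa using hares)
  have hAtot : ∑ χ ∈ bset B, A χ = 2 ^ d * (blockRank 2 b : ℤ) := by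
    have e : ∑ χ ∈ bset B, Z χ χ =
        ((2 ^ d * blockRank 2 b : ℕ) : rootField (2 ^ (k + 1))) := by
      apply (rootField (2 ^ (k + 1))).val.injective
      rw [map_sum, map_natCast]
      show ∑ χ ∈ bset B, (Z χ χ : ℂ) = _
      rw [Finset.sum_congr rfl fun χ _ => (hZ χ χ).1, sum_secPair_diag hM hH hx hind, hdef]
      push_cast
      rfl
    have h1 : ∑ σ : rootField (2 ^ (k + 1)) →ₐ[ℚ] ℂ, σ (∑ χ ∈ bset B, Z χ χ) =
        (N : ℂ) * ((∑ χ ∈ bset B, A χ : ℤ) : ℂ) := by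
      simp only [map_sum]
      rw [Finset.sum_comm, Int.cast_sum, Finset.mul_sum]
      exact Finset.sum_congr rfl fun χ _ => hA χ
    rw [e] at h1
    simp only [map_natCast, Finset.sum_const, Finset.card_univ, nsmul_eq_mul] at h1
    exact_mod_cast (mul_left_cancel₀ hN0 h1).symm
  choose! U hU hUi hU0 using hdiv'
  have hnorm : ∀ χ ∈ S0, ∀ ψ ∈ bset B, ∀ σ : rootField (2 ^ (k + 1)) →ₐ[ℚ] ℂ,
      ((4 : ℕ) ^ h ψ : ℝ) * Complex.normSq (σ (U χ ψ)) = Complex.normSq (σ (Z χ ψ)) := by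
    intro χ hχ ψ hψ σ
    rw [hU χ hχ ψ hψ, map_mul, map_pow, map_ofNat, map_mul Complex.normSq, map_pow,
      Complex.normSq_ofNat]
    norm_num
  rw [← hcardB]
  obtain ⟨φ0⟩ : Nonempty (rootField (2 ^ (k + 1)) →ₐ[ℚ] ℂ) := ⟨(rootField (2 ^ (k + 1))).val⟩
  rcases hL with hL | ⟨hL, hB1⟩
  · refine two_count (bset B) S0 (Finset.filter_subset _ _) h d (blockRank 2 b) hL A
      (fun χ hχ => hpos χ ⟨χ0, mem_bset.2 hχ0, hZne' χ hχ⟩) hodd hAdiv
      (fun χ hχ hn => by have := hh1 χ hχ hn; simp only [hh]; omega) (fun χ hχ => ?_) hAtot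
    have := weighted_card_le_avg (bset B) (U χ) (fun ψ => 4 ^ h ψ) (fun ψ hψ => hUi χ hχ ψ hψ)
      (fun ψ hψ => hU0 χ hχ ψ hψ) (2 ^ d * A χ) ?_
    · exact_mod_cast this
    · push_cast
      rw [mul_left_comm, ← hre χ, Finset.mul_sum]
      refine Finset.sum_le_sum fun σ _ => le_of_eq ?_
      rw [show (2 : ℝ) ^ d = 2 ^ blockDefect 2 b by rw [hdef], ← (row_hom hM hH hk hind hZ σ χ).1]
      exact Finset.sum_congr rfl fun ψ hψ => by exact_mod_cast hnorm χ hχ ψ hψ σ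
  · -- the complementary contributions
    have hother : ∀ χ : IrrCharacter G, ∃ ψ ∈ bset B, ψ ≠ χ ∧ (χ ∈ bset B → Z χ ψ ≠ 0) := by
      intro χ
      by_cases h1 : χ = χ0
      · obtain ⟨ψ, hψ, hne⟩ := Finset.exists_mem_ne (hcardB.symm ▸ hB1) χ
        exact ⟨ψ, hψ, hne, fun _ => h1 ▸ hZne χ0 hχ0S ψ hψ⟩
      · exact ⟨χ0, mem_bset.2 hχ0, Ne.symm h1, fun h2 => hZne' χ h2⟩
    set C : IrrCharacter G → rootField (2 ^ (k + 1)) := fun χ =>
      ((2 ^ d : ℕ) : rootField (2 ^ (k + 1))) - Z χ χ with hC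
    have hσC : ∀ χ ∈ bset B, ∀ σ : rootField (2 ^ (k + 1)) →ₐ[ℚ] ℂ,
        (∑ ψ ∈ (bset B).erase χ, Complex.normSq (σ (Z χ ψ))) + Complex.normSq (σ (C χ)) =
          2 ^ d * (σ (C χ)).re ∧
        (σ (C χ)).re = 2 ^ d - (σ (Z χ χ)).re ∧ (χ ∈ bset B → 0 < (σ (C χ)).re) := by
      intro χ hχ σ
      obtain ⟨hrow, him⟩ := row_hom hM hH hk hind hZ σ χ
      rw [hdef, ← Finset.add_sum_erase _ _ hχ] at hrow
      have hCre : (σ (C χ)).re = 2 ^ d - (σ (Z χ χ)).re := by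
        simp only [hC, map_sub, map_natCast, Complex.sub_re, Complex.natCast_re]
        push_cast
        rfl
      have hCim : (σ (C χ)).im = 0 := by
        simp only [hC, map_sub, map_natCast, Complex.sub_im, Complex.natCast_im, him, sub_zero]
      have hsq : ∀ c : ℂ, c.im = 0 → Complex.normSq c = c.re * c.re := fun c hc => by
        rw [Complex.normSq_apply, hc]; ring
      rw [hsq _ him] at hrow
      refine ⟨?_, hCre, fun _ => ?_⟩
      · rw [hsq _ hCim, hCre]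
        linear_combination hrow
      · obtain ⟨ψ, hψ, hne, hz⟩ := hother χ
        have hlt : 0 < ∑ ψ ∈ (bset B).erase χ, Complex.normSq (σ (Z χ ψ)) :=
          Finset.sum_pos' (fun _ _ => Complex.normSq_nonneg _) ⟨ψ, Finset.mem_erase.2 ⟨hne, hψ⟩,
            Complex.normSq_pos.2 (by rw [Ne, map_eq_zero_iff σ σ.injective]; exact hz hχ)⟩
        rw [hCre]
        by_contra hneg
        have hp2 : (0 : ℝ) ≤ 2 ^ d := by positivity
        nlinarith [mul_nonneg (show (0 : ℝ) ≤ (σ (Z χ χ)).re by linarith)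
          (show (0 : ℝ) ≤ (σ (Z χ χ)).re - 2 ^ d by linarith)]
    have hNr : (0 : ℝ) < N := by exact_mod_cast Fintype.card_pos_iff.2 ⟨(rootField (2 ^ (k + 1))).val⟩
    have hCre : ∀ χ ∈ bset B, ∑ σ : rootField (2 ^ (k + 1)) →ₐ[ℚ] ℂ, (σ (C χ)).re =
        (N : ℝ) * ((2 ^ d - A χ : ℤ) : ℝ) := by
      intro χ hχ
      rw [Finset.sum_congr rfl fun σ _ => (hσC χ hχ σ).2.1, Finset.sum_sub_distrib, hre χ,
        Finset.sum_const, Finset.card_univ, nsmul_eq_mul, ← hN]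
      push_cast
      ring
    have hdpos : ∀ χ ∈ bset B, χ ∉ S0 → h χ + 1 ≤ d := fun χ hχ hn => by
      have := height_add_two_le hM hind.2.1 (mem_bset.1 hχ) (hh1 χ hχ hn)
      simp only [hh]; omega
    have hd1 : 1 ≤ d := by
      by_contra h0
      have hbf := brauer_feit hM hind.2.1
      rw [← hd, show d = 0 by omega, pow_zero, one_pow] at hbf
      have h2 : (((bset B).card : ℕ) : ℤ) ≤
          ∑ ψ ∈ bset B, ((((2 : ℕ) : ℤ) ^ (dv 2 (ψ : G → ℂ) - minDv 2 B))) ^ 2 := by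
        rw [Finset.card_eq_sum_ones, Nat.cast_sum]
        exact Finset.sum_le_sum fun ψ _ => by
          rw [Nat.cast_one, ← pow_mul]; exact one_le_pow₀ (by norm_num)
      rw [hcardB] at h2
      omega
    have hk' : blockRank 2 b ≤ Nat.card B := by
      have hAle : ∀ χ ∈ bset B, A χ ≤ 2 ^ d := fun χ hχ => by
        have h1 := hCre χ hχ
        have h2 : (0 : ℝ) ≤ ∑ σ : rootField (2 ^ (k + 1)) →ₐ[ℚ] ℂ, (σ (C χ)).re :=
          Finset.sum_nonneg fun σ _ => ((hσC χ hχ σ).2.2 hχ).le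
        rw [h1] at h2
        have := (mul_nonneg_iff_of_pos_left hNr).1 h2
        have : (0 : ℤ) ≤ 2 ^ d - A χ := by exact_mod_cast this
        linarith
      have h1 := Finset.sum_le_sum hAle
      rw [hAtot, Finset.sum_const, hcardB, nsmul_eq_mul, mul_comm (Nat.card B : ℤ)] at h1
      exact_mod_cast le_of_mul_le_mul_left h1 (by positivity)
    refine two_count (bset B) S0 (Finset.filter_subset _ _) h d (Nat.card B - blockRank 2 b)
      (by omega) (fun χ => 2 ^ d - A χ) (fun χ hχ => ?_) (fun χ hχ => ?_) (fun χ hχ hn => ?_)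
      (fun χ hχ hn => by have := hh1 χ hχ hn; simp only [hh]; omega) (fun χ hχ => ?_) ?_
    · have h1 := hCre χ hχ
      have h2 : (0 : ℝ) < ∑ σ : rootField (2 ^ (k + 1)) →ₐ[ℚ] ℂ, (σ (C χ)).re :=
        Finset.sum_pos (fun σ _ => (hσC χ hχ σ).2.2 hχ)
          ⟨(rootField (2 ^ (k + 1))).val, Finset.mem_univ _⟩
      rw [h1] at h2
      exact_mod_cast (mul_pos_iff_of_pos_left hNr).1 h2
    · exact ((Int.even_pow.2 ⟨even_two, by omega⟩).sub_odd (hodd χ hχ))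
    · exact dvd_sub (pow_dvd_pow _ (hdpos χ hχ hn)) (hAdiv χ hχ hn)
    · have hχB := (Finset.mem_filter.1 hχ).1
      have := weighted_card_le_avg (bset B) (Function.update (U χ) χ (C χ)) (fun ψ => 4 ^ h ψ)
        (fun ψ hψ => ?_) (fun ψ hψ => ?_) (2 ^ d * (2 ^ d - A χ)) ?_
      · exact_mod_cast this
      · by_cases e : ψ = χ
        · subst e
          rw [Function.update_self]
          show IsIntegral ℤ ((rootField (2 ^ (k + 1))).val (C ψ))
          rw [hC, map_sub, map_natCast]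
          exact (isIntegral_natCast' _).sub (hZ ψ ψ).2.1
        · rw [Function.update_of_ne e]; exact hUi χ hχ ψ hψ
      · by_cases e : ψ = χ
        · subst e
          rw [Function.update_self]
          intro h0
          have := (hσC ψ hψ φ0).2.2 hψ
          rw [h0, map_zero, Complex.zero_re] at this
          exact lt_irrefl _ this
        · rw [Function.update_of_ne e]; exact hU0 χ hχ ψ hψ
      · have hR : ((((2 : ℤ) ^ d * (2 ^ d - A χ) : ℤ)) : ℝ) =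
            (2 : ℝ) ^ d * ((2 ^ d - A χ : ℤ) : ℝ) := by push_cast; ring
        rw [hR, mul_left_comm, ← hCre χ hχB, Finset.mul_sum]
        refine Finset.sum_le_sum fun σ _ => le_of_eq ?_
        rw [← (hσC χ hχB σ).1, ← Finset.add_sum_erase _ _ hχB, add_comm]
        congr 1
        · refine Finset.sum_congr rfl fun ψ hψ => ?_
          rw [Function.update_of_ne (Finset.ne_of_mem_erase hψ)]
          exact_mod_cast hnorm χ hχ ψ (Finset.mem_of_mem_erase hψ) σ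
        · rw [Function.update_self, show h χ = 0 by
            simp only [hh]; rw [(Finset.mem_filter.1 hχ).2, Nat.sub_self]]
          simp
    · rw [Finset.sum_sub_distrib, hAtot, Finset.sum_const, hcardB, nsmul_eq_mul,
        Nat.cast_sub hk']
      ring

/-- The characters of height zero as a finset. -/
theorem natCard_height_zero (p : ℕ) (B : Set (IrrCharacter G))
    [DecidablePred fun χ : IrrCharacter G => dv p (χ : G → ℂ) = minDv p B] :
    Nat.card {χ : IrrCharacter G // χ ∈ B ∧ blockHeight p B (χ : G → ℂ) = 0} =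
      ((bset B).filter fun χ : IrrCharacter G => dv p (χ : G → ℂ) = minDv p B).card := by
  rw [Nat.subtype_card]
  intro χ
  rw [Finset.mem_filter, mem_bset]
  exact ⟨fun h => ⟨h.1, (height_zero_iff h.1).2 h.2⟩, fun h => ⟨h.1, (height_zero_iff h.1).1 h.2⟩⟩

/-- The characters of positive height as a finset. -/
theorem finsum_height_pos (p : ℕ) (B : Set (IrrCharacter G))
    [DecidablePred fun χ : IrrCharacter G => dv p (χ : G → ℂ) = minDv p B]
    [DecidableEq (IrrCharacter G)] (f : IrrCharacter G → ℕ) :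
    (∑ᶠ χ ∈ {χ : IrrCharacter G | χ ∈ B ∧ 1 ≤ blockHeight p B (χ : G → ℂ)}, f χ) =
      ∑ χ ∈ bset B \ (bset B).filter (fun χ : IrrCharacter G =>
        dv p (χ : G → ℂ) = minDv p B), f χ := by
  refine finsum_mem_eq_finite_toFinset_sum _ (Set.toFinite _) |>.trans ?_
  refine Finset.sum_congr ?_ fun _ _ => rfl
  ext χ
  simp only [Set.Finite.mem_toFinset, Set.mem_setOf_eq, Finset.mem_sdiff, Finset.mem_filter,
    mem_bset, not_and]
  constructor
  · rintro ⟨h, h1⟩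
    exact ⟨h, fun _ h2 => by rw [(height_zero_iff h).2 h2] at h1; omega⟩
  · rintro ⟨h, h1⟩
    refine ⟨h, Nat.one_le_iff_ne_zero.2 fun h2 => h1 h ((height_zero_iff h).1 h2)⟩

/-- The blocks of a major subsection have the same defect. -/
theorem major_defect_eq {p : ℕ} (hM : IsPModular p M) {C : Subgroup G} {c : Set (IrrCharacter C)}
    (hB : IsPBlock M B) (hc : IsPBlock M c) {D : Subgroup G} (hD : IsDefectGroup p M B D)
    (hDC : D ≤ C) (hcD : IsDefectGroup p M c (D.subgroupOf C)) :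
    blockDefect p c = blockDefect p B := by
  classical
  haveI := Fintype.ofFinite C
  refine Nat.pow_right_injective hM.1.two_le ?_
  show p ^ blockDefect p c = p ^ blockDefect p B
  rw [← card_defectGroup hM hc hcD, ← card_defectGroup hM hB hD,
    Nat.card_congr (Subgroup.subgroupOfEquivOfLe hDC).toEquiv]

end CfsgLib.Blocks
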