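/-
The number of `p`-conjugates of an irreducible character.
-/
import Cfsg.Agent.Lib.Blocks.Covering
import Cfsg.Agent.Lib.Blocks.RegInt
import Cfsg.Agent.Lib.Blocks.CentralDefect
import Cfsg.Agent.Lib.Blocks.Vanishing
import Cfsg.Agent.Lib.Blocks.DefectZeroCount
import Cfsg.Agent.Lib.Blocks.ComplexAut
import Cfsg.Agent.Lib.CharTheory.PowerMap
import Mathlib.GroupTheory.GroupAction.Quotient

set_option linter.style.haveILetI false

namespace CfsgLib.Blocks.PConjugates

open Cfsg CfsgLib.CharTheory CfsgLib.Blocks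
open scoped ComplexConjugate

universe u

variable {G : Type u} [Group G] [Fintype G] {p : ℕ}

/-- Units act on the irreducible characters by power maps. -/
noncomputable instance unitsAction (G : Type u) [Group G] [Fintype G] :
    MulAction (ZMod (Nat.card G))ˣ (IrrCharacter G) where
  smul u χ := powIrr (ZMod.val_coe_unit_coprime u) χ
  one_smul χ := Subtype.ext (funext fun g => by
    show (χ : G → ℂ) (g ^ ((1 : (ZMod (Nat.card G))ˣ) : ZMod (Nat.card G)).val) = _
    rw [← pow_mod_natCard, Units.val_one]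
    rcases (Nat.one_le_iff_ne_zero.2 (Nat.card_pos (α := G)).ne').eq_or_lt with h | h
    · have hs : Subsingleton G := Finite.card_le_one_iff_subsingleton.1 h.ge
      exact congrArg _ (Subsingleton.elim _ _)
    · haveI : Fact (1 < Nat.card G) := ⟨h⟩
      rw [ZMod.val_one, Nat.mod_eq_of_lt h, pow_one])
  mul_smul u v χ := Subtype.ext (funext fun g => by
    show (χ : G → ℂ) (g ^ ((u * v : (ZMod (Nat.card G))ˣ) : ZMod (Nat.card G)).val) =
      (χ : G → ℂ) ((g ^ (u : ZMod (Nat.card G)).val) ^ (v : ZMod (Nat.card G)).val)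
    rw [← pow_mul, Units.val_mul, ZMod.val_mul, pow_mod_natCard])

theorem smul_apply (u : (ZMod (Nat.card G))ˣ) (χ : IrrCharacter G) (g : G) :
    ((u • χ : IrrCharacter G) : G → ℂ) g = (χ : G → ℂ) (g ^ (u : ZMod (Nat.card G)).val) := rfl

/-- The units congruent to `1` modulo a divisor of the order. -/
noncomputable def congrOne (G : Type u) [Group G] {d : ℕ} (hd : d ∣ Nat.card G) :
    Subgroup (ZMod (Nat.card G))ˣ :=
  (ZMod.unitsMap hd).ker

theorem mem_congrOne {d : ℕ} (hd : d ∣ Nat.card G) {u : (ZMod (Nat.card G))ˣ} :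
    u ∈ congrOne G hd ↔ (u : ZMod (Nat.card G)).val ≡ 1 [MOD d] := by
  haveI : NeZero (Nat.card G) := ⟨Nat.card_pos.ne'⟩
  rw [congrOne, MonoidHom.mem_ker, Units.ext_iff, ZMod.unitsMap_val, ← ZMod.natCast_eq_natCast_iff,
    Units.val_one, Nat.cast_one, ZMod.natCast_val]

/-- Automorphisms fixing the roots of unity of order prime to `p` are these power maps. -/
theorem mem_orbit_iff {d : ℕ} (hd : d ∣ Nat.card G) (χ ψ : IrrCharacter G) :
    ψ ∈ MulAction.orbit (congrOne G hd) χ ↔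
      ∃ σ : ℂ ≃+* ℂ, σ (Complex.exp (2 * Real.pi * Complex.I / (d : ℕ))) =
          Complex.exp (2 * Real.pi * Complex.I / (d : ℕ)) ∧
        (ψ : G → ℂ) = fun g => σ ((χ : G → ℂ) g) := by
  haveI : NeZero (Nat.card G) := ⟨Nat.card_pos.ne'⟩
  have hd0 : d ≠ 0 := fun h => Nat.card_pos.ne' (zero_dvd_iff.1 (h ▸ hd) : Nat.card G = 0)
  have hζ := Complex.isPrimitiveRoot_exp d hd0
  set ζ := Complex.exp (2 * Real.pi * Complex.I / (d : ℕ))
  have hζn : ζ ^ Nat.card G = 1 := by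
    obtain ⟨c, hc⟩ := hd
    rw [hc, pow_mul, hζ.pow_eq_one, one_pow]
  constructor
  · rintro ⟨⟨u, hu⟩, rfl⟩
    obtain ⟨σ, hσ⟩ := ComplexAut.exists_aut_pow Nat.card_pos.ne' (ZMod.val_coe_unit_coprime u)
    refine ⟨σ, ?_, funext fun g => ?_⟩
    · rw [hσ ζ hζn, ← pow_mod (G := ℂ) hζ.pow_eq_one, (mem_congrOne hd).1 hu,
        pow_mod (G := ℂ) hζ.pow_eq_one, pow_one]
    · rw [ComplexAut.aut_apply_char (isCharacter_of_irr χ.2) σ hσ g]
      rfl
  · rintro ⟨σ, hσ, hψ⟩
    obtain ⟨m, hm, hmσ⟩ := ComplexAut.exists_pow_of_aut (Nat.card_pos (α := G)).ne' σ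
    let u : (ZMod (Nat.card G))ˣ := ZMod.unitOfCoprime m hm
    have hval : (u : ZMod (Nat.card G)).val = m % Nat.card G := by
      show ((m : ZMod (Nat.card G))).val = _
      exact ZMod.val_natCast _ m
    have hu : u ∈ congrOne G hd := by
      rw [mem_congrOne, hval, Nat.ModEq, Nat.mod_mod_of_dvd _ hd]
      rw [hmσ ζ hζn] at hσ
      rcases Nat.eq_zero_or_pos m with rfl | hm0
      · rw [pow_zero] at hσ
        have h1 : d = 1 := hζ.unique (IsPrimitiveRoot.iff_def _ 1 |>.2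
          ⟨by rw [pow_one, ← hσ], fun l _ => one_dvd l⟩)
        simp [h1, Nat.mod_one]
      · obtain ⟨l, rfl⟩ : ∃ l, m = l + 1 := ⟨m - 1, by omega⟩
        rw [pow_succ, mul_eq_right₀ (hζ.ne_zero hd0), hζ.pow_eq_one_iff_dvd] at hσ
        obtain ⟨c, rfl⟩ := hσ
        rw [Nat.add_mod, Nat.mul_mod_right, Nat.zero_add, Nat.mod_mod]
    refine ⟨⟨u, hu⟩, Subtype.ext (funext fun g => ?_)⟩
    show (χ : G → ℂ) (g ^ (u : ZMod (Nat.card G)).val) = _
    simp only [hψ]
    rw [ComplexAut.aut_apply_char (isCharacter_of_irr χ.2) σ hmσ g, hval, pow_mod_natCard]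
where
  pow_mod {G : Type} [Monoid G] {x : G} {d m : ℕ} (h : x ^ d = 1) : x ^ (m % d) = x ^ m := by
    conv_rhs => rw [← Nat.mod_add_div m d, pow_add, pow_mul, h, one_pow, mul_one]

theorem coprime_one_add {N m : ℕ} (h : ∀ q : ℕ, q.Prime → q ∣ N → q ∣ m) (j : ℕ) :
    (1 + m * j).Coprime N := by
  refine Nat.coprime_of_dvd fun q hq hq1 hqN => hq.not_dvd_one ?_
  exact (Nat.dvd_add_left ((h q hq hqN).mul_right j)).1 hq1

/-- The main estimate. -/
theorem main (hp : p.Prime) (hdvd : p ∣ Nat.card G) (χ : IrrCharacter G) :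
    let a := (Nat.card G).factorization p
    let hd' : Nat.card G / p ^ a ∣ Nat.card G :=
      Nat.div_dvd_of_dvd (Nat.ordProj_dvd (Nat.card G) p)
    let r := Nat.card (MulAction.orbit (congrOne G hd') χ)
    (r * charDegree (χ : G → ℂ)).factorization p ≤ a ∧
      (p ^ a ∣ r * charDegree (χ : G → ℂ) → p ^ a ∣ charDegree (χ : G → ℂ)) := by
  intro a hd' r
  classical
  haveI : NeZero (Nat.card G) := ⟨Nat.card_pos.ne'⟩
  haveI : Fact p.Prime := ⟨hp⟩
  set n' := Nat.card G / p ^ a with hn'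
  have hn : Nat.card G = n' * p ^ a :=
    (Nat.div_mul_cancel (Nat.ordProj_dvd (Nat.card G) p)).symm
  have ha1 : 1 ≤ a := (hp.dvd_iff_one_le_factorization Nat.card_pos.ne').1 hdvd
  set w := n' * p with hw
  have hn'0 : n' ≠ 0 := fun h => Nat.card_pos.ne' (by rw [hn, h, zero_mul] : Nat.card G = 0)
  have hwn : Nat.card G = w * p ^ (a - 1) := by
    rw [hn, hw, mul_assoc, ← pow_succ', Nat.sub_add_cancel ha1]
  have hwd : w ∣ Nat.card G := ⟨_, hwn⟩
  have hwprime : ∀ q : ℕ, q.Prime → q ∣ Nat.card G → q ∣ w := by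
    intro q hq hqn
    rw [hn] at hqn
    rcases (Nat.Prime.dvd_mul hq).1 hqn with h | h
    · exact h.mul_right p
    · rw [(Nat.prime_dvd_prime_iff_eq hq hp).1 (hq.dvd_of_dvd_pow h)]
      exact dvd_mul_left p n'
  set Γ := congrOne G hd' with hΓ
  set W := congrOne G hwd with hW
  have hWΓ : W ≤ Γ := fun u hu =>
    (mem_congrOne hd').2 (((mem_congrOne hwd).1 hu).of_dvd (dvd_mul_right n' p))
  -- the group `W`
  have hlt : ∀ j : Fin (p ^ (a - 1)), 1 + w * (j : ℕ) < Nat.card G ∨ w = 1 := by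
    intro j
    rcases (Nat.one_le_iff_ne_zero.2 (mul_ne_zero hn'0 hp.ne_zero) : 1 ≤ w).eq_or_lt with h | h
    · exact Or.inr h.symm
    · left
      calc 1 + w * (j : ℕ) < w * ((j : ℕ) + 1) := by rw [mul_add, mul_one]; omega
        _ ≤ w * p ^ (a - 1) := Nat.mul_le_mul_left w j.2
        _ = Nat.card G := hwn.symm
  have hw1 : 1 < w := by
    have h1 : 1 ≤ n' := Nat.one_le_iff_ne_zero.2 hn'0
    exact lt_of_lt_of_le hp.one_lt (Nat.le_mul_of_pos_left p h1)
  let e : Fin (p ^ (a - 1)) → W := fun j =>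
    ⟨ZMod.unitOfCoprime (1 + w * (j : ℕ)) (coprime_one_add hwprime j), by
      rw [mem_congrOne]
      show ((1 + w * (j : ℕ) : ℕ) : ZMod (Nat.card G)).val ≡ 1 [MOD w]
      rw [ZMod.val_natCast, Nat.mod_eq_of_lt ((hlt j).resolve_right hw1.ne'), Nat.ModEq,
        Nat.add_mul_mod_self_left]⟩
  have hev : ∀ j, ((e j : (ZMod (Nat.card G))ˣ) : ZMod (Nat.card G)).val = 1 + w * (j : ℕ) :=
    fun j => by
      show ((1 + w * (j : ℕ) : ℕ) : ZMod (Nat.card G)).val = _
      rw [ZMod.val_natCast, Nat.mod_eq_of_lt ((hlt j).resolve_right hw1.ne')]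
  have hebij : Function.Bijective e := by
    constructor
    · intro i j h
      have := (hev i).symm.trans ((congrArg (fun u : W =>
        ((u : (ZMod (Nat.card G))ˣ) : ZMod (Nat.card G)).val) h).trans (hev j))
      exact Fin.ext (Nat.eq_of_mul_eq_mul_left (by omega) (Nat.add_left_cancel this))
    · rintro ⟨u, hu⟩
      have hu' := (mem_congrOne hwd).1 hu
      rw [Nat.ModEq, Nat.mod_eq_of_lt hw1] at hu'
      have hv : (u : ZMod (Nat.card G)).val = 1 + w * ((u : ZMod (Nat.card G)).val / w) := by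
        conv_lhs => rw [← Nat.mod_add_div (u : ZMod (Nat.card G)).val w, hu']
      have hj : (u : ZMod (Nat.card G)).val / w < p ^ (a - 1) := by
        rw [Nat.div_lt_iff_lt_mul (by omega), mul_comm, ← hwn]
        exact ZMod.val_lt _
      refine ⟨⟨_, hj⟩, Subtype.ext (Units.ext (ZMod.val_injective _ ?_))⟩
      rw [hev]
      exact hv.symm
  let eW : Fin (p ^ (a - 1)) ≃ W := Equiv.ofBijective e hebij
  have hWcard : Nat.card W = p ^ (a - 1) := by rw [← Nat.card_congr eW, Nat.card_fin]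
  haveI : Fintype W := Fintype.ofFinite _
  -- orbits and stabilizers
  set S := MulAction.stabilizer W χ with hS
  set O := MulAction.orbit W χ with hO
  obtain ⟨k, hk, hkO⟩ : ∃ k ≤ a - 1, Nat.card O = p ^ k := by
    refine (Nat.dvd_prime_pow hp).1 ?_
    rw [← hWcard]
    exact ⟨Nat.card S, ((MulAction.index_stabilizer W χ ▸ S.card_mul_index) : _).symm.trans
      (by rw [mul_comm]; rfl)⟩
  have hOS : Nat.card O * Nat.card S = p ^ (a - 1) := by
    rw [← hWcard, ← S.card_mul_index, MulAction.index_stabilizer, mul_comm]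
    rfl
  have hrk : r.factorization p = k := by
    have hker : ∀ H : Subgroup (ZMod (Nat.card G))ˣ, H ≤ Γ →
        ((ZMod.unitsMap hdvd).comp H.subtype).ker = W.subgroupOf H := by
      intro H hH
      ext ⟨u, hu'⟩
      have hu := hH hu'
      rw [MonoidHom.mem_ker, Subgroup.mem_subgroupOf, hW]
      show ZMod.unitsMap hdvd u = 1 ↔ u ∈ congrOne G hwd
      rw [← MonoidHom.mem_ker, ← congrOne, mem_congrOne, mem_congrOne]
      refine ⟨fun h => ?_, fun h => h.of_dvd (dvd_mul_left p n')⟩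
      refine (Nat.modEq_and_modEq_iff_modEq_mul ?_).1 ⟨(mem_congrOne hd').1 hu, h⟩
      exact ((hp.coprime_iff_not_dvd.2 (Nat.not_dvd_ordCompl hp Nat.card_pos.ne')).symm)
    have hidx : ∀ H : Subgroup (ZMod (Nat.card G))ˣ, H ≤ Γ → ¬ p ∣ (W ⊓ H).relIndex H := by
      intro H hH hdvd'
      have h2 : W.relIndex H ∣ p - 1 := by
        show (W.subgroupOf H).index ∣ _
        rw [← hker H hH, Subgroup.index_ker, ← Nat.totient_prime hp, ← ZMod.card_units_eq_totient,
          ← Nat.card_eq_fintype_card]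
        exact Subgroup.card_subgroup_dvd_card _
      rw [Subgroup.inf_relIndex_right] at hdvd'
      have := Nat.le_of_dvd (by have := hp.two_le; omega) (hdvd'.trans h2)
      have := hp.two_le
      omega
    set SΓ : Subgroup (ZMod (Nat.card G))ˣ :=
      Γ ⊓ MulAction.stabilizer (ZMod (Nat.card G))ˣ χ with hSΓ
    have hr : r = SΓ.relIndex Γ := by
      rw [hSΓ, Subgroup.inf_relIndex_left]
      show Nat.card (MulAction.orbit Γ χ) = _
      exact (MulAction.index_stabilizer Γ χ).symm.trans rfl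
    have hkW : p ^ k = (W ⊓ SΓ).relIndex W := by
      rw [Subgroup.inf_relIndex_left, hSΓ, ← hkO]
      have : (Γ ⊓ MulAction.stabilizer (ZMod (Nat.card G))ˣ χ).subgroupOf W =
          MulAction.stabilizer W χ := by
        ext ⟨u, hu⟩
        exact ⟨fun h => h.2, fun h => ⟨hWΓ hu, h⟩⟩
      show _ = ((Γ ⊓ MulAction.stabilizer (ZMod (Nat.card G))ˣ χ).subgroupOf W).index
      rw [this]
      exact (MulAction.index_stabilizer W χ).symm
    have hA := Subgroup.relIndex_mul_relIndex (W ⊓ SΓ) W Γ inf_le_left hWΓ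
    have hB := Subgroup.relIndex_mul_relIndex (W ⊓ SΓ) SΓ Γ inf_le_right inf_le_left
    have hpΓ : ¬ p ∣ W.relIndex Γ := by
      have := hidx Γ le_rfl
      rwa [inf_eq_left.2 hWΓ] at this
    have hnz : ∀ A B : Subgroup (ZMod (Nat.card G))ˣ, A.relIndex B ≠ 0 := fun A B =>
      Subgroup.index_ne_zero_of_finite
    have h3 := congrArg (fun n : ℕ => n.factorization p) (hA.trans hB.symm)
    rw [Nat.factorization_mul (hnz _ _) (hnz _ _), Nat.factorization_mul (hnz _ _) (hnz _ _)] at h3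
    simp only [Finsupp.add_apply,
      Nat.factorization_eq_zero_of_not_dvd hpΓ,
      Nat.factorization_eq_zero_of_not_dvd (hidx SΓ inf_le_left), ← hkW, ← hr,
      hp.factorization_pow, Finsupp.single_eq_same, add_zero, zero_add] at h3
    exact h3.symm
  -- the averaged function
  set h : G → ℂ := fun g => ((p : ℂ) ^ (a - 1))⁻¹ *
    ∑ j : Fin (p ^ (a - 1)), (χ : G → ℂ) (g ^ (1 + w * (j : ℕ))) with hh
  have hpc : (p : ℂ) ≠ 0 := Nat.cast_ne_zero.2 hp.ne_zero
  have hsumW : ∀ g, h g = ((p : ℂ) ^ (a - 1))⁻¹ *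
      ∑ u : W, ((u • χ : IrrCharacter G) : G → ℂ) g := by
    intro g
    rw [hh]
    simp only
    congr 1
    rw [← eW.sum_comp]
    refine Finset.sum_congr rfl fun j _ => ?_
    show _ = (χ : G → ℂ) (g ^ ((e j : (ZMod (Nat.card G))ˣ) : ZMod (Nat.card G)).val)
    rw [hev]
  have hint : ∀ g, IsIntegral ℤ (h g) := by
    intro g
    obtain ⟨s, hs, hpow⟩ := exists_roots_pow (isCharacter_of_irr χ.2) g
    have h1 : ∀ x ∈ s, ∑ j : Fin (p ^ (a - 1)), x ^ (1 + w * (j : ℕ)) =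
        (p : ℂ) ^ (a - 1) * (if x ^ w = 1 then x else 0) := by
      intro x hx
      simp only [pow_add, pow_one, pow_mul]
      rw [← Finset.mul_sum, Fin.sum_univ_eq_sum_range (fun j => (x ^ w) ^ j)]
      split_ifs with hxw
      · simp [hxw, mul_comm]
      · rw [geom_sum_eq hxw, ← pow_mul, ← hwn, hs x hx, sub_self, zero_div, mul_zero, mul_zero]
    have h2 : h g = (s.map fun x => if x ^ w = 1 then x else 0).sum := by
      rw [hh]
      simp only [hpow, Finset.sum]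
      rw [Multiset.sum_map_sum_map]
      show _ * (s.map fun x => ∑ j : Fin (p ^ (a - 1)), x ^ (1 + w * (j : ℕ))).sum = _
      rw [Multiset.map_congr rfl (fun x hx => h1 x hx), Multiset.sum_map_mul_left, ← mul_assoc,
        inv_mul_cancel₀ (pow_ne_zero _ hpc), one_mul]
    rw [h2]
    refine (mem_integralClosure_iff ℤ ℂ).1 (Subalgebra.multiset_sum_mem _ fun y hy => ?_)
    obtain ⟨x, hx, rfl⟩ := Multiset.mem_map.1 hy
    split_ifs
    · exact IsIntegral.of_pow Nat.card_pos (by rw [hs x hx]; exact isIntegral_one)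
    · exact isIntegral_zero
  have hSk : (Nat.card S : ℂ) = (p : ℂ) ^ (a - 1) / (p : ℂ) ^ k := by
    rw [eq_div_iff (pow_ne_zero _ hpc)]
    have : ((Nat.card O * Nat.card S : ℕ) : ℂ) = ((p ^ (a - 1) : ℕ) : ℂ) := by rw [hOS]
    rw [Nat.cast_mul, hkO, Nat.cast_pow, Nat.cast_pow] at this
    linear_combination this
  have horth : ∑ g : G, (χ : G → ℂ) g * h g⁻¹ = (Nat.card G : ℂ) / (p : ℂ) ^ k := by
    have h1 : ∀ u : W, ∑ g : G, (χ : G → ℂ) g * ((u • χ : IrrCharacter G) : G → ℂ) g⁻¹ =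
        if u • χ = χ then (Nat.card G : ℂ) else 0 := by
      intro u
      simp only [irr_inv]
      have hc : classInner (χ : G → ℂ) ((u • χ : IrrCharacter G) : G → ℂ) =
          if u • χ = χ then 1 else 0 := by
        split_ifs with he
        · rw [he, classInner_irr_self χ.2]
        · exact classInner_irr_ne χ.2 (u • χ).2 fun h => he (Subtype.ext h).symm
      rw [classInner, inv_mul_eq_iff_eq_mul₀ (Nat.cast_ne_zero.2 Nat.card_pos.ne')] at hc
      rw [hc, mul_ite, mul_one, mul_zero]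
    simp only [hsumW, Finset.mul_sum]
    rw [Finset.sum_comm]
    have h2 : ∀ (u : W) (g : G), (χ : G → ℂ) g * (((p : ℂ) ^ (a - 1))⁻¹ *
        ((u • χ : IrrCharacter G) : G → ℂ) g⁻¹) =
        ((p : ℂ) ^ (a - 1))⁻¹ * ((χ : G → ℂ) g * ((u • χ : IrrCharacter G) : G → ℂ) g⁻¹) :=
      fun u g => by ring
    simp only [h2, ← Finset.mul_sum, h1]
    rw [Finset.sum_ite, Finset.sum_const, Finset.sum_const_zero, add_zero, nsmul_eq_mul,
      show (Finset.univ.filter fun u : W => u • χ = χ).card = Nat.card S by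
        rw [Nat.card_eq_fintype_card (α := S), Fintype.card_of_subtype]
        exact fun u => by simp [hS, MulAction.mem_stabilizer_iff],
      hSk]
    field_simp
  have hcf : IsClassFunction G (fun g => h g⁻¹) := fun x y => by
    simp only [hh]
    congr 1
    refine Finset.sum_congr rfl fun j _ => ?_
    rw [inv_pow, inv_pow, conj_pow, show (y * x ^ (1 + w * (j : ℕ)) * y⁻¹)⁻¹ =
      y * (x ^ (1 + w * (j : ℕ)))⁻¹ * y⁻¹ by group]
    exact isClassFunction_irr χ.2 _ _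
  set dχ := charDegree (χ : G → ℂ) with hdχ
  have hdeg : p ^ k * dχ ∣ Nat.card G := by
    have hω : omega (χ : G → ℂ) (fun g => h g⁻¹) =
        (((Nat.card G : ℚ) / ((p : ℚ) ^ k * (dχ : ℚ)) : ℚ) : ℂ) := by
      rw [omega, Finset.sum_congr rfl fun g _ => mul_comm _ _, horth, ← irr_charDegree_cast χ]
      push_cast
      rw [div_div]
    have hi : IsIntegral ℤ (omega (χ : G → ℂ) (fun g => h g⁻¹)) := by
      haveI : Fintype (ConjClasses G) := Fintype.ofFinite _
      rw [omega_eq_sum_classes hcf χ]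
      exact IsIntegral.sum _ fun C _ => (hint _).mul (isIntegral_clv _ χ)
    rw [hω] at hi
    obtain ⟨z, hz⟩ := exists_int_of_isIntegral_ratCast hi
    have hne : ((p : ℚ) ^ k * (dχ : ℚ)) ≠ 0 := mul_ne_zero (pow_ne_zero _ (Nat.cast_ne_zero.2 hp.ne_zero))
      (Nat.cast_ne_zero.2 (irr_charDegree_pos χ).ne')
    rw [div_eq_iff hne] at hz
    rw [← Int.natCast_dvd_natCast]
    refine ⟨z, ?_⟩
    have : (((Nat.card G : ℕ) : ℤ) : ℚ) = ((((p ^ k * dχ : ℕ) : ℤ) * z : ℤ) : ℚ) := by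
      push_cast
      rw [hz]; ring
    exact_mod_cast this
  have hdχ0 : dχ ≠ 0 := (irr_charDegree_pos χ).ne'
  have hr0 : r ≠ 0 := by
    haveI : Nonempty (MulAction.orbit Γ χ) := ⟨⟨χ, MulAction.mem_orbit_self χ⟩⟩
    exact Nat.card_pos.ne'
  have hle : k + dv p (χ : G → ℂ) ≤ a := by
    have := (Nat.factorization_le_iff_dvd (mul_ne_zero (pow_ne_zero _ hp.ne_zero) hdχ0)
      Nat.card_pos.ne').2 hdeg p
    rw [Nat.factorization_mul (pow_ne_zero _ hp.ne_zero) hdχ0, Finsupp.add_apply,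
      hp.factorization_pow, Finsupp.single_eq_same] at this
    exact this
  have hrd : (r * dχ).factorization p = k + dv p (χ : G → ℂ) := by
    rw [Nat.factorization_mul hr0 hdχ0, Finsupp.add_apply, hrk]; rfl
  refine ⟨hrd ▸ hle, fun hdiv => ?_⟩
  have heq : k + dv p (χ : G → ℂ) = a := by
    have := (hp.pow_dvd_iff_le_factorization (mul_ne_zero hr0 hdχ0)).1 hdiv
    rw [hrd] at this
    omega
  suffices hk0 : k = 0 by
    refine (hp.pow_dvd_iff_le_factorization hdχ0).2 ?_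
    show a ≤ dv p (χ : G → ℂ)
    omega
  by_contra hkpos
  obtain ⟨M, hM⟩ := exists_pModular hp
  set B := blockOf M (χ : G → ℂ) with hBdef
  have hB : IsPBlock M B := blockOf_isPBlock χ
  have hχB : χ ∈ B := mem_blockOf_self hM χ
  set d := blockDefect p B with hd
  set OF : Finset (IrrCharacter G) := Finset.univ.image (fun u : W => u • χ) with hOF
  have hOFcard : OF.card = p ^ k := by
    rw [← hkO, hO, ← Nat.card_eq_finsetCard]
    refine Nat.card_congr (Equiv.subtypeEquivRight fun ψ => ?_)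
    simp [hOF, MulAction.mem_orbit_iff]
  have hfix : ∀ (u : W) (g : G), g ^ w = 1 → ((u • χ : IrrCharacter G) : G → ℂ) g = (χ : G → ℂ) g := by
    intro u g hg
    show (χ : G → ℂ) (g ^ ((u : (ZMod (Nat.card G))ˣ) : ZMod (Nat.card G)).val) = _
    obtain ⟨j, rfl⟩ := hebij.2 u
    rw [hev, pow_add, pow_one, pow_mul, hg, one_pow, mul_one]
  have hreg : ∀ g : G, ¬ p ∣ orderOf g → g ^ w = 1 := by
    intro g hg
    refine orderOf_dvd_iff_pow_eq_one.1 (Dvd.dvd.mul_right ?_ p)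
    exact (((hp.coprime_iff_not_dvd.2 hg).pow_left a).symm).dvd_of_dvd_mul_right
      (hn ▸ orderOf_dvd_natCard g)
  have hOB : ∀ ψ ∈ OF, ψ ∈ B := by
    intro ψ hψ
    obtain ⟨u, -, rfl⟩ := Finset.mem_image.1 hψ
    exact sameBlock_of_regular hM fun g hg => by
      simp only [clv, centralChar, hfix u g (hreg g hg), hfix u 1 (one_pow w)]
  have hOreg : ∀ ψ ∈ OF, regS p (χ : G → ℂ) (ψ : G → ℂ) = regS p (χ : G → ℂ) (χ : G → ℂ) := by
    intro ψ hψ
    obtain ⟨u, -, rfl⟩ := Finset.mem_image.1 hψ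
    rw [regS_eq_sum, regS_eq_sum]
    refine Finset.sum_congr rfl fun g hg => ?_
    rw [hfix u g⁻¹ (by rw [inv_pow, hreg g (Finset.mem_filter.1 hg).2, inv_one])]
  choose! q hq hq1 hq2 hq3 hq4 using fun (ψ : IrrCharacter G) (hψ : ψ ∈ B) =>
    exists_int_proj hM hB hχB hψ
  have hnc : (Nat.card G : ℂ) ≠ 0 := Nat.cast_ne_zero.2 Nat.card_pos.ne'
  have hrow : ∑ ψ ∈ bset B, q ψ ^ 2 = (p : ℤ) ^ d * q χ := by
    have h1 : ∀ g : G, ∑ ψ ∈ bset B, regS p (χ : G → ℂ) (ψ : G → ℂ) *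
        (if p ∣ orderOf g then 0 else (ψ : G → ℂ) g * (χ : G → ℂ) g⁻¹) =
        (Nat.card G : ℂ) * (if p ∣ orderOf g then 0 else (χ : G → ℂ) g * (χ : G → ℂ) g⁻¹) := by
      intro g
      by_cases hg : p ∣ orderOf g
      · simp [hg]
      · simp only [if_neg hg, ← mul_assoc, ← Finset.sum_mul]
        rw [sum_regS_mul hM hB χ g, if_neg hg, ind_of_mem hχB, one_mul]
    have h2 : ∀ ψ : IrrCharacter G, regS p (ψ : G → ℂ) (χ : G → ℂ) =
        ∑ g : G, if p ∣ orderOf g then 0 else (ψ : G → ℂ) g * (χ : G → ℂ) g⁻¹ := fun ψ => by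
      rw [regS_eq_sum, Finset.sum_filter]
      exact Finset.sum_congr rfl fun g _ => by by_cases hg : p ∣ orderOf g <;> simp [hg]
    have h3 : ∑ ψ ∈ bset B, regS p (χ : G → ℂ) (ψ : G → ℂ) * regS p (ψ : G → ℂ) (χ : G → ℂ) =
        (Nat.card G : ℂ) * regS p (χ : G → ℂ) (χ : G → ℂ) := by
      simp only [h2 _, Finset.mul_sum]
      rw [Finset.sum_comm]
      exact Finset.sum_congr rfl fun g _ => h1 g
    have h4 : ((∑ ψ ∈ bset B, q ψ ^ 2 : ℤ) : ℂ) * (Nat.card G : ℂ) ^ 2 =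
        (((p : ℤ) ^ d * q χ : ℤ) : ℂ) * (Nat.card G : ℂ) ^ 2 := by
      push_cast
      rw [Finset.sum_mul]
      calc ∑ ψ ∈ bset B, (q ψ : ℂ) ^ 2 * (Nat.card G : ℂ) ^ 2
          = ∑ ψ ∈ bset B, ((p : ℂ) ^ d) ^ 2 *
              (regS p (χ : G → ℂ) (ψ : G → ℂ) * regS p (ψ : G → ℂ) (χ : G → ℂ)) := by
            refine Finset.sum_congr rfl fun ψ hψ => ?_
            rw [regS_comm (ψ : G → ℂ)]
            linear_combination (-1 : ℂ) * ((p : ℂ) ^ d * regS p (χ : G → ℂ) (ψ : G → ℂ) +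
              (Nat.card G : ℂ) * q ψ) * hq ψ (mem_bset.1 hψ)
        _ = (p : ℂ) ^ d * q χ * (Nat.card G : ℂ) ^ 2 := by
            rw [← Finset.mul_sum, h3]
            linear_combination (p : ℂ) ^ d * (Nat.card G : ℂ) * hq χ hχB
    exact_mod_cast mul_right_cancel₀ (pow_ne_zero 2 hnc) h4
  have hqO : ∀ ψ ∈ OF, q ψ = q χ := fun ψ hψ => by
    have e1 := hq ψ (hOB ψ hψ)
    rw [hOreg ψ hψ, hq χ hχB] at e1
    exact_mod_cast (mul_left_cancel₀ hnc e1).symm
  have hq0 : 0 < q χ := by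
    have e1 := hq χ hχB
    rw [regS_self_eq] at e1
    have hpos : 0 < ∑ y ∈ Finset.univ.filter (fun y : G => ¬ p ∣ orderOf y),
        Complex.normSq ((χ : G → ℂ) y) := by
      refine Finset.sum_pos' (fun g _ => Complex.normSq_nonneg _) ⟨1, ?_, ?_⟩
      · simp [hp.ne_one]
      · exact Complex.normSq_pos.2 (irr_one_ne_zero χ)
    have e2 : (p : ℝ) ^ d * (∑ y ∈ Finset.univ.filter (fun y : G => ¬ p ∣ orderOf y),
        Complex.normSq ((χ : G → ℂ) y)) = (Nat.card G : ℝ) * (q χ : ℝ) := by exact_mod_cast e1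
    have e3 : 0 < (Nat.card G : ℝ) * (q χ : ℝ) := by
      rw [← e2]; exact mul_pos (pow_pos (Nat.cast_pos.2 hp.pos) _) hpos
    exact_mod_cast (mul_pos_iff_of_pos_left (Nat.cast_pos.2 Nat.card_pos)).1 e3
  have hsub : OF ⊆ bset B := fun ψ hψ => mem_bset.2 (hOB ψ hψ)
  have hsplit := Finset.sum_sdiff (f := fun ψ => q ψ ^ 2) hsub
  have hOsum : ∑ ψ ∈ OF, q ψ ^ 2 = (p : ℤ) ^ k * q χ ^ 2 := by
    rw [Finset.sum_congr rfl (g := fun _ => q χ ^ 2) (fun ψ hψ => by rw [hqO ψ hψ]),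
      Finset.sum_const, hOFcard, nsmul_eq_mul, Nat.cast_pow]
  rw [hrow, hOsum] at hsplit
  have hrest : 0 ≤ ∑ ψ ∈ bset B \ OF, q ψ ^ 2 := Finset.sum_nonneg fun ψ _ => sq_nonneg _
  have hqle : (p : ℤ) ^ k * q χ ≤ (p : ℤ) ^ d := by
    refine le_of_mul_le_mul_right ?_ hq0
    rw [mul_assoc, ← sq]
    linarith
  have hminle : minDv p B ≤ dv p (χ : G → ℂ) := Nat.sInf_le ⟨χ, hχB, rfl⟩
  have hdeq : d + minDv p B = a := by
    have h9 : d = a - minDv p B := blockDefect_eq p B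
    omega
  have hmin : minDv p B = dv p (χ : G → ℂ) := by
    by_contra hne
    have hlt : minDv p B < dv p (χ : G → ℂ) := lt_of_le_of_ne hminle hne
    have h5 := Int.le_of_dvd hq0 (hq4 χ hχB hlt)
    have h6 : (p : ℤ) ^ k * (p : ℤ) ^ (dv p (χ : G → ℂ) - minDv p B + 1) ≤ (p : ℤ) ^ d :=
      le_trans (mul_le_mul_of_nonneg_left h5 (by positivity)) hqle
    rw [← pow_add] at h6
    have h7 : p ^ (k + (dv p (χ : G → ℂ) - minDv p B + 1)) ≤ p ^ d := by exact_mod_cast h6
    have := (Nat.pow_le_pow_iff_right hp.one_lt).1 h7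
    omega
  have hdk : d = k := by omega
  rw [hdk] at hsplit hqle
  have hq1' : q χ = 1 := by
    have hpk : (0 : ℤ) < (p : ℤ) ^ k := pow_pos (by exact_mod_cast hp.pos) k
    nlinarith
  rw [hq1', one_pow, mul_one] at hsplit
  have hrest0 : ∑ ψ ∈ bset B \ OF, q ψ ^ 2 = 0 := by linarith
  have hBO : bset B = OF := by
    refine Finset.Subset.antisymm (fun ψ hψ => ?_) hsub
    by_contra hno
    have h8 := (Finset.sum_eq_zero_iff_of_nonneg fun x _ => sq_nonneg (q x)).1 hrest0 ψ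
      (Finset.mem_sdiff.2 ⟨hψ, hno⟩)
    have hψB := mem_bset.1 hψ
    rcases (Nat.sInf_le ⟨ψ, hψB, rfl⟩ : minDv p B ≤ dv p (ψ : G → ℂ)).eq_or_lt with h | h
    · exact hq2 ψ hψB hmin.symm h.symm ((pow_eq_zero_iff two_ne_zero).1 h8 ▸ dvd_zero _)
    · exact (hq3 ψ hψB hmin.symm h).1 ((pow_eq_zero_iff two_ne_zero).1 h8)
  have hvan : ∀ g : G, orderOf g = p → (χ : G → ℂ) g = 0 := by
    intro g hg
    have hgw : g ^ w = 1 := orderOf_dvd_iff_pow_eq_one.1 (hg ▸ dvd_mul_left p n')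
    have h1 := weak_orth hM hB (x := (1 : G)) (by rw [orderOf_one]; exact hp.not_dvd_one)
      (y := g) (by rw [hg])
    rw [hBO, Finset.sum_congr rfl (g := fun _ => (χ : G → ℂ) 1 * (χ : G → ℂ) g) (fun ψ hψ => by
      obtain ⟨u, -, rfl⟩ := Finset.mem_image.1 hψ
      rw [hfix u g hgw, hfix u 1 (one_pow w)]), Finset.sum_const, hOFcard, nsmul_eq_mul] at h1
    exact (mul_eq_zero.1 ((mul_eq_zero.1 h1).resolve_left
      (Nat.cast_ne_zero.2 (pow_ne_zero k hp.ne_zero)))).resolve_left (irr_one_ne_zero χ)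
  have := defect_zero_of_vanish hM χ hvan
  rw [← hBdef, ← hd, hdk] at this
  exact hkpos this

end CfsgLib.Blocks.PConjugates
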