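import Cfsg.Agent.Lib.Blocks.Principal
import Cfsg.Agent.Lib.CharTheory.ExtCriteria
import Cfsg.Agent.Lib.CharTheory.DegreeComplement
import Cfsg.Agent.Lib.Tate
import Cfsg.Agent.Lib.Elementary

/-!
# The intersection of the kernels of the characters of degree prime to `p`
-/

namespace CfsgLib.Blocks

open Cfsg CfsgLib.CharTheory
open scoped ComplexConjugate

set_option linter.unusedVariables false
set_option linter.unusedSimpArgs false
set_option linter.style.haveILetI false
set_option linter.unusedSectionVars false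

universe u

section Congruence

theorem isIntegral_natCast_pow (p j : ℕ) : IsIntegral ℤ (((p ^ j : ℕ) : ℕ) : ℂ) := by
  simpa using isIntegral_algebraMap (R := ℤ) (A := ℂ) (x := ((p : ℤ) ^ j))

/-- A sum of an invariant function is congruent to the sum over the fixed points. -/
theorem sum_sub_fixed_integral {Γ X : Type*} [Group Γ] [Finite Γ] [MulAction Γ X] [Fintype X]
    [DecidableEq X] {p : ℕ} (hp : p.Prime) (hΓ : IsPGroup p Γ) (f : X → ℂ)
    (hf : ∀ (g : Γ) (x : X), f (g • x) = f x) (hint : ∀ x, IsIntegral ℤ (f x))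
    [DecidablePred fun x : X => ∀ g : Γ, g • x = x] :
    IsIntegral ℤ ((∑ x, f x - ∑ x ∈ Finset.univ.filter (fun x : X => ∀ g : Γ, g • x = x), f x) /
      (p : ℂ)) := by
  classical
  haveI : Fact p.Prime := ⟨hp⟩
  set g : X → ℂ := fun x => if ∀ γ : Γ, γ • x = x then 0 else f x with hg
  have hsum : ∑ x, f x - ∑ x ∈ Finset.univ.filter (fun x : X => ∀ γ : Γ, γ • x = x), f x =
      ∑ x, g x := by
    rw [Finset.sum_filter, ← Finset.sum_sub_distrib]
    refine Finset.sum_congr rfl fun x _ => ?_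
    simp only [hg]
    split_ifs <;> simp
  rw [hsum, ← Finset.sum_fiberwise Finset.univ (fun x : X => MulAction.orbit Γ x) g,
    Finset.sum_div]
  refine IsIntegral.sum _ fun S _ => ?_
  by_cases hS : ∃ x : X, MulAction.orbit Γ x = S
  · obtain ⟨x, rfl⟩ := hS
    have hfil : Finset.univ.filter (fun y : X => MulAction.orbit Γ y = MulAction.orbit Γ x) =
        (MulAction.orbit Γ x).toFinset := by
      ext y
      simp [MulAction.orbit_eq_iff]
    rw [hfil]
    by_cases hx : ∀ γ : Γ, γ • x = x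
    · rw [Finset.sum_eq_zero fun y hy => ?_, zero_div]
      · exact isIntegral_zero
      · obtain ⟨γ, rfl⟩ := MulAction.mem_orbit_iff.mp (Set.mem_toFinset.mp hy)
        simp only [hg]
        rw [if_pos (fun δ => by rw [hx γ]; exact hx δ)]
    · have hnfix : ∀ y ∈ (MulAction.orbit Γ x).toFinset, g y = f x := by
        intro y hy
        obtain ⟨γ, rfl⟩ := MulAction.mem_orbit_iff.mp (Set.mem_toFinset.mp hy)
        simp only [hg]
        rw [if_neg fun h => hx fun δ => ?_, hf]
        have h1 := h γ⁻¹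
        rw [inv_smul_smul] at h1
        rw [h1]
        exact (h δ)
      rw [Finset.sum_congr rfl hnfix, Finset.sum_const, Set.toFinset_card,
        ← Nat.card_eq_fintype_card, Nat.card_coe_set_eq, ← MulAction.index_stabilizer, nsmul_eq_mul]
      obtain ⟨n, hn⟩ := hΓ.exists_card_eq
      obtain ⟨i, -, hi⟩ := (Nat.dvd_prime_pow hp).mp
        (hn ▸ (MulAction.stabilizer Γ x).index_dvd_card)
      rcases Nat.eq_zero_or_pos i with rfl | hi0
      · exact absurd (fun γ => MulAction.mem_stabilizer_iff.mp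
          ((Subgroup.index_eq_one.mp (by simpa using hi)) ▸ Subgroup.mem_top γ)) hx
      · obtain ⟨j, rfl⟩ := Nat.exists_eq_add_of_le hi0
        rw [hi, pow_add, pow_one, Nat.cast_mul, mul_assoc,
          mul_div_cancel_left₀ _ (Nat.cast_ne_zero.2 hp.ne_zero)]
        exact (isIntegral_natCast_pow p j).mul (hint x)
  · push Not at hS
    rw [Finset.filter_false_of_mem fun x _ => hS x, Finset.sum_empty, zero_div]
    exact isIntegral_zero

theorem isIntegral_natCast_div {p n : ℕ} (hp : p.Prime) (h : IsIntegral ℤ ((n : ℂ) / (p : ℂ))) :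
    p ∣ n := by
  have h' : IsIntegral ℤ (((n : ℚ) / (p : ℚ) : ℚ) : ℂ) := by push_cast; exact h
  obtain ⟨z, hz⟩ := exists_int_of_isIntegral_ratCast h'
  have h1 : ((n : ℤ) : ℚ) = ((p : ℤ) * z : ℤ) := by
    push_cast
    rw [← hz]
    field_simp [Nat.cast_ne_zero.2 hp.ne_zero]
  exact Int.natCast_dvd_natCast.1 ⟨z, by exact_mod_cast h1⟩

end Congruence

variable {G : Type u} [Group G] [Fintype G]

/-- A character trivial on a normal subgroup has constituents trivial on it. -/
theorem trivial_of_constituent {L : Subgroup G} [L.Normal] {χ : G → ℂ} (hχ : IsCharacter G χ)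
    (h : ∀ x ∈ L, χ x = χ 1) (ψ : IrrCharacter G) (hψ : classInner χ (ψ : G → ℂ) ≠ 0) :
    ∀ x ∈ L, (ψ : G → ℂ) x = (ψ : G → ℂ) 1 := by
  classical
  haveI := Fintype.ofFinite L
  have hlin : ∀ f : G → ℂ, omega f (avgFn L) * f 1 = ∑ g, avgFn L g * f g ∨ f 1 = 0 := fun f =>
    (eq_or_ne (f 1) 0).symm.imp_left fun h0 => by rw [omega, div_mul_cancel₀ _ h0]
  have hexp := eq_sum_irr (isClassFunction_char hχ)
  choose m hm using fun φ : IrrCharacter G => classInner_char_nat hχ (isCharacter_of_irr φ.2)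
  have hval : ∀ g, χ g = ∑ φ : IrrCharacter G, (m φ : ℂ) * (φ : G → ℂ) g := by
    intro g
    have := congrFun hexp g
    simp only [Finset.sum_apply, Pi.smul_apply, smul_eq_mul, hm] at this
    exact this
  have hω : ∀ φ : IrrCharacter G, ∃ e : ℕ, e ≤ 1 ∧ omega (φ : G → ℂ) (avgFn L) = (e : ℂ) := by
    intro φ
    rcases (omega_avgFn L φ).1 with h0 | h0
    · exact ⟨0, zero_le_one, by rw [h0]; simp⟩
    · exact ⟨1, le_rfl, by rw [h0]; simp⟩
  choose e he heω using hω
  have hsum1 : ∑ g, avgFn L g * χ g = χ 1 := by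
    have e1 : ∀ g, avgFn L g * χ g = avgFn L g * χ 1 := fun g => by
      by_cases hg : g ∈ L
      · rw [h g hg]
      · simp [avgFn, hg]
    rw [Finset.sum_congr rfl fun g _ => e1 g, ← Finset.sum_mul]
    have h1 := (omega_avgFn L (oneIrr G)).2.2 fun n _ => rfl
    rw [omega] at h1
    simp only [show ∀ g, ((oneIrr G : IrrCharacter G) : G → ℂ) g = 1 from fun g => rfl, mul_one,
      div_one] at h1
    rw [h1, one_mul]
  have hsum2 : ∑ g, avgFn L g * χ g =
      ∑ φ : IrrCharacter G, (m φ : ℂ) * ((e φ : ℂ) * (φ : G → ℂ) 1) := by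
    simp only [hval, Finset.mul_sum]
    rw [Finset.sum_comm]
    refine Finset.sum_congr rfl fun φ _ => ?_
    rw [← heω, (hlin (φ : G → ℂ)).resolve_right (irr_one_ne_zero φ), Finset.mul_sum]
    exact Finset.sum_congr rfl fun g _ => by ring
  rw [hsum1, hval 1] at hsum2
  simp only [← irr_charDegree_cast] at hsum2
  have hnat : ∑ φ : IrrCharacter G, m φ * charDegree (φ : G → ℂ) =
      ∑ φ : IrrCharacter G, m φ * (e φ * charDegree (φ : G → ℂ)) := by exact_mod_cast hsum2
  have heq := (Finset.sum_eq_sum_iff_of_le fun φ _ => Nat.mul_le_mul_left (m φ)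
    (by simpa using Nat.mul_le_mul_right (charDegree (φ : G → ℂ)) (he φ))).1 hnat.symm ψ
    (Finset.mem_univ _)
  have hm0 : m ψ ≠ 0 := fun h0 => hψ (by rw [hm ψ, h0, Nat.cast_zero])
  have he1 : e ψ = 1 := by
    have h2 := Nat.eq_of_mul_eq_mul_left (Nat.pos_of_ne_zero hm0) heq
    exact (mul_eq_right₀ (irr_charDegree_pos ψ).ne').1 h2
  exact (omega_avgFn L ψ).2.1 (by rw [heω, he1, Nat.cast_one])

/-- A normal subgroup on which the average of an irreducible character does not vanish is in its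
kernel. -/
theorem ker_of_sum_ne_zero {L : Subgroup G} [L.Normal] [Fintype L] (χ : IrrCharacter G)
    (h : ∑ x : L, (χ : G → ℂ) x ≠ 0) : ∀ x ∈ L, (χ : G → ℂ) x = (χ : G → ℂ) 1 := by
  classical
  refine (omega_avgFn L χ).2.1 ((omega_avgFn L χ).1.resolve_left fun h0 => h ?_)
  rw [omega, div_eq_zero_iff] at h0
  have h1 := h0.resolve_right (irr_one_ne_zero χ)
  simp only [avgFn, ite_mul, zero_mul] at h1
  rw [← Finset.sum_filter, ← Finset.mul_sum, mul_eq_zero] at h1
  rw [← h1.resolve_left (inv_ne_zero (Nat.cast_ne_zero.2 Nat.card_pos.ne'))]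
  exact (Finset.sum_subtype _ (fun x => by simp) _).symm

/-- Translation invariance turns into a value one on a linear constituent. -/
theorem hom_eq_one_of_kernel {H : Subgroup G} [Fintype H] {χ : G → ℂ} (hχ : IsCharacter G χ)
    (φ : H →* ℂˣ) (hne : classInner (fun h : H => χ h) (fun h : H => (φ h : ℂ)) ≠ 0) {x : H}
    (hx : χ x = χ 1) : φ x = 1 := by
  classical
  obtain ⟨n, ρ, rfl⟩ := hχ
  have hρ : ρ (x : G) = 1 := rep_apply_eq_one_of_char_eq ρ hx
  have hshift : ∀ y : H, ρ.character ((x * y : H) : G) = ρ.character (y : G) := fun y => by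
    rw [Representation.character, Representation.character, Subgroup.coe_mul, map_mul, hρ, one_mul]
  set c := classInner (fun h : H => ρ.character (h : G)) (fun h : H => (φ h : ℂ)) with hc
  have h1 : c = conj (φ x : ℂ) * c := by
    rw [hc, classInner, mul_left_comm, Finset.mul_sum (a := conj (φ x : ℂ))]
    congr 1
    rw [← Equiv.sum_comp (Equiv.mulLeft x)
      (fun h : H => ρ.character (h : G) * conj (φ h : ℂ))]
    refine Finset.sum_congr rfl fun y _ => ?_
    rw [Equiv.coe_mulLeft, hshift, map_mul, Units.val_mul, map_mul]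
    ring
  have h2 : conj (φ x : ℂ) = 1 := mul_right_cancel₀ hne (by rw [one_mul]; exact h1.symm)
  have h3 : (φ x : ℂ) = 1 := by
    have := congrArg (starRingEnd ℂ) h2
    simpa using this
  exact Units.ext h3

section Main

variable {p : ℕ} [Fact p.Prime] (P : Sylow p G)

/-- The part of the theorem with the group in the kernel. -/
theorem normalCore_le_kernel (N : Subgroup G) [N.Normal]
    (hN : N ⊓ Subgroup.centralizer ((P : Subgroup G) : Set G) = ⊥) (χ : IrrCharacter G)
    (hdeg : ¬ p ∣ charDegree (χ : G → ℂ)) :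
    ∀ g ∈ (N ⊔ ⁅(P : Subgroup G), (P : Subgroup G)⁆).normalCore,
      (χ : G → ℂ) g = (χ : G → ℂ) 1 := by
  classical
  have hp : p.Prime := Fact.out
  haveI := Fintype.ofFinite N
  letI : MulAction (P : Subgroup G) N :=
    MulAction.compHom N ((MulAut.conjNormal (H := N)).comp (P : Subgroup G).subtype)
  have hact : ∀ (g : (P : Subgroup G)) (x : N), ((g • x : N) : G) = g * x * (g : G)⁻¹ :=
    fun g x => MulAut.conjNormal_apply (g : G) x
  have hfix : ∀ x : N, (∀ g : (P : Subgroup G), g • x = x) ↔ x = 1 := by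
    intro x
    constructor
    · intro h
      have hc : (x : G) ∈ Subgroup.centralizer ((P : Subgroup G) : Set G) := fun g hg =>
        mul_inv_eq_iff_eq_mul.1 (by rw [← hact ⟨g, hg⟩ x, h ⟨g, hg⟩])
      exact Subtype.ext (Subgroup.mem_bot.1 (hN ▸ (⟨x.2, hc⟩ :
        (x : G) ∈ N ⊓ Subgroup.centralizer ((P : Subgroup G) : Set G))))
    · rintro rfl g
      exact Subtype.ext (by rw [hact]; simp)
  -- `N` is in the kernel
  have hNker : ∀ x ∈ N, (χ : G → ℂ) x = (χ : G → ℂ) 1 := by
    refine ker_of_sum_ne_zero χ fun h0 => hdeg ?_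
    have h := sum_sub_fixed_integral hp P.isPGroup' (fun x : N => (χ : G → ℂ) x)
      (fun g x => by rw [hact]; exact irr_isClassFun χ _ _)
      (fun x => isIntegral_of_char (isCharacter_of_irr χ.2) _)
    rw [h0, Finset.filter_congr (fun x _ => hfix x), Finset.filter_eq',
      if_pos (Finset.mem_univ _), Finset.sum_singleton, OneMemClass.coe_one,
      ← irr_charDegree_cast, zero_sub, neg_div] at h
    exact isIntegral_natCast_div hp (by simpa using h.neg)
  set D := ⁅(P : Subgroup G), (P : Subgroup G)⁆ with hD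
  set L := (N ⊔ D).normalCore with hL
  haveI := Fintype.ofFinite L
  haveI := Fintype.ofFinite (P : Subgroup G)
  -- a linear constituent on the Sylow subgroup
  have hPχ := isCharacter_restrict (isCharacter_of_irr χ.2) (P : Subgroup G)
  obtain ⟨ψ, hψ1, hψ0⟩ : ∃ ψ : IrrCharacter (P : Subgroup G),
      (ψ : ↥(P : Subgroup G) → ℂ) 1 = 1 ∧
      classInner (fun h : (P : Subgroup G) => (χ : G → ℂ) h) (ψ : ↥(P : Subgroup G) → ℂ) ≠ 0 := by
    by_contra hcon
    push Not at hcon
    apply hdeg
    choose m hm using fun ψ : IrrCharacter (P : Subgroup G) =>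
      classInner_char_nat hPχ (isCharacter_of_irr ψ.2)
    have h1 := congrFun (eq_sum_irr (isClassFunction_char hPχ)) 1
    simp only [Finset.sum_apply, Pi.smul_apply, smul_eq_mul, hm, OneMemClass.coe_one,
      ← irr_charDegree_cast] at h1
    have h2 : charDegree (χ : G → ℂ) =
        ∑ ψ : IrrCharacter (P : Subgroup G), m ψ * charDegree (ψ : ↥(P : Subgroup G) → ℂ) := by
      exact_mod_cast h1
    rw [h2]
    refine Finset.dvd_sum fun ψ _ => ?_
    obtain ⟨k, hk⟩ := P.isPGroup'.exists_card_eq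
    obtain ⟨n, ρ, hρ, hρψ⟩ := ψ.2
    haveI := hρ
    have hdvd := finrank_dvd_card ρ
    have hfin : charDegree (ψ : ↥(P : Subgroup G) → ℂ) = Module.finrank ℂ (Fin n → ℂ) := by
      apply Nat.cast_injective (R := ℂ)
      rw [irr_charDegree_cast, ← hρψ, ρ.char_one]
    rw [← hfin, hk] at hdvd
    obtain ⟨i, -, hi⟩ := (Nat.dvd_prime_pow hp).1 hdvd
    rcases Nat.eq_zero_or_pos i with rfl | hi0
    · have h3 : (m ψ : ℂ) = 0 := hm ψ ▸ hcon ψ (by rw [← irr_charDegree_cast, hi]; simp)
      rw [Nat.cast_eq_zero.1 h3, zero_mul]; exact dvd_zero p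
    · exact (hi ▸ dvd_pow_self p hi0.ne').mul_left _
  obtain ⟨φ, hφ⟩ := exists_hom_of_degree_one (isCharacter_of_irr ψ.2) hψ1
  rw [hφ] at hψ0
  -- the intersection with the Sylow subgroup has a trivial constituent
  set R := (L ⊓ D).subgroupOf (P : Subgroup G) with hR
  haveI := Fintype.ofFinite R
  have hRsum : ∑ r : R, (χ : G → ℂ) ((r : (P : Subgroup G)) : G) ≠ 0 := by
    have hφR : ∀ r : R, φ r = 1 := by
      intro r
      obtain ⟨-, h2⟩ := Subgroup.mem_subgroupOf.1 r.2
      rw [hD, ← Subgroup.map_subtype_commutator] at h2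
      obtain ⟨c, hc, hcr⟩ := h2
      rw [← Subtype.ext hcr (a1 := c) (a2 := (r : (P : Subgroup G)))]
      exact Abelianization.commutator_subset_ker φ hc
    have hcR := isCharacter_restrict hPχ R
    choose m hm using fun η : IrrCharacter (P : Subgroup G) =>
      classInner_char_nat hPχ (isCharacter_of_irr η.2)
    choose a ha using fun η : IrrCharacter (P : Subgroup G) =>
      classInner_char_nat (isCharacter_restrict (isCharacter_of_irr η.2) R) isCharacter_one
    have hval : ∀ r : R, (χ : G → ℂ) ((r : (P : Subgroup G)) : G) =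
        ∑ η : IrrCharacter (P : Subgroup G), (m η : ℂ) * (η : ↥(P : Subgroup G) → ℂ) r := by
      intro r
      have h1 := congrFun (eq_sum_irr (isClassFunction_char hPχ)) (r : (P : Subgroup G))
      simp only [Finset.sum_apply, Pi.smul_apply, smul_eq_mul, hm] at h1
      exact h1
    have hsumη : ∀ η : IrrCharacter (P : Subgroup G),
        ∑ r : R, (η : ↥(P : Subgroup G) → ℂ) r = ((Nat.card R * a η : ℕ) : ℂ) := by
      intro η
      have h1 := ha η
      simp only [classInner, map_one, mul_one] at h1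
      rw [inv_mul_eq_iff_eq_mul₀ (Nat.cast_ne_zero.2 Nat.card_pos.ne')] at h1
      rw [h1, Nat.cast_mul]
    intro h0
    rw [Finset.sum_congr rfl fun r _ => hval r, Finset.sum_comm] at h0
    simp only [← Finset.mul_sum, hsumη, ← Nat.cast_mul, ← Nat.cast_sum, Nat.cast_eq_zero,
      Finset.sum_eq_zero_iff, Finset.mem_univ, true_implies, mul_eq_zero] at h0
    rcases h0 ψ with h1 | h1 | h1
    · exact hψ0 (by rw [← hφ, hm ψ, h1, Nat.cast_zero])
    · exact Nat.card_pos.ne' h1
    · have h2 := ha ψ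
      rw [h1, Nat.cast_zero] at h2
      simp only [classInner, map_one, mul_one, hφ, hφR, Units.val_one, Finset.sum_const,
        Finset.card_univ, ← Nat.card_eq_fintype_card, nsmul_eq_mul] at h2
      simp [Nat.card_pos.ne'] at h2
  -- assemble
  refine fun g hg => ?_
  by_cases hN0 : ∀ x : L, ∃ n ∈ N, ∃ r ∈ L ⊓ D, (x : G) = n * r
  · have htriv : ∀ r : R, (χ : G → ℂ) ((r : (P : Subgroup G)) : G) ≠ (χ : G → ℂ) 1 →
        (χ : G → ℂ) g = (χ : G → ℂ) 1 := fun r hr => by
      refine ker_of_sum_ne_zero χ ?_ g hg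
      intro hL0
      apply hRsum
      obtain ⟨n, ρ, hρ, hρχ⟩ := χ.2
      have hmul : ∀ a ∈ N, ∀ b : G, (χ : G → ℂ) (a * b) = (χ : G → ℂ) b := by
        intro a ha b
        have h1 : ρ a = 1 := rep_apply_eq_one_of_char_eq ρ (by rw [hρχ]; exact hNker a ha)
        rw [← hρχ, Representation.character, Representation.character, map_mul, h1, one_mul]
      have hNL : N ≤ L := by
        rw [hL, Subgroup.normal_le_normalCore]
        exact le_sup_left
      have hbij : Function.Bijective (fun q : N × R => (⟨(q.1 : G) * ((q.2 : (P : Subgroup G)) : G),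
          mul_mem (hNL q.1.2) (Subgroup.mem_subgroupOf.1 q.2.2).1⟩ : L)) := by
        constructor
        · rintro ⟨a, r⟩ ⟨b, s⟩ h
          have h' : (a : G) * ((r : (P : Subgroup G)) : G) = b * ((s : (P : Subgroup G)) : G) :=
            congrArg Subtype.val h
          have hbot : ∀ z : G, z ∈ N → z ∈ (P : Subgroup G) → z = 1 := by
            intro z hzN hzP
            by_contra hz
            have hne : N.subgroupOf (P : Subgroup G) ≠ ⊥ := fun hb => hz
              (congrArg Subtype.val ((Subgroup.eq_bot_iff_forall _).1 hb ⟨z, hzP⟩ hzN))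
            haveI : Group.IsNilpotent (P : Subgroup G) := P.isPGroup'.isNilpotent
            apply CfsgLib.inf_center_ne_bot_of_nilpotent hne
            rw [Subgroup.eq_bot_iff_forall]
            rintro ⟨y, hyP⟩ ⟨hy1, hy2⟩
            have hyc : y ∈ Subgroup.centralizer ((P : Subgroup G) : Set G) := fun q hq =>
              congrArg Subtype.val (Subgroup.mem_center_iff.1 hy2 ⟨q, hq⟩)
            exact Subtype.ext (Subgroup.mem_bot.1 (hN ▸ (⟨hy1, hyc⟩ :
              y ∈ N ⊓ Subgroup.centralizer ((P : Subgroup G) : Set G))))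
          have h2 : (b : G)⁻¹ * a = ((s : (P : Subgroup G)) : G) * (((r : (P : Subgroup G)) : G))⁻¹ := by
            rw [inv_mul_eq_iff_eq_mul, ← mul_assoc, ← h', mul_inv_cancel_right]
          have h3 := hbot _ (mul_mem (inv_mem b.2) a.2) (h2 ▸ mul_mem (s : (P : Subgroup G)).2
            (inv_mem (r : (P : Subgroup G)).2))
          have h4 : (a : G) = b := (inv_mul_eq_one.1 h3).symm
          have h5 : ((s : (P : Subgroup G)) : G) = ((r : (P : Subgroup G)) : G) :=
            mul_inv_eq_one.1 (h2 ▸ h3)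
          exact Prod.ext (Subtype.ext h4) (Subtype.ext (Subtype.ext h5.symm))
        · intro x
          obtain ⟨a, ha, b, hb, hx⟩ := hN0 x
          have hbP : b ∈ (P : Subgroup G) := by
            have := hb.2
            rw [hD, ← Subgroup.map_subtype_commutator] at this
            exact Subgroup.map_subtype_le _ this
          exact ⟨⟨⟨a, ha⟩, ⟨⟨b, hbP⟩, hb⟩⟩, Subtype.ext hx.symm⟩
      rw [← Equiv.sum_comp (Equiv.ofBijective _ hbij) (fun x : L => (χ : G → ℂ) x),
        Fintype.sum_prod_type] at hL0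
      simp only [Equiv.ofBijective_apply] at hL0
      rw [Finset.sum_congr rfl fun (a : N) _ => Finset.sum_congr rfl fun b _ => hmul (a : G) a.2 _,
        Finset.sum_const, Finset.card_univ, nsmul_eq_mul, mul_eq_zero] at hL0
      exact hL0.resolve_left (Nat.cast_ne_zero.2 Fintype.card_ne_zero)
    obtain ⟨n, hn, b, hb, hgnb⟩ := hN0 ⟨g, hg⟩
    have hbP : b ∈ (P : Subgroup G) := by
      have := hb.2
      rw [hD, ← Subgroup.map_subtype_commutator] at this
      exact Subgroup.map_subtype_le _ this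
    by_cases hbv : (χ : G → ℂ) b = (χ : G → ℂ) 1
    · obtain ⟨d, ρ, hρ, hρχ⟩ := χ.2
      have h1 : ρ n = 1 := rep_apply_eq_one_of_char_eq ρ (by rw [hρχ]; exact hNker n hn)
      have h2 : ρ b = 1 := rep_apply_eq_one_of_char_eq ρ (by rw [hρχ]; exact hbv)
      change g = n * b at hgnb
      rw [← hρχ, hgnb, Representation.character, Representation.character, map_mul, h1, h2,
        map_one, one_mul]
    · exact htriv ⟨⟨b, hbP⟩, hb⟩ hbv
  · exfalso
    apply hN0
    intro x
    obtain ⟨a, ha, b, hb, hab⟩ := Subgroup.mem_sup_of_normal_left.1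
      (Subgroup.normalCore_le _ x.2)
    have hNL : N ≤ L := by
      rw [hL, Subgroup.normal_le_normalCore]
      exact le_sup_left
    refine ⟨a, ha, b, ⟨?_, hb⟩, hab.symm⟩
    have : b = a⁻¹ * x := by rw [← hab, inv_mul_cancel_left]
    rw [this]
    exact (show a⁻¹ * (x : G) ∈ L from mul_mem (inv_mem (hNL ha)) x.2)

/-- A `P`-invariant nontrivial character of a normal `p'`-subgroup with nontrivial centralizer. -/
theorem exists_fixed_irr {L : Subgroup G} [L.Normal] [Fintype L] (hL : ¬ p ∣ Nat.card L)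
    (hC : L ⊓ Subgroup.centralizer ((P : Subgroup G) : Set G) ≠ ⊥) :
    ∃ θ : IrrCharacter L, (θ : L → ℂ) ≠ (fun _ => 1) ∧
      ∀ g ∈ (P : Subgroup G), ∀ x : L,
        (θ : L → ℂ) (MulAut.conjNormal g x) = (θ : L → ℂ) x := by
  classical
  have hp : p.Prime := Fact.out
  obtain ⟨⟨c, hcL, hcC⟩, hc1'⟩ := Subgroup.ne_bot_iff_exists_ne_one.1 hC
  have hc1 : c ≠ 1 := fun h => hc1' (Subtype.ext h)
  let act : MulAction (P : Subgroup G) (IrrCharacter L) :=
    { smul := fun g θ => ⟨(θ : L → ℂ) ∘ (MulAut.conjNormal (g : G)⁻¹ : L ≃* L),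
        isIrrCharacter_comp_surjective θ.2 (MulAut.conjNormal (g : G)⁻¹ : L ≃* L).toMonoidHom
          (MulAut.conjNormal (g : G)⁻¹ : L ≃* L).surjective⟩
      one_smul := fun θ => Subtype.ext (funext fun x => by
        show (θ : L → ℂ) ((MulAut.conjNormal ((1 : (P : Subgroup G)) : G)⁻¹ : L ≃* L) x) = _
        simp)
      mul_smul := fun g h θ => Subtype.ext (funext fun x => by
        show (θ : L → ℂ) ((MulAut.conjNormal ((g * h : (P : Subgroup G)) : G)⁻¹ : L ≃* L) x) =
          (θ : L → ℂ) ((MulAut.conjNormal (h : G)⁻¹ : L ≃* L)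
            ((MulAut.conjNormal (g : G)⁻¹ : L ≃* L) x))
        rw [Subgroup.coe_mul, mul_inv_rev, map_mul]; rfl) }
  have hact : ∀ (g : (P : Subgroup G)) (θ : IrrCharacter L) (x : L),
      ((g • θ : IrrCharacter L) : L → ℂ) x =
        (θ : L → ℂ) ((MulAut.conjNormal (g : G)⁻¹ : L ≃* L) x) := fun _ _ _ => rfl
  by_contra hcon
  push Not at hcon
  set c' : L := ⟨c, hcL⟩ with hc'
  have hcfix : ∀ g ∈ (P : Subgroup G), MulAut.conjNormal g c' = c' := fun g hg => Subtype.ext (by
    rw [MulAut.conjNormal_apply]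
    exact mul_inv_eq_iff_eq_mul.2 (hcC g hg))
  have h := sum_sub_fixed_integral hp P.isPGroup'
    (fun θ : IrrCharacter L => (θ : L → ℂ) c' * (θ : L → ℂ) 1)
    (fun g θ => by
      show ((g • θ : IrrCharacter L) : L → ℂ) c' * ((g • θ : IrrCharacter L) : L → ℂ) 1 = _
      rw [hact, hact, map_one, hcfix _ (inv_mem g.2)])
    (fun θ => (isIntegral_of_char (isCharacter_of_irr θ.2) _).mul
      (isIntegral_of_char (isCharacter_of_irr θ.2) _))
  rw [sum_irr_apply_mul_degree, if_neg (fun h => hc1 (congrArg Subtype.val h)),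
    Finset.sum_eq_single (oneIrr L)] at h
  · rw [show ((oneIrr L : IrrCharacter L) : L → ℂ) c' * ((oneIrr L : IrrCharacter L) : L → ℂ) 1 =
      ((1 : ℕ) : ℂ) from by show (1 : ℂ) * 1 = _; simp, zero_sub, neg_div] at h
    exact hp.not_dvd_one (isIntegral_natCast_div hp (by simpa using h.neg))
  · intro θ hθ hne
    exfalso
    obtain ⟨g, hg, x, hx⟩ := hcon θ (fun h => hne (Subtype.ext h))
    have h1 := congrFun (congrArg Subtype.val ((Finset.mem_filter.1 hθ).2 (⟨g, hg⟩⁻¹))) x
    rw [hact] at h1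
    simp only [Subgroup.coe_inv, inv_inv] at h1
    exact hx h1
  · intro h1
    exfalso
    exact h1 (Finset.mem_filter.2 ⟨Finset.mem_univ _, fun g => rfl⟩)

/-- The kernel part is inside `N ⊔ P'`. -/
theorem kernel_le_sup (N : Subgroup G) [N.Normal]
    (hmax : ∀ L : Subgroup G, L.Normal →
      L ⊓ Subgroup.centralizer ((P : Subgroup G) : Set G) = ⊥ → L ≤ N)
    (K : Subgroup G) [K.Normal]
    (hK : ∀ g ∈ K, ∀ χ : IrrCharacter G, ¬ p ∣ charDegree (χ : G → ℂ) →
      (χ : G → ℂ) g = (χ : G → ℂ) 1) :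
    K ≤ N ⊔ ⁅(P : Subgroup G), (P : Subgroup G)⁆ := by
  classical
  have hp : p.Prime := Fact.out
  haveI := Fintype.ofFinite (P : Subgroup G)
  -- characters of `p'`-degree over a character of a subgroup of `p'`-index
  have above : ∀ (T : Subgroup G) [Fintype T], ¬ p ∣ T.index → ∀ η : T → ℂ, IsIrrCharacter T η →
      ∀ d : ℕ, η 1 = d → ¬ p ∣ d → ∃ χ : IrrCharacter G, ¬ p ∣ charDegree (χ : G → ℂ) ∧
        classInner (fun t : T => (χ : G → ℂ) t) η ≠ 0 := by
    intro T _ hT η hη d hd hpd
    by_contra hcon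
    push Not at hcon
    have hind := isCharacter_indFun T (isCharacter_of_irr hη)
    choose m hm using fun χ : IrrCharacter G => classInner_char_nat hind (isCharacter_of_irr χ.2)
    have h1 := congrFun (eq_sum_irr (isClassFunction_char hind)) 1
    simp only [Finset.sum_apply, Pi.smul_apply, smul_eq_mul, hm, indFun_apply_one, hd,
      ← irr_charDegree_cast] at h1
    have h2 : T.index * d = ∑ χ : IrrCharacter G, m χ * charDegree (χ : G → ℂ) := by
      exact_mod_cast h1
    refine (Nat.Prime.dvd_mul hp).not.2 (not_or.2 ⟨hT, hpd⟩) ?_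
    rw [h2]
    refine Finset.dvd_sum fun χ _ => ?_
    by_cases hχ : p ∣ charDegree (χ : G → ℂ)
    · exact hχ.mul_left _
    · have h3 : classInner (indFun T η) (χ : G → ℂ) = 0 := by
        rw [frobenius_reciprocity T η (isClassFunction_irr χ.2), ← classInner_comm, hcon χ hχ,
          map_zero]
      rw [hm χ, Nat.cast_eq_zero] at h3
      rw [h3, zero_mul]; exact dvd_zero p
  have hKP : K ⊓ (P : Subgroup G) ≤ ⁅(P : Subgroup G), (P : Subgroup G)⁆ := by
    intro x hx
    rw [← Subgroup.map_subtype_commutator]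
    refine ⟨⟨x, hx.2⟩, ?_, rfl⟩
    rw [← Abelianization.ker_of, SetLike.mem_coe, MonoidHom.mem_ker]
    by_contra hne
    obtain ⟨φ, hφ⟩ :=
      CommGroup.exists_apply_ne_one_of_hasEnoughRootsOfUnity (Abelianization (P : Subgroup G)) ℂ hne
    set ψ := φ.comp Abelianization.of with hψ
    obtain ⟨χ, hχ, hne0⟩ := above (P : Subgroup G) P.not_dvd_index _
      (isIrrCharacter_linear ψ) 1 (by simp) hp.not_dvd_one
    exact hφ (hom_eq_one_of_kernel (isCharacter_of_irr χ.2) ψ hne0 (x := ⟨x, hx.2⟩) (hK x hx.1 χ hχ))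
  -- the normal complement
  have hcompl := hasNormalPComplement_of_inf_le_frattini P K (fun x hx => by
    have h1 := hKP hx
    rw [← Subgroup.map_subtype_commutator] at h1
    exact Subgroup.map_mono (CfsgLib.commutator_le_frattini_pGroup P.isPGroup') h1)
  rw [hasNormalPComplement_iff_pResidual] at hcompl
  set L := (pResidual p K).map K.subtype with hLdef
  haveI hLn : L.Normal := inferInstance
  have hLK : L ≤ K := Subgroup.map_subtype_le _
  have hLcard : ¬ p ∣ Nat.card L := by
    rw [hLdef, Subgroup.card_map_of_injective K.subtype_injective]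
    intro h
    exact hp.not_dvd_one (Nat.eq_one_of_dvd_coprimes hcompl h dvd_rfl ▸ dvd_rfl)
  -- `K ≤ L ⊔ P`
  have hKLP : K ≤ L ⊔ (P : Subgroup G) := by
    have hq : IsPGroup p (K.map (QuotientGroup.mk' L)) := by
      rintro ⟨_, x, hx, rfl⟩
      obtain ⟨k, hk⟩ := (isPGroup_quotient_of_pResidual_le (p := p) (G := K) le_rfl)
        ((⟨x, hx⟩ : K) : K ⧸ pResidual p K)
      rw [← QuotientGroup.mk_pow, QuotientGroup.eq_one_iff] at hk
      refine ⟨k, Subtype.ext ?_⟩
      show (QuotientGroup.mk' L x) ^ p ^ k = 1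
      rw [← map_pow]
      exact (QuotientGroup.eq_one_iff _).2 ⟨_, hk, rfl⟩
    haveI : (K.map (QuotientGroup.mk' L)).Normal :=
      Subgroup.Normal.map inferInstance _ (QuotientGroup.mk'_surjective L)
    have h1 := hq.le_sylow_of_normal (P.mapSurjective (QuotientGroup.mk'_surjective L))
    rw [Sylow.coe_mapSurjective, Subgroup.map_le_iff_le_comap, Subgroup.comap_map_eq,
      QuotientGroup.ker_mk'] at h1
    rwa [sup_comm] at h1
  -- `L ≤ N`
  have hLN : L ≤ N := by
    refine hmax L hLn ?_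
    by_contra hC
    haveI := Fintype.ofFinite L
    obtain ⟨θ, hθ1, hθfix⟩ := exists_fixed_irr P hLcard hC
    set T := L ⊔ (P : Subgroup G) with hT
    haveI := Fintype.ofFinite T
    set L' := L.subgroupOf T with hL'
    haveI : L'.Normal := Subgroup.normal_subgroupOf
    haveI := Fintype.ofFinite L'
    let eL : L' ≃* L := Subgroup.subgroupOfEquivOfLe (le_sup_left : L ≤ T)
    set θ' : L' → ℂ := fun x => (θ : L → ℂ) (eL x) with hθ'
    have hθ'irr : IsIrrCharacter L' θ' :=
      isIrrCharacter_comp_surjective θ.2 eL.toMonoidHom eL.surjective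
    have hinv : ∀ (g : T) (x : L'), θ' ⟨g * x * g⁻¹,
        (inferInstance : L'.Normal).conj_mem (x : T) x.2 g⟩ = θ' x := by
      rintro ⟨g, hg⟩ x
      obtain ⟨l, hl, q, hq, rfl⟩ := Subgroup.mem_sup_of_normal_left.1 hg
      simp only [hθ']
      rw [show eL ⟨⟨l * q, hg⟩ * (x : T) * ⟨l * q, hg⟩⁻¹, _⟩ =
        (⟨l, hl⟩ : L) * MulAut.conjNormal q (eL x) * (⟨l, hl⟩ : L)⁻¹ from Subtype.ext (by
          show l * q * (((x : T) : G)) * (l * q)⁻¹ = l * ((MulAut.conjNormal q (eL x) : L) : G) * l⁻¹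
          rw [MulAut.conjNormal_apply]
          show _ = l * (q * (((x : T) : G)) * q⁻¹) * l⁻¹
          group),
        isClassFunction_irr θ.2, hθfix q hq]
    obtain ⟨d, hd0, hd⟩ := irr_degree_pos θ.2
    have hdL : ¬ p ∣ d := by
      obtain ⟨n, ρ, hρ, hρθ⟩ := θ.2
      haveI := hρ
      have e : (n : ℂ) = d := by
        rw [← hd, ← hρθ, ρ.char_one, Module.finrank_fintype_fun_eq_card, Fintype.card_fin]
      have hdvd := finrank_dvd_card ρ
      rw [Module.finrank_fintype_fun_eq_card, Fintype.card_fin, Nat.cast_inj.1 e] at hdvd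
      exact fun h => hLcard (h.trans hdvd)
    have hidx : ∃ k : ℕ, L'.index = p ^ k := by
      obtain ⟨k, hk⟩ := P.isPGroup'.exists_card_eq
      have h1 : L'.index ∣ Nat.card (P : Subgroup G) := by
        show L.relIndex T ∣ _
        rw [hT, Subgroup.relIndex_sup_left]
        exact Subgroup.relIndex_dvd_card L (P : Subgroup G)
      obtain ⟨i, -, hi⟩ := (Nat.dvd_prime_pow hp).1 (hk ▸ h1)
      exact ⟨i, hi⟩
    obtain ⟨k, hk⟩ := hidx
    obtain ⟨n, ρ, hρ, hρθ⟩ := hθ'irr
    have hdetdvd : orderOf (detHom ρ) ∣ Nat.card L' := by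
      refine orderOf_dvd_of_pow_eq_one (MonoidHom.ext fun x => ?_)
      rw [MonoidHom.pow_apply, MonoidHom.one_apply, ← map_pow, pow_card_eq_one', map_one]
    have hdet : ∀ (g : T) (x : L'), detHom ρ (MulAut.conjNormal g x) = detHom ρ x := by
      intro g x
      apply Units.ext
      let c : L' ≃* L' := MulAut.conjNormal g
      have h3 : detChar θ' = fun y => (detHom (ρ.comp c.toMonoidHom) y : ℂ) := by
        rw [← detChar_eq]
        congr 1
        funext y
        show _ = ρ.character (c y)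
        rw [hρθ]
        exact (hinv g y).symm.trans (congrArg _ (Subtype.ext (MulAut.conjNormal_apply g y).symm))
      have h4 := congrFun h3 x
      rw [← hρθ, detChar_eq] at h4
      exact h4.symm
    have hcop : L'.index.Coprime (orderOf (detHom ρ)) := by
      rw [hk]
      refine Nat.Coprime.pow_left k (hp.coprime_iff_not_dvd.2 fun h => hLcard ?_)
      rw [← Nat.card_congr eL.toEquiv]
      exact h.trans hdetdvd
    obtain ⟨μ, hμ, -, -⟩ := exists_hom_extending_coprime (detHom ρ) hdet hcop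
    obtain ⟨η, hη, hηθ, -⟩ := exists_extension_det ⟨n, ρ, hρ, hρθ⟩ hinv (d := d)
      (by simp only [hθ', map_one, hd]) (hk ▸ (hp.coprime_iff_not_dvd.2 hdL).pow_left k) μ
      (fun x => by rw [hμ, ← hρθ, detChar_eq])
    have hη1 : η 1 = (d : ℂ) := by
      have := hηθ 1
      simp only [OneMemClass.coe_one, hθ', map_one, hd] at this
      exact this
    have hTidx : ¬ p ∣ T.index := fun h =>
      P.not_dvd_index (h.trans (Subgroup.index_dvd_of_le le_sup_right))
    obtain ⟨χ, hχ, hne⟩ := above T hTidx η hη d hη1 hdL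
    have hconst := trivial_of_constituent (L := L')
      (isCharacter_restrict (isCharacter_of_irr χ.2) T)
      (fun x hx => by simpa using hK _ (hLK (Subgroup.mem_subgroupOf.1 hx)) χ hχ) ⟨η, hη⟩ hne
    refine hθ1 (irr_eq_one_of_kernel_top θ.2 fun x => ?_)
    have h1 := hconst _ (eL.symm x).2
    change η _ = η 1 at h1
    rw [hηθ, show η 1 = θ' 1 by rw [hη1]; simp only [hθ', map_one, hd]] at h1
    simpa [hθ'] using h1
  -- conclusion
  intro x hx
  obtain ⟨l, hl, q, hq, rfl⟩ := Subgroup.mem_sup_of_normal_left.1 (hKLP hx)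
  refine mul_mem (Subgroup.mem_sup_left (hLN hl)) (Subgroup.mem_sup_right (hKP ⟨?_, hq⟩))
  have h1 := mul_mem (inv_mem (hLK hl)) hx
  rwa [inv_mul_cancel_left] at h1

/-- The intersection of the kernels of the `p'`-degree characters. -/
theorem kernel_pprime_eq (N : Subgroup G) [N.Normal]
    (hN : N ⊓ Subgroup.centralizer ((P : Subgroup G) : Set G) = ⊥)
    (hmax : ∀ L : Subgroup G, L.Normal →
      L ⊓ Subgroup.centralizer ((P : Subgroup G) : Set G) = ⊥ → L ≤ N) :
    {g : G | ∀ χ : IrrCharacter G, ¬ p ∣ charDegree (χ : G → ℂ) →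
        (χ : G → ℂ) g = (χ : G → ℂ) 1} =
      ((N ⊔ ⁅(P : Subgroup G), (P : Subgroup G)⁆).normalCore : Set G) := by
  refine Set.Subset.antisymm ?_ fun g hg χ hχ => normalCore_le_kernel P N hN χ hχ g hg
  set K : Subgroup G := ⨅ χ : {χ : IrrCharacter G // ¬ p ∣ charDegree (χ : G → ℂ)},
    charKernel _ (isCharacter_of_irr χ.1.2) with hKdef
  have hmem : ∀ g, g ∈ K ↔ ∀ χ : IrrCharacter G, ¬ p ∣ charDegree (χ : G → ℂ) →
      (χ : G → ℂ) g = (χ : G → ℂ) 1 := fun g => by
    simp only [hKdef, Subgroup.mem_iInf, mem_charKernel, Subtype.forall]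
  haveI : K.Normal := Subgroup.normal_iInf_normal fun χ => inferInstance
  have hle := (Subgroup.normal_le_normalCore).2
    (kernel_le_sup P N hmax K fun g hg χ hχ => (hmem g).1 hg χ hχ)
  exact fun g hg => hle ((hmem g).2 hg)

end Main

end CfsgLib.Blocks
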