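import Cfsg.Agent.Lib.Blocks.AlperinDade
import Cfsg.Agent.Lib.Blocks.MaxPairs
import Cfsg.Agent.Lib.Blocks.FullDefect
import Cfsg.Agent.Lib.NilpotentCommute

/-!
# Extensions of principal block characters over a normal subgroup supplemented by the centralizer
of one of its Sylow subgroups
-/

namespace CfsgLib.Blocks.PrincipalExtension

open Cfsg CfsgLib.CharTheory CfsgLib.Blocks CfsgLib.Blocks.FullDefect
open scoped ComplexConjugate

set_option linter.unusedVariables false
set_option linter.style.haveILetI false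
set_option linter.unusedSectionVars false

universe u

variable {p : ℕ} {M : Ideal AlgInt}

/-- The sum of a function over the regular elements of a coset. -/
noncomputable def cosetReg {K : Type u} [Group K] [Fintype K] (p : ℕ) (N : Subgroup K)
    (f : K → ℂ) (q : K ⧸ N) : ℂ :=
  open Classical in
  ∑ g ∈ Finset.univ.filter (fun g : K => (g : K ⧸ N) = q ∧ ¬ p ∣ orderOf g), f g

theorem cosetReg_cls {K : Type u} [Group K] [Fintype K] {N : Subgroup K} [N.Normal] {f : K → ℂ}
    (hf : IsClassFunction K f) : IsClassFunction (K ⧸ N) (cosetReg p N f) := by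
  classical
  intro q d
  obtain ⟨y, rfl⟩ := QuotientGroup.mk_surjective d
  simp only [cosetReg]
  refine Finset.sum_equiv (MulAut.conj y⁻¹).toEquiv (fun x => ?_) fun x _ => ?_
  · simp only [Finset.mem_filter, Finset.mem_univ, true_and, MulEquiv.toEquiv_eq_coe,
      EquivLike.coe_coe, MulAut.conj_apply, inv_inv]
    rw [show y⁻¹ * x * y = y⁻¹ * x * y⁻¹⁻¹ by rw [inv_inv], conj_orderOf]
    refine and_congr_left' ?_
    simp only [QuotientGroup.mk_mul, QuotientGroup.mk_inv, inv_inv]
    exact ⟨fun h => by rw [h]; group, fun h => by rw [← h]; group⟩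
  · exact (hf x y⁻¹).symm

variable {G : Type u} [Group G] [Fintype G] {N : Subgroup G} [hN : N.Normal] [Fintype N]

theorem cosetReg_subgroupOf {J : Subgroup G} [Fintype J] (hNJ : N ≤ J) (f : G → ℂ) (j : J) :
    cosetReg p (N.subgroupOf J) (fun x : J => f x) (j : J ⧸ N.subgroupOf J) =
      cosetReg p N f (((j : G)) : G ⧸ N) := by
  classical
  simp only [cosetReg]
  refine Finset.sum_bij (fun x _ => (x : G)) (fun x hx => ?_) (fun a _ b _ h => Subtype.ext h)
    (fun g hg => ?_) fun x _ => rfl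
  · obtain ⟨-, h1, h2⟩ := Finset.mem_filter.1 hx
    refine Finset.mem_filter.2 ⟨Finset.mem_univ _, ?_, by rwa [Subgroup.orderOf_coe]⟩
    rw [QuotientGroup.eq] at h1 ⊢
    exact Subgroup.mem_subgroupOf.1 h1
  · obtain ⟨-, h1, h2⟩ := Finset.mem_filter.1 hg
    have hm : g⁻¹ * (j : G) ∈ N := QuotientGroup.eq.1 h1
    have hgJ : g ∈ J := by
      have := J.mul_mem j.2 (J.inv_mem (hNJ hm))
      simpa [mul_assoc] using this
    refine ⟨⟨g, hgJ⟩, Finset.mem_filter.2 ⟨Finset.mem_univ _, ?_, by rwa [Subgroup.orderOf_mk]⟩, rfl⟩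
    rw [QuotientGroup.eq, Subgroup.mem_subgroupOf]
    exact hm

theorem cosetReg_twist (β : G → ℂ) (γ : G ⧸ N → ℂ) (h : ∀ g, β g = γ (g : G ⧸ N)) (f : G → ℂ)
    (q : G ⧸ N) : cosetReg p N (β * f) q = γ q * cosetReg p N f q := by
  classical
  simp only [cosetReg, Finset.mul_sum]
  refine Finset.sum_congr rfl fun g hg => ?_
  rw [Pi.mul_apply, h, (Finset.mem_filter.1 hg).2.1]

theorem cosetReg_one (f : G → ℂ) :
    cosetReg p N f 1 = ∑ n ∈ (Finset.univ : Finset N).filter (fun n : N => ¬ p ∣ orderOf (n : G)),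
      f (n : G) := by
  classical
  simp only [cosetReg]
  symm
  refine Finset.sum_bij (fun n _ => (n : G)) (fun n hn => ?_) (fun a _ b _ h => Subtype.ext h)
    (fun g hg => ?_) fun n _ => rfl
  · exact Finset.mem_filter.2 ⟨Finset.mem_univ _, (QuotientGroup.eq_one_iff _).2 n.2,
      (Finset.mem_filter.1 hn).2⟩
  · obtain ⟨-, h1, h2⟩ := Finset.mem_filter.1 hg
    exact ⟨⟨g, (QuotientGroup.eq_one_iff g).1 h1⟩, Finset.mem_filter.2 ⟨Finset.mem_univ _, h2⟩, rfl⟩

omit [Fintype N] in
/-- Sums over regular elements split into cosets. -/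
theorem sum_regular_cosets [Fintype (G ⧸ N)] (f : G → ℂ) :
    ∑ g ∈ Finset.univ.filter (fun g : G => ¬ p ∣ orderOf g), f g =
      ∑ q : G ⧸ N, cosetReg p N f q := by
  classical
  rw [← Finset.sum_fiberwise (Finset.univ.filter (fun g : G => ¬ p ∣ orderOf g))
    (fun g : G => (g : G ⧸ N)) f]
  refine Finset.sum_congr rfl fun q _ => ?_
  simp only [cosetReg, Finset.filter_filter]
  exact Finset.sum_congr (Finset.filter_congr fun g _ => and_comm) fun _ _ => rfl

/-- In a quotient the coset of a singular element has no regular element. -/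
theorem cosetReg_singular (f : G → ℂ) {q : G ⧸ N} (hq : p ∣ orderOf q) :
    cosetReg p N f q = 0 := by
  classical
  simp only [cosetReg]
  refine Finset.sum_eq_zero fun g hg => absurd ?_ (Finset.mem_filter.1 hg).2.2
  rw [← (Finset.mem_filter.1 hg).2.1] at hq
  exact hq.trans (orderOf_map_dvd (QuotientGroup.mk' N) g)

variable {P : Subgroup G}

/-- In a group with `CentSupp` the extension in the principal block has equal sums over the
regular parts of all cosets. -/
theorem cosetReg_principal (hM : IsPModular p M) (h : CentSupp p N P) {χ : IrrCharacter G}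
    (hχ : χ ∈ principalBlock M G) (q : G ⧸ N) :
    cosetReg p N (χ : G → ℂ) q = cosetReg p N (χ : G → ℂ) 1 := by
  classical
  haveI := Fintype.ofFinite (G ⧸ N)
  set T := cosetReg p N (χ : G → ℂ) with hT
  have hTcl : IsClassFunction (G ⧸ N) T := cosetReg_cls (isClassFunction_irr χ.2)
  have hz : ∀ β : IrrCharacter (G ⧸ N), (β : G ⧸ N → ℂ) ≠ (fun _ => 1) →
      classInner T (β : G ⧸ N → ℂ) = 0 := by
    intro β hβ
    set b : IrrCharacter G := ⟨_, isIrrCharacter_comp_surjective β.2 (QuotientGroup.mk' N)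
      (QuotientGroup.mk'_surjective N)⟩ with hb
    have hbn : b ∉ principalBlock M G := by
      intro hb0
      apply hβ
      have := twist_eq_one hM h b.2 (fun n hn => by
        show (β : G ⧸ N → ℂ) (QuotientGroup.mk' N n) = (β : G ⧸ N → ℂ) (QuotientGroup.mk' N 1)
        rw [QuotientGroup.mk'_apply, (QuotientGroup.eq_one_iff n).2 hn, map_one])
        (oneIrr_mem hM) hb0 (funext fun g => by simp [oneIrr])
      funext q
      obtain ⟨g, rfl⟩ := QuotientGroup.mk'_surjective N q
      exact congrFun this g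
    have h0 := regS_eq_zero hM (χ := χ) (ψ := b) fun hs => hbn (by
      rw [eq_blockOf hM principalBlock_isPBlock hχ]; exact hs)
    rw [regS_eq_sum, sum_regular_cosets (N := N)] at h0
    rw [classInner]
    refine mul_eq_zero_of_right _ ?_
    rw [← h0]
    refine Finset.sum_congr rfl fun q _ => ?_
    simp only [hT, cosetReg, Finset.sum_mul]
    refine Finset.sum_congr rfl fun g hg => ?_
    rw [← irr_conjInv, ← (Finset.mem_filter.1 hg).2.1]
    rfl
  have hexp := eq_sum_irr hTcl
  rw [Finset.sum_eq_single ⟨fun _ => (1 : ℂ), isIrrCharacter_one⟩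
    (fun β _ hne => by rw [hz β fun e => hne (Subtype.ext e), zero_smul])
    (fun hn => absurd (Finset.mem_univ _) hn)] at hexp
  rw [congrFun hexp q, congrFun hexp 1]
  rfl

/-- The number of regular elements of a group is prime to `p`. -/
theorem res_card_regular (hM : IsPModular p M) {K : Type u} [Group K] [Fintype K] :
    res hM (((Finset.univ.filter (fun k : K => ¬ p ∣ orderOf k)).card : ℕ) : ℂ) ≠ 0 := by
  classical
  have h := (principal_detect hM (oneIrr K)).1 (oneIrr_mem hM)
  rw [omega_regFn, regS_eq_sum] at h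
  simp only [oneIrr, mul_one, div_one, Finset.sum_const, nsmul_eq_mul] at h
  exact h

/-- The existence of a compatible extension. -/
theorem exists_compatible (hM : IsPModular p M) (P : Sylow p N)
    (hcov : N ⊔ Subgroup.centralizer (((P : Subgroup N).map N.subtype : Subgroup G) : Set G) = ⊤)
    {θ : IrrCharacter N} (hθ : θ ∈ principalBlock M N) {ψ : IrrCharacter G}
    (hψ : ∀ x : N, (ψ : G → ℂ) x = (θ : N → ℂ) x) :
    ∃ χ : IrrCharacter G, χ ∈ principalBlock M G ∧ (∀ x : N, (χ : G → ℂ) x = (θ : N → ℂ) x) ∧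
      ∀ J : Subgroup G, N ≤ J → ∃ ξ : IrrCharacter J, ξ ∈ principalBlock M J ∧
        ∀ y : J, (ξ : J → ℂ) y = (χ : G → ℂ) y := by
  classical
  haveI : Fact p.Prime := ⟨hM.1⟩
  haveI := res_isDomain hM
  haveI := Fintype.ofFinite (G ⧸ N)
  set P0 := (P : Subgroup N).map N.subtype with hP0
  set σ : ℂ := ∑ n ∈ (Finset.univ : Finset N).filter (fun n : N => ¬ p ∣ orderOf (n : G)),
    (θ : N → ℂ) n with hσ
  have hσu : res hM (σ / (θ : N → ℂ) 1) ≠ 0 := by
    have h := (principal_detect hM θ).1 hθ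
    rw [omega_regFn, regS_eq_sum] at h
    simp only [oneIrr, mul_one] at h
    simp only [hσ, Subgroup.orderOf_coe]
    exact h
  have hσ0 : σ ≠ 0 := fun e => hσu (by rw [e, zero_div, res_zero])
  have hext1 : ∀ φ : G → ℂ, (∀ x : N, φ x = (θ : N → ℂ) x) → cosetReg p N φ 1 = σ := by
    intro φ hφ
    rw [cosetReg_one]
    exact Finset.sum_congr rfl fun n _ => hφ n
  -- the twist on a subgroup of index prime to `p` over `N`
  have hJ : ∀ J : Subgroup G, N ≤ J → ¬ p ∣ N.relIndex J → ∃ l : J →* ℂˣ, ∀ j : J,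
      cosetReg p N (ψ : G → ℂ) ((j : G) : G ⧸ N) = ((l j : ℂˣ) : ℂ) * σ := by
    intro J hNJ hidx
    haveI := Fintype.ofFinite J
    haveI : (N.subgroupOf J).Normal := Subgroup.normal_subgroupOf
    haveI := Fintype.ofFinite (N.subgroupOf J)
    set e := Subgroup.subgroupOfEquivOfLe hNJ with he
    have hsupp : CentSupp p (N.subgroupOf J) (P0.subgroupOf J) := by
      refine ⟨fun x hx => Subgroup.mem_subgroupOf.2
        ((Subgroup.map_subtype_le (P : Subgroup N) : P0 ≤ N) (Subgroup.mem_subgroupOf.1 hx)), ?_,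
        (Subgroup.eq_top_iff' _).2 fun x => ?_⟩
      · show ¬ p ∣ P0.relIndex J
        rw [← Subgroup.relIndex_mul_relIndex P0 N J (Subgroup.map_subtype_le _) hNJ,
          hM.1.dvd_mul]
        refine not_or.2 ⟨?_, hidx⟩
        rw [Subgroup.relIndex, Subgroup.subgroupOf, hP0,
          Subgroup.comap_map_eq_self_of_injective N.subtype_injective]
        exact P.not_dvd_index
      · have hx : (x : G) ∈ ((N ⊔ Subgroup.centralizer (P0 : Set G) : Subgroup G) : Set G) :=
          hcov ▸ Subgroup.mem_top _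
        rw [Subgroup.normal_mul] at hx
        obtain ⟨n, hn, c, hc, hnc⟩ := hx
        have hcJ : c ∈ J := by
          have := J.mul_mem (J.inv_mem (hNJ hn)) x.2
          rw [← hnc] at this
          simpa using this
        rw [show x = (⟨n, hNJ hn⟩ : J) * ⟨c, hcJ⟩ from Subtype.ext hnc.symm]
        exact Subgroup.mul_mem_sup hn fun y hy => Subtype.ext (hc (y : G) hy)
    obtain ⟨χJ, hχJ, hχJext⟩ := exists_ext_principal hM hsupp (irrPull_mem_principal hM e hθ)
    have hres : IsIrrCharacter (N.subgroupOf J) (fun n : N.subgroupOf J => (ψ : G → ℂ) (n : J)) := by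
      rw [show (fun n : N.subgroupOf J => (ψ : G → ℂ) (n : J)) = (irrPull e θ : _ → ℂ) from
        funext fun n => hψ (e n)]
      exact (irrPull e θ).2
    have hψJ : IsCharacter J (fun x : J => (ψ : G → ℂ) x) :=
      isCharacter_restrict (isCharacter_of_irr ψ.2) J
    obtain ⟨β, hβ, hβN, heq⟩ := (gallagher (N.subgroupOf J) hψJ hres).2.2 _ χJ.2 (by
      rw [funext hχJext, show (fun n : N.subgroupOf J => (ψ : G → ℂ) (n : J)) =
        (irrPull e θ : _ → ℂ) from funext fun n => hψ (e n), classInner_irr_self (irrPull e θ).2]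
      exact one_ne_zero)
    have hβ1 : β 1 = 1 := by
      have h1 := congrFun heq 1
      rw [Pi.mul_apply, OneMemClass.coe_one, show (χJ : J → ℂ) 1 = (θ : N → ℂ) 1 by
        have := hχJext 1; rwa [OneMemClass.coe_one, irrPull_apply, map_one] at this,
        show (ψ : G → ℂ) 1 = (θ : N → ℂ) 1 from hψ 1] at h1
      exact mul_right_cancel₀ (irr_one_ne_zero θ) (h1.symm.trans (one_mul _).symm)
    obtain ⟨φ, rfl⟩ := exists_hom_of_degree_one (isCharacter_of_irr hβ) hβ1
    have hφN : ∀ n ∈ N.subgroupOf J, φ n = 1 := fun n hn => Units.ext (by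
      have := hβN n hn; simpa using this)
    refine ⟨φ⁻¹, fun j => ?_⟩
    have hc := cosetReg_principal hM hsupp hχJ (j : J ⧸ N.subgroupOf J)
    have h1 : cosetReg p (N.subgroupOf J) (χJ : J → ℂ) 1 = σ := by
      rw [heq, cosetReg_twist (fun g : J => ((φ g : ℂˣ) : ℂ)) (fun q => ((QuotientGroup.lift (N.subgroupOf J) φ hφN q : ℂˣ) : ℂ))
        (fun g => rfl)]
      have e1 := cosetReg_subgroupOf (p := p) hNJ (ψ : G → ℂ) 1
      rw [QuotientGroup.mk_one, OneMemClass.coe_one, QuotientGroup.mk_one] at e1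
      rw [e1, hext1 _ hψ, map_one, Units.val_one, one_mul]
    rw [h1, heq, cosetReg_twist (fun g : J => ((φ g : ℂˣ) : ℂ)) (fun q => ((QuotientGroup.lift (N.subgroupOf J) φ hφN q : ℂˣ) : ℂ))
      (fun g => rfl), cosetReg_subgroupOf hNJ] at hc
    rw [← hc, MonoidHom.inv_apply]
    show _ = _ * (((φ j : ℂˣ) : ℂ) * _)
    rw [← mul_assoc, ← Units.val_mul,
      inv_mul_cancel, Units.val_one, one_mul]
  set α : G ⧸ N → ℂ := fun q => cosetReg p N (ψ : G → ℂ) q / σ with hα
  choose zp wp hzw hcm hzp hwp hzm hwm using fun q : G ⧸ N => exists_pPart hM.1 q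
  set γ : G ⧸ N → ℂ := fun q => α (wp q) with hγ
  have hwpconj : ∀ q d : G ⧸ N, wp (d * q * d⁻¹) = d * wp q * d⁻¹ := by
    intro q d
    refine (pPart_unique hM.1 (hcm _) ((hcm q).map (MulAut.conj d).toMonoidHom) (hzp _)
      (z' := d * zp q * d⁻¹) (by simpa only [conj_orderOf] using hzp q) (hwp _)
      (w' := d * wp q * d⁻¹) (by rw [conj_orderOf]; exact hwp q) ?_).2
    rw [hzw]
    conv_lhs => rw [← hzw q]
    group
  have hγcl : IsClassFunction (G ⧸ N) γ := fun q d => by
    simp only [hγ, hα, hwpconj, cosetReg_cls (isClassFunction_irr ψ.2) (wp q) d]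
  have hwreg : ∀ q : G ⧸ N, ¬ p ∣ orderOf q → wp q = q := fun q hq =>
    (pPart_unique hM.1 (hcm q) (Commute.one_left q) (hzp q) ⟨0, by simp⟩ (hwp q) hq
      (by rw [hzw, one_mul])).2
  -- on elementary subgroups
  have hloc : ∀ E : Subgroup (G ⧸ N), Group.IsNilpotent E →
      ∃ f : E →* ℂˣ, ∀ x : E, γ (x : G ⧸ N) = ((f x : ℂˣ) : ℂ) := by
    intro E hE
    haveI := hE
    haveI := Fintype.ofFinite E
    obtain ⟨S⟩ : Nonempty (Sylow p E) := inferInstance
    have hSn : (S : Subgroup E).Normal := Sylow.normal_of_normalizerCondition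
      normalizerCondition_of_isNilpotent S
    haveI := hSn
    set R := pPrimeCore p E with hR
    have hmemR : ∀ x : E, x ∈ R ↔ ¬ p ∣ orderOf x := by
      intro x
      rw [hR, ← regular_centralizing_iff S x]
      refine ⟨And.left, fun h => ⟨h, fun s hs => ?_⟩⟩
      obtain ⟨k, hk⟩ := IsPGroup.iff_orderOf.1 S.2 ⟨s, hs⟩
      refine (commute_of_nilpotent s x ?_).eq
      rw [show orderOf s = p ^ k from (Subgroup.orderOf_coe ⟨s, hs⟩).trans hk]
      exact (hM.1.coprime_iff_not_dvd.2 h).pow_left k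
    have hmemS : ∀ x : E, (∃ k : ℕ, orderOf x = p ^ k) → x ∈ (S : Subgroup E) := by
      intro x ⟨k, hk⟩
      have hz : IsPGroup p (Subgroup.zpowers x) :=
        IsPGroup.of_card (n := k) (by rw [Nat.card_zpowers, hk])
      exact (S.3 (S.2.to_sup_of_normal_left hz) le_sup_left).le
        ((le_sup_right : _ ≤ (S : Subgroup E) ⊔ Subgroup.zpowers x) (Subgroup.mem_zpowers x))
    choose ze we hzwe hcme hze hwe hzme hwme using fun x : E => exists_pPart hM.1 x
    have hmul : ∀ x y : E, we (x * y) = we x * we y := by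
      intro x y
      have c : ∀ a b : E, Commute (we a) (ze b) := fun a b => by
        obtain ⟨k, hk⟩ := hze b
        refine commute_of_nilpotent _ _ ?_
        rw [hk]
        exact ((hM.1.coprime_iff_not_dvd.2 (hwe a)).pow_left k).symm
      have hzz : ∃ k : ℕ, orderOf (ze x * ze y) = p ^ k := by
        obtain ⟨k, hk⟩ := IsPGroup.iff_orderOf.1 S.2
          ⟨_, Subgroup.mul_mem _ (hmemS _ (hze x)) (hmemS _ (hze y))⟩
        exact ⟨k, (Subgroup.orderOf_coe (⟨_, Subgroup.mul_mem _ (hmemS _ (hze x)) (hmemS _ (hze y))⟩ :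
          (S : Subgroup E))).trans hk⟩
      refine (pPart_unique hM.1 (hcme _) (z' := ze x * ze y) (w' := we x * we y) ?_ (hze _) hzz
        (hwe _) ((hmemR _).1 (R.mul_mem ((hmemR _).2 (hwe x)) ((hmemR _).2 (hwe y)))) ?_).2
      · exact ((c x x).symm.mul_right (c y x).symm).mul_left ((c x y).symm.mul_right (c y y).symm)
      · rw [hzwe, mul_assoc (ze x), ← mul_assoc (ze y), ← (c x y).eq, mul_assoc (we x), hzwe,
          ← mul_assoc, hzwe]
    let we' : E →* R := MonoidHom.mk' (fun x => ⟨we x, (hmemR _).2 (hwe x)⟩)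
      fun x y => Subtype.ext (hmul x y)
    set RG : Subgroup (G ⧸ N) := R.map E.subtype with hRG
    set J : Subgroup G := RG.comap (QuotientGroup.mk' N) with hJdef
    have hNJ : N ≤ J := fun n hn => by
      rw [hJdef, Subgroup.mem_comap, QuotientGroup.mk'_apply, (QuotientGroup.eq_one_iff n).2 hn]
      exact RG.one_mem
    have hidx : ¬ p ∣ N.relIndex J := by
      intro hd
      haveI : (N.subgroupOf J).Normal := Subgroup.normal_subgroupOf
      obtain ⟨x, hx⟩ := exists_prime_orderOf_dvd_card' (G := J ⧸ N.subgroupOf J) p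
        (by rw [← Subgroup.index_eq_card]; exact hd)
      obtain ⟨j, rfl⟩ := QuotientGroup.mk_surjective x
      obtain ⟨r, hr, hrj⟩ := (Subgroup.mem_comap.1 j.2)
      refine (hmemR r).1 hr ?_
      rw [← Subgroup.orderOf_coe r, show ((r : E) : G ⧸ N) = ((j : G) : G ⧸ N) from hrj, ← hx]
      refine orderOf_dvd_of_pow_eq_one ?_
      rw [← QuotientGroup.mk_pow, QuotientGroup.eq_one_iff, Subgroup.mem_subgroupOf,
        Subgroup.coe_pow, ← QuotientGroup.eq_one_iff, QuotientGroup.mk_pow, pow_orderOf_eq_one]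
    obtain ⟨l, hl⟩ := hJ J hNJ hidx
    have hα' : ∀ j : J, α ((j : G) : G ⧸ N) = ((l j : ℂˣ) : ℂ) := fun j => by
      rw [hα]; simp only; rw [hl, mul_div_cancel_right₀ _ hσ0]
    choose lift hlift using fun r : R => QuotientGroup.mk_surjective (((r : E) : G ⧸ N))
    have hliftJ : ∀ r : R, lift r ∈ J := fun r => by
      rw [hJdef, Subgroup.mem_comap, QuotientGroup.mk'_apply, hlift]
      exact ⟨(r : E), r.2, rfl⟩
    let fR : R →* ℂˣ := MonoidHom.mk' (fun r => l ⟨lift r, hliftJ r⟩) fun r s => by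
      rw [← map_mul]
      apply Units.ext
      rw [← hα', ← hα']
      congr 1
      show ((lift (r * s) : G) : G ⧸ N) = ((lift r * lift s : G) : G ⧸ N)
      rw [QuotientGroup.mk_mul, hlift, hlift, hlift]
      rfl
    refine ⟨fR.comp we', fun x => ?_⟩
    show α (wp (x : G ⧸ N)) = ((l ⟨lift (we' x), hliftJ (we' x)⟩ : ℂˣ) : ℂ)
    rw [← hα', hlift]
    congr 1
    refine (pPart_unique hM.1 (hcm _) ((hcme x).map E.subtype) (hzp _)
      (by simpa only [Subgroup.coe_subtype, Subgroup.orderOf_coe] using hze x) (hwp _)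
      (by simpa only [Subgroup.coe_subtype, Subgroup.orderOf_coe] using hwe x) ?_).2
    rw [hzw]
    exact congrArg Subtype.val (hzwe x).symm
  have hγgen : IsGeneralizedCharacter (G ⧸ N) γ := by
    refine isGenChar_of_elementary hγcl fun E q hq hEl => ?_
    haveI := Fintype.ofFinite E
    obtain ⟨f, hf⟩ := hloc E (isNilpotent_of_elementary hq hEl)
    rw [funext hf]
    exact isGenChar_of_char (isCharacter_of_irr (isIrrCharacter_linear f))
  have hγone : ∀ q : G ⧸ N, γ q * conj (γ q) = 1 := by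
    intro q
    letI : CommGroup (Subgroup.zpowers q) := IsCyclic.commGroup
    haveI := Fintype.ofFinite (Subgroup.zpowers q)
    obtain ⟨f, hf⟩ := hloc (Subgroup.zpowers q) CommGroup.isNilpotent
    have h1 := hf ⟨q, Subgroup.mem_zpowers q⟩
    simp only at h1
    rw [h1, irr_conjInv ⟨_, isIrrCharacter_linear f⟩]
    show ((f _ : ℂˣ) : ℂ) * ((f _ : ℂˣ) : ℂ) = 1
    rw [← Units.val_mul, ← map_mul, mul_inv_cancel, map_one, Units.val_one]
  have hγ1 : γ 1 = 1 := by
    obtain ⟨f, hf⟩ := hloc ⊥ inferInstance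
    have := hf 1
    rwa [OneMemClass.coe_one, map_one, Units.val_one] at this
  have hγirr : IsIrrCharacter (G ⧸ N) γ := by
    refine irr_of_norm_one hγgen ?_ (by rw [hγ1]; norm_num)
    rw [classInner, Finset.sum_congr rfl fun q _ => hγone q, Finset.sum_const, Finset.card_univ,
      nsmul_one, Nat.card_eq_fintype_card, inv_mul_cancel₀ (Nat.cast_ne_zero.2 Fintype.card_ne_zero)]
  obtain ⟨Φ, hΦ⟩ := exists_hom_of_degree_one (isCharacter_of_irr hγirr) hγ1
  set β : G → ℂ := fun g => ((Φ⁻¹ (g : G ⧸ N) : ℂˣ) : ℂ) with hβ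
  have hres : IsIrrCharacter N (fun n : N => (ψ : G → ℂ) n) := by rw [funext hψ]; exact θ.2
  have hβirr : IsIrrCharacter G β := isIrrCharacter_linear (Φ⁻¹.comp (QuotientGroup.mk' N))
  have hχirr := (gallagher N (isCharacter_of_irr ψ.2) hres).1 β hβirr fun n hn => by
    simp only [hβ, (QuotientGroup.eq_one_iff n).2 hn, QuotientGroup.mk_one]
  set χ : IrrCharacter G := ⟨_, hχirr⟩ with hχ
  have hχN : ∀ x : N, (χ : G → ℂ) x = (θ : N → ℂ) x := fun x => by
    show β x * (ψ : G → ℂ) x = _
    simp only [hβ, (QuotientGroup.eq_one_iff (x : G)).2 x.2, map_one, Units.val_one, one_mul, hψ]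
  have hS : ∀ q : G ⧸ N, ¬ p ∣ orderOf q → cosetReg p N (χ : G → ℂ) q = σ := by
    intro q hq
    show cosetReg p N (β * (ψ : G → ℂ)) q = σ
    rw [cosetReg_twist _ (fun q => ((Φ⁻¹ q : ℂˣ) : ℂ)) (fun g => rfl)]
    have h1 : ((Φ q : ℂˣ) : ℂ) = cosetReg p N (ψ : G → ℂ) q / σ := by
      rw [← congrFun hΦ q, hγ]
      simp only [hwreg q hq, hα]
    rw [eq_div_iff hσ0] at h1
    rw [← h1, ← mul_assoc, MonoidHom.inv_apply, ← Units.val_mul, inv_mul_cancel, Units.val_one,
      one_mul]
  have hmem : ∀ J : Subgroup G, N ≤ J → ∃ ξ : IrrCharacter J, ξ ∈ principalBlock M J ∧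
      ∀ y : J, (ξ : J → ℂ) y = (χ : G → ℂ) y := by
    intro J hNJ
    haveI := Fintype.ofFinite J
    haveI : (N.subgroupOf J).Normal := Subgroup.normal_subgroupOf
    haveI := Fintype.ofFinite (J ⧸ N.subgroupOf J)
    obtain ⟨m, R, hR⟩ := isCharacter_restrict (isCharacter_of_irr χ.2) J
    have hirr : IsIrrCharacter J R.character :=
      irr_of_extends (N := N.subgroupOf J) (irrPull (Subgroup.subgroupOfEquivOfLe hNJ) θ).2 R
        fun n => by
          rw [hR]
          exact hχN ⟨((n : J) : G), n.2⟩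
    refine ⟨⟨_, hirr⟩, (principal_detect hM _).2 ?_, fun y => congrFun hR y⟩
    rw [omega_regFn, regS_eq_sum]
    simp only [oneIrr, mul_one, hR]
    rw [sum_regular_cosets (N := N.subgroupOf J), show (χ : G → ℂ) ((1 : J) : G) = (θ : N → ℂ) 1
      from hχN 1, ← Finset.sum_filter_of_ne (p := fun q => ¬ p ∣ orderOf q)
        (fun q _ hq hd => hq (cosetReg_singular _ hd)),
      Finset.sum_congr rfl (g := fun _ => σ) (fun q hq => ?_), Finset.sum_const, nsmul_eq_mul,
      mul_div_assoc, res_mul hM (memRing_natCast hM _) ?_]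
    · exact mul_ne_zero (res_card_regular hM) hσu
    · have h1 := memRing_omega_regFn (p := p) hM θ (oneIrr N)
      rw [omega_regFn, regS_eq_sum] at h1
      simp only [oneIrr, mul_one] at h1
      simp only [hσ, Subgroup.orderOf_coe]
      exact h1
    · obtain ⟨j, rfl⟩ := QuotientGroup.mk_surjective q
      rw [cosetReg_subgroupOf hNJ, hS]
      intro hd
      apply (Finset.mem_filter.1 hq).2
      refine hd.trans (orderOf_dvd_of_pow_eq_one ?_)
      rw [← QuotientGroup.mk_pow, QuotientGroup.eq_one_iff, ← Subgroup.coe_pow,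
        ← Subgroup.mem_subgroupOf, ← QuotientGroup.eq_one_iff, QuotientGroup.mk_pow,
        pow_orderOf_eq_one]
  refine ⟨χ, ?_, hχN, hmem⟩
  rw [principal_detect hM, omega_regFn, regS_eq_sum]
  simp only [oneIrr, mul_one]
  rw [sum_regular_cosets (N := N), show (χ : G → ℂ) 1 = (θ : N → ℂ) 1 from hχN 1,
    ← Finset.sum_filter_of_ne (p := fun q => ¬ p ∣ orderOf q)
      (fun q _ hq hd => hq (cosetReg_singular _ hd)),
    Finset.sum_congr rfl (g := fun _ => σ) (fun q hq => hS q (Finset.mem_filter.1 hq).2),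
    Finset.sum_const, nsmul_eq_mul, mul_div_assoc, res_mul hM (memRing_natCast hM _) ?_]
  · exact mul_ne_zero (res_card_regular hM) hσu
  · have h1 := memRing_omega_regFn (p := p) hM θ (oneIrr N)
    rw [omega_regFn, regS_eq_sum] at h1
    simp only [oneIrr, mul_one] at h1
    simp only [hσ, Subgroup.orderOf_coe]
    exact h1

end CfsgLib.Blocks.PrincipalExtension
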