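import Cfsg.Agent.Lib.Blocks.Principal
import Cfsg.Agent.Lib.Blocks.Transport
import Cfsg.Agent.Lib.Blocks.Covering
import Cfsg.Agent.Lib.Blocks.Heights
import Cfsg.Agent.Lib.CharTheory.More
import Cfsg.Agent.Lib.CharTheory.Linear
import Cfsg.Agent.Lib.CharTheory.ResidualDegrees
import Cfsg.Agent.Lib.PResidual
import Cfsg.Agent.Lib.Transfer
import Cfsg.Agent.S0867

/-!
# When the height zero characters of the principal block are linear
-/

namespace CfsgLib.Blocks.PrincipalLinear

open Cfsg CfsgLib.CharTheory CfsgLib.Blocks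
open scoped ComplexConjugate

set_option linter.unusedVariables false
set_option linter.style.haveILetI false
set_option linter.unusedSectionVars false

universe u

variable {G : Type u} [Group G] {p : ℕ} {M : Ideal AlgInt}

/-- A linear character of `O^p(G)` of order `p` is trivial. -/
theorem hom_eq_one_of_pow_p [Finite G] [Fact p.Prime] (φ : ↥(Cfsg.pResidual p G) →* ℂˣ)
    (h : φ ^ p = 1) : φ = 1 := by
  have hle : (⊤ : Subgroup ↥(Cfsg.pResidual p G)) ≤ φ.ker := by
    refine (CfsgLib.Transfer.pResidual_pResidual (G := G) (p := p)).ge.trans ?_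
    refine (Subgroup.closure_le _).2 ?_
    intro g hg
    have h1 : orderOf (φ g) ∣ p := orderOf_dvd_of_pow_eq_one (by
      rw [← MonoidHom.pow_apply, h]; rfl)
    exact orderOf_eq_one_iff.1 (Nat.eq_one_of_dvd_coprimes hg (orderOf_map_dvd φ g) h1)
  exact MonoidHom.ext fun x => hle (Subgroup.mem_top x)

/-- The linear character of a homomorphism. -/
noncomputable def linIrr {K : Type u} [Group K] [Finite K] (φ : K →* ℂˣ) : IrrCharacter K :=
  ⟨fun k => (φ k : ℂ), isIrrCharacter_linear φ⟩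

theorem centralChar_lin {K : Type u} [Group K] [Finite K] (φ : K →* ℂˣ) (g : K) :
    centralChar (linIrr φ : K → ℂ) g =
      ((Subgroup.centralizer ({g} : Set K)).index : ℂ) * (φ g : ℂ) := by
  simp [centralChar, linIrr]

theorem lin_mem_principal {K : Type u} [Group K] [Finite K] {φ : K →* ℂˣ} :
    linIrr φ ∈ principalBlock M K ↔ ∀ g : K, MemLocalIdeal M
      (((Subgroup.centralizer ({g} : Set K)).index : ℂ) -
        ((Subgroup.centralizer ({g} : Set K)).index : ℂ) * (φ g : ℂ)) := by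
  show SameBlock M _ _ ↔ _
  refine forall_congr' fun g => ?_
  rw [centralChar_lin]
  simp [centralChar]

theorem lin_principal_mul {K : Type u} [Group K] [Fintype K] (hM : IsPModular p M)
    {φ ψ : K →* ℂˣ} (h1 : linIrr φ ∈ principalBlock M K) (h2 : linIrr ψ ∈ principalBlock M K) :
    linIrr (φ * ψ) ∈ principalBlock M K := by
  rw [lin_mem_principal] at h1 h2 ⊢
  intro g
  have h := memIdeal_add hM (h2 g) (memIdeal_mul_left hM (memRing_irr hM (linIrr ψ) g) (h1 g))
  convert h using 1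
  simp [linIrr]
  ring

theorem lin_principal_inv {K : Type u} [Group K] [Fintype K] (hM : IsPModular p M)
    {φ : K →* ℂˣ} (h1 : linIrr φ ∈ principalBlock M K) :
    linIrr φ⁻¹ ∈ principalBlock M K := by
  rw [lin_mem_principal] at h1 ⊢
  intro g
  have h := memIdeal_neg hM (memIdeal_mul_left hM (memRing_irr hM (linIrr φ⁻¹) g) (h1 g))
  convert h using 1
  simp only [linIrr, MonoidHom.inv_apply, Units.val_inv_eq_inv_val]
  have hne : (φ g : ℂ) ≠ 0 := Units.ne_zero _
  field_simp
  ring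

theorem charDegree_eq_one {K : Type u} [Group K] [Finite K] {θ : IrrCharacter K}
    (h : (θ : K → ℂ) 1 = 1) : charDegree (θ : K → ℂ) = 1 := by
  simp [charDegree, h]

/-- If every character of degree prime to `p` in the principal block is linear, then `O^p(G)` has
order prime to `p`. -/
theorem not_dvd_card_residual [Fintype G] (hM : IsPModular p M) [Fact p.Prime]
    (h : ∀ χ : IrrCharacter G, χ ∈ principalBlock M G → ¬ p ∣ charDegree (χ : G → ℂ) →
      charDegree (χ : G → ℂ) = 1) :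
    ¬ p ∣ Nat.card (Cfsg.pResidual p G) := by
  classical
  intro hpK
  have hpP : p.Prime := Fact.out
  haveI : (Cfsg.pResidual p G).Normal := CfsgLib.PResidual.pResidual_normal
  set K := Cfsg.pResidual p G with hK
  haveI := Fintype.ofFinite K
  haveI := res_charP hM
  obtain ⟨k, hk⟩ : ∃ k, K.index = p ^ k :=
    IsPGroup.iff_card.1 (CfsgLib.Transfer.isPGroup_quotient_pResidual (G := G) (p := p))
  obtain ⟨u, hu⟩ := exists_prime_orderOf_dvd_card' p hpK
  have hdegK : ∀ θ : IrrCharacter K, (θ : K → ℂ) 1 = ((charDegree (θ : K → ℂ) : ℕ) : ℂ) :=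
    fun θ => (charDegree_spec' θ.2).1
  -- the sum of the squares of the degrees in the principal block vanishes modulo `p`
  have hzero : ∑ θ ∈ bset (principalBlock M K),
      ((charDegree (θ : K → ℂ) : ℕ) : AlgInt ⧸ M) ^ 2 = 0 := by
    have h0 := weak_orth_conj hM (principalBlock_isPBlock (M := M) (G := K)) (x := (1 : K))
      (y := u⁻¹) (by simpa using hpP.not_dvd_one) (by rw [orderOf_inv, hu])
    simp only [irr_conjInv, inv_inv] at h0
    have h1 := congrArg (res hM) h0
    rw [res_zero, res_sum hM fun θ _ => (loc hM).mul_mem (memRing_irr hM θ _)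
      (memRing_irr hM θ _)] at h1
    rw [← h1]
    refine Finset.sum_congr rfl fun θ _ => ?_
    have hru : res hM ((θ : K → ℂ) u) = res hM ((θ : K → ℂ) 1) := by
      have := irr_res_pPart hM θ (Commute.one_right u) (show orderOf u = p ^ 1 by rw [hu, pow_one])
      rwa [mul_one] at this
    rw [res_mul hM (memRing_irr hM θ _) (memRing_irr hM θ _), hru, hdegK, res_natCast, sq]
  -- the action of a Sylow subgroup
  let T : Sylow p G := default
  let X := {θ : IrrCharacter K // θ ∈ principalBlock M K}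
  have hstab : ∀ (g : G) (θ : IrrCharacter K), θ ∈ principalBlock M K →
      irrPull (MulAut.conjNormal g : K ≃* K) θ ∈ principalBlock M K := by
    intro g θ hθ
    rw [← image_principalBlock (M := M) (MulAut.conjNormal g : K ≃* K)]
    exact ⟨θ, hθ, rfl⟩
  letI : MulAction ↥(T : Subgroup G) X :=
    { smul := fun t θ => ⟨irrPull (MulAut.conjNormal ((t : G)⁻¹) : K ≃* K) θ.1, hstab _ _ θ.2⟩
      one_smul := fun θ => Subtype.ext (Subtype.ext (funext fun n => by
        show (θ.1 : K → ℂ) (MulAut.conjNormal (((1 : ↥(T : Subgroup G)) : G)⁻¹) n) = _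
        simp))
      mul_smul := fun s t θ => Subtype.ext (Subtype.ext (funext fun n => by
        show (θ.1 : K → ℂ) (MulAut.conjNormal (((s * t : ↥(T : Subgroup G)) : G)⁻¹) n) =
          (θ.1 : K → ℂ) (MulAut.conjNormal ((t : G)⁻¹) (MulAut.conjNormal ((s : G)⁻¹) n))
        simp [mul_inv_rev])) }
  have hsmul : ∀ (t : ↥(T : Subgroup G)) (θ : X), ((t • θ).1 : K → ℂ) =
      conjNormFun K (t : G)⁻¹ (θ.1 : K → ℂ) := fun t θ => by
    rw [conjNormFun_eq]; rfl
  haveI : Fintype X := Fintype.ofFinite X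
  let f : X → AlgInt ⧸ M := fun θ => ((charDegree (θ.1 : K → ℂ) : ℕ) : AlgInt ⧸ M) ^ 2
  have hfsum : ∑ θ, f θ = 0 := by
    rw [← hzero]
    exact (Finset.sum_subtype (bset (principalBlock M K)) (fun θ => by simp [bset]) fun θ =>
      ((charDegree (θ : K → ℂ) : ℕ) : AlgInt ⧸ M) ^ 2).symm
  have hf : ∀ (t : ↥(T : Subgroup G)) (θ : X), f (t • θ) = f θ := fun t θ => by
    simp only [f, charDegree, hsmul, conjNormFun_apply_one]
  rw [sum_fixedPoints hM T.2 f hf] at hfsum
  -- fixed points are invariant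
  have hinv : ∀ θ : X, θ ∈ MulAction.fixedPoints ↥(T : Subgroup G) X →
      ∀ g : G, conjNormFun K g (θ.1 : K → ℂ) = θ.1 := by
    intro θ hθ g
    have htop : (⊤ : Subgroup G) ≤ inertia K (θ.1 : K → ℂ) := by
      rw [← CfsgLib.PResidual.pResidual_sup_sylow (p := p) (G := G) T]
      refine sup_le (fun t ht => ?_) (le_inertia K (isClassFunction_irr θ.1.2))
      rw [← inv_inv t]
      refine (inertia K (θ.1 : K → ℂ)).inv_mem ((mem_inertia K).2 ?_)
      rw [← hsmul ⟨t, ht⟩ θ, hθ ⟨t, ht⟩]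
    exact (mem_inertia K).1 (htop (Subgroup.mem_top g))
  -- invariant characters of degree prime to `p` are linear
  have hlin : ∀ θ : X, (∀ g : G, conjNormFun K g (θ.1 : K → ℂ) = θ.1) →
      ¬ p ∣ charDegree (θ.1 : K → ℂ) → charDegree (θ.1 : K → ℂ) = 1 := by
    intro θ hi hd
    have hcop : ∀ a : ℕ, ¬ p ∣ a → K.index.Coprime a := fun a ha =>
      hk ▸ Nat.Coprime.pow_left k ((Nat.Prime.coprime_iff_not_dvd hpP).2 ha)
    obtain ⟨χ, ⟨hχ, hχK, -⟩, -⟩ := Cfsg.Agent.S0867.result K (θ.1 : K → ℂ) θ.1.2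
      (fun g n => congrFun (hi g) n) _ (hdegK θ.1)
      (Nat.Coprime.mul_right (hcop _ (not_dvd_detOrder_residual θ.1.2)) (hcop _ hd))
    have hdeq : charDegree χ = charDegree (θ.1 : K → ℂ) := by
      have := hχK 1
      simp only [OneMemClass.coe_one] at this
      simp [charDegree, this]
    have hmem : (⟨χ, hχ⟩ : IrrCharacter G) ∈ principalBlock M G := by
      have e : blockOf M χ = principalBlock M G := by
        refine covering_unique (N := K) hM ⟨k, hk⟩ (principalBlock_isPBlock (M := M) (G := K))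
          ⟨⟨χ, hχ⟩, rfl⟩ principalBlock_isPBlock
          ⟨⟨χ, hχ⟩, mem_blockOf_self hM ⟨χ, hχ⟩, θ.1, θ.2, ?_⟩
          ⟨oneIrr G, oneIrr_mem hM, oneIrr K, oneIrr_mem hM, ?_⟩
        · rw [show (fun n : K => χ n) = (θ.1 : K → ℂ) from funext hχK, classInner_irr_self θ.1.2]
          exact one_ne_zero
        · show classInner (fun n : K => ((oneIrr K : IrrCharacter K) : K → ℂ) n) _ ≠ 0
          rw [classInner_irr_self (oneIrr K).2]
          exact one_ne_zero
      exact e ▸ mem_blockOf_self hM ⟨χ, hχ⟩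
    rw [← hdeq]
    exact h ⟨χ, hχ⟩ hmem (hdeq.symm ▸ hd)
  -- the invariant linear characters of the principal block form a group
  let H : Subgroup (↥K →* ℂˣ) :=
    { carrier := {φ | linIrr φ ∈ principalBlock M K ∧ ∀ (g : G) (n : K),
        φ (MulAut.conjNormal g n) = φ n}
      one_mem' := ⟨lin_mem_principal.2 fun g => by simp [memIdeal_zero hM], fun _ _ => rfl⟩
      mul_mem' := fun {a b} ha hb => ⟨lin_principal_mul hM ha.1 hb.1, fun g n => by
        simp [MonoidHom.mul_apply, ha.2 g n, hb.2 g n]⟩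
      inv_mem' := fun {a} ha => ⟨lin_principal_inv hM ha.1, fun g n => by
        simp [ha.2 g n]⟩ }
  haveI : Finite (↥K →* ℂˣ) := Finite.of_equiv _ (linearEquivHom (G := ↥K))
  have hH : ¬ p ∣ Nat.card H := by
    intro hd
    obtain ⟨φ, hφ⟩ := exists_prime_orderOf_dvd_card' p hd
    have h1 : (φ : ↥K →* ℂˣ) = 1 := hom_eq_one_of_pow_p _ (by
      have hp1 : φ ^ p = 1 := orderOf_dvd_iff_pow_eq_one.1 (by rw [hφ])
      exact congrArg Subtype.val hp1)
    rw [show φ = 1 from Subtype.ext h1, orderOf_one] at hφ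
    exact hpP.one_lt.ne hφ
  apply hH
  rw [← CharP.cast_eq_zero_iff (AlgInt ⧸ M) p, ← hfsum]
  set F := Finset.univ.filter (· ∈ MulAction.fixedPoints ↥(T : Subgroup G) X) with hF
  rw [← Finset.sum_filter_add_sum_filter_not F (fun θ => charDegree (θ.1 : K → ℂ) = 1)]
  rw [Finset.sum_eq_zero (s := F.filter fun θ => ¬ charDegree (θ.1 : K → ℂ) = 1) fun θ hθ => by
    obtain ⟨hθF, hne⟩ := Finset.mem_filter.1 hθ
    have hd : p ∣ charDegree (θ.1 : K → ℂ) := by
      by_contra hd
      exact hne (hlin θ (hinv θ (Finset.mem_filter.1 hθF).2) hd)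
    show ((charDegree (θ.1 : K → ℂ) : ℕ) : AlgInt ⧸ M) ^ 2 = 0
    rw [(CharP.cast_eq_zero_iff (AlgInt ⧸ M) p _).2 hd, sq, mul_zero], add_zero]
  rw [Finset.sum_congr rfl (g := fun _ => (1 : AlgInt ⧸ M)) fun θ hθ => by
    simp only [f, (Finset.mem_filter.1 hθ).2, Nat.cast_one, one_pow], Finset.sum_const, nsmul_one]
  congr 1
  haveI : Fintype H := Fintype.ofFinite H
  rw [Nat.card_eq_fintype_card, ← Finset.card_univ]
  refine Finset.card_bij (fun φ _ => (⟨linIrr φ.1, φ.2.1⟩ : X)) (fun φ _ => ?_)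
    (fun a _ b _ e => ?_) fun θ hθ => ?_
  · refine Finset.mem_filter.2 ⟨Finset.mem_filter.2 ⟨Finset.mem_univ _, fun t => ?_⟩,
      charDegree_eq_one (by simp [linIrr])⟩
    refine Subtype.ext (Subtype.ext (funext fun n => ?_))
    show (φ.1 (MulAut.conjNormal ((t : G)⁻¹) n) : ℂ) = (φ.1 n : ℂ)
    rw [φ.2.2]
  · refine Subtype.ext (MonoidHom.ext fun n => Units.ext ?_)
    exact congrFun (congrArg (fun x : X => (x.1 : K → ℂ)) e) n
  · obtain ⟨hθF, hd⟩ := Finset.mem_filter.1 hθ
    have h1 : (θ.1 : K → ℂ) 1 = 1 := by rw [hdegK θ.1, hd, Nat.cast_one]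
    obtain ⟨φ, hφ⟩ := exists_hom_of_degree_one (isCharacter_of_irr θ.1.2) h1
    have e : linIrr φ = θ.1 := Subtype.ext hφ.symm
    refine ⟨⟨φ, e ▸ θ.2, fun g n => Units.ext ?_⟩, Finset.mem_univ _, Subtype.ext e⟩
    have := congrFun (hinv θ (Finset.mem_filter.1 hθF).2 g) n
    rw [conjNormFun_eq, hφ] at this
    exact this

end CfsgLib.Blocks.PrincipalLinear
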