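import Cfsg.Agent.Lib.Blocks.PrincipalSums
import Cfsg.Agent.Lib.Blocks.Heights
import Cfsg.Agent.Lib.Blocks.Apply
import Cfsg.Agent.Lib.CharTheory.PowerMap
import Cfsg.Agent.Lib.HSub.Complement
import Cfsg.Agent.Lib.Elementary

/-!
Linear characters of a Sylow subgroup are covered by the principal block with multiplicities of sum
prime to `p`, counted with degrees; consequences for fixed points of Galois automorphisms.
-/

namespace CfsgLib.Blocks.LinearCount

open Cfsg CfsgLib.CharTheory CfsgLib.Blocks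
open scoped ComplexConjugate

set_option autoImplicit false
set_option linter.unusedSectionVars false
set_option linter.style.haveILetI false

universe u

variable {p : ℕ} {M : Ideal AlgInt} {G : Type u} [Group G] [Fintype G]

/-- The weighted multiplicity of a linear character in the principal block is prime to `p`. -/
theorem not_dvd_sum [Fact p.Prime] (hM : IsPModular p M) (P : Sylow p G)
    [Fintype (P : Subgroup G)] (lam : (P : Subgroup G) →* ℂˣ) (m : IrrCharacter G → ℕ)
    (hm : ∀ χ : IrrCharacter G,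
      classInner (fun x : (P : Subgroup G) => (χ : G → ℂ) x) (fun x => (lam x : ℂ)) = (m χ : ℂ)) :
    ¬ p ∣ ∑ χ ∈ bset (principalBlock M G), charDegree (χ : G → ℂ) * m χ := by
  classical
  haveI := res_isDomain hM
  haveI := res_charP hM
  set B := principalBlock M G with hB
  have hBb : IsPBlock M B := principalBlock_isPBlock
  set s := ∑ χ ∈ bset B, charDegree (χ : G → ℂ) * m χ with hs
  -- the coefficient at the identity
  have hcoef : ¬ MemLocalIdeal M (blockCoeff B 1) := by
    haveI : Fintype (⊥ : Subgroup G) := Fintype.ofFinite _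
    have h := PrincipalSums.not_memIdeal_sum hM (⊥ : Subgroup G)
    rwa [Fintype.sum_subsingleton _ (1 : (⊥ : Subgroup G))] at h
  have h1 : (s : ℂ) * (Nat.card (P : Subgroup G) : ℂ) = (Nat.card G : ℂ) * blockCoeff B 1 := by
    rw [blockCoeff, ← mul_assoc, mul_inv_cancel₀ (Nat.cast_ne_zero.2 Nat.card_pos.ne'), one_mul,
      finsum_mem_bset, hs]
    simp only [Nat.cast_sum, Nat.cast_mul, ← hm, classInner]
    have e : ∀ x : (P : Subgroup G), x ≠ 1 →
        ∑ χ ∈ bset B, (χ : G → ℂ) 1 * (χ : G → ℂ) x = 0 := fun x hx => by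
      refine weak_orth hM hBb (by rw [orderOf_one]; exact (Fact.out : p.Prime).not_dvd_one) ?_
      obtain ⟨i, hi⟩ := IsPGroup.iff_orderOf.mp P.2 x
      rw [Subgroup.orderOf_coe, hi]
      refine dvd_pow_self p fun h0 => hx ?_
      rw [h0, pow_zero] at hi
      exact orderOf_eq_one_iff.mp hi
    calc (∑ χ ∈ bset B, (charDegree (χ : G → ℂ) : ℂ) * ((Nat.card (P : Subgroup G) : ℂ)⁻¹ *
          ∑ x : (P : Subgroup G), (χ : G → ℂ) x * conj (lam x : ℂ))) * (Nat.card (P : Subgroup G) : ℂ)
        = ∑ χ ∈ bset B, ∑ x : (P : Subgroup G),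
            (χ : G → ℂ) 1 * (χ : G → ℂ) x * conj (lam x : ℂ) := by
          rw [Finset.sum_mul]
          refine Finset.sum_congr rfl fun χ _ => ?_
          rw [irr_charDegree_cast, mul_assoc ((χ : G → ℂ) 1), mul_comm ((Nat.card (P : Subgroup G) : ℂ)⁻¹),
            mul_assoc, inv_mul_cancel₀ (Nat.cast_ne_zero.2 Nat.card_pos.ne'), mul_one, Finset.mul_sum]
          exact Finset.sum_congr rfl fun x _ => (mul_assoc _ _ _).symm
      _ = ∑ x : (P : Subgroup G),
            (∑ χ ∈ bset B, (χ : G → ℂ) 1 * (χ : G → ℂ) x) * conj (lam x : ℂ) := by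
          rw [Finset.sum_comm]
          simp only [Finset.sum_mul]
      _ = ∑ χ ∈ bset B, (χ : G → ℂ) 1 * (χ : G → ℂ) 1 := by
          rw [Finset.sum_eq_single (1 : (P : Subgroup G)) (fun x _ hx => by rw [e x hx, zero_mul])
            (fun h => absurd (Finset.mem_univ _) h)]
          simp
      _ = ∑ χ ∈ bset B, (χ : G → ℂ) 1 * conj ((χ : G → ℂ) 1) := by
          refine Finset.sum_congr rfl fun χ _ => ?_
          rw [← irr_charDegree_cast, map_natCast]
  have hcard : Nat.card G = Nat.card (P : Subgroup G) * (P : Subgroup G).index :=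
    (Subgroup.card_mul_index _).symm
  have h2 : (s : ℂ) = ((P : Subgroup G).index : ℂ) * blockCoeff B 1 := by
    rw [hcard, Nat.cast_mul, mul_assoc, mul_comm (s : ℂ)] at h1
    exact mul_left_cancel₀ (Nat.cast_ne_zero.2 Nat.card_pos.ne') h1
  intro hd
  have h3 := congrArg (res hM) h2
  rw [res_mul hM (memRing_natCast hM _) (memRing_blockCoeff hM hBb _), res_natCast hM, res_natCast hM,
    (CharP.cast_eq_zero_iff (AlgInt ⧸ M) p s).2 hd] at h3
  rcases mul_eq_zero.1 h3.symm with h | h
  · exact P.not_dvd_index ((CharP.cast_eq_zero_iff (AlgInt ⧸ M) p _).1 h)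
  · exact hcoef ((res_eq_zero_iff hM (memRing_blockCoeff hM hBb _)).1 h)

/-- A character of the Sylow subgroup of order two kills an element as soon as it extends; so if all of
them extend there is a normal `2`-complement. -/
theorem hasNormalPComplement_of_extend (P : Sylow 2 G)
    (h : ∀ lam : (P : Subgroup G) →* ℂˣ, (∀ x, lam x * lam x = 1) →
      ∃ φ : G →* ℂˣ, ∀ x : (P : Subgroup G), φ x = lam x) : HasNormalPComplement 2 G := by
  classical
  haveI : Fact (Nat.Prime 2) := ⟨Nat.prime_two⟩
  refine CfsgLib.HSub.hasNormalPComplement_of_focal_le P ?_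
  rintro x ⟨hxP, hxG⟩
  refine ⟨⟨x, hxP⟩, ?_, rfl⟩
  show (⟨x, hxP⟩ : (P : Subgroup G)) ∈ frattini _
  simp only [frattini, Order.radical, Subgroup.mem_iInf]
  intro Q hQ
  obtain ⟨hn, hidx⟩ := index_coatom_pGroup (p := 2) P.2 hQ
  let lam : (P : Subgroup G) →* ℂˣ :=
    { toFun := fun y => if y ∈ Q then 1 else -1
      map_one' := if_pos Q.one_mem
      map_mul' := fun a b => by
        have := Subgroup.mul_mem_iff_of_index_two hidx (a := a) (b := b)
        by_cases ha : a ∈ Q <;> by_cases hb : b ∈ Q <;> simp [this, ha, hb] }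
  obtain ⟨φ, hφ⟩ := h lam fun y => by
    show (if y ∈ Q then (1 : ℂˣ) else -1) * (if y ∈ Q then (1 : ℂˣ) else -1) = 1
    split_ifs <;> simp
  have h1 : φ x = 1 := by
    have := Abelianization.commutator_subset_ker φ hxG
    exact this
  rw [hφ ⟨x, hxP⟩] at h1
  by_contra hc
  rw [show lam ⟨x, hxP⟩ = -1 from if_neg hc] at h1
  have h2 := congrArg Units.val h1
  rw [Units.val_neg, Units.val_one] at h2
  norm_num at h2

end CfsgLib.Blocks.LinearCount
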