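import Cfsg.Agent.Lib.Blocks.Kulshammer
import Cfsg.Agent.Lib.Blocks.FullDefect

/-!
# Sums of the principal idempotent over normal subgroups
-/

namespace CfsgLib.Blocks.PrincipalSums

open Cfsg CfsgLib.CharTheory CfsgLib.Blocks CfsgLib.Blocks.InducedChar CfsgLib.Blocks.FullDefect
open scoped ComplexConjugate

set_option linter.unusedVariables false
set_option linter.style.haveILetI false
set_option linter.unusedSectionVars false

universe u

variable {p : ℕ} {M : Ideal AlgInt} {G : Type u} [Group G] [Fintype G]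

/-- The coefficients of the principal idempotent on a normal subgroup have unit sum. -/
theorem not_memIdeal_sum (hM : IsPModular p M) (N : Subgroup G) [N.Normal] [Fintype N] :
    ¬ MemLocalIdeal M (∑ n : N, blockCoeff (principalBlock M G) (n : G)) := by
  classical
  haveI : Fact p.Prime := ⟨hM.1⟩
  haveI := res_isDomain hM
  haveI := res_charP hM
  set B := principalBlock M G with hB
  have hBb : IsPBlock M B := principalBlock_isPBlock
  set R := Nat.card {y : G // ¬ p ∣ orderOf y} with hR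
  let Q : G × G → Prop := fun xy => (∃ k : ℕ, orderOf xy.1 = p ^ k) ∧ ¬ p ∣ orderOf xy.2 ∧
    ¬ p ∣ orderOf (xy.1 * xy.2) ∧ xy.1 * xy.2 ∈ N
  set cnt : G → ℕ := fun g => Nat.card {xy : G × G // (∃ k : ℕ, orderOf xy.1 = p ^ k) ∧
    ¬ p ∣ orderOf xy.2 ∧ xy.1 * xy.2 = g} with hcnt
  -- the total number of pairs is prime to `p`
  have hA : ¬ p ∣ Nat.card {xy : G × G // Q xy} := by
    obtain ⟨P⟩ : Nonempty (Sylow p G) := inferInstance
    have hQc : ∀ (u : G) (xy : G × G), Q xy → Q (u * xy.1 * u⁻¹, u * xy.2 * u⁻¹) := by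
      rintro u xy ⟨h1, h2, h3, h4⟩
      refine ⟨by simpa only [conj_orderOf] using h1, by simpa only [conj_orderOf] using h2, ?_, ?_⟩
      · rw [show u * xy.1 * u⁻¹ * (u * xy.2 * u⁻¹) = u * (xy.1 * xy.2) * u⁻¹ by group, conj_orderOf]
        exact h3
      · rw [show u * xy.1 * u⁻¹ * (u * xy.2 * u⁻¹) = u * (xy.1 * xy.2) * u⁻¹ by group]
        exact (‹N.Normal›).conj_mem _ h4 u
    letI : MulAction (P : Subgroup G) {xy : G × G // Q xy} :=
      { smul := fun u xy => ⟨_, hQc (u : G) xy.1 xy.2⟩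
        one_smul := fun xy => Subtype.ext (by
          show ((((1 : (P : Subgroup G)) : G)) * xy.1.1 * _, (((1 : (P : Subgroup G)) : G)) * xy.1.2 * _) = xy.1
          simp)
        mul_smul := fun u v xy => Subtype.ext (Prod.ext
          (show ((u * v : (P : Subgroup G)) : G) * xy.1.1 * ((u * v : (P : Subgroup G)) : G)⁻¹ =
              (u : G) * ((v : G) * xy.1.1 * (v : G)⁻¹) * (u : G)⁻¹ by
            rw [Subgroup.coe_mul]; group)
          (show ((u * v : (P : Subgroup G)) : G) * xy.1.2 * ((u * v : (P : Subgroup G)) : G)⁻¹ =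
              (u : G) * ((v : G) * xy.1.2 * (v : G)⁻¹) * (u : G)⁻¹ by
            rw [Subgroup.coe_mul]; group)) }
    have hmod := P.2.card_modEq_card_fixedPoints {xy : G × G // Q xy}
    set C := Subgroup.centralizer ((P : Subgroup G) : Set G) with hC
    haveI : Fintype C := Fintype.ofFinite _
    obtain ⟨S⟩ : Nonempty (Sylow p C) := inferInstance
    have hPelem : ∀ x ∈ C, (∃ k : ℕ, orderOf x = p ^ k) → x ∈ (P : Subgroup G) := by
      intro x hx ⟨k, hk⟩
      have hzp : IsPGroup p (Subgroup.zpowers x) :=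
        IsPGroup.of_card (n := k) (by rw [Nat.card_zpowers, hk])
      have hle : Subgroup.zpowers x ≤ Subgroup.normalizer ((P : Subgroup G) : Set G) :=
        (Subgroup.zpowers_le.2 hx).trans (Subgroup.centralizer_le_normalizer _)
      have hsup : IsPGroup p (((P : Subgroup G) ⊔ Subgroup.zpowers x : Subgroup G)) :=
        P.2.to_sup_of_normal_left' hzp hle
      exact (P.3 hsup le_sup_left).le ((le_sup_right : _ ≤ (P : Subgroup G) ⊔ Subgroup.zpowers x)
        (Subgroup.mem_zpowers x))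
    have hScen : ∀ s ∈ (S : Subgroup C), ∀ c : C, c * s = s * c := by
      intro s hs c
      obtain ⟨k, hk⟩ := IsPGroup.iff_orderOf.1 S.2 ⟨s, hs⟩
      have hsP := hPelem s s.2 ⟨k, ((Subgroup.orderOf_coe s).trans
        (Subgroup.orderOf_coe ⟨s, hs⟩)).trans hk⟩
      exact Subtype.ext (c.2 (s : G) hsP).symm
    haveI : (S : Subgroup C).Normal := ⟨fun s hs c => by
      rw [hScen s hs c, mul_inv_cancel_right]; exact hs⟩
    set K : Subgroup C := pPrimeCore p C ⊓ N.subgroupOf C with hK
    have hKreg : ∀ c : C, c ∈ K ↔ ¬ p ∣ orderOf (c : G) ∧ (c : G) ∈ N := by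
      intro c
      rw [hK, Subgroup.mem_inf, Subgroup.mem_subgroupOf, ← regular_centralizing_iff S c,
        Subgroup.orderOf_coe]
      exact ⟨fun h => ⟨h.1.1, h.2⟩, fun h => ⟨⟨h.1, fun s hs => (hScen s hs c).symm⟩, h.2⟩⟩
    have hfix : Nat.card (MulAction.fixedPoints (P : Subgroup G) {xy : G × G // Q xy}) =
        Nat.card K := by
      have hmem : ∀ xy : {xy : G × G // Q xy}, xy ∈ MulAction.fixedPoints (P : Subgroup G) _ →
          xy.1.1 = 1 ∧ xy.1.2 ∈ C := by
        intro xy hxy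
        have h1 : xy.1.1 ∈ C := fun u hu => by
          have := congrArg (fun t : {xy : G × G // Q xy} => t.1.1) (hxy ⟨u, hu⟩)
          exact mul_inv_eq_iff_eq_mul.1 this
        have h2 : xy.1.2 ∈ C := fun u hu => by
          have := congrArg (fun t : {xy : G × G // Q xy} => t.1.2) (hxy ⟨u, hu⟩)
          exact mul_inv_eq_iff_eq_mul.1 this
        have hxP := hPelem _ h1 xy.2.1
        have hcm : Commute xy.1.1 xy.1.2 := (h2 _ hxP)
        obtain ⟨e1, -⟩ := pPart_unique hM.1 hcm (Commute.one_left (xy.1.1 * xy.1.2)) xy.2.1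
          ⟨0, by simp⟩ xy.2.2.1 xy.2.2.2.1 (by rw [one_mul])
        exact ⟨e1, h2⟩
      refine Nat.card_congr
        { toFun := fun xy => ⟨⟨xy.1.1.2, (hmem xy.1 xy.2).2⟩, (hKreg _).2 ⟨xy.1.2.2.1, by
            have h4 := xy.1.2.2.2.2
            rwa [(hmem xy.1 xy.2).1, one_mul] at h4⟩⟩
          invFun := fun c => ⟨⟨(1, ((c : C) : G)), ⟨0, by simp⟩, ((hKreg _).1 c.2).1,
            by rw [one_mul]; exact ((hKreg _).1 c.2).1, by rw [one_mul]; exact ((hKreg _).1 c.2).2⟩,
            fun u => Subtype.ext (Prod.ext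
              (show (u : G) * 1 * (u : G)⁻¹ = 1 by group)
              (show (u : G) * ((c : C) : G) * (u : G)⁻¹ = ((c : C) : G) by
                rw [(c : C).2 (u : G) u.2, mul_inv_cancel_right]))⟩
          left_inv := fun xy => Subtype.ext (Subtype.ext (Prod.ext (hmem xy.1 xy.2).1.symm rfl))
          right_inv := fun c => rfl }
    intro hd
    rw [hfix] at hmod
    exact not_dvd_card_pPrimeCore (G := C) hM.1 ((Nat.modEq_zero_iff_dvd.1
      (hmod.symm.trans (Nat.modEq_zero_iff_dvd.2 hd))).trans (Subgroup.card_dvd_of_le inf_le_left))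
  -- the coefficients
  set T := (Finset.univ : Finset N).filter (fun n : N => ¬ p ∣ orderOf (n : G)) with hT
  have hsum : ∑ n : N, blockCoeff B (n : G) = ∑ n ∈ T, blockCoeff B (n : G) := by
    refine (Finset.sum_subset (Finset.subset_univ _) fun n _ hn => ?_).symm
    exact blockCoeff_of_dvd_orderOf hM hBb (by_contra fun h =>
      hn (Finset.mem_filter.2 ⟨Finset.mem_univ _, h⟩))
  have hcard : ∑ n ∈ T, cnt (n : G) = Nat.card {xy : G × G // Q xy} := by
    rw [Nat.card_eq_fintype_card, Fintype.card_subtype,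
      Finset.card_eq_sum_card_fiberwise (f := fun xy : G × G => xy.1 * xy.2)
        (t := T.map ⟨Subtype.val, Subtype.val_injective⟩) (fun xy hxy => ?_), Finset.sum_map]
    · refine Finset.sum_congr rfl fun n hn => ?_
      simp only [hcnt, Function.Embedding.coeFn_mk]
      rw [Nat.card_eq_fintype_card, Fintype.card_subtype, Finset.filter_filter]
      refine congrArg Finset.card (Finset.filter_congr fun xy _ => ?_)
      constructor
      · rintro ⟨h1, h2, h3⟩
        exact ⟨⟨h1, h2, by rw [h3]; exact (Finset.mem_filter.1 hn).2, by rw [h3]; exact n.2⟩, h3⟩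
      · rintro ⟨⟨h1, h2, -⟩, h3⟩
        exact ⟨h1, h2, h3⟩
    · obtain ⟨-, h1, h2, h3, h4⟩ := Finset.mem_filter.1 hxy
      exact Finset.mem_map.2 ⟨⟨_, h4⟩, Finset.mem_filter.2 ⟨Finset.mem_univ _, h3⟩, rfl⟩
  intro hI
  apply hA
  rw [← CharP.cast_eq_zero_iff (AlgInt ⧸ M) p, ← hcard, Nat.cast_sum]
  have h1 : res hM (∑ n : N, blockCoeff B (n : G)) = 0 :=
    (res_eq_zero_iff hM (memRing_sum hM fun n _ => memRing_blockCoeff hM hBb _)).2 hI
  rw [hsum, res_sum hM fun n _ => memRing_blockCoeff hM hBb _] at h1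
  have hterm : ∀ n ∈ T, res hM (blockCoeff B (n : G)) * (R : AlgInt ⧸ M) =
      (cnt (n : G) : AlgInt ⧸ M) := by
    intro n hn
    obtain ⟨x, hx⟩ : ∃ x : ℂ, x = (cnt (n : G) : ℂ) / (R : ℂ) := ⟨_, rfl⟩
    have hk : MemLocalIdeal M (blockCoeff B (n : G) - x) := by
      rw [hx]; exact kulshammer hM (Finset.mem_filter.1 hn).2
    have hxm : MemLocalRing M x := by
      have := (loc hM).sub_mem (memRing_blockCoeff hM hBb (n : G)) (show MemLocalRing M _ from let ⟨a, b, _, hb, h⟩ := hk; ⟨a, b, hb, h⟩)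
      show x ∈ loc hM
      simpa using this
    have hR0 : R ≠ 0 := by
      rw [hR]
      haveI : Nonempty {y : G // ¬ p ∣ orderOf y} := ⟨⟨1, by rw [orderOf_one]; exact hM.1.not_dvd_one⟩⟩
      exact Nat.card_pos.ne'
    rw [(memIdeal_sub_iff hM (memRing_blockCoeff hM hBb _) hxm).1 hk, ← res_natCast hM R,
      ← res_mul hM hxm (memRing_natCast hM R), hx, div_mul_cancel₀ _ (Nat.cast_ne_zero.2 hR0),
      res_natCast]
  rw [← Finset.sum_congr rfl hterm, ← Finset.sum_mul, h1, zero_mul]

end CfsgLib.Blocks.PrincipalSums
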