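import Cfsg.Agent.Lib.Blocks.AbelianFreeLift
import Cfsg.Agent.Lib.Blocks.Proj
import Cfsg.Agent.Lib.Blocks.SectionBound
import Cfsg.Agent.Lib.PComplement
import Cfsg.Agent.Lib.CharTheory.Linear
import Cfsg.Agent.Lib.ZStar.BrauerSuzuki

/-!
# Quaternion Sylow subgroups of order eight: fusion and the principal block
-/

namespace CfsgLib.Blocks.QuaternionEight

open Cfsg CfsgLib.CharTheory CfsgLib.Blocks CfsgLib.Blocks.AbelianFree
open scoped ComplexConjugate

set_option linter.unusedVariables false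
set_option linter.style.haveILetI false
set_option linter.unusedSectionVars false
set_option synthInstance.maxSize 2000
set_option maxRecDepth 4000

universe u

/-- Equality in the quaternion group of order eight is decidable. -/
def q8dec : DecidableEq (QuaternionGroup 2) := fun x y => match x, y with
  | .a i, .a j => decidable_of_iff (i = j) ⟨congrArg _, QuaternionGroup.a.inj⟩
  | .xa i, .xa j => decidable_of_iff (i = j) ⟨congrArg _, QuaternionGroup.xa.inj⟩
  | .a _, .xa _ => isFalse (fun h => by cases h)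
  | .xa _, .a _ => isFalse (fun h => by cases h)

attribute [local instance] q8dec

theorem q8_cases : ∀ a b c : QuaternionGroup 2, a * a ≠ 1 → b * b ≠ 1 → c * c ≠ 1 → b ≠ a →
    b ≠ a⁻¹ → c = a ∨ c = a⁻¹ ∨ c = b ∨ c = b⁻¹ ∨ c = a * b ∨ c = (a * b)⁻¹ := by decide

theorem q8_inv : ∀ a : QuaternionGroup 2, a * a = 1 → a = 1 ∨ a = QuaternionGroup.a 2 := by decide

theorem q8_sq : ∀ a : QuaternionGroup 2, a * a ≠ 1 → a * a = QuaternionGroup.a 2 := by decide

theorem q8_conj : ∀ a : QuaternionGroup 2, a * a ≠ 1 → ∃ r, r * a * r⁻¹ = a⁻¹ := by decide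

theorem q8_cent : ∀ a c : QuaternionGroup 2, a * a ≠ 1 → a * c = c * a →
    c = 1 ∨ c = a ∨ c = a * a ∨ c = a⁻¹ := by decide

theorem q8_exists : ∃ a : QuaternionGroup 2, a * a ≠ 1 := by decide

theorem q8_central : QuaternionGroup.a (2 : ZMod (2 * 2)) * QuaternionGroup.a 2 = (1 : QuaternionGroup 2) ∧
    QuaternionGroup.a (2 : ZMod (2 * 2)) ≠ (1 : QuaternionGroup 2) := by decide

variable {G : Type u} [Group G] [Finite G] {S : Sylow 2 G}

/-- The setting: a quaternion Sylow subgroup of order eight. -/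
abbrev Iso (S : Sylow 2 G) := ↥(S : Subgroup G) ≃* QuaternionGroup 2

theorem sq_ne (e : Iso S) {x : (S : Subgroup G)} (hx : (x : G) * x ≠ 1) : e x * e x ≠ 1 := by
  intro h
  rw [← map_mul, map_eq_one_iff e e.injective] at h
  exact hx (congrArg Subtype.val h)

/-- An element of odd order whose square fixes `x` fixes it. -/
theorem fix_of_sq {g x : G} (hg : Odd (orderOf g)) (h2 : g * g * x * (g * g)⁻¹ = x) :
    g * x * g⁻¹ = x := by
  have hc : Commute (g * g) x := mul_inv_eq_iff_eq_mul.1 h2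
  obtain ⟨k, hk⟩ := hg
  have h1 : (g * g) ^ (k + 1) = g := by
    rw [← pow_two, ← pow_mul, show 2 * (k + 1) = orderOf g + 1 by omega, pow_succ,
      pow_orderOf_eq_one, one_mul]
  have := hc.pow_left (k + 1)
  rw [h1] at this
  rw [this.eq, mul_inv_cancel_right]

theorem fix_of_pm {g x : G} (hg : Odd (orderOf g)) (h : g * x * g⁻¹ = x ∨ g * x * g⁻¹ = x⁻¹) :
    g * x * g⁻¹ = x := by
  refine fix_of_sq hg ?_
  rw [show g * g * x * (g * g)⁻¹ = g * (g * x * g⁻¹) * g⁻¹ by group]
  rcases h with h | h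
  · rw [h, h]
  · rw [h, ← conj_inv, h, inv_inv]

/-- With no normal complement the normaliser permutes the cyclic subgroups of order four
transitively. -/
theorem normalizer_transitive (e : Iso S) (hnc : ¬ HasNormalPComplement 2 G) :
    ∀ x y : G, x ∈ (S : Subgroup G) → y ∈ (S : Subgroup G) → x * x ≠ 1 → y * y ≠ 1 →
      ∃ n ∈ Subgroup.normalizer ((S : Subgroup G) : Set G),
        n * x * n⁻¹ = y ∨ n * x * n⁻¹ = y⁻¹ := by
  classical
  haveI : Fact (Nat.Prime 2) := ⟨Nat.prime_two⟩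
  have cases3 : ∀ a b c : G, a ∈ (S : Subgroup G) → b ∈ (S : Subgroup G) → c ∈ (S : Subgroup G) →
      a * a ≠ 1 → b * b ≠ 1 → c * c ≠ 1 → b ≠ a → b ≠ a⁻¹ →
      c = a ∨ c = a⁻¹ ∨ c = b ∨ c = b⁻¹ ∨ c = a * b ∨ c = (a * b)⁻¹ := by
    intro a b c ha hb hc h1 h2 h3 h4 h5
    have key := q8_cases (e ⟨a, ha⟩) (e ⟨b, hb⟩) (e ⟨c, hc⟩) (sq_ne e h1) (sq_ne e h2) (sq_ne e h3)
      (fun q => h4 (congrArg Subtype.val (e.injective q)))
      (fun q => h5 (congrArg Subtype.val (e.injective (q.trans (map_inv e _).symm))))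
    simp only [← map_inv e, ← map_mul e, e.injective.eq_iff, Subtype.ext_iff] at key
    simpa using key
  have hsmall : ∀ a : G, a ∈ (S : Subgroup G) → a * a = 1 →
      a = 1 ∨ a = (e.symm (QuaternionGroup.a 2) : (S : Subgroup G)) := by
    intro a ha h
    rcases q8_inv (e ⟨a, ha⟩)
      (by rw [← map_mul, map_eq_one_iff e e.injective]; exact Subtype.ext h) with h1 | h1
    · exact Or.inl (congrArg Subtype.val ((map_eq_one_iff e e.injective).1 h1))
    · exact Or.inr (congrArg Subtype.val ((e.symm_apply_apply _).symm.trans (congrArg e.symm h1)))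
  have hsqconj : ∀ g a : G, a * a ≠ 1 → g * a * g⁻¹ * (g * a * g⁻¹) ≠ 1 := fun g a h q =>
    h (conj_eq_one_iff.1 (conj_mul.symm.trans q))
  -- elements with square one are fixed by everything normalising a subgroup containing them
  have hfix1 : ∀ g a : G, a ∈ (S : Subgroup G) → g * a * g⁻¹ ∈ (S : Subgroup G) → a * a = 1 →
      g * a * g⁻¹ = a := by
    intro g a ha hga h
    rcases hsmall a ha h with h1 | h1
    · simp [h1]
    rcases hsmall (g * a * g⁻¹) hga (by rw [conj_mul, h]; simp) with h2 | h2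
    · rw [h2, conj_eq_one_iff.1 h2]
    · rw [h2, h1]
  obtain ⟨g, hgN, hgodd, a₀, ha₀, hmove⟩ : ∃ g ∈ Subgroup.normalizer ((S : Subgroup G) : Set G),
      Odd (orderOf g) ∧ ∃ a ∈ (S : Subgroup G), g * a * g⁻¹ ≠ a := by
    by_contra hno
    push Not at hno
    refine hnc (hasNormalPComplement_of_frobeniusCond (frobeniusCond_of_sylow S ?_))
    intro Q hQS g hg hgc
    have hodd : Odd (orderOf g) := Nat.coprime_two_right.1 hgc
    by_contra hgQ
    obtain ⟨a, haQ, hane⟩ : ∃ a ∈ Q, g * a * g⁻¹ ≠ a := by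
      by_contra hall
      push Not at hall
      exact hgQ (Subgroup.mem_centralizer_iff.2 fun x hx =>
        (mul_inv_eq_iff_eq_mul.1 (hall x hx)).symm)
    have hgaQ : g * a * g⁻¹ ∈ Q := (Subgroup.mem_normalizer_iff.1 hg a).1 haQ
    have ha2 : a * a ≠ 1 := fun h => hane (hfix1 g a (hQS haQ) (hQS hgaQ) h)
    have hb := hsqconj g a ha2
    have hne1 : g * a * g⁻¹ ≠ a⁻¹ := fun h => hane (fix_of_pm hodd (Or.inr h))
    have hQtop : (S : Subgroup G) ≤ Q := by
      intro c hc
      by_cases hc2 : c * c = 1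
      · rcases hsmall c hc hc2 with h | h
        · rw [h]; exact Q.one_mem
        · have e1 : a * a = (e.symm (QuaternionGroup.a 2) : (S : Subgroup G)) := by
            have := q8_sq (e ⟨a, hQS haQ⟩) (sq_ne e ha2)
            rw [← map_mul] at this
            exact congrArg Subtype.val ((e.symm_apply_apply _).symm.trans (congrArg e.symm this))
          rw [h, ← e1]
          exact Q.mul_mem haQ haQ
      · rcases cases3 a _ c (hQS haQ) (hQS hgaQ) hc ha2 hb hc2 hane hne1 with
          h | h | h | h | h | h <;> rw [h]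
        · exact haQ
        · exact Q.inv_mem haQ
        · exact hgaQ
        · exact Q.inv_mem hgaQ
        · exact Q.mul_mem haQ hgaQ
        · exact Q.inv_mem (Q.mul_mem haQ hgaQ)
    obtain rfl : Q = (S : Subgroup G) := le_antisymm hQS hQtop
    exact hane (hno g hg hodd a haQ)
  have hconjS : ∀ a ∈ (S : Subgroup G), g * a * g⁻¹ ∈ (S : Subgroup G) := fun a ha =>
    (Subgroup.mem_normalizer_iff.1 hgN a).1 ha
  -- no element of order four is fixed
  have hfree : ∀ a ∈ (S : Subgroup G), a * a ≠ 1 → g * a * g⁻¹ ≠ a ∧ g * a * g⁻¹ ≠ a⁻¹ := by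
    intro a ha ha2
    suffices h : g * a * g⁻¹ ≠ a from ⟨h, fun q => h (fix_of_pm hgodd (Or.inr q))⟩
    intro hfix
    refine hmove ?_
    by_cases h02 : a₀ * a₀ = 1
    · exact hfix1 g a₀ ha₀ (hconjS _ ha₀) h02
    by_cases h0a : a₀ = a
    · rw [h0a, hfix]
    by_cases h0a' : a₀ = a⁻¹
    · rw [h0a', ← conj_inv, hfix]
    refine fix_of_pm hgodd ?_
    set b := g * a₀ * g⁻¹
    have hb := hsqconj g a₀ h02
    have hba : b ≠ a := fun q => h0a (conj_injective (q.trans hfix.symm))
    have hba' : b ≠ a⁻¹ := fun q => h0a' (conj_injective (q.trans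
      ((congrArg Inv.inv hfix).symm.trans conj_inv)))
    by_contra hcon
    push Not at hcon
    have hbb : g * b * g⁻¹ * (g * b * g⁻¹) ≠ 1 := hsqconj g b hb
    have hnot : ∀ q : G, g * b * g⁻¹ = q → q ≠ a ∧ q ≠ a⁻¹ ∧ q ≠ b ∧ q ≠ b⁻¹ := by
      rintro q rfl
      refine ⟨fun q => hba (conj_injective (q.trans hfix.symm)), fun q => hba' (conj_injective
        (q.trans ((congrArg Inv.inv hfix).symm.trans conj_inv))), fun q => hcon.1 ?_, fun q => ?_⟩
      · exact conj_injective q
      · refine hcon.2 (conj_injective (?_ : g * b * g⁻¹ = g * a₀⁻¹ * g⁻¹))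
        rw [q, ← conj_inv]
    obtain ⟨n1, n2, n3, n4⟩ := hnot _ rfl
    have h2b : (g * g) * a₀ * (g * g)⁻¹ = g * b * g⁻¹ := by simp only [b]; group
    have hmem : g * b * g⁻¹ ∈ (S : Subgroup G) := hconjS _ (hconjS _ ha₀)
    -- both `a₀` and its second image avoid the classes of `a` and `b`
    have e1 : g * b * g⁻¹ = a * b ∨ g * b * g⁻¹ = (a * b)⁻¹ := by
      rcases cases3 a b _ ha (hconjS _ ha₀) hmem ha2 hb hbb hba hba' with
        h | h | h | h | h | h
      exacts [absurd h n1, absurd h n2, absurd h n3, absurd h n4, Or.inl h, Or.inr h]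
    have e2 : a₀ = a * b ∨ a₀ = (a * b)⁻¹ := by
      rcases cases3 a b a₀ ha (hconjS _ ha₀) ha₀ ha2 hb h02 hba hba' with h | h | h | h | h | h
      · exact absurd h h0a
      · exact absurd h h0a'
      · exact absurd h.symm hcon.1
      · exact absurd (by rw [h, inv_inv]) hcon.2
      · exact Or.inl h
      · exact Or.inr h
    have hpm : g * g * a₀ * (g * g)⁻¹ = a₀ ∨ g * g * a₀ * (g * g)⁻¹ = a₀⁻¹ := by
      rw [h2b]
      rcases e1 with q | q <;> rcases e2 with q' | q' <;> rw [q, q'] <;> simp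
    have hgg : Odd (orderOf (g * g)) := by
      refine hgodd.of_dvd_nat (orderOf_dvd_of_pow_eq_one ?_)
      rw [← pow_two, ← pow_mul, mul_comm, pow_mul, pow_orderOf_eq_one, one_pow]
    exact hcon.1 (fix_of_sq hgodd (fix_of_pm hgg hpm))
  intro x y hx hy hx2 hy2
  set b := g * x * g⁻¹
  obtain ⟨hb1, hb2⟩ := hfree x hx hx2
  have hbS := hconjS x hx
  have hbsq := hsqconj g x hx2
  obtain ⟨hc1, hc2⟩ := hfree b hbS hbsq
  have hcsq := hsqconj g b hbsq
  have hcS := hconjS b hbS
  have hgg : Odd (orderOf (g * g)) := by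
    refine hgodd.of_dvd_nat (orderOf_dvd_of_pow_eq_one ?_)
    rw [← pow_two, ← pow_mul, mul_comm, pow_mul, pow_orderOf_eq_one, one_pow]
  have hcx : g * b * g⁻¹ ≠ x ∧ g * b * g⁻¹ ≠ x⁻¹ := by
    have e3 : g * b * g⁻¹ = g * g * x * (g * g)⁻¹ := by simp only [b]; group
    constructor <;> intro q <;> rw [e3] at q
    · exact hb1 (fix_of_sq hgodd q)
    · exact hb1 (fix_of_sq hgodd (fix_of_pm hgg (Or.inr q)))
  have hg2 : g * g * x * (g * g)⁻¹ = g * b * g⁻¹ := by simp only [b]; group
  have e1 : g * b * g⁻¹ = x * b ∨ g * b * g⁻¹ = (x * b)⁻¹ := by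
    rcases cases3 x b _ hx hbS hcS hx2 hbsq hcsq hb1 hb2 with h | h | h | h | h | h
    exacts [absurd h hcx.1, absurd h hcx.2, absurd h hc1, absurd h hc2, Or.inl h, Or.inr h]
  rcases cases3 x b y hx hbS hy hx2 hbsq hy2 hb1 hb2 with h | h | h | h | h | h
  · exact ⟨1, Subgroup.one_mem _, Or.inl (by simp [h])⟩
  · exact ⟨1, Subgroup.one_mem _, Or.inr (by simp [h])⟩
  · exact ⟨g, hgN, Or.inl h.symm⟩
  · exact ⟨g, hgN, Or.inr (by rw [h, inv_inv])⟩
  all_goals
    refine ⟨g * g, Subgroup.mul_mem _ hgN hgN, ?_⟩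
    rw [hg2, h]
    rcases e1 with q | q <;> rw [q] <;> simp

/-- A character value at an element whose square is in the kernel is an integer. -/
theorem value_int {χ : G → ℂ} (hχ : IsCharacter G χ) {t : G} (ht : χ (t * t) = χ 1) :
    ∃ z : ℤ, χ t = (z : ℂ) := by
  obtain ⟨n, ρ, rfl⟩ := hχ
  set E : (Fin n → ℂ) →ₗ[ℂ] (Fin n → ℂ) := (2 : ℂ)⁻¹ • (1 + ρ t) with he
  have hidem : IsIdempotentElem E := by
    have h1 : ρ t * ρ t = 1 := by rw [← map_mul]; exact rep_apply_eq_one_of_char_eq ρ ht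
    show E * E = E
    rw [he, smul_mul_smul_comm, show (1 + ρ t) * (1 + ρ t) = (2 : ℂ) • (1 + ρ t) by
      rw [mul_add, add_mul, add_mul, h1, one_mul, one_mul, mul_one, two_smul]; abel, smul_smul]
    norm_num
  have h1 := (LinearMap.IsIdempotentElem.isProj_range E hidem).trace
  rw [he, map_smul, map_add, LinearMap.trace_one, Module.finrank_fin_fun, smul_eq_mul] at h1
  refine ⟨2 * (Module.finrank ℂ (LinearMap.range E) : ℤ) - n, ?_⟩
  show LinearMap.trace ℂ _ (ρ t) = _
  rw [he]
  push_cast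
  linear_combination 2 * h1

/-- The principal block has seven characters. -/
theorem card_principal_eq_seven [Fintype G] {M : Ideal AlgInt} (hM : IsPModular 2 M) (e : Iso S)
    (hO : ∀ N : Subgroup G, N.Normal → Odd (Nat.card N) → N = ⊥)
    (hG : (S : Subgroup G) ≠ ⊤) : Nat.card (principalBlock M G) = 7 := by
  classical
  haveI : Fact (Nat.Prime 2) := ⟨Nat.prime_two⟩
  have hnc : ¬ HasNormalPComplement 2 G := by
    rintro ⟨Q, K, hK, hc⟩
    haveI := hK
    have hKbot : K = ⊥ := hO K hK (by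
      rw [Nat.odd_iff, ← Nat.two_dvd_ne_zero, ← hc.index_eq_card]
      exact Q.not_dvd_index)
    rw [hKbot] at hc
    have hQ : (Q : Subgroup G) = ⊤ := Subgroup.isComplement'_bot_left.1 hc
    refine hG ?_
    rw [← Subgroup.card_eq_iff_eq_top, Sylow.card_eq_multiplicity S,
      ← Sylow.card_eq_multiplicity Q, hQ, Subgroup.card_top]
  have hcard8 : Nat.card S = 8 := by
    rw [Nat.card_congr e.toEquiv, Nat.card_eq_fintype_card, QuaternionGroup.card]
  -- the central involution
  set zS : (S : Subgroup G) := e.symm (QuaternionGroup.a 2) with hzS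
  set z : G := (zS : G) with hz
  have hz2 : z * z = 1 := by
    have h1 : zS * zS = 1 := by rw [hzS, ← map_mul, q8_central.1, map_one]
    exact congrArg Subtype.val h1
  have hz1 : z ≠ 1 := fun q => q8_central.2 (by
    have h1 : zS = 1 := Subtype.ext q
    rw [hzS, map_eq_one_iff e.symm e.symm.injective] at h1
    exact h1)
  have hsmall : ∀ a : G, a ∈ (S : Subgroup G) → a * a = 1 → a = 1 ∨ a = z := by
    intro a ha h
    rcases q8_inv (e ⟨a, ha⟩)
      (by rw [← map_mul, map_eq_one_iff e e.injective]; exact Subtype.ext h) with h1 | h1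
    · exact Or.inl (congrArg Subtype.val ((map_eq_one_iff e e.injective).1 h1))
    · exact Or.inr (congrArg Subtype.val ((e.symm_apply_apply _).symm.trans (congrArg e.symm h1)))
  have hzc : z ∈ Subgroup.center G := by
    have h2 : Nat.card (Subgroup.center G) = 2 :=
      CfsgLib.ZStar.card_center_of_quaternion S (le_refl 2) e hO
    have hpg : IsPGroup 2 (Subgroup.center G) := IsPGroup.of_card (n := 1) (by rw [h2, pow_one])
    obtain ⟨Q, hQ⟩ := hpg.exists_le_sylow
    obtain ⟨x, hx⟩ := MulAction.exists_smul_eq G Q S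
    haveI : Nontrivial (Subgroup.center G) := Finite.one_lt_card_iff_nontrivial.1 (by omega)
    obtain ⟨c, hc⟩ := exists_ne (1 : Subgroup.center G)
    have hcS : (c : G) ∈ (S : Subgroup G) := by
      rw [← hx, Sylow.coe_subgroup_smul]
      exact ⟨c, hQ c.2, by
        show x * (c : G) * x⁻¹ = c
        rw [Subgroup.mem_center_iff.1 c.2 x, mul_inv_cancel_right]⟩
    have hc2 : (c : G) * c = 1 := by
      have h3 := pow_card_eq_one' (G := Subgroup.center G) (x := c)
      rw [h2, pow_two] at h3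
      exact congrArg Subtype.val h3
    rcases hsmall c hcS hc2 with h | h
    · exact absurd (Subtype.ext h) hc
    · exact h ▸ c.2
  have hzcom : ∀ g : G, g * z = z * g := fun g => Subgroup.mem_center_iff.1 hzc g
  -- an element of order four
  obtain ⟨q, hq⟩ := q8_exists
  set iS : (S : Subgroup G) := e.symm q with hiS
  set i : G := (iS : G) with hi
  have hi2 : i * i ≠ 1 := fun h => hq (by
    have h1 : iS * iS = 1 := Subtype.ext h
    rw [hiS, ← map_mul, map_eq_one_iff e.symm e.symm.injective] at h1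
    exact h1)
  have hiz : i * i = z := by
    have h1 : iS * iS = zS := by rw [hiS, hzS, ← map_mul, q8_sq q hq]
    exact congrArg Subtype.val h1
  have hio : orderOf i = 4 := by
    have h1 : orderOf i ∣ 2 ^ 2 := orderOf_dvd_of_pow_eq_one
      (show i ^ (2 ^ 2) = 1 by rw [show (2 : ℕ) ^ 2 = 2 * 2 by norm_num, pow_mul, pow_two i, hiz, pow_two z, hz2])
    obtain ⟨j, hj, hje⟩ := (Nat.dvd_prime_pow Nat.prime_two).1 h1
    interval_cases j
    · exact absurd (by rw [orderOf_eq_one_iff.1 (hje.trans (pow_zero 2)), one_mul]) hi2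
    · exact absurd (by rw [← pow_two, show 2 = orderOf i by rw [hje, pow_one], pow_orderOf_eq_one]) hi2
    · rw [hje]; norm_num
  have hippow : ∃ k : ℕ, orderOf i = 2 ^ k := ⟨2, hio⟩
  have hzppow : ∃ k : ℕ, orderOf z = 2 ^ k :=
    ⟨1, by rw [pow_one]; exact orderOf_eq_prime (by rw [pow_two, hz2]) hz1⟩
  have hiinv : IsConj i i⁻¹ := by
    obtain ⟨r, hr⟩ := q8_conj q hq
    refine isConj_iff.2 ⟨((e.symm r : (S : Subgroup G)) : G), ?_⟩
    have h1 : e.symm r * iS * (e.symm r)⁻¹ = iS⁻¹ := by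
      rw [hiS, ← map_inv, ← map_inv, ← map_mul, ← map_mul, hr]
    exact congrArg Subtype.val h1
  have hclass : ∀ g : G, (∃ k : ℕ, orderOf g = 2 ^ k) → g = 1 ∨ g = z ∨ IsConj i g := by
    intro g hg
    obtain ⟨k, hk⟩ := hg
    obtain ⟨Q, hQ⟩ := (IsPGroup.of_card (n := k) (by rw [Nat.card_zpowers, hk]) :
      IsPGroup 2 (Subgroup.zpowers g)).exists_le_sylow
    obtain ⟨x, hx⟩ := MulAction.exists_smul_eq G Q S
    have hgS : x * g * x⁻¹ ∈ (S : Subgroup G) := by
      rw [← hx, Sylow.coe_subgroup_smul]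
      exact ⟨g, hQ (Subgroup.mem_zpowers g), rfl⟩
    by_cases h2 : x * g * x⁻¹ * (x * g * x⁻¹) = 1
    · rcases hsmall _ hgS h2 with h | h
      · exact Or.inl (conj_eq_one_iff.1 h)
      · refine Or.inr (Or.inl ?_)
        have h3 : x * g * x⁻¹ = x * z * x⁻¹ := by rw [h, hzcom x, mul_inv_cancel_right]
        exact conj_injective h3
    · refine Or.inr (Or.inr ?_)
      obtain ⟨n, -, hn⟩ := normalizer_transitive e hnc i _ iS.2 hgS hi2 h2
      have hgg : IsConj (x * g * x⁻¹) g := (isConj_iff.2 ⟨x, rfl⟩ : IsConj g (x * g * x⁻¹)).symm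
      rcases hn with h | h
      · exact (isConj_iff.2 ⟨n, h⟩).trans hgg
      · refine (hiinv.trans (isConj_iff.2 ⟨n, ?_⟩)).trans hgg
        rw [← conj_inv, h, inv_inv]
  -- the centraliser of the element of order four
  have hcI := isCentr_centralizer i
  set C := Subgroup.centralizer ({i} : Set G) with hC
  set iC : C := ⟨i, (hcI i).2 (Commute.refl i)⟩ with hiC
  obtain ⟨K, hKn, hK, hidx⟩ : ∃ K : Subgroup C, K.Normal ∧ ¬ 2 ∣ Nat.card K ∧ K.index = 4 := by
    obtain ⟨Q, hQ⟩ := (IsPGroup.of_card (n := 2) (by rw [Nat.card_zpowers, ← Subgroup.orderOf_coe]; exact hio) :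
      IsPGroup 2 (Subgroup.zpowers iC)).exists_le_sylow
    obtain ⟨R, hR⟩ := ((Q.2.map C.subtype)).exists_le_sylow
    obtain ⟨x, hx⟩ := MulAction.exists_smul_eq G R S
    have hmemS : ∀ c : C, c ∈ (Q : Subgroup C) → x * (c : G) * x⁻¹ ∈ (S : Subgroup G) := by
      intro c hc
      rw [← hx, Sylow.coe_subgroup_smul]
      exact ⟨(c : G), hR ⟨c, hc, rfl⟩, rfl⟩
    have hQeq : (Q : Subgroup C) = Subgroup.zpowers iC := by
      refine le_antisymm (fun c hc => ?_) hQ
      have hi' := hmemS iC (hQ (Subgroup.mem_zpowers iC))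
      have hc' := hmemS c hc
      have hsq : e ⟨_, hi'⟩ * e ⟨_, hi'⟩ ≠ 1 := sq_ne e (by
        show x * i * x⁻¹ * (x * i * x⁻¹) ≠ 1
        rw [conj_mul]
        exact fun q => hi2 (conj_eq_one_iff.1 q))
      have hcomm : e ⟨_, hi'⟩ * e ⟨_, hc'⟩ = e ⟨_, hc'⟩ * e ⟨_, hi'⟩ := by
        rw [← map_mul, ← map_mul]
        refine congrArg e (Subtype.ext ?_)
        show x * i * x⁻¹ * (x * (c : G) * x⁻¹) = x * (c : G) * x⁻¹ * (x * i * x⁻¹)
        rw [conj_mul, conj_mul, ((hcI c).1 c.2).eq]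
      have key := q8_cent _ _ hsq hcomm
      simp only [← map_inv e, ← map_mul e, map_eq_one_iff e e.injective, e.injective.eq_iff,
        Subtype.ext_iff] at key
      have key' : x * (c : G) * x⁻¹ = 1 ∨ x * (c : G) * x⁻¹ = x * i * x⁻¹ ∨
          x * (c : G) * x⁻¹ = x * (i * i) * x⁻¹ ∨ x * (c : G) * x⁻¹ = x * i⁻¹ * x⁻¹ := by
        rw [← conj_mul, ← conj_inv]
        simp only [Subgroup.coe_one, Subgroup.coe_mul, Subgroup.coe_inv] at key
        exact key
      rcases key' with h | h | h | h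
      · rw [show c = 1 from Subtype.ext (conj_eq_one_iff.1 h)]; exact Subgroup.one_mem _
      · rw [show c = iC from Subtype.ext (conj_injective h)]; exact Subgroup.mem_zpowers _
      · rw [show c = iC * iC from Subtype.ext (conj_injective h)]
        exact Subgroup.mul_mem _ (Subgroup.mem_zpowers _) (Subgroup.mem_zpowers _)
      · rw [show c = iC⁻¹ from Subtype.ext (conj_injective h)]
        exact Subgroup.inv_mem _ (Subgroup.mem_zpowers _)
    have hmin : (Nat.card C).minFac = 2 := (Nat.minFac_eq_two_iff _).2 (by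
      refine dvd_trans ?_ (orderOf_dvd_natCard iC)
      rw [← Subgroup.orderOf_coe]
      show 2 ∣ orderOf i
      rw [hio]; norm_num)
    have hQc : IsCyclic (Q : Subgroup C) := by rw [hQeq]; infer_instance
    refine ⟨(MonoidHom.transferSylow Q (IsCyclic.normalizer_le_centralizer hmin hQc)).ker,
      inferInstance, MonoidHom.not_dvd_card_ker_transferSylow Q _, ?_⟩
    rw [(MonoidHom.ker_transferSylow_isComplement' Q
      (IsCyclic.normalizer_le_centralizer hmin hQc)).symm.index_eq_card, hQeq, Nat.card_zpowers,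
      ← Subgroup.orderOf_coe]
    exact hio
  haveI := hKn
  have hidx' : K.index = 2 ^ 2 := by rw [hidx]; norm_num
  have hcardC : Nat.card C = 4 * (regC 2 i).card := by
    rw [Finset.card_eq_sum_ones, sum_regC Nat.prime_two hK hidx', ← Finset.card_eq_sum_ones,
      Finset.card_univ, ← Nat.card_eq_fintype_card, ← hidx, Subgroup.index_mul_card]
  set B := principalBlock M G with hB
  have hBb : IsPBlock M B := principalBlock_isPBlock
  have hA := principalBlock_of_complement (G := C) hM hK ⟨2, hidx'⟩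
  have hconst : ∀ χ ∈ B, ∀ v ∈ regC 2 i, (χ : G → ℂ) (i * v) = (χ : G → ℂ) i := by
    intro χ hχ v hv
    obtain ⟨hvc, hvr⟩ := mem_regC.1 hv
    have key : ∀ (v' : C), ¬ 2 ∣ orderOf v' → (χ : G → ℂ) (i * (v' : G)) =
        ∑ φ ∈ bset {φ : IrrCharacter C | ∀ n ∈ K, (φ : C → ℂ) n = (φ : C → ℂ) 1},
          classInner (sec i C (χ : G → ℂ)) (φ : C → ℂ) * (φ : C → ℂ) 1 := by
      intro v' hv'
      have h1 := sec_eq_overBlocks hM hcI hippow hBb χ (y := v') hv'
      rw [overBlocks_principal hM hcI hippow, hA, blockPart_apply, ind_of_mem hχ, one_mul] at h1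
      rw [← h1]
      exact Finset.sum_congr rfl fun φ hφ => by
        rw [(mem_bset.1 hφ) v' ((mem_iff_regular Nat.prime_two hK hidx' v').2 hv')]
    have e1 := key ⟨v, (hcI v).2 hvc⟩ (by rw [← Subgroup.orderOf_coe]; exact hvr)
    have e2 := key 1 (by simp)
    rw [Subgroup.coe_one, mul_one] at e2
    exact e1.trans e2.symm
  have hsumsq : ∑ χ ∈ bset B, (χ : G → ℂ) i * conj ((χ : G → ℂ) i) = 4 := by
    set U := principalBlock M C with hU
    have hcl : ∀ ψ ∈ U, blockOf M (ψ : C → ℂ) ⊆ U := fun ψ hψ =>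
      (eq_blockOf hM principalBlock_isPBlock hψ).ge
    have h1 := section_inner hM hcI hippow hcl hcl (y := (1 : C)) (y' := (1 : C)) (by simp) (by simp)
    have h2 : ∀ χ : IrrCharacter G, blockPart U (sec i C (χ : G → ℂ)) (1 : C) =
        ind B χ * (χ : G → ℂ) i := fun χ => by
      rw [hU, ← overBlocks_principal hM hcI hippow,
        sec_eq_overBlocks hM hcI hippow hBb χ (y := (1 : C)) (by simp), Subgroup.coe_one, mul_one]
    rw [Finset.sum_congr rfl fun χ _ => by rw [h2]] at h1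
    have h3 : ∑ χ : IrrCharacter G, ind B χ * (χ : G → ℂ) i * conj (ind B χ * (χ : G → ℂ) i) =
        ∑ χ ∈ bset B, (χ : G → ℂ) i * conj ((χ : G → ℂ) i) := by
      rw [← sum_ind_mul B]
      refine Finset.sum_congr rfl fun χ _ => ?_
      by_cases hχ : χ ∈ B
      · rw [ind_of_mem hχ]; simp
      · rw [ind_of_notMem hχ]; simp
    rw [h3] at h1
    rw [h1, show ∑ ψ : IrrCharacter C, ind U ψ * ind U ψ * ((ψ : C → ℂ) 1 * conj ((ψ : C → ℂ) 1)) =
        ∑ ψ ∈ bset U, (ψ : C → ℂ) 1 * (ψ : C → ℂ) 1 by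
      rw [← sum_ind_mul U]
      refine Finset.sum_congr rfl fun ψ _ => ?_
      by_cases hψ : ψ ∈ U
      · rw [ind_of_mem hψ, irr_one_conj]; ring
      · rw [ind_of_notMem hψ]; simp, hA, sum_sq_kernel K, hidx]
    norm_num
  -- the sign at the centre
  have hsign : ∀ χ : IrrCharacter G, ∃ s : ℤ, (s = 1 ∨ s = -1) ∧
      ∀ g : G, (χ : G → ℂ) (z * g) = (s : ℂ) * (χ : G → ℂ) g := by
    intro χ
    have hω : ((χ : G → ℂ) z / (χ : G → ℂ) 1) ^ 2 = 1 := by
      have h3 := central_value_mul hzc χ z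
      have h1ne := irr_one_ne_zero χ
      rw [hz2] at h3
      field_simp at h3 ⊢
      linear_combination -h3
    rcases sq_eq_one_iff.1 hω with h | h
    · exact ⟨1, Or.inl rfl, fun g => by rw [central_value_mul hzc χ g, h]; push_cast; ring⟩
    · exact ⟨-1, Or.inr rfl, fun g => by rw [central_value_mul hzc χ g, h]; push_cast; ring⟩
  choose s hs hsmul using hsign
  -- integral values at the element of order four
  have hval : ∀ χ : IrrCharacter G, ∃ a : ℤ, (χ : G → ℂ) i = (a : ℂ) ∧ (s χ = -1 → a = 0) := by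
    intro χ
    rcases hs χ with h | h
    · obtain ⟨a, ha⟩ := value_int (isCharacter_of_irr χ.2) (t := i) (by
        have h1 := hsmul χ 1
        rw [mul_one, h, Int.cast_one, one_mul] at h1
        rw [hiz]; exact h1)
      exact ⟨a, ha, fun q => by omega⟩
    · refine ⟨0, ?_, fun _ => rfl⟩
      have h1 := hsmul χ i
      have h2 : z * i = i⁻¹ := by
        refine eq_inv_of_mul_eq_one_left ?_
        rw [mul_assoc, hiz, hz2]
      rw [h2, h, classFun_eq_of_isConj (isClassFunction_irr χ.2) hiinv.symm] at h1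
      push_cast at h1 ⊢
      linear_combination h1 / 2
  choose a ha ha0 using hval
  have hsumsqZ : ∑ χ ∈ bset B, a χ ^ 2 = 4 := by
    have h1 : ((∑ χ ∈ bset B, a χ ^ 2 : ℤ) : ℂ) = ((4 : ℤ) : ℂ) := by
      push_cast
      rw [← hsumsq]
      exact Finset.sum_congr rfl fun χ _ => by rw [ha, map_intCast]; ring
    exact_mod_cast h1
  have hone : oneIrr G ∈ B := mem_blockOf_self hM (oneIrr G)
  have haone : a (oneIrr G) = 1 := by
    have h1 := ha (oneIrr G)
    rw [show ((oneIrr G : IrrCharacter G) : G → ℂ) i = ((1 : ℤ) : ℂ) by rw [Int.cast_one]; rfl] at h1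
    exact (Int.cast_injective h1).symm
  have habs : ∀ χ ∈ B, a χ = 0 ∨ a χ = 1 ∨ a χ = -1 := by
    intro χ hχ
    rcases eq_or_ne χ (oneIrr G) with rfl | hne
    · exact Or.inr (Or.inl haone)
    rw [← Finset.add_sum_erase _ _ (mem_bset.2 hone), haone] at hsumsqZ
    have h1 := Finset.single_le_sum (f := fun χ => a χ ^ 2) (fun χ _ => sq_nonneg _)
      (Finset.mem_erase.2 ⟨hne, mem_bset.2 hχ⟩ : χ ∈ (bset B).erase (oneIrr G))
    have hub : a χ ≤ 1 := by nlinarith
    have hlb : -1 ≤ a χ := by nlinarith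
    omega
  -- the inner products
  have horth : ∀ φ ∈ B, ∀ ψ ∈ B,
      (1 + (s φ : ℂ) * s ψ) * regS 2 (φ : G → ℂ) (ψ : G → ℂ) =
        (Nat.card G : ℂ) * ((if φ = ψ then 1 else 0) - (a φ : ℂ) * a ψ / 4) := by
    intro φ hφ ψ hψ
    set F : G → ℂ := fun g => (φ : G → ℂ) g * conj ((ψ : G → ℂ) g) with hF
    have htot : ∑ g : G, F g = (Nat.card G : ℂ) * if φ = ψ then 1 else 0 := by
      have h1 : classInner (φ : G → ℂ) (ψ : G → ℂ) = if φ = ψ then 1 else 0 := by
        split_ifs with h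
        · rw [h, classInner_irr_self ψ.2]
        · exact classInner_irr_ne φ.2 ψ.2 fun q => h (Subtype.ext q)
      rw [← h1, classInner, mul_inv_cancel_left₀ (Nat.cast_ne_zero.2 Nat.card_pos.ne')]
    have hregS : regS 2 (φ : G → ℂ) (ψ : G → ℂ) =
        ∑ g ∈ Finset.univ.filter (fun g : G => ¬ 2 ∣ orderOf g), F g := by
      rw [regS_eq_sum]
      exact Finset.sum_congr rfl fun g _ => by simp only [hF, irr_conjInv]
    have hz_sec : ∑ v ∈ regC 2 z, F (z * v) = (s φ : ℂ) * s ψ * regS 2 (φ : G → ℂ) (ψ : G → ℂ) := by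
      rw [hregS, Finset.mul_sum]
      refine Finset.sum_congr ?_ fun v _ => by
        simp only [hF, hsmul, map_mul, map_intCast]; ring
      ext v
      simp only [mem_regC, Finset.mem_filter, Finset.mem_univ, true_and, and_iff_right_iff_imp]
      exact fun _ => hzcom v
    have hi_sec : ∀ y, IsConj i y →
        ∑ v ∈ regC 2 y, F (y * v) = ((regC 2 i).card : ℂ) * ((a φ : ℂ) * a ψ) := by
      intro y hy
      obtain ⟨x, rfl⟩ := isConj_iff.1 hy
      rw [sum_regC_conj, Finset.sum_congr rfl fun v hv => show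
        F (x * i * x⁻¹ * (x * v * x⁻¹)) = (a φ : ℂ) * a ψ by
          simp only [hF, conj_mul]
          rw [isClassFunction_irr φ.2, isClassFunction_irr ψ.2, hconst φ hφ v hv, hconst ψ hψ v hv,
            ha, ha, map_intCast], Finset.sum_const, nsmul_eq_mul]
    have hpE : pE G 2 = insert z (Finset.univ.filter fun y => IsConj i y) := by
      ext y
      simp only [mem_pE, Finset.mem_insert, Finset.mem_filter, Finset.mem_univ, true_and]
      refine ⟨fun ⟨h1, h2⟩ => (hclass y h2).resolve_left h1, ?_⟩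
      rintro (rfl | h)
      · exact ⟨hz1, hzppow⟩
      · obtain ⟨x, rfl⟩ := isConj_iff.1 h
        refine ⟨fun q => hi2 ?_, 2, by rw [conj_orderOf]; exact hio⟩
        rw [conj_eq_one_iff.1 q, one_mul]
    have hznot : z ∉ Finset.univ.filter fun y => IsConj i y := fun h => by
      obtain ⟨x, hx⟩ := isConj_iff.1 (Finset.mem_filter.1 h).2
      have h4 := congrArg orderOf hx
      rw [conj_orderOf, hio, orderOf_eq_prime (show z ^ 2 = 1 by rw [pow_two, hz2]) hz1] at h4
      norm_num at h4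
    have hcount : ((Finset.univ.filter fun y => IsConj i y).card : ℂ) * (regC 2 i).card * 4 =
        Nat.card G := by
      have h1 := card_isConj_mul_card_centralizer i
      rw [← hC, hcardC, Nat.card_eq_fintype_card (α := {x : G // IsConj i x}),
        Fintype.card_subtype] at h1
      rw [← h1]; push_cast; ring
    have hsing : ∑ g ∈ Finset.univ.filter (fun g : G => 2 ∣ orderOf g), F g =
        (s φ : ℂ) * s ψ * regS 2 (φ : G → ℂ) (ψ : G → ℂ) +
          (Nat.card G : ℂ) * ((a φ : ℂ) * a ψ) / 4 := by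
      rw [sum_singular Nat.prime_two, hpE, Finset.sum_insert hznot, hz_sec,
        Finset.sum_congr rfl fun y hy => hi_sec y (Finset.mem_filter.1 hy).2, Finset.sum_const,
        nsmul_eq_mul, ← hcount]
      ring
    have h2 := htot
    rw [← Finset.sum_filter_add_sum_filter_not Finset.univ (fun g : G => 2 ∣ orderOf g), hsing,
      ← hregS] at h2
    linear_combination h2
  -- projections
  have hGC : (Nat.card G : ℂ) ≠ 0 := Nat.cast_ne_zero.2 Nat.card_pos.ne'
  set r : IrrCharacter G → IrrCharacter G → ℂ :=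
    fun φ ψ => regS 2 (φ : G → ℂ) (ψ : G → ℂ) / (Nat.card G : ℂ) with hr
  have hrsq : ∀ φ ∈ B, ∑ ψ ∈ bset B, r φ ψ ^ 2 = r φ φ := by
    intro φ hφ
    simp only [hr, div_pow, ← Finset.sum_div, sum_regS_sq hM hBb hφ]
    field_simp
  have hrval : ∀ φ ∈ B, ∀ ψ ∈ B, (1 + (s φ : ℂ) * s ψ) * r φ ψ =
      (if φ = ψ then 1 else 0) - (a φ : ℂ) * a ψ / 4 := by
    intro φ hφ ψ hψ
    simp only [hr]
    rw [← mul_div_assoc, horth φ hφ ψ hψ, mul_div_cancel_left₀ _ hGC]
  set T := (bset B).filter fun χ => a χ ≠ 0 with hT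
  set R := (bset B).filter fun χ => ¬ a χ ≠ 0 with hR
  have hT4 : T.card = 4 := by
    rw [← Finset.sum_filter_add_sum_filter_not (bset B) (fun χ => a χ ≠ 0),
      Finset.sum_eq_zero (s := (bset B).filter fun χ => ¬ a χ ≠ 0) (fun χ hχ => by
        rw [not_not.1 (Finset.mem_filter.1 hχ).2]; ring), add_zero,
      Finset.sum_congr rfl fun χ hχ => show a χ ^ 2 = 1 by
        rcases (habs χ (mem_bset.1 (Finset.mem_filter.1 hχ).1)).resolve_left
          (Finset.mem_filter.1 hχ).2 with h | h <;> rw [h] <;> norm_num,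
      Finset.sum_const, nsmul_eq_mul, mul_one] at hsumsqZ
    exact_mod_cast hsumsqZ
  have hTs : ∀ χ ∈ T, s χ = 1 := fun χ hχ =>
    (hs χ).resolve_right fun h => (Finset.mem_filter.1 hχ).2 (ha0 χ h)
  have hTa : ∀ χ ∈ T, (a χ : ℂ) * a χ = 1 := fun χ hχ => by
    rcases (habs χ (mem_bset.1 (Finset.mem_filter.1 hχ).1)).resolve_left
      (Finset.mem_filter.1 hχ).2 with h | h <;> rw [h] <;> norm_num
  have hmin0 : minDv 2 B = 0 := by
    refine Nat.le_zero.1 ((minDv_le hone).trans (le_of_eq ?_))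
    have h1 : (charDegree ((oneIrr G : IrrCharacter G) : G → ℂ) : ℂ) = ((1 : ℕ) : ℂ) := by
      rw [irr_charDegree_cast, Nat.cast_one]; rfl
    rw [dv, Nat.cast_injective h1]
    simp
  have hd3 : blockDefect 2 B ≤ 3 := by
    rw [blockDefect_eq, hmin0, Nat.sub_zero]
    refine Nat.le_of_eq ((Nat.pow_right_injective (le_refl 2)) ?_)
    show 2 ^ (Nat.card G).factorization 2 = 2 ^ 3
    rw [← Sylow.card_eq_multiplicity S, hcard8]
  have hRs : ∀ χ ∈ R, s χ = -1 := by
    intro χ hχ
    refine (hs χ).resolve_left fun hsχ => ?_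
    obtain ⟨hχB, hχa⟩ := Finset.mem_filter.1 hχ
    have hχB' := mem_bset.1 hχB
    haveI : Fintype (S : Subgroup G) := Fintype.ofFinite _
    obtain ⟨k, hk⟩ := classInner_char_nat (isCharacter_restrict (isCharacter_of_irr χ.2) (S : Subgroup G))
      (isCharacter_of_irr (isIrrCharacter_one : IsIrrCharacter (S : Subgroup G) fun _ => 1))
    have hzS1 : zS ≠ 1 := fun q => hz1 (congrArg Subtype.val q)
    rw [classInner, hcard8, Finset.sum_eq_add (1 : (S : Subgroup G)) zS (Ne.symm hzS1) (fun x _ hx => by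
        have hx2 : (x : G) * x ≠ 1 := fun q => by
          rcases hsmall x x.2 q with q' | q'
          · exact hx.1 (Subtype.ext q')
          · exact hx.2 (Subtype.ext q')
        obtain ⟨n, -, hn⟩ := normalizer_transitive e hnc i x iS.2 x.2 hi2 hx2
        have hcx : IsConj i x := by
          rcases hn with h | h
          · exact isConj_iff.2 ⟨n, h⟩
          · exact hiinv.trans (isConj_iff.2 ⟨n, by rw [← conj_inv, h, inv_inv]⟩)
        rw [← classFun_eq_of_isConj (isClassFunction_irr χ.2) hcx, ha, not_not.1 hχa]; simp)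
      (fun h => absurd (Finset.mem_univ _) h) (fun h => absurd (Finset.mem_univ _) h)] at hk
    have hz' : (χ : G → ℂ) z = (χ : G → ℂ) 1 := by
      have := hsmul χ 1
      rwa [mul_one, hsχ, Int.cast_one, one_mul] at this
    simp only [map_one, mul_one, Subgroup.coe_one, ← hz, hz'] at hk
    have hdeg : charDegree (χ : G → ℂ) = 4 * k := by
      have : (charDegree (χ : G → ℂ) : ℂ) = ((4 * k : ℕ) : ℂ) := by
        rw [irr_charDegree_cast]
        push_cast at hk ⊢
        linear_combination 4 * hk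
      exact_mod_cast this
    have hdv : 2 ≤ dv 2 (χ : G → ℂ) :=
      (Nat.prime_two.pow_dvd_iff_le_factorization (irr_charDegree_pos χ).ne').1
        ⟨k, by rw [hdeg]; norm_num⟩
    have h5 := height_add_two_le hM hBb hχB' (by omega)
    omega
  have hmain : (4 : ℂ) * (3 / 16) = (R.card : ℂ) * (1 / 4) := by
    have hTR : ∀ φ ∈ T, ∑ ψ ∈ R, r φ ψ ^ 2 = 3 / 16 := by
      intro φ hφ
      have hφB := mem_bset.1 (Finset.mem_filter.1 hφ).1
      have h1 := hrsq φ hφB
      rw [← Finset.sum_filter_add_sum_filter_not (bset B) (fun χ => a χ ≠ 0), ← hT, ← hR] at h1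
      have hdiag : r φ φ = 3 / 8 := by
        have h2 := hrval φ hφB φ hφB
        rw [hTs φ hφ, if_pos rfl, hTa φ hφ] at h2
        push_cast at h2
        linear_combination h2 / 2
      have hTT : ∑ ψ ∈ T, r φ ψ ^ 2 = 3 / 16 := by
        have h2 : ∀ ψ ∈ T.erase φ, r φ ψ ^ 2 = 1 / 64 := by
          intro ψ hψ
          obtain ⟨hne, hψT⟩ := Finset.mem_erase.1 hψ
          have h3 := hrval φ hφB ψ (mem_bset.1 (Finset.mem_filter.1 hψT).1)
          rw [hTs φ hφ, hTs ψ hψT, if_neg (Ne.symm hne)] at h3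
          push_cast at h3
          have h4 : r φ ψ = -((a φ : ℂ) * a ψ) / 8 := by linear_combination h3 / 2
          rw [h4]
          linear_combination ((a ψ : ℂ) * a ψ) / 64 * hTa φ hφ + 1 / 64 * hTa ψ hψT
        rw [← Finset.add_sum_erase _ _ hφ, hdiag, Finset.sum_congr rfl h2, Finset.sum_const,
          Finset.card_erase_of_mem hφ, hT4, nsmul_eq_mul]
        norm_num
      rw [hTT, hdiag] at h1
      linear_combination h1
    have hRT : ∀ ψ ∈ R, ∑ φ ∈ T, r φ ψ ^ 2 = 1 / 4 := by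
      intro ψ hψ
      have hψB := mem_bset.1 (Finset.mem_filter.1 hψ).1
      have h1 := hrsq ψ hψB
      rw [← Finset.sum_filter_add_sum_filter_not (bset B) (fun χ => a χ ≠ 0), ← hT, ← hR] at h1
      have hψa : a ψ = 0 := not_not.1 (Finset.mem_filter.1 hψ).2
      have hdiag : r ψ ψ = 1 / 2 := by
        have h2 := hrval ψ hψB ψ hψB
        rw [hRs ψ hψ, if_pos rfl, hψa] at h2
        push_cast at h2
        linear_combination h2 / 2
      have hRR : ∑ φ ∈ R, r ψ φ ^ 2 = 1 / 4 := by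
        rw [Finset.sum_eq_single ψ (fun φ hφ hne => ?_) (fun h => absurd hψ h), hdiag]
        · norm_num
        · have h2 := hrval ψ hψB φ (mem_bset.1 (Finset.mem_filter.1 hφ).1)
          rw [hRs ψ hψ, hRs φ hφ, if_neg (Ne.symm hne), hψa] at h2
          push_cast at h2
          rw [show r ψ φ = 0 by linear_combination h2 / 2]; ring
      have hsym : ∀ φ, r φ ψ = r ψ φ := fun φ => by simp only [hr, regS_comm]
      rw [hRR, hdiag] at h1
      rw [Finset.sum_congr rfl fun φ _ => by rw [hsym φ]]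
      linear_combination h1
    calc (4 : ℂ) * (3 / 16) = ∑ φ ∈ T, ∑ ψ ∈ R, r φ ψ ^ 2 := by
          rw [Finset.sum_congr rfl hTR, Finset.sum_const, hT4, nsmul_eq_mul]; norm_num
      _ = ∑ ψ ∈ R, ∑ φ ∈ T, r φ ψ ^ 2 := Finset.sum_comm
      _ = (R.card : ℂ) * (1 / 4) := by rw [Finset.sum_congr rfl hRT, Finset.sum_const, nsmul_eq_mul]
  have hR3 : R.card = 3 := by
    have : (R.card : ℂ) = ((3 : ℕ) : ℂ) := by push_cast; linear_combination -4 * hmain
    exact_mod_cast this
  have hBcard : Nat.card B = (bset B).card := by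
    rw [← Nat.card_eq_finsetCard]
    exact Nat.card_congr (Equiv.subtypeEquivRight fun χ => mem_bset.symm)
  rw [hBcard, ← Finset.card_filter_add_card_filter_not (s := bset B) (fun χ => a χ ≠ 0), ← hT, ← hR,
    hT4, hR3]

end CfsgLib.Blocks.QuaternionEight
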