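import Cfsg.Agent.Lib.Blocks.CyclicQuotient

/-!
# Abelian defect groups of rank two and three
-/

namespace CfsgLib.Blocks

open Cfsg CfsgLib.CharTheory
open scoped ComplexConjugate

set_option linter.unusedVariables false
set_option linter.unusedSimpArgs false
set_option linter.style.haveILetI false
set_option linter.unusedSectionVars false
set_option maxHeartbeats 800000

universe u

variable {p : ℕ} {M : Ideal AlgInt} {G : Type u} [Group G] [Fintype G]
  {B : Set (IrrCharacter G)} {P : Subgroup G}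
  {c : Set (IrrCharacter (Subgroup.centralizer (P : Set G)))}

/-- A major subsection bounds `k(B)` by `p ^ d` times its regular rank. -/
theorem card_le_mul_rank {x : G} {H : Subgroup G} [Fintype H] {b : Set (IrrCharacter H)}
    (hM : IsPModular p M) (hH : IsCentr x H) (hx : ∃ k : ℕ, orderOf x = p ^ k)
    (hind : IsInducedBlock M H b B) (hdef : blockDefect p b = blockDefect p B) :
    Nat.card B ≤ p ^ blockDefect p b * blockRank p b := by
  classical
  have hb := hind.1
  obtain ⟨k, hk⟩ := hx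
  haveI : NeZero (p ^ k) := ⟨pow_ne_zero _ hM.1.ne_zero⟩
  set a : IrrCharacter G → rootField (p ^ k) := fun θ =>
    ⟨secPair p x b (θ : G → ℂ) (θ : G → ℂ), (secPair_props hM hH hk hb θ θ).1⟩ with hadef
  let s : IrrCharacter G → IrrCharacter H → rootField (p ^ k) := fun θ ψ =>
    ⟨sCoord x H θ fun φ => secQ p b ψ φ, (sCoord_props hM hH hk θ _).1⟩
  have hconjmem : ∀ θ ψ, conj (s θ ψ : ℂ) ∈ rootField (p ^ k) := fun θ ψ =>
    (conj_galois (NeZero.ne (p ^ k)) ((rootField (p ^ k)).val) (s θ ψ).2).1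
  have hid : ∀ θ : IrrCharacter G, ∀ σ : rootField (p ^ k) →ₐ[ℚ] ℂ,
      ((p : ℂ) ^ blockDefect p b) * σ (a θ) =
        ((∑ ψ : IrrCharacter H, Complex.normSq (σ (s θ ψ)) : ℝ) : ℂ) := by
    intro θ σ
    have e : ((p ^ blockDefect p b : ℕ) : rootField (p ^ k)) * a θ =
        ∑ ψ : IrrCharacter H, s θ ψ * ⟨conj (s θ ψ : ℂ), hconjmem θ ψ⟩ := by
      apply Subtype.ext
      push_cast
      show (p : ℂ) ^ blockDefect p b * secPair p x b (θ : G → ℂ) (θ : G → ℂ) =
        ∑ ψ : IrrCharacter H, sCoord x H θ (fun φ => secQ p b ψ φ) *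
          conj (sCoord x H θ fun φ => secQ p b ψ φ)
      have h1 : ∀ φ : IrrCharacter H, ∑ ψ : IrrCharacter H,
          (secQ p b ψ φ : ℂ) * conj (sCoord x H θ fun χ => secQ p b ψ χ) =
          (p : ℂ) ^ blockDefect p b * conj (sCoord x H θ fun χ => secQ p b φ χ) := by
        intro φ
        simp only [sCoord, map_sum, map_mul, map_intCast, Finset.mul_sum]
        rw [Finset.sum_comm]
        refine Finset.sum_congr rfl fun χ _ => ?_
        have h2 := congrArg (fun z : ℤ => (z : ℂ)) (secQ_idem hM hb φ χ)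
        push_cast at h2
        rw [Finset.sum_congr rfl fun (ψ : IrrCharacter H) _ => show (secQ p b ψ φ : ℂ) *
          (conj (classInner (sec x H (θ : G → ℂ)) (χ : H → ℂ)) * (secQ p b ψ χ : ℂ)) =
            conj (classInner (sec x H (θ : G → ℂ)) (χ : H → ℂ)) *
              ((secQ p b φ ψ : ℂ) * (secQ p b ψ χ : ℂ)) by rw [secQ_symm hM hb ψ φ]; ring,
          ← Finset.mul_sum, h2]
        ring
      rw [secPair_sCoord hM hb, Finset.mul_sum]
      symm
      calc ∑ ψ : IrrCharacter H, sCoord x H θ (fun φ => secQ p b ψ φ) *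
            conj (sCoord x H θ fun φ => secQ p b ψ φ)
          = ∑ φ : IrrCharacter H, classInner (sec x H (θ : G → ℂ)) (φ : H → ℂ) *
              ∑ ψ : IrrCharacter H, (secQ p b ψ φ : ℂ) *
                conj (sCoord x H θ fun χ => secQ p b ψ χ) := by
            simp only [Finset.mul_sum]
            rw [Finset.sum_comm]
            refine Finset.sum_congr rfl fun ψ _ => ?_
            conv_lhs => arg 1; unfold sCoord
            rw [Finset.sum_mul]
            exact Finset.sum_congr rfl fun φ _ => by ring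
        _ = _ := Finset.sum_congr rfl fun φ _ => by rw [h1 φ]; ring
    have h1 := congrArg σ e
    simp only [map_mul, map_natCast, map_sum] at h1
    rw [Complex.ofReal_sum]
    push_cast at h1
    rw [h1]
    refine Finset.sum_congr rfl fun ψ _ => ?_
    obtain ⟨hc, he⟩ := conj_galois (NeZero.ne (p ^ k)) σ (s θ ψ).2
    rw [show σ ⟨conj (s θ ψ : ℂ), hconjmem θ ψ⟩ = conj (σ ⟨(s θ ψ : ℂ), (s θ ψ).2⟩) from he,
      Complex.mul_conj]
  have hpos : ∀ θ ∈ bset B, ∀ σ : rootField (p ^ k) →ₐ[ℚ] ℂ,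
      ∃ r : ℝ, 0 < r ∧ σ (a θ) = (r : ℂ) := by
    intro θ hθ σ
    refine ⟨(∑ ψ : IrrCharacter H, Complex.normSq (σ (s θ ψ))) / (p : ℝ) ^ blockDefect p b,
      div_pos ?_ (pow_pos (Nat.cast_pos.2 hM.1.pos) _), ?_⟩
    · obtain ⟨φ, hφ⟩ := exists_col_ne_zero hM hH ⟨k, hk⟩ hind hdef (mem_bset.1 hθ)
      refine lt_of_lt_of_le (Complex.normSq_pos.2 fun h0 => hφ ?_)
        (Finset.single_le_sum (fun ψ _ => Complex.normSq_nonneg _) (Finset.mem_univ φ))
      exact congrArg Subtype.val ((map_eq_zero_iff σ σ.injective).1 h0)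
    · rw [Complex.ofReal_div, ← hid θ σ, Complex.ofReal_pow, Complex.ofReal_natCast,
        mul_div_cancel_left₀ _ (pow_ne_zero _ (Nat.cast_ne_zero.2 hM.1.ne_zero))]
  have hsum : ∑ θ ∈ bset B, a θ =
      ((p ^ blockDefect p b * blockRank p b : ℕ) : rootField (p ^ k)) := by
    apply Subtype.ext
    push_cast
    exact sum_secPair_diag hM hH ⟨k, hk⟩ hind
  set N := Fintype.card (rootField (p ^ k) →ₐ[ℚ] ℂ) with hN
  have hN0 : (0 : ℝ) < (N : ℝ) := by
    rw [hN]; exact_mod_cast Fintype.card_pos_iff.2 ⟨(rootField (p ^ k)).val⟩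
  have h1 : ((bset B).card : ℝ) * N ≤ ((p ^ blockDefect p b * blockRank p b : ℕ) : ℝ) * N := by
    calc ((bset B).card : ℝ) * N = ∑ θ ∈ bset B, (N : ℝ) := by
          rw [Finset.sum_const, nsmul_eq_mul]
      _ ≤ ∑ θ ∈ bset B, ∑ σ : rootField (p ^ k) →ₐ[ℚ] ℂ, (σ (a θ)).re :=
          Finset.sum_le_sum fun θ hθ =>
            card_le_sum_pos (a θ) (secPair_props hM hH hk hb θ θ).2 (hpos θ hθ)
      _ = ∑ σ : rootField (p ^ k) →ₐ[ℚ] ℂ,
            ((p ^ blockDefect p b * blockRank p b : ℕ) : ℝ) := by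
          rw [Finset.sum_comm]
          refine Finset.sum_congr rfl fun σ _ => ?_
          rw [← Complex.re_sum, ← map_sum, hsum, map_natCast, Complex.natCast_re]
      _ = _ := by rw [Finset.sum_const, Finset.card_univ, nsmul_eq_mul, mul_comm]
  rw [card_bset']
  exact_mod_cast le_of_mul_le_mul_right h1 hN0

/-- The regular rank is at most the number of characters of the dominated block. -/
theorem blockRank_le_quot (hM : IsPModular p M) (hmax : IsMaximalBrauerPair p M B P c)
    (hab : ∀ x ∈ P, ∀ y ∈ P, x * y = y * x) {U : Subgroup G} [U.Normal]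
    (hUc : U ≤ Subgroup.center G) (hUP : U ≤ P) :
    blockRank p B ≤ Nat.card (quotBlock U B) := by
  classical
  haveI : Fintype (G ⧸ U) := Fintype.ofFinite _
  rw [blockRank, Nat.card_eq_fintype_card]
  refine le_trans (Submodule.finrank_mono ?_) (finrank_range_le_card
    (R := ℂ) fun ψ : quotBlock U B => pRegularPart p (Inflation.inflIrr U ψ.1 : G → ℂ))
  rw [Submodule.span_le]
  rintro _ ⟨χ, hχ, rfl⟩
  obtain ⟨ψ, hψ, hreg⟩ := exists_quot_regular hM hmax hab hUc hUP hχ
  refine Submodule.subset_span ⟨⟨ψ, hψ⟩, funext fun y => ?_⟩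
  simp only [pRegularPart_apply, Inflation.inflIrr_apply]
  split_ifs with hy
  · rfl
  · exact (hreg y hy).symm

/-- The local setting at a cyclic subgroup of an abelian defect group. -/
theorem exists_local_setting (hM : IsPModular p M) (hmax : IsMaximalBrauerPair p M B P c)
    (hab : ∀ x ∈ P, ∀ y ∈ P, x * y = y * x) {x : G} (hx : x ∈ P) (T : Set G)
    (hT : T ⊆ P) (hgen : P ≤ Subgroup.closure (insert x T))
    [Fintype (Subgroup.centralizer ((Subgroup.zpowers x : Subgroup G) : Set G))] :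
    ∃ (b : Set (IrrCharacter (Subgroup.centralizer ((Subgroup.zpowers x : Subgroup G) : Set G))))
      (P' : Subgroup (Subgroup.centralizer ((Subgroup.zpowers x : Subgroup G) : Set G)))
      (c' : Set (IrrCharacter (Subgroup.centralizer
        (P' : Set (Subgroup.centralizer ((Subgroup.zpowers x : Subgroup G) : Set G))))))
      (U : Subgroup (Subgroup.centralizer ((Subgroup.zpowers x : Subgroup G) : Set G)))
      (_ : U.Normal),
      IsInducedBlock M (Subgroup.centralizer ((Subgroup.zpowers x : Subgroup G) : Set G)) b B ∧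
      blockDefect p b = blockDefect p B ∧ IsMaximalBrauerPair p M b P' c' ∧
      (∀ a ∈ P', ∀ a' ∈ P', a * a' = a' * a) ∧ U ≤ Subgroup.center _ ∧ U ≤ P' ∧
      Nat.card P' = Nat.card P ∧ Nat.card U = orderOf x ∧
      P'.map (QuotientGroup.mk' U) ≤ Subgroup.closure
        ((fun y : Subgroup.centralizer ((Subgroup.zpowers x : Subgroup G) : Set G) =>
          (QuotientGroup.mk' U) y) '' {y | (y : G) ∈ T}) ∧
      (∀ y : Subgroup.centralizer ((Subgroup.zpowers x : Subgroup G) : Set G),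
        QuotientGroup.mk' U y = 1 → (y : G) ∈ Subgroup.zpowers x) ∧
      ∀ y : Subgroup.centralizer ((Subgroup.zpowers x : Subgroup G) : Set G),
        (y : G) ∈ P → y ∈ P' := by
  classical
  set Q := Subgroup.zpowers x with hQdef
  have hQ : Q ≤ P := Subgroup.zpowers_le.2 hx
  have hP : IsPGroup p P := hmax.1.1.1
  obtain ⟨h1, h2⟩ := subIdx_spec hM (a := (⟨P, c⟩ : BrauerPairIdx G)) hP hmax.1.1.2 hQ
  have hind : IsInducedBlock M (Subgroup.centralizer (Q : Set G)) (subIdx p M ⟨P, c⟩ Q).2 B :=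
    (induced_centralizer_iff hM (hP.to_le hQ)).2 ((pairOf_subpair_iff hM h2 B).2 hmax.1)
  obtain ⟨z, hz, hup, hzmax, hzab⟩ := exists_down hM hmax hab hQ
  have hQH : Q ≤ Subgroup.centralizer (Q : Set G) := fun q hq q' hq' => hab q' (hQ hq') q (hQ hq)
  have hUc : Q.subgroupOf (Subgroup.centralizer (Q : Set G)) ≤ Subgroup.center _ := fun q hq =>
    Subgroup.mem_center_iff.2 fun g =>
      Subtype.ext (g.2 (q : G) (Subgroup.mem_subgroupOf.1 hq)).symm
  have hmap : z.1.map (Subgroup.centralizer (Q : Set G)).subtype = P := le_map_subtype_of_eq hup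
  have hcardP : Nat.card z.1 = Nat.card P := by
    rw [← hmap]
    exact Nat.card_congr (Subgroup.equivMapOfInjective z.1 _ Subtype.coe_injective).toEquiv
  have hn := normal_of_central hUc
  refine ⟨(subIdx p M ⟨P, c⟩ Q).2, z.1, z.2, Q.subgroupOf (Subgroup.centralizer (Q : Set G)),
    hn, hind, ?_, hzmax, hzab, hUc, subgroupOf_le_down hup hQ, hcardP, ?_, ?_, ?_,
    fun y hy => subgroupOf_le_down hup le_rfl (Subgroup.mem_subgroupOf.2 hy)⟩
  · have e1 := card_defectGroup hM hzmax.1.2.1 (maximal_isDefectGroup hM hzmax)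
    have e2 := e1.symm.trans
      (hcardP.trans (card_defectGroup hM hmax.1.2.1 (maximal_isDefectGroup hM hmax)))
    exact Nat.pow_right_injective hM.1.two_le e2
  · rw [Nat.card_congr (Subgroup.subgroupOfEquivOfLe hQH).toEquiv, hQdef, Nat.card_zpowers]
  · haveI := hn
    rintro _ ⟨r, hr, rfl⟩
    set L := (Subgroup.closure
      ((fun y : Subgroup.centralizer (Q : Set G) =>
        (QuotientGroup.mk' (Q.subgroupOf (Subgroup.centralizer (Q : Set G)))) y) ''
          {y | (y : G) ∈ T})).comap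
      (QuotientGroup.mk' (Q.subgroupOf (Subgroup.centralizer (Q : Set G)))) with hL
    show r ∈ L
    have h3 : Subgroup.closure (insert x T) ≤ L.map (Subgroup.centralizer (Q : Set G)).subtype := by
      rw [Subgroup.closure_le]
      rintro g (rfl | hg)
      · refine ⟨⟨g, hQH (Subgroup.mem_zpowers g)⟩, Subgroup.mem_comap.2 ?_, rfl⟩
        rw [QuotientGroup.mk'_apply, (QuotientGroup.eq_one_iff _).2
          (Subgroup.mem_subgroupOf.2 (Subgroup.mem_zpowers g))]
        exact Subgroup.one_mem _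
      · refine ⟨⟨g, fun q hq => hab q (hQ hq) g (hT hg)⟩,
          Subgroup.mem_comap.2 (Subgroup.subset_closure ⟨_, hg, rfl⟩), rfl⟩
    obtain ⟨r', hr', he⟩ := h3 (hgen (hmap ▸ ⟨r, hr, rfl⟩ : (r : G) ∈ P))
    rwa [← Subtype.ext he]
  · intro y hy
    exact Subgroup.mem_subgroupOf.1 ((QuotientGroup.eq_one_iff y).1 hy)

/-- An abelian defect group generated by two elements. -/
theorem card_le_of_two_gen (hM : IsPModular p M) (hmax : IsMaximalBrauerPair p M B P c)
    (hab : ∀ x ∈ P, ∀ y ∈ P, x * y = y * x) {x y : G} (hx : x ∈ P) (hy : y ∈ P)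
    (hgen : P ≤ Subgroup.closure ({x, y} : Set G)) : Nat.card B ≤ p ^ blockDefect p B := by
  classical
  have core : ∀ x y : G, x ∈ P → y ∈ P → P ≤ Subgroup.closure ({x, y} : Set G) →
      y ∉ Subgroup.zpowers x → Nat.card B ≤ p ^ blockDefect p B := by
    intro x y hx hy hgen hyx
    haveI := Fintype.ofFinite (Subgroup.centralizer ((Subgroup.zpowers x : Subgroup G) : Set G))
    obtain ⟨b, P', c', U, _, hind, hdef, hmax', hab', hUc, hUP, hcard, -, hle, hker, -⟩ :=
      exists_local_setting hM hmax hab hx {y} (Set.singleton_subset_iff.2 hy) hgen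
    have hyH : y ∈ Subgroup.centralizer ((Subgroup.zpowers x : Subgroup G) : Set G) :=
      fun q hq => hab q (Subgroup.zpowers_le.2 hx hq) y hy
    have hle' : P'.map (QuotientGroup.mk' U) ≤
        Subgroup.zpowers (QuotientGroup.mk' U ⟨y, hyH⟩) := by
      refine hle.trans ((Subgroup.closure_le _).2 ?_)
      rintro _ ⟨z, hz, rfl⟩
      rw [show z = ⟨y, hyH⟩ from Subtype.ext hz]
      exact Subgroup.mem_zpowers _
    have hcyc : IsCyclic (P'.map (QuotientGroup.mk' U)) := Subgroup.isCyclic_of_le hle'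
    have hne : P'.map (QuotientGroup.mk' U) ≠ ⊥ := by
      intro h0
      have h3 : Nat.card P' ≤ Nat.card U := Subgroup.card_le_of_le (by
        rwa [Subgroup.map_eq_bot_iff, QuotientGroup.ker_mk'] at h0)
      rw [hcard] at h3
      refine hyx ((?_ : P = Subgroup.zpowers x) ▸ hy)
      refine (Subgroup.eq_of_le_of_card_ge (Subgroup.zpowers_le.2 hx) (h3.trans ?_)).symm
      refine Nat.card_le_card_of_injective
          (fun u : U => (⟨((u : Subgroup.centralizer ((Subgroup.zpowers x : Subgroup G) : Set G)) : G),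
            hker _ ((QuotientGroup.eq_one_iff _).2 u.2)⟩ : Subgroup.zpowers x)) ?_
      intro u v he
      exact Subtype.ext (Subtype.ext (congrArg (fun z : Subgroup.zpowers x => (z : G)) he))
    obtain ⟨ι, _, m, s, w, he, hm, hs, hl, hw, hQ⟩ :=
      cyclic_form hM hmax' hab' hUc hUP hcyc hne
    haveI : Fact p.Prime := ⟨hM.1⟩
    obtain ⟨k, hk⟩ := IsPGroup.iff_orderOf.1 hmax.1.1.1 ⟨x, hx⟩
    rw [← Subgroup.orderOf_coe] at hk
    exact card_le_of_form hM (isCentr_zpowers x) ⟨k, hk⟩ hind hdef m s w he hm hs hl hw hQ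
  by_cases hyx : y ∈ Subgroup.zpowers x
  · have hgen' : P ≤ Subgroup.closure ({1, x} : Set G) := by
      have hxc : x ∈ Subgroup.closure ({1, x} : Set G) := Subgroup.subset_closure (by simp)
      refine hgen.trans ((Subgroup.closure_le _).2 ?_)
      rintro z (h | h)
      · rw [h]; exact hxc
      · rw [Set.mem_singleton_iff.1 h]
        exact Subgroup.zpowers_le.2 hxc hyx
    by_cases hx1 : x ∈ Subgroup.zpowers (1 : G)
    · rw [Subgroup.zpowers_one_eq_bot, Subgroup.mem_bot] at hx1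
      subst hx1
      have hbot : P = ⊥ := eq_bot_iff.2 (hgen'.trans ((Subgroup.closure_le _).2 (by simp)))
      have h1 := card_defectGroup hM hmax.1.2.1 (maximal_isDefectGroup hM hmax)
      rw [hbot, Subgroup.card_bot] at h1
      have hd : blockDefect p B = 0 :=
        (Nat.pow_right_injective hM.1.two_le (h1.symm.trans (pow_zero p).symm))
      rw [hd]
      exact (card_le_bfBound hM 0 G B hmax.1.2.1 hd.le).trans (by simp [bfBound])
    · exact core 1 x P.one_mem hx hgen' hx1
  · exact core x y hx hy hgen hyx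

theorem card_le_prod_three {Γ : Type u} [Group Γ] [Finite Γ] {D : Subgroup Γ}
    (hab : ∀ x ∈ D, ∀ y ∈ D, x * y = y * x) {x y z : Γ} (hx : x ∈ D) (hy : y ∈ D) (hz : z ∈ D)
    (hgen : D ≤ Subgroup.closure ({x, y, z} : Set Γ)) :
    Nat.card D ≤ orderOf x * orderOf y * orderOf z := by
  classical
  letI : CommGroup D :=
    { (inferInstance : Group D) with mul_comm := fun a b => Subtype.ext (hab _ a.2 _ b.2) }
  let f : (Subgroup.zpowers (⟨x, hx⟩ : D) × Subgroup.zpowers (⟨y, hy⟩ : D)) ×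
      Subgroup.zpowers (⟨z, hz⟩ : D) →* D :=
    MonoidHom.coprod (MonoidHom.coprod (Subgroup.zpowers (⟨x, hx⟩ : D)).subtype
      (Subgroup.zpowers (⟨y, hy⟩ : D)).subtype) (Subgroup.zpowers (⟨z, hz⟩ : D)).subtype
  have hsurj : Function.Surjective f := by
    rw [← MonoidHom.range_eq_top, eq_top_iff]
    intro d _
    have hd : (d : Γ) ∈ f.range.map D.subtype := by
      refine (hgen.trans ((Subgroup.closure_le _).2 ?_)) d.2
      rintro g (rfl | rfl | rfl)
      · exact ⟨⟨g, hx⟩, ⟨((⟨_, Subgroup.mem_zpowers _⟩, 1), 1), by simp [f]⟩, rfl⟩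
      · exact ⟨⟨g, hy⟩, ⟨((1, ⟨_, Subgroup.mem_zpowers _⟩), 1), by simp [f]⟩, rfl⟩
      · exact ⟨⟨g, hz⟩, ⟨((1, 1), ⟨_, Subgroup.mem_zpowers _⟩), by simp [f]⟩, rfl⟩
    obtain ⟨d', hd', he⟩ := hd
    rwa [← Subtype.ext he]
  have h := Nat.card_le_card_of_surjective f hsurj
  simp only [Nat.card_prod, Nat.card_zpowers, Subgroup.orderOf_mk] at h
  exact h

/-- An abelian defect group generated by three elements, the first of maximal order. -/
theorem cube_le_of_three_gen (hM : IsPModular p M) (hmax : IsMaximalBrauerPair p M B P c)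
    (hab : ∀ x ∈ P, ∀ y ∈ P, x * y = y * x) {x y z : G} (hx : x ∈ P) (hy : y ∈ P) (hz : z ∈ P)
    (hgen : P ≤ Subgroup.closure ({x, y, z} : Set G)) (hyo : orderOf y ≤ orderOf x)
    (hzo : orderOf z ≤ orderOf x) : Nat.card B ^ 3 ≤ p ^ (5 * blockDefect p B) := by
  classical
  haveI : Fact p.Prime := ⟨hM.1⟩
  haveI := Fintype.ofFinite (Subgroup.centralizer ((Subgroup.zpowers x : Subgroup G) : Set G))
  obtain ⟨b, P', c', U, _, hind, hdef, hmax', hab', hUc, hUP, hcard, hcardU, hle, -, hin⟩ :=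
    exists_local_setting hM hmax hab hx {y, z}
      (Set.insert_subset hy (Set.singleton_subset_iff.2 hz)) hgen
  obtain ⟨k, hk⟩ := IsPGroup.iff_orderOf.1 hmax.1.1.1 ⟨x, hx⟩
  rw [← Subgroup.orderOf_coe] at hk
  have h1 := card_le_mul_rank hM (isCentr_zpowers x) ⟨k, hk⟩ hind hdef
  have h2 := blockRank_le_quot hM hmax' hab' hUc hUP
  haveI : Fintype (Subgroup.centralizer ((Subgroup.zpowers x : Subgroup G) : Set G) ⧸ U) :=
    Fintype.ofFinite _
  have hDq := quot_defectGroup hM hmax' hUc hUP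
  have hBq := quotBlock_isPBlock hM hmax' hab' hUc hUP
  obtain ⟨eq', hmaxq⟩ := exists_maximal_at hM hBq hDq
  have hyH : y ∈ Subgroup.centralizer ((Subgroup.zpowers x : Subgroup G) : Set G) :=
    fun q hq => hab q (Subgroup.zpowers_le.2 hx hq) y hy
  have hzH : z ∈ Subgroup.centralizer ((Subgroup.zpowers x : Subgroup G) : Set G) :=
    fun q hq => hab q (Subgroup.zpowers_le.2 hx hq) z hz
  have habq : ∀ a ∈ P'.map (QuotientGroup.mk' U), ∀ a' ∈ P'.map (QuotientGroup.mk' U),
      a * a' = a' * a := by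
    rintro _ ⟨a, ha, rfl⟩ _ ⟨a', ha', rfl⟩
    rw [← map_mul, ← map_mul, hab' a ha a' ha']
  have hgenq : P'.map (QuotientGroup.mk' U) ≤
      Subgroup.closure {QuotientGroup.mk' U ⟨y, hyH⟩, QuotientGroup.mk' U ⟨z, hzH⟩} := by
    refine hle.trans ((Subgroup.closure_le _).2 ?_)
    rintro _ ⟨w, hw, rfl⟩
    rcases hw with hw | hw
    · rw [show w = ⟨y, hyH⟩ from Subtype.ext hw]
      exact Subgroup.subset_closure (Set.mem_insert _ _)
    · rw [show w = ⟨z, hzH⟩ from Subtype.ext hw]
      exact Subgroup.subset_closure (Set.mem_insert_of_mem _ rfl)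
  have hcq : Nat.card (P'.map (QuotientGroup.mk' U)) * orderOf x = Nat.card P := by
    rw [← hcard, ← hcardU, mul_comm]
    have h3 := Subgroup.card_mul_index (U.subgroupOf P')
    rw [Nat.card_congr (Subgroup.subgroupOfEquivOfLe hUP).toEquiv] at h3
    rw [← h3]
    congr 1
    have h4 := Subgroup.relIndex_ker (f := QuotientGroup.mk' U) (K := P')
    rw [QuotientGroup.ker_mk'] at h4
    exact h4.symm
  have hk' := card_le_of_two_gen hM hmaxq habq ⟨_, hin _ hy, rfl⟩ ⟨_, hin _ hz, rfl⟩ hgenq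
  rw [← card_defectGroup hM hBq hDq] at hk'
  have hP := card_defectGroup hM hmax.1.2.1 (maximal_isDefectGroup hM hmax)
  have h5 : Nat.card P ≤ orderOf x * orderOf x * orderOf x :=
    (card_le_prod_three hab hx hy hz hgen).trans (Nat.mul_le_mul (Nat.mul_le_mul le_rfl hyo) hzo)
  rw [hdef] at h1
  rw [← hcq] at hP h5
  set n := Nat.card (P'.map (QuotientGroup.mk' U))
  set o := orderOf x
  have h6 : Nat.card B ≤ p ^ blockDefect p B * n :=
    h1.trans (Nat.mul_le_mul le_rfl (h2.trans hk'))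
  have h7 : n ^ 3 ≤ (n * o) ^ 2 := by
    have h8 : n ≤ o * o := Nat.le_of_mul_le_mul_right h5 (orderOf_pos x)
    calc n ^ 3 = n ^ 2 * n := by ring
      _ ≤ n ^ 2 * (o * o) := Nat.mul_le_mul le_rfl h8
      _ = (n * o) ^ 2 := by ring
  calc Nat.card B ^ 3 ≤ (p ^ blockDefect p B * n) ^ 3 := Nat.pow_le_pow_left h6 3
    _ = (p ^ blockDefect p B) ^ 3 * n ^ 3 := mul_pow _ _ _
    _ ≤ (p ^ blockDefect p B) ^ 3 * (p ^ blockDefect p B) ^ 2 := by
        refine Nat.mul_le_mul le_rfl ?_
        rw [← hP]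
        exact h7
    _ = p ^ (5 * blockDefect p B) := by rw [← pow_add, ← pow_mul]; ring_nf

/-- The bounds in terms of the number of generators of the defect group. -/
theorem rank_bounds [Fact p.Prime] (hM : IsPModular p M) (hB : IsPBlock M B) {D : Subgroup G}
    (hD : IsDefectGroup p M B D) (hab : IsMulCommutative D) {d : ℕ} (hd : Nat.card D = p ^ d) :
    (Group.rank D = 2 → Nat.card B ≤ p ^ d) ∧
      (Group.rank D = 3 → Nat.card B ^ 3 ≤ p ^ (5 * d)) := by
  classical
  obtain ⟨e, hmax⟩ := exists_maximal_at hM hB hD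
  have hab' : ∀ x ∈ D, ∀ y ∈ D, x * y = y * x := fun x hx y hy =>
    congrArg Subtype.val ((IsMulCommutative.is_comm (M := D)).comm ⟨x, hx⟩ ⟨y, hy⟩)
  have hdd : blockDefect p B = d :=
    (Nat.pow_right_injective hM.1.two_le (hd.symm.trans (card_defectGroup hM hB hD))).symm
  have hgen : ∀ S : Finset D, Subgroup.closure (S : Set D) = ⊤ →
      D ≤ Subgroup.closure ((Subtype.val : D → G) '' (S : Set D)) := by
    intro S hS x hx
    have h1 := MonoidHom.map_closure D.subtype (S : Set D)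
    rw [hS] at h1
    have h2 : x ∈ (⊤ : Subgroup D).map D.subtype := ⟨⟨x, hx⟩, trivial, rfl⟩
    rw [h1] at h2
    exact h2
  constructor
  · intro hr
    obtain ⟨S, hS, hcl⟩ := Group.rank_spec D
    rw [hr, Finset.card_eq_two] at hS
    obtain ⟨a, b, -, rfl⟩ := hS
    rw [← hdd]
    refine card_le_of_two_gen hM hmax hab' a.2 b.2 ((hgen _ hcl).trans ?_)
    refine (Subgroup.closure_mono ?_)
    simp [Set.image_insert_eq]
  · intro hr
    obtain ⟨S, hS, hcl⟩ := Group.rank_spec D
    rw [hr] at hS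
    obtain ⟨a, haS, hmaxo⟩ := S.exists_max_image (fun g => orderOf (g : G))
      (Finset.card_pos.1 (by omega))
    obtain ⟨b, c', -, hbc⟩ := Finset.card_eq_two.1
      (show (S.erase a).card = 2 by rw [Finset.card_erase_of_mem haS]; omega)
    have hb : b ∈ S := Finset.mem_of_mem_erase (hbc ▸ Finset.mem_insert_self b _)
    have hc' : c' ∈ S := Finset.mem_of_mem_erase
      (hbc ▸ Finset.mem_insert_of_mem (Finset.mem_singleton_self c'))
    rw [← hdd]
    refine cube_le_of_three_gen hM hmax hab' a.2 b.2 c'.2 ((hgen S hcl).trans ?_)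
      (hmaxo b hb) (hmaxo c' hc')
    refine Subgroup.closure_mono ?_
    rintro _ ⟨g, hg, rfl⟩
    rw [← Finset.insert_erase haS, hbc] at hg
    simp only [Finset.coe_insert, Finset.coe_singleton, Set.mem_insert_iff,
      Set.mem_singleton_iff] at hg
    rcases hg with rfl | rfl | rfl <;> simp

end CfsgLib.Blocks
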