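import Cfsg.Agent.Lib.Blocks.BlockAlgebraSmall
import Cfsg.Agent.Lib.Blocks.TwoChars

/-!
# Blocks with one Brauer character and at most four ordinary characters
-/

namespace CfsgLib.Blocks

open Cfsg CfsgLib.CharTheory

set_option linter.unusedVariables false
set_option linter.unusedSectionVars false

universe u

variable {p : ℕ} {M : Ideal AlgInt} {G : Type u} [Group G] [Fintype G]

/-- If `l(B) = 1` and `k(B) ≤ 4` then `k(B)` is the order of the defect groups and every
decomposition number is one. -/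
theorem small_block (hM : IsPModular p M) {B : Set (IrrCharacter G)} (hB : IsPBlock M B)
    (hl : blockRank p B = 1) (hk : (bset B).card ≤ 4) :
    p ^ blockDefect p B = (bset B).card := by
  classical
  haveI : Fact p.Prime := ⟨hM.1⟩
  obtain ⟨φ, f, d, n, hf, hφ, hval, hdeg, hdn, hsq⟩ := exists_single_brauer hM hB hl
  have hlow : (bset B).card ≤ p ^ blockDefect p B := by
    rw [← hsq]
    refine le_trans (by simp) (Finset.sum_le_sum (f := fun _ => 1) fun χ hχ => ?_)
    refine Nat.one_le_pow _ _ (Nat.pos_of_ne_zero fun h => (irr_charDegree_pos χ).ne' ?_)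
    rw [hdeg χ (mem_bset.1 hχ), h, zero_mul]
  obtain ⟨r, c, hck, hA, hq⟩ := exists_small_algebra hM hB hl hk
  refine le_antisymm (le_trans ?_ hck) hlow
  have hsum : ∑ χ ∈ bset B, charDegree (χ : G → ℂ) ^ 2 = p ^ blockDefect p B * f ^ 2 := by
    rw [← hsq, Finset.sum_mul]
    exact Finset.sum_congr rfl fun χ hχ => by rw [hdeg χ (mem_bset.1 hχ), mul_pow]
  rw [hsum] at hA
  obtain ⟨χ, hχ, hχ0⟩ := exists_height_zero hM hB
  have hvf : f.factorization p ≤ minDv p B := by
    rw [← hχ0]
    exact (Nat.factorization_le_iff_dvd hf.ne' (irr_charDegree_pos χ).ne').2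
      (by rw [hdeg χ hχ]; exact dvd_mul_left _ _) p
  have hne : p ^ blockDefect p B * f ^ 2 ≠ 0 :=
    mul_ne_zero (pow_ne_zero _ hM.1.ne_zero) (pow_ne_zero _ hf.ne')
  have hr : r ≠ 0 := fun h => hne (by rw [hA, h, zero_mul])
  have hc : c ≠ 0 := fun h => hne (by rw [hA, h, mul_zero, mul_zero])
  have h1 := congrArg (fun x => Nat.factorization x p) hA
  simp only [Nat.factorization_mul (pow_ne_zero _ hM.1.ne_zero) (pow_ne_zero _ hf.ne'),
    Nat.factorization_mul hr (mul_ne_zero hr hc), Nat.factorization_mul hr hc,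
    Finsupp.add_apply, Nat.factorization_pow, Finsupp.smul_apply, smul_eq_mul,
    hM.1.factorization_self, mul_one] at h1
  have h2 := (hM.1.pow_dvd_iff_le_factorization (mul_ne_zero hr hc)).1 hq
  rw [Nat.factorization_mul hr hc, Finsupp.add_apply] at h2
  have hd := blockDefect_eq p B
  have hle := minDv_le_card hM hB (p := p)
  exact Nat.le_of_dvd (Nat.pos_of_ne_zero hc)
    ((hM.1.pow_dvd_iff_le_factorization hc).2 (by omega))

end CfsgLib.Blocks
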