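import Cfsg.Agent.Lib.Blocks.Pairs

/-!
# Subpairs: transitivity, existence, uniqueness, conjugation
-/

namespace CfsgLib.Blocks

open Cfsg CfsgLib.CharTheory

set_option linter.unusedVariables false
set_option linter.unusedSimpArgs false
set_option linter.style.haveILetI false
set_option linter.unusedSectionVars false

universe u

variable {p : ℕ} {M : Ideal AlgInt} {G : Type u} [Group G] [Fintype G]

theorem centralizer_anti {Q P : Subgroup G} (h : Q ≤ P) :
    Subgroup.centralizer (P : Set G) ≤ Subgroup.centralizer (Q : Set G) :=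
  Subgroup.centralizer_le h

theorem bne (hM : IsPModular p M) {H : Subgroup G} {b : Set (IrrCharacter H)}
    (hb : IsPBlock M b) : b.Nonempty := by
  haveI := Fintype.ofFinite H
  exact block_nonempty hM hb

/-- The Brauer map at a larger group factors through the block below. -/
theorem lam_trans (hM : IsPModular p M) {R P : Subgroup G} (hP : IsPGroup p P) (hRP : R ≤ P)
    (hN : P ≤ Subgroup.normalizer (R : Set G))
    {g : Set (IrrCharacter (Subgroup.centralizer (R : Set G)))} (hg : IsPBlock M g)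
    (hst : ∀ x ∈ P, StabilizesBlock (Subgroup.centralizer (R : Set G)) g x)
    {η : IrrCharacter (Subgroup.centralizer (R : Set G))} (hη : η ∈ g)
    {ξ : IrrCharacter (Subgroup.centralizer (P : Set G))}
    (h : lam hM P (subgroupBlockCoeff (Subgroup.centralizer (R : Set G)) g) ξ = 1)
    {γ : G → ℂ} (hγP : Nice M P γ) (hγR : Nice M R γ) :
    lam hM P γ ξ = lam hM R γ η := by
  classical
  haveI := res_isDomain hM
  haveI := Fintype.ofFinite (Subgroup.centralizer (R : Set G))
  have hC : Subgroup.centralizer (P : Set G) ≤ (Subgroup.centralizer (R : Set G)) := centralizer_anti hRP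
  have hK : P ≤ Subgroup.normalizer ((Subgroup.centralizer (R : Set G)) : Set G) := hN.trans (normalizer_le_normalizer_cent R)
  set c : ℂ := brauerOmega R γ (η : (Subgroup.centralizer (R : Set G)) → ℂ) with hc
  have hcm : MemLocalRing M c := memRing_brauerOmega hM hγR η
  set γK : (Subgroup.centralizer (R : Set G)) → ℂ := fun k => γ k with hγK
  have hγKc : IsClassFunction (Subgroup.centralizer (R : Set G)) γK := hγR.restrict
  set v : Zloc (Subgroup.centralizer (R : Set G)) hM := ⟨ind g, ind_mem_Zloc hM hg⟩ *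
    (⟨_, omega_mem_Zloc hM hγKc (fun k => hγR.mem _)⟩ -
      ⟨fun _ => c, const_mem_Zloc hM hcm⟩) with hv
  have hvI : ∀ ψ, MemLocalIdeal M ((v : IrrCharacter (Subgroup.centralizer (R : Set G)) → ℂ) ψ) := by
    intro ψ
    show MemLocalIdeal M (ind g ψ * (omega (ψ : (Subgroup.centralizer (R : Set G)) → ℂ) γK - c))
    by_cases hψ : ψ ∈ g
    · rw [ind_of_mem hψ, one_mul,
        memIdeal_sub_iff hM (memRing_omega hM hγKc (fun k => hγR.mem _) ψ) hcm, hc,
        brauerOmega_eq_omega]
      exact Zloc_res_congr hM (omega_mem_Zloc hM hγKc (fun k => hγR.mem _))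
        (sameBlock_of_mem hM hg hψ hη)
    · rw [ind_of_notMem hψ, zero_mul]; exact memIdeal_zero hM
  have hvcf : cf (v : IrrCharacter (Subgroup.centralizer (R : Set G)) → ℂ) = fun k => conv (blockCoeff g) γK k - c * blockCoeff g k := by
    have e : (v : IrrCharacter (Subgroup.centralizer (R : Set G)) → ℂ) =
        ind g * (fun ψ : IrrCharacter (Subgroup.centralizer (R : Set G)) => omega (ψ : (Subgroup.centralizer (R : Set G)) → ℂ) γK) + -(c • ind g) := by
      funext ψ
      show ind g ψ * (omega (ψ : (Subgroup.centralizer (R : Set G)) → ℂ) γK - c) = ind g ψ * omega (ψ : (Subgroup.centralizer (R : Set G)) → ℂ) γK + -(c * ind g ψ)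
      ring
    rw [e, cf_add, cf_neg, cf_smul, cf_mul, cf_ind, cf_omega hγKc]
    funext k
    simp [sub_eq_add_neg]
  have nG := nice_subgroupBlockCoeff hM hC hg hst
  have nγ : Nice M P (sext (Subgroup.centralizer (R : Set G)) γK) :=
    nice_sext hM hK hC hγKc (fun k => hγR.mem _) fun r hr k k' hk => by
      simp only [hγK, hk, hγP.inv r hr]
  have e1 : sext (Subgroup.centralizer (R : Set G)) (cf (v : IrrCharacter (Subgroup.centralizer (R : Set G)) → ℂ)) =
      fun x => conv (sext (Subgroup.centralizer (R : Set G)) (blockCoeff g)) (sext (Subgroup.centralizer (R : Set G)) γK) x - (c • sext (Subgroup.centralizer (R : Set G)) (blockCoeff g)) x := by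
    rw [hvcf, sext_conv, ← sext_smul, ← sext_sub]
    rfl
  rw [subgroupBlockCoeff_eq] at nG h
  have nv : Nice M P (sext (Subgroup.centralizer (R : Set G)) (cf (v : IrrCharacter (Subgroup.centralizer (R : Set G)) → ℂ))) := by
    rw [e1]; exact (nG.conv hM nγ).sub hM (nG.smul hM hcm)
  have hpow : ∀ n : ℕ, Nice M P (sext (Subgroup.centralizer (R : Set G)) (cf ((v ^ (n + 1) : Zloc (Subgroup.centralizer (R : Set G)) hM) : IrrCharacter (Subgroup.centralizer (R : Set G)) → ℂ))) ∧
      lam hM P (sext (Subgroup.centralizer (R : Set G)) (cf ((v ^ (n + 1) : Zloc (Subgroup.centralizer (R : Set G)) hM) : IrrCharacter (Subgroup.centralizer (R : Set G)) → ℂ))) ξ =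
        lam hM P (sext (Subgroup.centralizer (R : Set G)) (cf (v : IrrCharacter (Subgroup.centralizer (R : Set G)) → ℂ))) ξ ^ (n + 1) := by
    intro n
    induction n with
    | zero => exact ⟨by simpa using nv, by simp⟩
    | succ n ih =>
      rw [pow_succ v (n + 1), Subring.coe_mul, cf_mul, ← sext_conv]
      exact ⟨ih.1.conv hM nv, by rw [lam_conv hM hP ih.1 nv, ih.2, ← pow_succ]⟩
  have hJ := pow_mem_Jloc hM v hvI
  obtain ⟨n, hn⟩ := Nat.exists_eq_succ_of_ne_zero
    (Fintype.card_pos_iff.2 ⟨η⟩ : 0 < Fintype.card (IrrCharacter (Subgroup.centralizer (R : Set G)))).ne'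
  rw [hn] at hJ
  have h0 : lam hM P (sext (Subgroup.centralizer (R : Set G)) (cf (v : IrrCharacter (Subgroup.centralizer (R : Set G)) → ℂ))) ξ = 0 := by
    refine eq_zero_of_pow_eq_zero (n := n + 1) ?_
    rw [← (hpow n).2]
    refine (lam_congr hM (hpow n).1 (Nice.zero hM) (fun x hx => ?_) ξ).trans (lam_zero hM ξ)
    have hxK : (x : G) ∈ (Subgroup.centralizer (R : Set G)) := hC hx
    have e := sext_coe (Subgroup.centralizer (R : Set G)) (cf ((v ^ (n + 1) : Zloc (Subgroup.centralizer (R : Set G)) hM) : IrrCharacter (Subgroup.centralizer (R : Set G)) → ℂ)) ⟨x, hxK⟩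
    simp only at e
    rw [res_zero, e, res_eq_zero_iff hM ((v ^ (n + 1)).2 _)]
    exact hJ ⟨x, hxK⟩
  rw [e1, lam_sub hM (nG.conv hM nγ) (nG.smul hM hcm), lam_conv hM hP nG nγ,
    lam_smul hM nG hcm, h, one_mul, mul_one, sub_eq_zero,
    lam_congr hM nγ hγP (fun x hx => congrArg (res hM) (sext_coe (Subgroup.centralizer (R : Set G)) γK ⟨x, hC hx⟩)) ξ] at h0
  exact h0

theorem isNormalSubpair_mk (hM : IsPModular p M) {Q P : Subgroup G} (hP : IsPGroup p P)
    (hQP : Q ≤ P) (hN : P ≤ Subgroup.normalizer (Q : Set G))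
    {f : Set (IrrCharacter (Subgroup.centralizer (Q : Set G)))} (hf : IsPBlock M f)
    (hst : ∀ x ∈ P, StabilizesBlock (Subgroup.centralizer (Q : Set G)) f x)
    {e : Set (IrrCharacter (Subgroup.centralizer (P : Set G)))} (he : IsPBlock M e)
    {ξ : IrrCharacter (Subgroup.centralizer (P : Set G))} (hξ : ξ ∈ e)
    (h : lam hM P (subgroupBlockCoeff (Subgroup.centralizer (Q : Set G)) f) ξ = 1) :
    IsNormalSubpair p M Q f P e :=
  ⟨⟨hP.to_le hQP, hf⟩, ⟨hP, he⟩, hQP, hN, hst,
    (forall_memIdeal_iff_lam hM (nice_subgroupBlockCoeff hM (centralizer_anti hQP) hf hst) he hξ).2 h⟩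

theorem normalSubpair_lam (hM : IsPModular p M) {Q P : Subgroup G}
    {f : Set (IrrCharacter (Subgroup.centralizer (Q : Set G)))}
    {e : Set (IrrCharacter (Subgroup.centralizer (P : Set G)))}
    (h : IsNormalSubpair p M Q f P e) {ξ : IrrCharacter (Subgroup.centralizer (P : Set G))}
    (hξ : ξ ∈ e) :
    lam hM P (subgroupBlockCoeff (Subgroup.centralizer (Q : Set G)) f) ξ = 1 :=
  (forall_memIdeal_iff_lam hM
    (nice_subgroupBlockCoeff hM (centralizer_anti h.2.2.1) h.1.2 h.2.2.2.2.1) h.2.1.2 hξ).1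
    h.2.2.2.2.2

theorem exists_normal_below (hM : IsPModular p M) {Q P : Subgroup G} (hP : IsPGroup p P)
    (hQP : Q ≤ P) (hN : P ≤ Subgroup.normalizer (Q : Set G))
    {e : Set (IrrCharacter (Subgroup.centralizer (P : Set G)))} (he : IsPBlock M e) :
    ∃ f, IsNormalSubpair p M Q f P e := by
  obtain ⟨ξ, hξ⟩ := bne hM he
  obtain ⟨f, hf, hst, hl⟩ := exists_stable_block hM hP
    (hN.trans (normalizer_le_normalizer_cent Q)) (centralizer_anti hQP) ξ
  exact ⟨f, isNormalSubpair_mk hM hP hQP hN hf hst he hξ hl⟩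

theorem normal_below_unique (hM : IsPModular p M) {Q P : Subgroup G}
    {f f' : Set (IrrCharacter (Subgroup.centralizer (Q : Set G)))}
    {e : Set (IrrCharacter (Subgroup.centralizer (P : Set G)))}
    (h : IsNormalSubpair p M Q f P e) (h' : IsNormalSubpair p M Q f' P e) : f = f' := by
  obtain ⟨ξ, hξ⟩ := bne hM h.2.1.2
  exact stable_block_unique hM h.2.1.1 (centralizer_anti h.2.2.1) ξ h.1.2 h'.1.2 h.2.2.2.2.1
    h'.2.2.2.2.1 (normalSubpair_lam hM h hξ) (normalSubpair_lam hM h' hξ)

theorem stabilizes_self (hM : IsPModular p M) {P : Subgroup G}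
    (e : Set (IrrCharacter (Subgroup.centralizer (P : Set G)))) {x : G} (hx : x ∈ P) :
    StabilizesBlock (Subgroup.centralizer (P : Set G)) e x := by
  refine ⟨normalizer_le_normalizer_cent P (Subgroup.le_normalizer hx),
    fun χ hχ => ⟨χ, hχ, fun k k' hk => congrArg _ (Subtype.ext ?_)⟩⟩
  rw [hk, k.2 x hx, mul_inv_cancel_right]

theorem isNormalSubpair_refl (hM : IsPModular p M) {P : Subgroup G} (hP : IsPGroup p P)
    {e : Set (IrrCharacter (Subgroup.centralizer (P : Set G)))} (he : IsPBlock M e) :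
    IsNormalSubpair p M P e P e := by
  haveI := Fintype.ofFinite (Subgroup.centralizer (P : Set G))
  obtain ⟨ξ, hξ⟩ := bne hM he
  refine isNormalSubpair_mk hM hP le_rfl Subgroup.le_normalizer he
    (fun x hx => stabilizes_self hM e hx) he hξ ?_
  rw [subgroupBlockCoeff_eq, lam_sext_centralizer hM, ind_of_mem hξ, res_one]

theorem normalSubpair_eq (hM : IsPModular p M) {P : Subgroup G}
    {f e : Set (IrrCharacter (Subgroup.centralizer (P : Set G)))}
    (h : IsNormalSubpair p M P f P e) : f = e :=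
  normal_below_unique hM h (isNormalSubpair_refl hM h.2.1.1 h.2.1.2)

/-- Transitivity when the smallest group is normal in the largest. -/
theorem normalSubpair_trans (hM : IsPModular p M) {Q R P : Subgroup G}
    {f : Set (IrrCharacter (Subgroup.centralizer (Q : Set G)))}
    {g : Set (IrrCharacter (Subgroup.centralizer (R : Set G)))}
    {e : Set (IrrCharacter (Subgroup.centralizer (P : Set G)))}
    (h1 : IsNormalSubpair p M Q f R g) (h2 : IsNormalSubpair p M R g P e)
    (hN : P ≤ Subgroup.normalizer (Q : Set G)) : IsNormalSubpair p M Q f P e := by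
  haveI := res_isDomain hM
  obtain ⟨⟨hQp, hf⟩, ⟨hRp, hg⟩, hQR, hRN, hstf, -⟩ := id h1
  obtain ⟨-, ⟨hPp, he⟩, hRP, hPN, hstg, -⟩ := id h2
  obtain ⟨η, hη⟩ := bne hM hg
  obtain ⟨ξ, hξ⟩ := bne hM he
  have hlg := normalSubpair_lam hM h2 hξ
  obtain ⟨f', hf', hst', hl'⟩ := exists_stable_block hM hPp
    (hN.trans (normalizer_le_normalizer_cent Q)) (centralizer_anti (hQR.trans hRP)) ξ
  have hn' := nice_subgroupBlockCoeff hM (centralizer_anti (hQR.trans hRP)) hf' hst'
  have hnR := nice_subgroupBlockCoeff hM (centralizer_anti hQR) hf'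
    (fun x hx => hst' x (hRP hx))
  have h3 := lam_trans hM hPp hRP hPN hg hstg hη hlg hn' hnR
  rw [hl'] at h3
  have := normal_below_unique hM h1 (isNormalSubpair_mk hM hRp hQR hRN hf'
    (fun x hx => hst' x (hRP hx)) hg hη h3.symm)
  subst this
  exact isNormalSubpair_mk hM hPp (hQR.trans hRP) hN hf' hst' he hξ hl'

theorem exists_lt_normalizing {P Q : Subgroup G} (hP : IsPGroup p P) [Fact p.Prime] (h : Q < P) :
    Q < P ⊓ Subgroup.normalizer (Q : Set G) := by
  refine lt_of_le_of_ne (le_inf h.le Subgroup.le_normalizer) fun hEq => ?_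
  haveI : Group.IsNilpotent P := hP.isNilpotent
  have hlt := Group.normalizerCondition_of_isNilpotent (G := P) (Q.subgroupOf P) (by
    rw [lt_top_iff_ne_top, Ne, Subgroup.subgroupOf_eq_top]; exact h.not_ge)
  obtain ⟨x, hx, hxQ⟩ := SetLike.exists_of_lt hlt
  refine hxQ (Subgroup.mem_subgroupOf.2 (hEq.ge ⟨x.2, ?_⟩))
  show (x : G) ∈ Subgroup.normalizer (Q : Set G)
  rw [Subgroup.mem_normalizer_iff] at hx ⊢
  intro r
  constructor
  · intro hr
    simpa [Subgroup.mem_subgroupOf] using (hx ⟨r, h.le hr⟩).1 (Subgroup.mem_subgroupOf.2 hr)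
  · intro hr
    have hrP : r ∈ P := by
      have := P.mul_mem (P.mul_mem (P.inv_mem x.2) (h.le hr)) x.2
      simpa [mul_assoc] using this
    simpa [Subgroup.mem_subgroupOf] using (hx ⟨r, hrP⟩).2 (Subgroup.mem_subgroupOf.2 hr)

theorem subpairLE_le {a b : BrauerPairIdx G}
    (h : Relation.ReflTransGen (NormalSubpairRel p M) a b) : a.1 ≤ b.1 := by
  induction h with
  | refl => exact le_rfl
  | tail _ h2 ih => exact ih.trans h2.2.2.1

/-- Existence and uniqueness of subpairs. -/
theorem existsUnique_subpair (hM : IsPModular p M) {P : Subgroup G} (hP : IsPGroup p P)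
    {e : Set (IrrCharacter (Subgroup.centralizer (P : Set G)))} (he : IsPBlock M e)
    (Q : Subgroup G) (hQP : Q ≤ P) :
    ∃! f : Set (IrrCharacter (Subgroup.centralizer (Q : Set G))),
      IsPBlock M f ∧ SubpairLE p M Q f P e := by
  haveI : Fact p.Prime := ⟨hM.1⟩
  induction Q using (measure fun Q : Subgroup G => Nat.card G - Nat.card Q).wf.induction with
  | h Q ih =>
    have hcard : ∀ R : Subgroup G, Q < R → Nat.card G - Nat.card R < Nat.card G - Nat.card Q := by
      intro R hR
      have h1 : Nat.card Q < Nat.card R := by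
        simpa [← SetLike.coe_sort_coe] using
          Set.ncard_lt_ncard (SetLike.coe_ssubset_coe.2 hR) (Set.toFinite _)
      have h2 := R.card_le_card_group
      omega
    -- steps into `P` leave `Q` strictly or are trivial
    have hfirst : ∀ {f : Set (IrrCharacter (Subgroup.centralizer (Q : Set G)))},
        SubpairLE p M Q f P e → ((⟨Q, f⟩ : BrauerPairIdx G) = ⟨P, e⟩) ∨
          ∃ R g, Q < R ∧ R ≤ P ∧ IsNormalSubpair p M Q f R g ∧ SubpairLE p M R g P e := by
      intro f hf
      unfold SubpairLE at hf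
      generalize hb : (⟨Q, f⟩ : BrauerPairIdx G) = a at hf
      induction hf using Relation.ReflTransGen.head_induction_on with
      | refl => exact Or.inl rfl
      | head h1 h2 ih2 =>
        subst hb
        rename_i c
        obtain ⟨R, g⟩ := c
        rcases lt_or_eq_of_le (show Q ≤ R from h1.2.2.1) with hlt | heq
        · exact Or.inr ⟨R, g, hlt, subpairLE_le h2, h1, h2⟩
        · subst heq
          have h1' : f = g := normalSubpair_eq hM h1
          subst h1'
          exact ih2 rfl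
    rcases lt_or_eq_of_le hQP with hlt | rfl
    · set N := P ⊓ Subgroup.normalizer (Q : Set G) with hNdef
      have hQN : Q < N := exists_lt_normalizing hP hlt
      obtain ⟨g, ⟨hg, hgle⟩, -⟩ := ih N (hcard N hQN) inf_le_left
      obtain ⟨f, hf⟩ := exists_normal_below hM (hP.to_le inf_le_left) hQN.le
        (inf_le_right : N ≤ _) hg
      refine ⟨f, ⟨hf.1.2, Relation.ReflTransGen.head (show NormalSubpairRel p M ⟨Q, f⟩ ⟨N, g⟩ from hf) hgle⟩, ?_⟩
      rintro f' ⟨hf', hle⟩
      rcases hfirst hle with h | ⟨R, g', hQR, hRP, hstep, hR⟩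
      · exact absurd (congrArg Sigma.fst h) hlt.ne
      -- push the step up to `N`
      suffices key : ∀ R : Subgroup G, Q < R → R ≤ N → ∀ g', SubpairLE p M R g' P e →
          IsNormalSubpair p M Q f' R g' → IsNormalSubpair p M Q f' N g by
        exact normal_below_unique hM
          (key R hQR (le_inf hRP hstep.2.2.2.1) g' hR hstep) hf
      intro R
      induction R using (measure fun R : Subgroup G => Nat.card G - Nat.card R).wf.induction with
      | h R ihR =>
        intro hQR hRN g' hR hstep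
        rcases lt_or_eq_of_le hRN with hRlt | rfl
        · set R' := N ⊓ Subgroup.normalizer (R : Set G) with hR'
          have hRR' : R < R' := exists_lt_normalizing (hP.to_le inf_le_left) hRlt
          have hR'P : R' ≤ P := inf_le_left.trans inf_le_left
          obtain ⟨g₂, ⟨hg₂, hg₂le⟩, -⟩ := ih R' (hcard R' (hQR.trans hRR')) hR'P
          obtain ⟨g₁, hg₁⟩ := exists_normal_below hM (hP.to_le hR'P) hRR'.le
            (inf_le_right : R' ≤ _) hg₂
          obtain ⟨u0, -, huniq⟩ := ih R (hcard R hQR) (hRN.trans inf_le_left)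
          have e1 : g' = g₁ := (huniq g' ⟨hstep.2.1.2, hR⟩).trans
            (huniq g₁ ⟨hg₁.1.2, Relation.ReflTransGen.head (show NormalSubpairRel p M ⟨R, g₁⟩ ⟨R', g₂⟩ from hg₁) hg₂le⟩).symm
          subst e1
          refine ihR R' ?_ (hQR.trans hRR') inf_le_left g₂ hg₂le
            (normalSubpair_trans hM hstep hg₁ (inf_le_left.trans inf_le_right))
          show Nat.card G - Nat.card R' < Nat.card G - Nat.card R
          have h1 : Nat.card R < Nat.card R' := by
            simpa [← SetLike.coe_sort_coe] using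
              Set.ncard_lt_ncard (SetLike.coe_ssubset_coe.2 hRR') (Set.toFinite _)
          have h2 := R'.card_le_card_group
          omega
        · obtain ⟨u0, -, huniq⟩ := ih N (hcard N hQN) inf_le_left
          have e1 : g' = g := (huniq g' ⟨hstep.2.1.2, hR⟩).trans (huniq g ⟨hg, hgle⟩).symm
          exact e1 ▸ hstep
    · refine ⟨e, ⟨he, Relation.ReflTransGen.refl⟩, ?_⟩
      rintro f' ⟨hf', hle⟩
      rcases hfirst hle with h | ⟨R, g', hQR, hRP, -, -⟩
      · exact eq_of_heq (Sigma.mk.inj_iff.1 h).2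
      · exact absurd hRP hQR.not_ge

/-- Membership in a block propagates along a normal inclusion. -/
theorem pairOf_normalSubpair_iff (hM : IsPModular p M) {Q P : Subgroup G}
    {f : Set (IrrCharacter (Subgroup.centralizer (Q : Set G)))}
    {e : Set (IrrCharacter (Subgroup.centralizer (P : Set G)))}
    (h : IsNormalSubpair p M Q f P e) (B : Set (IrrCharacter G)) :
    IsBrauerPairOf p M B Q f ↔ IsBrauerPairOf p M B P e := by
  unfold IsBrauerPairOf
  obtain ⟨⟨hQp, hf⟩, ⟨hPp, he⟩, hQP, hN, hst, -⟩ := id h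
  obtain ⟨η, hη⟩ := bne hM hf
  obtain ⟨ξ, hξ⟩ := bne hM he
  by_cases hB : IsPBlock M B
  · rw [forall_memIdeal_iff_lam hM (nice_blockCoeff hM hB) hf hη,
      forall_memIdeal_iff_lam hM (nice_blockCoeff hM hB) he hξ,
      lam_trans hM hPp hQP hN hf hst hη (normalSubpair_lam hM h hξ) (nice_blockCoeff hM hB)
        (nice_blockCoeff hM hB)]
    simp [IsBrauerPair, hQp, hf, hPp, he, hB]
  · simp [hB]

theorem pairOf_subpair_iff (hM : IsPModular p M) {a b : BrauerPairIdx G}
    (h : Relation.ReflTransGen (NormalSubpairRel p M) a b) (B : Set (IrrCharacter G)) :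
    IsBrauerPairOf p M B a.1 a.2 ↔ IsBrauerPairOf p M B b.1 b.2 := by
  induction h with
  | refl => exact Iff.rfl
  | tail _ h2 ih => exact ih.trans (pairOf_normalSubpair_iff hM h2 B)

theorem pairOf_lam (hM : IsPModular p M) {B : Set (IrrCharacter G)} {P : Subgroup G}
    {e : Set (IrrCharacter (Subgroup.centralizer (P : Set G)))}
    (h : IsBrauerPairOf p M B P e) {ξ : IrrCharacter (Subgroup.centralizer (P : Set G))}
    (hξ : ξ ∈ e) : lam hM P (blockCoeff B) ξ = 1 :=
  (forall_memIdeal_iff_lam hM (nice_blockCoeff hM h.2.1) h.1.2 hξ).1 h.2.2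

theorem lam_irr_mem (hM : IsPModular p M) {B : Set (IrrCharacter G)} (hB : IsPBlock M B)
    {P : Subgroup G} {ξ : IrrCharacter (Subgroup.centralizer (P : Set G))} {φ : IrrCharacter G}
    (hφ : ∀ f : G → ℂ, IsClassFunction G f → (∀ x, MemLocalRing M (f x)) →
      lam hM P f ξ = res hM (omega (φ : G → ℂ) f))
    (h : lam hM P (blockCoeff B) ξ = 1) : φ ∈ B := by
  haveI := res_isDomain hM
  rw [hφ _ (blockCoeff_isClassFunction B) (memRing_blockCoeff hM hB), ← cf_ind, omega_cf] at h
  by_contra hc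
  rw [ind_of_notMem hc, res_zero] at h
  exact zero_ne_one h

/-- The set of characters of a pair, read on the whole group. -/
def valSet (a : BrauerPairIdx G) : Set (G → ℂ) :=
  (fun ξ : IrrCharacter (Subgroup.centralizer (a.1 : Set G)) =>
    sext (Subgroup.centralizer (a.1 : Set G)) (ξ : Subgroup.centralizer (a.1 : Set G) → ℂ)) '' a.2

theorem idx_ext {a b : BrauerPairIdx G} (h1 : a.1 = b.1) (h2 : valSet a = valSet b) : a = b := by
  obtain ⟨Q, f⟩ := a
  obtain ⟨P, e⟩ := b
  change Q = P at h1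
  subst h1
  have hinj : Function.Injective fun ξ : IrrCharacter (Subgroup.centralizer (Q : Set G)) =>
      sext (Subgroup.centralizer (Q : Set G)) (ξ : Subgroup.centralizer (Q : Set G) → ℂ) :=
    fun x y h => Subtype.ext (funext fun k => by
      have := congrFun h (k : G)
      simp only [sext_coe] at this
      exact this)
  have h3 : f = e := hinj.image_injective h2
  rw [h3]

/-- The conjugate pair. -/
noncomputable def conjIdx (x : G) (a : BrauerPairIdx G) : BrauerPairIdx G :=
  ⟨a.1.map (MulAut.conj x).toMonoidHom, conjBlock a.1 x a.2⟩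

theorem conj_mem_cent_iff (Q : Subgroup G) (x c : G) :
    c ∈ Subgroup.centralizer ((Q.map (MulAut.conj x).toMonoidHom : Subgroup G) : Set G) ↔
      x⁻¹ * c * x ∈ Subgroup.centralizer (Q : Set G) := by
  constructor
  · intro h q hq
    have := h (x * q * x⁻¹) ⟨q, hq, by simp⟩
    calc q * (x⁻¹ * c * x) = x⁻¹ * (x * q * x⁻¹ * c) * x := by group
      _ = x⁻¹ * (c * (x * q * x⁻¹)) * x := by rw [this]
      _ = x⁻¹ * c * x * q := by group
  · rintro h _ ⟨q, hq, rfl⟩
    have := h q hq
    simp only [MulEquiv.coe_toMonoidHom, MulAut.conj_apply]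
    calc x * q * x⁻¹ * c = x * (q * (x⁻¹ * c * x)) * x⁻¹ := by group
      _ = x * (x⁻¹ * c * x * q) * x⁻¹ := by rw [this]
      _ = c * (x * q * x⁻¹) := by group

/-- `c' ↦ x⁻¹ c' x` between centralizers. -/
def centE (Q : Subgroup G) (x : G) :
    Subgroup.centralizer ((Q.map (MulAut.conj x).toMonoidHom : Subgroup G) : Set G) ≃*
      Subgroup.centralizer (Q : Set G) where
  toFun c := ⟨x⁻¹ * (c : G) * x, (conj_mem_cent_iff Q x c).1 c.2⟩
  invFun k := ⟨x * (k : G) * x⁻¹, (conj_mem_cent_iff Q x _).2 (by simp [mul_assoc])⟩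
  left_inv c := Subtype.ext (by simp [mul_assoc])
  right_inv k := Subtype.ext (by simp [mul_assoc])
  map_mul' a b := by
    apply Subtype.ext
    show x⁻¹ * ((a : G) * b) * x = x⁻¹ * (a : G) * x * (x⁻¹ * (b : G) * x)
    group

theorem conjBlock_eq (Q : Subgroup G) (x : G)
    (f : Set (IrrCharacter (Subgroup.centralizer (Q : Set G)))) :
    conjBlock Q x f = irrPull (centE Q x) '' f := by
  ext ξ'
  constructor
  · rintro ⟨ξ, hξ, h⟩
    refine ⟨ξ, hξ, Subtype.ext (funext fun c' => (h (centE Q x c') c' ?_).symm)⟩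
    show (c' : G) = x * (x⁻¹ * (c' : G) * x) * x⁻¹
    group
  · rintro ⟨ξ, hξ, rfl⟩
    refine ⟨ξ, hξ, fun c c' hc => ?_⟩
    rw [irrPull_apply]
    refine congrArg _ ?_
    apply Subtype.ext
    show x⁻¹ * (c' : G) * x = c
    rw [hc]; group

theorem valSet_conjIdx (x : G) (a : BrauerPairIdx G) :
    valSet (conjIdx x a) = (fun F g => F (x⁻¹ * g * x)) '' valSet a := by
  obtain ⟨Q, f⟩ := a
  show (fun ξ : IrrCharacter (Subgroup.centralizer
      ((Q.map (MulAut.conj x).toMonoidHom : Subgroup G) : Set G)) =>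
      sext (Subgroup.centralizer ((Q.map (MulAut.conj x).toMonoidHom : Subgroup G) : Set G))
        (ξ : Subgroup.centralizer ((Q.map (MulAut.conj x).toMonoidHom : Subgroup G) : Set G) → ℂ))
      '' conjBlock Q x f = _
  simp only [valSet, conjBlock_eq, Set.image_image]
  refine Set.image_congr fun ξ _ => funext fun g => ?_
  by_cases h : g ∈ Subgroup.centralizer ((Q.map (MulAut.conj x).toMonoidHom : Subgroup G) : Set G)
  · have e1 := sext_coe _ (irrPull (centE Q x) ξ : _ → ℂ) ⟨g, h⟩
    have e2 := sext_coe _ (ξ : _ → ℂ) (centE Q x ⟨g, h⟩)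
    exact e1.trans e2.symm
  · rw [sext_off _ _ h, sext_off _ _ (mt (conj_mem_cent_iff Q x g).2 h)]

theorem conjIdx_mul (x y : G) (a : BrauerPairIdx G) :
    conjIdx x (conjIdx y a) = conjIdx (x * y) a := by
  refine idx_ext (conjMap_mul a.1 x y) ?_
  rw [valSet_conjIdx, valSet_conjIdx, valSet_conjIdx, Set.image_image]
  refine Set.image_congr fun F _ => funext fun g => ?_
  simp [mul_assoc]

theorem conjIdx_one (a : BrauerPairIdx G) : conjIdx 1 a = a := by
  refine idx_ext (conjMap_one a.1) ?_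
  rw [valSet_conjIdx]
  simp

theorem sext_conjBlock {Q : Subgroup G} (x : G)
    (f : Set (IrrCharacter (Subgroup.centralizer (Q : Set G)))) (g : G) :
    subgroupBlockCoeff (Subgroup.centralizer
      ((Q.map (MulAut.conj x).toMonoidHom : Subgroup G) : Set G)) (conjBlock Q x f) g =
      subgroupBlockCoeff (Subgroup.centralizer (Q : Set G)) f (x⁻¹ * g * x) := by
  classical
  rw [conjBlock_eq, subgroupBlockCoeff_eq, subgroupBlockCoeff_eq]
  by_cases h : g ∈ Subgroup.centralizer ((Q.map (MulAut.conj x).toMonoidHom : Subgroup G) : Set G)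
  · have e1 := sext_coe _ (blockCoeff (irrPull (centE Q x) '' f)) ⟨g, h⟩
    have e2 := sext_coe _ (blockCoeff f) (centE Q x ⟨g, h⟩)
    refine e1.trans (Eq.trans ?_ e2.symm)
    exact blockCoeff_image _ _ _
  · rw [sext_off _ _ h, sext_off _ _ (mt (conj_mem_cent_iff Q x g).2 h)]

theorem brauerOmega_conj (P : Subgroup G) (x : G) (β : G → ℂ)
    (ξ : IrrCharacter (Subgroup.centralizer (P : Set G))) :
    brauerOmega (P.map (MulAut.conj x).toMonoidHom) β (irrPull (centE P x) ξ : _ → ℂ) =
      brauerOmega P (fun g => β (x * g * x⁻¹)) (ξ : _ → ℂ) := by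
  simp only [brauerOmega]
  refine finsum_eq_of_bijective (centE P x) (centE P x).bijective fun c => ?_
  simp only [irrPull_apply, map_one]
  congr 2
  refine congrArg β ?_
  show (c : G) = x * (x⁻¹ * (c : G) * x) * x⁻¹
  group

theorem pairOf_conj (hM : IsPModular p M) {B : Set (IrrCharacter G)} {a : BrauerPairIdx G}
    (h : IsBrauerPairOf p M B a.1 a.2) (x : G) :
    IsBrauerPairOf p M B (conjIdx x a).1 (conjIdx x a).2 := by
  obtain ⟨Q, f⟩ := a
  obtain ⟨⟨hQ, hf⟩, hB, h1⟩ := h
  change IsBrauerPairOf p M B (Q.map (MulAut.conj x).toMonoidHom) (conjBlock Q x f)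
  rw [conjBlock_eq]
  refine ⟨⟨hQ.map _, isPBlock_image _ hf⟩, hB, ?_⟩
  rintro _ ⟨ξ, hξ, rfl⟩
  rw [brauerOmega_conj]
  simp only [blockCoeff_isClassFunction B _ x]
  exact h1 ξ hξ

theorem normalSubpair_conj (hM : IsPModular p M) {a b : BrauerPairIdx G}
    (h : NormalSubpairRel p M a b) (x : G) :
    NormalSubpairRel p M (conjIdx x a) (conjIdx x b) := by
  obtain ⟨Q, f⟩ := a
  obtain ⟨P, e⟩ := b
  obtain ⟨⟨hQp, hf⟩, ⟨hPp, he⟩, hQP, hN, hst, h1⟩ := h
  refine ⟨⟨hQp.map _, ?_⟩, ⟨hPp.map _, ?_⟩, Subgroup.map_mono hQP, ?_, ?_, ?_⟩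
  · show IsPBlock M (conjBlock Q x f)
    rw [conjBlock_eq]; exact isPBlock_image _ hf
  · show IsPBlock M (conjBlock P x e)
    rw [conjBlock_eq]; exact isPBlock_image _ he
  · rintro _ ⟨r, hr, rfl⟩
    show (MulAut.conj x).toMonoidHom r ∈
      Subgroup.normalizer ((Q.map (MulAut.conj x).toMonoidHom : Subgroup G) : Set G)
    rw [Subgroup.mem_normalizer_iff]
    intro z
    rw [conjMap_mem_iff, conjMap_mem_iff, Subgroup.mem_normalizer_iff.1 (hN hr) (x⁻¹ * z * x)]
    simp [mul_assoc]
  · rintro _ ⟨r, hr, rfl⟩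
    obtain ⟨hrN, hrc⟩ := hst r hr
    refine ⟨normalizer_le_normalizer_cent _ ?_, ?_⟩
    · show (MulAut.conj x).toMonoidHom r ∈
        Subgroup.normalizer ((Q.map (MulAut.conj x).toMonoidHom : Subgroup G) : Set G)
      rw [Subgroup.mem_normalizer_iff]
      intro z
      rw [conjMap_mem_iff, conjMap_mem_iff, Subgroup.mem_normalizer_iff.1 (hN hr) (x⁻¹ * z * x)]
      simp [mul_assoc]
    · show ∀ χ ∈ conjBlock Q x f, ∃ χ' ∈ conjBlock Q x f, IsConjCharOf _ _ _ _
      rw [conjBlock_eq]
      rintro _ ⟨χ, hχ, rfl⟩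
      obtain ⟨χ', hχ', hc⟩ := hrc χ hχ
      refine ⟨_, ⟨χ', hχ', rfl⟩, fun k k' hk => ?_⟩
      show (χ' : Subgroup.centralizer (Q : Set G) → ℂ) (centE Q x k') =
        (χ : Subgroup.centralizer (Q : Set G) → ℂ) (centE Q x k)
      refine hc _ _ ?_
      show x⁻¹ * (k' : G) * x = r * (x⁻¹ * (k : G) * x) * r⁻¹
      rw [hk]; simp [mul_assoc]
  · show ∀ ξ ∈ conjBlock P x e, MemLocalIdeal M (brauerOmega _ (subgroupBlockCoeff _
      (conjBlock Q x f)) _ - 1)
    intro ξ' hξ'
    rw [conjBlock_eq] at hξ'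
    obtain ⟨ξ, hξ, rfl⟩ := hξ'
    show MemLocalIdeal M (brauerOmega (P.map (MulAut.conj x).toMonoidHom)
      (subgroupBlockCoeff _ (conjBlock Q x f)) _ - 1)
    rw [brauerOmega_conj]
    simp only [sext_conjBlock]
    have e : (fun g => subgroupBlockCoeff (Subgroup.centralizer (Q : Set G)) f
        (x⁻¹ * (x * g * x⁻¹) * x)) = subgroupBlockCoeff (Subgroup.centralizer (Q : Set G)) f :=
      funext fun g => by congr 1; group
    rw [e]
    exact h1 ξ hξ

theorem subpair_conj (hM : IsPModular p M) {a b : BrauerPairIdx G}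
    (h : Relation.ReflTransGen (NormalSubpairRel p M) a b) (x : G) :
    Relation.ReflTransGen (NormalSubpairRel p M) (conjIdx x a) (conjIdx x b) :=
  Relation.ReflTransGen.lift (conjIdx x) (fun _ _ h => normalSubpair_conj hM h x) _ _ h

end CfsgLib.Blocks
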