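import Cfsg.Agent.Lib.Blocks.EigenLattice
import Cfsg.Agent.Lib.Blocks.SectionBound

/-!
# `k(B) ≤ p ^ d` for a major subsection with at most two Brauer characters
-/

namespace CfsgLib.Blocks

open Cfsg CfsgLib.CharTheory
open scoped ComplexConjugate

set_option linter.unusedVariables false
set_option linter.unusedSimpArgs false
set_option linter.style.haveILetI false
set_option linter.unusedSectionVars false

universe u

variable {p : ℕ} {M : Ideal AlgInt} {G : Type u} [Group G] [Fintype G] {x : G} {H : Subgroup G}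
  [Fintype H] {b : Set (IrrCharacter H)} {B : Set (IrrCharacter G)}

/-- The combination of the section coefficients by an integral vector. -/
noncomputable def sCoord (x : G) (H : Subgroup G) [Fintype H] (θ : IrrCharacter G)
    (u : IrrCharacter H → ℤ) : ℂ :=
  ∑ φ : IrrCharacter H, classInner (sec x H (θ : G → ℂ)) (φ : H → ℂ) * (u φ : ℂ)

theorem sCoord_sub (θ : IrrCharacter G) (u v : IrrCharacter H → ℤ) :
    sCoord x H θ (u - v) = sCoord x H θ u - sCoord x H θ v := by
  simp only [sCoord, Pi.sub_apply, Int.cast_sub, mul_sub, Finset.sum_sub_distrib]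

theorem sCoord_props (hM : IsPModular p M) (hH : IsCentr x H) {k : ℕ} (hk : orderOf x = p ^ k)
    (θ : IrrCharacter G) (u : IrrCharacter H → ℤ) :
    sCoord x H θ u ∈ rootField (p ^ k) ∧ IsIntegral ℤ (sCoord x H θ u) :=
  ⟨sum_mem fun φ _ => mul_mem (coeff_props hM hH hk θ φ).1 (intCast_mem _ _),
    IsIntegral.sum _ fun φ _ => (coeff_props hM hH hk θ φ).2.mul (isIntegral_intCast' _)⟩

theorem secQ_idem (hM : IsPModular p M) (hb : IsPBlock M b) (φ χ : IrrCharacter H) :
    ∑ ψ : IrrCharacter H, secQ p b φ ψ * secQ p b ψ χ =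
      (p : ℤ) ^ blockDefect p b * secQ p b φ χ := by
  classical
  by_cases h : φ ∈ b ∧ χ ∈ b
  swap
  · rw [secQ_off h, mul_zero]
    refine Finset.sum_eq_zero fun ψ _ => ?_
    by_cases hφ : φ ∈ b
    · rw [secQ_off (fun h' => h ⟨hφ, h'.2⟩ : ¬ (ψ ∈ b ∧ χ ∈ b)), mul_zero]
    · rw [secQ_off (fun h' => hφ h'.1 : ¬ (φ ∈ b ∧ ψ ∈ b)), zero_mul]
  rw [← Finset.sum_subset (Finset.subset_univ (bset b)) fun ψ _ hψ => by
    rw [secQ_off (fun h' => hψ (mem_bset.2 h'.2) : ¬ (φ ∈ b ∧ ψ ∈ b)), zero_mul]]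
  have hH0 : (Nat.card H : ℂ) ≠ 0 := Nat.cast_ne_zero.2 Nat.card_pos.ne'
  set P : ℂ := (p : ℂ) ^ blockDefect p b with hP
  have key : ∑ ψ ∈ bset b, regS p (φ : H → ℂ) (ψ : H → ℂ) * regS p (ψ : H → ℂ) (χ : H → ℂ) =
      (Nat.card H : ℂ) * regS p (φ : H → ℂ) (χ : H → ℂ) := by
    have h1 : ∀ ψ : IrrCharacter H, regS p (φ : H → ℂ) (ψ : H → ℂ) * regS p (ψ : H → ℂ) (χ : H → ℂ) =
        ∑ g, regFn p (χ : H → ℂ) g * (regS p (φ : H → ℂ) (ψ : H → ℂ) * (ψ : H → ℂ) g) := fun ψ => by
      simp only [regS, Finset.mul_sum]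
      exact Finset.sum_congr rfl fun g _ => by ring
    rw [Finset.sum_congr rfl fun ψ _ => h1 ψ, Finset.sum_comm]
    conv_rhs => rw [regS, Finset.mul_sum]
    refine Finset.sum_congr rfl fun g _ => ?_
    rw [← Finset.mul_sum, sum_regS_mul hM hb φ g, ind_of_mem h.1]
    by_cases hg : p ∣ orderOf g
    · simp [regFn, hg]
    · rw [if_neg hg]; ring
  have e : ((Nat.card H : ℂ) ^ 2) * ∑ ψ ∈ bset b, (secQ p b φ ψ : ℂ) * (secQ p b ψ χ : ℂ) =
      ((Nat.card H : ℂ) ^ 2) * (P * (secQ p b φ χ : ℂ)) := by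
    calc _ = ∑ ψ ∈ bset b, ((Nat.card H : ℂ) * (secQ p b φ ψ : ℂ)) *
          ((Nat.card H : ℂ) * (secQ p b ψ χ : ℂ)) := by
          rw [Finset.mul_sum]; exact Finset.sum_congr rfl fun ψ _ => by ring
      _ = ∑ ψ ∈ bset b, P ^ 2 * (regS p (φ : H → ℂ) (ψ : H → ℂ) *
          regS p (ψ : H → ℂ) (χ : H → ℂ)) := Finset.sum_congr rfl fun ψ hψ => by
          rw [← secQ_spec hM hb h.1 (mem_bset.1 hψ), ← secQ_spec hM hb (mem_bset.1 hψ) h.2]; ring
      _ = _ := by
          rw [← Finset.mul_sum, key, show (Nat.card H : ℂ) ^ 2 * (P * (secQ p b φ χ : ℂ)) =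
            (Nat.card H : ℂ) * P * ((Nat.card H : ℂ) * (secQ p b φ χ : ℂ)) by ring,
            ← secQ_spec hM hb h.1 h.2]
          ring
  have e2 := mul_left_cancel₀ (pow_ne_zero 2 hH0) e
  rw [hP] at e2
  exact_mod_cast e2

theorem secQ_trace (hM : IsPModular p M) (hb : IsPBlock M b) :
    ∑ φ : IrrCharacter H, secQ p b φ φ = (blockRank p b : ℤ) * (p : ℤ) ^ blockDefect p b := by
  classical
  rw [← Finset.sum_subset (Finset.subset_univ (bset b)) fun φ _ hφ =>
    secQ_off (fun h' => hφ (mem_bset.2 h'.2))]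
  have hH0 : (Nat.card H : ℂ) ≠ 0 := Nat.cast_ne_zero.2 Nat.card_pos.ne'
  have e : (Nat.card H : ℂ) * ∑ φ ∈ bset b, (secQ p b φ φ : ℂ) =
      (Nat.card H : ℂ) * ((blockRank p b : ℂ) * (p : ℂ) ^ blockDefect p b) := by
    rw [← mul_assoc, card_mul_blockRank hM hb, Finset.mul_sum, Finset.sum_mul]
    exact Finset.sum_congr rfl fun φ hφ => by
      rw [← secQ_spec hM hb (mem_bset.1 hφ) (mem_bset.1 hφ)]; ring
  have e2 := mul_left_cancel₀ hH0 e
  exact_mod_cast e2

theorem lat_off (hM : IsPModular p M) {u : IrrCharacter H → ℤ}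
    (hu : u ∈ EigenLattice.lat (secQ p b) ((p : ℤ) ^ blockDefect p b)) {φ : IrrCharacter H}
    (hφ : φ ∉ b) : u φ = 0 := by
  have h := hu φ
  rw [Finset.sum_eq_zero (fun ψ _ => by rw [secQ_off (fun h' => hφ h'.1), zero_mul]),
    eq_comm, mul_eq_zero] at h
  exact h.resolve_left (pow_ne_zero _ (Int.natCast_ne_zero.2 hM.1.ne_zero))

/-- An eigenvector has the same norm after the section map. -/
theorem sum_sCoord_sq (hM : IsPModular p M) (hH : IsCentr x H)
    (hx : ∃ k : ℕ, orderOf x = p ^ k) (hind : IsInducedBlock M H b B) {u : IrrCharacter H → ℤ}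
    (hu : u ∈ EigenLattice.lat (secQ p b) ((p : ℤ) ^ blockDefect p b)) :
    ∑ θ ∈ bset B, sCoord x H θ u * conj (sCoord x H θ u) = (EigenLattice.ip u u : ℂ) := by
  classical
  have hb := hind.1
  set R := Finset.univ.filter (fun c : H => ¬ p ∣ orderOf c) with hR
  set f : H → ℂ := fun c => ∑ φ : IrrCharacter H, (u φ : ℂ) * conj ((φ : H → ℂ) c) with hf
  have hH0 : (Nat.card H : ℂ) ≠ 0 := Nat.cast_ne_zero.2 Nat.card_pos.ne'
  have hP0 : (p : ℂ) ^ blockDefect p b ≠ 0 := pow_ne_zero _ (Nat.cast_ne_zero.2 hM.1.ne_zero)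
  have hpair : ∀ ψ ∈ bset b, ∑ c ∈ R, (ψ : H → ℂ) c * f c = (Nat.card H : ℂ) * (u ψ : ℂ) := by
    intro ψ hψ
    have e : ∑ c ∈ R, (ψ : H → ℂ) c * f c =
        ∑ φ : IrrCharacter H, (u φ : ℂ) * regS p (ψ : H → ℂ) (φ : H → ℂ) := by
      simp only [hf, Finset.mul_sum]
      rw [Finset.sum_comm]
      refine Finset.sum_congr rfl fun φ _ => ?_
      rw [regS_eq_sum, Finset.mul_sum]
      exact Finset.sum_congr rfl fun c _ => by rw [irr_inv]; ring
    refine mul_left_cancel₀ hP0 ?_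
    rw [e, Finset.mul_sum]
    calc ∑ φ : IrrCharacter H, (p : ℂ) ^ blockDefect p b *
          ((u φ : ℂ) * regS p (ψ : H → ℂ) (φ : H → ℂ))
        = ∑ φ : IrrCharacter H, (Nat.card H : ℂ) * (((secQ p b ψ φ * u φ : ℤ)) : ℂ) := by
          refine Finset.sum_congr rfl fun φ _ => ?_
          by_cases hφ : φ ∈ b
          · push_cast
            rw [← mul_assoc (Nat.card H : ℂ), ← secQ_spec hM hb (mem_bset.1 hψ) hφ]; ring
          · rw [lat_off hM hu hφ]; simp
      _ = _ := by
          rw [← Finset.mul_sum, ← Int.cast_sum, hu ψ]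
          push_cast
          ring
  have hβ : ∀ θ : IrrCharacter G, ∑ c ∈ R, blockPart b (sec x H (θ : G → ℂ)) c * f c =
      (Nat.card H : ℂ) * sCoord x H θ u := by
    intro θ
    simp only [blockPart_apply, Finset.sum_mul, mul_assoc]
    rw [Finset.sum_comm, sCoord, ← Finset.sum_subset (Finset.subset_univ (bset b))
      fun φ _ hφ => by rw [lat_off hM hu (fun h' => hφ (mem_bset.2 h'))]; simp, Finset.mul_sum]
    refine Finset.sum_congr rfl fun φ hφ => ?_
    rw [← Finset.mul_sum, hpair φ hφ]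
    ring
  have hmain := sum_sq_pairing hM hH hx hb f
  simp only [← hR, hβ] at hmain
  have hmain' : ∑ θ ∈ bset B, (Nat.card H : ℂ) * sCoord x H θ u *
      conj ((Nat.card H : ℂ) * sCoord x H θ u) =
      ∑ φ ∈ bset b, (Nat.card H : ℂ) * (u φ : ℂ) * conj ((Nat.card H : ℂ) * (u φ : ℂ)) := by
    refine ((Finset.sum_subset (Finset.subset_univ (bset B)) fun θ _ hθ => ?_).trans hmain).trans
      (Finset.sum_congr rfl fun φ hφ => by rw [hpair φ hφ])
    rw [← hβ θ, Finset.sum_eq_zero fun c hc => by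
      rw [blockPart_sec_off hM hH hx hind (fun h' => hθ (mem_bset.2 h'))
        (Finset.mem_filter.1 hc).2, zero_mul]]
    simp
  refine mul_left_cancel₀ (mul_ne_zero hH0 hH0) ?_
  rw [EigenLattice.ip, Int.cast_sum, Finset.mul_sum, Finset.mul_sum]
  calc ∑ θ ∈ bset B, (Nat.card H : ℂ) * (Nat.card H : ℂ) *
        (sCoord x H θ u * conj (sCoord x H θ u))
      = ∑ θ ∈ bset B, (Nat.card H : ℂ) * sCoord x H θ u *
          conj ((Nat.card H : ℂ) * sCoord x H θ u) := Finset.sum_congr rfl fun θ _ => by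
        rw [map_mul, map_natCast]; ring
    _ = ∑ φ ∈ bset b, (Nat.card H : ℂ) * (u φ : ℂ) * conj ((Nat.card H : ℂ) * (u φ : ℂ)) := hmain'
    _ = ∑ φ : IrrCharacter H, (Nat.card H : ℂ) * (Nat.card H : ℂ) * ((u φ * u φ : ℤ) : ℂ) := by
        rw [← Finset.sum_subset (Finset.subset_univ (bset b))
          fun φ _ hφ => by rw [lat_off hM hu (fun h' => hφ (mem_bset.2 h'))]; simp]
        refine Finset.sum_congr rfl fun φ _ => ?_
        rw [map_mul, map_natCast, map_intCast]
        push_cast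
        ring

theorem secPair_sCoord (hM : IsPModular p M) (hb : IsPBlock M b) (χ θ : IrrCharacter G) :
    secPair p x b (χ : G → ℂ) (θ : G → ℂ) = ∑ φ : IrrCharacter H,
      classInner (sec x H (χ : G → ℂ)) (φ : H → ℂ) *
        conj (sCoord x H θ fun ψ => secQ p b φ ψ) := by
  classical
  rw [secPair_eq hM hb, ← Finset.sum_subset (Finset.subset_univ (bset b)) fun φ _ hφ => by
    rw [sCoord, Finset.sum_eq_zero fun ψ _ => by
      rw [secQ_off (fun h' => hφ (mem_bset.2 h'.1)), Int.cast_zero, mul_zero]]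
    simp]
  refine Finset.sum_congr rfl fun φ hφ => ?_
  rw [sCoord, ← Finset.sum_subset (Finset.subset_univ (bset b)) fun ψ _ hψ => by
    rw [secQ_off (fun h' => hψ (mem_bset.2 h'.2)), Int.cast_zero, mul_zero], map_sum, Finset.mul_sum]
  exact Finset.sum_congr rfl fun ψ _ => by rw [map_mul, map_intCast, mul_assoc]

/-- An integral combination of the contributions that is a unit at a character of height zero
vanishes nowhere. -/
theorem sCoord_ne_zero (hM : IsPModular p M) (hH : IsCentr x H)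
    (hx : ∃ k : ℕ, orderOf x = p ^ k) (hind : IsInducedBlock M H b B)
    (hdef : blockDefect p b = blockDefect p B) (n : IrrCharacter H → ℤ)
    (hn : ∀ φ, φ ∉ b → n φ = 0) {χ₀ : IrrCharacter G} (hχ₀ : χ₀ ∈ B)
    (h0 : dv p (χ₀ : G → ℂ) = minDv p B)
    (hu : res hM (sCoord x H χ₀ fun ψ => ∑ φ, n φ * secQ p b φ ψ) ≠ 0)
    {θ : IrrCharacter G} (hθ : θ ∈ B) :
    sCoord x H θ (fun ψ => ∑ φ, n φ * secQ p b φ ψ) ≠ 0 := by
  classical
  haveI := res_isDomain hM
  obtain ⟨k, hk⟩ := hx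
  have hb := hind.1
  have hB := hind.2.1
  set R := Finset.univ.filter (fun c : H => ¬ p ∣ orderOf c) with hR
  set β : H → ℂ := fun c => ∑ φ : IrrCharacter H, (n φ : ℂ) * (φ : H → ℂ) c with hβ
  set X : H := ⟨x, hH.self_mem⟩ with hX
  have hXc : ∀ g : H, Commute g X := fun g => Subtype.ext ((hH g).1 g.2)
  have hβint : ∀ c, IsIntegral ℤ (β c) := fun c => IsIntegral.sum _ fun φ _ =>
    (isIntegral_intCast' _).mul (isIntegral_of_char (isCharacter_of_irr φ.2) c)
  have hβcl : IsClassFunction H β := fun a c =>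
    Finset.sum_congr rfl fun φ _ => by rw [irr_isClassFun φ a c]
  set F : H → ℂ := fun h => if p ∣ orderOf (h * X) then 0 else β (h * X)⁻¹ with hF
  have hFcl : IsClassFunction H F := by
    intro a c
    have e : c * a * c⁻¹ * X = c * (a * X) * c⁻¹ := by
      rw [mul_assoc (c * a), ((hXc c).inv_left).eq]; group
    simp only [hF, e, conj_orderOf]
    split_ifs
    · rfl
    · rw [show (c * (a * X) * c⁻¹)⁻¹ = c * (a * X)⁻¹ * c⁻¹ by group, hβcl]
  have hFint : ∀ h, IsIntegral ℤ (F h) := fun h => by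
    simp only [hF]; split_ifs
    · exact isIntegral_zero
    · exact hβint _
  set f := indFun H F with hf
  have hfcl : IsClassFunction G f := indFun_isClassFunction H F
  have hfint : ∀ g, IsIntegral ℤ (f g) := isIntegral_indFun hFcl hFint
  have hfmem : ∀ g, MemLocalRing M (f g) := fun g => memRing_of_isIntegral hM (hfint g)
  set u : IrrCharacter H → ℤ := fun ψ => ∑ φ, n φ * secQ p b φ ψ with hudef
  have hkey : ∀ θ : IrrCharacter G, conj (sCoord x H θ u) =
      (p : ℂ) ^ blockDefect p b * (Nat.card G : ℂ)⁻¹ *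
        ((θ : G → ℂ) 1 * omega (θ : G → ℂ) f) := by
    intro θ
    rw [omega, mul_div_cancel₀ _ (irr_one_ne_zero θ)]
    have hfr := frobenius_reciprocity H F
      (χ := fun g => conj ((θ : G → ℂ) g))
      (isClassFunction_irr (isIrrCharacter_conjChar θ.2))
    simp only [classInner, Complex.conj_conj] at hfr
    rw [← hf] at hfr
    have e : ∑ h : H, F h * (θ : G → ℂ) (h : G) = ∑ c ∈ R, β c * conj (sec x H (θ : G → ℂ) c) := by
      rw [Finset.sum_filter]
      refine Fintype.sum_equiv ((Equiv.mulRight X).trans (Equiv.inv H)) _ _ fun h => ?_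
      simp only [Equiv.trans_apply, Equiv.coe_mulRight, Equiv.inv_apply, orderOf_inv, hF]
      by_cases hd' : p ∣ orderOf (h * X)
      · simp [hd']
      · rw [if_neg hd', if_pos hd']
        congr 1
        show _ = conj ((θ : G → ℂ) (x * (((h * X)⁻¹ : H) : G)))
        rw [irr_conjInv]
        congr 1
        simp [hX]
    have hexp := eq_sum_irr (sec_isClassFunction hH θ)
    have e2 : ∑ c ∈ R, β c * conj (sec x H (θ : G → ℂ) c) = ∑ φ : IrrCharacter H,
        ∑ ψ : IrrCharacter H, (n φ : ℂ) * conj (classInner (sec x H (θ : G → ℂ)) (ψ : H → ℂ)) *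
          regS p (φ : H → ℂ) (ψ : H → ℂ) := by
      simp only [hβ, Finset.sum_mul]
      rw [Finset.sum_comm]
      refine Finset.sum_congr rfl fun φ _ => ?_
      simp only [regS_eq_sum, Finset.mul_sum]
      rw [Finset.sum_comm]
      refine Finset.sum_congr rfl fun c _ => ?_
      have h1 := congrFun hexp c
      simp only [Finset.sum_apply, Pi.smul_apply, smul_eq_mul] at h1
      conv_lhs => rw [h1, map_sum, Finset.mul_sum]
      exact Finset.sum_congr rfl fun ψ _ => by rw [map_mul, irr_inv]; ring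
    have e3 : conj (sCoord x H θ u) = (p : ℂ) ^ blockDefect p b * (Nat.card H : ℂ)⁻¹ *
        ∑ c ∈ R, β c * conj (sec x H (θ : G → ℂ) c) := by
      rw [e2, Finset.mul_sum]
      simp only [sCoord, hudef, Int.cast_sum, Int.cast_mul, Finset.mul_sum, map_sum, map_mul,
        map_intCast]
      rw [Finset.sum_comm]
      refine Finset.sum_congr rfl fun φ _ => Finset.sum_congr rfl fun ψ _ => ?_
      by_cases hφ : φ ∈ b
      · by_cases hψ : ψ ∈ b
        · have h1 := secQ_spec hM hb hφ hψ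
          have hH0 : (Nat.card H : ℂ) ≠ 0 := Nat.cast_ne_zero.2 Nat.card_pos.ne'
          field_simp
          linear_combination (-(conj (classInner (sec x H (θ : G → ℂ)) (ψ : H → ℂ))) * (n φ : ℂ)) * h1
        · rw [secQ_off (fun h' => hψ h'.2), regS_eq_zero hM (fun hs => hψ (by
            rw [eq_blockOf hM hb hφ]; exact hs))]
          simp
      · rw [hn φ hφ]; simp
    rw [e3, ← e, mul_assoc, mul_assoc]
    congr 1
    exact hfr.symm
  set K := Nat.card G / p ^ (Nat.card G).factorization p with hK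
  set v := minDv p B with hv
  have hp0 : (p : ℂ) ≠ 0 := Nat.cast_ne_zero.2 hM.1.ne_zero
  have hK0 : (K : ℂ) ≠ 0 := Nat.cast_ne_zero.2 fun h =>
    pprime_card_res_ne hM G (by rw [← hK, h, Nat.cast_zero])
  have hG : (Nat.card G : ℂ) = (p : ℂ) ^ blockDefect p b * (p : ℂ) ^ v * (K : ℂ) := by
    rw [hdef, ← pow_add, blockDefect_eq, hv, Nat.sub_add_cancel (minDv_le_card hM hB)]
    exact_mod_cast (Nat.ordProj_mul_ordCompl_eq_self (Nat.card G) p).symm
  have hzK : (K : ℂ) * conj (sCoord x H χ₀ u) =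
      ((charDegree (χ₀ : G → ℂ) / p ^ dv p (χ₀ : G → ℂ) : ℕ) : ℂ) * omega (χ₀ : G → ℂ) f := by
    have hdeg : (χ₀ : G → ℂ) 1 =
        (p : ℂ) ^ v * ((charDegree (χ₀ : G → ℂ) / p ^ dv p (χ₀ : G → ℂ) : ℕ) : ℂ) := by
      rw [← irr_charDegree_cast χ₀, ← h0]
      exact_mod_cast (Nat.ordProj_mul_ordCompl_eq_self (charDegree (χ₀ : G → ℂ)) p).symm
    rw [hkey, hdeg, hG]
    field_simp
  intro hz
  have hω0 : omega (θ : G → ℂ) f = 0 := by
    have h1 := hkey θ
    rw [hz, map_zero, eq_comm, mul_eq_zero, mul_eq_zero, mul_eq_zero] at h1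
    rcases h1 with (h1 | h1) | (h1 | h1)
    · exact absurd h1 (pow_ne_zero _ hp0)
    · exact absurd h1 (inv_ne_zero (Nat.cast_ne_zero.2 Nat.card_pos.ne'))
    · exact absurd h1 (irr_one_ne_zero θ)
    · exact h1
  have hω : res hM (omega (χ₀ : G → ℂ) f) = 0 := by
    rw [Zloc_res_congr hM (v := fun θ : IrrCharacter G => omega (θ : G → ℂ) f)
      (fun g => by rw [cf_omega hfcl]; exact hfmem g) (sameBlock_of_mem hM hB hχ₀ hθ), hω0, res_zero]
  have hsi := (sCoord_props hM hH hk χ₀ u).2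
  have hci : IsIntegral ℤ (conj (sCoord x H χ₀ u)) :=
    hsi.map ((Complex.conjAe.toAlgHom).restrictScalars ℤ)
  have h := congrArg (res hM) hzK
  rw [res_mul hM (memRing_natCast hM _) (memRing_of_isIntegral hM hci),
    res_mul hM (memRing_natCast hM _) (memRing_of_isIntegral hM (isIntegral_omega hfcl hfint χ₀)),
    hω, mul_zero, mul_eq_zero, res_natCast] at h
  rcases h with h | h
  · exact pprime_card_res_ne hM G h
  · -- an algebraic integer and its conjugate vanish together modulo `M`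
    apply hu
    obtain ⟨w, hw⟩ : ∃ w : ℂ, IsIntegral ℤ w ∧ sCoord x H χ₀ u = conj (sCoord x H χ₀ u) + w ∧
        res hM w = 0 := by
      refine ⟨sCoord x H χ₀ u - conj (sCoord x H χ₀ u), hsi.sub hci, by ring, ?_⟩
      choose m ω hm hω' ha using fun φ : IrrCharacter H => sec_coeff hM hH hk χ₀ φ
      have hcr : ∀ φ, conj (ω φ) ^ p ^ k = 1 := fun φ => by rw [← map_pow, hω', map_one]
      simp only [sCoord, map_sum, map_mul, map_intCast, ha, map_natCast,
        ← Finset.sum_sub_distrib]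
      have hterm : ∀ φ, MemLocalRing M ((m φ : ℂ) * ω φ * (u φ : ℂ) - (m φ : ℂ) * conj (ω φ) * (u φ : ℂ)) ∧
          res hM ((m φ : ℂ) * ω φ * (u φ : ℂ) - (m φ : ℂ) * conj (ω φ) * (u φ : ℂ)) = 0 := by
        intro φ
        obtain ⟨h1, h2⟩ := res_eq_one_of_pow hM (hω' φ)
        obtain ⟨h3, h4⟩ := res_eq_one_of_pow hM (hcr φ)
        have a1 := (loc hM).mul_mem (memRing_natCast hM (m φ)) h1
        have a3 := (loc hM).mul_mem (memRing_natCast hM (m φ)) h3
        refine ⟨(loc hM).sub_mem ((loc hM).mul_mem a1 (memRing_intCast hM _))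
          ((loc hM).mul_mem a3 (memRing_intCast hM _)), ?_⟩
        rw [res_sub hM ((loc hM).mul_mem a1 (memRing_intCast hM _))
            ((loc hM).mul_mem a3 (memRing_intCast hM _)),
          res_mul hM a1 (memRing_intCast hM _), res_mul hM a3 (memRing_intCast hM _),
          res_mul hM (memRing_natCast hM _) h1, res_mul hM (memRing_natCast hM _) h3, h2, h4,
          sub_self]
      rw [res_sum hM fun φ _ => (hterm φ).1, Finset.sum_eq_zero fun φ _ => (hterm φ).2]
    rw [hw.2.1, res_add hM (memRing_of_isIntegral hM hci) (memRing_of_isIntegral hM hw.1), h,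
      hw.2.2, add_zero]

end CfsgLib.Blocks
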