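import Cfsg.Agent.Lib.Blocks.Local
import Cfsg.Agent.Lib.Blocks.Central
import Cfsg.Agent.Lib.CharTheory.Galois

/-!
# The unramified local ring

`Wr hM` consists of the quotients of sums of roots of unity of order prime to `p`, with
denominators outside `M`.  It is a discrete valuation ring with uniformizer `p` whose residues
exhaust the residue field of the algebraic integers at `M`.
-/

namespace CfsgLib.Blocks

open Cfsg CfsgLib.CharTheory Polynomial

set_option linter.unusedVariables false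
set_option linter.style.haveILetI false
set_option linter.unusedSectionVars false

variable {p : ℕ} {M : Ideal AlgInt}

/-- The roots of unity of order prime to `p`. -/
def regRoots (p : ℕ) : Set ℂ := {z | ∃ n : ℕ, ¬ p ∣ n ∧ z ^ n = 1}

/-- The ring they generate. -/
noncomputable def regRing (p : ℕ) : Subring ℂ := Subring.closure (regRoots p)

theorem isIntegral_regRing {z : ℂ} (h : z ∈ regRing p) : IsIntegral ℤ z := by
  induction h using Subring.closure_induction with
  | mem x hx =>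
    obtain ⟨n, hn, e⟩ := hx
    exact IsIntegral.of_pow (n := n) (Nat.pos_of_ne_zero fun h0 => hn (by rw [h0]; exact dvd_zero p))
      (by rw [e]; exact isIntegral_one)
  | zero => exact isIntegral_zero
  | one => exact isIntegral_one
  | add x y _ _ hx hy => exact hx.add hy
  | neg x _ hx => exact hx.neg
  | mul x y _ _ hx hy => exact hx.mul hy

theorem memRing_regRing (hM : IsPModular p M) {z : ℂ} (h : z ∈ regRing p) : MemLocalRing M z :=
  memRing_of_isIntegral hM (isIntegral_regRing h)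

/-- Some Frobenius power fixes an element modulo `p`. -/
theorem regRing_frob (hp : p.Prime) {z : ℂ} (h : z ∈ regRing p) :
    ∃ f : ℕ, 0 < f ∧ ∃ y ∈ regRing p, z ^ p ^ f - z = p * y := by
  haveI : Fact p.Prime := ⟨hp⟩
  let q := Ideal.Quotient.mk (Ideal.span {((p : ℕ) : regRing p)})
  suffices H : ∃ f : ℕ, 0 < f ∧ q ⟨z, h⟩ ^ p ^ f = q ⟨z, h⟩ by
    obtain ⟨f, hf, e⟩ := H
    rw [← map_pow, Ideal.Quotient.eq, Ideal.mem_span_singleton] at e
    obtain ⟨y, hy⟩ := e
    refine ⟨f, hf, y, y.2, ?_⟩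
    have := congrArg Subtype.val hy
    simpa using this
  have hp0 : ((p : ℕ) : regRing p ⧸ Ideal.span {((p : ℕ) : regRing p)}) = 0 := by
    rw [← map_natCast q, Ideal.Quotient.eq_zero_iff_mem]
    exact Ideal.subset_span rfl
  have hiter : ∀ (x : regRing p ⧸ Ideal.span {((p : ℕ) : regRing p)}) (f k : ℕ),
      x ^ p ^ f = x → x ^ p ^ (f * k) = x := by
    intro x f k e
    induction k with
    | zero => simp
    | succ k ih => rw [Nat.mul_succ, pow_add, pow_mul, ih, e]
  have hadd : ∀ (x y : regRing p ⧸ Ideal.span {((p : ℕ) : regRing p)}) (f : ℕ),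
      (x + y) ^ p ^ f = x ^ p ^ f + y ^ p ^ f := by
    intro x y f
    obtain ⟨r, hr⟩ := exists_add_pow_prime_pow_eq hp x y f
    rw [hr, hp0]; ring
  induction h using Subring.closure_induction with
  | mem x hx =>
    obtain ⟨n, hn, e⟩ := hx
    have hn0 : 0 < n := Nat.pos_of_ne_zero fun h0 => hn (h0 ▸ dvd_zero p)
    refine ⟨n.totient, Nat.totient_pos.2 hn0, ?_⟩
    rw [← map_pow]
    refine congrArg q (Subtype.ext ?_)
    show x ^ p ^ n.totient = x
    have h1 := Nat.ModEq.pow_totient (hp.coprime_iff_not_dvd.2 hn)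
    rw [pow_eq_pow_mod _ e, h1, ← pow_eq_pow_mod _ e, pow_one]
  | zero =>
    exact ⟨1, one_pos, by
      rw [show (⟨0, Subring.zero_mem _⟩ : regRing p) = 0 from rfl, map_zero,
        zero_pow (pow_ne_zero _ hp.ne_zero)]⟩
  | one =>
    exact ⟨1, one_pos, by
      rw [show (⟨1, Subring.one_mem _⟩ : regRing p) = 1 from rfl, map_one, one_pow]⟩
  | add x y hx hy ihx ihy =>
    obtain ⟨f, hf, ef⟩ := ihx
    obtain ⟨k, hk, ek⟩ := ihy
    refine ⟨f * k, Nat.mul_pos hf hk, ?_⟩
    change q (⟨x, hx⟩ + ⟨y, hy⟩) ^ _ = q (⟨x, hx⟩ + ⟨y, hy⟩)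
    rw [map_add, hadd, hiter _ _ _ ef, mul_comm f k, hiter _ _ _ ek]
  | neg x hx ih =>
    obtain ⟨f, hf, ef⟩ := ih
    refine ⟨f, hf, ?_⟩
    change q (-⟨x, hx⟩) ^ _ = q (-⟨x, hx⟩)
    rw [map_neg]
    have := hadd (q ⟨x, hx⟩) (-q ⟨x, hx⟩) f
    rw [add_neg_cancel, zero_pow (pow_ne_zero _ hp.ne_zero), ef] at this
    exact eq_neg_of_add_eq_zero_right this.symm
  | mul x y hx hy ihx ihy =>
    obtain ⟨f, hf, ef⟩ := ihx
    obtain ⟨k, hk, ek⟩ := ihy
    refine ⟨f * k, Nat.mul_pos hf hk, ?_⟩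
    change q (⟨x, hx⟩ * ⟨y, hy⟩) ^ _ = q (⟨x, hx⟩ * ⟨y, hy⟩)
    rw [map_mul, mul_pow, hiter _ _ _ ef, mul_comm f k, hiter _ _ _ ek]

theorem regRing_mem_M_frob (hM : IsPModular p M) {z : ℂ} (h : z ∈ regRing p)
    (h0 : res hM z = 0) :
    ∃ y ∈ regRing p, ∃ b ∈ regRing p, res hM b ≠ 0 ∧ z * b = p * y := by
  haveI := res_isDomain hM
  obtain ⟨f, hf, y, hy, e⟩ := regRing_frob hM.1 h
  obtain ⟨q, hq⟩ : ∃ q, p ^ f = q + 2 :=
    ⟨p ^ f - 2, by have := Nat.one_lt_pow hf.ne' hM.1.one_lt; omega⟩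
  refine ⟨y, hy, z ^ (q + 1) - 1,
    (regRing p).sub_mem ((regRing p).pow_mem h _) (regRing p).one_mem, ?_, ?_⟩
  · rw [res_sub hM ((loc hM).pow_mem (memRing_regRing hM h) _) (loc hM).one_mem,
      res_pow hM (memRing_regRing hM h), h0, zero_pow (Nat.succ_ne_zero q), zero_sub, res_one]
    exact neg_ne_zero.2 one_ne_zero
  · rw [← e, hq]; ring

/-- The unramified local ring. -/
noncomputable def Wr (hM : IsPModular p M) : Subring ℂ where
  carrier := {z | ∃ a ∈ regRing p, ∃ b ∈ regRing p, res hM b ≠ 0 ∧ z * b = a}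
  zero_mem' := ⟨0, Subring.zero_mem _, 1, Subring.one_mem _,
    by rw [res_one]; haveI := res_isDomain hM; exact one_ne_zero, zero_mul 1⟩
  one_mem' := ⟨1, Subring.one_mem _, 1, Subring.one_mem _,
    by rw [res_one]; haveI := res_isDomain hM; exact one_ne_zero, one_mul 1⟩
  mul_mem' := by
    rintro x y ⟨a, ha, b, hb, hb0, e⟩ ⟨c, hc, d, hd, hd0, e'⟩
    haveI := res_isDomain hM
    refine ⟨a * c, (regRing p).mul_mem ha hc, b * d, (regRing p).mul_mem hb hd, ?_, by
      rw [← e, ← e']; ring⟩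
    rw [res_mul hM (memRing_regRing hM hb) (memRing_regRing hM hd)]
    exact mul_ne_zero hb0 hd0
  add_mem' := by
    rintro x y ⟨a, ha, b, hb, hb0, e⟩ ⟨c, hc, d, hd, hd0, e'⟩
    haveI := res_isDomain hM
    refine ⟨a * d + c * b, (regRing p).add_mem ((regRing p).mul_mem ha hd)
      ((regRing p).mul_mem hc hb), b * d, (regRing p).mul_mem hb hd, ?_, by
      rw [← e, ← e']; ring⟩
    rw [res_mul hM (memRing_regRing hM hb) (memRing_regRing hM hd)]
    exact mul_ne_zero hb0 hd0
  neg_mem' := by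
    rintro x ⟨a, ha, b, hb, hb0, e⟩
    exact ⟨-a, (regRing p).neg_mem ha, b, hb, hb0, by rw [← e]; ring⟩

theorem regRing_le_Wr (hM : IsPModular p M) : regRing p ≤ Wr hM := fun z hz =>
  ⟨z, hz, 1, Subring.one_mem _, by rw [res_one]; haveI := res_isDomain hM; exact one_ne_zero,
    mul_one z⟩

theorem root_mem_Wr (hM : IsPModular p M) {z : ℂ} {n : ℕ} (hn : ¬ p ∣ n) (h : z ^ n = 1) :
    z ∈ Wr hM := regRing_le_Wr hM (Subring.subset_closure ⟨n, hn, h⟩)

theorem memRing_Wr (hM : IsPModular p M) {z : ℂ} (h : z ∈ Wr hM) : MemLocalRing M z := by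
  obtain ⟨a, ha, b, hb, hb0, e⟩ := h
  have hb' : b ≠ 0 := fun e0 => hb0 (by rw [e0, res_zero])
  rw [eq_div_of_mul_eq hb' e, div_eq_mul_inv]
  exact (loc hM).mul_mem (memRing_regRing hM ha) (memRing_inv hM (memRing_regRing hM hb)
    fun hI => hb0 ((res_eq_zero_iff hM (memRing_regRing hM hb)).2 hI))

theorem Wr_inv_mem (hM : IsPModular p M) {z : ℂ} (h : z ∈ Wr hM) (h0 : res hM z ≠ 0) :
    z⁻¹ ∈ Wr hM := by
  obtain ⟨a, ha, b, hb, hb0, e⟩ := id h
  have ha0 : res hM a ≠ 0 := by
    haveI := res_isDomain hM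
    rw [← e, res_mul hM (memRing_Wr hM h) (memRing_regRing hM hb)]
    exact mul_ne_zero h0 hb0
  have hz : z ≠ 0 := fun e0 => h0 (by rw [e0, res_zero])
  exact ⟨b, hb, a, ha, ha0, by rw [← e, inv_mul_cancel_left₀ hz]⟩

theorem natCast_inv_mem_Wr (hM : IsPModular p M) {n : ℕ} (hn : ¬ p ∣ n) : (n : ℂ)⁻¹ ∈ Wr hM := by
  refine Wr_inv_mem hM (natCast_mem _ n) ?_
  haveI := res_charP hM
  rw [res_natCast]
  exact fun h => hn ((CharP.cast_eq_zero_iff _ p n).1 h)

theorem Wr_dvd (hM : IsPModular p M) {z : ℂ} (h : z ∈ Wr hM) (h0 : res hM z = 0) :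
    ∃ w ∈ Wr hM, z = p * w := by
  obtain ⟨a, ha, b, hb, hb0, e⟩ := id h
  have ha0 : res hM a = 0 := by
    rw [← e, res_mul hM (memRing_Wr hM h) (memRing_regRing hM hb), h0, zero_mul]
  obtain ⟨y, hy, c, hc, hc0, e'⟩ := regRing_mem_M_frob hM ha ha0
  have hb' : b ≠ 0 := fun e0 => hb0 (by rw [e0, res_zero])
  have hc' : c ≠ 0 := fun e0 => hc0 (by rw [e0, res_zero])
  refine ⟨y / (b * c), ⟨y, hy, b * c, (regRing p).mul_mem hb hc, ?_,
    div_mul_cancel₀ _ (mul_ne_zero hb' hc')⟩, ?_⟩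
  · haveI := res_isDomain hM
    rw [res_mul hM (memRing_regRing hM hb) (memRing_regRing hM hc)]
    exact mul_ne_zero hb0 hc0
  · rw [← mul_div_assoc, ← e', ← e]
    field_simp

theorem res_p_mul (hM : IsPModular p M) {w : ℂ} (hw : MemLocalRing M w) :
    res hM ((p : ℂ) * w) = 0 := by
  rw [res_mul hM (memRing_natCast hM p) hw, natCast_p_mem, zero_mul]

/-- An algebraic integer other than zero is not divisible by all powers of `p`. -/
theorem exists_not_dvd_pow (hM : IsPModular p M) {a : ℂ} (ha : IsIntegral ℤ a) (ha0 : a ≠ 0) :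
    ∃ m : ℕ, ∀ w : ℂ, MemLocalRing M w → a ≠ (p : ℂ) ^ m * w := by
  set P := minpoly ℤ a
  set c := P.coeff 0
  have hc : c ≠ 0 := fun h0 => by
    obtain ⟨Q, hQ⟩ : (X : ℤ[X]) ∣ P := X_dvd_iff.2 h0
    have hirr := minpoly.irreducible ha
    rcases hirr.isUnit_or_isUnit hQ with h | h
    · exact not_isUnit_X h
    · obtain ⟨r, hr, hrQ⟩ := Polynomial.isUnit_iff.1 h
      have h1 := minpoly.aeval ℤ a
      change aeval a P = 0 at h1
      rw [hQ, ← hrQ, map_mul, aeval_X, aeval_C] at h1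
      exact (mul_eq_zero.1 h1).resolve_left ha0 |> fun h2 => hr.ne_zero (by simpa using h2)
  have hac : a * (-(aeval a P.divX)) = (c : ℂ) := by
    have h1 : aeval a (P.divX * X + C c) = 0 := by
      rw [divX_mul_X_add]; exact minpoly.aeval ℤ a
    simp only [map_add, map_mul, aeval_X, eq_intCast, map_intCast] at h1
    linear_combination -h1
  have hcof : IsIntegral ℤ (-(aeval a P.divX)) :=
    (Algebra.adjoin_le (show {a} ⊆ (integralClosure ℤ ℂ : Set ℂ) from
      Set.singleton_subset_iff.2 ha) (aeval_mem_adjoin_singleton ℤ a)).neg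
  refine ⟨c.natAbs, fun w hw e => ?_⟩
  have key : ∀ m : ℕ, ∀ c : ℤ, c ≠ 0 →
      (∃ w, MemLocalRing M w ∧ (c : ℂ) = (p : ℂ) ^ m * w) → p ^ m ∣ c.natAbs := by
    intro m
    induction m with
    | zero => simp
    | succ m ih =>
      rintro c hc ⟨w, hw, e⟩
      have h1 : res hM (c : ℂ) = 0 := by
        rw [e, pow_succ', mul_assoc]
        exact res_p_mul hM ((loc hM).mul_mem ((loc hM).pow_mem (memRing_natCast hM p) m) hw)
      have h2 : (p : ℤ) ∣ c := by
        haveI := res_charP hM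
        rw [show res hM (c : ℂ) = (c : AlgInt ⧸ M) by
          rw [← map_intCast (resHom hM) c]; rfl] at h1
        exact (CharP.intCast_eq_zero_iff _ p c).1 h1
      obtain ⟨d, rfl⟩ := h2
      rw [Int.natAbs_mul, Int.natAbs_natCast, pow_succ']
      refine mul_dvd_mul_left p (ih d (right_ne_zero_of_mul hc) ⟨w, hw, ?_⟩)
      push_cast at e
      rw [pow_succ', mul_assoc] at e
      exact mul_left_cancel₀ (Nat.cast_ne_zero.2 hM.1.ne_zero) e
  have h3 := key c.natAbs c hc ⟨w * -(aeval a P.divX),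
    (loc hM).mul_mem hw (memRing_of_isIntegral hM hcof), by rw [← hac, e]; ring⟩
  exact absurd (Nat.le_of_dvd (Int.natAbs_pos.2 hc) h3) (not_le.2 (Nat.lt_pow_self hM.1.one_lt))

theorem Wr_factor (hM : IsPModular p M) {z : ℂ} (h : z ∈ Wr hM) (hz : z ≠ 0) :
    ∃ (m : ℕ) (u : ℂ), u ∈ Wr hM ∧ res hM u ≠ 0 ∧ z = (p : ℂ) ^ m * u := by
  obtain ⟨a, ha, b, hb, hb0, e⟩ := id h
  have hb' : b ≠ 0 := fun e0 => hb0 (by rw [e0, res_zero])
  obtain ⟨N, hN⟩ := exists_not_dvd_pow hM (isIntegral_regRing ha)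
    (e ▸ mul_ne_zero hz hb')
  by_contra hno
  push Not at hno
  have key : ∀ m, ∃ w ∈ Wr hM, z = (p : ℂ) ^ m * w := by
    intro m
    induction m with
    | zero => exact ⟨z, h, by simp⟩
    | succ m ih =>
      obtain ⟨w, hw, e1⟩ := ih
      by_cases h0 : res hM w = 0
      · obtain ⟨w', hw', rfl⟩ := Wr_dvd hM hw h0
        exact ⟨w', hw', by rw [e1, pow_succ, mul_assoc]⟩
      · exact absurd e1 (hno m w hw h0)
  obtain ⟨w, hw, e1⟩ := key N
  refine hN (w * b) ((loc hM).mul_mem (memRing_Wr hM hw) (memRing_regRing hM hb)) ?_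
  rw [← e, e1, mul_assoc]

/-- Reduction on the unramified ring. -/
noncomputable def redW (hM : IsPModular p M) : Wr hM →+* AlgInt ⧸ M :=
  (resHom hM).comp (Subring.inclusion fun _ hz => memRing_Wr hM hz)

theorem redW_apply (hM : IsPModular p M) (z : Wr hM) : redW hM z = res hM (z : ℂ) := rfl

theorem Wr_isUnit (hM : IsPModular p M) {z : Wr hM} (h : redW hM z ≠ 0) : IsUnit z := by
  refine IsUnit.of_mul_eq_one (⟨(z : ℂ)⁻¹, Wr_inv_mem hM z.2 h⟩ : Wr hM) (Subtype.ext ?_)
  exact mul_inv_cancel₀ fun e0 => h (by rw [redW_apply, e0, res_zero])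

theorem redW_eq_zero_iff (hM : IsPModular p M) {z : Wr hM} :
    redW hM z = 0 ↔ (p : Wr hM) ∣ z := by
  constructor
  · intro h
    obtain ⟨w, hw, e⟩ := Wr_dvd hM z.2 h
    exact ⟨⟨w, hw⟩, Subtype.ext (by simpa using e)⟩
  · rintro ⟨w, rfl⟩
    rw [map_mul, map_natCast]
    haveI := res_charP hM
    rw [CharP.cast_eq_zero, zero_mul]

theorem Wr_p_ne_zero (hM : IsPModular p M) : (p : Wr hM) ≠ 0 := fun h =>
  hM.1.ne_zero (by exact_mod_cast (show ((p : ℕ) : ℂ) = 0 by simpa using congrArg Subtype.val h))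

theorem Wr_p_irreducible (hM : IsPModular p M) : Irreducible (p : Wr hM) := by
  haveI := res_isDomain hM
  refine ⟨fun hu => ?_, fun a b e => ?_⟩
  · have := hu.map (redW hM)
    rw [(redW_eq_zero_iff hM).2 dvd_rfl] at this
    exact not_isUnit_zero this
  · have h0 : redW hM a * redW hM b = 0 := by rw [← map_mul, ← e, (redW_eq_zero_iff hM).2 dvd_rfl]
    by_contra hab
    push Not at hab
    have ha : redW hM a = 0 := by_contra fun h => hab.1 (Wr_isUnit hM h)
    have hb : redW hM b = 0 := by_contra fun h => hab.2 (Wr_isUnit hM h)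
    obtain ⟨a', rfl⟩ := (redW_eq_zero_iff hM).1 ha
    obtain ⟨b', rfl⟩ := (redW_eq_zero_iff hM).1 hb
    have h1 : (1 : Wr hM) = (p : Wr hM) * (a' * b') :=
      mul_left_cancel₀ (Wr_p_ne_zero hM) (by linear_combination e)
    have := congrArg (redW hM) h1
    rw [map_one, (redW_eq_zero_iff hM).2 ⟨_, rfl⟩] at this
    exact one_ne_zero this

theorem Wr_dvr (hM : IsPModular p M) : IsDiscreteValuationRing (Wr hM) := by
  refine IsDiscreteValuationRing.ofHasUnitMulPowIrreducibleFactorization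
    ⟨(p : Wr hM), Wr_p_irreducible hM, fun {x} hx => ?_⟩
  obtain ⟨m, u, hu, hu0, e⟩ := Wr_factor hM x.2 fun h => hx (Subtype.ext h)
  exact ⟨m, (Wr_isUnit hM (z := ⟨u, hu⟩) hu0).unit, Subtype.ext (by simp [e])⟩

/-- Every residue comes from a root of unity of order prime to `p`. -/
theorem redW_surjective (hM : IsPModular p M) : Function.Surjective (redW hM) := by
  classical
  intro x
  haveI := hM.2.1
  letI := Ideal.Quotient.field M
  haveI : Fact p.Prime := ⟨hM.1⟩
  haveI := res_charP hM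
  rcases eq_or_ne x 0 with rfl | hx
  · exact ⟨0, map_zero _⟩
  obtain ⟨a, rfl⟩ := Ideal.Quotient.mk_surjective x
  letI : Algebra (ZMod p) (AlgInt ⧸ M) := ZMod.algebra _ p
  have hint : IsIntegral (ZMod p) (Ideal.Quotient.mk M a) := by
    refine IsIntegral.tower_top (R := ℤ) ?_
    exact (show IsIntegral ℤ a from (integralClosure.isIntegral a)).map
      (Ideal.Quotient.mk M).toIntAlgHom
  haveI : Module.Finite (ZMod p) (Algebra.adjoin (ZMod p) {Ideal.Quotient.mk M a}) :=
    Module.Finite.of_fg hint.fg_adjoin_singleton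
  haveI : Finite (Algebra.adjoin (ZMod p) {Ideal.Quotient.mk M a}) :=
    Module.finite_of_finite (ZMod p)
  have hfin : IsOfFinOrder (Ideal.Quotient.mk M a) := by
    obtain ⟨i, j, e, hij⟩ : ∃ i j : ℕ, Ideal.Quotient.mk M a ^ i = Ideal.Quotient.mk M a ^ j ∧
        i < j := by
      obtain ⟨i, j, hne, e⟩ := Finite.exists_ne_map_eq_of_infinite fun i : ℕ =>
        (⟨Ideal.Quotient.mk M a ^ i, Subalgebra.pow_mem _
          (Algebra.subset_adjoin (Set.mem_singleton _)) i⟩ :
          Algebra.adjoin (ZMod p) {Ideal.Quotient.mk M a})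
      have e' := congrArg Subtype.val e
      rcases lt_or_gt_of_ne hne with h | h
      · exact ⟨i, j, e', h⟩
      · exact ⟨j, i, e'.symm, h⟩
    refine isOfFinOrder_iff_pow_eq_one.2 ⟨j - i, by omega,
      mul_left_cancel₀ (pow_ne_zero i hx) ?_⟩
    rw [← pow_add, show i + (j - i) = j by omega, mul_one, e]
  set n := orderOf (Ideal.Quotient.mk M a)
  have hn0 : 0 < n := hfin.orderOf_pos
  have hpn : ¬ p ∣ n := by
    rintro ⟨m, hm⟩
    have h1 : (Ideal.Quotient.mk M a ^ m - 1) ^ p = 0 := by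
      rw [sub_pow_char, ← pow_mul, mul_comm, ← hm, pow_orderOf_eq_one, one_pow, sub_self]
    have h2 := orderOf_dvd_of_pow_eq_one (sub_eq_zero.1 ((pow_eq_zero_iff hM.1.ne_zero).1 h1))
    have hm0 : 0 < m := Nat.pos_of_ne_zero fun h => hn0.ne' (by rw [hm, h, mul_zero])
    have := Nat.le_of_dvd hm0 h2
    nlinarith [hM.1.two_le, hm]
  obtain ⟨z, hz⟩ : ∃ z : ℂ, IsPrimitiveRoot z n := ⟨_, Complex.isPrimitiveRoot_exp n hn0.ne'⟩
  let ζ : AlgInt := ⟨z, IsIntegral.of_pow hn0 (by rw [hz.pow_eq_one]; exact isIntegral_one)⟩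
  have hζ : IsPrimitiveRoot ζ n :=
    IsPrimitiveRoot.of_map_of_injective (f := AlgInt.subtype) (by exact hz) Subtype.val_injective
  have h1 := congrArg (fun P : AlgInt[X] => P.eval₂ (Ideal.Quotient.mk M) (Ideal.Quotient.mk M a))
    (X_pow_sub_one_eq_prod hn0 hζ)
  simp only [eval₂_sub, eval₂_pow, eval₂_X, eval₂_one, eval₂_finsetProd, eval₂_C] at h1
  rw [show Ideal.Quotient.mk M a ^ n = 1 from pow_orderOf_eq_one _, sub_self] at h1
  obtain ⟨ω, hω, e⟩ := Finset.prod_eq_zero_iff.1 h1.symm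
  refine ⟨⟨(ω : ℂ), root_mem_Wr hM hpn ?_⟩, ?_⟩
  · exact_mod_cast congrArg Subtype.val ((mem_nthRootsFinset hn0 _).1 hω)
  · rw [redW_apply, res_coe]
    exact (sub_eq_zero.1 e).symm

/-- Character values at elements of order prime to `p` are unramified. -/
theorem char_mem_regRing {H : Type*} [Group H] [Fintype H] {χ : H → ℂ} (hχ : IsCharacter H χ)
    (hH : ¬ p ∣ Nat.card H) (h : H) : χ h ∈ regRing p := by
  obtain ⟨s, hs, hpow⟩ := exists_roots_pow hχ h
  have := hpow 1
  rw [pow_one] at this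
  rw [this]
  refine Subring.multiset_sum_mem _ _ fun x hx => ?_
  obtain ⟨y, hy, rfl⟩ := Multiset.mem_map.1 hx
  rw [pow_one]
  exact Subring.subset_closure ⟨_, hH, hs y hy⟩

/-- Families of vectors over the unramified ring stay independent over `ℂ`. -/
theorem Wr_linearIndependent (hM : IsPModular p M) {ι κ : Type*} [Fintype ι] {v : ι → κ → ℂ}
    (hv : ∀ i k, v i k ∈ Wr hM)
    (h : ∀ a : ι → Wr hM, (∀ k, ∑ i, (a i : ℂ) * v i k = 0) → a = 0) :
    LinearIndependent ℂ v := by
  classical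
  set F := Subfield.closure (regRoots p) with hF
  have hWF : ∀ z ∈ Wr hM, z ∈ F := by
    rintro z ⟨a, ha, b, hb, hb0, e⟩
    have hb' : b ≠ 0 := fun e0 => hb0 (by rw [e0, res_zero])
    rw [eq_div_of_mul_eq hb' e]
    exact F.div_mem (Subfield.subring_closure_le _ ha) (Subfield.subring_closure_le _ hb)
  rw [Fintype.linearIndependent_iff]
  intro c hc i
  by_contra hci
  -- a functional over the subfield not killing the coefficient
  obtain ⟨π, hπ⟩ : ∃ π : ℂ →ₗ[F] F, π (c i) ≠ 0 := by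
    let b := Module.Free.chooseBasis F ℂ
    have : b.repr (c i) ≠ 0 := by simpa using hci
    obtain ⟨j, hj⟩ := Finsupp.ne_iff.1 this
    exact ⟨b.coord j, hj⟩
  choose x hx y hy hxy using fun i => Subfield.mem_closure_iff.1 (π (c i)).2
  have hy0 : ∀ j, y j = 0 → ((π (c j) : F) : ℂ) = 0 := fun j e => by rw [← hxy j, e, div_zero]
  let y' : ι → ℂ := fun j => if y j = 0 then 1 else y j
  have hy' : ∀ j, y' j ∈ regRing p := fun j => by
    by_cases e : y j = 0
    · simp only [y', e, ↓reduceIte]; exact Subring.one_mem _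
    · simpa [y', e, regRing] using hy j
  let a : ι → Wr hM := fun j => ⟨(π (c j) : ℂ) * ∏ l, y' l, regRing_le_Wr hM (by
    rw [← Finset.mul_prod_erase _ _ (Finset.mem_univ j), ← mul_assoc]
    refine Subring.mul_mem _ ?_ (Subring.prod_mem _ fun l _ => hy' l)
    by_cases e : y j = 0
    · rw [hy0 j e, zero_mul]; exact Subring.zero_mem _
    · simp only [y', e, ↓reduceIte]
      rw [← hxy j, div_mul_cancel₀ _ e]
      exact hx j)⟩
  have ha := h a fun k => by
    have h1 : ∑ j, (π (c j) : ℂ) * v j k = 0 := by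
      have h2 := congrFun hc k
      simp only [Finset.sum_apply, Pi.smul_apply, smul_eq_mul, Pi.zero_apply] at h2
      have h3 : ∑ j, (⟨v j k, hWF _ (hv j k)⟩ : F) • c j = 0 := by
        rw [← h2]
        exact Finset.sum_congr rfl fun j _ => mul_comm _ _
      have h4 := congrArg π h3
      simp only [map_sum, map_smul, map_zero, smul_eq_mul] at h4
      have h5 := congrArg (Subfield.subtype F) h4
      simp only [map_sum, map_mul, map_zero, Subfield.coe_subtype] at h5
      rw [← h5]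
      exact Finset.sum_congr rfl fun j _ => mul_comm _ _
    calc ∑ j, (a j : ℂ) * v j k = (∏ l, y' l) * ∑ j, (π (c j) : ℂ) * v j k := by
          rw [Finset.mul_sum]; exact Finset.sum_congr rfl fun j _ => by simp only [a]; ring
      _ = 0 := by rw [h1, mul_zero]
  have h6 : (π (c i) : ℂ) * ∏ l, y' l = 0 := congrArg Subtype.val (congrFun ha i)
  refine hπ (Subtype.ext ((mul_eq_zero.1 h6).resolve_right (Finset.prod_ne_zero_iff.2 fun l _ => ?_)))
  simp only [y']
  split_ifs with e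
  · exact one_ne_zero
  · exact e

section ramified
variable {ζ : ℂ}

theorem one_sub_zeta (hM : IsPModular p M) (hζ : IsPrimitiveRoot ζ p) :
    res hM (1 - ζ) = 0 ∧ ∃ u : ℂ, MemLocalRing M u ∧ res hM u ≠ 0 ∧
      (p : ℂ) = (1 - ζ) ^ (p - 1) * u := by
  haveI : Fact p.Prime := ⟨hM.1⟩
  haveI := res_isDomain hM
  haveI := res_charP hM
  have hζi : MemLocalRing M ζ := memRing_of_isIntegral hM
    (IsIntegral.of_pow hM.1.pos (by rw [hζ.pow_eq_one]; exact isIntegral_one))
  have h1 : res hM ζ = 1 := by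
    have : (res hM ζ - 1) ^ p = 0 := by
      rw [sub_pow_char, one_pow, ← res_pow hM hζi, hζ.pow_eq_one, res_one, sub_self]
    exact sub_eq_zero.1 ((pow_eq_zero_iff hM.1.ne_zero).1 this)
  refine ⟨by rw [res_sub hM (loc hM).one_mem hζi, res_one, h1, sub_self],
    ∏ i ∈ Finset.range (p - 1), ∑ l ∈ Finset.range (i + 1), ζ ^ l,
    memRing_prod hM fun i _ => memRing_sum hM fun l _ => (loc hM).pow_mem hζi l, ?_, ?_⟩
  · have hmem : ∀ i, MemLocalRing M (∑ l ∈ Finset.range (i + 1), ζ ^ l) := fun i =>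
      memRing_sum hM fun l _ => (loc hM).pow_mem hζi l
    have hprod : ∀ s : Finset ℕ, res hM (∏ i ∈ s, ∑ l ∈ Finset.range (i + 1), ζ ^ l) =
        ∏ i ∈ s, res hM (∑ l ∈ Finset.range (i + 1), ζ ^ l) := fun s => by
      induction s using Finset.induction_on with
      | empty => simpa using res_one hM
      | @insert i s hi ih =>
        rw [Finset.prod_insert hi, Finset.prod_insert hi,
          res_mul hM (hmem i) (memRing_prod hM fun i _ => hmem i), ih]
    rw [hprod, Finset.prod_ne_zero_iff]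
    intro i hi
    rw [res_sum hM fun l _ => (loc hM).pow_mem hζi l]
    simp only [res_pow hM hζi, h1, one_pow, Finset.sum_const, Finset.card_range, nsmul_one]
    intro h0
    have := Nat.le_of_dvd (Nat.succ_pos i) ((CharP.cast_eq_zero_iff _ p _).1 h0)
    have := Finset.mem_range.1 hi
    omega
  · have h2 : ((p - 1 : ℕ) : ℂ) + 1 = ∏ k ∈ Finset.range (p - 1), (1 - ζ ^ (k + 1)) := by
      have := IsPrimitiveRoot.prod_one_sub_pow_eq_order (n := p - 1) (μ := ζ)
        (by rw [Nat.sub_add_cancel hM.1.one_le]; exact hζ)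
      rw [this]
    rw [Nat.cast_sub hM.1.one_le, Nat.cast_one, sub_add_cancel] at h2
    conv_lhs => rw [h2]
    rw [show (1 - ζ) ^ (p - 1) = ∏ _i ∈ Finset.range (p - 1), (1 - ζ) by
      rw [Finset.prod_const, Finset.card_range], ← Finset.prod_mul_distrib]
    exact Finset.prod_congr rfl fun k _ => (mul_neg_geom_sum ζ (k + 1)).symm

/-- The powers of `1 - ζ` below `p - 1` are independent modulo `p`. -/
theorem zeta_coeff_dvd (hM : IsPModular p M) (hζ : IsPrimitiveRoot ζ p) (m : ℕ) :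
    ∀ b : ℕ → ℂ, (∀ i, b i ∈ Wr hM) →
      (∃ v, MemLocalRing M v ∧
        ∑ i ∈ Finset.range (p - 1), b i * (1 - ζ) ^ i = (p : ℂ) ^ m * v) →
      ∀ i < p - 1, ∃ w ∈ Wr hM, b i = (p : ℂ) ^ m * w := by
  haveI := res_isDomain hM
  obtain ⟨hπ, u, hu, hu0, hpu⟩ := one_sub_zeta hM hζ
  have hπr : MemLocalRing M (1 - ζ) := (loc hM).sub_mem (loc hM).one_mem
    (memRing_of_isIntegral hM
      (IsIntegral.of_pow hM.1.pos (by rw [hζ.pow_eq_one]; exact isIntegral_one)))
  have hp0 : (p : ℂ) ≠ 0 := Nat.cast_ne_zero.2 hM.1.ne_zero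
  induction m with
  | zero => exact fun b hb _ i hi => ⟨b i, hb i, by simp⟩
  | succ m ih =>
    rintro b hb ⟨v, hv, e⟩
    have hb0 : ∀ i, i < p - 1 → res hM (b i) = 0 := by
      intro i
      induction i using Nat.strong_induction_on with
      | _ i ihi =>
        intro hi
        by_contra h0
        set π := 1 - ζ with hπdef
        have hπ0 : π ≠ 0 := sub_ne_zero.2 fun h => hζ.ne_one hM.1.one_lt h.symm
        choose c hc ec using fun j (hj : j < i) => Wr_dvd hM (hb j) (ihi j hj (hj.trans hi))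
        set S := ∑ j ∈ Finset.range i, (if hj : j < i then c j hj else 0) * π ^ j
        set R := ∑ j ∈ Finset.range (p - 1 - (i + 1)), b (i + 1 + j) * π ^ j
        have h1 : ∑ j ∈ Finset.range (p - 1), b j * π ^ j =
            (p : ℂ) * S + b i * π ^ i + π ^ (i + 1) * R := by
          conv_lhs => rw [show p - 1 = (i + 1) + (p - 1 - (i + 1)) by omega, Finset.sum_range_add,
            Finset.sum_range_succ]
          simp only [S, R, Finset.mul_sum]
          congr 1
          · congr 1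
            refine Finset.sum_congr rfl fun j hj => ?_
            rw [dif_pos (Finset.mem_range.1 hj), ec j (Finset.mem_range.1 hj)]; ring
          · exact Finset.sum_congr rfl fun j _ => by ring
        have hS : MemLocalRing M S := memRing_sum hM fun j hj => (loc hM).mul_mem (by
          rw [dif_pos (Finset.mem_range.1 hj)]; exact memRing_Wr hM (hc j _))
          ((loc hM).pow_mem hπr j)
        have hR : MemLocalRing M R :=
          memRing_sum hM fun j _ => (loc hM).mul_mem (memRing_Wr hM (hb _)) ((loc hM).pow_mem hπr j)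
        have hpm : MemLocalRing M ((p : ℂ) ^ m * v) :=
          (loc hM).mul_mem ((loc hM).pow_mem (memRing_natCast hM p) m) hv
        have hY : MemLocalRing M (π ^ (p - 1 - (i + 1)) * u * ((p : ℂ) ^ m * v - S) - R) :=
          (loc hM).sub_mem ((loc hM).mul_mem ((loc hM).mul_mem ((loc hM).pow_mem hπr _) hu)
            ((loc hM).sub_mem hpm hS)) hR
        have h2 : b i = π * (π ^ (p - 1 - (i + 1)) * u * ((p : ℂ) ^ m * v - S) - R) := by
          apply mul_right_cancel₀ (pow_ne_zero i hπ0)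
          rw [h1] at e
          have hp' : (p : ℂ) = π ^ i * π * π ^ (p - 1 - (i + 1)) * u := by
            rw [hpu, ← pow_succ, ← pow_add, show i + 1 + (p - 1 - (i + 1)) = p - 1 by omega]
          linear_combination e + ((p : ℂ) ^ m * v - S) * hp'
        apply h0
        rw [h2, res_mul hM hπr hY, hπ, zero_mul]
    choose c hc ec using fun i (hi : i < p - 1) => Wr_dvd hM (hb i) (hb0 i hi)
    have h3 := ih (fun i => if hi : i < p - 1 then c i hi else 0)
      (fun i => by
        split_ifs with h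
        exacts [hc i h, (Wr hM).zero_mem])
      ⟨v, hv, mul_left_cancel₀ hp0 (by
        rw [Finset.mul_sum, ← mul_assoc, ← pow_succ', ← e]
        refine Finset.sum_congr rfl fun i hi => ?_
        rw [dif_pos (Finset.mem_range.1 hi), ec i (Finset.mem_range.1 hi)]; ring)⟩
    intro i hi
    obtain ⟨w, hw, ew⟩ := h3 i hi
    rw [dif_pos hi] at ew
    exact ⟨w, hw, by rw [ec i hi, ew, pow_succ', mul_assoc]⟩

end ramified

end CfsgLib.Blocks
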