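/-
Brauer pairs carrying a weight: defect zero over a central subgroup, constituents below a defect
zero character.
-/
import Cfsg.Agent.Lib.Blocks.CentralDefect
import Cfsg.Agent.Lib.Blocks.Inflation
import Cfsg.Agent.Lib.Blocks.ThreePrimes
import Cfsg.Agent.Lib.Blocks.LocalBlocks
import Cfsg.Agent.Lib.Blocks.Reynolds
import Cfsg.Agent.Lib.CharTheory.More
import Cfsg.Agent.Lib.CharTheory.ExtCriteria

set_option linter.style.haveILetI false

namespace CfsgLib.Blocks

open Cfsg CfsgLib.CharTheory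
open scoped ComplexConjugate

universe u

variable {p : ℕ} {M : Ideal AlgInt} {G : Type u} [Group G] [Fintype G]

/-- A character of defect zero modulo a central `p`-subgroup has that subgroup as defect group. -/
theorem isDefectGroup_of_central (hM : IsPModular p M) {Z : Subgroup G}
    (hZc : Z ≤ Subgroup.center G) (hZp : IsPGroup p Z) {ξ : IrrCharacter G}
    (hk : ∀ z ∈ Z, (ξ : G → ℂ) z = (ξ : G → ℂ) 1)
    (hdv : dv p (ξ : G → ℂ) + (Nat.card Z).factorization p = (Nat.card G).factorization p)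
    {B : Set (IrrCharacter G)} (hB : IsPBlock M B) (hξ : ξ ∈ B) :
    IsDefectGroup p M B Z := by
  classical
  haveI : Fact p.Prime := ⟨hM.1⟩
  have hp : p.Prime := hM.1
  haveI := normal_of_central hZc
  haveI := Fintype.ofFinite (G ⧸ Z)
  obtain ⟨ψ, hψ, hξψ⟩ := exists_quotient_irr Z ξ.2 hk
  set ψ' : IrrCharacter (G ⧸ Z) := ⟨ψ, hψ⟩
  have hv : (Nat.card G).factorization p =
      (Nat.card Z).factorization p + (Nat.card (G ⧸ Z)).factorization p := by
    rw [← Subgroup.index_eq_card, ← Z.card_mul_index,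
      Nat.factorization_mul Nat.card_pos.ne' Subgroup.index_ne_zero_of_finite]
    rfl
  have hψdv : dv p ψ = (Nat.card (G ⧸ Z)).factorization p := by
    have : dv p (ξ : G → ℂ) = dv p ψ := by
      simp only [dv, charDegree, congrFun hξψ 1, QuotientGroup.mk_one]
    omega
  have hvan : ∀ c : G ⧸ Z, p ∣ orderOf c → ψ c = 0 := fun c hc =>
    ThreePrimes.vanish_of_defZero hM ψ' hψdv hc
  have hcent : ∀ y : G, y ∈ Subgroup.centralizer (Z : Set G) := fun y z hz =>
    (Subgroup.mem_center_iff.1 (hZc hz) y).symm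
  have hreg : regS p (ξ : G → ℂ) (ξ : G → ℂ) = (Nat.card (G ⧸ Z) : ℂ) := by
    rw [regS_eq_sum, ← sum_mul_conj_irr hψ,
      ← Finset.sum_subset (Finset.subset_univ (Finset.univ.filter fun c : G ⧸ Z => ¬ p ∣ orderOf c))
        (fun c _ hc => by rw [hvan c (by simpa using hc), zero_mul])]
    refine Finset.sum_bij (fun g _ => (g : G ⧸ Z)) ?_ ?_ ?_ ?_
    · intro g hg
      simp only [Finset.mem_filter, Finset.mem_univ, true_and] at hg ⊢
      exact fun h => hg (h.trans (orderOf_map_dvd (QuotientGroup.mk' Z) g))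
    · intro g hg g' hg' h
      simp only [Finset.mem_filter, Finset.mem_univ, true_and] at hg hg'
      rw [QuotientGroup.eq] at h
      refine (pReg_unique hM hZp Z.one_mem (Z.inv_mem h) (hcent g) (hcent g') hg hg' ?_).2
      rw [one_mul]
      have h2 := Subgroup.mem_center_iff.1 (hZc (Z.inv_mem h)) g'
      rw [← h2]; group
    · intro c hc
      simp only [Finset.mem_filter, Finset.mem_univ, true_and] at hc
      obtain ⟨g, hg, hgr⟩ := Inflation.exists_regular_lift Z hZp hc
      exact ⟨g, by simpa using hgr, hg⟩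
    · intro g _
      rw [irr_inv]
      simp only [congrFun hξψ g]
  obtain ⟨q, hq, -, -, -, hq2⟩ := exists_int_proj hM hB hξ hξ
  rw [hreg, ← Z.card_mul_index] at hq
  have hidx : (Z.index : ℂ) = (Nat.card (G ⧸ Z) : ℂ) := by rw [Subgroup.index_eq_card]
  rw [Nat.cast_mul, hidx] at hq
  have hq' : (p : ℤ) ^ blockDefect p B = (Nat.card Z : ℤ) * q := by
    have hne : (Nat.card (G ⧸ Z) : ℂ) ≠ 0 := Nat.cast_ne_zero.2 Nat.card_pos.ne'
    have : (p : ℂ) ^ blockDefect p B = (Nat.card Z : ℂ) * q :=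
      mul_right_cancel₀ hne (by rw [hq]; ring)
    exact_mod_cast this
  obtain ⟨z, hz⟩ := hZp.exists_card_eq
  have hzf : (Nat.card Z).factorization p = z := by rw [hz, hp.factorization_pow, Finsupp.single_eq_same]
  have hmin_le : minDv p B ≤ dv p (ξ : G → ℂ) := Nat.sInf_le ⟨ξ, hξ, rfl⟩
  have hmin : minDv p B = dv p (ξ : G → ℂ) := by
    by_contra hne
    have hlt : minDv p B < dv p (ξ : G → ℂ) := lt_of_le_of_ne hmin_le hne
    have h1 := hq2 hlt
    obtain ⟨r, hr⟩ := h1
    rw [blockDefect_eq, hz, hr, Nat.cast_pow] at hq'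
    have he : (Nat.card G).factorization p - minDv p B =
        z + (dv p (ξ : G → ℂ) - minDv p B) := by omega
    rw [he, pow_add, pow_succ] at hq'
    have hpne : (p : ℤ) ≠ 0 := by exact_mod_cast hp.ne_zero
    have h3 : (1 : ℤ) = (p : ℤ) * r := by
      refine mul_left_cancel₀ (mul_ne_zero (pow_ne_zero z hpne)
        (pow_ne_zero (dv p (ξ : G → ℂ) - minDv p B) hpne)) ?_
      linear_combination hq'
    exact hp.not_dvd_one (Int.natCast_dvd_natCast.1 (show (p : ℤ) ∣ ((1 : ℕ) : ℤ) from ⟨r, by rw [Nat.cast_one]; exact h3⟩))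
  obtain ⟨D, hD⟩ := exists_defectGroup hM hB
  have hcard := card_defectGroup hM hB hD
  have hle : Z ≤ D := by
    obtain ⟨g, hg, S, rfl⟩ := hD
    have hZg : Z ≤ Subgroup.centralizer ({g} : Set G) := fun w hw =>
      Subgroup.mem_centralizer_singleton_iff.2 (Subgroup.mem_center_iff.1 (hZc hw) g).symm
    have hp' : IsPGroup p (Z.subgroupOf (Subgroup.centralizer ({g} : Set G))) :=
      hZp.comap_of_injective _ (Subgroup.subtype_injective _)
    haveI : (Z.subgroupOf (Subgroup.centralizer ({g} : Set G))).Normal := inferInstance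
    intro w hw
    exact ⟨⟨w, hZg hw⟩, hp'.le_sylow_of_normal S (by exact hw), rfl⟩
  have : Z = D := by
    refine Subgroup.eq_of_le_of_card_ge hle (le_of_eq ?_)
    rw [hcard, hz, blockDefect_eq, hmin]
    congr 1
    omega
  rw [this]
  exact hD

/-- A constituent on a normal subgroup of a character of defect zero modulo `Q`. -/
theorem exists_constituent_defZero (hp : p.Prime) (N Q : Subgroup G) [N.Normal] [Fintype N]
    [Q.Normal] (χ : IrrCharacter G)
    (hQ : ∀ q ∈ Q, (χ : G → ℂ) q = (χ : G → ℂ) 1)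
    (hdef : dv p (χ : G → ℂ) + (Nat.card Q).factorization p = (Nat.card G).factorization p) :
    ∃ φ : IrrCharacter N, classInner (fun n : N => (χ : G → ℂ) n) (φ : N → ℂ) ≠ 0 ∧
      (∀ q ∈ Q.subgroupOf N, (φ : N → ℂ) q = (φ : N → ℂ) 1) ∧
      (Nat.card N).factorization p ≤ dv p (φ : N → ℂ) + (Nat.card Q).factorization p := by
  classical
  have hres : IsCharacter N (fun n : N => (χ : G → ℂ) n) := isCharacter_restrict (isCharacter_of_irr χ.2) N
  obtain ⟨φ, hφ, hne⟩ := exists_constituent hres (fun h => irr_ne_zero χ.2 (congrFun h 1))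
  refine ⟨⟨φ, hφ⟩, hne, ?_, ?_⟩
  · rcases kernel_or_cosetAvg_eq_zero (Q.subgroupOf N) hφ with h | h
    · exact h
    · exfalso
      refine hne ?_
      have hinv : ∀ (q : Q.subgroupOf N) (n : N),
          (χ : G → ℂ) (((q : N) * n : N) : G) = (χ : G → ℂ) (n : G) := fun q n =>
        apply_mul_of_kernel Q (isCharacter_of_irr χ.2) hQ
          ⟨((q : N) : G), Subgroup.mem_subgroupOf.mp q.2⟩ (n : G)
      have h1 := classInner_cosetAvg_left (Q.subgroupOf N) φ (β := fun n : N => (χ : G → ℂ) n) hinv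
      rw [h, classInner_zero_left] at h1
      rw [← classInner_comm, ← h1, map_zero]
  · obtain ⟨e, he, hdvd⟩ := degree_ratio_dvd χ.2 hφ hne
    have hφd := irr_charDegree_cast (⟨φ, hφ⟩ : IrrCharacter N)
    have he' : charDegree (χ : G → ℂ) = e * charDegree φ := by
      have h2 : (charDegree (χ : G → ℂ) : ℂ) = (e : ℂ) * (charDegree φ : ℂ) := by
        rw [irr_charDegree_cast χ, hφd, he]
      exact_mod_cast h2
    have he0 : e ≠ 0 := fun h => (irr_charDegree_pos χ).ne' (by rw [he', h, zero_mul])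
    have hφ0 : charDegree φ ≠ 0 := (irr_charDegree_pos (⟨φ, hφ⟩ : IrrCharacter N)).ne'
    have hle : e.factorization p ≤ N.index.factorization p :=
      (Nat.factorization_le_iff_dvd he0 Subgroup.index_ne_zero_of_finite).2 hdvd p
    have h3 : dv p (χ : G → ℂ) = e.factorization p + dv p φ := by
      rw [dv, he', Nat.factorization_mul he0 hφ0]; rfl
    have h4 : (Nat.card G).factorization p =
        (Nat.card N).factorization p + N.index.factorization p := by
      rw [← N.card_mul_index,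
        Nat.factorization_mul Nat.card_pos.ne' Subgroup.index_ne_zero_of_finite]; rfl
    show (Nat.card N).factorization p ≤ dv p φ + _
    omega

/-- A normal `p`-subgroup is in `Q` if some character is of defect zero modulo `Q`. -/
theorem pGroup_le_of_defZero (hM : IsPModular p M) (R Q : Subgroup G) [R.Normal] [Q.Normal]
    (hR : IsPGroup p R) (hQp : IsPGroup p Q) (χ : IrrCharacter G)
    (hQ : ∀ q ∈ Q, (χ : G → ℂ) q = (χ : G → ℂ) 1)
    (hdef : dv p (χ : G → ℂ) + (Nat.card Q).factorization p = (Nat.card G).factorization p) :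
    R ≤ Q := by
  classical
  have hp : p.Prime := hM.1
  haveI : Fact p.Prime := ⟨hM.1⟩
  haveI : Fintype ↥(R ⊔ Q) := Fintype.ofFinite _
  obtain ⟨φ, -, hker, hle⟩ := exists_constituent_defZero hp (R ⊔ Q) Q χ hQ hdef
  have hN : IsPGroup p ↥(R ⊔ Q) := hR.to_sup_of_normal_right hQp
  obtain ⟨n, hn⟩ := hN.exists_card_eq
  obtain ⟨q, hq⟩ := hQp.exists_card_eq
  rw [hn, hq, hp.factorization_pow, hp.factorization_pow, Finsupp.single_eq_same,
    Finsupp.single_eq_same] at hle
  haveI := Fintype.ofFinite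
    {χ : IrrCharacter ↥(R ⊔ Q) // ∀ x ∈ Q.subgroupOf (R ⊔ Q), (χ : ↥(R ⊔ Q) → ℂ) x = (χ : ↥(R ⊔ Q) → ℂ) 1}
  have hsum := sum_degree_sq_kernel (Q.subgroupOf (R ⊔ Q))
  have h1 : charDegree (φ : ↥(R ⊔ Q) → ℂ) ^ 2 ≤ (Q.subgroupOf (R ⊔ Q)).index := by
    rw [← hsum]
    refine le_trans ?_ (Finset.single_le_sum (fun _ _ => Nat.zero_le _)
      (Finset.mem_univ ⟨φ, hker⟩))
    exact le_rfl
  have h2 : p ^ n = p ^ q * (Q.subgroupOf (R ⊔ Q)).index := by
    rw [← hn, ← hq, ← Nat.card_congr (Subgroup.subgroupOfEquivOfLe (le_sup_right : Q ≤ R ⊔ Q)).toEquiv,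
      Subgroup.card_mul_index]
  have hqn : q ≤ n := by
    have : p ^ q ∣ p ^ n := ⟨_, h2⟩
    exact (Nat.pow_dvd_pow_iff_le_right hp.one_lt).1 this
  have h3 : p ^ dv p (φ : ↥(R ⊔ Q) → ℂ) ≤ charDegree (φ : ↥(R ⊔ Q) → ℂ) :=
    Nat.le_of_dvd (irr_charDegree_pos φ) (Nat.ordProj_dvd _ _)
  have h4 : p ^ (2 * dv p (φ : ↥(R ⊔ Q) → ℂ)) ≤ p ^ (n - q) := by
    have hidx : (Q.subgroupOf (R ⊔ Q)).index = p ^ (n - q) := by
      rw [show p ^ n = p ^ q * p ^ (n - q) by rw [← pow_add, Nat.add_sub_cancel' hqn]] at h2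
      exact (Nat.eq_of_mul_eq_mul_left (pow_pos hp.pos q) h2).symm
    rw [← hidx, mul_comm 2, pow_mul]
    exact (Nat.pow_le_pow_left h3 2).trans h1
  have h5 := (Nat.pow_le_pow_iff_right hp.one_lt).1 h4
  have hnq : n = q := by omega
  have : Q = R ⊔ Q := Subgroup.eq_of_le_of_card_ge le_sup_right (by rw [hn, hq, hnq])
  rw [this]
  exact le_sup_left

/-- A block idempotent supported on a subgroup sees only constituents in its block. -/
theorem constituent_mem_of_coeff {C : Type u} [Group C] [Fintype C] (j : C →* G)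
    (hj : Function.Injective j) {B : Set (IrrCharacter G)} (e : Set (IrrCharacter C))
    (hcoeff : ∀ c : C, blockCoeff B (j c) = blockCoeff e c)
    (hsupp : ∀ g : G, g ∉ j.range → blockCoeff B g = 0)
    {χ : IrrCharacter G} (hχ : χ ∈ B) {ξ : IrrCharacter C}
    (hne : classInner (fun c : C => (χ : G → ℂ) (j c)) (ξ : C → ℂ) ≠ 0) : ξ ∈ e := by
  classical
  set f : C → ℂ := fun c => (χ : G → ℂ) (j c) with hf
  have hfc : IsCharacter C f := isCharacter_comp (isCharacter_of_irr χ.2) j
  have h1 : omega (χ : G → ℂ) (blockCoeff B) = 1 := by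
    rw [← cf_ind, omega_cf, ind_of_mem hχ]
  rw [omega, div_eq_one_iff_eq (irr_one_ne_zero χ)] at h1
  have h2 : ∑ g, blockCoeff B g * (χ : G → ℂ) g = ∑ c : C, blockCoeff e c * f c := by
    rw [← Finset.sum_subset (Finset.subset_univ (Finset.univ.image j)) (fun g _ hg => by
      rw [hsupp g (fun ⟨c, hc⟩ => hg (Finset.mem_image.2 ⟨c, Finset.mem_univ _, hc⟩)), zero_mul]),
      Finset.sum_image hj.injOn]
    exact Finset.sum_congr rfl fun c _ => by rw [hcoeff]
  have h3 : ∑ c : C, blockCoeff e c * f c =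
      ∑ ψ ∈ bset e, (ψ : C → ℂ) 1 * classInner f (ψ : C → ℂ) := by
    simp only [blockCoeff, finsum_mem_bset, classInner, Finset.sum_mul, Finset.mul_sum]
    rw [Finset.sum_comm]
    exact Finset.sum_congr rfl fun ψ _ => Finset.sum_congr rfl fun c _ => by ring
  have h4 : f 1 = ∑ ψ : IrrCharacter C, (ψ : C → ℂ) 1 * classInner f (ψ : C → ℂ) := by
    conv_lhs => rw [eq_sum_irr (isClassFunction_char hfc)]
    simp only [Finset.sum_apply, Pi.smul_apply, smul_eq_mul, mul_comm]
  have h5 : f 1 = (χ : G → ℂ) 1 := by rw [hf]; simp only [map_one]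
  rw [h2, h3, ← h5, h4, ← Finset.sum_add_sum_compl (bset e), left_eq_add] at h1
  choose a ha using fun ψ : IrrCharacter C => classInner_char_nat hfc (isCharacter_of_irr ψ.2)
  simp only [ha, ← irr_charDegree_cast, ← Nat.cast_mul, ← Nat.cast_sum, Nat.cast_eq_zero] at h1
  by_contra hmem
  have h6 := Finset.sum_eq_zero_iff.1 h1 ξ (by simp [mem_bset, hmem])
  rcases Nat.mul_eq_zero.1 h6 with h7 | h7
  · exact (irr_charDegree_pos ξ).ne' h7
  · exact hne (by rw [ha, h7, Nat.cast_zero])

end CfsgLib.Blocks
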